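import Mathlib

/-!
Basic tools for non-abelian simple groups of given order: coset embeddings into alternating
groups, Burnside transfer, Sylow numbers.
-/

set_option autoImplicit false
set_option linter.style.haveILetI false

namespace Cfsg.Agent.Classical.SimpleOrder

variable {G : Type*} [Group G] [Finite G] [IsSimpleGroup G]

theorem center_eq_bot (hG : ¬ IsMulCommutative G) : Subgroup.center G = ⊥ := by
  rcases (inferInstance : (Subgroup.center G).Normal).eq_bot_or_eq_top with h | h
  · exact h
  · exfalso
    exact hG ⟨⟨fun a b => (Subgroup.mem_center_iff.1 (h ▸ Subgroup.mem_top b) a)⟩⟩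

/-- A simple group whose order is not prime is non-abelian. -/
theorem not_comm (h : ¬ (Nat.card G).Prime) : ¬ IsMulCommutative G := by
  intro hc
  letI : CommGroup G :=
    { (inferInstance : Group G) with mul_comm := fun a b => hc.is_comm.comm a b }
  exact h IsSimpleGroup.prime_card

/-- Embedding into the alternating group on the cosets of a proper subgroup. -/
theorem exists_alt_embedding (hG : ¬ IsMulCommutative G) (H : Subgroup G) (hH : H ≠ ⊤) :
    ∃ f : G →* alternatingGroup (Fin H.index), Function.Injective f := by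
  classical
  let e : G ⧸ H ≃ Fin H.index := Finite.equivFin (G ⧸ H)
  let f : G →* Equiv.Perm (Fin H.index) :=
    e.permCongrHom.toMonoidHom.comp (MulAction.toPermHom G (G ⧸ H))
  have hf : Function.Injective f := by
    refine e.permCongrHom.injective.comp ?_
    rw [← MonoidHom.ker_eq_bot_iff, ← Subgroup.normalCore_eq_ker]
    rcases H.normalCore_normal.eq_bot_or_eq_top with h | h
    · exact h
    · exact absurd (top_le_iff.1 (h ▸ H.normalCore_le)) hH
  have hsign : ∀ g, f g ∈ alternatingGroup (Fin H.index) := by
    intro g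
    rcases ((Equiv.Perm.sign.comp f).normal_ker).eq_bot_or_eq_top with h | h
    · exfalso
      have hinj := (MonoidHom.ker_eq_bot_iff _).1 h
      exact hG ⟨⟨fun a b => hinj (by rw [map_mul, map_mul, mul_comm])⟩⟩
    · exact Equiv.Perm.mem_alternatingGroup.2 (h ▸ Subgroup.mem_top g : g ∈ (Equiv.Perm.sign.comp f).ker)
  exact ⟨f.codRestrict _ hsign, fun a b h => hf (congrArg Subtype.val h)⟩

/-- The order divides half the factorial of the index of a proper subgroup. -/
theorem two_mul_dvd_factorial (hG : ¬ IsMulCommutative G) (H : Subgroup G) (hH : H ≠ ⊤) :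
    2 * Nat.card G ∣ H.index.factorial := by
  obtain ⟨f, hf⟩ := exists_alt_embedding hG H hH
  have h1 : 1 < H.index := Subgroup.one_lt_index_of_ne_top hH
  haveI : Nontrivial (Fin H.index) := Fin.nontrivial_iff_two_le.2 h1
  have hc : 2 * Nat.card (alternatingGroup (Fin H.index)) = H.index.factorial := by
    rw [two_mul_nat_card_alternatingGroup, Nat.card_perm, Nat.card_fin]
  rw [← hc]
  exact mul_dvd_mul_left 2 (Subgroup.card_dvd_of_injective f hf)

variable {p : ℕ} [Fact p.Prime]

omit [IsSimpleGroup G] in
theorem card_sylow_eq (P : Sylow p G) {k m : ℕ} (h : Nat.card G = p ^ k * m) (hm : ¬ p ∣ m) :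
    Nat.card P = p ^ k := by
  have hp : p.Prime := Fact.out
  have hm0 : m ≠ 0 := fun h0 => hm (h0 ▸ dvd_zero p)
  rw [P.card_eq_multiplicity, h, Nat.factorization_mul (pow_ne_zero _ hp.ne_zero) hm0,
    Finsupp.add_apply, hp.factorization_pow, Finsupp.single_eq_same,
    Nat.factorization_eq_zero_of_not_dvd hm, add_zero]

theorem sylow_ne_bot (hd : p ∣ Nat.card G) (P : Sylow p G) : (P : Subgroup G) ≠ ⊥ :=
  P.ne_bot_of_dvd_card hd

theorem sylow_ne_top (hG : ¬ IsMulCommutative G) (P : Sylow p G) : (P : Subgroup G) ≠ ⊤ := by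
  intro h
  haveI : Nontrivial G := IsSimpleGroup.toNontrivial
  have hp : IsPGroup p G := by
    intro g
    obtain ⟨k, hk⟩ := P.2 ⟨g, h ▸ Subgroup.mem_top g⟩
    exact ⟨k, congrArg Subtype.val hk⟩
  haveI := hp.center_nontrivial
  exact (Subgroup.nontrivial_iff_ne_bot _).1 this (center_eq_bot hG)

theorem normalizer_ne_top (hG : ¬ IsMulCommutative G) (hd : p ∣ Nat.card G) (P : Sylow p G) :
    Subgroup.normalizer ((P : Subgroup G) : Set G) ≠ ⊤ := by
  intro h
  rcases (Subgroup.normalizer_eq_top_iff.1 h).eq_bot_or_eq_top with h' | h'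
  · exact sylow_ne_bot hd P h'
  · exact sylow_ne_top hG P h'

/-- Burnside transfer in a simple group. -/
theorem not_normalizer_le_centralizer (hG : ¬ IsMulCommutative G) (hd : p ∣ Nat.card G)
    (P : Sylow p G) :
    ¬ Subgroup.normalizer ((P : Subgroup G) : Set G) ≤
      Subgroup.centralizer ((P : Subgroup G) : Set G) := by
  intro hP
  have hc := MonoidHom.ker_transferSylow_isComplement' P hP
  rcases (MonoidHom.transferSylow P hP).normal_ker.eq_bot_or_eq_top with h | h
  · have := hc.card_mul
    rw [h, Subgroup.card_bot, one_mul] at this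
    exact sylow_ne_top hG P (Subgroup.eq_top_of_card_eq _ this)
  · have := hc.card_mul
    rw [h, Subgroup.card_top] at this
    have hP1 : Nat.card (P : Subgroup G) = 1 := by
      have hpos : 0 < Nat.card G := Nat.card_pos
      exact Nat.eq_of_mul_eq_mul_left hpos (by rw [this, mul_one])
    exact sylow_ne_bot hd P (Subgroup.eq_bot_of_card_eq _ hP1)

/-- The Sylow number: congruence, divisibility, and the permutation bound. -/
theorem sylow_number (hG : ¬ IsMulCommutative G) {k m : ℕ} (h : Nat.card G = p ^ k * m)
    (hk : 0 < k) (hm : ¬ p ∣ m) :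
    Nat.card (Sylow p G) ∣ m ∧ Nat.card (Sylow p G) % p = 1 ∧ 1 < Nat.card (Sylow p G) ∧
      2 * Nat.card G ∣ (Nat.card (Sylow p G)).factorial := by
  obtain ⟨P⟩ : Nonempty (Sylow p G) := inferInstance
  have hd : p ∣ Nat.card G := h ▸ dvd_mul_of_dvd_left (dvd_pow_self p hk.ne') m
  have hne := normalizer_ne_top hG hd P
  refine ⟨?_, ?_, ?_, ?_⟩
  · have := P.card_dvd_index
    have hidx : (P : Subgroup G).index = m := by
      have := Subgroup.card_mul_index (P : Subgroup G)
      rw [card_sylow_eq P h hm, h] at this
      exact Nat.eq_of_mul_eq_mul_left (pow_pos (Fact.out : p.Prime).pos k) this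
    rwa [← hidx]
  · have := card_sylow_modEq_one p G
    rw [Nat.ModEq, Nat.one_mod_eq_one.2 (Fact.out : p.Prime).one_lt.ne'] at this
    exact this
  · rw [P.card_eq_index_normalizer]
    exact Subgroup.one_lt_index_of_ne_top hne
  · rw [P.card_eq_index_normalizer]
    exact two_mul_dvd_factorial hG _ hne

omit [IsSimpleGroup G] in
theorem card_normalizer_mul (P : Sylow p G) :
    Nat.card (Sylow p G) * Nat.card (Subgroup.normalizer ((P : Subgroup G) : Set G)) = Nat.card G := by
  rw [P.card_eq_index_normalizer]
  exact Subgroup.index_mul_card _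

omit [IsSimpleGroup G] in
/-- For a Sylow subgroup of order `p`, the automiser order divides `p - 1`. -/
theorem relIndex_dvd_pred (P : Sylow p G) (hP : Nat.card P = p) :
    (Subgroup.centralizer ((P : Subgroup G) : Set G)).relIndex
      (Subgroup.normalizer ((P : Subgroup G) : Set G)) ∣ p - 1 := by
  have hi : Subgroup.index (Subgroup.normalizerMonoidHom (P : Subgroup G)).ker ∣
      Nat.card (MulAut (P : Subgroup G)) := by
    rw [Subgroup.index_ker]; exact Subgroup.card_subgroup_dvd_card _
  haveI : IsCyclic (P : Subgroup G) := isCyclic_of_prime_card hP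
  rw [Subgroup.normalizerMonoidHom_ker, IsCyclic.card_mulAut, hP,
    Nat.totient_prime (Fact.out : p.Prime)] at hi
  exact hi

omit [IsSimpleGroup G] in
/-- The centraliser order of a Sylow subgroup times the automiser order. -/
theorem card_centralizer_mul (P : Sylow p G) :
    (Subgroup.centralizer ((P : Subgroup G) : Set G)).relIndex
      (Subgroup.normalizer ((P : Subgroup G) : Set G)) *
      Nat.card (Subgroup.centralizer ((P : Subgroup G) : Set G)) =
      Nat.card (Subgroup.normalizer ((P : Subgroup G) : Set G)) := by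
  have h := Subgroup.index_mul_card ((Subgroup.centralizer ((P : Subgroup G) : Set G)).subgroupOf
    (Subgroup.normalizer ((P : Subgroup G) : Set G)))
  have hle : Subgroup.centralizer ((P : Subgroup G) : Set G) ≤
      Subgroup.normalizer ((P : Subgroup G) : Set G) := by
    intro x hx
    rw [Subgroup.mem_centralizer_iff] at hx
    refine Subgroup.mem_normalizer_fintype fun n hn => ?_
    rw [← hx n hn, mul_inv_cancel_right]
    exact hn
  rwa [Nat.card_congr (Subgroup.subgroupOfEquivOfLe hle).toEquiv] at h

omit [IsSimpleGroup G] in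
/-- A Sylow subgroup of order `p` is centralised by itself. -/
theorem le_centralizer_of_card_prime (P : Sylow p G) (hP : Nat.card P = p) :
    (P : Subgroup G) ≤ Subgroup.centralizer ((P : Subgroup G) : Set G) := by
  haveI : IsCyclic (P : Subgroup G) := isCyclic_of_prime_card hP
  intro a ha
  rw [Subgroup.mem_centralizer_iff]
  intro b hb
  letI : CommGroup (P : Subgroup G) := IsCyclic.commGroup
  exact congrArg Subtype.val (mul_comm (⟨b, hb⟩ : (P : Subgroup G)) ⟨a, ha⟩)

end Cfsg.Agent.Classical.SimpleOrder
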