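import Cfsg.Agent.Lib.Classical.OrthOps

/-!
The commutators of the isometries of the two split forms are products of elementary transformations.
-/

set_option autoImplicit false

open Matrix

namespace Cfsg.Agent.Classical.OrthGen

variable {F : Type*} [Field F]

theorem ext_ev {ι : Type*} [Fintype ι] [DecidableEq ι] {g h : GL ι F}
    (e : ∀ i, (g : Matrix ι ι F) *ᵥ ev F i = (h : Matrix ι ι F) *ᵥ ev F i) : g = h := by
  refine Units.ext (Matrix.ext fun a i => ?_)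
  have := congrFun (e i) a
  simpa [ev, Matrix.mulVec_single] using this

theorem isOp_neg_inv {ι : Type*} [Fintype ι] [DecidableEq ι] {m : ℕ} {p : Fin m ⊕ Fin m → ι}
    {π : Fin m ⊕ Fin m → Fin m ⊕ Fin m} {d : Fin m ⊕ Fin m → F} {η : F} (hη : η * η = 1) (M : MonoData π d)
    {s : GL ι F} (hs : IsMono p π d η s) : IsMono p π (fun c => (d (π c))⁻¹) η s⁻¹ := by
  have h : ∀ v, (s : Matrix ι ι F) *ᵥ (((s⁻¹ : GL ι F) : Matrix ι ι F) *ᵥ v) = v := fun v => by
    rw [← mulVec_mul, mul_inv_cancel, Units.val_one, Matrix.one_mulVec]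
  refine ⟨fun v c => ?_, fun v k hk => ?_⟩
  · have := congrFun (h v) (p (π c))
    rw [hs.1, M.invol] at this
    rw [← this, ← mul_assoc, inv_mul_cancel₀ (M.ne _), one_mul]
  · have := congrFun (h v) k
    rw [hs.2 _ k hk] at this
    calc _ = η * η * (((s⁻¹ : GL ι F) : Matrix ι ι F) *ᵥ v) k := by rw [hη, one_mul]
      _ = _ := by rw [mul_assoc, this]

theorem MonoData.inv {m : ℕ} {π : Fin m ⊕ Fin m → Fin m ⊕ Fin m} {d : Fin m ⊕ Fin m → F} (M : MonoData π d) :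
    MonoData π (fun c => (d (π c))⁻¹) :=
  ⟨M.invol, M.swap, fun k => by rw [M.swap k, ← mul_inv, M.mul_swap, inv_one]⟩

/-- The scaling of one pair. -/
def tauD {m : ℕ} (x : Fin m ⊕ Fin m) (c : F) (k : Fin m ⊕ Fin m) : F :=
  if k = x then c else if k = x.swap then c⁻¹ else 1

theorem tauD_data {m : ℕ} (x : Fin m ⊕ Fin m) {c : F} (hc : c ≠ 0) : MonoData id (tauD x c) := by
  refine ⟨fun _ => rfl, fun _ => rfl, fun k => ?_⟩
  unfold tauD
  by_cases h1 : k = x
  · subst h1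
    rw [if_pos rfl, if_neg (swap_ne k), if_pos rfl, mul_inv_cancel₀ hc]
  by_cases h2 : k = x.swap
  · subst h2
    rw [if_neg h1, if_pos rfl, Sum.swap_swap, if_pos rfl, inv_mul_cancel₀ hc]
  rw [if_neg h1, if_neg h2, if_neg (fun e => h2 (by rw [← e, Sum.swap_swap])),
    if_neg (fun e => h1 (by rw [← Sum.swap_swap k, e, Sum.swap_swap])), mul_one]

theorem IsMono.mul {ι : Type*} [Fintype ι] [DecidableEq ι] {m : ℕ} {p : Fin m ⊕ Fin m → ι}
    {π π' : Fin m ⊕ Fin m → Fin m ⊕ Fin m} {d d' : Fin m ⊕ Fin m → F} {η η' : F} {s s' : GL ι F}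
    (h : IsMono p π d η s) (h' : IsMono p π' d' η' s') :
    IsMono p (π' ∘ π) (fun c => d c * d' (π c)) (η * η') (s * s') :=
  ⟨fun v c => by rw [mulVec_mul, h.1, h'.1, Function.comp_apply]; ring,
    fun v k hk => by rw [mulVec_mul, h.2 _ k hk, h'.2 _ k hk]; ring⟩

theorem IsMono.unique {ι : Type*} [Fintype ι] [DecidableEq ι] {m : ℕ} {p : Fin m ⊕ Fin m → ι}
    {π : Fin m ⊕ Fin m → Fin m ⊕ Fin m} {d : Fin m ⊕ Fin m → F} {η : F} {s s' : GL ι F} (h : IsMono p π d η s)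
    (h' : IsMono p π d η s') : s = s' := by
  refine eq_of_mulVec fun v => funext fun k => ?_
  by_cases hk : ∃ c, k = p c
  · obtain ⟨c, rfl⟩ := hk; rw [h.1, h'.1]
  · push Not at hk; rw [h.2 _ k hk, h'.2 _ k hk]

/-! ### The form with `n + 2` pairs and nothing else -/

section Plus

variable (F) (n : ℕ)

/-- The sum of the products of the pairs. -/
def qPlus (v : Fin (n + 2) ⊕ Fin (n + 2) → F) : F := ∑ i, v (.inl i) * v (.inr i)

/-- Generated by the elementary transformations. -/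
def ePlus : Subgroup (GL (Fin (n + 2) ⊕ Fin (n + 2)) F) :=
  Subgroup.closure {ε | ∃ (a b : Fin (n + 2) ⊕ Fin (n + 2)) (t : F), b ≠ a ∧ b ≠ a.swap ∧ IsOp id a b t ε}

variable {F} {n}

theorem qPlus_add_single (v : Fin (n + 2) ⊕ Fin (n + 2) → F) (k : Fin (n + 2) ⊕ Fin (n + 2)) (c : F) :
    qPlus F n (v + c • ev F k) = qPlus F n v + c * v k.swap := by
  unfold qPlus
  rcases k with k | k <;>
  · simp only [Pi.add_apply, Pi.smul_apply, smul_eq_mul, ev, Pi.single_apply, Sum.inl.injEq, Sum.inr.injEq,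
      reduceCtorEq, if_false, mul_zero, add_zero, Sum.swap_inl, Sum.swap_inr, add_mul, mul_add, Finset.sum_add_distrib,
      mul_ite, ite_mul, mul_one, zero_mul, Finset.sum_ite_eq', Finset.mem_univ, if_true]
    try ring

theorem plus_hyp (hops : ∀ (a b : Fin (n + 2) ⊕ Fin (n + 2)) (t : F), b ≠ a → b ≠ a.swap → ∃ ε, IsOp id a b t ε) :
    Hyp id (qPlus F n) (ePlus F n) where
  inj := Function.injective_id
  add_single v k c := qPlus_add_single v k c
  single k := by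
    unfold qPlus
    refine Finset.sum_eq_zero fun i _ => ?_
    rcases k with k | k <;> simp [ev]
  iso ε hε := by
    induction hε using Subgroup.closure_induction with
    | mem x hx =>
      obtain ⟨a, b, t, h1, -, hx⟩ := hx
      exact iso_op Function.injective_id (fun v k c => qPlus_add_single v k c) hx h1
    | one => simp
    | mul a b _ _ ha hb => intro v; rw [mulVec_mul, ha, hb]
    | inv a _ ha => intro v; conv_rhs => rw [← Matrix.one_mulVec v, ← Units.val_one, ← mul_inv_cancel a, mulVec_mul, ha]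
  ops a b t h1 h2 := by
    obtain ⟨ε, hε⟩ := hops a b t h1 h2
    exact ⟨ε, Subgroup.subset_closure ⟨a, b, t, h1, h2, hε⟩, hε⟩
  clearOut b w _ := ⟨1, one_mem _, fun k hk => absurd rfl (hk k), fun a _ => by simp, fun u _ _ => by simp⟩

theorem plus_commutator (hops : ∀ (a b : Fin (n + 2) ⊕ Fin (n + 2)) (t : F), b ≠ a → b ≠ a.swap → ∃ ε, IsOp id a b t ε)
    {g h : GL (Fin (n + 2) ⊕ Fin (n + 2)) F} (hg : ∀ v, qPlus F n ((g : Matrix (Fin (n + 2) ⊕ Fin (n + 2)) (Fin (n + 2) ⊕ Fin (n + 2)) F) *ᵥ v) = qPlus F n v)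
    (hh : ∀ v, qPlus F n ((h : Matrix (Fin (n + 2) ⊕ Fin (n + 2)) (Fin (n + 2) ⊕ Fin (n + 2)) F) *ᵥ v) = qPlus F n v) : g * h * g⁻¹ * h⁻¹ ∈ ePlus F n := by
  classical
  have H := plus_hyp (F := F) hops
  set x : Fin (n + 2) ⊕ Fin (n + 2) := Sum.inl (Fin.last (n + 1)) with hx
  let sg : Fin (n + 2) ⊕ Fin (n + 2) → Fin (n + 2) ⊕ Fin (n + 2) := fun k => if k = x ∨ k = x.swap then k.swap else k
  let S : Set (GL (Fin (n + 2) ⊕ Fin (n + 2)) F) :=
    {s | ∃ c : F, c ≠ 0 ∧ (IsMono id id (tauD x c) 1 s ∨ IsMono id sg (tauD x c) 1 s)}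
  have hsg : ∀ k, sg k = if k = x ∨ k = x.swap then k.swap else k := fun _ => rfl
  have hsgx : sg x = x.swap := by rw [hsg, if_pos (Or.inl rfl)]
  have hsgy : sg x.swap = x := by rw [hsg, if_pos (Or.inr rfl), Sum.swap_swap]
  have hsgo : ∀ k, k ≠ x → k ≠ x.swap → sg k = k := fun k h1 h2 => by rw [hsg, if_neg (not_or.mpr ⟨h1, h2⟩)]
  have hsgdata : ∀ c : F, c ≠ 0 → MonoData sg (tauD x c) := by
    intro c hc
    refine ⟨fun k => ?_, fun k => ?_, (tauD_data x hc).mul_swap⟩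
    · by_cases h1 : k = x
      · subst h1; rw [hsgx, hsgy]
      by_cases h2 : k = x.swap
      · subst h2; rw [hsgy, hsgx]
      rw [hsgo k h1 h2, hsgo k h1 h2]
    · by_cases h1 : k = x
      · subst h1; rw [hsgy, hsgx, Sum.swap_swap]
      by_cases h2 : k = x.swap
      · subst h2; rw [Sum.swap_swap, hsgx, hsgy]
      rw [hsgo k h1 h2, hsgo k.swap (fun e => h2 (by rw [← e, Sum.swap_swap]))
        (fun e => h1 (by rw [← Sum.swap_swap k, e, Sum.swap_swap]))]
  -- normalising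
  have hconj : ∀ (π : Fin (n + 2) ⊕ Fin (n + 2) → Fin (n + 2) ⊕ Fin (n + 2)) (d : Fin (n + 2) ⊕ Fin (n + 2) → F),
      MonoData π d → ∀ s, IsMono id π d 1 s → s ∈ Subgroup.normalizer (ePlus F n : Set _) := by
    intro π d M s hs
    have one : ∀ d', MonoData π d' → ∀ s', IsMono id π d' 1 s' → ∀ e ∈ {ε : GL (Fin (n + 2) ⊕ Fin (n + 2)) F |
        ∃ (a b : Fin (n + 2) ⊕ Fin (n + 2)) (t : F), b ≠ a ∧ b ≠ a.swap ∧ IsOp id a b t ε},
        s' * e * s'⁻¹ ∈ ePlus F n := by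
      intro d' M' s' hs' e he
      obtain ⟨a, b, t, h1, h2, he⟩ := he
      have i1 : π b ≠ π a := fun e' => h1 (by rw [← M'.invol b, e', M'.invol])
      have i2 : π b ≠ (π a).swap := fun e' => h2 (by rw [← M'.invol b, e', M'.swap, M'.invol])
      obtain ⟨e', he'⟩ := hops (π a) (π b) (t * d' (π a) / d' (π b)) i1 i2
      rw [hs'.conj_op Function.injective_id M' he he']
      exact Subgroup.subset_closure ⟨_, _, _, i1, i2, he'⟩
    refine mem_normalizer_of_conj rfl (one d M s hs) fun e he => ?_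
    have := one _ M.inv s⁻¹ (isOp_neg_inv (one_mul 1) M hs) e he
    rwa [inv_inv] at this
  have hnorm : ∀ s ∈ S, s ∈ Subgroup.normalizer (ePlus F n : Set _) := by
    rintro s ⟨c, hc, hs | hs⟩
    exacts [hconj _ _ (tauD_data x hc) s hs, hconj _ _ (hsgdata c hc) s hs]
  -- squares of the scalings
  have hsq : ∀ c : F, c ≠ 0 → ∀ s, IsMono id id (tauD x (c * c)) 1 s → s ∈ ePlus F n := by
    intro c hc s hs
    set k₀ : Fin (n + 2) ⊕ Fin (n + 2) := Sum.inl 0 with hk₀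
    have k1 : k₀ ≠ x := by simp [hk₀, hx, Fin.ext_iff]
    have k2 : k₀ ≠ x.swap := by simp [hk₀, hx]
    have k3 : k₀.swap ≠ x := by simp [hk₀, hx]
    have k4 : k₀.swap ≠ x.swap := by simp [hk₀, hx, Fin.ext_iff]
    obtain ⟨e1, he1, o1⟩ := diag_pair Function.injective_id H.ops k1 k2 hc
    obtain ⟨e2, he2, o2⟩ := diag_pair Function.injective_id H.ops k3 k4 hc
    have : s = e1 * e2 := by
      refine eq_of_mulVec fun v => funext fun k => ?_
      rw [mulVec_mul, o1, o2, ← id_eq k, hs.1 v k]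
      simp only [id_eq, tauD, Sum.swap_swap]
      have hk0 : k₀ ≠ k₀.swap := (swap_ne k₀).symm
      have hxx : x ≠ x.swap := (swap_ne x).symm
      by_cases a1 : k = x
      · subst a1; simp [hxx, k1.symm, k3.symm]; ring
      by_cases a2 : k = x.swap
      · subst a2; simp [hxx, hxx.symm, k2.symm, k4.symm]; ring
      by_cases a3 : k = k₀
      · subst a3; simp [k1, k2, hk0, hk0.symm]; field_simp
      by_cases a4 : k = k₀.swap
      · subst a4; simp [k3, k4, hk0, hk0.symm]; field_simp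
      simp [a1, a2, a3, a4]
    rw [this]
    exact mul_mem he1 he2
  have hcomm : ∀ s ∈ S, ∀ s' ∈ S, s * s' * s⁻¹ * s'⁻¹ ∈ ePlus F n := by
    have key : ∀ (π π' : Fin (n + 2) ⊕ Fin (n + 2) → Fin (n + 2) ⊕ Fin (n + 2)) (c c' e : F), c ≠ 0 → c' ≠ 0 →
        MonoData π (tauD x c) → MonoData π' (tauD x c') → e ≠ 0 →
        (∀ k, π (π' k) = π' (π k)) → (∀ k, tauD x c k * tauD x c' (π k) =
          tauD x (e * e) k * (tauD x c' k * tauD x c (π' k))) →
        ∀ s s', IsMono id π (tauD x c) 1 s → IsMono id π' (tauD x c') 1 s' → s * s' * s⁻¹ * s'⁻¹ ∈ ePlus F n := by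
      intro π π' c c' e hc hc' M M' he hcom hd s s' hs hs'
      obtain ⟨q, hq⟩ := exists_mono (ι := Fin (n + 2) ⊕ Fin (n + 2)) Function.injective_id
        (tauD_data x (mul_ne_zero he he)) (η := (1 : F)) (one_mul 1)
      have h1 := hs.mul hs'
      have h2 := hq.mul (hs'.mul hs)
      have e1 : s * s' = q * (s' * s) := by
        refine h1.unique ?_
        have hπ : (π ∘ π') ∘ id = π' ∘ π := funext fun k => hcom k
        have hd' : (fun k => tauD x (e * e) k * (tauD x c' (id k) * tauD x c (π' (id k)))) =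
            fun k => tauD x c k * tauD x c' (π k) := funext fun k => (hd k).symm
        rw [← hπ, ← hd']
        simpa only [one_mul] using h2
      rw [e1]
      simpa [mul_assoc] using hsq e he q hq
    have hxx : x ≠ x.swap := (swap_ne x).symm
    have one : (1 : F) ≠ 0 := one_ne_zero
    rintro s ⟨c, hc, hs | hs⟩ s' ⟨c', hc', hs' | hs'⟩
    · refine key id id c c' 1 hc hc' (tauD_data x hc) (tauD_data x hc') one (fun _ => rfl) (fun k => ?_) s s' hs hs'
      simp [tauD]; split_ifs <;> ring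
    · refine key id sg c c' c hc hc' (tauD_data x hc) (hsgdata c' hc') hc (fun _ => rfl) (fun k => ?_) s s' hs hs'
      by_cases a1 : k = x
      · subst a1; simp [tauD, hsgx, hxx, hxx.symm]; field_simp
      by_cases a2 : k = x.swap
      · subst a2; simp [tauD, hsgy, hxx, hxx.symm]; field_simp
      simp [tauD, hsgo k a1 a2, a1, a2]
    · refine key sg id c c' c'⁻¹ hc hc' (hsgdata c hc) (tauD_data x hc') (inv_ne_zero hc') (fun _ => rfl) (fun k => ?_)
        s s' hs hs'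
      by_cases a1 : k = x
      · subst a1; simp [tauD, hsgx, hxx, hxx.symm]; field_simp
      by_cases a2 : k = x.swap
      · subst a2; simp [tauD, hsgy, hxx, hxx.symm]; field_simp
      simp [tauD, hsgo k a1 a2, a1, a2]
    · refine key sg sg c c' (c / c') hc hc' (hsgdata c hc) (hsgdata c' hc') (div_ne_zero hc hc') (fun _ => rfl)
        (fun k => ?_) s s' hs hs'
      by_cases a1 : k = x
      · subst a1; simp [tauD, hsgx, hxx, hxx.symm]; field_simp
      by_cases a2 : k = x.swap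
      · subst a2; simp [tauD, hsgy, hxx, hxx.symm]; field_simp
      simp [tauD, hsgo k a1 a2, a1, a2]
  -- reduction
  have red : ∀ g : GL (Fin (n + 2) ⊕ Fin (n + 2)) F, (∀ v, qPlus F n ((g : Matrix (Fin (n + 2) ⊕ Fin (n + 2)) (Fin (n + 2) ⊕ Fin (n + 2)) F) *ᵥ v) = qPlus F n v) →
      ∃ e ∈ ePlus F n, ∃ s ∈ S, g = e * s := by
    intro g hg
    obtain ⟨ε, hε, hfix⟩ := H.reduce hg (fun w _ hw => Function.ne_iff.mp hw) (n + 1) (by omega)
    refine ⟨ε⁻¹, inv_mem hε, ε * g, ?_, by simp⟩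
    have hiso : ∀ v, qPlus F n (((ε * g : GL _ F) : Matrix (Fin (n + 2) ⊕ Fin (n + 2)) (Fin (n + 2) ⊕ Fin (n + 2)) F) *ᵥ v) = qPlus F n v := fun v => by
      rw [mulVec_mul, H.iso ε hε, hg]
    set g' := ε * g with hg'
    have hother : ∀ k, k ≠ x → k ≠ x.swap → pidx k < n + 1 := by
      intro k h1 h2
      have := pidx_lt k
      by_contra h
      have e : pidx k = pidx x := by simp [hx, pidx]; unfold pidx at h this; omega
      rcases eq_or_swap_of_pidx e with e | e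
      exacts [h1 e, h2 e]
    have himg : ∀ z, z = x ∨ z = x.swap → ∃ p q : F, p * q = 0 ∧
        (g' : Matrix (Fin (n + 2) ⊕ Fin (n + 2)) (Fin (n + 2) ⊕ Fin (n + 2)) F) *ᵥ ev F z = p • ev F x + q • ev F x.swap := by
      intro z hz
      set w := (g' : Matrix (Fin (n + 2) ⊕ Fin (n + 2)) (Fin (n + 2) ⊕ Fin (n + 2)) F) *ᵥ ev F z with hw
      have hsp : w = w x • ev F x + w x.swap • ev F x.swap := by
        funext k
        simp only [Pi.add_apply, Pi.smul_apply, smul_eq_mul, ev, Pi.single_apply]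
        by_cases a1 : k = x
        · subst a1; simp [(swap_ne x).symm]
        by_cases a2 : k = x.swap
        · subst a2; simp [swap_ne x]
        have h1 := H.fixed_coord hiso (hfix k.swap (by rw [pidx_swap]; exact hother k a1 a2)) (ev F z)
        simp only [Sum.swap_swap, id_eq] at h1
        rw [hw, h1]
        rcases hz with rfl | rfl <;> simp [a1, a2, ev]
      refine ⟨w x, w x.swap, ?_, hsp⟩
      have h0 : qPlus F n w = 0 := by rw [hw, hiso]; exact H.single z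
      rw [hsp, qPlus_add_single, show w x • ev F x = 0 + w x • ev F x by simp, qPlus_add_single] at h0
      have h00 : qPlus F n 0 = 0 := by simp [qPlus]
      rw [h00] at h0
      simp [ev] at h0
      rcases h0 with h0 | h0 <;> simp [h0]
    obtain ⟨p, q, hpq, hgx⟩ := himg x (Or.inl rfl)
    obtain ⟨p', q', hpq', hgy⟩ := himg x.swap (Or.inr rfl)
    have hB : p * q' + q * p' = 1 := by
      have h1 := hiso (ev F x + (1 : F) • ev F x.swap)
      rw [Matrix.mulVec_add, Matrix.mulVec_smul, hgx, hgy, qPlus_add_single,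
        show ev F x = 0 + (1 : F) • ev F x by simp, qPlus_add_single] at h1
      have h00 : qPlus F n 0 = 0 := by simp [qPlus]
      rw [show p • (0 + (1 : F) • ev F x) + q • ev F x.swap + (1 : F) • (p' • (0 + (1 : F) • ev F x) + q' • ev F x.swap) =
        0 + (p + p') • ev F x + (q + q') • ev F x.swap by rw [add_smul, add_smul]; simp; abel, qPlus_add_single,
        qPlus_add_single, h00] at h1
      simp [ev] at h1
      linear_combination h1 - hpq - hpq'
    rcases mul_eq_zero.mp hpq with hp | hq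
    · -- the pair is interchanged
      have hq0 : q ≠ 0 := fun e => by rw [hp, e] at hB; simp at hB
      have hp' : p' = q⁻¹ := by
        rw [hp, zero_mul, zero_add] at hB; exact eq_inv_of_mul_eq_one_right hB
      have hq' : q' = 0 := by
        rcases mul_eq_zero.mp hpq' with e | e
        · exact absurd (hp' ▸ e) (inv_ne_zero hq0)
        · exact e
      refine ⟨q⁻¹, inv_ne_zero hq0, Or.inr ?_⟩
      obtain ⟨s, hs⟩ := exists_mono (ι := Fin (n + 2) ⊕ Fin (n + 2)) Function.injective_id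
        (hsgdata q⁻¹ (inv_ne_zero hq0)) (η := (1 : F)) (one_mul 1)
      suffices g' = s by rwa [this]
      refine ext_ev fun i => ?_
      have hsval : (s : Matrix (Fin (n + 2) ⊕ Fin (n + 2)) (Fin (n + 2) ⊕ Fin (n + 2)) F) *ᵥ ev F i = fun k => tauD x q⁻¹ k * ev F i (sg k) :=
        funext fun k => by simpa using hs.1 (ev F i) k
      rw [hsval]
      by_cases a1 : i = x
      · subst a1
        rw [hgx, hp]
        funext k
        by_cases b1 : k = x
        · subst b1; simp [ev, hsgx, tauD, swap_ne x, (swap_ne x).symm]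
        by_cases b2 : k = x.swap
        · subst b2; simp [ev, hsgy, tauD, swap_ne x]
        simp [ev, hsgo k b1 b2, tauD, b1, b2]
      by_cases a2 : i = x.swap
      · subst a2
        rw [hgy, hp', hq']
        funext k
        by_cases b1 : k = x
        · subst b1; simp [ev, hsgx, tauD]
        by_cases b2 : k = x.swap
        · subst b2; simp [ev, hsgy, tauD, swap_ne x, (swap_ne x).symm]
        simp [ev, hsgo k b1 b2, tauD, b1, b2]
      rw [show (g' : Matrix (Fin (n + 2) ⊕ Fin (n + 2)) (Fin (n + 2) ⊕ Fin (n + 2)) F) *ᵥ ev F i = ev F i from hfix i (hother i a1 a2)]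
      funext k
      by_cases b1 : k = x
      · subst b1; simp [ev, hsgx, Ne.symm a1, Ne.symm a2]
      by_cases b2 : k = x.swap
      · subst b2; simp [ev, hsgy, Ne.symm a1, Ne.symm a2]
      simp [hsgo k b1 b2, tauD, b1, b2]
    · have hp0 : p ≠ 0 := fun e => by rw [hq, e] at hB; simp at hB
      have hq' : q' = p⁻¹ := by
        rw [hq, zero_mul, add_zero] at hB; exact eq_inv_of_mul_eq_one_right hB
      have hp' : p' = 0 := by
        rcases mul_eq_zero.mp hpq' with e | e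
        · exact e
        · exact absurd (hq' ▸ e) (inv_ne_zero hp0)
      refine ⟨p, hp0, Or.inl ?_⟩
      obtain ⟨s, hs⟩ := exists_mono (ι := Fin (n + 2) ⊕ Fin (n + 2)) Function.injective_id
        (tauD_data x hp0) (η := (1 : F)) (one_mul 1)
      suffices g' = s by rwa [this]
      refine ext_ev fun i => ?_
      have hsval : (s : Matrix (Fin (n + 2) ⊕ Fin (n + 2)) (Fin (n + 2) ⊕ Fin (n + 2)) F) *ᵥ ev F i = fun k => tauD x p k * ev F i k :=
        funext fun k => by simpa using hs.1 (ev F i) k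
      rw [hsval]
      by_cases a1 : i = x
      · subst a1
        rw [hgx, hq]
        funext k
        by_cases b1 : k = x
        · subst b1; simp [ev, tauD]
        simp [ev, b1]
      by_cases a2 : i = x.swap
      · subst a2
        rw [hgy, hp', hq']
        funext k
        by_cases b2 : k = x.swap
        · subst b2; simp [ev, tauD, swap_ne x]
        simp [ev, b2]
      rw [show (g' : Matrix (Fin (n + 2) ⊕ Fin (n + 2)) (Fin (n + 2) ⊕ Fin (n + 2)) F) *ᵥ ev F i = ev F i from hfix i (hother i a1 a2)]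
      funext k
      by_cases b : k = i
      · subst b; simp [ev, tauD, a1, a2]
      simp [ev, b]
  exact commutator_mem_of_factor S hnorm hcomm (red g hg) (red h hh)

end Plus

/-! ### The form with one more square -/

section OddForm

variable (F) (n : ℕ)

/-- The square of the first coordinate plus the sum of the products of the pairs. -/
def qOdd (v : Unit ⊕ (Fin (n + 2) ⊕ Fin (n + 2)) → F) : F :=
  v (.inl ()) ^ 2 + ∑ i, v (.inr (.inl i)) * v (.inr (.inr i))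

/-- Generated by the elementary and the short transformations. -/
def eOdd : Subgroup (GL (Unit ⊕ (Fin (n + 2) ⊕ Fin (n + 2))) F) :=
  Subgroup.closure ({ε | ∃ (a b : Fin (n + 2) ⊕ Fin (n + 2)) (t : F), b ≠ a ∧ b ≠ a.swap ∧ IsOp (Sum.inr : Fin (n + 2) ⊕ Fin (n + 2) → Unit ⊕ (Fin (n + 2) ⊕ Fin (n + 2))) a b t ε} ∪
    {ε | ∃ (a : Fin (n + 2) ⊕ Fin (n + 2)) (t : F), IsShort (Sum.inr : Fin (n + 2) ⊕ Fin (n + 2) → Unit ⊕ (Fin (n + 2) ⊕ Fin (n + 2))) (.inl ()) a t ε})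

variable {F} {n}

theorem qOdd_add_single (v : Unit ⊕ (Fin (n + 2) ⊕ Fin (n + 2)) → F) (k : Fin (n + 2) ⊕ Fin (n + 2)) (c : F) :
    qOdd F n (v + c • ev F (Sum.inr k)) = qOdd F n v + c * v (Sum.inr k.swap) := by
  unfold qOdd
  rcases k with k | k <;>
  · simp only [Pi.add_apply, Pi.smul_apply, smul_eq_mul, ev, Pi.single_apply, Sum.inl.injEq, Sum.inr.injEq,
      reduceCtorEq, if_false, mul_zero, add_zero, Sum.swap_inl, Sum.swap_inr, add_mul, mul_add, Finset.sum_add_distrib,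
      mul_ite, ite_mul, mul_one, zero_mul, Finset.sum_ite_eq', Finset.mem_univ, if_true]
    try ring

theorem qOdd_add_first (v : Unit ⊕ (Fin (n + 2) ⊕ Fin (n + 2)) → F) (c : F) :
    qOdd F n (v + c • ev F (Sum.inl ())) = qOdd F n v + 2 * c * v (Sum.inl ()) + c ^ 2 := by
  simp [qOdd, ev]; ring

theorem qOdd_short {a : Fin (n + 2) ⊕ Fin (n + 2)} {t : F} {ε : GL (Unit ⊕ (Fin (n + 2) ⊕ Fin (n + 2))) F}
    (he : IsShort (Sum.inr : Fin (n + 2) ⊕ Fin (n + 2) → Unit ⊕ (Fin (n + 2) ⊕ Fin (n + 2))) (.inl ()) a t ε) (v : Unit ⊕ (Fin (n + 2) ⊕ Fin (n + 2)) → F) :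
    qOdd F n ((ε : Matrix (Unit ⊕ (Fin (n + 2) ⊕ Fin (n + 2))) (Unit ⊕ (Fin (n + 2) ⊕ Fin (n + 2))) F) *ᵥ v) =
      qOdd F n v := by
  have e : (ε : Matrix (Unit ⊕ (Fin (n + 2) ⊕ Fin (n + 2))) (Unit ⊕ (Fin (n + 2) ⊕ Fin (n + 2))) F) *ᵥ v =
      v + (t * v (.inr a.swap)) • ev F (Sum.inl ()) +
        (-2 * t * v (.inl ()) - t ^ 2 * v (.inr a.swap)) • ev F (Sum.inr a) := by
    funext k
    rw [he]
    simp only [Pi.add_apply, Pi.smul_apply, smul_eq_mul, ev, Pi.single_apply]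
    split_ifs <;> ring
  rw [e, qOdd_add_single, qOdd_add_first]
  simp only [Pi.add_apply, Pi.smul_apply, smul_eq_mul]
  rw [ev_ne Sum.inr_ne_inl]
  ring

theorem odd_hyp
    (hops : ∀ (a b : Fin (n + 2) ⊕ Fin (n + 2)) (t : F), b ≠ a → b ≠ a.swap → ∃ ε, IsOp (Sum.inr : Fin (n + 2) ⊕ Fin (n + 2) → Unit ⊕ (Fin (n + 2) ⊕ Fin (n + 2))) a b t ε)
    (hsh : ∀ (a : Fin (n + 2) ⊕ Fin (n + 2)) (t : F), ∃ ε, IsShort (Sum.inr : Fin (n + 2) ⊕ Fin (n + 2) → Unit ⊕ (Fin (n + 2) ⊕ Fin (n + 2))) (Sum.inl ()) a t ε) :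
    Hyp (Sum.inr : Fin (n + 2) ⊕ Fin (n + 2) → Unit ⊕ (Fin (n + 2) ⊕ Fin (n + 2))) (qOdd F n) (eOdd F n) where
  inj := Sum.inr_injective
  add_single v k c := qOdd_add_single v k c
  single k := by
    have h := qOdd_add_single (F := F) 0 k 1
    simpa [qOdd] using h
  iso ε hε := by
    induction hε using Subgroup.closure_induction with
    | mem x hx =>
      rcases hx with ⟨a, b, t, h1, -, hx⟩ | ⟨a, t, hx⟩
      · exact iso_op Sum.inr_injective (fun v k c => qOdd_add_single v k c) hx h1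
      · exact qOdd_short hx
    | one => simp
    | mul a b _ _ ha hb => intro v; rw [mulVec_mul, ha, hb]
    | inv a _ ha => intro v; conv_rhs => rw [← Matrix.one_mulVec v, ← Units.val_one, ← mul_inv_cancel a, mulVec_mul, ha]
  ops a b t h1 h2 := by
    obtain ⟨ε, hε⟩ := hops a b t h1 h2
    exact ⟨ε, Subgroup.subset_closure (Or.inl ⟨a, b, t, h1, h2, hε⟩), hε⟩
  clearOut b w hb := by
    obtain ⟨ε, hε⟩ := hsh b.swap (-w (Sum.inl ()))
    refine ⟨ε, Subgroup.subset_closure (Or.inr ⟨_, _, hε⟩), fun k hk => ?_, fun a ha => ?_, fun u hu hout => ?_⟩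
    · obtain rfl : k = Sum.inl () := by
        rcases k with k | k
        · rfl
        · exact absurd rfl (hk k)
      rw [hε, if_pos rfl, if_neg Sum.inl_ne_inr, Sum.swap_swap, hb]
      ring
    · rw [hε, if_neg Sum.inr_ne_inl, if_neg (fun e => ha (Sum.inr_injective e))]
      ring
    · funext k
      rw [hε, Sum.swap_swap, hu, hout (Sum.inl ()) fun _ => Sum.inl_ne_inr]
      simp

theorem odd_commutator
    (hops : ∀ (a b : Fin (n + 2) ⊕ Fin (n + 2)) (t : F), b ≠ a → b ≠ a.swap → ∃ ε, IsOp (Sum.inr : Fin (n + 2) ⊕ Fin (n + 2) → Unit ⊕ (Fin (n + 2) ⊕ Fin (n + 2))) a b t ε)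
    (hsh : ∀ (a : Fin (n + 2) ⊕ Fin (n + 2)) (t : F), ∃ ε, IsShort (Sum.inr : Fin (n + 2) ⊕ Fin (n + 2) → Unit ⊕ (Fin (n + 2) ⊕ Fin (n + 2))) (Sum.inl ()) a t ε)
    {g h : GL (Unit ⊕ (Fin (n + 2) ⊕ Fin (n + 2))) F}
    (hg : ∀ v, qOdd F n ((g : Matrix (Unit ⊕ (Fin (n + 2) ⊕ Fin (n + 2))) (Unit ⊕ (Fin (n + 2) ⊕ Fin (n + 2))) F) *ᵥ v) =
      qOdd F n v)
    (hh : ∀ v, qOdd F n ((h : Matrix (Unit ⊕ (Fin (n + 2) ⊕ Fin (n + 2))) (Unit ⊕ (Fin (n + 2) ⊕ Fin (n + 2))) F) *ᵥ v) =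
      qOdd F n v) :
    g * h * g⁻¹ * h⁻¹ ∈ eOdd F n := by
  classical
  have H := odd_hyp (F := F) hops hsh
  set z : Unit ⊕ (Fin (n + 2) ⊕ Fin (n + 2)) := Sum.inl () with hz
  set x : Fin (n + 2) ⊕ Fin (n + 2) := Sum.inl (Fin.last (n + 1)) with hx
  have hxx : x ≠ x.swap := (swap_ne x).symm
  let S : Set (GL (Unit ⊕ (Fin (n + 2) ⊕ Fin (n + 2))) F) :=
    {s | ∃ c η : F, c ≠ 0 ∧ η * η = 1 ∧ IsMono (Sum.inr : Fin (n + 2) ⊕ Fin (n + 2) → Unit ⊕ (Fin (n + 2) ⊕ Fin (n + 2))) id (tauD x c) η s}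
  have hnorm : ∀ s ∈ S, s ∈ Subgroup.normalizer (eOdd F n : Set _) := by
    rintro s ⟨c, η, hc, hη, hs⟩
    have M := tauD_data x hc
    have one : ∀ d', MonoData id d' → ∀ s', IsMono (Sum.inr : Fin (n + 2) ⊕ Fin (n + 2) → Unit ⊕ (Fin (n + 2) ⊕ Fin (n + 2))) id d' η s' → ∀ e ∈
        ({ε | ∃ (a b : Fin (n + 2) ⊕ Fin (n + 2)) (t : F), b ≠ a ∧ b ≠ a.swap ∧ IsOp (Sum.inr : Fin (n + 2) ⊕ Fin (n + 2) → Unit ⊕ (Fin (n + 2) ⊕ Fin (n + 2))) a b t ε} ∪
          {ε | ∃ (a : Fin (n + 2) ⊕ Fin (n + 2)) (t : F), IsShort (Sum.inr : Fin (n + 2) ⊕ Fin (n + 2) → Unit ⊕ (Fin (n + 2) ⊕ Fin (n + 2))) z a t ε} :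
          Set (GL (Unit ⊕ (Fin (n + 2) ⊕ Fin (n + 2))) F)), s' * e * s'⁻¹ ∈ eOdd F n := by
      intro d' M' s' hs' e he
      rcases he with ⟨a, b, t, h1, h2, he⟩ | ⟨a, t, he⟩
      · obtain ⟨e', he'⟩ := hops a b (t * d' a / d' b) h1 h2
        rw [hs'.conj_op Sum.inr_injective M' he he']
        exact Subgroup.subset_closure (Or.inl ⟨_, _, _, h1, h2, he'⟩)
      · obtain ⟨e', he'⟩ := hsh a (η * t * d' a)
        rw [hs'.conj_short Sum.inr_injective (fun _ => Sum.inl_ne_inr) M' hη he he']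
        exact Subgroup.subset_closure (Or.inr ⟨_, _, he'⟩)
    refine mem_normalizer_of_conj rfl (one _ M s hs) fun e he => ?_
    have := one _ M.inv s⁻¹ (isOp_neg_inv hη M hs) e he
    rwa [inv_inv] at this
  have hcomm : ∀ s ∈ S, ∀ s' ∈ S, s * s' * s⁻¹ * s'⁻¹ ∈ eOdd F n := by
    rintro s ⟨c, η, -, -, hs⟩ s' ⟨c', η', -, -, hs'⟩
    have e : s * s' = s' * s := by
      refine (hs.mul hs').unique ?_
      have := hs'.mul hs
      rw [mul_comm η' η] at this
      simpa only [Function.comp_id, id_eq, mul_comm] using this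
    rw [e]
    simp [mul_assoc]
  have red : ∀ g : GL (Unit ⊕ (Fin (n + 2) ⊕ Fin (n + 2))) F,
      (∀ v, qOdd F n ((g : Matrix (Unit ⊕ (Fin (n + 2) ⊕ Fin (n + 2))) (Unit ⊕ (Fin (n + 2) ⊕ Fin (n + 2))) F) *ᵥ v) =
        qOdd F n v) → ∃ e ∈ eOdd F n, ∃ s ∈ S, g = e * s := by
    intro g hg
    have hinner : ∀ w, qOdd F n w = 0 → w ≠ 0 → ∃ a, w (Sum.inr a) ≠ 0 := by
      intro w hw hne
      by_contra hc
      push Not at hc
      refine hne (funext fun k => ?_)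
      rcases k with ⟨⟩ | k
      · simpa [qOdd, hc] using hw
      · exact hc k
    obtain ⟨ε, hε, hfix⟩ := H.reduce hg hinner (n + 1) (by omega)
    have hiso0 : ∀ v, qOdd F n (((ε * g : GL _ F) : Matrix (Unit ⊕ (Fin (n + 2) ⊕ Fin (n + 2)))
        (Unit ⊕ (Fin (n + 2) ⊕ Fin (n + 2))) F) *ᵥ v) = qOdd F n v := fun v => by rw [mulVec_mul, H.iso ε hε, hg]
    have hother : ∀ k, k ≠ x → k ≠ x.swap → pidx k < n + 1 := by
      intro k h1 h2
      have := pidx_lt k
      by_contra h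
      have e : pidx k = pidx x := by simp [hx, pidx]; unfold pidx at h this; omega
      rcases eq_or_swap_of_pidx e with e | e
      exacts [h1 e, h2 e]
    -- transformations of the last pair and the first coordinate keep the other pairs
    have hkeep : ∀ (a : Fin (n + 2) ⊕ Fin (n + 2)) (t : F) (δ : GL _ F), a = x ∨ a = x.swap →
        IsShort (Sum.inr : Fin (n + 2) ⊕ Fin (n + 2) → Unit ⊕ (Fin (n + 2) ⊕ Fin (n + 2))) z a t δ → ∀ g' : GL (Unit ⊕ (Fin (n + 2) ⊕ Fin (n + 2))) F,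
        FixTo Sum.inr (n + 1) g' → FixTo Sum.inr (n + 1) (δ * g') := by
      intro a t δ ha hδ g' hg' k hk
      rw [mulVec_mul, hg' k hk]
      funext l
      have hk1 : k ≠ a.swap := fun e => by
        rw [e, pidx_swap] at hk
        rcases ha with rfl | rfl <;> simp [hx, pidx] at hk
      rw [hδ, ev_ne Sum.inl_ne_inr, ev_ne (fun e => hk1 (Sum.inr_injective e).symm)]
      simp
    -- the image of the last vector avoids the other pairs
    have hother0 : ∀ g' : GL (Unit ⊕ (Fin (n + 2) ⊕ Fin (n + 2))) F,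
        (∀ v, qOdd F n ((g' : Matrix (Unit ⊕ (Fin (n + 2) ⊕ Fin (n + 2))) (Unit ⊕ (Fin (n + 2) ⊕ Fin (n + 2))) F) *ᵥ v) =
          qOdd F n v) → FixTo Sum.inr (n + 1) g' → ∀ v k, k ≠ x → k ≠ x.swap →
        ((g' : Matrix (Unit ⊕ (Fin (n + 2) ⊕ Fin (n + 2))) (Unit ⊕ (Fin (n + 2) ⊕ Fin (n + 2))) F) *ᵥ v) (Sum.inr k) =
          v (Sum.inr k) := by
      intro g' hi hf v k h1 h2
      have := H.fixed_coord hi (hf k.swap (by rw [pidx_swap]; exact hother k h1 h2)) v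
      rwa [Sum.swap_swap] at this
    set X : Unit ⊕ (Fin (n + 2) ⊕ Fin (n + 2)) := Sum.inr x with hX
    set Y : Unit ⊕ (Fin (n + 2) ⊕ Fin (n + 2)) := Sum.inr x.swap with hY
    have hXY : X ≠ Y := fun e => hxx (Sum.inr_injective e)
    have hXz : X ≠ z := Sum.inr_ne_inl
    have hYz : Y ≠ z := Sum.inr_ne_inl
    have shape : ∀ g' : GL (Unit ⊕ (Fin (n + 2) ⊕ Fin (n + 2))) F,
        (∀ v, qOdd F n ((g' : Matrix (Unit ⊕ (Fin (n + 2) ⊕ Fin (n + 2))) (Unit ⊕ (Fin (n + 2) ⊕ Fin (n + 2))) F) *ᵥ v) =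
          qOdd F n v) → FixTo Sum.inr (n + 1) g' → ∀ i, i = X ∨ i = Y ∨ i = z →
        ∀ w, w = (g' : Matrix (Unit ⊕ (Fin (n + 2) ⊕ Fin (n + 2))) (Unit ⊕ (Fin (n + 2) ⊕ Fin (n + 2))) F) *ᵥ ev F i →
          w = w z • ev F z + w X • ev F X + w Y • ev F Y ∧ w z ^ 2 + w X * w Y = qOdd F n (ev F i) := by
      intro g' hi hf i hiX w hw
      have hsp : w = w z • ev F z + w X • ev F X + w Y • ev F Y := by
        funext k
        simp only [Pi.add_apply, Pi.smul_apply, smul_eq_mul, ev, Pi.single_apply]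
        rcases k with ⟨⟩ | k
        · simp [hz, hX, hY]
        by_cases a1 : k = x
        · subst a1; simp [hz, hX, hY, hxx]
        by_cases a2 : k = x.swap
        · subst a2; simp [hz, hX, hY, hxx.symm]
        rw [hw, hother0 g' hi hf _ k a1 a2]
        rcases hiX with rfl | rfl | rfl <;> simp [hz, hX, hY, a1, a2, ev]
      refine ⟨hsp, ?_⟩
      have h0 : qOdd F n w = qOdd F n (ev F i) := by rw [hw, hi]
      rw [← h0]
      conv_rhs => rw [hsp, hX, hY, qOdd_add_single, qOdd_add_single, show w z • ev F z = 0 + w z • ev F z by simp,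
        hz, qOdd_add_first]
      simp [qOdd, ev, hX, hY, hxx, hxx.symm]
      ring
    have hQX : qOdd F n (ev F X) = 0 := H.single x
    have hQY : qOdd F n (ev F Y) = 0 := H.single x.swap
    -- the coordinate of the vector itself is made nonzero
    obtain ⟨δ₁, hδ₁, hfix1, hne1⟩ : ∃ δ ∈ eOdd F n, FixTo Sum.inr (n + 1) (δ * (ε * g)) ∧
        (((δ * (ε * g) : GL _ F) : Matrix (Unit ⊕ (Fin (n + 2) ⊕ Fin (n + 2)))
          (Unit ⊕ (Fin (n + 2) ⊕ Fin (n + 2))) F) *ᵥ ev F X) X ≠ 0 := by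
      obtain ⟨hsp, hq⟩ := shape _ hiso0 hfix X (Or.inl rfl) _ rfl
      set w := (((ε * g) : GL _ F) : Matrix (Unit ⊕ (Fin (n + 2) ⊕ Fin (n + 2)))
          (Unit ⊕ (Fin (n + 2) ⊕ Fin (n + 2))) F) *ᵥ ev F X with hw
      by_cases hwX : w X ≠ 0
      · exact ⟨1, one_mem _, by simpa using hfix, by simpa [hw, Units.val_mul] using hwX⟩
      push Not at hwX
      rw [hwX, zero_mul, add_zero, hQX, sq_eq_zero_iff] at hq
      have hwY : w Y ≠ 0 := by
        intro e
        have h0 : w = 0 := by rw [hsp, hq, hwX, e]; simp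
        have h1 : ((((ε * g)⁻¹ * (ε * g)) : GL _ F) : Matrix (Unit ⊕ (Fin (n + 2) ⊕ Fin (n + 2)))
          (Unit ⊕ (Fin (n + 2) ⊕ Fin (n + 2))) F) *ᵥ ev F X = 0 := by
          rw [mulVec_mul, ← hw, h0, Matrix.mulVec_zero]
        rw [inv_mul_cancel, Units.val_one, Matrix.one_mulVec] at h1
        have := congrFun h1 X
        rw [ev_self] at this
        exact one_ne_zero this
      obtain ⟨δ, hδ⟩ := hsh x 1
      refine ⟨δ, Subgroup.subset_closure (Or.inr ⟨_, _, hδ⟩), hkeep x 1 δ (Or.inl rfl) hδ _ hfix, ?_⟩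
      rw [mulVec_mul, ← hw, hδ, if_neg hXz, if_pos rfl, hwX, hq]
      simpa using hwY
    set g₁ := δ₁ * (ε * g) with hg₁
    have hiso1 : ∀ v, qOdd F n ((g₁ : Matrix (Unit ⊕ (Fin (n + 2) ⊕ Fin (n + 2)))
        (Unit ⊕ (Fin (n + 2) ⊕ Fin (n + 2))) F) *ᵥ v) = qOdd F n v := fun v => by
      rw [hg₁, mulVec_mul, H.iso δ₁ hδ₁, hiso0]
    obtain ⟨c, hc⟩ : ∃ c, c = ((g₁ : Matrix (Unit ⊕ (Fin (n + 2) ⊕ Fin (n + 2)))
        (Unit ⊕ (Fin (n + 2) ⊕ Fin (n + 2))) F) *ᵥ ev F X) X := ⟨_, rfl⟩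
    have hc0 : c ≠ 0 := hc ▸ hne1
    -- clear the first coordinate of the image
    obtain ⟨δ₂, hδ₂'⟩ := hsh x.swap (-(((g₁ : Matrix (Unit ⊕ (Fin (n + 2) ⊕ Fin (n + 2)))
        (Unit ⊕ (Fin (n + 2) ⊕ Fin (n + 2))) F) *ᵥ ev F X) z / c))
    have hδ₂ : δ₂ ∈ eOdd F n := Subgroup.subset_closure (Or.inr ⟨_, _, hδ₂'⟩)
    set g₂ := δ₂ * g₁ with hg₂
    have hfix2 : FixTo Sum.inr (n + 1) g₂ := hkeep _ _ δ₂ (Or.inr rfl) hδ₂' _ hfix1
    have hiso2 : ∀ v, qOdd F n ((g₂ : Matrix (Unit ⊕ (Fin (n + 2) ⊕ Fin (n + 2)))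
        (Unit ⊕ (Fin (n + 2) ⊕ Fin (n + 2))) F) *ᵥ v) = qOdd F n v := fun v => by
      rw [hg₂, mulVec_mul, H.iso δ₂ hδ₂, hiso1]
    have hgX : (g₂ : Matrix (Unit ⊕ (Fin (n + 2) ⊕ Fin (n + 2))) (Unit ⊕ (Fin (n + 2) ⊕ Fin (n + 2))) F) *ᵥ ev F X =
        c • ev F X := by
      obtain ⟨hsp, hq⟩ := shape _ hiso2 hfix2 X (Or.inl rfl) _ rfl
      rw [hQX] at hq
      have e1 : ((g₂ : Matrix (Unit ⊕ (Fin (n + 2) ⊕ Fin (n + 2))) (Unit ⊕ (Fin (n + 2) ⊕ Fin (n + 2))) F) *ᵥ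
          ev F X) z = 0 := by
        rw [hg₂, mulVec_mul, hδ₂', if_pos rfl, if_neg Sum.inl_ne_inr, Sum.swap_swap, ← hX, ← hc]
        field_simp
        ring
      have e2 : ((g₂ : Matrix (Unit ⊕ (Fin (n + 2) ⊕ Fin (n + 2))) (Unit ⊕ (Fin (n + 2) ⊕ Fin (n + 2))) F) *ᵥ
          ev F X) X = c := by
        rw [hg₂, mulVec_mul, hδ₂', if_neg hXz, if_neg hXY, ← hc]; ring
      rw [e1, e2] at hsp hq
      have e3 := (mul_eq_zero.mp (by simpa using hq)).resolve_left hc0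
      rw [hsp, e3]
      simp
    -- the partner
    set w₂ := (g₂ : Matrix (Unit ⊕ (Fin (n + 2) ⊕ Fin (n + 2))) (Unit ⊕ (Fin (n + 2) ⊕ Fin (n + 2))) F) *ᵥ ev F Y
      with hw₂
    have hw₂Y : w₂ Y = c⁻¹ := by
      obtain ⟨hsp, hq⟩ := shape _ hiso2 hfix2 Y (Or.inr (Or.inl rfl)) _ hw₂
      have h := hiso2 (ev F Y + (1 : F) • ev F X)
      rw [Matrix.mulVec_add, Matrix.mulVec_smul, ← hw₂, hgX, one_smul, one_smul] at h
      rw [hX, qOdd_add_single, show qOdd F n w₂ = 0 by rw [hw₂, hiso2, hQY], zero_add,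
        show ev F (Sum.inr x) = (1 : F) • ev F (Sum.inr x) by rw [one_smul], qOdd_add_single, hQY, zero_add,
        one_mul, ← hY, ev_self] at h
      exact eq_inv_of_mul_eq_one_right h
    obtain ⟨δ₃, hδ₃'⟩ := hsh x (-(w₂ z * c))
    have hδ₃ : δ₃ ∈ eOdd F n := Subgroup.subset_closure (Or.inr ⟨_, _, hδ₃'⟩)
    set g₃ := δ₃ * g₂ with hg₃
    have hfix3 : FixTo Sum.inr (n + 1) g₃ := hkeep _ _ δ₃ (Or.inl rfl) hδ₃' _ hfix2
    have hiso3 : ∀ v, qOdd F n ((g₃ : Matrix (Unit ⊕ (Fin (n + 2) ⊕ Fin (n + 2)))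
        (Unit ⊕ (Fin (n + 2) ⊕ Fin (n + 2))) F) *ᵥ v) = qOdd F n v := fun v => by
      rw [hg₃, mulVec_mul, H.iso δ₃ hδ₃, hiso2]
    have hgX3 : (g₃ : Matrix (Unit ⊕ (Fin (n + 2) ⊕ Fin (n + 2))) (Unit ⊕ (Fin (n + 2) ⊕ Fin (n + 2))) F) *ᵥ ev F X =
        c • ev F X := by
      rw [hg₃, mulVec_mul, hgX, Matrix.mulVec_smul]
      congr 1
      funext l
      rw [hδ₃', ← hY, ev_ne hXY.symm, ev_ne hXz.symm]
      simp
    have hgY3 : (g₃ : Matrix (Unit ⊕ (Fin (n + 2) ⊕ Fin (n + 2))) (Unit ⊕ (Fin (n + 2) ⊕ Fin (n + 2))) F) *ᵥ ev F Y =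
        c⁻¹ • ev F Y := by
      obtain ⟨hsp, hq⟩ := shape _ hiso3 hfix3 Y (Or.inr (Or.inl rfl)) _ rfl
      rw [hQY] at hq
      have e1 : ((g₃ : Matrix (Unit ⊕ (Fin (n + 2) ⊕ Fin (n + 2))) (Unit ⊕ (Fin (n + 2) ⊕ Fin (n + 2))) F) *ᵥ
          ev F Y) z = 0 := by
        rw [hg₃, mulVec_mul, ← hw₂, hδ₃', if_pos rfl, if_neg Sum.inl_ne_inr, ← hY, hw₂Y]
        field_simp
        ring
      have e2 : ((g₃ : Matrix (Unit ⊕ (Fin (n + 2) ⊕ Fin (n + 2))) (Unit ⊕ (Fin (n + 2) ⊕ Fin (n + 2))) F) *ᵥ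
          ev F Y) Y = c⁻¹ := by
        rw [hg₃, mulVec_mul, ← hw₂, hδ₃', if_neg hYz, if_neg hXY.symm, hw₂Y]; ring
      rw [e1, e2] at hsp hq
      have e3 := (mul_eq_zero.mp (by simpa using hq)).resolve_right (inv_ne_zero hc0)
      rw [hsp, e3]
      simp
    obtain ⟨η, hη, hgz⟩ : ∃ η : F, η * η = 1 ∧ (g₃ : Matrix (Unit ⊕ (Fin (n + 2) ⊕ Fin (n + 2)))
        (Unit ⊕ (Fin (n + 2) ⊕ Fin (n + 2))) F) *ᵥ ev F z = η • ev F z := by
      set w := (g₃ : Matrix (Unit ⊕ (Fin (n + 2) ⊕ Fin (n + 2))) (Unit ⊕ (Fin (n + 2) ⊕ Fin (n + 2))) F) *ᵥ ev F z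
        with hw
      obtain ⟨hsp, hq⟩ := shape _ hiso3 hfix3 z (Or.inr (Or.inr rfl)) _ hw
      have eY : w Y = 0 := by
        have h := hiso3 (ev F z + (1 : F) • ev F X)
        rw [Matrix.mulVec_add, Matrix.mulVec_smul, ← hw, hgX3, one_smul] at h
        rw [hX, qOdd_add_single, one_smul, show ev F (Sum.inr x) = (1 : F) • ev F (Sum.inr x) by rw [one_smul],
          qOdd_add_single, one_mul, ev_ne hYz, add_zero, show qOdd F n w = qOdd F n (ev F z) by rw [hw, hiso3],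
          add_eq_left] at h
        exact (mul_eq_zero.mp h).resolve_left hc0
      have eX : w X = 0 := by
        have h := hiso3 (ev F z + (1 : F) • ev F Y)
        rw [Matrix.mulVec_add, Matrix.mulVec_smul, ← hw, hgY3, one_smul] at h
        rw [hY, qOdd_add_single, one_smul, show ev F (Sum.inr x.swap) = (1 : F) • ev F (Sum.inr x.swap) by rw [one_smul],
          qOdd_add_single, one_mul, Sum.swap_swap, ev_ne hXz, add_zero,
          show qOdd F n w = qOdd F n (ev F z) by rw [hw, hiso3], add_eq_left] at h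
        exact (mul_eq_zero.mp h).resolve_left (inv_ne_zero hc0)
      rw [eX, eY] at hsp hq
      refine ⟨w z, ?_, by simpa using hsp⟩
      have : qOdd F n (ev F z) = 1 := by simp [qOdd, hz, ev]
      rw [this] at hq
      linear_combination hq
    refine ⟨ε⁻¹ * δ₁⁻¹ * δ₂⁻¹ * δ₃⁻¹, mul_mem (mul_mem (mul_mem (inv_mem hε) (inv_mem hδ₁)) (inv_mem hδ₂))
      (inv_mem hδ₃), g₃, ⟨c, η, hc0, hη, ?_⟩, by rw [hg₃, hg₂, hg₁]; simp [mul_assoc]⟩
    obtain ⟨s, hs⟩ := exists_mono (ι := Unit ⊕ (Fin (n + 2) ⊕ Fin (n + 2))) Sum.inr_injective (tauD_data x hc0) hη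
    suffices g₃ = s by rwa [this]
    refine ext_ev fun i => funext fun k => ?_
    have hL : ((g₃ : Matrix (Unit ⊕ (Fin (n + 2) ⊕ Fin (n + 2))) (Unit ⊕ (Fin (n + 2) ⊕ Fin (n + 2))) F) *ᵥ ev F i) =
        (if i = z then η else if i = X then c else if i = Y then c⁻¹ else 1) • ev F i := by
      by_cases b0 : i = z
      · subst b0; simp [hgz]
      by_cases b1 : i = X
      · subst b1; rw [if_neg b0, if_pos rfl]; exact hgX3
      by_cases b2 : i = Y
      · subst b2; rw [if_neg b0, if_neg b1, if_pos rfl]; exact hgY3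
      rw [if_neg b0, if_neg b1, if_neg b2, one_smul]
      rcases i with ⟨⟩ | i
      · exact absurd rfl b0
      · exact hfix3 i (hother i (fun e => b1 (by rw [hX, e])) (fun e => b2 (by rw [hY, e])))
    rw [hL, Pi.smul_apply, smul_eq_mul]
    rcases k with ⟨⟩ | k
    · rw [hs.2 _ _ fun _ => Sum.inl_ne_inr]
      by_cases b0 : i = z
      · subst b0; rw [if_pos rfl]
      · rw [ev_ne (Ne.symm b0), mul_zero, mul_zero]
    · rw [hs.1, id_eq]
      by_cases b : i = Sum.inr k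
      · subst b
        rw [if_neg Sum.inr_ne_inl]
        simp [hX, hY, tauD]
      · rw [ev_ne (Ne.symm b), mul_zero, mul_zero]
  exact commutator_mem_of_factor S hnorm hcomm (red g hg) (red h hh)

end OddForm

end Cfsg.Agent.Classical.OrthGen
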