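import Cfsg.Agent.S0256
import Mathlib.LinearAlgebra.Matrix.GeneralLinearGroup.Card
import Mathlib.GroupTheory.SpecificGroups.Alternating.Simple

/-!
Subgroups of index eight of the general linear group of degree four over two elements are
doubly transitive on the non-zero vectors.
-/

set_option autoImplicit false
set_option linter.style.haveILetI false

namespace Cfsg.Agent.AltSevenGL

open Matrix MulAction

abbrev Z := ZMod 2
abbrev G4 := Matrix.GeneralLinearGroup (Fin 4) Z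

/-- Distinct non-zero pairs of vectors. -/
abbrev Pairs := {p : (Fin 4 → Z) × (Fin 4 → Z) // p.1 ≠ 0 ∧ p.2 ≠ 0 ∧ p.1 ≠ p.2}

theorem card_pairs : Nat.card Pairs = 210 := by
  rw [Nat.card_eq_fintype_card]; decide +kernel

theorem extend_pair : ∀ v w : Fin 4 → Z, v ≠ 0 → w ≠ 0 → v ≠ w → ∃ k l : Fin 4,
    (Matrix.of fun i j => ![v i, w i, if i = k then 1 else 0, if i = l then 1 else 0] j).det = 1 := by
  simp only [Matrix.det_succ_row_zero, Fin.sum_univ_succ, Matrix.det_fin_zero, Finset.univ_eq_empty, Finset.sum_empty]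
  decide +kernel

def e0 : Fin 4 → Z := ![1, 0, 0, 0]
def e1 : Fin 4 → Z := ![0, 1, 0, 0]

theorem exists_frame (v w : Fin 4 → Z) (hv : v ≠ 0) (hw : w ≠ 0) (hvw : v ≠ w) :
    ∃ g : G4, (g : Matrix (Fin 4) (Fin 4) Z) *ᵥ e0 = v ∧ (g : Matrix (Fin 4) (Fin 4) Z) *ᵥ e1 = w := by
  obtain ⟨k, l, hd⟩ := extend_pair v w hv hw hvw
  refine ⟨Matrix.GeneralLinearGroup.mkOfDetNeZero _ (by rw [hd]; exact one_ne_zero), ?_, ?_⟩ <;>
    · funext i
      simp [Matrix.mulVec, dotProduct, Fin.sum_univ_four, e0, e1, Matrix.GeneralLinearGroup.mkOfDetNeZero,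
        Matrix.GeneralLinearGroup.mk', Matrix.unitOfDetInvertible]

/-- The pointwise stabiliser of the first two coordinate vectors. -/
def S : Subgroup G4 where
  carrier := {g | (g : Matrix (Fin 4) (Fin 4) Z) *ᵥ e0 = e0 ∧ (g : Matrix (Fin 4) (Fin 4) Z) *ᵥ e1 = e1}
  one_mem' := by simp
  mul_mem' := fun {g h} hg hh => ⟨by rw [Units.val_mul, ← mulVec_mulVec, hh.1, hg.1],
    by rw [Units.val_mul, ← mulVec_mulVec, hh.2, hg.2]⟩
  inv_mem' := fun {g} hg => by
    have h : ∀ u : Fin 4 → Z, ((g : Matrix (Fin 4) (Fin 4) Z) *ᵥ u = u) →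
        ((g⁻¹ : G4) : Matrix (Fin 4) (Fin 4) Z) *ᵥ u = u := by
      intro u hu
      conv_lhs => rw [← hu, mulVec_mulVec, ← Units.val_mul, inv_mul_cancel, Units.val_one, one_mulVec]
    exact ⟨h _ hg.1, h _ hg.2⟩

theorem card_G4 : Nat.card G4 = 20160 := by
  rw [Matrix.card_GL_field, Fin.prod_univ_four]
  simp [ZMod.card]

theorem inv_mulVec {g : G4} {u v : Fin 4 → Z} (h : (g : Matrix (Fin 4) (Fin 4) Z) *ᵥ u = v) :
    ((g⁻¹ : G4) : Matrix (Fin 4) (Fin 4) Z) *ᵥ v = u := by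
  rw [← h, mulVec_mulVec, ← Units.val_mul, inv_mul_cancel, Units.val_one, one_mulVec]

theorem card_S : Nat.card S = 96 := by
  classical
  choose fr h0 h1 using fun p : Pairs => exists_frame p.1.1 p.1.2 p.2.1 p.2.2.1 p.2.2.2
  have hb : Function.Bijective fun x : Pairs × S => fr x.1 * (x.2 : G4) := by
    constructor
    · rintro ⟨p, s⟩ ⟨p', s'⟩ h
      simp only at h
      have a0 := congrArg (fun g : G4 => (g : Matrix (Fin 4) (Fin 4) Z) *ᵥ e0) h
      have a1 := congrArg (fun g : G4 => (g : Matrix (Fin 4) (Fin 4) Z) *ᵥ e1) h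
      simp only [Units.val_mul, ← mulVec_mulVec, s.2.1, s'.2.1, h0] at a0
      simp only [Units.val_mul, ← mulVec_mulVec, s.2.2, s'.2.2, h1] at a1
      have hp : p = p' := Subtype.ext (Prod.ext a0 a1)
      subst hp
      exact Prod.ext rfl (Subtype.ext (mul_left_cancel h))
    · intro g
      have hne : (g : Matrix (Fin 4) (Fin 4) Z) *ᵥ e0 ≠ 0 ∧ (g : Matrix (Fin 4) (Fin 4) Z) *ᵥ e1 ≠ 0 ∧
          (g : Matrix (Fin 4) (Fin 4) Z) *ᵥ e0 ≠ (g : Matrix (Fin 4) (Fin 4) Z) *ᵥ e1 := by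
        refine ⟨fun e => ?_, fun e => ?_, fun e => ?_⟩
        · exact absurd (inv_mulVec e) (by rw [mulVec_zero]; decide)
        · exact absurd (inv_mulVec e) (by rw [mulVec_zero]; decide)
        · exact absurd ((inv_mulVec e).symm.trans (inv_mulVec rfl)) (by decide)
      refine ⟨(⟨(_, _), hne⟩, ⟨(fr ⟨(_, _), hne⟩)⁻¹ * g, ?_, ?_⟩), mul_inv_cancel_left _ _⟩
      · rw [Units.val_mul, ← mulVec_mulVec]
        exact inv_mulVec (h0 _)
      · rw [Units.val_mul, ← mulVec_mulVec]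
        exact inv_mulVec (h1 _)
  have := Nat.card_eq_of_bijective _ hb
  rw [Nat.card_prod, card_pairs, card_G4] at this
  omega

theorem nonempty_equiv_alt : Nonempty (G4 ≃* alternatingGroup (Fin 8)) := by
  haveI : Fact (Nat.Prime 2) := ⟨Nat.prime_two⟩
  obtain ⟨e⟩ := Cfsg.Agent.S0256.result (F := Z) (ZMod.card 2)
  have hdet : ∀ g : G4, (g : Matrix (Fin 4) (Fin 4) Z).det = 1 := fun g => by
    rcases Cfsg.Agent.S0256.zmod2_cases (g : Matrix (Fin 4) (Fin 4) Z).det with h | h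
    · exact absurd h (Matrix.isUnit_iff_isUnit_det _ |>.1 g.isUnit).ne_zero
    · exact h
  let f : G4 →* Matrix.SpecialLinearGroup (Fin 4) Z :=
    { toFun := fun g => ⟨g, hdet g⟩
      map_one' := Subtype.ext rfl
      map_mul' := fun g h => Subtype.ext rfl }
  let q : G4 →* Matrix.ProjectiveSpecialLinearGroup (Fin 4) Z := (QuotientGroup.mk' _).comp f
  have hcenter : ∀ z : Matrix.SpecialLinearGroup (Fin 4) Z, z ∈ Subgroup.center _ → z = 1 := by
    intro z hz
    obtain ⟨c, hc, e'⟩ := Matrix.SpecialLinearGroup.mem_center_iff.1 hz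
    apply Subtype.ext
    have : c = 1 := by
      rcases Cfsg.Agent.S0256.zmod2_cases c with rfl | rfl
      · simp at hc
      · rfl
    show (z : Matrix (Fin 4) (Fin 4) Z) = 1
    rw [← e', this, map_one]
  have hinj : Function.Injective q := (injective_iff_map_eq_one q).2 fun g hg => by
    have := hcenter (f g) ((QuotientGroup.eq_one_iff _).1 hg)
    exact Units.ext (congrArg Subtype.val this)
  have hsurj : Function.Surjective q := by
    intro x
    obtain ⟨x, rfl⟩ := QuotientGroup.mk'_surjective _ x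
    exact ⟨Matrix.GeneralLinearGroup.mkOfDetNeZero (x : Matrix (Fin 4) (Fin 4) Z) (by rw [x.2]; exact one_ne_zero),
      congrArg _ (Subtype.ext rfl)⟩
  exact ⟨(MulEquiv.ofBijective q ⟨hinj, hsurj⟩).trans e⟩

theorem normal_cases (N : Subgroup G4) [N.Normal] : N = ⊥ ∨ N = ⊤ := by
  obtain ⟨e⟩ := nonempty_equiv_alt
  haveI : (N.map e.toMonoidHom).Normal := Subgroup.Normal.map ‹_› _ e.surjective
  rcases alternatingGroup.normal_subgroup_eq_bot_or_eq_top (by simp) (N := N.map e.toMonoidHom) with h | h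
  · exact Or.inl ((Subgroup.map_eq_bot_iff_of_injective N e.injective).1 h)
  · right
    apply Subgroup.map_injective (f := e.toMonoidHom) e.injective
    rw [h, Subgroup.map_top_of_surjective _ e.surjective]

/-! ### The translations and three maps normalising them -/

def tr (X : Fin 4 → Z) : Matrix (Fin 4) (Fin 4) Z := !![1, 0, X 0, X 1; 0, 1, X 2, X 3; 0, 0, 1, 0; 0, 0, 0, 1]

def Lm : Matrix (Fin 4) (Fin 4) Z := !![0, 1, 0, 0; 1, 1, 0, 0; 0, 0, 1, 0; 0, 0, 0, 1]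
def Lm' : Matrix (Fin 4) (Fin 4) Z := !![1, 1, 0, 0; 1, 0, 0, 0; 0, 0, 1, 0; 0, 0, 0, 1]
def R1m : Matrix (Fin 4) (Fin 4) Z := !![1, 0, 0, 0; 0, 1, 0, 0; 0, 0, 0, 1; 0, 0, 1, 0]
def R2m : Matrix (Fin 4) (Fin 4) Z := !![1, 0, 0, 0; 0, 1, 0, 0; 0, 0, 1, 1; 0, 0, 0, 1]

def pL (X : Fin 4 → Z) : Fin 4 → Z := ![X 2, X 3, X 0 + X 2, X 1 + X 3]
def p1 (X : Fin 4 → Z) : Fin 4 → Z := ![X 1, X 0, X 3, X 2]
def p2 (X : Fin 4 → Z) : Fin 4 → Z := ![X 0, X 0 + X 1, X 2, X 2 + X 3]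

theorem tr_add : ∀ X Y, tr X * tr Y = tr (X + Y) := by decide +kernel
theorem tr_fix : ∀ X, tr X *ᵥ e0 = e0 ∧ tr X *ᵥ e1 = e1 := by decide +kernel
theorem tr_self : ∀ X, tr X * tr X = 1 := by decide +kernel
theorem tr_eq_one : ∀ X, tr X = 1 → X = 0 := by decide +kernel
theorem L_inv : Lm * Lm' = 1 ∧ Lm' * Lm = 1 ∧ Lm * Lm * Lm = 1 := by decide +kernel
theorem R_inv : R1m * R1m = 1 ∧ R2m * R2m = 1 := by decide +kernel
theorem R_fix : R1m *ᵥ e0 = e0 ∧ R1m *ᵥ e1 = e1 ∧ R2m *ᵥ e0 = e0 ∧ R2m *ᵥ e1 = e1 := by decide +kernel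
theorem L_img : Lm *ᵥ e0 = e1 ∧ Lm *ᵥ e1 = e0 + e1 ∧ Lm' *ᵥ e0 = e0 + e1 ∧ Lm' *ᵥ e1 = e0 := by decide +kernel
theorem tr_L : ∀ X, Lm * tr X = tr (pL X) * Lm := by decide +kernel
theorem tr_R1 : ∀ X, R1m * tr X = tr (p1 X) * R1m := by decide +kernel
theorem tr_R2 : ∀ X, R2m * tr X = tr (p2 X) * R2m := by decide +kernel

/-- One step of the closure. -/
def step (s : Finset (Fin 4 → Z)) : Finset (Fin 4 → Z) :=
  s ∪ s.image pL ∪ s.image p1 ∪ s.image p2 ∪ (s ×ˢ s).image fun p => p.1 + p.2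

theorem span_all : ∀ X, X ≠ 0 → step (step (step (step (step {X})))) = Finset.univ := by decide +kernel

theorem closed_all (K : Set (Fin 4 → Z)) (hL : ∀ X ∈ K, pL X ∈ K) (h1 : ∀ X ∈ K, p1 X ∈ K)
    (h2 : ∀ X ∈ K, p2 X ∈ K) (ha : ∀ X ∈ K, ∀ Y ∈ K, X + Y ∈ K) {X : Fin 4 → Z} (hX : X ∈ K) (h0 : X ≠ 0) :
    ∀ Y, Y ∈ K := by
  have hs : ∀ s : Finset (Fin 4 → Z), (∀ Y ∈ s, Y ∈ K) → ∀ Y ∈ step s, Y ∈ K := by
    intro s hs Y hY
    simp only [step, Finset.mem_union, Finset.mem_image, Finset.mem_product] at hY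
    rcases hY with (((hY | ⟨a, h, rfl⟩) | ⟨a, h, rfl⟩) | ⟨a, h, rfl⟩) | ⟨⟨a, b⟩, ⟨h, h'⟩, rfl⟩
    · exact hs _ hY
    · exact hL _ (hs _ h)
    · exact h1 _ (hs _ h)
    · exact h2 _ (hs _ h)
    · exact ha _ (hs _ h) _ (hs _ h')
  intro Y
  exact hs _ (hs _ (hs _ (hs _ (hs _ (by simpa using hX))))) Y (span_all X h0 ▸ Finset.mem_univ Y)

def trU (X : Fin 4 → Z) : G4 := ⟨tr X, tr X, tr_self X, tr_self X⟩
def Lu : G4 := ⟨Lm, Lm', L_inv.1, L_inv.2.1⟩
def R1u : G4 := ⟨R1m, R1m, R_inv.1, R_inv.1⟩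
def R2u : G4 := ⟨R2m, R2m, R_inv.2, R_inv.2⟩

theorem trU_mem (X : Fin 4 → Z) : trU X ∈ S := tr_fix X

/-! ### Invariant sets of points -/

theorem dvd_of_invariant {Y : Type*} [Fintype Y] [DecidableEq Y] (hY : Fintype.card Y = 8)
    (ψ : S →* Equiv.Perm Y) (hψ : Function.Injective ψ) (hsgn : ∀ s, Equiv.Perm.sign (ψ s) = 1)
    (A : Finset Y) (hA : ∀ s, ∀ y, y ∈ A ↔ ψ s y ∈ A) :
    192 ∣ A.card.factorial * (8 - A.card).factorial := by
  let L : Subgroup (Equiv.Perm Y) :=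
    { carrier := {σ | ∀ y, y ∈ A ↔ σ y ∈ A}
      one_mem' := fun y => Iff.rfl
      mul_mem' := fun {σ τ} hσ hτ y => (hτ y).trans (hσ (τ y))
      inv_mem' := fun {σ} hσ y => by
        have := hσ (σ⁻¹ y)
        rw [show σ (σ⁻¹ y) = y from σ.apply_symm_apply y] at this
        exact this.symm }
  have hL : Nat.card L = A.card.factorial * (8 - A.card).factorial := by
    have hinj : Function.Injective fun σ : L =>
        ((σ : Equiv.Perm Y).subtypePerm (p := (· ∈ A)) (fun y => (σ.2 y).symm),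
          (σ : Equiv.Perm Y).subtypePerm (p := (· ∉ A)) fun y => (σ.2 y).symm.not) := by
      intro σ τ h
      simp only [Prod.mk.injEq] at h
      refine Subtype.ext (Equiv.ext fun y => ?_)
      by_cases hy : y ∈ A
      · exact congrArg Subtype.val (Equiv.ext_iff.1 h.1 ⟨y, hy⟩)
      · exact congrArg Subtype.val (Equiv.ext_iff.1 h.2 ⟨y, hy⟩)
    have hsurj : Function.Surjective fun σ : L =>
        ((σ : Equiv.Perm Y).subtypePerm (p := (· ∈ A)) (fun y => (σ.2 y).symm),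
          (σ : Equiv.Perm Y).subtypePerm (p := (· ∉ A)) fun y => (σ.2 y).symm.not) := by
      rintro ⟨a, b⟩
      refine ⟨⟨Equiv.Perm.subtypeCongr a b, fun y => ?_⟩, ?_⟩
      · by_cases hy : y ∈ A
        · simp [Equiv.Perm.subtypeCongr.left_apply (p := (· ∈ A)) a b hy, hy, (a ⟨y, hy⟩).2]
        · simp [Equiv.Perm.subtypeCongr.right_apply (p := (· ∈ A)) a b hy, hy, (b ⟨y, hy⟩).2]
      · refine Prod.ext (Equiv.ext fun ⟨y, hy⟩ => ?_) (Equiv.ext fun ⟨y, hy⟩ => ?_)
        · exact Subtype.ext (Equiv.Perm.subtypeCongr.left_apply (p := (· ∈ A)) a b hy)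
        · exact Subtype.ext (Equiv.Perm.subtypeCongr.right_apply (p := (· ∈ A)) a b hy)
    rw [Nat.card_eq_of_bijective _ ⟨hinj, hsurj⟩, Nat.card_prod, Nat.card_perm, Nat.card_perm,
      Nat.card_eq_fintype_card, Nat.card_eq_fintype_card, Fintype.card_coe, Fintype.card_subtype_compl, hY,
      Fintype.card_coe]
  -- an odd element
  obtain ⟨τ, hτL, hτ⟩ : ∃ τ ∈ L, Equiv.Perm.sign τ = -1 := by
    by_cases h2 : 1 < A.card
    · obtain ⟨a, ha, b, hb, hab⟩ := Finset.one_lt_card.1 h2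
      refine ⟨Equiv.swap a b, fun y => ?_, Equiv.Perm.sign_swap hab⟩
      rw [Equiv.swap_apply_def]; split_ifs <;> simp_all
    · obtain ⟨a, ha, b, hb, hab⟩ := Finset.one_lt_card.1 (show 1 < Aᶜ.card by rw [Finset.card_compl, hY]; omega)
      rw [Finset.mem_compl] at ha hb
      refine ⟨Equiv.swap a b, fun y => ?_, Equiv.Perm.sign_swap hab⟩
      rw [Equiv.swap_apply_def]; split_ifs <;> simp_all
  have hinj2 : Function.Injective fun p : S × ℤˣ => (⟨ψ p.1 * (if p.2 = 1 then 1 else τ),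
      mul_mem (show ψ p.1 ∈ L from hA p.1) (by split_ifs; exacts [one_mem L, hτL])⟩ : L) := by
    rintro ⟨s, i⟩ ⟨t, j⟩ h
    simp only [Subtype.mk.injEq] at h
    have hs := congrArg Equiv.Perm.sign h
    simp only [map_mul, hsgn, one_mul] at hs
    have hij : i = j := by
      rcases Int.units_eq_one_or i with rfl | rfl <;> rcases Int.units_eq_one_or j with rfl | rfl <;>
        simp_all
    subst hij
    exact Prod.ext (hψ (mul_right_cancel h)) rfl
  have hd : Nat.card S * 2 ∣ Nat.card L := by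
    let Φ : S →* L := MonoidHom.codRestrict ψ L fun s => hA s
    let sg : L →* ℤˣ := Equiv.Perm.sign.comp L.subtype
    have h1 : Nat.card S ∣ Nat.card sg.ker :=
      Subgroup.card_dvd_of_injective (MonoidHom.codRestrict Φ sg.ker fun s => hsgn s)
        fun s t h => hψ (congrArg (fun x : sg.ker => ((x : L) : Equiv.Perm Y)) h)
    have hsur : Function.Surjective sg := fun i => by
      rcases Int.units_eq_one_or i with rfl | rfl
      · exact ⟨1, map_one _⟩
      · exact ⟨⟨τ, hτL⟩, hτ⟩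
    have h2 : sg.ker.index = 2 := by
      rw [Subgroup.index_ker, MonoidHom.range_eq_top.2 hsur, Subgroup.card_top, Nat.card_eq_fintype_card,
        Fintype.card_units_int]
    rw [← sg.ker.card_mul_index, h2]
    exact Nat.mul_dvd_mul_right h1 2
  rw [card_S, hL] at hd
  exact hd

theorem not_injective_four {Y : Type*} (A : Finset Y) (hA : A.card = 4)
    (act : (Fin 4 → Z) → Equiv.Perm A) (hadd : ∀ X X', act (X + X') = act X * act X')
    (hinj : ∀ X, act X = 1 → X = 0) : False := by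
  classical
  let f : Multiplicative (Fin 4 → Z) →* Equiv.Perm A :=
    MonoidHom.mk' (fun X => act (Multiplicative.toAdd X)) fun X X' => hadd _ _
  have hf : Function.Injective f := (injective_iff_map_eq_one f).2 fun X hX => hinj _ hX
  have := Subgroup.card_dvd_of_injective f hf
  rw [Nat.card_perm, Nat.card_eq_fintype_card (α := A), Fintype.card_coe, hA] at this
  rw [show Nat.card (Multiplicative (Fin 4 → Z)) = 16 from by rw [Nat.card_eq_fintype_card]; rfl] at this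
  norm_num [Nat.factorial] at this

/-- The pointwise stabiliser of the coordinate pair is transitive on the cosets of a subgroup of
index eight. -/
theorem S_transitive (H : Subgroup G4) (hH : H.index = 8) (x y : G4 ⧸ H) : ∃ s ∈ S, s • x = y := by
  classical
  haveI : Fintype (G4 ⧸ H) := Fintype.ofFinite _
  have h8 : Fintype.card (G4 ⧸ H) = 8 := by rw [← Nat.card_eq_fintype_card]; exact hH
  set φ := toPermHom G4 (G4 ⧸ H) with hφ
  have hker : φ.ker = ⊥ := by
    refine (normal_cases φ.ker).resolve_right fun h => ?_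
    have hall : ∀ z : G4 ⧸ H, z = ((1 : G4) : G4 ⧸ H) := fun z => by
      obtain ⟨g, rfl⟩ := QuotientGroup.mk_surjective z
      have hg : φ g = 1 := MonoidHom.mem_ker.1 (h ▸ Subgroup.mem_top g)
      have := Equiv.ext_iff.1 hg ((1 : G4) : G4 ⧸ H)
      simpa [hφ, MulAction.Quotient.smul_mk] using this
    haveI : Subsingleton (G4 ⧸ H) := ⟨fun a b => (hall a).trans (hall b).symm⟩
    have := Fintype.card_le_one_iff_subsingleton.2 (inferInstance : Subsingleton (G4 ⧸ H))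
    omega
  have hinj : Function.Injective φ := (MonoidHom.ker_eq_bot_iff φ).1 hker
  have hsgn : ∀ g, Equiv.Perm.sign (φ g) = 1 := by
    intro g
    rcases normal_cases (Equiv.Perm.sign.comp φ).ker with h | h
    · exfalso
      have := Nat.card_le_card_of_injective _ ((MonoidHom.ker_eq_bot_iff _).1 h)
      rw [card_G4, Nat.card_eq_fintype_card, Fintype.card_units_int] at this
      omega
    · exact MonoidHom.mem_ker.1 (show g ∈ (Equiv.Perm.sign.comp φ).ker from h ▸ Subgroup.mem_top g)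
  by_contra hnot
  -- orbits
  let orb : (G4 ⧸ H) → Finset (G4 ⧸ H) := fun z => (orbit S z).toFinset
  have horb : ∀ z w, w ∈ orb z ↔ ∃ s ∈ S, s • z = w := fun z w => by
    simp only [orb, Set.mem_toFinset]
    exact ⟨fun ⟨s, hs⟩ => ⟨s.1, s.2, hs⟩, fun ⟨s, h, hs⟩ => ⟨⟨s, h⟩, hs⟩⟩
  have hself : ∀ z, z ∈ orb z := fun z => (horb z z).2 ⟨1, one_mem S, one_smul _ _⟩
  have hinv : ∀ z, ∀ s ∈ S, ∀ w, w ∈ orb z ↔ s • w ∈ orb z := fun z s hs w => by
    rw [horb, horb]
    refine ⟨fun ⟨t, ht, e⟩ => ⟨s * t, mul_mem hs ht, by rw [mul_smul, e]⟩,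
      fun ⟨t, ht, e⟩ => ⟨s⁻¹ * t, mul_mem (inv_mem hs) ht, by rw [mul_smul, e, inv_smul_smul]⟩⟩
  have hdvd : ∀ A : Finset (G4 ⧸ H), (∀ s ∈ S, ∀ w, w ∈ A ↔ s • w ∈ A) → A.Nonempty → A ≠ Finset.univ → A.card = 4 := by
    intro A hA hne hAu
    have := dvd_of_invariant h8 (φ.comp S.subtype) (hinj.comp Subtype.val_injective) (fun s => hsgn s) A
      fun s w => hA s s.2 w
    have h1 : 0 < A.card := hne.card_pos
    have h2 : A.card < 8 := h8 ▸ Finset.card_lt_card (Finset.ssubset_univ_iff.2 hAu)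
    revert this
    interval_cases A.card <;> norm_num [Nat.factorial]
  set A := orb x with hAdef
  have hAu : A ≠ Finset.univ := fun e => hnot ((horb x y).1 (show y ∈ A by rw [e]; exact Finset.mem_univ y))
  have hA4 : A.card = 4 := hdvd A (hinv x) ⟨x, hself x⟩ hAu
  have hB4 : (Aᶜ).card = 4 := by rw [Finset.card_compl, h8, hA4]
  have hBorb : ∀ w, w ∈ Aᶜ → orb w = Aᶜ := by
    intro w hw
    rw [Finset.mem_compl] at hw
    have hsub : orb w ⊆ Aᶜ := fun u hu => by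
      rw [Finset.mem_compl]
      intro huA
      obtain ⟨s, hs, e⟩ := (horb w u).1 hu
      exact hw ((hinv x s hs w).2 (e ▸ huA))
    refine Finset.eq_of_subset_of_card_le hsub ?_
    have hne : orb w ≠ Finset.univ := fun e => by
      have := Finset.mem_compl.1 (hsub (e ▸ Finset.mem_univ x)); exact this (hself x)
    rw [hB4, hdvd _ (hinv w) ⟨w, hself w⟩ hne]
  have hAorb : ∀ w, w ∈ A → orb w = A := by
    intro w hw
    obtain ⟨t, ht, e⟩ := (horb x w).1 hw
    ext u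
    rw [horb, horb]
    exact ⟨fun ⟨s, hs, e'⟩ => ⟨s * t, mul_mem hs ht, by rw [mul_smul, e, e']⟩,
      fun ⟨s, hs, e'⟩ => ⟨s * t⁻¹, mul_mem hs (inv_mem ht), by rw [mul_smul, ← e, inv_smul_smul, e']⟩⟩
  -- `Lu` normalises `S`
  have hLS : ∀ s ∈ S, Lu * s * Lu⁻¹ ∈ S := by
    intro s hs
    obtain ⟨h1, h2, h3, h4⟩ := L_img
    have key : ∀ u v : Fin 4 → Z, Lm' *ᵥ u = v → (s : Matrix (Fin 4) (Fin 4) Z) *ᵥ v = v →
        ((Lu * s * Lu⁻¹ : G4) : Matrix (Fin 4) (Fin 4) Z) *ᵥ u = u := by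
      intro u v huv hsv
      show (Lm * (s : Matrix (Fin 4) (Fin 4) Z) * Lm') *ᵥ u = u
      rw [← mulVec_mulVec, ← mulVec_mulVec, huv, hsv, ← huv, mulVec_mulVec, L_inv.1, one_mulVec]
    refine ⟨key _ _ h3 ?_, key _ _ h4 hs.1⟩
    rw [mulVec_add, hs.1, hs.2]
  -- `Lu` fixes the orbit
  have hLA : ∀ w, w ∈ A → Lu • w ∈ A := by
    intro w hw
    by_contra hout
    have hmap : ∀ u, u ∈ A → Lu • u ∈ Aᶜ := by
      intro u hu
      rw [← hBorb _ (Finset.mem_compl.2 hout), horb]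
      obtain ⟨s, hs, e⟩ := (horb w u).1 (hAorb w hw ▸ hu)
      exact ⟨Lu * s * Lu⁻¹, hLS s hs, by rw [mul_smul, mul_smul, inv_smul_smul, e]⟩
    have himg : A.image (Lu • ·) = Aᶜ := by
      refine Finset.eq_of_subset_of_card_le (fun u hu => ?_) ?_
      · obtain ⟨v, hv, rfl⟩ := Finset.mem_image.1 hu; exact hmap v hv
      · rw [Finset.card_image_of_injective _ (MulAction.injective Lu), hA4, hB4]
    have hback : ∀ u, u ∈ Aᶜ → Lu • u ∈ A := by
      intro u hu
      by_contra hc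
      obtain ⟨v, hv, e⟩ := Finset.mem_image.1 (himg.symm ▸ Finset.mem_compl.2 hc)
      exact (Finset.mem_compl.1 hu) (MulAction.injective Lu e ▸ hv)
    have h3 : Lu * Lu * Lu = 1 := Units.ext L_inv.2.2
    have := hmap _ (hback _ (hmap w hw))
    rw [← mul_smul, ← mul_smul, h3, one_smul, Finset.mem_compl] at this
    exact this hw
  -- the kernel on the orbit
  let K : Set (Fin 4 → Z) := {X | ∀ w ∈ A, trU X • w = w}
  have hadd : ∀ X X', trU (X + X') = trU X * trU X' := fun X X' => Units.ext (tr_add X X').symm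
  have hconj : ∀ (g : G4) (π : (Fin 4 → Z) → Fin 4 → Z), (∀ X, g * trU X = trU (π X) * g) →
      (∀ w ∈ A, g • w ∈ A) → ∀ X ∈ K, π X ∈ K := by
    intro g π hg hgA X hX w hw
    have himg : A.image (g • ·) = A :=
      Finset.eq_of_subset_of_card_le (fun u hu => by obtain ⟨v, hv, rfl⟩ := Finset.mem_image.1 hu; exact hgA v hv)
        (by rw [Finset.card_image_of_injective _ (MulAction.injective g)])
    obtain ⟨v, hv, rfl⟩ := Finset.mem_image.1 (himg.symm ▸ hw)
    rw [← mul_smul, ← hg, mul_smul, hX v hv]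
  have actA : ∀ (C : Finset (G4 ⧸ H)), C.card = 4 → (∀ s ∈ S, ∀ w, w ∈ C ↔ s • w ∈ C) →
      (∀ X, (∀ w ∈ C, trU X • w = w) → X = 0) → False := by
    intro C hC hCi hfaith
    refine not_injective_four C hC (fun X => (φ (trU X)).subtypePerm fun w => (hCi _ (trU_mem X) w).symm)
      (fun X X' => ?_) fun X hX => hfaith X fun w hw => ?_
    · refine Equiv.ext fun w => Subtype.ext ?_
      show trU (X + X') • (w : G4 ⧸ H) = trU X • trU X' • (w : G4 ⧸ H)
      rw [hadd, mul_smul]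
    · exact congrArg Subtype.val (Equiv.ext_iff.1 hX ⟨w, hw⟩)
  obtain ⟨X, hX, hX0⟩ : ∃ X, X ∈ K ∧ X ≠ 0 := by
    by_contra hc
    push Not at hc
    exact actA A hA4 (hinv x) fun X hX => hc X hX
  have hall := closed_all K
    (hconj Lu pL (fun X => Units.ext (tr_L X)) hLA)
    (hconj R1u p1 (fun X => Units.ext (tr_R1 X)) fun w hw => (hinv x R1u ⟨R_fix.1, R_fix.2.1⟩ w).1 hw)
    (hconj R2u p2 (fun X => Units.ext (tr_R2 X)) fun w hw => (hinv x R2u ⟨R_fix.2.2.1, R_fix.2.2.2⟩ w).1 hw)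
    (fun X hX X' hX' w hw => by rw [hadd, mul_smul, hX' w hw, hX w hw]) hX hX0
  refine actA Aᶜ hB4 (fun s hs w => by rw [Finset.mem_compl, Finset.mem_compl, ← hinv x s hs w]) fun X hX => ?_
  have h1 : φ (trU X) = 1 := Equiv.ext fun w => by
    by_cases hw : w ∈ A
    · exact hall X w hw
    · exact hX w (Finset.mem_compl.2 hw)
  exact tr_eq_one X (congrArg Units.val (hinj (h1.trans (map_one φ).symm)))

end Cfsg.Agent.AltSevenGL
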