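import Cfsg.Prelude.Def_Solvable
import Cfsg.Prelude.Def_LieTypeDatum
import Mathlib

/-!
The `p'`-core of the centraliser of an automorphism of prime order of a simple group, in terms of a simple
subgroup of the fixed points with small centraliser.
-/

set_option autoImplicit false
set_option linter.unusedSectionVars false
set_option linter.style.haveILetI false

namespace Cfsg.Agent.Balance

variable {K : Type*} [Group K] [Finite K]

theorem eq_one_of_coprime {G : Type*} [Group G] {p : ℕ} (hp : p.Prime) {x y : G} (hx : orderOf x = p)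
    (hy : y ∈ Subgroup.zpowers x) {n : ℕ} (hn : orderOf y ∣ n) (hco : n.Coprime p) : y = 1 := by
  have h1 : orderOf y ∣ p := hx ▸ orderOf_dvd_of_mem_zpowers hy
  rcases hp.eq_one_or_self_of_dvd _ h1 with h | h
  · exact orderOf_eq_one_iff.1 h
  · rw [h] at hn
    exact absurd hn (hp.coprime_iff_not_dvd.1 hco.symm)

/-- The fixed points. -/
abbrev fixK (x : MulAut K) : Subgroup K := MonoidHom.eqLocus x.toMonoidHom (MonoidHom.id K)

theorem mem_fixK {x : MulAut K} {h : K} : h ∈ fixK x ↔ x h = h := Iff.rfl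

theorem conj_comm_iff {x : MulAut K} (hZ : Function.Injective (MulAut.conj : K →* MulAut K)) (h : K) :
    MulAut.conj h * x = x * MulAut.conj h ↔ x h = h := by
  have e : x * MulAut.conj h = MulAut.conj (x h) * x := MulEquiv.ext fun z => by
    simp [MulAut.conj_apply]
  rw [e, mul_left_inj, hZ.eq_iff, eq_comm]

variable (A : Subgroup (MulAut K)) {p : ℕ} (x : MulAut K)

theorem core_iff_gen (hinn : ∀ k : K, MulAut.conj k ∈ A) (hp : p.Prime) (hord : orderOf x = p)
    (hZ : Function.Injective (MulAut.conj : K →* MulAut K))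
    (hxinn : ∀ k : K, MulAut.conj k ≠ x)
    {G : Type*} [Group G] [Nontrivial G] (f : G →* K) (hf : Function.Injective f)
    (hfix : ∀ g, x (f g) = f g) (hnorm : ∀ h, x h = h → ∀ g, ∃ g', h * f g * h⁻¹ = f g')
    (hdvd : p ∣ Nat.card (fixK x) → p ∣ Nat.card G)
    (hnsub : ∀ N : Subgroup G, N.Normal → N ≠ ⊥ → p ∣ Nat.card G → p ∣ Nat.card N)
    (hcent : ∀ y : MulAut K, y * x = x * y → (∀ g, y (f g) = f g) → y ∈ Subgroup.zpowers x) :
    Cfsg.pPrimeCore p ↥(A ⊓ Subgroup.centralizer {x}) ≠ ⊥ ↔ Nat.Coprime p (Nat.card (fixK x)) := by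
  classical
  set C := A ⊓ Subgroup.centralizer {x} with hC
  have hmem : ∀ h, x h = h → MulAut.conj h ∈ C := fun h hh => Subgroup.mem_inf.2
    ⟨hinn h, Subgroup.mem_centralizer_singleton_iff.2 ((conj_comm_iff hZ h).2 hh)⟩
  let J : fixK x →* C :=
    { toFun := fun h => ⟨MulAut.conj h.1, hmem h.1 h.2⟩
      map_one' := Subtype.ext (map_one _)
      map_mul' := fun a b => Subtype.ext (map_mul _ _ _) }
  have hJ : Function.Injective J := fun a b e => Subtype.ext (hZ (congrArg Subtype.val e))
  have hJconj : ∀ (c : C) (h : fixK x), ∃ h' : fixK x, c * J h * c⁻¹ = J h' ∧ h'.1 = c.1 h.1 := by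
    intro c h
    have hc := Subgroup.mem_centralizer_singleton_iff.1 c.2.2
    refine ⟨⟨c.1 h.1, ?_⟩, Subtype.ext (MulEquiv.ext fun z => ?_), rfl⟩
    · show x (c.1 h.1) = c.1 h.1
      have := DFunLike.congr_fun hc h.1
      rw [MulAut.mul_apply, MulAut.mul_apply, show x h.1 = h.1 from h.2] at this
      exact this.symm
    · show c.1 (MulAut.conj h.1 (c.1⁻¹ z)) = MulAut.conj (c.1 h.1) z
      simp [MulAut.conj_apply]
  constructor
  · intro hne
    by_contra hco
    have hpG : p ∣ Nat.card G := hdvd (not_not.1 fun h => hco (hp.coprime_iff_not_dvd.2 h))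
    refine hne (le_bot_iff.1 (sSup_le fun N hN => ?_))
    obtain ⟨hNn, hNc⟩ := hN
    have hNJ : ∀ h : fixK x, J h ∈ N → h = 1 := by
      have hG : ∀ g : G, J ⟨f g, hfix g⟩ ∈ N → g = 1 := by
        let Jf : G →* C := J.comp (f.codRestrict (fixK x) hfix)
        haveI : (N.comap Jf).Normal := hNn.comap _
        intro g hg
        rcases eq_or_ne (N.comap Jf) ⊥ with h | h
        · exact (Subgroup.mem_bot).1 (h ▸ (show g ∈ N.comap Jf from hg))
        · exfalso
          have hinj : Function.Injective Jf := hJ.comp fun a b e => hf (congrArg Subtype.val e)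
          have hd : p ∣ Nat.card (N.comap Jf) := hnsub _ (hNn.comap Jf) h hpG
          have hle : (N.comap Jf).map Jf ≤ N := Subgroup.map_comap_le _ _
          rw [Nat.card_congr ((N.comap Jf).equivMapOfInjective Jf hinj).toEquiv] at hd
          exact hp.coprime_iff_not_dvd.1 hNc.symm (hd.trans (Subgroup.card_dvd_of_le hle))
      intro h hh
      have hcomm : ∀ g, h.1 * f g * h.1⁻¹ = f g := by
        intro g
        obtain ⟨g', hg'⟩ := hnorm h.1 h.2 g
        have hin : J ⟨f (g' * g⁻¹), hfix _⟩ ∈ N := by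
          have e : (⟨f (g' * g⁻¹), hfix _⟩ : fixK x) = h * (⟨f g, hfix g⟩ * h⁻¹ * (⟨f g, hfix g⟩ : fixK x)⁻¹) :=
            Subtype.ext (by simp [map_mul, map_inv, ← hg', mul_assoc])
          rw [e, map_mul, map_mul, map_mul, map_inv, map_inv]
          exact mul_mem hh (hNn.conj_mem _ (inv_mem hh) _)
        have := hG _ hin
        rw [mul_inv_eq_one] at this
        rw [hg', this]
      have hy : MulAut.conj h.1 ∈ Subgroup.zpowers x := hcent _ ((conj_comm_iff hZ h.1).2 h.2) fun g => by
        rw [MulAut.conj_apply]; exact hcomm g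
      have h1 : orderOf (MulAut.conj h.1) ∣ Nat.card N := by
        have h3 : (⟨J h, hh⟩ : N) ^ Nat.card N = 1 := pow_card_eq_one'
        exact orderOf_dvd_of_pow_eq_one (congrArg (fun z : N => ((z : C) : MulAut K)) h3)
      exact Subtype.ext (hZ ((eq_one_of_coprime hp hord hy h1 hNc).trans (map_one _).symm))
    intro n hn
    rw [Subgroup.mem_bot]
    have hny : ((n : C) : MulAut K) ∈ Subgroup.zpowers x := by
      refine hcent _ (Subgroup.mem_centralizer_singleton_iff.1 n.2.2) fun g => ?_
      obtain ⟨h', e, e'⟩ := hJconj n ⟨f g, hfix g⟩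
      have hin : J (h' * (⟨f g, hfix g⟩ : fixK x)⁻¹) ∈ N := by
        rw [map_mul, map_inv, ← e, mul_assoc, mul_assoc n, ← mul_assoc (J _)]
        exact mul_mem hn (hNn.conj_mem _ (inv_mem hn) _)
      have := hNJ _ hin
      rw [mul_inv_eq_one] at this
      rw [← e', this]
    have h1 : orderOf ((n : C) : MulAut K) ∣ Nat.card N := by
      have h3 : (⟨n, hn⟩ : N) ^ Nat.card N = 1 := pow_card_eq_one'
      exact orderOf_dvd_of_pow_eq_one (congrArg (fun z : N => ((z : C) : MulAut K)) h3)
    exact Subtype.ext (eq_one_of_coprime hp hord hny h1 hNc)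
  · intro hco hbot
    obtain ⟨g, hg⟩ := exists_ne (1 : G)
    have hJn : J.range.Normal := ⟨by
      rintro _ ⟨h, rfl⟩ c
      obtain ⟨h', e, -⟩ := hJconj c h
      exact ⟨h', e.symm⟩⟩
    have hle : J.range ≤ Cfsg.pPrimeCore p C :=
      le_sSup ⟨hJn, by rw [← Nat.card_congr (MonoidHom.ofInjective hJ).toEquiv]; exact hco.symm⟩
    rw [hbot] at hle
    have := hle ⟨⟨f g, hfix g⟩, rfl⟩
    rw [Subgroup.mem_bot, ← map_one J] at this
    exact hg (hf ((congrArg Subtype.val (hJ this)).trans (map_one f).symm))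

/-- Elements of a finite group acting faithfully that fix the fixed field lie in the group. -/
theorem mem_zpowers_of_fix {F : Type*} [Field F] [Finite F] (σ τ : F ≃+* F)
    (h : ∀ a, σ a = a → τ a = a) : τ ∈ Subgroup.zpowers σ := by
  classical
  haveI := Fintype.ofFinite F
  haveI : Finite (F ≃+* F) := Finite.of_injective (fun e => (e : F → F)) DFunLike.coe_injective
  set G := Subgroup.zpowers σ
  haveI := Fintype.ofFinite G
  have hτ : ∀ a : FixedPoints.subfield G F, τ (a : F) = a := fun a =>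
    h _ (a.2 (⟨σ, Subgroup.mem_zpowers σ⟩ : G))
  let τ' : F →ₐ[FixedPoints.subfield G F] F := { τ.toRingHom with commutes' := hτ }
  obtain ⟨g, hg⟩ := (FixedPoints.toAlgHom_bijective G F).2 τ'
  have : τ = g.1 := RingEquiv.ext fun a => (DFunLike.congr_fun hg a).symm
  exact this ▸ g.2

end Cfsg.Agent.Balance
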