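import Cfsg.Agent.Lib.Classical.WittExt
import Cfsg.Prelude.Def_Classical

/-!
Maximal totally singular subspaces of the hyperbolic quadric.
-/

set_option autoImplicit false
set_option linter.style.haveILetI false

open Module QuadraticMap

namespace Cfsg.Agent.Classical.PlusMax

variable {F : Type*} [Field F] {m : ℕ}

abbrev V (F : Type*) (m : ℕ) : Type _ := Fin m ⊕ Fin m → F

/-- A bilinear form with the hyperbolic quadratic form as diagonal. -/
def B0 : V F m →ₗ[F] V F m →ₗ[F] F :=
  LinearMap.mk₂ F (fun u v => ∑ i, u (.inl i) * v (.inr i))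
    (fun u u' v => by simp [add_mul, Finset.sum_add_distrib])
    (fun c u v => by simp [Finset.mul_sum, mul_assoc])
    (fun u v v' => by simp [mul_add, Finset.sum_add_distrib])
    (fun c u v => by simp [Finset.mul_sum, mul_left_comm])

/-- The hyperbolic form. -/
def QP : QuadraticForm F (V F m) := LinearMap.BilinMap.toQuadraticMap (B0 (F := F) (m := m))

theorem QP_apply (v : V F m) : QP v = Cfsg.quadFormPlus m F v := rfl

theorem polar_QP (u v : V F m) :
    polar QP u v = ∑ i, (u (.inl i) * v (.inr i) + v (.inl i) * u (.inr i)) := by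
  rw [QP, LinearMap.BilinMap.polar_toQuadraticMap]
  simp [B0, Finset.sum_add_distrib]

theorem nondeg : (polarBilin (QP (F := F) (m := m))).Nondegenerate := by
  have h1 : ∀ u : V F m, (∀ v, polar QP u v = 0) → u = 0 := by
    intro u hu
    funext i
    rcases i with i | i
    · have := hu (Pi.single (.inr i) 1)
      simpa [polar_QP, Pi.single_apply] using this
    · have := hu (Pi.single (.inl i) 1)
      simpa [polar_QP, Pi.single_apply] using this
  exact ⟨h1, fun v hv => h1 v fun u => by rw [polar_comm]; exact hv u⟩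

/-- Totally singular subspaces of maximal dimension. -/
def Gen (W : Submodule F (V F m)) : Prop := finrank F W = m ∧ ∀ w ∈ W, Cfsg.quadFormPlus m F w = 0

theorem Gen.polar_eq_zero {W : Submodule F (V F m)} (hW : Gen W) {u v : V F m} (hu : u ∈ W) (hv : v ∈ W) :
    polar QP u v = 0 := by
  rw [polar, QP_apply, QP_apply, QP_apply, hW.2 _ (W.add_mem hu hv), hW.2 _ hu, hW.2 _ hv]; ring

theorem finrank_V : finrank F (V F m) = 2 * m := by
  rw [finrank_pi, Fintype.card_sum, Fintype.card_fin]; omega

/-- The polar orthogonal. -/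
abbrev perp (T : Submodule F (V F m)) : Submodule F (V F m) :=
  LinearMap.BilinForm.orthogonal (polarBilin (QP (F := F) (m := m))) T

theorem mem_perp (T : Submodule F (V F m)) (x : V F m) : x ∈ perp T ↔ ∀ t ∈ T, polar QP t x = 0 := Iff.rfl

theorem finrank_perp (T : Submodule F (V F m)) : finrank F (perp T) = 2 * m - finrank F T := by
  rw [LinearMap.BilinForm.finrank_orthogonal nondeg, finrank_V]

theorem Gen.perp_eq {W : Submodule F (V F m)} (hW : Gen W) : W = perp W := by
  refine Submodule.eq_of_le_of_finrank_le (fun x hx => (mem_perp W x).2 fun t ht => hW.polar_eq_zero ht hx) ?_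
  rw [finrank_perp, hW.1]; omega

/-- Codimension of the intersection. -/
noncomputable def f (U W : Submodule F (V F m)) : ℕ := m - finrank F ↥(U ⊓ W)

theorem f_le {U W : Submodule F (V F m)} (hU : Gen U) : finrank F ↥(U ⊓ W) ≤ m := by
  have := Submodule.finrank_mono (inf_le_left : U ⊓ W ≤ U)
  rw [hU.1] at this; exact this

theorem f_comm (U W : Submodule F (V F m)) : f U W = f W U := by rw [f, f, inf_comm]

theorem f_self {U : Submodule F (V F m)} (hU : Gen U) : f U U = 0 := by rw [f, inf_idem, hU.1, Nat.sub_self]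

/-- Neighbouring generators have intersections of opposite parity with a third one. -/
theorem step {U W X : Submodule F (V F m)} (hU : Gen U) (hW : Gen W) (hX : Gen X) (h : f U W = 1) :
    finrank F ↥(U ⊓ X) = finrank F ↥(W ⊓ X) + 1 ∨ finrank F ↥(W ⊓ X) = finrank F ↥(U ⊓ X) + 1 := by
  set T := U ⊓ W with hT
  have hTd : finrank F T + 1 = m := by
    have := f_le (W := W) hU
    rw [f] at h
    show finrank F ↥(U ⊓ W) + 1 = m
    omega
  have hTX : finrank F ↥(perp T ⊓ X) = finrank F ↥(T ⊓ X) + 1 := by
    have h1 := Submodule.finrank_sup_add_finrank_inf_eq (perp T) X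
    have h2 : perp (perp T ⊔ X) = T ⊓ X := by
      apply le_antisymm
      · intro x hx
        rw [mem_perp] at hx
        refine ⟨?_, ?_⟩
        · have : x ∈ perp (perp T) := (mem_perp _ _).2 fun t ht => hx t (Submodule.mem_sup_left ht)
          rwa [perp, LinearMap.BilinForm.orthogonal_orthogonal nondeg
            (fun a b hab => by
              have h' : polar QP a b = 0 := hab
              show polar QP b a = 0
              rw [polar_comm]; exact h') T] at this
        · rw [hX.perp_eq, SetLike.mem_coe, mem_perp]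
          exact fun t ht => hx t (Submodule.mem_sup_right ht)
      · intro x hx
        obtain ⟨hxT, hxX⟩ := Submodule.mem_inf.1 hx
        rw [mem_perp]
        intro t ht
        obtain ⟨a, ha, b, hb, rfl⟩ := Submodule.mem_sup.1 ht
        rw [polar_add_left, polar_comm (⇑QP) a x, (mem_perp _ _).1 ha x hxT, hX.polar_eq_zero hb hxX, add_zero]
    have h3 := finrank_perp (perp T ⊔ X)
    rw [h2] at h3
    have h4 := finrank_perp T
    have h5 := Submodule.finrank_le (perp T ⊔ X)
    rw [finrank_V] at h5
    have h6 := Submodule.finrank_mono (inf_le_right : T ⊓ X ≤ X)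
    rw [hX.1] at h6 h1
    omega
  have hUperp : ∀ {A : Submodule F (V F m)}, Gen A → T ≤ A → A ≤ perp T := fun {A} hA hle x hx =>
    (mem_perp _ _).2 fun t ht => hA.polar_eq_zero (hle ht) hx
  have hUW : U ⊔ W = perp T := by
    refine Submodule.eq_of_le_of_finrank_le (sup_le (hUperp hU inf_le_left) (hUperp hW inf_le_right)) ?_
    have h1 := Submodule.finrank_sup_add_finrank_inf_eq U W
    rw [hU.1, hW.1, ← hT] at h1
    rw [finrank_perp]; omega
  have hcases : perp T ⊓ X ≤ U ∨ perp T ⊓ X ≤ W := by
    by_contra hc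
    rw [not_or, SetLike.not_le_iff_exists, SetLike.not_le_iff_exists] at hc
    obtain ⟨⟨a, ha, haU⟩, ⟨b, hb, hbW⟩⟩ := hc
    obtain ⟨y, hy, hyU, hyW⟩ : ∃ y ∈ perp T ⊓ X, y ∉ U ∧ y ∉ W := by
      by_cases h1 : a ∈ W
      · by_cases h2 : b ∈ U
        · exact ⟨a + b, add_mem ha hb, fun h => haU (by simpa using U.sub_mem h h2),
            fun h => hbW (by simpa using W.sub_mem h h1)⟩
        · exact ⟨b, hb, h2, hbW⟩
      · exact ⟨a, ha, haU, h1⟩
    obtain ⟨hyT, hyX⟩ := Submodule.mem_inf.1 hy
    rw [← hUW] at hyT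
    obtain ⟨u, hu, w, hw, rfl⟩ := Submodule.mem_sup.1 hyT
    have hq : polar QP u w = 0 := by
      have h0 := hX.2 _ hyX
      rw [← QP_apply, QuadraticMap.map_add (⇑QP), QP_apply, QP_apply, hU.2 u hu, hW.2 w hw] at h0
      simpa using h0
    -- `u` is orthogonal to both generators
    have huT : u ∈ T := by
      refine ⟨hu, ?_⟩
      rw [hW.perp_eq, SetLike.mem_coe, mem_perp]
      intro t ht
      have hspan : T ⊔ Submodule.span F {w} = W := by
        have hwT : w ∉ T := fun hwT => hyU (U.add_mem hu hwT.1)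
        refine Submodule.eq_of_le_of_finrank_le (sup_le inf_le_right ((Submodule.span_singleton_le_iff_mem _ _).2 hw)) ?_
        have hlt : T < T ⊔ Submodule.span F {w} := lt_of_le_of_ne le_sup_left fun e =>
          hwT (e ▸ Submodule.mem_sup_right (Submodule.mem_span_singleton_self w))
        have := Submodule.finrank_lt_finrank_of_lt hlt
        rw [hW.1]; omega
      rw [← hspan] at ht
      obtain ⟨t1, ht1, t2, ht2, rfl⟩ := Submodule.mem_sup.1 ht
      obtain ⟨s, rfl⟩ := Submodule.mem_span_singleton.1 ht2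
      rw [polar_add_left, polar_smul_left, hU.polar_eq_zero ht1.1 hu, polar_comm (⇑QP) w u, hq]
      simp
    exact hyW (W.add_mem huT.2 hw)
  have hUX : U ⊓ X = perp T ⊓ X ⊓ U := by
    ext x
    simp only [Submodule.mem_inf]
    exact ⟨fun h => ⟨⟨hUperp hU inf_le_left h.1, h.2⟩, h.1⟩, fun h => ⟨h.2, h.1.2⟩⟩
  have hWX : W ⊓ X = perp T ⊓ X ⊓ W := by
    ext x
    simp only [Submodule.mem_inf]
    exact ⟨fun h => ⟨⟨hUperp hW inf_le_right h.1, h.2⟩, h.1⟩, fun h => ⟨h.2, h.1.2⟩⟩
  rcases hcases with hc | hc
  · left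
    have e1 : U ⊓ X = perp T ⊓ X := by rw [hUX, inf_eq_left.2 hc]
    have e2 : W ⊓ X = T ⊓ X := by
      refine le_antisymm (le_inf (le_inf ?_ inf_le_left) inf_le_right) (inf_le_inf_right X inf_le_right)
      exact (hWX.le.trans inf_le_left).trans hc
    rw [e1, e2, hTX]
  · right
    have e1 : W ⊓ X = perp T ⊓ X := by rw [hWX, inf_eq_left.2 hc]
    have e2 : U ⊓ X = T ⊓ X := by
      refine le_antisymm (le_inf (le_inf inf_le_left ?_) inf_le_right) (inf_le_inf_right X inf_le_left)
      exact (hUX.le.trans inf_le_left).trans hc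
    rw [e1, e2, hTX]

/-- Moving one step from `W` towards `U`. -/
theorem exists_nearer {U W : Submodule F (V F m)} (hU : Gen U) (hW : Gen W) (h : 0 < f U W) :
    ∃ W', Gen W' ∧ f W W' = 1 ∧ f U W' < f U W := by
  obtain ⟨u, hu, huW⟩ : ∃ u ∈ U, u ∉ W := by
    by_contra hc
    push Not at hc
    rw [f, inf_eq_left.2 (fun x hx => hc x hx : U ≤ W), hU.1] at h
    omega
  set T := W ⊓ LinearMap.ker (polarBilin QP u) with hT
  have hTd : m ≤ finrank F T + 1 := by
    have h1 := Submodule.finrank_sup_add_finrank_inf_eq W (LinearMap.ker (polarBilin QP u))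
    have h2 := LinearMap.finrank_range_add_finrank_ker (polarBilin QP u)
    have h3 := Submodule.finrank_le (LinearMap.range (polarBilin QP u))
    have h4 := Submodule.finrank_le (W ⊔ LinearMap.ker (polarBilin QP u))
    rw [finrank_V] at h2 h4
    rw [finrank_self] at h3
    rw [hW.1, ← hT] at h1
    omega
  have hperp : ∀ t ∈ T, polar QP t u = 0 := fun t ht => by rw [polar_comm]; exact ht.2
  set W' := T ⊔ Submodule.span F {u} with hW'
  have hsing : ∀ x ∈ W', Cfsg.quadFormPlus m F x = 0 := by
    intro x hx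
    obtain ⟨t, ht, b, hb, rfl⟩ := Submodule.mem_sup.1 hx
    obtain ⟨s, rfl⟩ := Submodule.mem_span_singleton.1 hb
    rw [← QP_apply, WittExt.quad_expand, QP_apply, QP_apply, hW.2 t ht.1, hU.2 u hu, hperp t ht]; ring
  have hlt : T < W' := lt_of_le_of_ne le_sup_left fun e =>
    huW ((e ▸ Submodule.mem_sup_right (Submodule.mem_span_singleton_self u) : u ∈ T).1)
  have h1 := Submodule.finrank_lt_finrank_of_lt hlt
  have hW'le : 2 * finrank F W' ≤ 2 * m := by
    have hle : W' ≤ perp W' := fun x hx => (mem_perp _ _).2 fun t ht => by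
      rw [polar, QP_apply, QP_apply, QP_apply, hsing _ (add_mem ht hx), hsing _ ht, hsing _ hx]; ring
    have := Submodule.finrank_mono hle
    rw [finrank_perp] at this
    omega
  have hgen : Gen W' := ⟨by omega, hsing⟩
  have hu0 : u ∈ W' := Submodule.mem_sup_right (Submodule.mem_span_singleton_self u)
  refine ⟨W', hgen, ?_, ?_⟩
  · have hle : T ≤ W ⊓ W' := le_inf inf_le_left le_sup_left
    have h2 := Submodule.finrank_mono hle
    have h3 : finrank F ↥(W ⊓ W') < finrank F W' :=
      Submodule.finrank_lt_finrank_of_lt (lt_of_le_of_ne inf_le_right fun e => huW (show u ∈ W ⊓ W' by rw [e]; exact hu0).1)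
    rw [f, hgen.1] at *
    omega
  · have hlt2 : U ⊓ W < U ⊓ W' := by
      refine lt_of_le_of_ne (le_inf inf_le_left fun x hx => Submodule.mem_sup_left ⟨hx.2, ?_⟩) fun e => huW ?_
      · exact hU.polar_eq_zero hu hx.1
      · exact ((e ▸ ⟨hu, hu0⟩ : u ∈ U ⊓ W)).2
    have h4 := Submodule.finrank_lt_finrank_of_lt hlt2
    have h5 := f_le (W := W') hU
    rw [f, f]; omega

theorem parity_aux : ∀ (k : ℕ) (U W X : Submodule F (V F m)), Gen U → Gen W → Gen X → f U W ≤ k →
    Even (f U W + f W X + f U X) := by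
  intro k
  induction k with
  | zero =>
    intro U W X hU hW _ hk
    have h1 := f_le (W := W) hU
    have hUW : U = W := Submodule.eq_of_le_of_finrank_le
      (inf_eq_left.1 (Submodule.eq_of_le_of_finrank_le inf_le_left (by rw [hU.1]; rw [f] at hk; omega)))
      (by rw [hU.1, hW.1])
    subst hUW
    rw [f_self hU, zero_add]
    exact ⟨f U X, rfl⟩
  | succ k ih =>
    intro U W X hU hW hX hk
    by_cases h0 : f U W ≤ k
    · exact ih U W X hU hW hX h0
    obtain ⟨W', hW', h1, h2⟩ := exists_nearer hU hW (by omega)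
    obtain ⟨a, ha⟩ := ih U W' X hU hW' hX (by omega)
    have hs := step hW hW' hX h1
    have hs' := step hW hW' hU h1
    have b1 := f_le (W := X) hW
    have b2 := f_le (W := X) hW'
    have b3 := f_le (W := W) hU
    have b4 := f_le (W := W') hU
    rw [inf_comm W U, inf_comm W' U] at hs'
    rw [Nat.even_iff]
    simp only [f] at *
    omega

theorem parity {U W X : Submodule F (V F m)} (hU : Gen U) (hW : Gen W) (hX : Gen X) :
    Even (f U W + f W X + f U X) := parity_aux _ U W X hU hW hX le_rfl

/-- The coordinate generator, with the given indices taken from the second half. -/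
def std (c : Fin m → Bool) : Submodule F (V F m) where
  carrier := {v | ∀ i, (if c i then v (.inl i) else v (.inr i)) = 0}
  add_mem' {a b} ha hb i := by have h1 := ha i; have h2 := hb i; split_ifs at * <;> simp [h1, h2]
  zero_mem' i := by split_ifs <;> rfl
  smul_mem' s v hv i := by have h1 := hv i; split_ifs at * <;> simp [h1]

/-- Coordinates on a coordinate generator. -/
def stdEquiv (c : Fin m → Bool) : std (F := F) c ≃ₗ[F] (Fin m → F) where
  toFun v i := if c i then v.1 (.inr i) else v.1 (.inl i)
  map_add' u v := funext fun i => by simp only [Pi.add_apply]; split_ifs <;> simp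
  map_smul' s v := funext fun i => by simp only [Pi.smul_apply]; split_ifs <;> simp
  invFun w := ⟨Sum.elim (fun i => if c i then 0 else w i) (fun i => if c i then w i else 0), fun i => by
    split_ifs with h <;> simp [h]⟩
  left_inv v := Subtype.ext (funext fun s => by
    rcases s with i | i
    · have := v.2 i
      show (if c i then (0 : F) else _) = _
      split_ifs at * with h
      · exact this.symm
      · rfl
    · have := v.2 i
      show (if c i then _ else (0 : F)) = _
      split_ifs at * with h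
      · rfl
      · exact this.symm)
  right_inv w := funext fun i => by
    show (if c i then (if c i then w i else 0) else (if c i then 0 else w i)) = w i
    split_ifs <;> rfl

theorem gen_std (c : Fin m → Bool) : Gen (std (F := F) c) := by
  refine ⟨by rw [LinearEquiv.finrank_eq (stdEquiv c), finrank_pi, Fintype.card_fin], fun w hw => ?_⟩
  refine Finset.sum_eq_zero fun i _ => ?_
  have := hw i
  split_ifs at this <;> simp [this]

theorem exists_adjacent (hm : 1 ≤ m) : ∃ U W : Submodule F (V F m), Gen U ∧ Gen W ∧ finrank F ↥(U ⊓ W) + 1 = m := by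
  let c : Fin m → Bool := fun i => decide (i = ⟨0, hm⟩)
  refine ⟨std fun _ => false, std c, gen_std _, gen_std _, ?_⟩
  let π : std (F := F) (fun _ : Fin m => false) →ₗ[F] F :=
    (LinearMap.proj ⟨0, hm⟩).comp (stdEquiv (fun _ : Fin m => false)).toLinearMap
  have hker : (LinearMap.ker π).map (std (F := F) (fun _ : Fin m => false)).subtype =
      std (fun _ => false) ⊓ std c := by
    ext v
    constructor
    · rintro ⟨w, hw, rfl⟩
      refine ⟨w.2, fun i => ?_⟩
      have h0 : w.1 (.inl ⟨0, hm⟩) = 0 := hw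
      have h1 : w.1 (.inr i) = 0 := w.2 i
      by_cases hi : i = ⟨0, hm⟩
      · subst hi; simp [c, h0]
      · simp [c, hi, h1]
    · rintro ⟨h1, h2⟩
      refine ⟨⟨v, h1⟩, ?_, rfl⟩
      have := h2 ⟨0, hm⟩
      simp [c] at this
      exact this
  rw [← hker, Submodule.finrank_map_subtype_eq]
  have h := LinearMap.finrank_range_add_finrank_ker π
  rw [LinearMap.range_eq_top.2 (fun a => ⟨(stdEquiv fun _ : Fin m => false).symm (fun _ => a), by simp [π]⟩),
    finrank_top, finrank_self, (gen_std (F := F) (fun _ : Fin m => false)).1] at h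
  omega

theorem exists_through (U : Submodule F (V F m)) (hm : 1 ≤ m)
    (hU : finrank F U + 1 = m ∧ ∀ u ∈ U, Cfsg.quadFormPlus m F u = 0) :
    ∃ W₁ W₂, Gen W₁ ∧ Gen W₂ ∧ U ≤ W₁ ∧ U ≤ W₂ ∧ W₁ ≠ W₂ := by
  obtain ⟨A, B, hA, hB, hAB⟩ := exists_adjacent (F := F) hm
  let e : U ≃ₗ[F] ↥(A ⊓ B) := LinearEquiv.ofFinrankEq U ↥(A ⊓ B) (by omega)
  obtain ⟨g, hg, hgx⟩ := WittExt.extend QP nondeg _ U ((A ⊓ B).subtype.comp e.toLinearMap) rfl
    ((A ⊓ B).injective_subtype.comp e.injective)
    (fun x => by rw [QP_apply, QP_apply, hU.2 _ x.2]; exact hA.2 _ (e x).2.1)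
  have hgen : ∀ {A : Submodule F (V F m)}, Gen A → Gen (A.map g.symm.toLinearMap) := fun {A} hA => by
    refine ⟨?_, ?_⟩
    · exact (LinearEquiv.finrank_map_eq g.symm A).trans hA.1
    · rintro _ ⟨a, ha, rfl⟩
      show Cfsg.quadFormPlus m F (g.symm a) = 0
      rw [← QP_apply, ← hg (g.symm a), LinearEquiv.apply_symm_apply, QP_apply, hA.2 a ha]
  have hle : ∀ {A' : Submodule F (V F m)}, A ⊓ B ≤ A' → U ≤ A'.map g.symm.toLinearMap := fun {A'} h u hu =>
    ⟨g u, h (by rw [show g u = _ from hgx ⟨u, hu⟩]; exact (e ⟨u, hu⟩).2), g.symm_apply_apply u⟩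
  refine ⟨_, _, hgen hA, hgen hB, hle inf_le_left, hle inf_le_right, fun e' => ?_⟩
  have := Submodule.map_injective_of_injective g.symm.injective e'
  rw [this, inf_idem, hB.1] at hAB
  omega

end Cfsg.Agent.Classical.PlusMax
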