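import Cfsg.Agent.Lib.Classical.SymplecticMatrix
import Cfsg.Agent.Lib.Classical.PlusMaximal

/-!
Square roots of semilinear quadratic differences in characteristic two.
-/

set_option autoImplicit false
set_option linter.style.haveILetI false

open Module QuadraticMap

namespace Cfsg.Agent.Classical.CharTwo

variable {F : Type*} [Field F] [Finite F] [CharP F 2]

omit [Finite F] in
theorem two_zero : (2 : F) = 0 := by exact_mod_cast CharP.cast_eq_zero F 2

omit [Finite F] in
theorem sq_inj {a b : F} (h : a ^ 2 = b ^ 2) : a = b := by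
  have h' : (a - b) ^ 2 = 0 := by linear_combination h + (b ^ 2 - a * b) * two_zero (F := F)
  exact sub_eq_zero.1 (pow_eq_zero_iff two_ne_zero |>.1 h')

/-- A square-semilinear additive map is the square of a linear form. -/
theorem exists_sqrt_linear {V : Type*} [AddCommGroup V] [Module F V] (D : V → F)
    (hadd : ∀ u v, D (u + v) = D u + D v) (hsmul : ∀ (c : F) v, D (c • v) = c ^ 2 * D v) :
    ∃ f : Dual F V, ∀ v, f v ^ 2 = D v := by
  have hex : ∀ x : F, ∃ r, r ^ 2 = x := fun x => by
    obtain ⟨r, hr⟩ := FiniteField.isSquare_of_char_two (ringChar.eq F 2) x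
    exact ⟨r, by rw [hr, pow_two]⟩
  choose r hr using hex
  exact ⟨{ toFun := fun v => r (D v)
           map_add' := fun u v => sq_inj (by
             rw [hr, hadd]; linear_combination -hr (D u) - hr (D v) - (r (D u) * r (D v)) * two_zero (F := F))
           map_smul' := fun c v => sq_inj (by rw [hr, hsmul, RingHom.id_apply, smul_eq_mul, mul_pow, hr]) },
    fun v => hr _⟩

omit [Finite F] in
theorem polar_QP_eq_sympB {m : ℕ} (u v : Fin m ⊕ Fin m → F) :
    polar (PlusMax.QP (F := F) (m := m)) u v = Sp.sympB F m u v := by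
  rw [PlusMax.polar_QP, Sp.sympB_sum]
  have h : (-1 : F) = 1 := by linear_combination -two_zero (F := F)
  simp [Finset.sum_add_distrib, sub_eq_add_neg, Finset.sum_neg_distrib, CharTwo.neg_eq, mul_comm, add_comm]

end Cfsg.Agent.Classical.CharTwo
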