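import Mathlib

/-!
Bounds on lengths of subnormal series.  `LenLE G c` says that three times the number of strict
steps of every subnormal series reaching the whole group is at most `c` (the factor three avoids
rounding in the bound of four thirds of the degree for permutation groups).
-/

set_option autoImplicit false
set_option linter.style.haveILetI false

namespace Cfsg.Agent.Classical

open Finset ArithmeticFunction
open scoped ArithmeticFunction.Omega _root_.Classical

/-- Three times the number of strict steps of a subnormal series ending at the top is `≤ c`. -/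
def LenLE (G : Type*) [Group G] (c : ℕ) : Prop :=
  ∀ (l : ℕ) (H : ℕ → Subgroup G), H l = ⊤ → (∀ i < l, H i ≤ H (i + 1)) →
    (∀ i < l, ∀ a ∈ H i, ∀ b ∈ H (i + 1), b * a * b⁻¹ ∈ H i) →
    3 * ((range l).filter (fun i => H i ≠ H (i + 1))).card ≤ c

theorem LenLE.mono {G : Type*} [Group G] {c d : ℕ} (h : LenLE G c) (hcd : c ≤ d) : LenLE G d :=
  fun l H h1 h2 h3 => (h l H h1 h2 h3).trans hcd

theorem LenLE.of_ker {G H : Type*} [Group G] [Group H] (f : G →* H)
    (hf : Function.Surjective f) {a b : ℕ} (ha : LenLE f.ker a) (hb : LenLE H b) :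
    LenLE G (a + b) := by
  intro l K htop hle hnorm
  have h1 := ha l (fun i => (K i).subgroupOf f.ker) (by simp [htop])
    (fun i hi => Subgroup.comap_mono (hle i hi))
    (fun i hi x hx y hy => hnorm i hi _ hx _ hy)
  have h2 := hb l (fun i => (K i).map f) (by rw [htop]; exact Subgroup.map_top_of_surjective f hf)
    (fun i hi => Subgroup.map_mono (hle i hi))
    (fun i hi x hx y hy => by
      obtain ⟨x, hx, rfl⟩ := hx
      obtain ⟨y, hy, rfl⟩ := hy
      exact ⟨_, hnorm i hi x hx y hy, by simp⟩)
  have key : (range l).filter (fun i => K i ≠ K (i + 1)) ⊆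
      (range l).filter (fun i => (K i).subgroupOf f.ker ≠ (K (i + 1)).subgroupOf f.ker) ∪
        (range l).filter (fun i => (K i).map f ≠ (K (i + 1)).map f) := by
    intro i hi
    rw [mem_filter] at hi
    by_contra hc
    simp only [mem_union, mem_filter, hi.1, true_and, not_or, not_not] at hc
    apply hi.2
    refine le_antisymm (hle i (mem_range.1 hi.1)) fun x hx => ?_
    obtain ⟨y, hy, hyx⟩ : f x ∈ (K i).map f := hc.2 ▸ Subgroup.mem_map_of_mem f hx
    have hk : y⁻¹ * x ∈ f.ker := by simp [MonoidHom.mem_ker, hyx]
    have hk' : (⟨_, hk⟩ : f.ker) ∈ (K i).subgroupOf f.ker := by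
      rw [hc.1, Subgroup.mem_subgroupOf]
      exact mul_mem (inv_mem (hle i (mem_range.1 hi.1) hy)) hx
    rw [Subgroup.mem_subgroupOf] at hk'
    simpa using mul_mem hy hk'
  have h3 := (card_le_card key).trans (card_union_le _ _)
  omega

theorem LenLE.of_surjective {G H : Type*} [Group G] [Group H] (f : G →* H)
    (hf : Function.Surjective f) {c : ℕ} (h : LenLE G c) : LenLE H c := by
  intro l K htop hle hnorm
  have h1 := h l (fun i => (K i).comap f) (by simp [htop])
    (fun i hi => Subgroup.comap_mono (hle i hi))
    (fun i hi x hx y hy => by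
      rw [Subgroup.mem_comap, map_mul, map_mul, map_inv]
      exact hnorm i hi _ hx _ hy)
  refine le_trans ?_ h1
  gcongr with i hi
  exact fun e => Subgroup.comap_injective hf e

/-- A proper quotient has strictly smaller length. -/
theorem LenLE.of_surjective_strict {G H : Type*} [Group G] [Group H] (f : G →* H)
    (hf : Function.Surjective f) (hker : f.ker ≠ ⊥) {c : ℕ} (h : LenLE G c) :
    3 ≤ c ∧ LenLE H (c - 3) := by
  have main : ∀ (l : ℕ) (K : ℕ → Subgroup H), K l = ⊤ → (∀ i < l, K i ≤ K (i + 1)) →
      (∀ i < l, ∀ a ∈ K i, ∀ b ∈ K (i + 1), b * a * b⁻¹ ∈ K i) →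
      3 * ((range l).filter (fun i => K i ≠ K (i + 1))).card + 3 ≤ c := by
    intro l K htop hle hnorm
    let K' : ℕ → Subgroup G := fun i => if i = 0 then ⊥ else (K (i - 1)).comap f
    have e1 : ∀ i, K' (i + 1) = (K i).comap f := fun i => by simp [K']
    have h0 : K' 0 = ⊥ := by simp [K']
    have h1 := h (l + 1) K' (by rw [e1, htop, Subgroup.comap_top])
      (fun i hi => by
        rcases i with _ | i
        · rw [h0]; exact bot_le
        · rw [e1, e1]; exact Subgroup.comap_mono (hle i (by omega)))
      (fun i hi x hx y hy => by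
        rcases i with _ | i
        · rw [h0, Subgroup.mem_bot] at hx ⊢; simp [hx]
        · rw [e1] at hx hy ⊢
          rw [Subgroup.mem_comap, map_mul, map_mul, map_inv]
          exact hnorm i (by omega) _ hx _ hy)
    have key : insert 0 (((range l).filter (fun i => K i ≠ K (i + 1))).image Nat.succ) ⊆
        (range (l + 1)).filter (fun i => K' i ≠ K' (i + 1)) := by
      intro i hi
      rw [Finset.mem_insert] at hi
      rw [mem_filter, mem_range]
      rcases hi with rfl | hi
      · refine ⟨by omega, fun e => hker (le_bot_iff.1 ?_)⟩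
        rw [← h0, e, e1]
        exact f.ker_le_comap (K 0)
      · obtain ⟨j, hj, rfl⟩ := Finset.mem_image.1 hi
        rw [mem_filter, mem_range] at hj
        refine ⟨by omega, fun e => hj.2 ?_⟩
        rw [e1, e1] at e
        exact Subgroup.comap_injective hf e
    have h2 := card_le_card key
    rw [card_insert_of_notMem (by simp), card_image_of_injective _ Nat.succ_injective] at h2
    omega
  refine ⟨?_, fun l K h1 h2 h3 => by have := main l K h1 h2 h3; omega⟩
  have := main 0 (fun _ => ⊤) rfl (fun i hi => le_rfl) (fun i hi => by omega)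
  omega

theorem LenLE.of_mulEquiv {G H : Type*} [Group G] [Group H] (e : G ≃* H) {c : ℕ}
    (h : LenLE G c) : LenLE H c :=
  h.of_surjective e.toMonoidHom e.surjective

theorem lenLE_of_subsingleton {G : Type*} [Group G] [Subsingleton G] (c : ℕ) : LenLE G c := by
  intro l H h1 h2 h3
  have : (range l).filter (fun i => H i ≠ H (i + 1)) = ∅ := by
    rw [Finset.filter_eq_empty_iff]
    intro i _
    exact not_not.2 (Subsingleton.elim _ _)
  simp [this]

theorem cardFactors_lt_of_lt {G : Type*} [Group G] [Finite G] {H K : Subgroup G} (h : H < K) :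
    Ω (Nat.card H) < Ω (Nat.card K) := by
  obtain ⟨m, hm⟩ := Subgroup.card_dvd_of_le h.le
  have hK : Nat.card K ≠ 0 := Nat.card_pos.ne'
  have hm0 : m ≠ 0 := by rintro rfl; rw [mul_zero] at hm; exact hK hm
  rw [hm, cardFactors_mul Nat.card_pos.ne' hm0]
  have : 0 < Ω m := by
    rw [cardFactors_pos_iff_one_lt]
    by_contra h1
    have : m = 1 := by omega
    subst this
    exact h.ne (Subgroup.eq_of_le_of_card_ge h.le (by rw [hm, mul_one]))
  omega

theorem lenLE_cardFactors {G : Type*} [Group G] [Finite G] :
    LenLE G (3 * Ω (Nat.card G)) := by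
  intro l H htop hle _
  have key : ∀ j ≤ l,
      ((range j).filter (fun i => H i ≠ H (i + 1))).card ≤ Ω (Nat.card (H j)) := by
    intro j hj
    induction j with
    | zero => simp
    | succ j ih =>
      have ih' := ih (by omega)
      rw [range_add_one, filter_insert]
      by_cases he : H j = H (j + 1)
      · rw [if_neg (by simpa using he), ← he]
        exact ih'
      · rw [if_pos he, card_insert_of_notMem (by simp)]
        have := cardFactors_lt_of_lt (lt_of_le_of_ne (hle j (by omega)) he)
        omega
  have := key l le_rfl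
  rw [htop, Subgroup.card_top] at this
  omega

theorem lenLE_simple {G : Type*} [Group G]
    (h : ∀ N : Subgroup G, N.Normal → N = ⊥ ∨ N = ⊤) : LenLE G 3 := by
  intro l H htop hle hnorm
  have key : ∀ d i, i + d = l → H i = ⊥ ∨ H i = ⊤ := by
    intro d
    induction d with
    | zero => intro i hi; right; rw [show i = l by omega, htop]
    | succ d ih =>
      intro i hi
      rcases ih (i + 1) (by omega) with e | e
      · left; exact le_bot_iff.1 (e ▸ hle i (by omega))
      · exact h _ ⟨fun a ha b => hnorm i (by omega) a ha b (e ▸ Subgroup.mem_top b)⟩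
  suffices ((range l).filter (fun i => H i ≠ H (i + 1))).card ≤ 1 by omega
  have hmono : ∀ j ≤ l, ∀ i ≤ j, H i ≤ H j := by
    intro j hj
    induction j with
    | zero => intro i hi; rw [show i = 0 by omega]
    | succ j ih =>
      intro i hi
      rcases Nat.eq_or_lt_of_le hi with rfl | h'
      · exact le_rfl
      · exact (ih (by omega) i (by omega)).trans (hle j (by omega))
  have main : ∀ i j, i < j → j < l → H i ≠ H (i + 1) → H j ≠ H (j + 1) → False := by
    intro i j hij hj hi' hj'
    have h1 : H (i + 1) = ⊤ := by
      rcases key (l - (i + 1)) (i + 1) (by omega) with e | e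
      · exact absurd (le_antisymm (hle i (by omega)) (e ▸ bot_le)) hi'
      · exact e
    have h2 : H j = ⊤ := top_le_iff.1 (h1 ▸ hmono j (by omega) (i + 1) (by omega))
    exact hj' (le_antisymm (hle j hj) (h2 ▸ le_top))
  refine card_le_one.2 fun i hi j hj => ?_
  rw [mem_filter, mem_range] at hi hj
  rcases lt_trichotomy i j with hij | hij | hij
  · exact (main i j hij hj.1 hi.2 hj.2).elim
  · exact hij
  · exact (main j i hij hi.1 hj.2 hi.2).elim

/-- A group generated by `k` normal subgroups of length at most one has length at most `k`. -/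
theorem lenLE_of_iSup_normal : ∀ (k : ℕ) (G : Type*) [Group G] (T : Fin k → Subgroup G),
    (∀ i, (T i).Normal) → (∀ i, LenLE (T i) 3) → (⨆ i, T i) = ⊤ → LenLE G (3 * k) := by
  intro k
  induction k with
  | zero =>
    intro G _ T _ _ htop
    rw [iSup_of_empty] at htop
    haveI : Subsingleton G :=
      Subgroup.subsingleton_iff.1 (subsingleton_of_bot_eq_top htop)
    exact lenLE_of_subsingleton _
  | succ k ih =>
    intro G _ T hn hs htop
    haveI := hn 0
    have hq : LenLE (G ⧸ T 0) (3 * k) := by
      refine ih (G ⧸ T 0) (fun i => (T i.succ).map (QuotientGroup.mk' (T 0))) ?_ ?_ ?_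
      · exact fun i => (hn i.succ).map _ (QuotientGroup.mk'_surjective _)
      · intro i
        exact (hs i.succ).of_surjective ((QuotientGroup.mk' (T 0)).subgroupMap (T i.succ))
          (MonoidHom.subgroupMap_surjective _ _)
      · rw [← top_le_iff, ← Subgroup.map_top_of_surjective _ (QuotientGroup.mk'_surjective (T 0)),
          ← htop, Subgroup.map_iSup]
        refine iSup_le fun i => ?_
        induction i using Fin.cases with
        | zero => rw [QuotientGroup.map_mk'_self]; exact bot_le
        | succ i => exact le_iSup (fun i : Fin k => (T i.succ).map (QuotientGroup.mk' (T 0))) i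
    have hk : LenLE (QuotientGroup.mk' (T 0)).ker 3 :=
      (hs 0).of_mulEquiv (MulEquiv.subgroupCongr (QuotientGroup.ker_mk' (T 0)).symm)
    exact (LenLE.of_ker _ (QuotientGroup.mk'_surjective _) hk hq).mono (by omega)

end Cfsg.Agent.Classical
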