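import Cfsg.Agent.Lib.Classical.RankOneDet

/-!
Conjugacy in the special linear group of cyclic elements of order dividing the degree.
-/

set_option autoImplicit false

open Module Matrix

namespace Cfsg.Agent.Classical.CyclicConj

variable {F : Type*} [Field F] {k : ℕ} [NeZero k]

theorem exists_intertwine {M H : Matrix (Fin k) (Fin k) F} (hkF : (k : F) ≠ 0) (hz : M ^ k = 1) (hgk : H ^ k = 1)
    {v w : Fin k → F} (hv : Submodule.span F (Set.range fun j : Fin k => (M ^ (j : ℕ)) *ᵥ v) = ⊤)
    (hw : Submodule.span F (Set.range fun j : Fin k => (H ^ (j : ℕ)) *ᵥ w) = ⊤)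
    (hker : finrank F (LinearMap.ker (Matrix.toLin' H - 1)) = 1) :
    ∃ R : Matrix (Fin k) (Fin k) F, R.det = 1 ∧ R * M = H * R := by
  classical
  have hcard : Fintype.card (Fin k) = finrank F (Fin k → F) := by rw [finrank_fin_fun, Fintype.card_fin]
  let bv := Basis.mk (linearIndependent_of_top_le_span_of_card_eq_finrank hv.ge hcard) hv.ge
  let bw := Basis.mk (linearIndependent_of_top_le_span_of_card_eq_finrank hw.ge hcard) hw.ge
  let E := bv.equiv bw (Equiv.refl _)
  have hE : ∀ m : ℕ, E ((M ^ m) *ᵥ v) = (H ^ m) *ᵥ w := fun m => by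
    rw [pow_eq_pow_mod m hz, pow_eq_pow_mod m hgk]
    have hm : m % k < k := Nat.mod_lt _ (Nat.pos_of_neZero k)
    have h1 : bv ⟨m % k, hm⟩ = (M ^ (m % k)) *ᵥ v := Basis.mk_apply _ _ _
    have h2 : bw ⟨m % k, hm⟩ = (H ^ (m % k)) *ᵥ w := Basis.mk_apply _ _ _
    rw [← h1, ← h2]
    exact bv.equiv_apply _ bw (Equiv.refl _)
  let P := LinearMap.toMatrix' E.toLinearMap
  have hPM : P * M = H * P := by
    refine Matrix.toLin'.injective (bv.ext fun j => ?_)
    rw [Matrix.toLin'_mul, Matrix.toLin'_mul, LinearMap.comp_apply, LinearMap.comp_apply, Matrix.toLin'_toMatrix',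
      Basis.mk_apply, Matrix.toLin'_apply, Matrix.toLin'_apply, Matrix.mulVec_mulVec, ← pow_succ']
    show E _ = H *ᵥ E _
    rw [hE, hE, Matrix.mulVec_mulVec, ← pow_succ']
  have hPdet : P.det ≠ 0 := by
    show (LinearMap.toMatrix' E.toLinearMap).det ≠ 0
    rw [LinearMap.det_toMatrix']
    exact E.isUnit_det'.ne_zero
  obtain ⟨⟨e, he⟩, he0, hall⟩ := finrank_eq_one_iff'.1 hker
  let S : Matrix (Fin k) (Fin k) F := (k : F)⁻¹ • ∑ j ∈ Finset.range k, H ^ j
  have hHS : H * S = S := by
    rw [Matrix.mul_smul, Finset.mul_sum]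
    refine congrArg _ ?_
    have h1 := Finset.sum_range_succ' (fun j => H ^ j) k
    rw [Finset.sum_range_succ, hgk, pow_zero, add_left_inj] at h1
    rw [h1]
    exact Finset.sum_congr rfl fun j _ => (pow_succ' H j).symm
  have hSH : S * H = H * S := by
    rw [Matrix.smul_mul, Matrix.mul_smul, Finset.sum_mul, Finset.mul_sum]
    exact congrArg _ (Finset.sum_congr rfl fun j _ => by rw [← pow_succ, pow_succ'])
  have hcol : ∀ u, ∃ a : F, a • e = S *ᵥ u := fun u => by
    obtain ⟨a, ha⟩ := hall ⟨S *ᵥ u, by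
      rw [LinearMap.mem_ker, LinearMap.sub_apply, Matrix.toLin'_apply, Matrix.mulVec_mulVec, hHS]; simp⟩
    exact ⟨a, congrArg Subtype.val ha⟩
  choose a ha using fun j => hcol (Pi.single j 1)
  have hS : S = Matrix.vecMulVec e a := Matrix.ext fun s j => by
    have h1 := congrFun (ha j) s
    rw [Matrix.mulVec_single_one, Matrix.col_apply] at h1
    rw [← h1, Matrix.vecMulVec_apply, Pi.smul_apply, smul_eq_mul, mul_comm]
  have hHe : H *ᵥ e = e := by
    have h1 := LinearMap.mem_ker.1 he
    rw [LinearMap.sub_apply, Matrix.toLin'_apply, Module.End.one_apply, sub_eq_zero] at h1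
    exact h1
  have hHje : ∀ j : ℕ, (H ^ j) *ᵥ e = e := by
    intro j
    induction j with
    | zero => simp
    | succ j ih => rw [pow_succ, ← Matrix.mulVec_mulVec, hHe, ih]
  have hae : a ⬝ᵥ e = 1 := by
    have h1 : S *ᵥ e = e := by
      rw [Matrix.smul_mulVec, Matrix.sum_mulVec, Finset.sum_congr rfl (fun j _ => hHje j), Finset.sum_const,
        Finset.card_range, ← Nat.cast_smul_eq_nsmul F, inv_smul_smul₀ hkF]
    rw [hS, Matrix.vecMulVec_mulVec] at h1
    obtain ⟨s, hs⟩ := Function.ne_iff.1 (fun h => he0 (Subtype.ext h) : e ≠ 0)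
    have h2 := congrFun h1 s
    simp at h2
    exact (mul_eq_left₀ hs).1 h2
  let t : F := P.det⁻¹ - 1
  let D : Matrix (Fin k) (Fin k) F := 1 + t • S
  have hD : D.det = P.det⁻¹ := by
    show (1 + t • S).det = _
    rw [hS, ← Matrix.smul_vecMulVec, Matrix.vecMulVec_eq Unit, Matrix.det_one_add_replicateCol_mul_replicateRow,
      dotProduct_smul, hae, smul_eq_mul, mul_one]
    exact add_sub_cancel 1 _
  have hDH : D * H = H * D := by
    show (1 + t • S) * H = H * (1 + t • S)
    rw [add_mul, mul_add, one_mul, mul_one, Matrix.smul_mul, Matrix.mul_smul, hSH]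
  exact ⟨D * P, by rw [Matrix.det_mul, hD, inv_mul_cancel₀ hPdet], by rw [mul_assoc, hPM, ← mul_assoc, hDH, mul_assoc]⟩

/-- An element of order three of `SL₃` away from characteristic three has no eigenspace of dimension two. -/
theorem rank_ne_one {A : Matrix (Fin 3) (Fin 3) F} (h3 : (3 : F) ≠ 0) (hA : A ^ 3 = 1) (hdet : A.det = 1)
    {c : F} (hc : c ^ 3 = 1) : (A - c • 1).rank ≠ 1 := by
  intro hrk
  have hc0 : c ≠ 0 := fun e => by rw [e, zero_pow three_ne_zero] at hc; exact zero_ne_one hc
  set M := c⁻¹ • A with hM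
  have hM1 : M - 1 = c⁻¹ • (A - c • 1) := by rw [smul_sub, inv_smul_smul₀ hc0]
  have hrk' : (M - 1).rank = 1 := by
    have hdiag : c⁻¹ • (A - c • 1) = (Matrix.diagonal fun _ : Fin 3 => c⁻¹) * (A - c • 1) := by
      rw [← Matrix.smul_one_eq_diagonal, Matrix.smul_mul, Matrix.one_mul]
    rw [hM1, hdiag, Matrix.rank_mul_eq_right_of_isUnit_det]
    · exact hrk
    · rw [Matrix.det_diagonal]; simp [hc0]
  have hdM : M.det = 1 := by
    rw [hM, Matrix.det_smul, Fintype.card_fin, inv_pow, hc, inv_one, one_mul, hdet]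
  have hsq := RankOneDet.sq_zero hrk' hdM
  have hM3 : M ^ 3 = 1 := by rw [hM, smul_pow, inv_pow, hc, inv_one, one_smul, hA]
  set N := M - 1 with hN
  have h1 : (1 + N) ^ 3 = 1 + (3 : F) • N := by
    rw [pow_three]
    simp only [add_mul, mul_add, one_mul, mul_one, hsq, add_zero]
    module
  rw [show 1 + N = M by rw [hN, add_sub_cancel], hM3, left_eq_add, smul_eq_zero] at h1
  have hN0 : N = 0 := h1.resolve_left h3
  rw [hN0, Matrix.rank_zero] at hrk'
  exact zero_ne_one hrk'

/-- A cyclic vector for an element of order three with one-dimensional eigenspaces. -/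
theorem exists_cyclic_three {A : Matrix (Fin 3) (Fin 3) F} (h3 : (3 : F) ≠ 0) (hA : A ^ 3 = 1)
    (hrk0 : ∀ c : F, c ^ 3 = 1 → 2 ≤ (A - c • 1).rank) {z : F} (hz : z ^ 3 = 1) (hz1 : z ≠ 1) :
    A.det = 1 ∧ ∃ v, Submodule.span F (Set.range fun j : Fin 3 => (A ^ (j : ℕ)) *ᵥ v) = ⊤ ∧
      finrank F (LinearMap.ker (Matrix.toLin' A - 1)) = 1 := by
  classical
  have hzz : z ^ 2 + z + 1 = 0 := by
    refine (mul_eq_zero.1 (?_ : (z - 1) * (z ^ 2 + z + 1) = 0)).resolve_left (sub_ne_zero.2 hz1)
    linear_combination hz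
  let c : Fin 3 → F := ![1, z, z ^ 2]
  have hc3 : ∀ i, c i ^ 3 = 1 := fun i => by
    fin_cases i <;> simp [c]
    · exact hz
    · linear_combination (z ^ 3 + 1) * hz
  have hcinj : Function.Injective c := by
    intro i j h
    fin_cases i <;> fin_cases j <;> first | rfl | exfalso
    all_goals simp only [c, Fin.zero_eta, Fin.mk_one, Fin.reduceFinMk, Matrix.cons_val] at h
    all_goals first
      | exact hz1 h.symm
      | exact hz1 h
      | exact hz1 (by linear_combination hz + (-z) * h)
      | exact hz1 (by linear_combination hz + z * h)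
      | exact hz1 (by linear_combination hz - (z + 1) * h)
      | exact hz1 (by linear_combination hz + (z + 1) * h)
  have hprod : (A - c 0 • 1) * (A - c 1 • 1) * (A - c 2 • 1) = 0 := by
    have e : (A - c 0 • 1) * (A - c 1 • 1) * (A - c 2 • 1) =
        A ^ 3 - (c 0 + c 1 + c 2) • A ^ 2 + (c 0 * c 1 + c 0 * c 2 + c 1 * c 2) • A - (c 0 * c 1 * c 2) • 1 := by
      simp only [sub_mul, mul_sub, Matrix.smul_mul, Matrix.mul_smul, one_mul, mul_one, smul_smul, smul_sub,
        pow_succ, pow_zero, mul_assoc]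
      module
    rw [e, hA, show c 0 + c 1 + c 2 = 0 by simp [c]; linear_combination hzz,
      show c 0 * c 1 + c 0 * c 2 + c 1 * c 2 = 0 by simp [c]; linear_combination hzz + hz,
      show c 0 * c 1 * c 2 = 1 by simp [c]; linear_combination hz]
    simp
  have hrk : ∀ i, 2 ≤ (A - c i • 1).rank := fun i => hrk0 _ (hc3 i)
  have hcomm : ∀ i j, (A - c i • 1) * (A - c j • 1) = (A - c j • 1) * (A - c i • 1) := fun i j => by
    simp only [sub_mul, mul_sub, Matrix.smul_mul, Matrix.mul_smul, one_mul, mul_one, smul_smul, smul_sub, mul_comm (c i)]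
    module
  have hker : ∀ i, finrank F (LinearMap.ker (A - c i • 1).mulVecLin) ≤ 1 := fun i => by
    have h1 := LinearMap.finrank_range_add_finrank_ker (A - c i • 1).mulVecLin
    rw [finrank_fin_fun] at h1
    have h2 : 2 ≤ finrank F (LinearMap.range (A - c i • 1).mulVecLin) := hrk i
    omega
  have hprod2 : ∀ i j : Fin 3, (A - c i • 1) * (A - c j • 1) ≠ 0 := fun i j e => by
    have h1 : LinearMap.range (A - c j • 1).mulVecLin ≤ LinearMap.ker (A - c i • 1).mulVecLin := by
      rintro _ ⟨u, rfl⟩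
      rw [LinearMap.mem_ker, Matrix.mulVecLin_apply, Matrix.mulVecLin_apply, Matrix.mulVec_mulVec, e, Matrix.zero_mulVec]
    have h2 : 2 ≤ finrank F (LinearMap.range (A - c j • 1).mulVecLin) := hrk j
    have := (Submodule.finrank_mono h1).trans (hker i)
    omega
  have hev : ∀ i, ∃ e : Fin 3 → F, e ≠ 0 ∧ A *ᵥ e = c i • e := fun i => by
    obtain ⟨a, b, hab⟩ : ∃ a b : Fin 3, (A - c i • 1) * ((A - c a • 1) * (A - c b • 1)) = 0 := by
      fin_cases i
      · exact ⟨1, 2, by rw [← mul_assoc]; exact hprod⟩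
      · exact ⟨0, 2, by rw [← mul_assoc, hcomm]; exact hprod⟩
      · exact ⟨0, 1, by rw [← mul_assoc, hcomm, mul_assoc, hcomm, ← mul_assoc]; exact hprod⟩
    obtain ⟨u, hu⟩ : ∃ u, ((A - c a • 1) * (A - c b • 1)) *ᵥ u ≠ 0 := by
      by_contra h
      push Not at h
      exact hprod2 a b (Matrix.ext_of_mulVec_single fun s => by rw [h, Matrix.zero_mulVec])
    refine ⟨_, hu, ?_⟩
    have h1 : (A - c i • 1) *ᵥ (((A - c a • 1) * (A - c b • 1)) *ᵥ u) = 0 := by rw [Matrix.mulVec_mulVec, hab, Matrix.zero_mulVec]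
    rw [Matrix.sub_mulVec, Matrix.smul_mulVec, Matrix.one_mulVec, sub_eq_zero] at h1
    exact h1
  choose e he0 he using hev
  have hli : LinearIndependent F e :=
    Module.End.eigenvectors_linearIndependent' (Matrix.toLin' A) c hcinj e fun i =>
      ⟨Module.End.mem_eigenspace_iff.2 (by rw [Matrix.toLin'_apply]; exact he i), he0 i⟩
  refine ⟨?_, ∑ i, e i, ?_, le_antisymm ?_ (Submodule.one_le_finrank_iff.2 fun h => he0 0 ?_)⟩
  · let b := basisOfLinearIndependentOfCardEqFinrank hli (by rw [finrank_fin_fun, Fintype.card_fin])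
    have h1 : LinearMap.toMatrix b b (Matrix.toLin' A) = Matrix.diagonal c := Matrix.ext fun i j => by
      rw [LinearMap.toMatrix_apply, show b j = e j by simp [b], Matrix.toLin'_apply, he, map_smul,
        show e j = b j by simp [b], b.repr_self]
      by_cases hij : i = j
      · subst hij; simp
      · simp [hij, Finsupp.single_eq_of_ne hij]
    rw [← LinearMap.det_toLin', ← LinearMap.det_toMatrix b, h1, Matrix.det_diagonal, Fin.prod_univ_three]
    simp [c]
    linear_combination hz
  · set C := Submodule.span F (Set.range fun j : Fin 3 => (A ^ (j : ℕ)) *ᵥ ∑ i, e i) with hC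
    have hpow : ∀ (j : ℕ) i, (A ^ j) *ᵥ e i = (c i ^ j) • e i := by
      intro j
      induction j with
      | zero => intro i; simp
      | succ j ih => intro i; rw [pow_succ, ← Matrix.mulVec_mulVec, he, Matrix.mulVec_smul, ih, smul_smul, pow_succ, mul_comm]
    have hv : ∀ j : Fin 3, (∑ i, (c i ^ (j : ℕ)) • e i) ∈ C := fun j => by
      refine Submodule.subset_span ⟨j, ?_⟩
      show (A ^ (j : ℕ)) *ᵥ ∑ i, e i = _
      rw [Matrix.mulVec_sum]
      exact Finset.sum_congr rfl fun i _ => hpow j i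
    have hcur : ∀ i, e i ∈ C := fun i => by
      have h1 := C.add_mem (C.add_mem (C.smul_mem 1 (hv 0)) (C.smul_mem (c i ^ 2) (hv 1))) (C.smul_mem (c i) (hv 2))
      have h2 : (3 : F) • e i = (1 : F) • (∑ k, (c k ^ ((0 : Fin 3) : ℕ)) • e k) + (c i ^ 2) • (∑ k, (c k ^ ((1 : Fin 3) : ℕ)) • e k) +
          (c i) • (∑ k, (c k ^ ((2 : Fin 3) : ℕ)) • e k) := by
        simp only [Fin.sum_univ_three, smul_add, smul_smul, Fin.val_zero, Fin.val_one, Fin.val_two, pow_zero, pow_one]
        fin_cases i <;> simp [c] <;> match_scalars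
        all_goals first
          | linear_combination (0 : F) * hz
          | linear_combination -hzz
          | linear_combination -hzz - hz
          | linear_combination -2 * hz
          | linear_combination -hz - hzz
          | linear_combination -(z ^ 3 + 1) * hz - hz
          | linear_combination -hzz - (z + 1) * hz
          | linear_combination -hzz - z * hz
          | linear_combination -hzz - 2 * hz
          | linear_combination -(hzz) - (z ^ 3 + 1) * hz
          | linear_combination -(z ^ 3 + 1) * hz - (z ^ 3 + 1) * hz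
          | linear_combination -hzz - (z ^ 2 + z) * hz
      rw [← h2] at h1
      exact (Submodule.smul_mem_iff _ h3).1 h1
    refine Submodule.eq_top_of_finrank_eq (le_antisymm (Submodule.finrank_le _) ?_)
    rw [finrank_fin_fun]
    refine le_trans ?_ (Submodule.finrank_mono (Submodule.span_le.2 (by rintro _ ⟨i, rfl⟩; exact hcur i) : Submodule.span F (Set.range e) ≤ C))
    rw [finrank_span_eq_card hli, Fintype.card_fin]
  · have h1 : Matrix.toLin' A - 1 = (A - c 0 • 1).mulVecLin := by
      refine LinearMap.ext fun u => ?_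
      simp [c, Matrix.sub_mulVec]
    rw [h1]; exact hker 0
  · have h1 : e 0 ∈ LinearMap.ker (Matrix.toLin' A - 1) := by
      rw [LinearMap.mem_ker, LinearMap.sub_apply, Matrix.toLin'_apply, he]
      simp [c]
    rw [h] at h1
    exact (Submodule.mem_bot F).1 h1

end Cfsg.Agent.Classical.CyclicConj
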