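import Mathlib

/-!
Endomorphisms of prime order `n` in dimension `n`, when the field size has order `n - 1` modulo `n`.
-/

set_option autoImplicit false
set_option linter.style.haveILetI false

open Module Matrix

namespace Cfsg.Agent.Classical.CyclicPrime

variable {F : Type*} [Field F] [Fintype F] {n : ℕ} [Fact n.Prime]

theorem dvd_finrank {V : Type*} [AddCommGroup V] [Module F V] [FiniteDimensional F V] (S : Submodule F V)
    (y : V →ₗ[F] V) (hy : y ^ n = 1) (hS : ∀ v ∈ S, y v ∈ S) (hfix : ∀ v ∈ S, y v = v → v = 0) :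
    orderOf (Fintype.card F : ZMod n) ∣ finrank F S := by
  classical
  haveI : Finite V := Module.finite_of_finite F
  haveI : Fintype S := Fintype.ofFinite S
  let r : S → S := fun v => ⟨y v, hS v v.2⟩
  have hit : ∀ (j : ℕ) (v : S), ((r^[j] v : S) : V) = (y ^ j) v := by
    intro j
    induction j with
    | zero => intro v; rfl
    | succ j ih => intro v; rw [Function.iterate_succ_apply', pow_succ', Module.End.mul_apply]; exact congrArg y (ih v)
  have hrn : ∀ v, r^[n] v = v := fun v => Subtype.ext (by rw [hit, hy]; rfl)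
  have hn1 : 1 ≤ n := (Fact.out : n.Prime).one_le
  let σ : Equiv.Perm S :=
    { toFun := r
      invFun := r^[n - 1]
      left_inv := fun v => by
        rw [← Function.iterate_succ_apply, Nat.succ_eq_add_one, Nat.sub_add_cancel hn1]; exact hrn v
      right_inv := fun v => by
        rw [← Function.iterate_succ_apply' r, Nat.succ_eq_add_one, Nat.sub_add_cancel hn1]; exact hrn v }
  have hσ : σ ^ n ^ 1 = 1 := Equiv.ext fun v => by
    rw [pow_one, Equiv.Perm.coe_pow]; exact hrn v
  have hfixcard : (Finset.univ.filter fun v => σ v = v) = {(0 : S)} := by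
    ext v
    simp only [Finset.mem_filter, Finset.mem_univ, true_and, Finset.mem_singleton]
    refine ⟨fun h => Subtype.ext (hfix v v.2 (congrArg Subtype.val h)), fun h => ?_⟩
    subst h; exact Subtype.ext (map_zero y)
  have h1 := Equiv.Perm.card_compl_support_modEq hσ
  rw [show σ.supportᶜ = {(0 : S)} by rw [← hfixcard]; ext v; simp [Equiv.Perm.mem_support], Finset.card_singleton,
    Module.card_eq_pow_finrank (K := F) (V := S)] at h1
  refine orderOf_dvd_of_pow_eq_one ?_
  have h2 := (ZMod.natCast_eq_natCast_iff _ _ _).2 h1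
  push_cast at h2
  exact h2.symm

/-- A cyclic vector. -/
theorem exists_cyclic (hn3 : 3 ≤ n) (hn : (n : F) ≠ 0) (hord : orderOf (Fintype.card F : ZMod n) = n - 1)
    (y : (Fin n → F) →ₗ[F] (Fin n → F)) (hy : y ^ n = 1) (hy1 : y ≠ 1) :
    ∃ v, Submodule.span F (Set.range fun j : Fin n => (y ^ (j : ℕ)) v) = ⊤ ∧
      finrank F (LinearMap.ker (y - 1)) = 1 := by
  have hn1 : 1 ≤ n := (Fact.out : n.Prime).one_le
  let W := LinearMap.range (y - 1)
  have hWy : ∀ v ∈ W, y v ∈ W := by
    rintro _ ⟨u, rfl⟩
    exact ⟨y u, by simp⟩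
  have hWfix : ∀ v ∈ W, y v = v → v = 0 := by
    rintro _ ⟨u, rfl⟩ hv
    set w := (y - 1) u with hw
    have hpw : ∀ j : ℕ, (y ^ j) u = u + (j : F) • w := by
      intro j
      induction j with
      | zero => simp
      | succ j ih =>
        rw [pow_succ', Module.End.mul_apply, ih, map_add, map_smul, hv]
        rw [hw, LinearMap.sub_apply, Module.End.one_apply, Nat.cast_succ, add_smul, one_smul]
        abel
    have := hpw n
    rw [hy, Module.End.one_apply, left_eq_add, smul_eq_zero] at this
    exact this.resolve_left hn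
  have hW0 : 0 < finrank F W := by
    rw [Nat.pos_iff_ne_zero]
    intro h
    exact hy1 (sub_eq_zero.1 (LinearMap.range_eq_bot.1 (Submodule.finrank_eq_zero.1 h)))
  have hWd := dvd_finrank W y hy hWy hWfix
  rw [hord] at hWd
  have hrk : finrank F W + finrank F (LinearMap.ker (y - 1)) = n :=
    (LinearMap.finrank_range_add_finrank_ker _).trans (finrank_fin_fun F)
  have hsum : ∀ v ∈ W, (∑ j ∈ Finset.range n, (y ^ j) v) = 0 := fun v hv => by
    have hmem : ∀ j, (y ^ j) v ∈ W := by
      intro j
      induction j with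
      | zero => simpa using hv
      | succ j ih => rw [pow_succ', Module.End.mul_apply]; exact hWy _ ih
    refine hWfix _ (W.sum_mem fun j _ => hmem j) ?_
    have h2 := LinearMap.congr_fun (mul_geom_sum y n) v
    rw [hy, sub_self, LinearMap.zero_apply, Module.End.mul_apply, LinearMap.sub_apply, Module.End.one_apply,
      sub_eq_zero, LinearMap.sum_apply] at h2
    exact h2
  have hker : LinearMap.ker (y - 1) ≠ ⊥ := fun hb => by
    have hWtop : W = ⊤ := Submodule.eq_top_of_finrank_eq (by rw [hb, finrank_bot] at hrk; rw [finrank_fin_fun]; omega)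
    have hd := Nat.le_of_dvd hW0 hWd
    rw [hb, finrank_bot] at hrk
    obtain ⟨c, hc⟩ := hWd
    have hn2 := (Fact.out : n.Prime).two_le
    have h3 : n - 1 ∣ n := ⟨c, by omega⟩
    have h4 : n - 1 ∣ 1 := by
      have := Nat.dvd_sub h3 dvd_rfl
      rwa [show n - (n - 1) = 1 by omega] at this
    have := Nat.dvd_one.1 h4; omega
  obtain ⟨e, he, he0⟩ := Submodule.exists_mem_ne_zero_of_ne_bot hker
  have hWn : finrank F W = n - 1 := by
    have h1 := Nat.le_of_dvd hW0 hWd
    have h2 : 1 ≤ finrank F (LinearMap.ker (y - 1)) := Submodule.one_le_finrank_iff.2 hker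
    omega
  refine ⟨e + Classical.choose (Submodule.exists_mem_ne_zero_of_ne_bot (p := W) (fun h => by rw [h, finrank_bot] at hW0; omega)), ?_, by omega⟩
  obtain ⟨hw, hw0⟩ := Classical.choose_spec (Submodule.exists_mem_ne_zero_of_ne_bot (p := W) (fun h => by rw [h, finrank_bot] at hW0; omega))
  set w := Classical.choose (Submodule.exists_mem_ne_zero_of_ne_bot (p := W) (fun h => by rw [h, finrank_bot] at hW0; omega))
  set C := Submodule.span F (Set.range fun j : Fin n => (y ^ (j : ℕ)) (e + w))
  have hgen : ∀ j : ℕ, j < n → (y ^ j) (e + w) ∈ C := fun j hj => Submodule.subset_span ⟨⟨j, hj⟩, rfl⟩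
  have hye : y e = e := sub_eq_zero.1 (LinearMap.mem_ker.1 he)
  have hyje : ∀ j : ℕ, (y ^ j) e = e := by
    intro j
    induction j with
    | zero => rfl
    | succ j ih => rw [pow_succ', Module.End.mul_apply, ih, hye]
  have hCy : ∀ v ∈ C, y v ∈ C := fun v hv => by
    refine (Submodule.map_span_le y _ C).2 ?_ ⟨v, hv, rfl⟩
    rintro _ ⟨⟨j, hj⟩, rfl⟩
    show y ((y ^ j) (e + w)) ∈ C
    rw [← Module.End.mul_apply, ← pow_succ']
    by_cases hj' : j + 1 < n
    · exact hgen _ hj'
    · rw [show j + 1 = n by omega, hy]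
      exact hgen 0 (by omega)
  have heC : e ∈ C := by
    have h1 : (∑ j ∈ Finset.range n, (y ^ j) (e + w)) ∈ C := C.sum_mem fun j hj => hgen j (Finset.mem_range.1 hj)
    simp only [map_add, hyje, Finset.sum_add_distrib, hsum w hw, add_zero, Finset.sum_const, Finset.card_range,
      ← Nat.cast_smul_eq_nsmul F] at h1
    exact (Submodule.smul_mem_iff _ hn).1 h1
  have hwC : w ∈ C := by
    have h1 := C.sub_mem (hgen 0 (by omega)) heC
    simpa using h1
  have hCW := dvd_finrank (C ⊓ W) y hy (fun v hv => ⟨hCy v hv.1, hWy v hv.2⟩) (fun v hv => hWfix v hv.2)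
  rw [hord] at hCW
  have hpos : 0 < finrank F ↥(C ⊓ W) := Submodule.one_le_finrank_iff.2 fun h => hw0 ((Submodule.mem_bot F).1 (h ▸ ⟨hwC, hw⟩))
  have hWC : W ≤ C := by
    have h1 : C ⊓ W = W := Submodule.eq_of_le_of_finrank_le inf_le_right (by rw [hWn]; exact Nat.le_of_dvd hpos hCW)
    exact h1 ▸ inf_le_left
  refine Submodule.eq_top_of_finrank_eq (le_antisymm (Submodule.finrank_le _) ?_)
  rw [finrank_fin_fun]
  have hlt : W < C := lt_of_le_of_ne hWC fun h => he0 (hWfix e (h ▸ heC) hye)
  have := Submodule.finrank_lt_finrank_of_lt hlt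
  omega

end Cfsg.Agent.Classical.CyclicPrime
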