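import Cfsg.Agent.Lib.Classical.Symplectic

/-!
Isometries between symplectic spaces, and the classes of involutions of the projective symplectic
group in odd characteristic: there are at most `m / 2 + 1` of them in dimension `2m`.
-/

set_option autoImplicit false
set_option linter.style.haveILetI false

namespace Cfsg.Agent.Classical.Sp

open Module

variable {F : Type*} [Field F]

section glue

variable {V W : Type*} [AddCommGroup V] [Module F V] [AddCommGroup W] [Module F W]
variable {f : V → V → F} {f' : W → W → F} {P Q : Submodule F V} {P' Q' : Submodule F W}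

/-- Isometries of the parts of two orthogonal decompositions glue. -/
theorem glue (h : OrthDecomp f P Q) (h' : OrthDecomp f' P' Q') (e₁ : P ≃ₗ[F] P')
    (e₂ : Q ≃ₗ[F] Q') (he₁ : ∀ a b : P, f' (e₁ a) (e₁ b) = f a b)
    (he₂ : ∀ a b : Q, f' (e₂ a) (e₂ b) = f a b) :
    ∃ e : V ≃ₗ[F] W, (∀ x y, f' (e x) (e y) = f x y) ∧
      (∀ p : P, e p = (e₁ p : W)) ∧ ∀ q : Q, e q = (e₂ q : W) := by
  let e : V ≃ₗ[F] W := (Submodule.prodEquivOfIsCompl P Q h.isCompl).symm.trans
    ((e₁.prodCongr e₂).trans (Submodule.prodEquivOfIsCompl P' Q' h'.isCompl))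
  have he : ∀ (p : P) (q : Q), e ((p : V) + q) = (e₁ p : W) + (e₂ q : W) := by
    intro p q
    have hpq : (p : V) + q = Submodule.prodEquivOfIsCompl P Q h.isCompl (p, q) := by simp
    rw [hpq]
    show Submodule.prodEquivOfIsCompl P' Q' h'.isCompl ((e₁.prodCongr e₂)
      ((Submodule.prodEquivOfIsCompl P Q h.isCompl).symm
        (Submodule.prodEquivOfIsCompl P Q h.isCompl (p, q)))) = _
    rw [LinearEquiv.symm_apply_apply]
    simp
  refine ⟨e, fun x y => ?_, fun p => by simpa using he p 0, fun q => by simpa using he 0 q⟩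
  obtain ⟨a, ha, b, hb, rfl⟩ := h.exists_add x
  obtain ⟨c, hc, d, hd, rfl⟩ := h.exists_add y
  rw [he ⟨a, ha⟩ ⟨b, hb⟩, he ⟨c, hc⟩ ⟨d, hd⟩,
    h'.apply_add (e₁ _).2 (e₁ _).2 (e₂ _).2 (e₂ _).2, h.apply_add ha hc hb hd, he₁, he₂]

end glue

section pair

variable {V : Type*} [AddCommGroup V] [Module F V] (B : LinearMap.BilinForm F V) (hA : B.IsAlt)

include hA in
/-- Coordinates on the span of a pair. -/
theorem exists_pairEquiv {u v : V} (h : B u v = 1) :
    ∃ e : (F × F) ≃ₗ[F] ↥(Submodule.span F {u, v}), ∀ a, (e a : V) = a.1 • u + a.2 • v := by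
  let φ : F × F →ₗ[F] ↥(Submodule.span F {u, v}) :=
    LinearMap.codRestrict _ ((LinearMap.fst F F F).smulRight u + (LinearMap.snd F F F).smulRight v)
      fun a => Submodule.mem_span_pair.2 ⟨a.1, a.2, rfl⟩
  refine ⟨LinearEquiv.ofBijective φ ⟨?_, ?_⟩, fun a => rfl⟩
  · rw [← LinearMap.ker_eq_bot, LinearMap.ker_eq_bot']
    intro a ha
    have hz : a.1 • u + a.2 • v = 0 := congrArg Subtype.val ha
    have h1 := congrArg (B u) hz
    have h2 := congrArg (B v) hz
    simp [hA.self_eq_zero, h, alt_neg B hA u v] at h1 h2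
    exact Prod.ext h2 h1
  · rintro ⟨x, hx⟩
    obtain ⟨a, b, rfl⟩ := Submodule.mem_span_pair.1 hx
    exact ⟨(a, b), rfl⟩

include hA in
theorem pair_apply {u v : V} (h : B u v = 1) (a b c d : F) :
    B (a • u + b • v) (c • u + d • v) = a * d - b * c := by
  simp [hA.self_eq_zero, h, alt_neg B hA u v]
  ring

end pair

universe uV uW

/-- Symplectic spaces of the same dimension are isometric. -/
theorem exists_equiv : ∀ (n : ℕ) {V : Type uV} [AddCommGroup V] [Module F V] [FiniteDimensional F V]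
    {W : Type uW} [AddCommGroup W] [Module F W] [FiniteDimensional F W]
    (B : LinearMap.BilinForm F V) (B' : LinearMap.BilinForm F W),
    B.IsAlt → Nondeg B → B'.IsAlt → Nondeg B' → finrank F V = n → finrank F W = n →
    Even n ∧ ∃ e : V ≃ₗ[F] W, ∀ x y, B' (e x) (e y) = B x y := by
  intro n
  induction n using Nat.strong_induction_on with
  | _ n ih =>
    intro V _ _ _ W _ _ _ B B' hA hB hA' hB' hV hW
    rcases Nat.eq_zero_or_pos n with rfl | hn
    · haveI : Subsingleton V := finrank_zero_iff.1 hV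
      haveI : Subsingleton W := finrank_zero_iff.1 hW
      exact ⟨Even.zero, LinearEquiv.ofSubsingleton V W, fun x y => by
        rw [Subsingleton.elim x 0, Subsingleton.elim y 0]; simp⟩
    · haveI : Nontrivial V := Module.nontrivial_of_finrank_pos (R := F) (by omega)
      haveI : Nontrivial W := Module.nontrivial_of_finrank_pos (R := F) (by omega)
      obtain ⟨u, hu⟩ := exists_ne (0 : V)
      obtain ⟨u', hu'⟩ := exists_ne (0 : W)
      obtain ⟨v, hv⟩ := exists_pair B hB hu
      obtain ⟨v', hv'⟩ := exists_pair B' hB' hu'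
      have h1 := finrank_perp B hA hv
      have h2 := finrank_perp B' hA' hv'
      obtain ⟨hev, e₂, he₂⟩ := ih (n - 2) (by omega) (res B (perp B u v)) (res B' (perp B' u' v'))
        (isAlt_res B hA _) (nondeg_perp B hA hB hv) (isAlt_res B' hA' _)
        (nondeg_perp B' hA' hB' hv') (by omega) (by omega)
      obtain ⟨c, hc⟩ := exists_pairEquiv B hA hv
      obtain ⟨c', hc'⟩ := exists_pairEquiv B' hA' hv'
      obtain ⟨e, he, -, -⟩ := glue (decomp B hA hv) (decomp B' hA' hv') (c.symm.trans c') e₂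
        (fun a b => by
          obtain ⟨a, rfl⟩ := c.surjective a
          obtain ⟨b, rfl⟩ := c.surjective b
          simp only [LinearEquiv.trans_apply, LinearEquiv.symm_apply_apply, hc, hc']
          rw [pair_apply B hA hv, pair_apply B' hA' hv'])
        he₂
      refine ⟨?_, e, he⟩
      have : n = n - 2 + 2 := by omega
      rw [this]
      exact hev.add even_two

variable [Fintype F]

theorem exists_sq_add_sq (h2 : (2 : F) ≠ 0) (c : F) : ∃ a b : F, a ^ 2 + b ^ 2 = c := by
  classical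
  have hodd : Fintype.card F % 2 = 1 := FiniteField.odd_card_of_char_ne_two fun h =>
    h2 (by have := CharP.cast_eq_zero F (ringChar F); rw [h] at this; simpa using this)
  obtain ⟨a, b, hab⟩ := FiniteField.exists_root_sum_quadratic
    (f := (Polynomial.X ^ 2 : Polynomial F)) (g := Polynomial.X ^ 2 - Polynomial.C c)
    (Polynomial.degree_X_pow 2) (Polynomial.degree_X_pow_sub_C (by decide) _) hodd
  refine ⟨a, b, ?_⟩
  simp only [Polynomial.eval_pow, Polynomial.eval_X, Polynomial.eval_sub, Polynomial.eval_C] at hab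
  linear_combination hab

/-- A form-preserving square root of `-1` has an adapted pair. -/
theorem exists_adapted {V : Type*} [AddCommGroup V] [Module F V] [Nontrivial V]
    (B : LinearMap.BilinForm F V) (hA : B.IsAlt) (hB : Nondeg B) (h2 : (2 : F) ≠ 0)
    (t : V →ₗ[F] V) (ht : ∀ x, t (t x) = -x) (hp : ∀ x y, B (t x) (t y) = B x y) :
    ∃ v, B v (t v) = 1 := by
  have hsym : ∀ u w, B u (t w) = B w (t u) := fun u w => by
    rw [← hp u (t w), ht, map_neg, alt_neg B hA w (t u)]
    ring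
  obtain ⟨u, hu⟩ : ∃ u, B u (t u) ≠ 0 := by
    by_contra hc
    push Not at hc
    obtain ⟨x, hx⟩ := exists_ne (0 : V)
    obtain ⟨y, hy⟩ := hB x hx
    have hz : B x (t (-t y)) = 0 := by
      have h := hc (x + -t y)
      simp only [map_add, LinearMap.add_apply, hc x, hc (-t y), zero_add, add_zero] at h
      rw [hsym (-t y) x, ← two_mul] at h
      simpa [h2] using h
    rw [map_neg, ht, neg_neg] at hz
    exact hy hz
  obtain ⟨a, b, hab⟩ := exists_sq_add_sq h2 (B u (t u))⁻¹
  refine ⟨a • u + b • t u, ?_⟩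
  have h3 : B (t u) (t (t u)) = B u (t u) := hp u (t u)
  rw [ht] at h3
  simp only [map_add, map_smul, map_neg, LinearMap.add_apply, LinearMap.smul_apply, smul_eq_mul, ht,
    hA.self_eq_zero, mul_zero, zero_add, add_zero] at h3 ⊢
  have h4 : (a ^ 2 + b ^ 2) * B u (t u) = 1 := by rw [hab, inv_mul_cancel₀ hu]
  linear_combination h4 + b * b * h3

/-- Form-preserving square roots of `-1` are conjugate. -/
theorem exists_equiv_sqrt_neg_one (h2 : (2 : F) ≠ 0) : ∀ (n : ℕ) {V : Type uV} [AddCommGroup V]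
    [Module F V] [FiniteDimensional F V] {W : Type uW} [AddCommGroup W] [Module F W]
    [FiniteDimensional F W] (B : LinearMap.BilinForm F V) (B' : LinearMap.BilinForm F W)
    (t : V →ₗ[F] V) (s : W →ₗ[F] W),
    B.IsAlt → Nondeg B → B'.IsAlt → Nondeg B' → finrank F V = n → finrank F W = n →
    (∀ x, t (t x) = -x) → (∀ x y, B (t x) (t y) = B x y) →
    (∀ x, s (s x) = -x) → (∀ x y, B' (s x) (s y) = B' x y) →
    ∃ e : V ≃ₗ[F] W, (∀ x y, B' (e x) (e y) = B x y) ∧ ∀ x, e (t x) = s (e x) := by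
  intro n
  induction n using Nat.strong_induction_on with
  | _ n ih =>
    intro V _ _ _ W _ _ _ B B' t s hA hB hA' hB' hV hW ht htp hs hsp
    rcases Nat.eq_zero_or_pos n with rfl | hn
    · haveI : Subsingleton V := finrank_zero_iff.1 hV
      haveI : Subsingleton W := finrank_zero_iff.1 hW
      exact ⟨LinearEquiv.ofSubsingleton V W,
        fun x y => by rw [Subsingleton.elim x 0, Subsingleton.elim y 0]; simp,
        fun x => Subsingleton.elim _ _⟩
    · haveI : Nontrivial V := Module.nontrivial_of_finrank_pos (R := F) (by omega)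
      haveI : Nontrivial W := Module.nontrivial_of_finrank_pos (R := F) (by omega)
      obtain ⟨v, hv⟩ := exists_adapted B hA hB h2 t ht htp
      obtain ⟨v', hv'⟩ := exists_adapted B' hA' hB' h2 s hs hsp
      have h1 := finrank_perp B hA hv
      have h2' := finrank_perp B' hA' hv'
      have hW1 : ∀ w ∈ perp B v (t v), t w ∈ perp B v (t v) := by
        intro w hw
        have a1 : B v w = 0 := hw.1
        have a2 : B (t v) w = 0 := hw.2
        refine ⟨?_, ?_⟩
        · show B v (t w) = 0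
          rw [← htp v (t w), ht, map_neg, a2, neg_zero]
        · show B (t v) (t w) = 0
          rw [htp, a1]
      have hW2 : ∀ w ∈ perp B' v' (s v'), s w ∈ perp B' v' (s v') := by
        intro w hw
        have a1 : B' v' w = 0 := hw.1
        have a2 : B' (s v') w = 0 := hw.2
        refine ⟨?_, ?_⟩
        · show B' v' (s w) = 0
          rw [← hsp v' (s w), hs, map_neg, a2, neg_zero]
        · show B' (s v') (s w) = 0
          rw [hsp, a1]
      obtain ⟨e₂, he₂, he₂t⟩ := ih (n - 2) (by omega) (res B (perp B v (t v)))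
        (res B' (perp B' v' (s v'))) (t.restrict hW1) (s.restrict hW2)
        (isAlt_res B hA _) (nondeg_perp B hA hB hv) (isAlt_res B' hA' _)
        (nondeg_perp B' hA' hB' hv') (by omega) (by omega)
        (fun x => Subtype.ext (ht x)) (fun x y => htp x y)
        (fun x => Subtype.ext (hs x)) (fun x y => hsp x y)
      obtain ⟨c, hc⟩ := exists_pairEquiv B hA hv
      obtain ⟨c', hc'⟩ := exists_pairEquiv B' hA' hv'
      obtain ⟨e, he, heP, heQ⟩ := glue (decomp B hA hv) (decomp B' hA' hv') (c.symm.trans c') e₂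
        (fun a b => by
          obtain ⟨a, rfl⟩ := c.surjective a
          obtain ⟨b, rfl⟩ := c.surjective b
          simp only [LinearEquiv.trans_apply, LinearEquiv.symm_apply_apply, hc, hc']
          rw [pair_apply B hA hv, pair_apply B' hA' hv'])
        he₂
      refine ⟨e, he, fun x => ?_⟩
      obtain ⟨p, hp, q, hq, rfl⟩ := (decomp B hA hv).exists_add x
      obtain ⟨⟨a, b⟩, hab⟩ := c.surjective ⟨p, hp⟩
      obtain rfl : a • v + b • t v = p := by
        have := congrArg Subtype.val hab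
        rwa [hc] at this
      have hkey : ∀ a b : F, e (a • v + b • t v) = a • v' + b • s v' := fun a b => by
        have := heP (c (a, b))
        rw [hc] at this
        rw [this]
        simp [hc']
      have h3 : e (t q) = s (e q) := by
        have e3 := congrArg (fun z : ↥(perp B' v' (s v')) => (z : W)) (he₂t ⟨q, hq⟩)
        have q1 : e (t q) = _ := heQ ⟨t q, hW1 q hq⟩
        have q2 : e q = _ := heQ ⟨q, hq⟩
        rw [q1, q2]
        exact e3
      have hx : t (a • v + b • t v + q) = ((-b) • v + a • t v) + t q := by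
        simp [ht]
        module
      rw [hx, map_add, hkey, map_add, hkey, map_add, h3]
      simp [hs]
      module

section involutions

variable {V : Type*} [AddCommGroup V] [Module F V] [FiniteDimensional F V]
variable (B : LinearMap.BilinForm F V) (hA : B.IsAlt) (hB : Nondeg B)

/-- Eigenspaces. -/
def fixSp (g : Grp B) (c : F) : Submodule F V :=
  LinearMap.ker ((g : V ≃ₗ[F] V).toLinearMap - c • LinearMap.id)

omit [Fintype F] [FiniteDimensional F V] in
theorem mem_fixSp (g : Grp B) (c : F) (x : V) : x ∈ fixSp B g c ↔ (g : V ≃ₗ[F] V) x = c • x := by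
  simp [fixSp, sub_eq_zero]

omit [Fintype F] [FiniteDimensional F V] in
include hA hB in
theorem decomp_invol (h2 : (2 : F) ≠ 0) {g : Grp B}
    (hg : ∀ x, (g : V ≃ₗ[F] V) ((g : V ≃ₗ[F] V) x) = x) :
    OrthDecomp (fun x y => B x y) (fixSp B g 1) (fixSp B g (-1)) ∧
      Nondeg (res B (fixSp B g 1)) ∧ Nondeg (res B (fixSp B g (-1))) := by
  have horth : ∀ p ∈ fixSp B g 1, ∀ w ∈ fixSp B g (-1), B p w = 0 := by
    intro p hp w hw
    rw [mem_fixSp] at hp hw
    have h := Grp.map_form g p w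
    rw [hp, hw] at h
    simp only [one_smul, neg_smul, map_neg] at h
    have : (2 : F) * B p w = 0 := by linear_combination -h
    simpa [h2] using this
  have horth' : ∀ p ∈ fixSp B g 1, ∀ w ∈ fixSp B g (-1), B w p = 0 := fun p hp w hw => by
    rw [alt_neg B hA p w, horth p hp w hw, neg_zero]
  have hsplit : ∀ x, (2 : F)⁻¹ • (x + (g : V ≃ₗ[F] V) x) ∈ fixSp B g 1 ∧
      (2 : F)⁻¹ • (x - (g : V ≃ₗ[F] V) x) ∈ fixSp B g (-1) ∧
      (2 : F)⁻¹ • (x + (g : V ≃ₗ[F] V) x) + (2 : F)⁻¹ • (x - (g : V ≃ₗ[F] V) x) = x := by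
    intro x
    refine ⟨?_, ?_, ?_⟩
    · rw [mem_fixSp]; simp [hg, add_comm]
    · rw [mem_fixSp]; simp [hg, ← smul_neg]
    · rw [← smul_add, add_add_sub_cancel, ← two_smul F x, smul_smul, inv_mul_cancel₀ h2, one_smul]
  have hnd1 : ∀ p ∈ fixSp B g 1, (∀ p' ∈ fixSp B g 1, B p p' = 0) → p = 0 := by
    intro p hp h
    by_contra hne
    obtain ⟨y, hy⟩ := hB p hne
    obtain ⟨a, b, e⟩ := hsplit y
    apply hy
    rw [← e, map_add, h _ a, horth p hp _ b, add_zero]
  have hnd2 : ∀ p ∈ fixSp B g (-1), (∀ p' ∈ fixSp B g (-1), B p p' = 0) → p = 0 := by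
    intro p hp h
    by_contra hne
    obtain ⟨y, hy⟩ := hB p hne
    obtain ⟨a, b, e⟩ := hsplit y
    apply hy
    rw [← e, map_add, h _ b, horth' _ a p hp, add_zero]
  refine ⟨⟨fun a b c => by simp, fun a b c => by simp, ⟨?_, ?_⟩, horth, horth', ?_⟩, ?_, ?_⟩
  · rw [Submodule.disjoint_def]
    intro x hx hx'
    rw [mem_fixSp] at hx hx'
    rw [hx, one_smul, neg_smul, one_smul] at hx'
    have : (2 : F) • x = 0 := by rw [two_smul]; exact eq_neg_iff_add_eq_zero.1 hx'
    simpa [h2] using this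
  · rw [codisjoint_iff, eq_top_iff]
    intro x _
    obtain ⟨a, b, e⟩ := hsplit x
    exact e ▸ Submodule.add_mem_sup a b
  · intro x hx
    obtain ⟨a, b, e⟩ := hsplit x
    have ha : (2 : F)⁻¹ • (x + (g : V ≃ₗ[F] V) x) = 0 := hnd1 _ a fun p hp => by
      have h := hx p hp
      rw [← e, map_add, LinearMap.add_apply, horth' p hp _ b, add_zero] at h
      exact h
    rw [ha, zero_add] at e
    exact e ▸ b
  · intro p hp
    by_contra hc
    push Not at hc
    exact hp (Subtype.ext (hnd1 p p.2 fun p' hp' => hc ⟨p', hp'⟩))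
  · intro p hp
    by_contra hc
    push Not at hc
    exact hp (Subtype.ext (hnd2 p p.2 fun p' hp' => hc ⟨p', hp'⟩))

omit [Fintype F] in
include hA hB in
theorem conj_of_fixSp (h2 : (2 : F) ≠ 0) {g h : Grp B}
    (hg : ∀ x, (g : V ≃ₗ[F] V) ((g : V ≃ₗ[F] V) x) = x)
    (hh : ∀ x, (h : V ≃ₗ[F] V) ((h : V ≃ₗ[F] V) x) = x)
    (hd : finrank F (fixSp B g 1) = finrank F (fixSp B h 1)) :
    ∃ c : Grp B, c * g * c⁻¹ = h := by
  obtain ⟨d, n1, n2⟩ := decomp_invol B hA hB h2 hg
  obtain ⟨d', n1', n2'⟩ := decomp_invol B hA hB h2 hh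
  have hc := Submodule.finrank_add_eq_of_isCompl d.isCompl
  have hc' := Submodule.finrank_add_eq_of_isCompl d'.isCompl
  obtain ⟨-, e₁, he₁⟩ := exists_equiv _ (res B (fixSp B g 1)) (res B (fixSp B h 1))
    (isAlt_res B hA _) n1 (isAlt_res B hA _) n1' rfl hd.symm
  obtain ⟨-, e₂, he₂⟩ := exists_equiv _ (res B (fixSp B g (-1))) (res B (fixSp B h (-1)))
    (isAlt_res B hA _) n2 (isAlt_res B hA _) n2' rfl (by omega)
  obtain ⟨e, he, heP, heQ⟩ := glue d d' e₁ e₂ he₁ he₂
  refine ⟨⟨e, he⟩, ?_⟩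
  rw [mul_inv_eq_iff_eq_mul]
  refine Grp.ext' B fun x => ?_
  show e ((g : V ≃ₗ[F] V) x) = (h : V ≃ₗ[F] V) (e x)
  obtain ⟨p, hp, q, hq, rfl⟩ := d.exists_add x
  have a1 := (mem_fixSp B g 1 p).1 hp
  have a2 := (mem_fixSp B g (-1) q).1 hq
  have b1 : (h : V ≃ₗ[F] V) (e p) = e p := by
    have := (mem_fixSp B h 1 _).1 (e₁ ⟨p, hp⟩).2
    rw [one_smul, ← heP ⟨p, hp⟩] at this
    exact this
  have b2 : (h : V ≃ₗ[F] V) (e q) = -e q := by
    have := (mem_fixSp B h (-1) _).1 (e₂ ⟨q, hq⟩).2
    rw [neg_smul, one_smul, ← heQ ⟨q, hq⟩] at this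
    exact this
  simp [map_add, a1, a2, b1, b2]

include hA hB in
/-- Among more than `m / 2 + 1` involutions of the projective symplectic group of dimension `2m`
over a finite field of odd characteristic, two are conjugate. -/
theorem exists_conj_invol (h2 : (2 : F) ≠ 0) {m : ℕ} (hV : finrank F V = 2 * m) {ι : Type*}
    [Fintype ι] (hι : m / 2 + 1 < Fintype.card ι)
    (x : ι → Grp B ⧸ Subgroup.center (Grp B)) (hx1 : ∀ i, x i ≠ 1) (hx2 : ∀ i, x i * x i = 1) :
    ∃ i j, i ≠ j ∧ IsConj (x i) (x j) := by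
  classical
  haveI : Nontrivial V := Module.nontrivial_of_finrank_pos (R := F) (by
    rcases Nat.eq_zero_or_pos m with rfl | hm
    · exfalso
      haveI : Subsingleton V := finrank_zero_iff.1 (by simpa using hV)
      haveI : Subsingleton (Grp B) := ⟨fun a b => Grp.ext' B fun _ => Subsingleton.elim _ _⟩
      obtain ⟨i⟩ : Nonempty ι := Fintype.card_pos_iff.1 (by omega)
      obtain ⟨a, ha⟩ := QuotientGroup.mk_surjective (x i)
      exact hx1 i (by rw [← ha, Subsingleton.elim a 1]; rfl)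
    · omega)
  -- lifts square to `1` or to `-1`
  choose g hg using fun i => QuotientGroup.mk_surjective (x i)
  have hgg : ∀ i, g i * g i ∈ Subgroup.center (Grp B) := fun i => by
    rw [← QuotientGroup.eq_one_iff, QuotientGroup.mk_mul, hg, hx2]
  have hcases : ∀ i, (∀ v, (g i : V ≃ₗ[F] V) ((g i : V ≃ₗ[F] V) v) = v) ∨
      (∀ v, (g i : V ≃ₗ[F] V) ((g i : V ≃ₗ[F] V) v) = -v) := fun i => by
    obtain ⟨a, ha⟩ := (mem_center_iff B hA hB _).1 (hgg i)
    rcases mul_self_eq_one_iff.1 (scalar_sq B hA hB ha) with rfl | rfl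
    · exact Or.inl fun v => by rw [← Grp.mul_apply, ha, one_smul]
    · exact Or.inr fun v => by rw [← Grp.mul_apply, ha, neg_smul, one_smul]
  let d : ι → ℕ := fun i => finrank F (fixSp B (g i) 1)
  let f : ι → ℕ := fun i =>
    if ∀ v, (g i : V ≃ₗ[F] V) ((g i : V ≃ₗ[F] V) v) = v then min (d i) (2 * m - d i) / 2 else 0
  have hev : ∀ i, (∀ v, (g i : V ≃ₗ[F] V) ((g i : V ≃ₗ[F] V) v) = v) →
      Even (d i) ∧ 0 < d i ∧ d i < 2 * m := by
    intro i hi
    obtain ⟨dd, n1, n2⟩ := decomp_invol B hA hB h2 hi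
    have hsum : d i + finrank F (fixSp B (g i) (-1)) = 2 * m :=
      (Submodule.finrank_add_eq_of_isCompl dd.isCompl).trans hV
    refine ⟨(exists_equiv _ _ _ (isAlt_res B hA _) n1 (isAlt_res B hA _) n1 rfl rfl).1, ?_, ?_⟩
    · rcases Nat.eq_zero_or_pos (d i) with h0 | h0
      · exfalso
        apply hx1 i
        rw [← hg i, QuotientGroup.eq_one_iff, mem_center_iff B hA hB]
        refine ⟨-1, fun v => (mem_fixSp B _ _ _).1 ?_⟩
        rw [Submodule.eq_top_of_finrank_eq (S := fixSp B (g i) (-1)) (by omega)]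
        exact Submodule.mem_top
      · exact h0
    · have hle : d i ≤ 2 * m := hV ▸ Submodule.finrank_le _
      rcases Nat.lt_or_ge (d i) (2 * m) with h0 | h0
      · exact h0
      · exfalso
        apply hx1 i
        rw [← hg i, QuotientGroup.eq_one_iff, mem_center_iff B hA hB]
        refine ⟨1, fun v => (mem_fixSp B _ _ _).1 ?_⟩
        rw [Submodule.eq_top_of_finrank_eq (S := fixSp B (g i) 1) (by
          show d i = _
          omega)]
        exact Submodule.mem_top
  have hmaps : ∀ i ∈ (Finset.univ : Finset ι), f i ∈ Finset.range (m / 2 + 1) := by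
    intro i _
    simp only [f, Finset.mem_range]
    split <;> omega
  obtain ⟨i, -, j, -, hij, hfij⟩ :=
    Finset.exists_ne_map_eq_of_card_lt_of_maps_to (by simpa using hι) hmaps
  refine ⟨i, j, hij, ?_⟩
  -- the negative of a lift
  let ν : Grp B := ⟨LinearEquiv.neg F, fun a b => by show B (-a) (-b) = B a b; simp⟩
  have hν : ν ∈ Subgroup.center (Grp B) :=
    (mem_center_iff B hA hB ν).2 ⟨-1, fun v => by show -v = _; simp⟩
  suffices H : ∃ c : Grp B, c * g i * c⁻¹ = g j ∨ c * g i * c⁻¹ = ν * g j by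
    obtain ⟨c, hc⟩ := H
    rw [isConj_iff]
    refine ⟨(c : Grp B ⧸ Subgroup.center (Grp B)), ?_⟩
    rcases hc with hc | hc
    · rw [← hg i, ← hg j, ← QuotientGroup.mk_mul, ← QuotientGroup.mk_inv, ← QuotientGroup.mk_mul,
        hc]
    · rw [← hg i, ← hg j, ← QuotientGroup.mk_mul, ← QuotientGroup.mk_inv, ← QuotientGroup.mk_mul,
        hc, QuotientGroup.mk_mul, (QuotientGroup.eq_one_iff ν).2 hν, one_mul]
  rcases hcases i with hi | hi <;> rcases hcases j with hj | hj
  · simp only [f, if_pos hi, if_pos hj] at hfij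
    obtain ⟨⟨a, ha⟩, ha0, ha1⟩ := hev i hi
    obtain ⟨⟨b, hb⟩, hb0, hb1⟩ := hev j hj
    rcases (show d i = d j ∨ d i = 2 * m - d j by omega) with hd | hd
    · obtain ⟨c, hc⟩ := conj_of_fixSp B hA hB h2 hi hj hd
      exact ⟨c, Or.inl hc⟩
    · have hk : ∀ v, (ν * g j : Grp B).1 ((ν * g j : Grp B).1 v) = v := fun v => by
        show -((g j : V ≃ₗ[F] V) (-((g j : V ≃ₗ[F] V) v))) = v
        rw [map_neg, hj, neg_neg]
      have he : fixSp B (ν * g j) 1 = fixSp B (g j) (-1) := by
        ext v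
        rw [mem_fixSp, mem_fixSp, Grp.mul_apply, one_smul, neg_smul, one_smul]
        exact ⟨fun h => neg_eq_iff_eq_neg.1 h, fun h => by
          rw [h]; show -(-v) = v; rw [neg_neg]⟩
      obtain ⟨dd, -, -⟩ := decomp_invol B hA hB h2 hj
      have hsum : d j + finrank F (fixSp B (g j) (-1)) = 2 * m :=
        (Submodule.finrank_add_eq_of_isCompl dd.isCompl).trans hV
      obtain ⟨c, hc⟩ := conj_of_fixSp B hA hB h2 hi hk (by
        show d i = finrank F (fixSp B (ν * g j) 1)
        rw [he]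
        omega)
      exact ⟨c, Or.inr hc⟩
  · exfalso
    have hj' : ¬ ∀ v, (g j : V ≃ₗ[F] V) ((g j : V ≃ₗ[F] V) v) = v := by
      obtain ⟨v, hv⟩ := exists_ne (0 : V)
      intro h
      have h0 := hj v
      rw [h v, eq_neg_iff_add_eq_zero, ← two_smul F] at h0
      simp [h2, hv] at h0
    simp only [f, if_pos hi, if_neg hj'] at hfij
    obtain ⟨⟨a, ha⟩, ha0, ha1⟩ := hev i hi
    omega
  · exfalso
    have hi' : ¬ ∀ v, (g i : V ≃ₗ[F] V) ((g i : V ≃ₗ[F] V) v) = v := by
      obtain ⟨v, hv⟩ := exists_ne (0 : V)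
      intro h
      have h0 := hi v
      rw [h v, eq_neg_iff_add_eq_zero, ← two_smul F] at h0
      simp [h2, hv] at h0
    simp only [f, if_neg hi', if_pos hj] at hfij
    obtain ⟨⟨a, ha⟩, ha0, ha1⟩ := hev j hj
    omega
  · obtain ⟨e, he, het⟩ := exists_equiv_sqrt_neg_one h2 _ B B (g i : V ≃ₗ[F] V).toLinearMap
      (g j : V ≃ₗ[F] V).toLinearMap hA hB hA hB rfl rfl hi (g i).2 hj (g j).2
    refine ⟨⟨e, he⟩, Or.inl ?_⟩
    rw [mul_inv_eq_iff_eq_mul]
    exact Grp.ext' B fun v => het v

end involutions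

end Cfsg.Agent.Classical.Sp
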