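import Cfsg.Agent.Lib.Classical.MaxQuadForm
import Cfsg.Agent.Lib.Classical.SympInvolution

/-!
Stabilisers of orthogonal decompositions are maximal in symplectic groups.
-/

set_option autoImplicit false
set_option linter.unusedSectionVars false

open Module

namespace Cfsg.Agent.Classical.MaxSub

open Sp

variable {F V : Type*} [Field F] [AddCommGroup V] [Module F V] [FiniteDimensional F V]
variable (B : LinearMap.BilinForm F V) {t : ℕ} (D : Fin t → Submodule F V)

/-- The isometries permuting the members of `D`. -/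
def decStab : Subgroup (Grp B) where
  carrier := {g | ∃ σ : Equiv.Perm (Fin t), ∀ i, (D i).map (g : V ≃ₗ[F] V).toLinearMap = D (σ i)}
  mul_mem' {a b} ha hb := by
    obtain ⟨σ, hσ⟩ := ha
    obtain ⟨τ, hτ⟩ := hb
    refine ⟨τ.trans σ, fun i => ?_⟩
    rw [show ((a * b : Grp B) : V ≃ₗ[F] V).toLinearMap = (a : V ≃ₗ[F] V).toLinearMap ∘ₗ (b : V ≃ₗ[F] V).toLinearMap from
      LinearMap.ext fun x => rfl, Submodule.map_comp, hτ, hσ, Equiv.trans_apply]
  one_mem' := ⟨1, fun i => by simp⟩
  inv_mem' {a} ha := by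
    obtain ⟨σ, hσ⟩ := ha
    refine ⟨σ.symm, fun i => ?_⟩
    have h := hσ (σ.symm i)
    rw [Equiv.apply_symm_apply] at h
    rw [← h, ← Submodule.map_comp]
    rw [show ((a⁻¹ : Grp B) : V ≃ₗ[F] V).toLinearMap ∘ₗ (a : V ≃ₗ[F] V).toLinearMap = LinearMap.id from
      LinearMap.ext fun x => (a : V ≃ₗ[F] V).symm_apply_apply x, Submodule.map_id]

/-- Summation of coordinates. -/
def sumMap : (∀ i, D i) →ₗ[F] V where
  toFun c := ∑ i, (c i : V)
  map_add' a b := by simp [Finset.sum_add_distrib]
  map_smul' r a := by simp [Finset.smul_sum]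

theorem sumMap_apply (c : ∀ i, D i) : sumMap D c = ∑ i, (c i : V) := rfl

theorem sumMap_single (i : Fin t) (a : D i) : sumMap D (Pi.single i a) = (a : V) := by
  rw [sumMap_apply, Finset.sum_eq_single i]
  · simp
  · intro j _ hj; simp [Pi.single_eq_of_ne hj]
  · simp

theorem sumMap_bijective (hind : iSupIndep D) (hsup : iSup D = ⊤) : Function.Bijective (sumMap D) := by
  constructor
  · rw [injective_iff_map_eq_zero]
    intro c hc
    funext i
    have h1 : (c i : V) ∈ ⨆ (j) (_ : j ≠ i), D j := by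
      have h2 : (c i : V) = -∑ j ∈ Finset.univ.erase i, (c j : V) := by
        rw [eq_neg_iff_add_eq_zero, Finset.add_sum_erase _ (fun j => (c j : V)) (Finset.mem_univ i)]
        exact hc
      rw [h2]
      exact Submodule.neg_mem _ (Submodule.sum_mem _ fun j hj =>
        Submodule.mem_iSup_of_mem j (Submodule.mem_iSup_of_mem (Finset.ne_of_mem_erase hj) (c j).2))
    exact Subtype.ext (Submodule.disjoint_def.1 (hind i) _ (c i).2 h1)
  · rw [← LinearMap.range_eq_top, eq_top_iff, ← hsup, iSup_le_iff]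
    exact fun i v hv => ⟨Pi.single i ⟨v, hv⟩, sumMap_single D i ⟨v, hv⟩⟩

variable (hA : B.IsAlt) (hB : Nondeg B) {k : ℕ}
variable (hnd : ∀ i, ∀ w ∈ D i, w ≠ 0 → ∃ x ∈ D i, B w x ≠ 0)
variable (horth : ∀ i j, i ≠ j → ∀ u ∈ D i, ∀ v ∈ D j, B u v = 0)
variable (hrk : ∀ i, finrank F (D i) = k) (hk : 0 < k)
variable (hind : iSupIndep D) (hsup : iSup D = ⊤)

theorem form_sum (horth : ∀ i j, i ≠ j → ∀ u ∈ D i, ∀ v ∈ D j, B u v = 0) (a b : ∀ i, D i) :
    B (sumMap D a) (sumMap D b) = ∑ i, B (a i : V) (b i : V) := by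
  simp only [sumMap_apply, map_sum, LinearMap.sum_apply]
  refine Finset.sum_congr rfl fun i _ => ?_
  rw [Finset.sum_eq_single i]
  · intro j _ hj; exact horth j i hj _ (a j).2 _ (b i).2
  · simp

include hA hnd horth hrk hind hsup

/-- Every permutation of the members is induced by an isometry. -/
theorem exists_perm (σ : Equiv.Perm (Fin t)) :
    ∃ g : Grp B, (∀ (i : Fin t), (D i).map (g : V ≃ₗ[F] V).toLinearMap = D (σ i)) := by
  have he : ∀ i, ∃ e : D i ≃ₗ[F] D (σ i), ∀ x y, res B (D (σ i)) (e x) (e y) = res B (D i) x y := fun i => by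
    have hn : ∀ j, Nondeg (res B (D j)) := fun j u hu => by
      obtain ⟨x, hx, hux⟩ := hnd j u u.2 (fun e => hu (Subtype.ext e))
      exact ⟨⟨x, hx⟩, hux⟩
    exact (exists_equiv k (res B (D i)) (res B (D (σ i))) (isAlt_res B hA _) (hn i) (isAlt_res B hA _) (hn (σ i))
      (hrk i) (hrk (σ i))).2
  choose e he using he
  set L := LinearEquiv.ofBijective (sumMap D) (sumMap_bijective D hind hsup) with hL
  let E : (∀ i, D i) ≃ₗ[F] (∀ i, D i) := (LinearEquiv.piCongrRight e).trans (LinearEquiv.piCongrLeft F (fun i => D i) σ)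
  have hE : ∀ c i, E c (σ i) = e i (c i) := fun c i => by
    simp only [E, LinearEquiv.trans_apply]
    exact Equiv.piCongrLeft_apply_apply (fun i => D i) σ _ i
  have hform : ∀ x y, B (L.symm.trans (E.trans L) x) (L.symm.trans (E.trans L) y) = B x y := by
    intro x y
    obtain ⟨a, rfl⟩ := L.surjective x
    obtain ⟨b, rfl⟩ := L.surjective y
    rw [LinearEquiv.trans_apply, LinearEquiv.trans_apply, LinearEquiv.symm_apply_apply, LinearEquiv.trans_apply,
      LinearEquiv.trans_apply, LinearEquiv.symm_apply_apply]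
    show B (sumMap D (E a)) (sumMap D (E b)) = B (sumMap D a) (sumMap D b)
    rw [form_sum B D horth, form_sum B D horth, ← Equiv.sum_comp σ]
    refine Finset.sum_congr rfl fun i _ => ?_
    rw [hE, hE]
    exact he i (a i) (b i)
  refine ⟨⟨L.symm.trans (E.trans L), hform⟩, fun i => ?_⟩
  have hsingle : ∀ a : D i, L.symm.trans (E.trans L) (a : V) = (e i a : V) := by
    intro a
    have h1 : L.symm (a : V) = Pi.single i a := L.symm_apply_eq.2 (sumMap_single D i a).symm
    rw [LinearEquiv.trans_apply, h1, LinearEquiv.trans_apply]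
    have h2 : E (Pi.single i a) = Pi.single (σ i) (e i a) := by
      funext j
      obtain ⟨j, rfl⟩ := σ.surjective j
      rw [hE]
      rcases eq_or_ne j i with rfl | hj
      · rw [Pi.single_eq_same, Pi.single_eq_same]
      · rw [Pi.single_eq_of_ne hj, Pi.single_eq_of_ne (σ.injective.ne hj), map_zero]
    rw [h2]
    exact sumMap_single D (σ i) (e i a)
  refine Submodule.eq_of_le_of_finrank_eq ?_ (by rw [LinearEquiv.finrank_map_eq, hrk, hrk])
  rintro _ ⟨v, hv, rfl⟩
  show L.symm.trans (E.trans L) v ∈ _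
  rw [show v = ((⟨v, hv⟩ : D i) : V) from rfl, hsingle]
  exact (e i _).2

include hB hk

theorem T_mem_decStab {i : Fin t} {v : V} (hv : v ∈ D i) (c : F) : T B hA v c ∈ decStab B D := by
  refine ⟨1, fun j => Submodule.eq_of_le_of_finrank_eq ?_ (LinearEquiv.finrank_map_eq _ _)⟩
  rintro _ ⟨x, hx, rfl⟩
  show (T B hA v c : V ≃ₗ[F] V) x ∈ D j
  rw [T_apply]
  rcases eq_or_ne j i with rfl | hj
  · exact (D j).add_mem hx ((D j).smul_mem _ hv)
  · rw [horth j i hj x hx v hv, mul_zero, zero_smul, add_zero]; exact hx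

theorem mem_decStab_of_pieces {g : Grp B}
    (hin : ∀ i, ∀ v ∈ D i, ∃ j, (g : V ≃ₗ[F] V) v ∈ D j) : g ∈ decStab B D := by
  have hmap : ∀ i, ∃ j, (D i).map (g : V ≃ₗ[F] V).toLinearMap = D j := by
    intro i
    have hin' := hin i
    obtain ⟨a, ha, ha0⟩ := Submodule.exists_mem_ne_zero_of_ne_bot
      (fun e => by have := hrk i; rw [e, finrank_bot] at this; omega : D i ≠ ⊥)
    obtain ⟨j, hj⟩ := hin' a ha
    refine ⟨j, Submodule.eq_of_le_of_finrank_eq ?_ (by rw [LinearEquiv.finrank_map_eq, hrk, hrk])⟩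
    rintro _ ⟨b, hb, rfl⟩
    by_contra hbj
    obtain ⟨j', hj'⟩ := hin' b hb
    obtain ⟨j'', hj''⟩ := hin' (a + b) ((D i).add_mem ha hb)
    have hjj : j ≠ j' := fun e => hbj (e ▸ hj')
    rw [map_add] at hj''
    have hsum : sumMap D (Pi.single j ⟨_, hj⟩ + Pi.single j' ⟨_, hj'⟩) = sumMap D (Pi.single j'' ⟨_, hj''⟩) := by
      rw [map_add, sumMap_single, sumMap_single, sumMap_single]
    have heq := (sumMap_bijective D hind hsup).1 hsum
    rcases eq_or_ne j'' j with rfl | h
    · have := congrFun heq j'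
      simp [Pi.single_eq_of_ne hjj.symm] at this
      exact hbj (by rw [this, map_zero]; exact Submodule.zero_mem _)
    · have := congrFun heq j
      simp [Pi.single_eq_of_ne hjj, Pi.single_eq_of_ne h.symm] at this
      exact ha0 this
  choose σ hσ using hmap
  have hinj : Function.Injective σ := by
    intro a b hab
    by_contra hne'
    have h1 : (D a).map (g : V ≃ₗ[F] V).toLinearMap = (D b).map (g : V ≃ₗ[F] V).toLinearMap := by rw [hσ, hσ, hab]
    have h2 := Submodule.map_injective_of_injective (g : V ≃ₗ[F] V).injective h1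
    have hle2 : D b ≤ ⨆ (j) (_ : j ≠ a), D j :=
      le_iSup₂ (f := fun j (_ : j ≠ a) => D j) b (fun e => hne' e.symm)
    have h3 : Disjoint (D a) (D b) := (hind a).mono_right hle2
    rw [h2, disjoint_self] at h3
    have := hrk b
    rw [h3, finrank_bot] at this
    omega
  exact ⟨Equiv.ofBijective σ (Finite.injective_iff_bijective.1 hinj), hσ⟩

theorem decStab_max {M : Subgroup (Grp B)} (hle : decStab B D ≤ M) (hne : M ≠ decStab B D)
    (ht : 2 ≤ t) (hpair : ∀ i, ∃ a b : D i, a ≠ 0 ∧ b ≠ 0 ∧ a ≠ b ∧ B (a : V) (b : V) = 0) : M = ⊤ := by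
  have hDS : ∀ i, ∀ v ∈ D i, v ∈ centres B hA M := fun i v hv c =>
    hle (T_mem_decStab B D hA hB hnd horth hrk hk hind hsup hv c)
  have hbij := sumMap_bijective D hind hsup
  -- `P J`: some centre has support exactly `J`
  set P : Finset (Fin t) → Prop := fun J =>
    ∃ c : ∀ i, D i, (∀ i, c i ≠ 0 ↔ i ∈ J) ∧ sumMap D c ∈ centres B hA M with hP
  -- changing one component
  have hstep : ∀ (c : ∀ i, D i) (i : Fin t) (b : D i), sumMap D c ∈ centres B hA M → c i ≠ 0 → b ≠ 0 →
      sumMap D (Function.update c i b) ∈ centres B hA M := by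
    have one : ∀ (c : ∀ i, D i) (i : Fin t) (b : D i), sumMap D c ∈ centres B hA M → B (c i : V) (b : V) ≠ 0 →
        sumMap D (Function.update c i b) ∈ centres B hA M := by
      intro c i b hc hcb
      have hmem : ((b : V) - (c i : V)) ∈ D i := (D i).sub_mem b.2 (c i).2
      have hval : B (sumMap D c) ((b : V) - (c i : V)) = B (c i : V) (b : V) := by
        conv_lhs => rw [show ((b : V) - (c i : V)) = ((⟨_, hmem⟩ : D i) : V) from rfl, ← sumMap_single D i ⟨_, hmem⟩]
        rw [form_sum B D horth, Finset.sum_eq_single i]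
        · rw [Pi.single_eq_same, map_sub, hA.self_eq_zero, sub_zero]
        · intro j _ hj; rw [Pi.single_eq_of_ne hj]; simp
        · simp
      have h1 := centres_line B hA hc (hDS i _ hmem) (hval ▸ hcb) 1
      have he : Function.update c i b = c + Pi.single i ⟨_, hmem⟩ := by
        funext j
        rcases eq_or_ne j i with rfl | hj
        · rw [Function.update_self, Pi.add_apply, Pi.single_eq_same]; exact Subtype.ext (by simp)
        · rw [Function.update_of_ne hj, Pi.add_apply, Pi.single_eq_of_ne hj, add_zero]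
      rw [he, map_add, sumMap_single]
      simpa using h1
    intro c i b hc hci hb
    obtain ⟨x, hx, hax⟩ := hnd i _ (c i).2 (fun e => hci (Subtype.ext e))
    obtain ⟨y, hy, hby⟩ := hnd i _ b.2 (fun e => hb (Subtype.ext e))
    have hyb : B y (b : V) ≠ 0 := by rw [alt_neg B hA (b : V) y]; exact neg_ne_zero.2 hby
    obtain ⟨z, hz, haz, hzb⟩ : ∃ z ∈ D i, B (c i : V) z ≠ 0 ∧ B z (b : V) ≠ 0 := by
      by_cases h1 : B (c i : V) y = 0
      · by_cases h2 : B x (b : V) = 0
        · exact ⟨x + y, (D i).add_mem hx hy, by simp [h1, hax], by simp [h2, hyb]⟩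
        · exact ⟨x, hx, hax, h2⟩
      · exact ⟨y, hy, h1, hyb⟩
    have h1 := one _ i b (one c i ⟨z, hz⟩ hc haz) (by rw [Function.update_self]; exact hzb)
    rwa [Function.update_idem] at h1
  have hall : ∀ J, P J → ∀ c : ∀ i, D i, (∀ i, c i ≠ 0 ↔ i ∈ J) → sumMap D c ∈ centres B hA M := by
    intro J hJ c hc
    obtain ⟨c₀, hc₀, hS⟩ := hJ
    have key : ∀ s : Finset (Fin t), sumMap D (fun i => if i ∈ s then c i else c₀ i) ∈ centres B hA M := by
      intro s
      induction s using Finset.induction_on with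
      | empty => simpa using hS
      | @insert a s has ih =>
        have he : (fun i => if i ∈ insert a s then c i else c₀ i) =
            Function.update (fun i => if i ∈ s then c i else c₀ i) a (c a) := by
          funext i
          rcases eq_or_ne i a with rfl | hi
          · simp
          · simp [Function.update_of_ne hi, hi]
        rw [he]
        by_cases hca : c a = 0
        · have : c₀ a = 0 := by
            by_contra h0; exact ((hc a).2 ((hc₀ a).1 h0)) hca
          rw [hca, show Function.update (fun i => if i ∈ s then c i else c₀ i) a 0 =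
            (fun i => if i ∈ s then c i else c₀ i) by rw [Function.update_eq_self_iff]; simp [has, this]]
          exact ih
        · refine hstep _ a _ ih ?_ hca
          simp [has, (hc₀ a).2 ((hc a).1 hca)]
    simpa using key Finset.univ
  have hone : ∀ i : Fin t, ∃ p : D i × D i, B (p.1 : V) (p.2 : V) = 1 := fun i => by
    haveI : Nontrivial (D i) := Module.nontrivial_of_finrank_pos (R := F) (by rw [hrk]; exact hk)
    obtain ⟨a, ha⟩ := exists_ne (0 : D i)
    obtain ⟨x, hx, hax⟩ := hnd i _ a.2 (fun e => ha (Subtype.ext e))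
    exact ⟨(a, (B (a : V) x)⁻¹ • ⟨x, hx⟩), by simp [inv_mul_cancel₀ hax]⟩
  choose p hp using hone
  have hp0 : ∀ i, (p i).1 ≠ 0 ∧ (p i).2 ≠ 0 ∧ (p i).1 ≠ (p i).2 ∧ (p i).1 + (p i).2 ≠ 0 := fun i => by
    refine ⟨fun e => ?_, fun e => ?_, fun e => ?_, fun e => ?_⟩
    · simpa [e] using hp i
    · simpa [e] using hp i
    · simpa [e, hA.self_eq_zero] using hp i
    · simpa [eq_neg_of_add_eq_zero_left e, hA.self_eq_zero] using hp i
  choose qa qb hqa hqb hqne hq using hpair
  have shrink : ∀ J, P J → ∀ i ∈ J, (J.erase i).Nonempty → P (J.erase i) := by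
    intro J hJ i hi hne'
    obtain ⟨j, hj⟩ := hne'
    have hji : j ≠ i := Finset.ne_of_mem_erase hj
    have hjJ : j ∈ J := Finset.mem_of_mem_erase hj
    set u : ∀ l, D l := fun l => if l ∈ J then (if l = j then (p l).1 else qa l) else 0 with hu
    set v : ∀ l, D l := fun l => if l ∈ J then (if l = j then (p l).2 else if l = i then qa l else qb l) else 0 with hv
    have hu' : ∀ l, u l ≠ 0 ↔ l ∈ J := fun l => by
      simp only [hu]; split_ifs with h1 h2 <;> simp_all [(hp0 l).1]
    have hv' : ∀ l, v l ≠ 0 ↔ l ∈ J := fun l => by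
      simp only [hv]; split_ifs with h1 h2 h3 <;> simp_all [(hp0 l).2.1]
    have hval : B (sumMap D u) (sumMap D v) = 1 := by
      rw [form_sum B D horth, Finset.sum_eq_single j]
      · simp [hu, hv, hjJ, hp]
      · intro l _ hlj
        simp only [hu, hv]
        split_ifs with h1 h2 h3
        · exact hA.self_eq_zero _
        · exact hq l
        · simp
      · simp
    have h1 := centres_line B hA (hall J hJ u hu') (hall J hJ v hv') (hval ▸ one_ne_zero) (-1)
    rw [neg_one_smul, ← sub_eq_add_neg, ← map_sub] at h1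
    refine ⟨u - v, fun l => ?_, h1⟩
    rw [Pi.sub_apply, sub_ne_zero, Finset.mem_erase]
    simp only [hu, hv]
    split_ifs with h1 h2 h3
    · subst h2; simp [(hp0 _).2.2.1, hji, hjJ]
    · subst h3; simp
    · simp [hqne l, h3, h1]
    · simp [h1]
  have grow : ∀ J, P J → ∀ j ∈ J, ∀ l, l ∉ J → P {j, l} → P (insert l J) := by
    intro J hJ j hj l hl hjl
    have hjl' : j ≠ l := fun e => hl (e ▸ hj)
    set u : ∀ i, D i := fun i => if i ∈ J then (p i).1 else 0 with hu
    set v : ∀ i, D i := fun i => if i = j ∨ i = l then (p i).2 else 0 with hv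
    have hu' : ∀ i, u i ≠ 0 ↔ i ∈ J := fun i => by
      simp only [hu]; split_ifs with h1 <;> simp_all [(hp0 i).1]
    have hv' : ∀ i, v i ≠ 0 ↔ i ∈ ({j, l} : Finset (Fin t)) := fun i => by
      simp only [hv]; split_ifs with h1 <;> simp_all [(hp0 i).2.1]
    have hval : B (sumMap D u) (sumMap D v) = 1 := by
      rw [form_sum B D horth, Finset.sum_eq_single j]
      · simp [hu, hv, hj, hp]
      · intro i _ hij
        simp only [hu, hv]
        split_ifs with h1 h2
        · exact absurd ((h2.resolve_left hij) ▸ h1) hl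
        all_goals simp
      · simp
    have h1 := centres_line B hA (hall J hJ u hu') (hall _ hjl v hv') (hval ▸ one_ne_zero) 1
    rw [one_smul, ← map_add] at h1
    refine ⟨u + v, fun i => ?_, h1⟩
    rw [Pi.add_apply, Finset.mem_insert]
    simp only [hu, hv]
    split_ifs with h1 h2 h2
    · simp [(hp0 i).2.2.2, h1]
    · simp [(hp0 i).1, h1]
    · simp [(hp0 i).2.1, h2.resolve_left (fun e => h1 (e ▸ hj))]
    · push Not at h2; simp [h1, h2.2]
  -- some centre has support of size at least two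
  obtain ⟨J, hJ, hJ2⟩ : ∃ J, P J ∧ 2 ≤ J.card := by
    classical
    by_contra hcon
    push Not at hcon
    refine hne (le_antisymm (fun g hg => ?_) hle)
    have hin : ∀ v ∈ centres B hA M, ∃ i, v ∈ D i := by
      intro v hv
      obtain ⟨c, rfl⟩ := hbij.2 v
      rcases (Finset.univ.filter fun i => c i ≠ 0).eq_empty_or_nonempty with he | ⟨i, hi⟩
      · have h0 : c = 0 := funext fun i => by
          by_contra h0
          exact Finset.notMem_empty i (he ▸ Finset.mem_filter.2 ⟨Finset.mem_univ i, h0⟩)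
        exact ⟨⟨0, by omega⟩, by simp [h0]⟩
      · refine ⟨i, ?_⟩
        have hc1 : c = Pi.single i (c i) := funext fun l => by
          rcases eq_or_ne l i with rfl | hl
          · rw [Pi.single_eq_same]
          · rw [Pi.single_eq_of_ne hl]
            by_contra h0
            have h2 : ({i, l} : Finset (Fin t)) ⊆ Finset.univ.filter fun i => c i ≠ 0 := by
              intro a ha; rcases Finset.mem_insert.1 ha with rfl | ha
              · exact hi
              · rw [Finset.mem_singleton.1 ha]; exact Finset.mem_filter.2 ⟨Finset.mem_univ _, h0⟩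
            have := hcon (Finset.univ.filter fun i => c i ≠ 0) ⟨c, fun i => by simp, hv⟩
            have := Finset.card_le_card h2
            rw [Finset.card_pair (Ne.symm hl)] at this
            omega
        rw [hc1, sumMap_single]; exact (c i).2
    exact mem_decStab_of_pieces B D hA hB hnd horth hrk hk hind hsup fun i v hv =>
      hin _ (centres_map B hA hg (hDS i v hv))
  -- reduce to pairs
  have hpairs : ∀ n, ∀ J : Finset (Fin t), J.card = n + 2 → P J → ∃ a b, a ≠ b ∧ P {a, b} := by
    intro n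
    induction n with
    | zero =>
      intro J hc hJ
      obtain ⟨a, b, hab, rfl⟩ := Finset.card_eq_two.1 hc
      exact ⟨a, b, hab, hJ⟩
    | succ n ih =>
      intro J hc hJ
      obtain ⟨i, hi⟩ := Finset.card_pos.1 (by omega : 0 < J.card)
      have hc' : (J.erase i).card = n + 2 := by rw [Finset.card_erase_of_mem hi]; omega
      exact ih _ hc' (shrink J hJ i hi (Finset.card_pos.1 (by omega)))
  obtain ⟨a, b, hab, hPab⟩ := hpairs (J.card - 2) J (by omega) hJ
  have hperm : ∀ c d, c ≠ d → P {c, d} := by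
    intro c d hcd
    let σ : Equiv.Perm (Fin t) := Equiv.swap (Equiv.swap a c b) d * Equiv.swap a c
    have hσa : σ a = c := by
      simp only [σ, Equiv.Perm.mul_apply, Equiv.swap_apply_left]
      refine Equiv.swap_apply_of_ne_of_ne (fun e => hab ?_) hcd
      exact (Equiv.swap a c).injective (by rw [Equiv.swap_apply_left]; exact e)
    have hσb : σ b = d := by simp only [σ, Equiv.Perm.mul_apply, Equiv.swap_apply_left]
    obtain ⟨g, hg⟩ := exists_perm B D hA hnd horth hrk hind hsup σ
    obtain ⟨w, hw, hwS⟩ := hPab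
    have h1 := centres_map B hA (hle ⟨σ, hg⟩) hwS
    obtain ⟨w', hw'⟩ := hbij.2 ((g : V ≃ₗ[F] V) (sumMap D w))
    refine ⟨w', ?_, hw' ▸ h1⟩
    have hmem : ∀ i, (g : V ≃ₗ[F] V) (w i : V) ∈ D (σ i) := fun i => hg i ▸ Submodule.mem_map_of_mem (w i).2
    have hw'' : ∀ i, (w' (σ i) : V) = (g : V ≃ₗ[F] V) (w i : V) := by
      have he : sumMap D w' = sumMap D (fun l => ⟨(g : V ≃ₗ[F] V) (w (σ.symm l) : V), by
          simpa using hmem (σ.symm l)⟩) := by
        rw [hw', sumMap_apply, map_sum, sumMap_apply, ← Equiv.sum_comp σ.symm fun i => (g : V ≃ₗ[F] V) (w i : V)]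
      intro i
      have := congrArg Subtype.val (congrFun (hbij.1 he) (σ i))
      have h2 : ∀ j, j = i → (g : V ≃ₗ[F] V) (w j : V) = (g : V ≃ₗ[F] V) (w i : V) := fun j e => e ▸ rfl
      exact this.trans (h2 _ (σ.symm_apply_apply i))
    intro l
    obtain ⟨i, rfl⟩ := σ.surjective l
    have : w' (σ i) ≠ 0 ↔ w i ≠ 0 := by
      rw [not_iff_not, ← Submodule.coe_eq_zero, hw'', map_eq_zero_iff _ (g : V ≃ₗ[F] V).injective,
        Submodule.coe_eq_zero]
    rw [this, hw, ← hσa, ← hσb]
    simp [σ.injective.eq_iff]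
  have hsupp : ∀ J : Finset (Fin t), J.Nonempty → P J := by
    intro J hJ
    induction hJ using Finset.Nonempty.cons_induction with
    | singleton l =>
      refine ⟨Pi.single l (p l).1, fun i => ?_, ?_⟩
      · rcases eq_or_ne i l with rfl | h
        · simp [(hp0 i).1]
        · simp [Pi.single_eq_of_ne h, h]
      · rw [sumMap_single]; exact hDS l _ (p l).1.2
    | cons l J' hl hJ' ih =>
      obtain ⟨j, hj⟩ := hJ'
      rw [Finset.cons_eq_insert]
      exact grow J' ih j hj l hl (hperm j l (fun e => hl (e ▸ hj)))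
  refine eq_top_of_centres B hA hB fun v hv => ?_
  obtain ⟨c, rfl⟩ := hbij.2 v
  classical
  refine hall (Finset.univ.filter fun i => c i ≠ 0) (hsupp _ ?_) c fun i => by simp
  by_contra he
  rw [Finset.not_nonempty_iff_eq_empty] at he
  refine hv ?_
  have : c = 0 := funext fun i => by
    by_contra h0
    exact Finset.notMem_empty i (he ▸ Finset.mem_filter.2 ⟨Finset.mem_univ i, h0⟩)
  rw [this, map_zero]

theorem decStab_ne_top (ht : 2 ≤ t) : decStab B D ≠ ⊤ := by
  intro htop
  set i₀ : Fin t := ⟨0, by omega⟩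
  set i₁ : Fin t := ⟨1, by omega⟩
  have hne : i₀ ≠ i₁ := by simp [i₀, i₁]
  have hbot : ∀ i, D i ≠ ⊥ := fun i e => by have := hrk i; rw [e, finrank_bot] at this; omega
  obtain ⟨a, ha, ha0⟩ := Submodule.exists_mem_ne_zero_of_ne_bot (hbot i₀)
  obtain ⟨b, hb, hb0⟩ := Submodule.exists_mem_ne_zero_of_ne_bot (hbot i₁)
  obtain ⟨x, hx, hax⟩ := hnd i₀ a ha ha0
  have hxa : B x a ≠ 0 := by rw [alt_neg B hA a x]; exact neg_ne_zero.2 hax
  obtain ⟨σ, hσ⟩ := (htop ▸ Subgroup.mem_top (T B hA (a + b) 1) : T B hA (a + b) 1 ∈ decStab B D)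
  have h1 : (T B hA (a + b) 1 : V ≃ₗ[F] V) x ∈ D (σ i₀) := hσ i₀ ▸ Submodule.mem_map_of_mem hx
  rw [T_apply, map_add, horth i₀ i₁ hne x hx b hb, add_zero, one_mul] at h1
  set r := B x a
  have hm0 : x + r • a ∈ D i₀ := (D i₀).add_mem hx ((D i₀).smul_mem _ ha)
  have hm1 : r • b ∈ D i₁ := (D i₁).smul_mem _ hb
  have hsum : sumMap D (Pi.single i₀ ⟨_, hm0⟩ + Pi.single i₁ ⟨_, hm1⟩) = sumMap D (Pi.single (σ i₀) ⟨_, h1⟩) := by
    rw [map_add, sumMap_single, sumMap_single, sumMap_single]
    module
  have heq := (sumMap_bijective D hind hsup).1 hsum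
  rcases eq_or_ne (σ i₀) i₀ with h | h
  · have := congrFun heq i₁
    rw [Pi.add_apply, Pi.single_eq_of_ne hne.symm, Pi.single_eq_same, zero_add,
      Pi.single_eq_of_ne (by rw [h]; exact hne.symm)] at this
    exact smul_ne_zero hxa hb0 (congrArg Subtype.val this)
  · have := congrFun heq i₀
    rw [Pi.add_apply, Pi.single_eq_same, Pi.single_eq_of_ne hne, add_zero, Pi.single_eq_of_ne h.symm] at this
    have hz : x + r • a = 0 := congrArg Subtype.val this
    apply hax
    rw [eq_neg_of_add_eq_zero_left hz, map_neg, map_smul, hA.self_eq_zero, smul_zero, neg_zero]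

end Cfsg.Agent.Classical.MaxSub
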