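import Cfsg.Agent.Lib.Classical.OrthSum
import Cfsg.Agent.Lib.Classical.PlusMaximal

/-!
Transitivity of `Ω` on subspaces, the two classes of generators, and hyperbolic involutions.
-/

set_option autoImplicit false
set_option linter.style.haveILetI false
set_option linter.unusedSectionVars false

open Matrix QuadraticMap Module

namespace Cfsg.Agent.OmegaTrans

open Cfsg.Agent.Classical Cfsg.Agent.Classical.Refl

section general

variable {F : Type*} [Field F] [Fintype F] {ι : Type} [Fintype ι] [DecidableEq ι] (Q : QuadraticForm F (ι → F))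

/-- `g` maps `U` into itself. -/
def Stab (U : Submodule F (ι → F)) (g : O Q) : Prop := ∀ x ∈ U, act Q g x ∈ U

theorem Stab.mul {U : Submodule F (ι → F)} {g h : O Q} (hg : Stab Q U g) (hh : Stab Q U h) : Stab Q U (g * h) :=
  fun x hx => by rw [act_mul]; exact hg _ (hh x hx)

theorem stab_one (U : Submodule F (ι → F)) : Stab Q U (1 : O Q) := fun x hx => by rw [act_one]; exact hx

theorem stab_refl_mem {U : Submodule F (ι → F)} {v : ι → F} (hv : Q v ≠ 0) (h : v ∈ U) :
    Stab Q U (refl Q v hv) := fun x hx => by rw [act_refl]; exact U.sub_mem hx (U.smul_mem _ h)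

theorem stab_refl_perp {U : Submodule F (ι → F)} {v : ι → F} (hv : Q v ≠ 0)
    (h : v ∈ LinearMap.BilinForm.orthogonal (polarBilin Q) U) : Stab Q U (refl Q v hv) := fun x hx => by
  have e : polar Q v x = 0 := by rw [polar_comm]; exact h x hx
  rw [act_refl, e, mul_zero, zero_smul, sub_zero]; exact hx

theorem mulVecLin_injective (g : O Q) :
    Function.Injective (Matrix.mulVecLin ((g : GL ι F) : Matrix ι ι F)) := fun x y e => by
  have e' : act Q g⁻¹ (act Q g x) = act Q g⁻¹ (act Q g y) := congrArg (act Q g⁻¹) e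
  rwa [← act_mul, ← act_mul, inv_mul_cancel, act_one, act_one] at e'

theorem map_eq (g : O Q) {U W : Submodule F (ι → F)} (h : ∀ x ∈ U, act Q g x ∈ W)
    (hd : finrank F W ≤ finrank F U) : U.map (Matrix.mulVecLin ((g : GL ι F) : Matrix ι ι F)) = W := by
  refine Submodule.eq_of_le_of_finrank_le (fun y ⟨x, hx, e⟩ => e ▸ h x hx) ?_
  rw [← (Submodule.equivMapOfInjective _ (mulVecLin_injective Q g) U).finrank_eq]
  exact hd

theorem reflList_append : ∀ l l' : List {v : ι → F // Q v ≠ 0},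
    Disc.reflList Q (l ++ l') = Disc.reflList Q l * Disc.reflList Q l'
  | [], l' => (one_mul _).symm
  | v :: l, l' => by
    show refl Q v.1 v.2 * Disc.reflList Q (l ++ l') = refl Q v.1 v.2 * Disc.reflList Q l * Disc.reflList Q l'
    rw [reflList_append l l', mul_assoc]

/-- Pairs in the stabiliser with every spinor value. -/
def HasPairs (U : Submodule F (ι → F)) : Prop :=
  ∀ c : F, c ≠ 0 → ∃ (v w : ι → F) (hv : Q v ≠ 0) (hw : Q w ≠ 0),
    Stab Q U (refl Q v hv * refl Q w hw) ∧ IsSquare (c * (Q v * Q w))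

variable (hQ : (polarBilin Q).Nondegenerate) (hn : 2 ≤ Fintype.card ι)
  (hex : Fintype.card F ≠ 2 ∨ Fintype.card ι ≠ 4)

include hQ hn hex

theorem adjust_even {U : Submodule F (ι → F)} (hp : HasPairs Q U) (G : O Q) (hG : dickson Q hQ hex G = 1) :
    ∃ h, Stab Q U h ∧ G * h ∈ commutator (O Q) := by
  obtain ⟨l, rfl⟩ := exists_reflList Q hQ hex G
  rw [dickson_reflList'] at hG
  have he : Even l.length := (Nat.even_or_odd _).resolve_right fun ho => by
    rw [ho.neg_one_pow] at hG; exact absurd hG (by decide)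
  have hP : (l.map fun v => Q v.1).prod ≠ 0 := by
    refine List.prod_ne_zero fun h => ?_
    obtain ⟨w, -, hw⟩ := List.mem_map.1 h
    exact w.2 hw
  obtain ⟨v, w, hv, hw, hs, hsq⟩ := hp _ hP
  refine ⟨refl Q v hv * refl Q w hw, hs, ?_⟩
  rw [show refl Q v hv * refl Q w hw = Disc.reflList Q [⟨v, hv⟩, ⟨w, hw⟩] by
    show _ = refl Q v hv * (refl Q w hw * 1); rw [mul_one], ← reflList_append Q,
    reflList_mem_iff Q hQ hn hex]
  refine ⟨by simpa [Nat.even_add] using he, ?_⟩
  simpa [mul_comm, mul_left_comm] using hsq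

theorem adjust {U : Submodule F (ι → F)} (hp : HasPairs Q U) {u : ι → F} (hu : Q u ≠ 0)
    (hs : Stab Q U (refl Q u hu)) (G : O Q) : ∃ h, Stab Q U h ∧ G * h ∈ commutator (O Q) := by
  rcases Int.units_eq_one_or (dickson Q hQ hex G) with h | h
  · exact adjust_even Q hQ hn hex hp G h
  · obtain ⟨h', hh, hc⟩ := adjust_even Q hQ hn hex hp (G * refl Q u hu)
      (by rw [map_mul, h, dickson_refl Q hQ hex u hu]; rfl)
    exact ⟨refl Q u hu * h', hs.mul Q hh, by rwa [← mul_assoc]⟩

omit hn hex in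
theorem polar_eq_of_singular {U : Submodule F (ι → F)} (h0 : ∀ u ∈ U, Q u = 0) {x y : ι → F} (hx : x ∈ U)
    (hy : y ∈ U) : polar Q x y = 0 := by
  rw [polar, h0 _ (U.add_mem hx hy), h0 _ hx, h0 _ hy]; ring

omit hn hex in
theorem pairs_singular {U : Submodule F (ι → F)} (h0 : ∀ u ∈ U, Q u = 0) (hne : U ≠ ⊥) : HasPairs Q U := by
  intro c hc
  obtain ⟨u, hu, hu0⟩ := Submodule.exists_mem_ne_zero_of_ne_bot hne
  obtain ⟨f, hf⟩ : ∃ f : Module.Dual F (ι → F), f u = 1 := by
    obtain ⟨f, hf, -⟩ := exists_dual_one (p := (⊥ : Submodule F (ι → F))) (x := u) (by simpa using hu0)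
    exact ⟨f, hf⟩
  obtain ⟨z, hz⟩ := WittExt.exists_polar_eq Q hQ f
  set u' := z - Q z • u with hu'
  have huu : polar Q u u = 0 := polar_eq_of_singular Q hQ h0 hu hu
  have h1 : polar Q u u' = 1 := by
    rw [hu', polar_sub_right, polar_smul_right, huu, smul_zero, sub_zero, polar_comm, hz, hf]
  have h2' : Q u' = 0 := by
    rw [hu', sub_eq_add_neg, QuadraticMap.map_add (⇑Q), QuadraticMap.map_neg, QuadraticMap.map_smul, h0 u hu,
      polar_neg_right, polar_smul_right, hz, hf]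
    simp
  have hQv : ∀ a : F, Q (u + a • u') = a := fun a => by
    rw [QuadraticMap.map_add (⇑Q), QuadraticMap.map_smul, h0 u hu, h2', polar_smul_right, h1]
    simp
  refine ⟨u + (1 : F) • u', u + c • u', by rw [hQv]; exact one_ne_zero, by rw [hQv]; exact hc, fun x hx => ?_, ?_⟩
  · set a := polar Q u' x
    have hux : polar Q u x = 0 := polar_eq_of_singular Q hQ h0 hu hx
    have e : x - (c⁻¹ * (c * a)) • (u + c • u') - ((1 : F)⁻¹ * polar Q (u + (1 : F) • u')
        (x - (c⁻¹ * (c * a)) • (u + c • u'))) • (u + (1 : F) • u') = x + (a * (c - 1)) • u := by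
      have hp : polar Q (u + (1 : F) • u') (x - (c⁻¹ * (c * a)) • (u + c • u')) = -(a * c) := by
        rw [inv_mul_cancel_left₀ hc]
        simp only [polar_sub_right, polar_add_left, polar_smul_right, polar_add_right, one_smul, huu, h1, hux,
          polar_comm (⇑Q) u' u, WittExt.polar_self_eq, h2', smul_eq_mul]
        show 0 + a - _ = _
        ring
      rw [hp, inv_mul_cancel_left₀ hc]
      module
    rw [act_mul, act_refl, act_refl, hQv, hQv, show polar Q (u + c • u') x = c * a by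
      rw [polar_add_left, polar_smul_left, hux, zero_add, smul_eq_mul], e]
    exact U.add_mem hx (U.smul_mem _ hu)
  · rw [hQv, hQv, one_mul]; exact ⟨c, rfl⟩

omit hn hex in
theorem exists_value {S : Submodule F (ι → F)} (hS : S ⊓ LinearMap.BilinForm.orthogonal (polarBilin Q) S = ⊥)
    (hd : 2 ≤ finrank F S) {c : F} (hc : c ≠ 0) : ∃ v ∈ S, Q v = c := by
  have hnd : ∀ x ∈ S, (∀ y ∈ S, polar Q y x = 0) → x = 0 := fun x hx h =>
    (Submodule.mem_bot F).1 (hS ▸ Submodule.mem_inf.2 ⟨hx, h⟩)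
  obtain ⟨u, hu, hu0⟩ : ∃ u ∈ S, Q u ≠ 0 := by
    by_contra hcon
    push Not at hcon
    obtain ⟨x, hx, hx0⟩ := Submodule.exists_mem_ne_zero_of_ne_bot (p := S) (fun e => by
      rw [e, finrank_bot] at hd; omega)
    exact hx0 (hnd x hx fun y hy => polar_eq_of_singular Q hQ hcon hy hx)
  by_cases h2 : (2 : F) = 0
  · have hch : ringChar F = 2 := CharP.ringChar_of_prime_eq_zero Nat.prime_two (by exact_mod_cast h2)
    obtain ⟨a, ha⟩ := FiniteField.isSquare_of_char_two hch (c / Q u)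
    exact ⟨a • u, S.smul_mem _ hu, by rw [QuadraticMap.map_smul, smul_eq_mul, ← ha, div_mul_cancel₀ _ hu0]⟩
  set T := S ⊓ LinearMap.ker (polarBilin Q u) with hT
  have hdec : ∀ y ∈ S, y - ((2 * Q u)⁻¹ * polar Q u y) • u ∈ T := fun y hy => by
    refine Submodule.mem_inf.2 ⟨S.sub_mem hy (S.smul_mem _ hu), ?_⟩
    show polar Q u _ = 0
    rw [polar_sub_right, polar_smul_right, WittExt.polar_self_eq, smul_eq_mul]
    field_simp
    ring
  obtain ⟨w, hw, hw0⟩ : ∃ w ∈ T, Q w ≠ 0 := by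
    by_contra hcon
    push Not at hcon
    obtain ⟨y, hy, hyu⟩ : ∃ y ∈ S, y ∉ Submodule.span F {u} := by
      by_contra hc'
      push Not at hc'
      have := Submodule.finrank_mono (show S ≤ Submodule.span F {u} from hc')
      rw [finrank_span_singleton (fun e => hu0 (by rw [e, QuadraticMap.map_zero]))] at this
      omega
    set x := y - ((2 * Q u)⁻¹ * polar Q u y) • u
    have hx := hdec y hy
    have hx0 : x = 0 := by
      refine hnd x hx.1 fun z hz => ?_
      have h1 := polar_eq_of_singular Q hQ hcon (hdec z hz) hx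
      have h3 : polar Q u x = 0 := hx.2
      rwa [polar_sub_left, polar_smul_left, h3, smul_zero, sub_zero] at h1
    exact hyu (Submodule.mem_span_singleton.2 ⟨_, (sub_eq_zero.1 hx0).symm⟩)
  have huw : polar Q u w = 0 := hw.2
  obtain ⟨s, t, hst⟩ := OrthBasis.exists_diag_one h2 (div_ne_zero hu0 hc) (div_ne_zero hw0 hc)
  refine ⟨s • u + t • w, S.add_mem (S.smul_mem _ hu) (S.smul_mem _ hw.1), ?_⟩
  rw [QuadraticMap.map_add (⇑Q), QuadraticMap.map_smul, QuadraticMap.map_smul, polar_smul_left, polar_smul_right, huw]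
  simp only [smul_eq_mul, mul_zero, add_zero]
  field_simp at hst
  linear_combination hst

theorem trans_nondeg (hn3 : 3 ≤ Fintype.card ι) {U W : Submodule F (ι → F)}
    (hU : U ⊓ LinearMap.BilinForm.orthogonal (polarBilin Q) U = ⊥) (e : U ≃ₗ[F] W)
    (he : ∀ u : U, Q (e u : ι → F) = Q (u : ι → F)) :
    ∃ g : O Q, g ∈ commutator (O Q) ∧ U.map (Matrix.mulVecLin ((g : GL ι F) : Matrix ι ι F)) = W := by
  obtain ⟨g, hg, hgU⟩ := WittExt.extend Q hQ _ U (W.subtype.comp e.toLinearMap) rfl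
    (W.injective_subtype.comp e.injective) he
  set G := ofLin Q g hg
  have hG : ∀ x ∈ U, act Q G x ∈ W := fun x hx => by
    rw [act_ofLin, show g x = _ from hgU ⟨x, hx⟩]; exact (e ⟨x, hx⟩).2
  set P := LinearMap.BilinForm.orthogonal (polarBilin Q) U
  have hrefl : (polarBilin Q).IsRefl := fun a b hab => by
    have h' : polar Q a b = 0 := hab
    show polar Q b a = 0
    rw [polar_comm]; exact h'
  have hPP : P ⊓ LinearMap.BilinForm.orthogonal (polarBilin Q) P = ⊥ := by
    rw [LinearMap.BilinForm.orthogonal_orthogonal hQ hrefl, inf_comm]; exact hU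
  have hdim : finrank F P = Fintype.card ι - finrank F U := by
    rw [LinearMap.BilinForm.finrank_orthogonal hQ, finrank_pi]
  obtain ⟨S, hS, hSd, hstab⟩ : ∃ S : Submodule F (ι → F), S ⊓ LinearMap.BilinForm.orthogonal (polarBilin Q) S = ⊥ ∧
      2 ≤ finrank F S ∧ ∀ v (hv : Q v ≠ 0), v ∈ S → Stab Q U (refl Q v hv) := by
    by_cases h : 2 ≤ finrank F U
    · exact ⟨U, hU, h, fun v hv hvS => stab_refl_mem Q hv hvS⟩
    · exact ⟨P, hPP, by omega, fun v hv hvS => stab_refl_perp Q hv hvS⟩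
  obtain ⟨u, huS, hu⟩ := exists_value Q hQ hS hSd (one_ne_zero (α := F))
  have hu0 : Q u ≠ 0 := by rw [hu]; exact one_ne_zero
  have hp : HasPairs Q U := fun c hc => by
    obtain ⟨v, hvS, hv⟩ := exists_value Q hQ hS hSd hc
    have hv0 : Q v ≠ 0 := by rw [hv]; exact hc
    exact ⟨u, v, hu0, hv0, (hstab u hu0 huS).mul Q (hstab v hv0 hvS), by rw [hu, hv, one_mul]; exact ⟨c, rfl⟩⟩
  obtain ⟨h, hh, hc⟩ := adjust Q hQ hn hex hp hu0 (hstab u hu0 huS) G
  exact ⟨G * h, hc, map_eq Q _ (fun x hx => by rw [act_mul]; exact hG _ (hh x hx)) e.symm.finrank_eq.le⟩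

omit hn in
theorem trans_singular {k : ℕ} (hk : 2 * k < Fintype.card ι) {U W : Submodule F (ι → F)} (hU : finrank F U = k)
    (hW : finrank F W = k) (hU0 : ∀ u ∈ U, Q u = 0) (hW0 : ∀ w ∈ W, Q w = 0) :
    ∃ g : O Q, g ∈ commutator (O Q) ∧ U.map (Matrix.mulVecLin ((g : GL ι F) : Matrix ι ι F)) = W := by
  rcases Nat.eq_zero_or_pos k with rfl | hkp
  · refine ⟨1, one_mem _, map_eq Q _ (fun x hx => ?_) (by rw [hU, hW])⟩
    rw [Submodule.finrank_eq_zero] at hU
    rw [hU, Submodule.mem_bot] at hx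
    rw [hx, act_one]; exact W.zero_mem
  let e : U ≃ₗ[F] W := LinearEquiv.ofFinrankEq U W (hU.trans hW.symm)
  obtain ⟨g, hg, hgU⟩ := WittExt.extend Q hQ _ U (W.subtype.comp e.toLinearMap) rfl
    (W.injective_subtype.comp e.injective) (fun x => by rw [hU0 _ x.2]; exact hW0 _ (e x).2)
  set G := ofLin Q g hg
  have hG : ∀ x ∈ U, act Q G x ∈ W := fun x hx => by
    rw [act_ofLin, show g x = _ from hgU ⟨x, hx⟩]; exact (e ⟨x, hx⟩).2
  obtain ⟨u, huP, hu⟩ : ∃ u ∈ LinearMap.BilinForm.orthogonal (polarBilin Q) U, Q u ≠ 0 := by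
    by_contra hcon
    push Not at hcon
    have hdim : finrank F (LinearMap.BilinForm.orthogonal (polarBilin Q) U) = Fintype.card ι - k := by
      rw [LinearMap.BilinForm.finrank_orthogonal hQ, finrank_pi, hU]
    have hle : LinearMap.BilinForm.orthogonal (polarBilin Q) U ≤ LinearMap.BilinForm.orthogonal (polarBilin Q)
        (LinearMap.BilinForm.orthogonal (polarBilin Q) U) := fun x hx t ht => polar_eq_of_singular Q hQ hcon ht hx
    have := Submodule.finrank_mono hle
    rw [LinearMap.BilinForm.finrank_orthogonal hQ (LinearMap.BilinForm.orthogonal (polarBilin Q) U), finrank_pi, hdim] at this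
    omega
  obtain ⟨h, hh, hc⟩ := adjust Q hQ (by omega) hex
    (pairs_singular Q hQ hU0 (fun e => by rw [e, finrank_bot] at hU; omega)) hu (stab_refl_perp Q hu huP) G
  exact ⟨G * h, hc, map_eq Q _ (fun x hx => by rw [act_mul]; exact hG _ (hh x hx)) (by rw [hU, hW])⟩

omit hn in
theorem trans_points [CharP F 2] {u v : ι → F} (hu : Q u ≠ 0) (hv : Q v ≠ 0) :
    ∃ g : O Q, g ∈ commutator (O Q) ∧ (F ∙ act Q g u) = F ∙ v := by
  have hn1 : 1 ≤ Fintype.card ι := Fintype.card_pos_iff.2 (by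
    by_contra h
    rw [not_nonempty_iff] at h
    exact hu (by rw [Subsingleton.elim u 0, QuadraticMap.map_zero]))
  obtain ⟨a, ha⟩ := FiniteField.isSquare_of_char_two (ringChar.eq F 2) (Q v / Q u)
  have ha0 : a ≠ 0 := fun e => div_ne_zero hv hu (by rw [ha, e, mul_zero])
  have hQa : Q (a • u) = Q v := by rw [QuadraticMap.map_smul, smul_eq_mul, ← ha, div_mul_cancel₀ _ hu]
  have hne : ∀ x, Q x ≠ 0 → x ∉ (⊥ : Submodule F (ι → F)) := fun x hx h => hx (by
    rw [(Submodule.mem_bot F).1 h, QuadraticMap.map_zero])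
  obtain ⟨g, hg, hgx, -⟩ := WittExt.exists_step Q hQ ⊥ (hne _ (by rw [hQa]; exact hv)) (hne v hv) hQa.symm
    (fun h hh => by rw [(Submodule.mem_bot F).1 hh, polar_zero_left, polar_zero_left])
  have key : ∀ G : O Q, act Q G (a • u) = v → (F ∙ act Q G u) = F ∙ v := fun G e => by
    have e' : act Q G u = a⁻¹ • v := by
      rw [← e]
      show _ = a⁻¹ • ((G : GL ι F) : Matrix ι ι F) *ᵥ (a • u)
      rw [mulVec_smul, inv_smul_smul₀ ha0]; rfl
    rw [e']
    exact Submodule.span_singleton_smul_eq (IsUnit.mk0 _ (inv_ne_zero ha0)) v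
  have hG : act Q (ofLin Q g hg) (a • u) = v := by rw [act_ofLin]; exact hgx
  rcases Int.units_eq_one_or (dickson Q hQ hex (ofLin Q g hg)) with h | h
  · exact ⟨_, by rw [← ker_dickson Q hQ hn1 hex]; exact MonoidHom.mem_ker.2 h, key _ hG⟩
  · refine ⟨refl Q v hv * ofLin Q g hg, ?_, key _ ?_⟩
    · rw [← ker_dickson Q hQ hn1 hex]
      exact MonoidHom.mem_ker.2 (by rw [map_mul, dickson_refl Q hQ hex v hv, h]; rfl)
    · rw [act_mul, hG, act_refl, WittExt.polar_self_eq, CharTwo.two_eq_zero, zero_mul, mul_zero, zero_smul, sub_zero]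

theorem commutator_eq_pairs [CharP F 2] : commutator (O Q) = Subgroup.closure {g : O Q | ∃ u v : ι → F,
    Q u ≠ 0 ∧ Q v ≠ 0 ∧ ((g : GL ι F) : Matrix ι ι F) =
      Cfsg.reflectionMatrix ⇑Q u * Cfsg.reflectionMatrix ⇑Q v} := by
  rw [← ker_dickson Q hQ (by omega) hex]
  refine le_antisymm (fun g hg => ?_) ((Subgroup.closure_le _).2 ?_)
  · obtain ⟨l, rfl⟩ := exists_reflList Q hQ hex g
    rw [MonoidHom.mem_ker, dickson_reflList'] at hg
    have he : Even l.length := (Nat.even_or_odd _).resolve_right fun ho => by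
      rw [ho.neg_one_pow] at hg; exact absurd hg (by decide)
    clear hg
    induction hl : l.length using Nat.strong_induction_on generalizing l with
    | _ n ih =>
      match l with
      | [] => exact one_mem _
      | [a] => simp at he
      | a :: b :: l' =>
        rw [show Disc.reflList Q (a :: b :: l') = refl Q a.1 a.2 * refl Q b.1 b.2 * Disc.reflList Q l' from
          (mul_assoc _ _ _).symm]
        refine mul_mem (Subgroup.subset_closure ⟨a.1, b.1, a.2, b.2, rfl⟩) (ih l'.length ?_ l' ?_ rfl)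
        · simp [← hl]
        · simpa [Nat.even_add] using he
  · rintro g ⟨u, v, hu, hv, e⟩
    obtain rfl : g = refl Q u hu * refl Q v hv := Subtype.ext (Units.ext e)
    refine MonoidHom.mem_ker.2 ?_
    rw [map_mul, dickson_refl Q hQ hex u hu, dickson_refl Q hQ hex v hv]; rfl

omit hn hex in
/-- The involution negating hyperbolic pairs. -/
theorem pairs_diag_mem_iff (h2 : (2 : F) ≠ 0) (hn : 2 ≤ Fintype.card ι) {i : ℕ} (a b : Fin i → ι)
    (hab : ∀ j k, a j ≠ b k) (ha : Function.Injective a) (hb : Function.Injective b)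
    (hQa : ∀ j, Q (Pi.single (a j) 1) = 0) (hQb : ∀ j, Q (Pi.single (b j) 1) = 0)
    (hpa : ∀ j y, polar Q (Pi.single (a j) 1) y = y (b j)) (hpb : ∀ j y, polar Q (Pi.single (b j) 1) y = y (a j))
    (d : ι → F) (hd1 : ∀ j, d (a j) = -1 ∧ d (b j) = -1) (hd2 : ∀ k, (∀ j, k ≠ a j ∧ k ≠ b j) → d k = 1) :
    (∃ g : O Q, g ∈ commutator (O Q) ∧ ((g : GL ι F) : Matrix ι ι F) = Matrix.diagonal d) ↔
      IsSquare ((-1 : F) ^ i) := by
  classical
  let ev : Fin i → ι → F := fun j => Pi.single (a j) 1 + Pi.single (b j) 1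
  let fv : Fin i → ι → F := fun j => Pi.single (a j) 1 - Pi.single (b j) 1
  have hev : ∀ j, Q (ev j) = 1 := fun j => by
    simp only [ev]
    rw [QuadraticMap.map_add (⇑Q), hQa, hQb, hpa]; simp
  have hfv : ∀ j, Q (fv j) = -1 := fun j => by
    simp only [fv]
    rw [sub_eq_add_neg, QuadraticMap.map_add (⇑Q), QuadraticMap.map_neg, hQa, hQb, polar_neg_right, hpa]; simp
  have he0 : ∀ j, Q (ev j) ≠ 0 := fun j => by rw [hev]; exact one_ne_zero
  have hf0 : ∀ j, Q (fv j) ≠ 0 := fun j => by rw [hfv]; exact neg_ne_zero.2 one_ne_zero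
  let mk : List (Fin i) → List {v : ι → F // Q v ≠ 0} := fun L =>
    L.flatMap fun j => [⟨ev j, he0 j⟩, ⟨fv j, hf0 j⟩]
  have key : ∀ L : List (Fin i), L.Nodup → ∀ y k, act Q (Disc.reflList Q (mk L)) y k =
      if ∃ j ∈ L, k = a j ∨ k = b j then -y k else y k := by
    intro L
    induction L with
    | nil => intro _ y k; simp [mk, Disc.reflList, act_one]
    | cons j L ih =>
      intro hnd y k
      obtain ⟨hj, hnd'⟩ := List.nodup_cons.1 hnd
      rw [show Disc.reflList Q (mk (j :: L)) = refl Q (ev j) (he0 j) * refl Q (fv j) (hf0 j) * Disc.reflList Q (mk L) from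
        (mul_assoc _ _ _).symm, act_mul, act_mul]
      set z := act Q (Disc.reflList Q (mk L)) y with hz
      have hpair : ∀ k, act Q (refl Q (ev j) (he0 j)) (act Q (refl Q (fv j) (hf0 j)) z) k =
          if k = a j ∨ k = b j then -z k else z k := by
        intro k
        rw [act_refl, act_refl, hev, hfv]
        simp only [ev, fv, polar_sub_left, polar_add_left, polar_sub_right, polar_smul_right, hpa, hpb,
          Pi.sub_apply, Pi.add_apply, Pi.smul_apply, smul_eq_mul]
        by_cases h1 : k = a j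
        · subst h1
          simp [hab j j, (hab j j).symm]
        · by_cases h3 : k = b j
          · subst h3
            simp [hab j j, (hab j j).symm]
          · simp [h1, h3]
      rw [hpair k, hz, ih hnd' y k]
      by_cases h1 : k = a j ∨ k = b j
      · rw [if_pos h1, if_neg, if_pos ⟨j, List.mem_cons_self, h1⟩]
        rintro ⟨j', hj', e⟩
        rcases h1 with rfl | rfl <;> rcases e with e | e
        · exact hj (ha e ▸ hj')
        · exact hab _ _ e
        · exact hab _ _ e.symm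
        · exact hj (hb e ▸ hj')
      · rw [if_neg h1]
        exact if_congr (by simp [h1]) rfl rfl
  set g0 := Disc.reflList Q (mk (List.finRange i))
  have hg0 : ((g0 : GL ι F) : Matrix ι ι F) = Matrix.diagonal d := by
    refine Matrix.toLin'.injective (LinearMap.ext fun y => funext fun k => ?_)
    rw [Matrix.toLin'_apply, Matrix.toLin'_apply, mulVec_diagonal]
    refine (key _ (List.nodup_finRange i) y k).trans ?_
    by_cases h : ∃ j ∈ List.finRange i, k = a j ∨ k = b j
    · rw [if_pos h]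
      obtain ⟨j, -, rfl | rfl⟩ := h
      · rw [(hd1 j).1, neg_one_mul]
      · rw [(hd1 j).2, neg_one_mul]
    · rw [if_neg h, hd2 k fun j => ⟨fun e => h ⟨j, List.mem_finRange j, Or.inl e⟩,
        fun e => h ⟨j, List.mem_finRange j, Or.inr e⟩⟩, one_mul]
  have hiff : (∃ g : O Q, g ∈ commutator (O Q) ∧ ((g : GL ι F) : Matrix ι ι F) = Matrix.diagonal d) ↔
      g0 ∈ commutator (O Q) := by
    refine ⟨fun ⟨g, hg, e⟩ => ?_, fun h => ⟨g0, h, hg0⟩⟩
    rwa [show g0 = g from Subtype.ext (Units.ext (hg0.trans e.symm))]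
  have hlen : ∀ L : List (Fin i), (mk L).length = 2 * L.length ∧
      ((mk L).map fun v => Q v.1).prod = (-1) ^ L.length := by
    intro L
    induction L with
    | nil => simp [mk]
    | cons j L ih =>
      obtain ⟨h1, h3⟩ := ih
      simp only [mk] at h1 h3 ⊢
      simp only [List.flatMap_cons, List.length_append, List.length_cons, List.length_nil, List.map_append,
        List.prod_append, List.map_cons, List.map_nil, List.prod_cons, List.prod_nil, hev, hfv, h1, h3]
      exact ⟨by omega, by ring⟩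
  rw [hiff, Disc.reflList_mem_commutator Q hQ h2 hn, (hlen _).1, (hlen _).2, List.length_finRange]
  exact and_iff_right ⟨i, two_mul i⟩

end general

section plus

variable {F : Type*} [Field F] [Fintype F] {m : ℕ}

local notation "VV" => PlusMax.V F m
local notation "QQ" => PlusMax.QP (F := F) (m := m)

theorem gen_map (g : O QQ) {U : Submodule F VV} (hU : PlusMax.Gen U) :
    PlusMax.Gen (U.map (Matrix.mulVecLin ((g : GL (Fin m ⊕ Fin m) F) : Matrix (Fin m ⊕ Fin m) (Fin m ⊕ Fin m) F))) := by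
  refine ⟨(Submodule.equivMapOfInjective _ (mulVecLin_injective QQ g) U).finrank_eq.symm.trans hU.1, ?_⟩
  rintro _ ⟨x, hx, rfl⟩
  exact (Q_act QQ g x).trans (hU.2 x hx)

theorem f_map (g : O QQ) (A B : Submodule F VV) :
    PlusMax.f (A.map (Matrix.mulVecLin ((g : GL (Fin m ⊕ Fin m) F) : Matrix (Fin m ⊕ Fin m) (Fin m ⊕ Fin m) F)))
      (B.map (Matrix.mulVecLin ((g : GL (Fin m ⊕ Fin m) F) : Matrix (Fin m ⊕ Fin m) (Fin m ⊕ Fin m) F))) = PlusMax.f A B := by
  rw [PlusMax.f, PlusMax.f, ← Submodule.map_inf _ (mulVecLin_injective QQ g),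
    ← (Submodule.equivMapOfInjective _ (mulVecLin_injective QQ g) (A ⊓ B)).finrank_eq]

theorem f_refl {U : Submodule F VV} (hU : PlusMax.Gen U) (v : VV) (hv : QQ v ≠ 0) :
    PlusMax.f U (U.map (Matrix.mulVecLin ((refl QQ v hv : GL (Fin m ⊕ Fin m) F) : Matrix (Fin m ⊕ Fin m) (Fin m ⊕ Fin m) F))) = 1 := by
  have hvU : v ∉ U := fun h => hv (hU.2 v h)
  set K := LinearMap.ker ((polarBilin QQ v).comp U.subtype)
  have hK : U ⊓ U.map (Matrix.mulVecLin ((refl QQ v hv : GL (Fin m ⊕ Fin m) F) : Matrix (Fin m ⊕ Fin m) (Fin m ⊕ Fin m) F)) =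
      K.map U.subtype := by
    ext x
    constructor
    · rintro ⟨hxU, y, hy, rfl⟩
      have e : Matrix.mulVecLin ((refl QQ v hv : GL (Fin m ⊕ Fin m) F) : Matrix (Fin m ⊕ Fin m) (Fin m ⊕ Fin m) F) y =
          y - ((QQ v)⁻¹ * polar QQ v y) • v := act_refl QQ v hv y
      rw [e] at hxU ⊢
      have hc : polar QQ v y = 0 := by
        by_contra hne
        have hmem : ((QQ v)⁻¹ * polar QQ v y) • v ∈ U := by simpa using U.sub_mem hy hxU
        exact hvU ((U.smul_mem_iff (mul_ne_zero (inv_ne_zero hv) hne)).1 hmem)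
      rw [hc, mul_zero, zero_smul, sub_zero]
      exact ⟨⟨y, hy⟩, hc, rfl⟩
    · rintro ⟨⟨y, hy⟩, hk, rfl⟩
      refine ⟨hy, y, hy, ?_⟩
      show act QQ (refl QQ v hv) y = y
      rw [act_refl, show polar QQ v y = 0 from hk, mul_zero, zero_smul, sub_zero]
  have hsur : LinearMap.range ((polarBilin QQ v).comp U.subtype) = ⊤ := by
    obtain ⟨y, hy, hne⟩ : ∃ y ∈ U, polar QQ v y ≠ 0 := by
      by_contra hcon
      push Not at hcon
      refine hvU ?_
      rw [hU.perp_eq, PlusMax.mem_perp]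
      intro t ht
      rw [polar_comm]; exact hcon t ht
    refine LinearMap.range_eq_top.2 fun a => ⟨(a / polar QQ v y) • (⟨y, hy⟩ : U), ?_⟩
    show polar QQ v ((a / polar QQ v y) • y) = a
    rw [polar_smul_right, smul_eq_mul, div_mul_cancel₀ _ hne]
  have h := LinearMap.finrank_range_add_finrank_ker ((polarBilin QQ v).comp U.subtype)
  rw [hsur, finrank_top, finrank_self, hU.1] at h
  rw [PlusMax.f, hK, Submodule.finrank_map_subtype_eq]
  change 1 + finrank F K = m at h
  omega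

/-- The parity of the displacement of a generator is the Dickson sign. -/
theorem dickson_eq_parity (hex : Fintype.card F ≠ 2 ∨ Fintype.card (Fin m ⊕ Fin m) ≠ 4) {U : Submodule F VV}
    (hU : PlusMax.Gen U) (g : O QQ) :
    dickson QQ PlusMax.nondeg hex g =
      (-1) ^ PlusMax.f U (U.map (Matrix.mulVecLin ((g : GL (Fin m ⊕ Fin m) F) : Matrix (Fin m ⊕ Fin m) (Fin m ⊕ Fin m) F))) := by
  induction (eq_top QQ PlusMax.nondeg hex ▸ Subgroup.mem_top g : g ∈ R QQ)
      using Subgroup.closure_induction_left with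
  | one =>
    rw [map_one]
    have e : U.map (Matrix.mulVecLin (((1 : O QQ) : GL (Fin m ⊕ Fin m) F) : Matrix (Fin m ⊕ Fin m) (Fin m ⊕ Fin m) F)) = U :=
      map_eq QQ 1 (fun x hx => by rw [act_one]; exact hx) le_rfl
    rw [e, PlusMax.f_self hU, pow_zero]
  | mul_left x hx y _ ih =>
    obtain ⟨v, hv, he⟩ := hx
    obtain rfl : x = refl QQ v hv := Subtype.ext (Units.ext he)
    have hmap : U.map (Matrix.mulVecLin ((((refl QQ v hv * y : O QQ)) : GL (Fin m ⊕ Fin m) F) : Matrix (Fin m ⊕ Fin m) (Fin m ⊕ Fin m) F)) =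
        (U.map (Matrix.mulVecLin ((y : GL (Fin m ⊕ Fin m) F) : Matrix (Fin m ⊕ Fin m) (Fin m ⊕ Fin m) F))).map (Matrix.mulVecLin ((refl QQ v hv : GL (Fin m ⊕ Fin m) F) : Matrix (Fin m ⊕ Fin m) (Fin m ⊕ Fin m) F)) := by
      rw [← Submodule.map_comp, ← Matrix.mulVecLin_mul]; rfl
    have hp := PlusMax.parity hU (gen_map (refl QQ v hv) hU) (gen_map (refl QQ v hv) (gen_map y hU))
    rw [f_refl hU v hv, f_map] at hp
    rw [map_mul, dickson_refl QQ PlusMax.nondeg hex v hv, ih, hmap]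
    obtain ⟨t, ht⟩ := hp
    set A := PlusMax.f U (U.map (Matrix.mulVecLin ((y : GL (Fin m ⊕ Fin m) F) : Matrix (Fin m ⊕ Fin m) (Fin m ⊕ Fin m) F)))
    rcases Nat.even_or_odd A with hA | hA
    · have : Odd (PlusMax.f U ((U.map (Matrix.mulVecLin ((y : GL (Fin m ⊕ Fin m) F) : Matrix (Fin m ⊕ Fin m) (Fin m ⊕ Fin m) F))).map
          (Matrix.mulVecLin ((refl QQ v hv : GL (Fin m ⊕ Fin m) F) : Matrix (Fin m ⊕ Fin m) (Fin m ⊕ Fin m) F)))) := by
        rw [Nat.odd_iff]; rw [Nat.even_iff] at hA; omega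
      rw [hA.neg_one_pow, this.neg_one_pow]; rfl
    · have : Even (PlusMax.f U ((U.map (Matrix.mulVecLin ((y : GL (Fin m ⊕ Fin m) F) : Matrix (Fin m ⊕ Fin m) (Fin m ⊕ Fin m) F))).map
          (Matrix.mulVecLin ((refl QQ v hv : GL (Fin m ⊕ Fin m) F) : Matrix (Fin m ⊕ Fin m) (Fin m ⊕ Fin m) F)))) := by
        rw [Nat.even_iff]; rw [Nat.odd_iff] at hA; omega
      rw [hA.neg_one_pow, this.neg_one_pow]; rfl
  | inv_mul_cancel x hx y _ ih =>
    obtain ⟨v, hv, he⟩ := hx
    obtain rfl : x = refl QQ v hv := Subtype.ext (Units.ext he)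
    rw [refl_inv]
    have hmap : U.map (Matrix.mulVecLin ((((refl QQ v hv * y : O QQ)) : GL (Fin m ⊕ Fin m) F) : Matrix (Fin m ⊕ Fin m) (Fin m ⊕ Fin m) F)) =
        (U.map (Matrix.mulVecLin ((y : GL (Fin m ⊕ Fin m) F) : Matrix (Fin m ⊕ Fin m) (Fin m ⊕ Fin m) F))).map (Matrix.mulVecLin ((refl QQ v hv : GL (Fin m ⊕ Fin m) F) : Matrix (Fin m ⊕ Fin m) (Fin m ⊕ Fin m) F)) := by
      rw [← Submodule.map_comp, ← Matrix.mulVecLin_mul]; rfl
    have hp := PlusMax.parity hU (gen_map (refl QQ v hv) hU) (gen_map (refl QQ v hv) (gen_map y hU))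
    rw [f_refl hU v hv, f_map] at hp
    rw [map_mul, dickson_refl QQ PlusMax.nondeg hex v hv, ih, hmap]
    obtain ⟨t, ht⟩ := hp
    set A := PlusMax.f U (U.map (Matrix.mulVecLin ((y : GL (Fin m ⊕ Fin m) F) : Matrix (Fin m ⊕ Fin m) (Fin m ⊕ Fin m) F)))
    rcases Nat.even_or_odd A with hA | hA
    · have : Odd (PlusMax.f U ((U.map (Matrix.mulVecLin ((y : GL (Fin m ⊕ Fin m) F) : Matrix (Fin m ⊕ Fin m) (Fin m ⊕ Fin m) F))).map
          (Matrix.mulVecLin ((refl QQ v hv : GL (Fin m ⊕ Fin m) F) : Matrix (Fin m ⊕ Fin m) (Fin m ⊕ Fin m) F)))) := by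
        rw [Nat.odd_iff]; rw [Nat.even_iff] at hA; omega
      rw [hA.neg_one_pow, this.neg_one_pow]; rfl
    · have : Even (PlusMax.f U ((U.map (Matrix.mulVecLin ((y : GL (Fin m ⊕ Fin m) F) : Matrix (Fin m ⊕ Fin m) (Fin m ⊕ Fin m) F))).map
          (Matrix.mulVecLin ((refl QQ v hv : GL (Fin m ⊕ Fin m) F) : Matrix (Fin m ⊕ Fin m) (Fin m ⊕ Fin m) F)))) := by
        rw [Nat.even_iff]; rw [Nat.odd_iff] at hA; omega
      rw [hA.neg_one_pow, this.neg_one_pow]; rfl

theorem det_eq_parity (h2 : (2 : F) ≠ 0) {U : Submodule F VV} (hU : PlusMax.Gen U) (g : O QQ) :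
    Even (PlusMax.f U (U.map (Matrix.mulVecLin ((g : GL (Fin m ⊕ Fin m) F) : Matrix (Fin m ⊕ Fin m) (Fin m ⊕ Fin m) F)))) ↔
      ((g : GL (Fin m ⊕ Fin m) F) : Matrix (Fin m ⊕ Fin m) (Fin m ⊕ Fin m) F).det = 1 := by
  have hex : Fintype.card F ≠ 2 ∨ Fintype.card (Fin m ⊕ Fin m) ≠ 4 := Refl.hex' QQ PlusMax.nondeg h2
  obtain ⟨l, rfl⟩ := exists_reflList QQ PlusMax.nondeg hex g
  have h := dickson_eq_parity hex hU (Disc.reflList QQ l)
  rw [dickson_reflList'] at h
  have hdet : ((Disc.reflList QQ l : GL (Fin m ⊕ Fin m) F) : Matrix (Fin m ⊕ Fin m) (Fin m ⊕ Fin m) F).det = (-1) ^ l.length := by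
    rw [Disc.reflList_coe]
    clear h
    induction l with
    | nil => simp
    | cons v l ih =>
      rw [List.map_cons, List.prod_cons, det_mul, ih, Quad.reflection_det QQ v.2, List.length_cons, pow_succ]
      ring
  rw [hdet]
  rcases Nat.even_or_odd l.length with hl | hl <;>
    rcases Nat.even_or_odd (PlusMax.f U (U.map (Matrix.mulVecLin
      ((Disc.reflList QQ l : GL (Fin m ⊕ Fin m) F) : Matrix (Fin m ⊕ Fin m) (Fin m ⊕ Fin m) F)))) with hA | hA <;>
    rw [hl.neg_one_pow, hA.neg_one_pow] at h <;> simp [hl.neg_one_pow, hA] at h ⊢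
  · exact iff_of_false (Nat.not_even_iff_odd.2 hA) fun e => h2 (by linear_combination -e)

theorem trans_gen (hm : 1 ≤ m) (hex : Fintype.card F ≠ 2 ∨ Fintype.card (Fin m ⊕ Fin m) ≠ 4)
    {U W : Submodule F VV} (hU : PlusMax.Gen U) (hW : PlusMax.Gen W) (he : Even (PlusMax.f U W)) :
    ∃ g : O QQ, g ∈ commutator (O QQ) ∧
      U.map (Matrix.mulVecLin ((g : GL (Fin m ⊕ Fin m) F) : Matrix (Fin m ⊕ Fin m) (Fin m ⊕ Fin m) F)) = W := by
  let e : U ≃ₗ[F] W := LinearEquiv.ofFinrankEq U W (hU.1.trans hW.1.symm)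
  obtain ⟨g, hg, hgU⟩ := WittExt.extend QQ PlusMax.nondeg _ U (W.subtype.comp e.toLinearMap) rfl
    (W.injective_subtype.comp e.injective) (fun x => (hW.2 _ (e x).2).trans (hU.2 _ x.2).symm)
  set G := ofLin QQ g hg
  have hG : ∀ x ∈ U, act QQ G x ∈ W := fun x hx => by
    rw [act_ofLin, show g x = _ from hgU ⟨x, hx⟩]; exact (e ⟨x, hx⟩).2
  have hd : dickson QQ PlusMax.nondeg hex G = 1 := by
    rw [dickson_eq_parity hex hU, map_eq QQ G hG (by rw [hU.1, hW.1]), he.neg_one_pow]
  obtain ⟨h, hh, hc⟩ := adjust_even QQ PlusMax.nondeg (by rw [Fintype.card_sum, Fintype.card_fin]; omega) hex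
    (pairs_singular QQ PlusMax.nondeg hU.2 (fun e => by have := hU.1; rw [e, finrank_bot] at this; omega)) G hd
  exact ⟨G * h, hc, map_eq QQ _ (fun x hx => by rw [act_mul]; exact hG _ (hh x hx)) (by rw [hU.1, hW.1])⟩

/-- The coordinate generator `y = 0`. -/
theorem gen_kerFun : PlusMax.Gen (LinearMap.ker (LinearMap.funLeft F F (Sum.inr : Fin m → Fin m ⊕ Fin m))) := by
  have : LinearMap.ker (LinearMap.funLeft F F (Sum.inr : Fin m → Fin m ⊕ Fin m)) =
      PlusMax.std (F := F) (fun _ => false) := by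
    ext v
    constructor
    · intro h i
      show v (Sum.inr i) = 0
      exact congrFun (LinearMap.mem_ker.1 h) i
    · intro h
      exact LinearMap.mem_ker.2 (funext fun i => h i)
  rw [this]; exact PlusMax.gen_std _

end plus

end Cfsg.Agent.OmegaTrans
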