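import Cfsg.Agent.Lib.Classical.SubfieldOrth

/-!
Subgroups with rational root elements and one irrational parameter contain all root elements.
-/

set_option autoImplicit false
set_option linter.unusedSectionVars false
set_option maxHeartbeats 1600000

open Module Matrix QuadraticMap

namespace Cfsg.Agent.Classical.SubfieldOrth

open SubfieldLin Refl Siegel MaxLin

variable {F : Type*} [Field F] [Fintype F] {ι : Type} [Fintype ι] [DecidableEq ι]
variable {Q : QuadraticForm F (ι → F)} {F₀ : Subfield F}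

local notation "V" => ι → F

/-- The Siegel transformation with a rational centre is in `M`. -/
def Am (M : Subgroup (O Q)) (a : ι → F₀) (x : V) : Prop :=
  ∃ ha hab, sO Q (rv F₀ a) x ha hab ∈ M

/-- A subgroup with the rational Siegel transformations. -/
def Data (M : Subgroup (O Q)) (F₀ : Subfield F) : Prop :=
  ∀ a b : ι → F₀, Q (rv F₀ a) = 0 → polar Q (rv F₀ a) (rv F₀ b) = 0 → Am M a (rv F₀ b)

/-- Parameters occurring at all rational places with one centre. -/
def Rs (M : Subgroup (O Q)) (a : ι → F₀) (s : F) : Prop :=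
  ∀ y : ι → F₀, polar Q (rv F₀ a) (rv F₀ y) = 0 → Am M a (s • rv F₀ y)

variable {M : Subgroup (O Q)}

theorem Am.orth {a : ι → F₀} {x : V} (h : Am M a x) : polar Q (rv F₀ a) x = 0 := h.2.1

theorem Am.sing {a : ι → F₀} {x : V} (h : Am M a x) : Q (rv F₀ a) = 0 := h.1

theorem Am.add {a : ι → F₀} {x y : V} (h : Am M a x) (h' : Am M a y) : Am M a (x + y) := by
  obtain ⟨ha, hx, hm⟩ := h
  obtain ⟨_, hy, hm'⟩ := h'
  refine ⟨ha, by rw [polar_add_right, hx, hy, add_zero], ?_⟩
  rw [show sO Q (rv F₀ a) (x + y) ha (by rw [polar_add_right, hx, hy, add_zero]) =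
      sO Q (rv F₀ a) x ha hx * sO Q (rv F₀ a) y ha hy from O_ext Q fun z => by
    rw [act_mul, act_sO, act_sO, act_sO]
    simp only [sub_eq_add_neg, ← neg_smul, polar_add_left, polar_smul_left, polar_add_right, polar_diag, smul_eq_mul,
      ha, hx, hy, Q_add, polar_comm (⇑Q) y (rv F₀ a), polar_comm (⇑Q) y x]
    module]
  exact mul_mem hm hm'

theorem Am.neg {a : ι → F₀} {x : V} (h : Am M a x) : Am M a (-x) := by
  obtain ⟨ha, hx, hm⟩ := h
  have hx' : polar Q (rv F₀ a) (-x) = 0 := by rw [polar_neg_right, hx, neg_zero]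
  refine ⟨ha, hx', ?_⟩
  rw [show sO Q (rv F₀ a) (-x) ha hx' = (sO Q (rv F₀ a) x ha hx)⁻¹ from eq_inv_of_mul_eq_one_left (O_ext Q fun z => by
    rw [act_mul, act_sO, act_sO, show act Q (1 : O Q) z = z from Matrix.one_mulVec z]
    simp only [sub_eq_add_neg, ← neg_smul, polar_add_left, polar_smul_left, polar_neg_right, QuadraticMap.map_neg,
      polar_diag, smul_eq_mul, ha, hx, polar_comm (⇑Q) x (rv F₀ a)]
    module)]
  exact inv_mem hm

theorem Am.sub {a : ι → F₀} {x y : V} (h : Am M a x) (h' : Am M a y) : Am M a (x - y) := by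
  rw [sub_eq_add_neg]; exact h.add h'.neg

theorem Am.shift {a : ι → F₀} {x : V} (h : Am M a x) (l : F) : Am M a (x + l • rv F₀ a) := by
  obtain ⟨ha, hx, hm⟩ := h
  have hx' : polar Q (rv F₀ a) (x + l • rv F₀ a) = 0 := by
    rw [polar_add_right, hx, polar_smul_right, polar_diag, ha]; simp
  refine ⟨ha, hx', ?_⟩
  rw [show sO Q (rv F₀ a) (x + l • rv F₀ a) ha hx' = sO Q (rv F₀ a) x ha hx from O_ext Q fun z => by
    rw [act_sO, act_sO, polar_add_right, polar_smul_right, Q_add, Q_smul, ha, polar_smul_right,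
      polar_comm (⇑Q) x (rv F₀ a), hx]
    simp only [smul_eq_mul]
    module]
  exact hm

theorem sO_conj (g : O Q) (a b : V) (ha : Q a = 0) (hb : polar Q a b = 0) :
    ∃ ha' hb', sO Q (act Q g a) (act Q g b) ha' hb' = g * sO Q a b ha hb * g⁻¹ := by
  refine ⟨by rw [Q_act, ha], by rw [polar_act, hb], O_ext Q fun x => ?_⟩
  obtain ⟨y, rfl⟩ : ∃ y, x = act Q g y := ⟨_, (act_inv Q g x).symm⟩
  rw [act_mul, act_mul, act_inv', act_sO, act_sO, act_sub, act_add, act_smul, act_smul, polar_act, polar_act, Q_act]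

theorem Am.map {a a' : ι → F₀} {x : V} (h : Am M a x) {g : O Q} (hg : g ∈ M)
    (hga : act Q g (rv F₀ a) = rv F₀ a') : Am M a' (act Q g x) := by
  obtain ⟨ha, hx, hm⟩ := h
  obtain ⟨ha', hx', e⟩ := sO_conj g _ _ ha hx
  have hmem := mul_mem (mul_mem hg hm) (inv_mem hg)
  rw [← e] at hmem
  refine ⟨by rw [← hga]; exact ha', by rw [← hga]; exact hx', ?_⟩
  convert hmem using 2 <;> rw [hga]

variable (hR : RQ Q F₀) (hD : Data M F₀)

include hR hD

theorem Rs_rat {a : ι → F₀} (ha : Q (rv F₀ a) = 0) {s : F} (hs : s ∈ F₀) : Rs M a s := fun y hy => by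
  have := hD a ((⟨s, hs⟩ : F₀) • y) ha (by rw [rv_smul, polar_smul_right, hy, smul_zero])
  rwa [rv_smul] at this

theorem two_step {a c e : ι → F₀} {x : V} (h : Am M a x) (hc : Q (rv F₀ c) = 0)
    (hca : polar Q (rv F₀ c) (rv F₀ a) = 0) (he : Q (rv F₀ e) = 0) (hea : polar Q (rv F₀ e) (rv F₀ a) = 0)
    (hec : polar Q (rv F₀ e) (rv F₀ c) = 0) : Am M a (polar Q x (rv F₀ c) • rv F₀ e) := by
  obtain ⟨d, -, hd, hdW, hdne⟩ := avoid hR ![a, c, e] ![a, c, e] (by norm_num)
  obtain ⟨c', hc', hcW, hcd⟩ := dual hR ![a, c, e] le_rfl hdne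
  have hda : polar Q (rv F₀ d) (rv F₀ a) = 0 := hdW 0
  have hdc : polar Q (rv F₀ d) (rv F₀ c) = 0 := hdW 1
  have hde : polar Q (rv F₀ d) (rv F₀ e) = 0 := hdW 2
  have hc'a : polar Q (rv F₀ c') (rv F₀ a) = 0 := hcW 0
  have hc'c : polar Q (rv F₀ c') (rv F₀ c) = 0 := hcW 1
  have hc'e : polar Q (rv F₀ c') (rv F₀ e) = 0 := hcW 2
  have symm : ∀ {p q : V}, polar Q p q = 0 → polar Q q p = 0 := fun h => by rw [polar_comm]; exact h
  obtain ⟨h1, h2, hm⟩ := hD c d hc (symm hdc)
  have hA := (h.map hm (a' := a) (by rw [act_sO, symm hca, symm hda, hd]; simp)).sub h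
  rw [act_sO, hd, zero_mul, add_zero,
    show x + polar Q x (rv F₀ c) • rv F₀ d - polar Q x (rv F₀ d) • rv F₀ c - x =
      polar Q x (rv F₀ c) • rv F₀ d - polar Q x (rv F₀ d) • rv F₀ c by abel] at hA
  obtain ⟨h3, h4, hm'⟩ := hD c' e hc' hc'e
  have hB := (hA.map hm' (a' := a) (by rw [act_sO, symm hc'a, symm hea, he]; simp)).sub hA
  rw [act_sO, he, zero_mul, add_zero] at hB
  simp only [polar_sub_left, polar_smul_left, symm hc'c, symm hec, hde, polar_comm (⇑Q) (rv F₀ d) (rv F₀ c'), hcd,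
    smul_eq_mul, mul_zero, mul_one, sub_zero, zero_smul] at hB
  convert hB using 1
  module

theorem good_of {a c : ι → F₀} {x : V} (ha0 : a ≠ 0) (h : Am M a x) (hc : Q (rv F₀ c) = 0)
    (hca : polar Q (rv F₀ c) (rv F₀ a) = 0) : Rs M a (polar Q x (rv F₀ c)) := by
  set s := polar Q x (rv F₀ c) with hs
  have haa : polar Q (rv F₀ a) (rv F₀ a) = 0 := by rw [polar_diag, h.sing, mul_zero]
  by_cases hdep : ∃ k : F₀, c = k • a
  · obtain ⟨k, rfl⟩ := hdep
    have : s = 0 := by
      rw [hs, rv_smul, polar_smul_right, polar_comm (⇑Q) x, h.orth, smul_zero]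
    rw [this]
    exact Rs_rat hR hD h.sing (zero_mem _)
  push Not at hdep
  -- all vectors orthogonal to the centre and a second vector
  have step : ∀ (c : ι → F₀) (x : V), Am M a x → Q (rv F₀ c) = 0 → polar Q (rv F₀ c) (rv F₀ a) = 0 →
      ∀ y : ι → F₀, polar Q (rv F₀ y) (rv F₀ a) = 0 → polar Q (rv F₀ y) (rv F₀ c) = 0 →
      Am M a (polar Q x (rv F₀ c) • rv F₀ y) := by
    intro c x h hc hca y hya hyc
    let U : Submodule F₀ (ι → F₀) :=
      { carrier := {y | ∀ k : F₀, Am M a (polar Q x (rv F₀ c) • rv F₀ (k • y))}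
        zero_mem' := fun k => by
          rw [smul_zero, rv_zero, smul_zero]
          have := hD a 0 h.sing (by rw [rv_zero, polar_zero_right])
          rwa [rv_zero] at this
        add_mem' := fun {y z} hy hz k => by rw [smul_add, rv_add, smul_add]; exact (hy k).add (hz k)
        smul_mem' := fun l y hy k => by rw [smul_smul]; exact hy _ }
    have := span hR ![a, c] le_rfl U (fun e he heW k => by
      refine two_step hR hD h hc hca ?_ ?_ ?_
      · rw [rv_smul, Q_smul, he, mul_zero]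
      · rw [rv_smul, polar_smul_left, show polar Q (rv F₀ e) (rv F₀ a) = 0 from heW 0, smul_zero]
      · rw [rv_smul, polar_smul_left, show polar Q (rv F₀ e) (rv F₀ c) = 0 from heW 1, smul_zero]) (w := y)
      (fun i => by fin_cases i; exacts [hya, hyc]) 1
    rwa [one_smul] at this
  have hcc : polar Q (rv F₀ c) (rv F₀ c) = 0 := by rw [polar_diag, hc, mul_zero]
  obtain ⟨c2, hc2, hc2a, hc2c⟩ := dual hR ![a] (by norm_num) (p := c) fun r e => hdep (r 0) (by simpa using e)
  have hsc : Am M a (s • rv F₀ c) := step c x h hc hca c hca hcc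
  intro y hy
  have hya : polar Q (rv F₀ y) (rv F₀ a) = 0 := by rw [polar_comm]; exact hy
  set k : F₀ := ⟨polar Q (rv F₀ y) (rv F₀ c), pol hR _ _⟩ with hk
  have h1 := step c x h hc hca (y - k • c2) (by
    rw [rv_sub, rv_smul, polar_sub_left, polar_smul_left, hya, show polar Q (rv F₀ c2) (rv F₀ a) = 0 from hc2a 0]
    simp) (by
    rw [rv_sub, rv_smul, polar_sub_left, polar_smul_left, hc2c, smul_eq_mul, mul_one, hk, sub_self])
  have h2 := step c2 (s • rv F₀ c) hsc hc2 (hc2a 0) (k • c2) (by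
    rw [rv_smul, polar_smul_left, show polar Q (rv F₀ c2) (rv F₀ a) = 0 from hc2a 0, smul_zero]) (by
    rw [rv_smul, polar_smul_left, polar_diag, hc2, mul_zero, smul_zero])
  rw [polar_smul_left, polar_comm (⇑Q) (rv F₀ c) (rv F₀ c2), hc2c, smul_eq_mul, mul_one] at h2
  have := h1.add h2
  rwa [← smul_add, ← rv_add, sub_add_cancel] at this

theorem Rs_neg {a : ι → F₀} {s : F} (h : Rs M a s) : Rs M a (-s) := fun y hy => by
  rw [neg_smul]; exact (h y hy).neg

theorem move {a c : ι → F₀} {s : F} (ha : Q (rv F₀ a) = 0) (hc : Q (rv F₀ c) = 0)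
    (hac : polar Q (rv F₀ a) (rv F₀ c) = 0) (hc0 : c ≠ 0) (hne : ∀ r : F₀, a ≠ r • c) (h : Rs M a s) : Rs M c s := by
  obtain ⟨h1, h2, hm⟩ := h c hac
  have hm' : Am M c ((-s) • rv F₀ a) := by
    have h2' : polar Q (rv F₀ c) ((-s) • rv F₀ a) = 0 := by
      rw [polar_smul_right, polar_comm, hac, smul_zero]
    refine ⟨hc, h2', ?_⟩
    rw [show sO Q (rv F₀ c) ((-s) • rv F₀ a) hc h2' = sO Q (rv F₀ a) (s • rv F₀ c) h1 h2 from O_ext Q fun z => by
      rw [act_sO, act_sO, Q_smul, Q_smul, ha, hc, polar_smul_right, polar_smul_right]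
      simp only [smul_eq_mul]
      module]
    exact hm
  obtain ⟨e, he, hec, hea⟩ := dual hR ![c] (by norm_num) (p := a) fun r e => hne (r 0) (by simpa using e)
  have := good_of hR hD hc0 hm'.neg he (hec 0)
  rwa [polar_neg_left, polar_smul_left, polar_comm (⇑Q) (rv F₀ a), hea, smul_eq_mul, mul_one, neg_neg] at this

theorem move_any {a c : ι → F₀} {s : F} (ha : Q (rv F₀ a) = 0) (hc : Q (rv F₀ c) = 0) (ha0 : a ≠ 0) (hc0 : c ≠ 0)
    (h : Rs M a s) : Rs M c s := by
  obtain ⟨d, hd0, hd, hdW, hdne⟩ := avoid hR ![a, c] ![a, c] (by norm_num)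
  have hda : polar Q (rv F₀ d) (rv F₀ a) = 0 := hdW 0
  have hdc : polar Q (rv F₀ d) (rv F₀ c) = 0 := hdW 1
  have h1 : Rs M d s := by
    refine move hR hD ha hd (by rw [polar_comm]; exact hda) hd0 (fun r e => ?_) h
    rcases eq_or_ne r 0 with rfl | hr
    · exact ha0 (by rw [e, zero_smul])
    · exact hdne ![r⁻¹, 0] (by simp [Fin.sum_univ_two, e, hr])
  exact move hR hD hd hc hdc hc0 (fun r e => hdne ![0, r] (by simp [Fin.sum_univ_two, e])) h1

theorem Rs_mul {a : ι → F₀} (ha : Q (rv F₀ a) = 0) (ha0 : a ≠ 0) {s t : F} (hs : Rs M a s) (ht : Rs M a t) :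
    Rs M a (t * s) := by
  obtain ⟨d, hd0, hd, hdW, hdne⟩ := avoid hR ![a] ![a] (by norm_num)
  have hda : polar Q (rv F₀ d) (rv F₀ a) = 0 := hdW 0
  obtain ⟨c, hc0, hc, hcW, hcne⟩ := avoid hR ![a, d] ![a, d] (by norm_num)
  have hca : polar Q (rv F₀ c) (rv F₀ a) = 0 := hcW 0
  have hcd : polar Q (rv F₀ c) (rv F₀ d) = 0 := hcW 1
  have symm : ∀ {p q : V}, polar Q p q = 0 → polar Q q p = 0 := fun h => by rw [polar_comm]; exact h
  obtain ⟨b, hb, hbW, hba⟩ := dual hR ![c, d] (by norm_num) (p := a) fun r e => by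
    simp only [Fin.sum_univ_two, Matrix.cons_val_zero, Matrix.cons_val_one] at e
    rcases eq_or_ne (r 0) 0 with h0 | h0
    · rw [h0, zero_smul, zero_add] at e
      rcases eq_or_ne (r 1) 0 with h1 | h1
      · exact ha0 (by rw [e, h1, zero_smul])
      · exact hdne ![(r 1)⁻¹] (by simp [e, h1])
    · refine hcne ![(r 0)⁻¹, -(r 0)⁻¹ * r 1] ?_
      simp only [Fin.sum_univ_two, Matrix.cons_val_zero, Matrix.cons_val_one]
      rw [e, smul_add, inv_smul_smul₀ h0]
      module
  have hbc : polar Q (rv F₀ b) (rv F₀ c) = 0 := hbW 0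
  have hbd : polar Q (rv F₀ b) (rv F₀ d) = 0 := hbW 1
  obtain ⟨h1, h2, hm⟩ := hs c (symm hca)
  have htb : Am M d (t • rv F₀ b) := move_any hR hD ha hd ha0 hd0 ht b (symm hbd)
  have hA := (htb.map hm (a' := d) (by
    rw [act_sO, hda, polar_smul_right, symm hcd, Q_smul, hc]; simp)).sub htb
  rw [act_sO, polar_smul_left, hba, polar_smul_right, polar_smul_left, hbc, Q_smul, hc] at hA
  have hA' : Am M d ((t * s) • rv F₀ c) := by
    convert hA using 1
    simp only [smul_eq_mul]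
    module
  obtain ⟨e, he, hed, hec⟩ := dual hR ![d] (by norm_num) (p := c) fun r e' => hcne ![0, r 0] (by
    simpa [Fin.sum_univ_two] using e')
  have := good_of hR hD hd0 hA' he (hed 0)
  rw [polar_smul_left, polar_comm (⇑Q) (rv F₀ c), hec, smul_eq_mul, mul_one] at this
  exact move_any hR hD hd ha hd0 ha0 this

/-- One irrational parameter gives every rational centre. -/
theorem scen_rat {r : ℕ} (hr : r.Prime) (hcard : Nat.card F = Nat.card F₀ ^ r) {a₁ : ι → F₀}
    (ha₁ : Q (rv F₀ a₁) = 0) (ha₁0 : a₁ ≠ 0) {s : F} (hs : Rs M a₁ s) (hs0 : s ∉ F₀) {a : ι → F₀}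
    (ha : Q (rv F₀ a) = 0) (ha0 : a ≠ 0) : SCen Q M (rv F₀ a) := by
  let R : Subring F :=
    { carrier := {t | Rs M a t}
      one_mem' := Rs_rat hR hD ha (one_mem _)
      zero_mem' := Rs_rat hR hD ha (zero_mem _)
      add_mem' := fun {t t'} h h' y hy => by rw [add_smul]; exact (h y hy).add (h' y hy)
      neg_mem' := fun {t} h => Rs_neg hR hD h
      mul_mem' := fun {t t'} h h' => Rs_mul hR hD ha ha0 h' h }
  have htop := subring_top F₀ hr hcard R (fun t ht => Rs_rat hR hD ha ht)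
    (show s ∈ R from move_any hR hD ha₁ ha ha₁0 ha0 hs) hs0
  have hall : ∀ t : F, Rs M a t := fun t => (show t ∈ R by rw [htop]; trivial)
  have haa : polar Q (rv F₀ a) (rv F₀ a) = 0 := by rw [polar_diag, ha, mul_zero]
  let A : Submodule F V :=
    { carrier := {x | polar Q (rv F₀ a) x = 0 ∧ ∀ t : F, Am M a (t • x)}
      zero_mem' := ⟨polar_zero_right Q _, fun t => by
        rw [smul_zero]
        have := hD a 0 ha (by rw [rv_zero, polar_zero_right])
        rwa [rv_zero] at this⟩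
      add_mem' := fun {x y} hx hy => ⟨by rw [polar_add_right, hx.1, hy.1, add_zero], fun t => by
        rw [smul_add]; exact (hx.2 t).add (hy.2 t)⟩
      smul_mem' := fun c x hx => ⟨by rw [polar_smul_right, hx.1, smul_zero], fun t => by
        rw [smul_smul]; exact hx.2 _⟩ }
  obtain ⟨z, -, -, hza⟩ := dual hR (![] : Fin 0 → ι → F₀) (by norm_num) (p := a) fun l h => ha0 (by simpa using h)
  refine ⟨ha, fun x hx => ?_⟩
  have key : ∀ i, ∃ c : F, (Pi.single i 1 : V) + c • rv F₀ z ∈ A := fun i => by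
    set k : F₀ := ⟨polar Q (rv F₀ (Pi.single i 1)) (rv F₀ a), pol hR _ _⟩ with hk
    refine ⟨-(k : F), ?_⟩
    have h0 : polar Q (rv F₀ a) (rv F₀ (Pi.single i 1 - k • z)) = 0 := by
      rw [rv_sub, rv_smul, polar_sub_right, polar_smul_right, polar_comm (⇑Q) _ (rv F₀ z), hza, smul_eq_mul, mul_one,
        hk, polar_comm, sub_self]
    have hmem : rv F₀ (Pi.single i 1 - k • z) ∈ A := ⟨h0, fun t => hall t _ h0⟩
    rw [rv_sub, rv_smul, rv_single] at hmem
    rwa [neg_smul, ← sub_eq_add_neg]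
  choose c hc using key
  have hdec : ∑ i, x i • ((Pi.single i 1 : V) + c i • rv F₀ z) = x + (∑ i, x i * c i) • rv F₀ z := by
    simp only [smul_add, Finset.sum_add_distrib, smul_smul, ← Finset.sum_smul]
    congr 1
    exact (pi_eq_sum_univ' x).symm
  have hmem : x + (∑ i, x i * c i) • rv F₀ z ∈ A := hdec ▸ A.sum_mem fun i _ => A.smul_mem _ (hc i)
  have h0 : (∑ i, x i * c i) = 0 := by
    have := hmem.1
    rw [polar_add_right, hx, polar_smul_right, polar_comm (⇑Q) _ (rv F₀ z), hza] at this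
    simpa using this
  rw [h0, zero_smul, add_zero] at hmem
  have h1 := hmem.2 1
  rw [one_smul] at h1
  obtain ⟨_, _, h2⟩ := h1
  exact h2

end Cfsg.Agent.Classical.SubfieldOrth
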