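import Cfsg.Agent.Lib.Classical.MaxOrthNondegCases
import Cfsg.Agent.Lib.Classical.SubfieldOrthGood
import Cfsg.Agent.Lib.Classical.OmegaTrans
import Cfsg.Agent.Lib.Classical.MaxDecomp

/-!
Orthogonal decompositions: components, singular vectors and root elements inside members.
-/

set_option autoImplicit false
set_option linter.unusedSectionVars false
set_option maxHeartbeats 1600000

open Module Matrix QuadraticMap

namespace Cfsg.Agent.Classical.DecompOrth

open Refl Siegel MaxLin

variable {F : Type*} [Field F] [Fintype F] {ι : Type} [Fintype ι] [DecidableEq ι]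
variable {Q : QuadraticForm F (ι → F)} {t : ℕ} {D : Fin t → Submodule F (ι → F)}

local notation "V" => ι → F

/-- A non-degenerate subspace. -/
def Nd (Q : QuadraticForm F (ι → F)) (S : Submodule F (ι → F)) : Prop :=
  ∀ w ∈ S, (∀ x ∈ S, polar Q x w = 0) → w = 0

/-- An orthogonal decomposition with isometric members. -/
structure Dec (Q : QuadraticForm F (ι → F)) (D : Fin t → Submodule F (ι → F)) (k : ℕ) : Prop where
  nd : (polarBilin Q).Nondegenerate
  ndD : ∀ i, Nd Q (D i)
  orth : ∀ i j, i ≠ j → ∀ u ∈ D i, ∀ v ∈ D j, polar Q u v = 0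
  ind : iSupIndep D
  sup : iSup D = ⊤
  rank : ∀ i, finrank F (D i) = k
  three : 3 ≤ k
  qk : 5 ≤ Fintype.card F ∨ 5 ≤ k
  two : (2 : F) ≠ 0
  big : 7 ≤ Fintype.card ι
  iso : ∀ i j, Cfsg.Geo.AreIsometricFor (⇑Q) (D i) (D j)

theorem aniso_of_nd {S : Submodule F (ι → F)} (hS : Nd Q S) (h0 : S ≠ ⊥) : ∃ a ∈ S, Q a ≠ 0 := by
  by_contra hc
  push Not at hc
  obtain ⟨w, hw, hw0⟩ := Submodule.exists_mem_ne_zero_of_ne_bot h0
  refine hw0 (hS w hw fun x hx => ?_)
  rw [polar, hc _ (S.add_mem hx hw), hc _ hx, hc _ hw]; ring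

theorem nd_perp (h2 : (2 : F) ≠ 0) {S : Submodule F (ι → F)} (hS : Nd Q S) {a : V} (ha : a ∈ S) (hQa : Q a ≠ 0) :
    Nd Q (S ⊓ LinearMap.ker (polarBilin Q a)) := by
  rintro w ⟨hw, hwa⟩ h
  change polar Q a w = 0 at hwa
  refine hS w hw fun x hx => ?_
  have h1 := h (x - (polar Q a x / (2 * Q a)) • a) ⟨S.sub_mem hx (S.smul_mem _ ha), by
    show polar Q a (x - (polar Q a x / (2 * Q a)) • a) = 0
    rw [polar_sub_right, polar_smul_right, polar_diag, smul_eq_mul, div_mul_cancel₀ _ (mul_ne_zero h2 hQa), sub_self]⟩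
  rwa [polar_sub_left, polar_smul_left, hwa, smul_zero, sub_zero] at h1

theorem finrank_perp_le (S : Submodule F (ι → F)) (a : V) :
    finrank F S ≤ finrank F (S ⊓ LinearMap.ker (polarBilin Q a) : Submodule F (ι → F)) + 1 := by
  have h1 := Submodule.finrank_sup_add_finrank_inf_eq S (LinearMap.ker (polarBilin Q a))
  have h2 := Submodule.finrank_le (S ⊔ LinearMap.ker (polarBilin Q a))
  have h3 := Refl.le_finrank_ker (polarBilin Q a)
  rw [finrank_pi] at h2
  omega

/-- In a non-degenerate subspace a non-zero vector has an anisotropic non-orthogonal one. -/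
theorem aniso_nonorth (h2 : (2 : F) ≠ 0) {S : Submodule F (ι → F)} (hS : Nd Q S) {y : V} (hy : y ∈ S) (hy0 : y ≠ 0) :
    ∃ a ∈ S, Q a ≠ 0 ∧ polar Q a y ≠ 0 := by
  obtain ⟨x, hx, hxy⟩ : ∃ x ∈ S, polar Q x y ≠ 0 := by
    by_contra hc; push Not at hc; exact hy0 (hS y hy hc)
  by_cases hQx : Q x = 0
  swap
  · exact ⟨x, hx, hQx, hxy⟩
  by_cases hQy : Q y = 0
  · refine ⟨x + y, S.add_mem hx hy, ?_, ?_⟩
    · rw [Q_add, hQx, hQy, zero_add, zero_add]; exact hxy
    · rw [polar_add_left, polar_diag, hQy, mul_zero, add_zero]; exact hxy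
  · exact ⟨y, hy, hQy, by rw [polar_diag]; exact mul_ne_zero h2 hQy⟩

/-- A partner inside a non-degenerate subspace. -/
theorem partner {S : Submodule F (ι → F)} (hS : Nd Q S) {a : V} (ha : a ∈ S) (ha0 : a ≠ 0) (hQa : Q a = 0) :
    ∃ c ∈ S, Q c = 0 ∧ polar Q c a = 1 := by
  obtain ⟨y, hy, hya⟩ : ∃ y ∈ S, polar Q y a ≠ 0 := by
    by_contra hc; push Not at hc; exact ha0 (hS a ha hc)
  obtain ⟨y', hy', h1⟩ : ∃ y' ∈ S, polar Q y' a = 1 :=
    ⟨(polar Q y a)⁻¹ • y, S.smul_mem _ hy, by rw [polar_smul_left, smul_eq_mul, inv_mul_cancel₀ hya]⟩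
  refine ⟨y' + (-Q y') • a, S.add_mem hy' (S.smul_mem _ ha), ?_, ?_⟩
  · rw [Q_add, Q_smul, hQa, polar_smul_right, smul_eq_mul, h1]; ring
  · rw [polar_add_left, polar_smul_left, polar_diag, hQa, h1]; simp

/-- Values on the span of two orthogonal anisotropic vectors. -/
theorem plane_value (h2 : (2 : F) ≠ 0) {a e : V} (ha : Q a ≠ 0) (he : Q e ≠ 0) (hae : polar Q a e = 0) (r : F) :
    ∃ x y : F, Q (x • a + y • e) = r := by
  have hodd : Fintype.card F % 2 = 1 := by
    rw [← Nat.odd_iff]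
    by_contra hc
    rw [Nat.not_odd_iff_even] at hc
    obtain ⟨p, hp⟩ := CharP.exists F
    obtain ⟨n, hpp, hn⟩ := FiniteField.card F p
    have : p = 2 := by
      rw [hn] at hc
      exact (Nat.prime_dvd_prime_iff_eq Nat.prime_two hpp).1 (Nat.prime_two.dvd_of_dvd_pow hc.two_dvd) |>.symm
    subst this
    exact h2 (by exact_mod_cast CharP.cast_eq_zero F 2)
  obtain ⟨x, y, h⟩ := FiniteField.exists_root_sum_quadratic
    (f := Polynomial.C (Q a) * Polynomial.X ^ 2 - Polynomial.C r) (g := Polynomial.C (Q e) * Polynomial.X ^ 2)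
    (Polynomial.degree_C_mul_X_pow 2 ha ▸ Polynomial.degree_sub_C (by rw [Polynomial.degree_C_mul_X_pow 2 ha]; norm_num))
    (Polynomial.degree_C_mul_X_pow 2 he) hodd
  refine ⟨x, y, ?_⟩
  simp only [Polynomial.eval_sub, Polynomial.eval_mul, Polynomial.eval_C, Polynomial.eval_pow, Polynomial.eval_X] at h
  rw [Q_add, Q_smul, Q_smul, polar_smul_left, polar_smul_right, hae]
  simp only [smul_zero, add_zero]
  linear_combination h

variable {k : ℕ} (hd : Dec Q D k)

include hd

theorem ne_bot (i : Fin t) : D i ≠ ⊥ := fun e => by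
  have := hd.rank i; rw [e, finrank_bot] at this; have := hd.three; omega

/-- The components. -/
noncomputable def comp (i : Fin t) : (ι → F) →ₗ[F] (ι → F) :=
  (D i).subtype ∘ₗ LinearMap.proj i ∘ₗ
    (LinearEquiv.ofBijective (MaxSub.sumMap D) (MaxSub.sumMap_bijective D hd.ind hd.sup)).symm.toLinearMap

theorem comp_mem (i : Fin t) (x : V) : comp hd i x ∈ D i := Submodule.coe_mem _

theorem sum_comp (x : V) : ∑ i, comp hd i x = x :=
  (LinearEquiv.ofBijective (MaxSub.sumMap D) (MaxSub.sumMap_bijective D hd.ind hd.sup)).apply_symm_apply x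

theorem comp_of_mem {i : Fin t} {x : V} (hx : x ∈ D i) (j : Fin t) : comp hd j x = if j = i then x else 0 := by
  have h : (LinearEquiv.ofBijective (MaxSub.sumMap D) (MaxSub.sumMap_bijective D hd.ind hd.sup)).symm x =
      Pi.single i ⟨x, hx⟩ := by
    rw [LinearEquiv.symm_apply_eq]
    exact (MaxSub.sumMap_single D i ⟨x, hx⟩).symm
  simp only [comp, LinearMap.comp_apply, LinearEquiv.coe_coe, LinearMap.proj_apply, h, Submodule.subtype_apply]
  rcases eq_or_ne j i with rfl | hj
  · simp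
  · simp [hj]

theorem comp_self {i : Fin t} {x : V} (hx : x ∈ D i) : comp hd i x = x := by rw [comp_of_mem hd hx, if_pos rfl]

theorem comp_other {i j : Fin t} {x : V} (hx : x ∈ D i) (hj : j ≠ i) : comp hd j x = 0 := by
  rw [comp_of_mem hd hx, if_neg hj]

theorem polar_comp {i : Fin t} {x : V} (hx : x ∈ D i) (y : V) : polar Q x y = polar Q x (comp hd i y) := by
  conv_lhs => rw [← sum_comp hd y]
  show polarBilin Q x (∑ j, comp hd j y) = _
  rw [map_sum, Finset.sum_eq_single i]
  · rfl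
  · exact fun j _ hj => hd.orth i j hj.symm x hx _ (comp_mem hd j y)
  · simp

theorem mem_of_comp {i : Fin t} {x : V} (h : ∀ j, j ≠ i → comp hd j x = 0) : x ∈ D i := by
  rw [← sum_comp hd x, Finset.sum_eq_single i (fun j _ hj => h j hj) (by simp)]
  exact comp_mem hd i x

/-- A non-zero singular vector. -/
theorem exists_sing (i : Fin t) : ∃ s ∈ D i, s ≠ 0 ∧ Q s = 0 := by
  obtain ⟨s, hs, hs0, hQs, -⟩ := Siegel.sing_in Q (D i) (![] : Fin 0 → Dual F (ι → F))
    (by rw [hd.rank]; have := hd.three; omega)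
  exact ⟨s, hs, hs0, hQs⟩

/-- An anisotropic vector orthogonal to a singular one. -/
theorem aniso_perp {i : Fin t} {s : V} (hs : s ∈ D i) (hs0 : s ≠ 0) (hQs : Q s = 0) :
    ∃ b ∈ D i, polar Q b s = 0 ∧ Q b ≠ 0 := by
  obtain ⟨c, hc, hQc, hcs⟩ := partner (hd.ndD i) hs hs0 hQs
  have ha : Q (c + s) ≠ 0 := by rw [Q_add, hQc, hQs, hcs]; simp
  have hn1 := nd_perp hd.two (hd.ndD i) ((D i).add_mem hc hs) ha
  have hb : c - s ∈ D i ⊓ LinearMap.ker (polarBilin Q (c + s)) := ⟨(D i).sub_mem hc hs, by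
    show polar Q (c + s) (c - s) = 0
    rw [polar_sub_right, polar_add_left, polar_add_left, polar_diag, polar_diag, hQc, hQs,
      polar_comm (⇑Q) s c]; simp⟩
  have hQb : Q (c - s) ≠ 0 := by
    rw [sub_eq_add_neg, Q_add, QuadraticMap.map_neg, polar_neg_right, hQc, hQs, hcs]; simp
  have hn2 := nd_perp hd.two hn1 hb hQb
  have h1 := finrank_perp_le (Q := Q) (D i) (c + s)
  have h2 := finrank_perp_le (Q := Q) (D i ⊓ LinearMap.ker (polarBilin Q (c + s))) (c - s)
  obtain ⟨b, ⟨⟨hb1, hb2⟩, hb3⟩, hQb'⟩ := aniso_of_nd hn2 (fun e => by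
    rw [e, finrank_bot] at h2; have := hd.rank i; have := hd.three; omega)
  refine ⟨b, hb1, ?_, hQb'⟩
  change polar Q (c + s) b = 0 at hb2
  change polar Q (c - s) b = 0 at hb3
  rw [polar_add_left] at hb2
  rw [polar_sub_left] at hb3
  rw [polar_comm]
  exact (mul_eq_zero.1 (show (2 : F) * polar Q s b = 0 by linear_combination hb2 - hb3)).resolve_left hd.two

/-- Singular vectors span every member. -/
theorem sing_span {i : Fin t} (U : Submodule F (ι → F)) (hU : ∀ s ∈ D i, Q s = 0 → s ∈ U) : D i ≤ U := by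
  obtain ⟨s, hs, hs0, hQs⟩ := exists_sing hd i
  obtain ⟨c, hc, hQc, hcs⟩ := partner (hd.ndD i) hs hs0 hQs
  intro x hx
  set x' := x - polar Q x c • s - polar Q x s • c with hx'
  have hsU := hU s hs hQs
  have hcU := hU c hc hQc
  have hx'D : x' ∈ D i := (D i).sub_mem ((D i).sub_mem hx ((D i).smul_mem _ hs)) ((D i).smul_mem _ hc)
  have h1 : polar Q x' s = 0 := by
    rw [hx', polar_sub_left, polar_sub_left, polar_smul_left, polar_smul_left, polar_diag, hQs, hcs]; simp
  have h2 : polar Q x' c = 0 := by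
    rw [hx', polar_sub_left, polar_sub_left, polar_smul_left, polar_smul_left, polar_diag, hQc,
      polar_comm (⇑Q) s c, hcs]; simp
  have h3 := hU (x' + s + (-Q x') • c) ((D i).add_mem ((D i).add_mem hx'D hs) ((D i).smul_mem _ hc)) (by
    rw [Q_add, Q_add, Q_smul, hQs, hQc, polar_add_left, polar_smul_right, polar_smul_right, h1, h2,
      polar_comm (⇑Q) s c, hcs]
    simp)
  have : x' ∈ U := by
    have := U.sub_mem (U.sub_mem h3 hsU) (U.smul_mem (-Q x') hcU)
    rwa [show x' + s + (-Q x') • c - s - (-Q x') • c = x' by abel] at this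
  rw [show x = x' + polar Q x c • s + polar Q x s • c by rw [hx']; abel]
  exact U.add_mem (U.add_mem this (U.smul_mem _ hsU)) (U.smul_mem _ hcU)

/-- A subspace of a member stable under its Siegel transformations contains the singular vectors. -/
theorem sing_mem {i : Fin t} (U : Submodule F (ι → F)) (hUD : U ≤ D i)
    (hinv : ∀ s w, s ∈ D i → w ∈ D i → ∀ (hs : Q s = 0) (hsw : polar Q s w = 0), ∀ x ∈ U,
      act Q (sO Q s w hs hsw) x ∈ U)
    (hU : U ≠ ⊥) : ∀ s ∈ D i, Q s = 0 → s ∈ U := by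
  intro s hs hQs
  rcases eq_or_ne s 0 with rfl | hs0
  · exact U.zero_mem
  obtain ⟨x, hx, hx0⟩ := Submodule.exists_mem_ne_zero_of_ne_bot hU
  have move : ∀ (x w : V), x ∈ U → w ∈ D i → polar Q s w = 0 →
      polar Q x s • w - (polar Q x w + Q w * polar Q x s) • s ∈ U := by
    intro x w hx hw hsw
    have := U.sub_mem (hinv s w hs hw hQs hsw x hx) hx
    rwa [act_sO, add_sub_assoc, add_sub_cancel_left] at this
  obtain ⟨w, hw, hws, hQw⟩ := aniso_perp hd hs hs0 hQs
  have hsw : polar Q s w = 0 := by rw [polar_comm]; exact hws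
  by_cases hxs : polar Q x s = 0
  · by_cases hall : ∀ w ∈ D i, polar Q s w = 0 → polar Q x w = 0
    · -- `x` is a multiple of `s`
      obtain ⟨c, hc, hQc, hcs⟩ := partner (hd.ndD i) hs hs0 hQs
      have hx' : x = polar Q x c • s := sub_eq_zero.1 ((hd.ndD i) _ ((D i).sub_mem (hUD hx) ((D i).smul_mem _ hs))
        fun y hy => by
          have h := hall (y - polar Q y s • c) ((D i).sub_mem hy ((D i).smul_mem _ hc)) (by
            rw [polar_sub_right, polar_smul_right, polar_comm (⇑Q) s c, hcs, polar_comm (⇑Q) s y]; simp)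
          rw [polar_sub_right, polar_smul_right, smul_eq_mul] at h
          rw [polar_sub_right, polar_smul_right, smul_eq_mul, polar_comm (⇑Q) y x]
          linear_combination h)
      have hne : polar Q x c ≠ 0 := fun e => hx0 (by rw [hx', e, zero_smul])
      have h4 := U.smul_mem (polar Q x c)⁻¹ hx
      generalize polar Q x c = r at hx' hne h4
      rwa [hx', inv_smul_smul₀ hne] at h4
    · push Not at hall
      obtain ⟨w, hw, hsw, hxw⟩ := hall
      have := move x w hx hw hsw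
      rw [hxs, zero_smul, mul_zero, add_zero, zero_sub, ← neg_smul] at this
      simpa [hxw] using U.smul_mem (-polar Q x w)⁻¹ this
  · have h1 := move x w hx hw hsw
    have h2 := move _ w h1 hw hsw
    have e1 : polar Q (polar Q x s • w - (polar Q x w + Q w * polar Q x s) • s) s = 0 := by
      rw [polar_sub_left, polar_smul_left, polar_smul_left, hws, polar_diag, hQs]; simp
    have e2 : polar Q (polar Q x s • w - (polar Q x w + Q w * polar Q x s) • s) w = 2 * Q w * polar Q x s := by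
      rw [polar_sub_left, polar_smul_left, polar_smul_left, polar_diag, hsw]; simp; ring
    rw [e1, e2, zero_smul, mul_zero, add_zero, zero_sub, ← neg_smul] at h2
    have hne : -(2 * Q w * polar Q x s) ≠ 0 := neg_ne_zero.2 (mul_ne_zero (mul_ne_zero hd.two hQw) hxs)
    have h4 := U.smul_mem (-(2 * Q w * polar Q x s))⁻¹ h2
    rwa [inv_smul_smul₀ hne] at h4

/-- Siegel transformations inside a member respect all members. -/
theorem act_sO_member {i : Fin t} {s w : V} (hs : s ∈ D i) (hw : w ∈ D i) (hQs : Q s = 0) (hsw : polar Q s w = 0)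
    {j : Fin t} {x : V} (hx : x ∈ D j) : act Q (sO Q s w hQs hsw) x ∈ D j := by
  rw [act_sO]
  rcases eq_or_ne j i with rfl | hj
  · exact (D j).sub_mem ((D j).add_mem hx ((D j).smul_mem _ hw)) ((D j).smul_mem _ hs)
  · rw [hd.orth j i hj x hx s hs, hd.orth j i hj x hx w hw]
    simpa using hx

theorem act_sO_other {i : Fin t} {s w : V} (hs : s ∈ D i) (hw : w ∈ D i) (hQs : Q s = 0) (hsw : polar Q s w = 0)
    {j : Fin t} (hj : j ≠ i) {x : V} (hx : x ∈ D j) : act Q (sO Q s w hQs hsw) x = x := by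
  rw [act_sO, hd.orth j i hj x hx s hs, hd.orth j i hj x hx w hw]
  simp

theorem mem_decomp {g : O Q} (h : ∀ i, ∃ j, ∀ x ∈ D i, act Q g x ∈ D j) :
    (g : GL ι F) ∈ Cfsg.Geo.decompositionStabilizer D := by
  choose σ hσ using h
  have hmap : ∀ i, (D i).map (Matrix.toLin' ((g : GL ι F) : Matrix ι ι F)) = D (σ i) := fun i =>
    OmegaTrans.map_eq Q g (hσ i) (by rw [hd.rank, hd.rank])
  have hinj : Function.Injective σ := by
    intro a b hab
    by_contra hne
    have h1 : (D a).map (Matrix.toLin' ((g : GL ι F) : Matrix ι ι F)) =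
        (D b).map (Matrix.toLin' ((g : GL ι F) : Matrix ι ι F)) := by rw [hmap, hmap, hab]
    have h2 := Submodule.map_injective_of_injective (OmegaTrans.mulVecLin_injective Q g) h1
    obtain ⟨x, hx, hx0⟩ := Submodule.exists_mem_ne_zero_of_ne_bot (ne_bot hd a)
    exact hx0 ((comp_self hd hx).symm.trans (comp_other hd (h2 ▸ hx) hne))
  exact ⟨Equiv.ofBijective σ (Finite.injective_iff_bijective.1 hinj), hmap⟩

end Cfsg.Agent.Classical.DecompOrth
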