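import Cfsg.Agent.Lib.Classical.DecompOrthMax

/-!
Stabilisers of orthogonal decompositions with members of dimension at least three are maximal.
-/

set_option autoImplicit false
set_option linter.unusedSectionVars false
set_option maxHeartbeats 1600000

open Module Matrix QuadraticMap

namespace Cfsg.Agent.Classical.DecompOrth

open Refl Siegel MaxLin

variable {F : Type*} [Field F] [Fintype F] {ι : Type} [Fintype ι] [DecidableEq ι]
variable {Q : QuadraticForm F (ι → F)} {t : ℕ} {D : Fin t → Submodule F (ι → F)} {k : ℕ}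

local notation "V" => ι → F

theorem Q_eq (h2 : (2 : F) ≠ 0) {x y : V} (h : polar Q x x = polar Q y y) : Q x = Q y := by
  rw [polar_diag, polar_diag] at h
  exact mul_left_cancel₀ h2 h

variable (hd : Dec Q D k)

include hd

theorem Q_sum (x : V) : 2 * Q x = ∑ m, 2 * Q (comp hd m x) := by
  rw [← polar_diag]
  conv_lhs => arg 2; rw [← sum_comp hd x]
  show (polarBilin Q) (∑ m, comp hd m x) x = _
  rw [map_sum, LinearMap.sum_apply]
  exact Finset.sum_congr rfl fun m _ => by
    rw [← polar_diag]; exact polar_comp hd (comp_mem hd m x) x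

/-- The swap of two members. -/
theorem exists_swap {n n' : Fin t} (hne : n ≠ n') :
    ∃ G : O Q, (∀ x ∈ D n, act Q G x ∈ D n') ∧ (∀ x ∈ D n', act Q G x ∈ D n) ∧
      ∀ l, l ≠ n → l ≠ n' → ∀ x ∈ D l, act Q G x = x := by
  classical
  obtain ⟨e, he⟩ := hd.iso n n'
  have hes : ∀ w : D n', Q ((e.symm w : D n) : V) = Q (w : V) := fun w => by
    rw [← he, LinearEquiv.apply_symm_apply]
  let p : V →ₗ[F] D n := LinearMap.codRestrict _ (comp hd n) (comp_mem hd n)
  let p' : V →ₗ[F] D n' := LinearMap.codRestrict _ (comp hd n') (comp_mem hd n')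
  let g : V →ₗ[F] V := LinearMap.id - comp hd n - comp hd n' + (D n').subtype ∘ₗ e.toLinearMap ∘ₗ p +
    (D n).subtype ∘ₗ e.symm.toLinearMap ∘ₗ p'
  have hgx : ∀ x, g x = x - comp hd n x - comp hd n' x + (e (p x) : V) + (e.symm (p' x) : V) := fun x => rfl
  have hp : ∀ x ∈ D n, ∀ h, p x = ⟨x, h⟩ := fun x hx h => Subtype.ext (comp_self hd hx)
  have hp' : ∀ x ∈ D n', ∀ h, p' x = ⟨x, h⟩ := fun x hx h => Subtype.ext (comp_self hd hx)
  have hp0 : ∀ l, l ≠ n → ∀ x ∈ D l, p x = 0 := fun l hl x hx => Subtype.ext (comp_other hd hx hl.symm)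
  have hp0' : ∀ l, l ≠ n' → ∀ x ∈ D l, p' x = 0 := fun l hl x hx => Subtype.ext (comp_other hd hx hl.symm)
  have g1 : ∀ (x : V) (hx : x ∈ D n), g x = (e ⟨x, hx⟩ : V) := fun x hx => by
    rw [hgx, comp_self hd hx, comp_other hd hx hne.symm, hp x hx hx, hp0' n hne x hx]; simp
  have g2 : ∀ (x : V) (hx : x ∈ D n'), g x = (e.symm ⟨x, hx⟩ : V) := fun x hx => by
    rw [hgx, comp_self hd hx, comp_other hd hx hne, hp' x hx hx, hp0 n' hne.symm x hx]; simp
  have g3 : ∀ l, l ≠ n → l ≠ n' → ∀ x ∈ D l, g x = x := fun l h h' x hx => by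
    rw [hgx, comp_other hd hx h.symm, comp_other hd hx h'.symm, hp0 l h x hx, hp0' l h' x hx]; simp
  have hgg : ∀ x, g (g x) = x := fun x => by
    conv_lhs => rw [← sum_comp hd x]
    rw [map_sum, map_sum]
    refine (Finset.sum_congr rfl fun l _ => ?_).trans (sum_comp hd x)
    rcases eq_or_ne l n with rfl | h
    · rw [g1 _ (comp_mem hd l x), g2 _ (Subtype.coe_prop _)]; simp
    rcases eq_or_ne l n' with rfl | h'
    · rw [g2 _ (comp_mem hd l x), g1 _ (Subtype.coe_prop _)]; simp
    rw [g3 l h h' _ (comp_mem hd l x), g3 l h h' _ (comp_mem hd l x)]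
  have hQ : ∀ x, Q (g x) = Q x := fun x => by
    refine mul_left_cancel₀ hd.two ?_
    rw [Q_sum hd (g x), Q_sum hd x, ← Equiv.sum_comp (Equiv.swap n n')]
    refine Finset.sum_congr rfl fun l _ => ?_
    have hc : comp hd (Equiv.swap n n' l) (g x) = g (comp hd l x) := by
      conv_lhs => rw [← sum_comp hd x]
      rw [map_sum, map_sum, Finset.sum_eq_single l]
      · rcases eq_or_ne l n with rfl | h
        · rw [Equiv.swap_apply_left, g1 _ (comp_mem hd l x), comp_self hd (Subtype.coe_prop _)]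
        rcases eq_or_ne l n' with rfl | h'
        · rw [Equiv.swap_apply_right, g2 _ (comp_mem hd l x), comp_self hd (Subtype.coe_prop _)]
        rw [Equiv.swap_apply_of_ne_of_ne h h', g3 l h h' _ (comp_mem hd l x), comp_self hd (comp_mem hd l x)]
      · intro m _ hm
        have hmem : g (comp hd m x) ∈ D (Equiv.swap n n' m) := by
          rcases eq_or_ne m n with rfl | h
          · rw [Equiv.swap_apply_left, g1 _ (comp_mem hd m x)]; exact Subtype.coe_prop _
          rcases eq_or_ne m n' with rfl | h'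
          · rw [Equiv.swap_apply_right, g2 _ (comp_mem hd m x)]; exact Subtype.coe_prop _
          rw [Equiv.swap_apply_of_ne_of_ne h h', g3 m h h' _ (comp_mem hd m x)]; exact comp_mem hd m x
        exact comp_other hd hmem fun e => hm ((Equiv.swap n n').injective e.symm)
      · simp
    rw [hc]
    rcases eq_or_ne l n with rfl | h
    · rw [g1 _ (comp_mem hd l x), he]
    rcases eq_or_ne l n' with rfl | h'
    · rw [g2 _ (comp_mem hd l x), hes]
    rw [g3 l h h' _ (comp_mem hd l x)]
  let ge : V ≃ₗ[F] V := LinearEquiv.ofLinear g g (LinearMap.ext hgg) (LinearMap.ext hgg)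
  have hQ' : ∀ v, Q (ge v) = Q v := hQ
  have hgev : ∀ v, ge v = g v := fun v => rfl
  refine ⟨ofLin Q ge hQ', fun x hx => ?_, fun x hx => ?_, fun l h h' x hx => ?_⟩
  · rw [act_ofLin, hgev]; exact (g1 x hx).symm ▸ Subtype.coe_prop _
  · rw [act_ofLin, hgev]; exact (g2 x hx).symm ▸ Subtype.coe_prop _
  · rw [act_ofLin, hgev]; exact g3 l h h' x hx

/-- A commutator element swapping two members and fixing a third pointwise. -/
theorem exists_perm {i n n' : Fin t} (hni : n ≠ i) (hn'i : n' ≠ i) (hne : n ≠ n') :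
    ∃ g ∈ commutator (O Q), (g : GL ι F) ∈ Cfsg.Geo.decompositionStabilizer D ∧
      (∀ x ∈ D i, act Q g x = x) ∧ ∀ x ∈ D n, act Q g x ∈ D n' := by
  obtain ⟨G, hG1, hG2, hG3⟩ := exists_swap hd hne
  let H : Subgroup (O Q) :=
    { carrier := {h | (∀ l, ∀ x ∈ D l, act Q h x ∈ D l) ∧ (∀ l, ∀ x ∈ D l, act Q h⁻¹ x ∈ D l) ∧
        ∀ x ∈ D i, act Q h x = x}
      one_mem' := ⟨fun l x hx => by rw [show act Q (1 : O Q) x = x from Matrix.one_mulVec x]; exact hx,
        fun l x hx => by rw [inv_one, show act Q (1 : O Q) x = x from Matrix.one_mulVec x]; exact hx,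
        fun x _ => Matrix.one_mulVec x⟩
      mul_mem' := fun {a b} ha hb => ⟨fun l x hx => by rw [act_mul]; exact ha.1 l _ (hb.1 l x hx),
        fun l x hx => by rw [_root_.mul_inv_rev, act_mul]; exact hb.2.1 l _ (ha.2.1 l x hx),
        fun x hx => by rw [act_mul, hb.2.2 x hx, ha.2.2 x hx]⟩
      inv_mem' := fun {a} ha => ⟨ha.2.1, fun l x hx => by rw [inv_inv]; exact ha.1 l x hx,
        fun x hx => by
          have := act_inv' Q a x
          rwa [ha.2.2 x hx] at this⟩ }
  have htop : commutator (O Q) ⊔ H = ⊤ := by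
    rw [eq_top_iff, ← Refl.eq_top Q hd.nd (Or.inl fun h => hd.two (by
      have := FiniteField.cast_card_eq_zero F
      rw [h] at this; exact_mod_cast this)), Refl.R, Subgroup.closure_le]
    rintro g ⟨v, hv, hg⟩
    have : g = refl Q v hv := Subtype.ext (Units.ext hg)
    subst this
    obtain ⟨c, hc, hQc⟩ := OmegaTrans.exists_value Q hd.nd (S := D n) (by
      rw [eq_bot_iff]
      exact fun x hx => (Submodule.mem_bot F).2 (hd.ndD n x hx.1 fun y hy => hx.2 y hy))
      (by rw [hd.rank]; have := hd.three; omega) hv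
    have hc0 : Q c ≠ 0 := hQc ▸ hv
    have hcH : refl Q c hc0 ∈ H := ⟨fun l x hx => act_refl_member hd hc hc0 hx,
      fun l x hx => by rw [refl_inv]; exact act_refl_member hd hc hc0 hx,
      fun x hx => refl_other hd hc hc0 hni.symm hx⟩
    have e : refl Q v hv = refl Q v hv * refl Q c hc0 * refl Q c hc0 := by
      conv_rhs => rw [mul_assoc]; arg 2; arg 1; rw [← refl_inv]
      rw [inv_mul_cancel, mul_one]
    rw [SetLike.mem_coe, e]
    exact mul_mem (Subgroup.mem_sup_left (refl_pair_mem_commutator Q hd.nd hv hQc)) (Subgroup.mem_sup_right hcH)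
  obtain ⟨γ, hγ, h, hh, hGe⟩ := Subgroup.mem_sup_of_normal_left.1 (show G ∈ commutator (O Q) ⊔ H by
    rw [htop]; trivial)
  have hγe : γ = G * h⁻¹ := by rw [← hGe, mul_inv_cancel_right]
  have hact : ∀ x, act Q γ x = act Q G (act Q h⁻¹ x) := fun x => by rw [hγe, act_mul]
  refine ⟨γ, hγ, mem_decomp hd fun l => ?_, fun x hx => ?_, fun x hx => ?_⟩
  · rcases eq_or_ne l n with rfl | h1
    · exact ⟨n', fun x hx => by rw [hact]; exact hG1 _ (hh.2.1 l x hx)⟩
    rcases eq_or_ne l n' with rfl | h2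
    · exact ⟨n, fun x hx => by rw [hact]; exact hG2 _ (hh.2.1 l x hx)⟩
    exact ⟨l, fun x hx => by rw [hact, hG3 l h1 h2 _ (hh.2.1 l x hx)]; exact hh.2.1 l x hx⟩
  · rw [hact, (H.inv_mem hh).2.2 x hx, hG3 i hni.symm hn'i.symm x hx]
  · rw [hact]; exact hG1 _ (hh.2.1 n x hx)

/-- The stabiliser of the decomposition is maximal. -/
theorem decomp_maximal (ht : 2 ≤ t) :
    Cfsg.Geo.IsMaximalIn (Cfsg.Geo.omegaGL (⇑Q))
      (Cfsg.Geo.decompositionStabilizer D ⊓ Cfsg.Geo.omegaGL (⇑Q)) := by
  classical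
  have hn := hd.big
  refine ⟨lt_of_le_of_ne inf_le_right fun e => ?_, fun M h1 h2 => ?_⟩
  · set i : Fin t := ⟨0, by omega⟩
    set j : Fin t := ⟨1, by omega⟩
    have hij : i ≠ j := by simp [i, j]
    obtain ⟨a, ha, ha0, hQa⟩ := exists_sing hd i
    obtain ⟨c, hc, hQc, hca⟩ := partner (hd.ndD i) ha ha0 hQa
    obtain ⟨x, hx, hQx⟩ := aniso_of_nd (hd.ndD j) (ne_bot hd j)
    have hax : polar Q a x = 0 := hd.orth i j hij a ha x hx
    obtain ⟨σ, hσ⟩ := (e.ge (NotMax.mem_omegaGL _ (sO_mem_commutator Q hd.nd hn a x hQa hax))).1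
    have h3 : act Q (sO Q a x hQa hax) c ∈ D (σ i) := by
      rw [← hσ i]; exact ⟨c, hc, Matrix.toLin'_apply _ _⟩
    rw [act_sO, hca, one_smul, hd.orth i j hij c hc x hx, mul_one, zero_add] at h3
    have hσj : σ i = j := by
      by_contra hne
      have h4 := comp_other hd h3 (Ne.symm hne)
      rw [map_sub, map_add, map_smul, comp_other hd hc hij.symm, comp_self hd hx, comp_other hd ha hij.symm,
        zero_add, smul_zero, sub_zero] at h4
      exact hQx (by rw [h4, QuadraticMap.map_zero])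
    have h4 := comp_other hd (hσj ▸ h3) hij
    rw [map_sub, map_add, map_smul, comp_self hd hc, comp_other hd hx hij, comp_self hd ha, add_zero, sub_eq_zero]
      at h4
    rw [h4, polar_smul_left, polar_diag, hQa] at hca
    simp at hca
  by_cases hne : ∀ g ∈ M, g ∈ Cfsg.Geo.decompositionStabilizer D
  · exact Or.inl (le_antisymm (le_inf hne h2) h1)
  right
  push Not at hne
  obtain ⟨_, hgM, hgS⟩ := hne
  obtain ⟨g, -, rfl⟩ := h2 hgM
  set M' := M.comap (Cfsg.isometryGroup F (⇑Q)).subtype with hM'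
  have hM : Dat M' D := fun x hx h => h1 ⟨mem_decomp hd fun i => ⟨i, h i⟩, NotMax.mem_omegaGL x hx⟩
  have hcross : ¬ NoCross M' D := fun hno => by
    refine hgS (mem_decomp hd fun i => ?_)
    have img : ∀ a ∈ D i, Q a = 0 → a ≠ 0 → ∃ m, act Q g a ∈ D m := fun a ha hQa ha0 =>
      image_member hd hM hno _ g hgM i a ha hQa ha0 rfl
    obtain ⟨s, hs, hs0, hQs⟩ := exists_sing hd i
    obtain ⟨c, hc, hQc, hcs⟩ := partner (hd.ndD i) hs hs0 hQs
    have hc0 : c ≠ 0 := fun e => by rw [e, polar_zero_left] at hcs; exact zero_ne_one hcs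
    have link : ∀ x ∈ D i, ∀ y ∈ D i, Q x = 0 → Q y = 0 → polar Q x y ≠ 0 → ∀ m, act Q g x ∈ D m →
        act Q g y ∈ D m := by
      intro x hx y hy hQx hQy hxy m hm
      obtain ⟨m', hm'⟩ := img y hy hQy (fun e => hxy (by rw [e, polar_zero_right]))
      by_contra hne
      exact hxy (by rw [← polar_act Q g]; exact hd.orth m m' (fun e => hne (e ▸ hm')) _ hm _ hm')
    obtain ⟨m, hm⟩ := img s hs hQs hs0
    have hmc : act Q g c ∈ D m := link s hs c hc hQs hQc (by rw [polar_comm, hcs]; exact one_ne_zero) m hm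
    refine ⟨m, fun x hx => ?_⟩
    have hU := sing_span hd ((D m).comap (Matrix.toLin' ((g : GL ι F) : Matrix ι ι F))) (i := i) fun y hy hQy => by
      rw [Submodule.mem_comap, Matrix.toLin'_apply]
      show act Q g y ∈ D m
      rcases eq_or_ne y 0 with rfl | hy0
      · rw [show act Q g (0 : V) = 0 from Matrix.mulVec_zero _]; exact (D m).zero_mem
      by_cases h1 : polar Q s y = 0
      · by_cases h2 : polar Q c y = 0
        · obtain ⟨p, hp, hQp, hpy⟩ := partner (hd.ndD i) hy hy0 hQy
          have key : ∀ z ∈ D i, Q z = 0 → act Q g z ∈ D m → polar Q z y = 0 → polar Q z p ≠ 0 →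
              act Q g y ∈ D m := fun z hz hQz hzm _ hzp =>
            link p hp y hy hQp hQy (by rw [hpy]; exact one_ne_zero) m (link z hz p hp hQz hQp hzp m hzm)
          by_cases h3 : polar Q s p = 0
          · by_cases h4 : polar Q c p = 0
            · have hps : Q (p + s) = 0 := by rw [Q_add, hQp, hQs, polar_comm, h3]; simp
              refine link _ ((D i).add_mem hp hs) y hy hps hQy
                (by rw [polar_add_left, hpy, h1, add_zero]; exact one_ne_zero) m ?_
              refine link c hc _ ((D i).add_mem hp hs) hQc hps ?_ m hmc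
              rw [polar_add_right, h4, hcs, zero_add]; exact one_ne_zero
            · exact key c hc hQc hmc h2 h4
          · exact key s hs hQs hm h1 h3
        · exact link c hc y hy hQc hQy h2 m hmc
      · exact link s hs y hy hQs hQy h1 m hm
    have := hU hx
    rwa [Submodule.mem_comap, Matrix.toLin'_apply] at this
  simp only [NoCross, not_forall] at hcross
  obtain ⟨i, n, hni, a, ha, hQa, ha0, x, hx, hfam, hx0⟩ := hcross
  let A : Submodule F (ι → F) :=
    { carrier := {z | z ∈ D n ∧ ∀ r : F, Sm M' a (r • z)}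
      zero_mem' := ⟨(D n).zero_mem, fun r => by rw [smul_zero]; exact Sm.zero hQa⟩
      add_mem' := fun {x y} hx hy => ⟨(D n).add_mem hx.1 hy.1, fun r => by
        rw [smul_add]; exact (hx.2 r).add (hy.2 r)⟩
      smul_mem' := fun c x hx => ⟨(D n).smul_mem _ hx.1, fun r => by rw [smul_smul]; exact hx.2 _⟩ }
  have hA : ∀ y ∈ D n, Sm M' a y := fun y hy => by
    have h := (sing_span hd A (sing_mem hd A (fun z hz => hz.1) (fun s w hs hw hQs hsw z hz =>
      ⟨act_sO_member hd hs hw hQs hsw hz.1, fun r => by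
        have h1 := (hz.2 r).map (sO_internal hd hM hs hw hQs hsw)
        rwa [act_sO_other hd hs hw hQs hsw hni.symm ha, act_smul] at h1⟩)
      (fun e => hx0 (by
        have : x ∈ A := ⟨hx, hfam⟩
        rw [e] at this; exact (Submodule.mem_bot F).1 this)))) hy
    have h1 := h.2 1
    rwa [one_smul] at h1
  have hall : ∀ l, ∀ y ∈ D l, polar Q a y = 0 → Sm M' a y := by
    intro l y hy hay
    rcases eq_or_ne l i with rfl | hli
    · exact Sm_internal hd hM ha hy hQa hay
    rcases eq_or_ne l n with rfl | hln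
    · exact hA y hy
    obtain ⟨γ, hγ, hγK, hγi, hγl⟩ := exists_perm hd hli hni hln
    have hγM : γ ∈ M' := h1 ⟨hγK, NotMax.mem_omegaGL γ hγ⟩
    have h3 := (hA _ (hγl y hy)).map (inv_mem hγM)
    have hγa : act Q γ⁻¹ a = a := by
      have := act_inv' Q γ a
      rwa [hγi a ha] at this
    rwa [act_inv', hγa] at h3
  have hcen : SCen Q M' a := ⟨hQa, fun b hb => by
    have h : ∀ S : Finset (Fin t), Sm M' a (∑ m ∈ S, comp hd m b) := fun S => by
      induction S using Finset.induction_on with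
      | empty => rw [Finset.sum_empty]; exact Sm.zero hQa
      | @insert m S hm ih =>
        rw [Finset.sum_insert hm]
        refine Sm.add (hall m _ (comp_mem hd m b) ?_) ih
        rcases eq_or_ne m i with rfl | hmi
        · rw [← polar_comp hd ha]; exact hb
        · exact hd.orth i m hmi.symm a ha _ (comp_mem hd m b)
    have h3 := h Finset.univ
    rw [sum_comp hd b] at h3
    exact h3.2.2⟩
  obtain ⟨c, hc, hQc, hca⟩ := partner (hd.ndD i) ha ha0 hQa
  have hc0 : c ≠ 0 := fun e => by rw [e, polar_zero_left] at hca; exact zero_ne_one hca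
  obtain ⟨w, hw, hwc, hQw⟩ := aniso_perp hd hc hc0 hQc
  have hcw : polar Q c w = 0 := by rw [polar_comm]; exact hwc
  have hT := sO_internal hd hM hc hw hQc hcw
  refine le_antisymm h2 ?_
  rintro _ ⟨k, hk, rfl⟩
  refine E_le Q hd.nd hn (scen_all Q hd.nd hn hcen (hcen.map Q hT) ?_) hk
  rw [act_sO, polar_sub_right, polar_add_right, polar_smul_right, polar_smul_right, polar_diag, hQa,
    polar_comm (⇑Q) a c, hca]
  simp only [smul_eq_mul, mul_zero, zero_add, one_mul, mul_one]
  intro h
  exact hQw (by linear_combination -h)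

end Cfsg.Agent.Classical.DecompOrth
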