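import Cfsg.Agent.Lib.Classical.DecompOrth

/-!
Orthogonal decompositions: a cross root element from any element moving a member.
-/

set_option autoImplicit false
set_option linter.unusedSectionVars false
set_option maxHeartbeats 1600000

open Module Matrix QuadraticMap

namespace Cfsg.Agent.Classical.DecompOrth

open Refl Siegel MaxLin
open scoped commutatorElement

variable {F : Type*} [Field F] [Fintype F] {ι : Type} [Fintype ι] [DecidableEq ι]
variable {Q : QuadraticForm F (ι → F)} {t : ℕ} {D : Fin t → Submodule F (ι → F)} {M : Subgroup (O Q)}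

local notation "V" => ι → F

/-- The Siegel transformation is in `M`. -/
def Sm (M : Subgroup (O Q)) (u x : V) : Prop := ∃ hu hux, sO Q u x hu hux ∈ M

theorem Sm.add {u x y : V} (h : Sm M u x) (h' : Sm M u y) : Sm M u (x + y) := by
  obtain ⟨hu, hx, hm⟩ := h
  obtain ⟨_, hy, hm'⟩ := h'
  refine ⟨hu, by rw [polar_add_right, hx, hy, add_zero], ?_⟩
  rw [show sO Q u (x + y) hu (by rw [polar_add_right, hx, hy, add_zero]) = sO Q u x hu hx * sO Q u y hu hy from
    O_ext Q fun z => by
      rw [act_mul, act_sO, act_sO, act_sO]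
      simp only [sub_eq_add_neg, ← neg_smul, polar_add_left, polar_smul_left, polar_add_right, polar_diag,
        smul_eq_mul, hu, hx, hy, Q_add, polar_comm (⇑Q) y u, polar_comm (⇑Q) y x]
      module]
  exact mul_mem hm hm'

theorem Sm.neg {u x : V} (h : Sm M u x) : Sm M u (-x) := by
  obtain ⟨hu, hx, hm⟩ := h
  have hx' : polar Q u (-x) = 0 := by rw [polar_neg_right, hx, neg_zero]
  refine ⟨hu, hx', ?_⟩
  rw [show sO Q u (-x) hu hx' = (sO Q u x hu hx)⁻¹ from eq_inv_of_mul_eq_one_left (O_ext Q fun z => by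
    rw [act_mul, act_sO, act_sO, show act Q (1 : O Q) z = z from Matrix.one_mulVec z]
    simp only [sub_eq_add_neg, ← neg_smul, polar_add_left, polar_smul_left, polar_neg_right, QuadraticMap.map_neg,
      polar_diag, smul_eq_mul, hu, hx, polar_comm (⇑Q) x u]
    module)]
  exact inv_mem hm

theorem Sm.sub {u x y : V} (h : Sm M u x) (h' : Sm M u y) : Sm M u (x - y) := by
  rw [sub_eq_add_neg]; exact h.add h'.neg

theorem Sm.map {u x : V} (h : Sm M u x) {g : O Q} (hg : g ∈ M) : Sm M (act Q g u) (act Q g x) := by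
  obtain ⟨hu, hx, hm⟩ := h
  obtain ⟨h1, h2, e⟩ := SubfieldOrth.sO_conj g _ _ hu hx
  exact ⟨h1, h2, e ▸ mul_mem (mul_mem hg hm) (inv_mem hg)⟩

theorem Sm.zero {u : V} (hu : Q u = 0) : Sm M u 0 := by
  refine ⟨hu, polar_zero_right Q _, ?_⟩
  rw [show sO Q u 0 hu (polar_zero_right Q _) = 1 from O_ext Q fun z => by
    rw [act_sO, show act Q (1 : O Q) z = z from Matrix.one_mulVec z]; simp]
  exact one_mem M

/-- A subgroup containing the commutator part of the member-wise stabiliser. -/
def Dat (M : Subgroup (O Q)) (D : Fin t → Submodule F (ι → F)) : Prop :=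
  ∀ g ∈ commutator (O Q), (∀ i, ∀ x ∈ D i, act Q g x ∈ D i) → g ∈ M

/-- No root element joins two members. -/
def NoCross (M : Subgroup (O Q)) (D : Fin t → Submodule F (ι → F)) : Prop :=
  ∀ i n : Fin t, n ≠ i → ∀ a ∈ D i, Q a = 0 → a ≠ 0 → ∀ x ∈ D n, (∀ r : F, Sm M a (r • x)) → x = 0

variable {k : ℕ} (hd : Dec Q D k) (hM : Dat M D)

include hd hM

theorem sO_internal {i : Fin t} {s w : V} (hs : s ∈ D i) (hw : w ∈ D i) (hQs : Q s = 0) (hsw : polar Q s w = 0) :
    sO Q s w hQs hsw ∈ M :=
  hM _ (sO_mem_commutator Q hd.nd hd.big s w hQs hsw) fun _ _ hx => act_sO_member hd hs hw hQs hsw hx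

theorem Sm_internal {i : Fin t} {s w : V} (hs : s ∈ D i) (hw : w ∈ D i) (hQs : Q s = 0) (hsw : polar Q s w = 0) :
    Sm M s w := ⟨hQs, hsw, sO_internal hd hM hs hw hQs hsw⟩

variable (hno : NoCross M D)

include hno

/-- An element mapping a singular member vector into a member maps its orthogonal there too. -/
theorem cross {X : O Q} (hX : X ∈ M) {i m : Fin t} {a b : V} (ha : a ∈ D i) (hQa : Q a = 0) (ha0 : a ≠ 0)
    (hb : b ∈ D i) (hab : polar Q a b = 0) (hXa : act Q X a ∈ D m) : act Q X b ∈ D m := by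
  refine mem_of_comp hd fun n hn => ?_
  by_contra h0
  set a' := act Q X a with ha'
  have ha'0 : a' ≠ 0 := fun e => ha0 (by rw [← act_inv' Q X a, ← ha', e]; exact Matrix.mulVec_zero _)
  have hQa' : Q a' = 0 := by rw [ha', Q_act, hQa]
  have hfam : ∀ r : F, Sm M a' (r • act Q X b) := fun r => by
    have := (Sm_internal hd hM ha ((D i).smul_mem r hb) hQa (by rw [polar_smul_right, hab, smul_zero])).map hX
    rwa [act_smul] at this
  -- a member element moving the component
  obtain ⟨s, hs, hQs, hys⟩ : ∃ s ∈ D n, Q s = 0 ∧ polar Q (comp hd n (act Q X b)) s ≠ 0 := by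
    by_contra hc
    push Not at hc
    refine h0 (hd.ndD n _ (comp_mem hd n _) fun x hx => ?_)
    have : D n ≤ LinearMap.ker (polarBilin Q (comp hd n (act Q X b))) :=
      sing_span hd _ fun s hs hQs => LinearMap.mem_ker.2 (hc s hs hQs)
    rw [polar_comm]
    exact LinearMap.mem_ker.1 (this hx)
  have hs0 : s ≠ 0 := fun e => hys (by rw [e, polar_zero_right])
  obtain ⟨w, hw, hws, hQw⟩ := aniso_perp hd hs hs0 hQs
  have hsw : polar Q s w = 0 := by rw [polar_comm]; exact hws
  set y := act Q X b with hy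
  have hys' : polar Q y s ≠ 0 := by
    rw [polar_comm, polar_comp hd hs, polar_comm]; exact hys
  set d := polar Q y s • w - (polar Q y w + Q w * polar Q y s) • s with hdef
  have hdD : d ∈ D n := (D n).sub_mem ((D n).smul_mem _ hw) ((D n).smul_mem _ hs)
  have hd0 : d ≠ 0 := fun e => by
    have h1 := congrArg (fun z => polar Q z w) e
    simp only [hdef, polar_sub_left, polar_smul_left, polar_diag, hsw, sub_zero, polar_zero_left, mul_zero,
      smul_eq_mul] at h1
    exact mul_ne_zero hys' (mul_ne_zero hd.two hQw) h1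
  refine hd0 (hno m n hn a' hXa hQa' ha'0 d hdD fun r => ?_)
  have h1 := ((hfam r).map (sO_internal hd hM hs hw hQs hsw))
  rw [act_sO_other hd hs hw hQs hsw hn.symm hXa, act_smul, act_sO] at h1
  have := h1.sub (hfam r)
  rwa [← smul_sub, add_sub_assoc, add_sub_cancel_left] at this

/-- A root element fixing a singular member vector moves its orthogonal within the member. -/
theorem fixed {l : Fin t} {u y c : V} (hm : Sm M u y) (hc : c ∈ D l) (hQc : Q c = 0) (hc0 : c ≠ 0)
    (hcu : polar Q c u = 0) (hcy : polar Q c y = 0) {b : V} (hb : b ∈ D l) (hcb : polar Q c b = 0) :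
    polar Q b u • y - (polar Q b y + Q y * polar Q b u) • u ∈ D l := by
  obtain ⟨hu, hy, hmem⟩ := hm
  have hfix : act Q (sO Q u y hu hy) c = c := by rw [act_sO, hcu, hcy]; simp
  have := (D l).sub_mem (cross hd hM hno hmem hc hQc hc0 hb hcb (by rw [hfix]; exact hc)) hb
  rwa [act_sO, add_sub_assoc, add_sub_cancel_left] at this

/-- A root element supported by one member gives a contradiction. -/
theorem vstep {l j : Fin t} {u z : V} (hz : z ∈ D l) (hz0 : z ≠ 0) (hm : ∀ r : F, Sm M u (r • z)) (hjl : j ≠ l)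
    (huj : comp hd j u ≠ 0) (hQz : Q z = 0 ∨ Q z * Q (comp hd j u) = 1) : False := by
  obtain ⟨hu, huz, hmem⟩ := hm 1
  rw [one_smul] at huz
  obtain ⟨c, hc, hQc, hcu⟩ : ∃ c ∈ D j, Q c = 0 ∧ polar Q c u ≠ 0 := by
    by_contra hc
    push Not at hc
    refine huj (hd.ndD j _ (comp_mem hd j u) fun x hx => ?_)
    have : D j ≤ LinearMap.ker ((polarBilin Q).flip u) := sing_span hd _ fun s hs hQs =>
      LinearMap.mem_ker.2 (hc s hs hQs)
    have h1 : polar Q x u = 0 := LinearMap.mem_ker.1 (this hx)
    rwa [polar_comp hd hx] at h1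
  have hc0 : c ≠ 0 := fun e => hcu (by rw [e, polar_zero_left])
  obtain ⟨b, hb, hbc, hQb⟩ := aniso_perp hd hc hc0 hQc
  set uj := comp hd j u with huj'
  set ul := comp hd l u with hul'
  have hcuj : polar Q c u = polar Q c uj := polar_comp hd hc u
  have hbuj : polar Q b u = polar Q b uj := polar_comp hd hb u
  set β := polar Q c u with hβ
  set Y := sO Q u ((1 : F) • z) hu (by rwa [one_smul]) with hY
  have hYx : ∀ x ∈ D j, act Q Y x = x + polar Q x u • z - (Q z * polar Q x u) • u := fun x hx => by
    rw [hY, act_sO, one_smul, hd.orth j l hjl x hx z hz, zero_add]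
  set v := c - (Q z * β) • uj with hv
  have hvD : v ∈ D j := (D j).sub_mem hc ((D j).smul_mem _ (comp_mem hd j u))
  have hQv : Q v = 0 := by
    rw [hv, sub_eq_add_neg, ← neg_smul, Q_add, Q_smul, hQc, polar_smul_right, ← hcuj, smul_eq_mul]
    rcases hQz with h | h
    · rw [h]; ring
    · linear_combination (β ^ 2 * Q z) * h
  have hv0 : v ≠ 0 := fun e => by
    have h1 := congrArg (fun x => polar Q c x) e
    simp only [hv, polar_sub_right, polar_smul_right, polar_diag, hQc, mul_zero, ← hcuj, polar_zero_right,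
      smul_eq_mul, zero_sub, neg_eq_zero] at h1
    have hQz0 : Q z = 0 := by simpa [hcu] using h1
    rw [hv, hQz0, zero_mul, zero_smul, sub_zero] at e
    exact hc0 e
  have hu' : act Q Y c = v + (β • z - (Q z * β) • (u - uj)) := by rw [hYx c hc, hv]; module
  set y' := act Q Y b with hy'
  have hy'v : polar Q v y' = 0 := by
    rw [polar_comp hd hvD, hy', hYx b hb, map_sub, map_add, map_smul, map_smul, comp_self hd hb,
      comp_other hd hz hjl, smul_zero, add_zero, ← huj', hv, sub_eq_add_neg c, ← neg_smul, sub_eq_add_neg b,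
      ← neg_smul, polar_add_left, polar_add_right, polar_add_right, polar_smul_left, polar_smul_left,
      polar_smul_right, polar_smul_right, polar_comm (⇑Q) c b, hbc, ← hcuj, polar_comm (⇑Q) uj b, ← hbuj, polar_diag]
    simp only [smul_eq_mul]
    rcases hQz with h | h
    · rw [h]; ring
    · linear_combination (2 * Q z * β * polar Q b u) * h
  have hm' : Sm M (act Q Y c) y' :=
    (Sm_internal hd hM hc hb hQc (by rw [polar_comm]; exact hbc)).map hmem
  have hvu' : polar Q v (act Q Y c) = 0 := by
    rw [polar_comp hd hvD, hYx c hc, map_sub, map_add, map_smul, map_smul, comp_self hd hc, comp_other hd hz hjl,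
      smul_zero, add_zero, ← huj', ← hβ, ← hv, polar_diag, hQv, mul_zero]
  obtain ⟨b', hb', hvb', hb'y⟩ : ∃ b' ∈ D j, polar Q v b' = 0 ∧ polar Q b' y' ≠ 0 := by
    by_contra hno'
    push Not at hno'
    obtain ⟨p, hp, hQp, hpv⟩ := partner (hd.ndD j) hvD hv0 hQv
    -- the component would be a multiple of `v`
    set yj := comp hd j y' with hyj
    have he : yj = polar Q p yj • v := sub_eq_zero.1 ((hd.ndD j) _
      ((D j).sub_mem (comp_mem hd j y') ((D j).smul_mem _ hvD)) fun x hx => by
        have h1 := hno' (x - polar Q x v • p) ((D j).sub_mem hx ((D j).smul_mem _ hp)) (by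
          rw [polar_sub_right, polar_smul_right, polar_comm (⇑Q) v x, polar_comm (⇑Q) v p, hpv]; simp)
        rw [polar_sub_left, polar_smul_left, polar_comp hd hx, polar_comp hd hp, ← hyj, smul_eq_mul] at h1
        rw [polar_sub_right, polar_smul_right, smul_eq_mul]
        linear_combination h1)
    rw [hyj, hy', hYx b hb, map_sub, map_add, map_smul, map_smul, comp_self hd hb, comp_other hd hz hjl,
      smul_zero, add_zero, ← huj'] at he
    generalize polar Q p _ = lam at he
    have h2 : b = lam • c + (Q z * polar Q b u - lam * (Q z * β)) • uj := by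
      rw [hv] at he
      linear_combination (norm := module) he
    have h3 := congrArg (fun x => polar Q c x) h2
    simp only [polar_add_right, polar_smul_right, polar_diag, hQc, mul_zero, ← hcuj, smul_eq_mul, mul_zero,
      zero_add, polar_comm (⇑Q) c b, hbc] at h3
    have h4 : Q z * polar Q b u - lam * (Q z * β) = 0 := (mul_eq_zero.1 h3.symm).resolve_right hcu
    rw [h4, zero_smul, add_zero] at h2
    rw [h2, Q_smul, hQc, mul_zero] at hQb
    exact hQb rfl
  have hin := fixed hd hM hno hm' hvD hQv hv0 hvu' hy'v hb' hvb'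
  have hb'u : polar Q b' (act Q Y c) = 0 := by
    rw [polar_comp hd hb', hYx c hc, map_sub, map_add, map_smul, map_smul, comp_self hd hc, comp_other hd hz hjl,
      smul_zero, add_zero, ← huj', ← hβ, ← hv, polar_comm]
    exact hvb'
  rw [hb'u, zero_smul, mul_zero, add_zero, zero_sub, ← neg_smul] at hin
  have h5 := comp_other hd hin hjl.symm
  rw [map_smul, hYx c hc, map_sub, map_add, map_smul, map_smul, comp_other hd hc hjl.symm, comp_self hd hz, zero_add,
    ← hul'] at h5
  have h6 : β • z - (Q z * β) • ul = 0 := (smul_eq_zero.1 h5).resolve_left (neg_ne_zero.2 hb'y)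
  rw [mul_comm (Q z) β, mul_smul, ← smul_sub, smul_eq_zero, or_iff_right hcu, sub_eq_zero] at h6
  have h7 : polar Q z u = 2 * Q z * Q ul := by
    rw [polar_comp hd hz, ← hul']
    conv_lhs => rw [h6, polar_smul_left, polar_diag, smul_eq_mul]
    ring
  rw [polar_comm, huz] at h7
  rcases mul_eq_zero.1 h7.symm with h | h
  · have hQz0 := (mul_eq_zero.1 h).resolve_left hd.two
    exact hz0 (by rw [h6, hQz0, zero_smul])
  · have hQz0 : Q z = 0 := by rw [h6, Q_smul, h, mul_zero]
    exact hz0 (by rw [h6, hQz0, zero_smul])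

omit hno in
/-- An anisotropic vector giving a rotation of order above two. -/
theorem exists_rot {l : Fin t} {P : Submodule F (ι → F)} (hP : Nd Q P) (hPd : k ≤ finrank F P + 1) {a : V}
    (ha : a ∈ P) (hQa : Q a ≠ 0) : ∃ w ∈ P, Q w ≠ 0 ∧ polar Q a w ≠ 0 ∧ ∀ r : F, w ≠ r • a := by
  have hn := nd_perp hd.two hP ha hQa
  have h1 := finrank_perp_le (Q := Q) P a
  obtain ⟨e, he, hQe⟩ := aniso_of_nd hn (fun e => by rw [e, finrank_bot] at h1; have := hd.three; omega)
  have fin : ∀ e ∈ P ⊓ LinearMap.ker (polarBilin Q a), Q e ≠ 0 → ∀ s : F, s ≠ 0 → Q a + s ^ 2 * Q e ≠ 0 →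
      ∃ w ∈ P, Q w ≠ 0 ∧ polar Q a w ≠ 0 ∧ ∀ r : F, w ≠ r • a := by
    intro e he hQe s hs hsum
    have hae : polar Q a e = 0 := he.2
    refine ⟨a + s • e, P.add_mem ha (P.smul_mem _ he.1), ?_, ?_, fun r hr => ?_⟩
    · rw [Q_add, Q_smul, polar_smul_right, hae, smul_zero, add_zero]; exact hsum
    · rw [polar_add_right, polar_smul_right, hae, smul_zero, add_zero, polar_diag]
      exact mul_ne_zero hd.two hQa
    · have h2 := congrArg (fun x => polar Q x e) hr
      simp only [polar_add_left, polar_smul_left, hae, polar_diag, mul_zero, zero_add, smul_eq_mul] at h2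
      exact mul_ne_zero hs (mul_ne_zero hd.two hQe) h2
  rcases hd.qk with hq | hk
  · -- some scalar avoids the two roots
    classical
    obtain ⟨s, hs, hsum⟩ : ∃ s : F, s ≠ 0 ∧ Q a + s ^ 2 * Q e ≠ 0 := by
      by_contra hc
      push Not at hc
      have hsub : (Finset.univ : Finset F).erase 0 ⊆ (Polynomial.C (Q a) + Polynomial.C (Q e) * Polynomial.X ^ 2 :
          Polynomial F).roots.toFinset := fun s hs => by
        rw [Multiset.mem_toFinset, Polynomial.mem_roots (fun e0 => hQe (by
          have := congrArg (fun p : Polynomial F => p.coeff 2) e0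
          simpa [Polynomial.coeff_C] using this))]
        simp only [Polynomial.IsRoot, Polynomial.eval_add, Polynomial.eval_C, Polynomial.eval_mul,
          Polynomial.eval_pow, Polynomial.eval_X]
        linear_combination hc s (Finset.mem_erase.1 hs).1
      have h2 := (Finset.card_le_card hsub).trans ((Multiset.toFinset_card_le _).trans (Polynomial.card_roots' _))
      rw [Finset.card_erase_of_mem (Finset.mem_univ _), Finset.card_univ] at h2
      have h3 : (Polynomial.C (Q a) + Polynomial.C (Q e) * Polynomial.X ^ 2 : Polynomial F).natDegree ≤ 2 := by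
        compute_degree
      omega
    exact fin e he hQe s hs hsum
  · -- a vector of the same value
    have hn2 := nd_perp hd.two hn he hQe
    have h2 := finrank_perp_le (Q := Q) (P ⊓ LinearMap.ker (polarBilin Q a)) e
    obtain ⟨f, hf, hQf⟩ := aniso_of_nd hn2 (fun e0 => by rw [e0, finrank_bot] at h2; omega)
    obtain ⟨x, y, hxy⟩ := plane_value hd.two hQe hQf hf.2 (Q a)
    exact fin _ ((P ⊓ LinearMap.ker (polarBilin Q a)).add_mem (Submodule.smul_mem _ x he) (Submodule.smul_mem _ y hf.1))
      (by rw [hxy]; exact hQa) 1 one_ne_zero (by rw [hxy, one_pow, one_mul, ← two_mul]; exact mul_ne_zero hd.two hQa)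

omit hno in
theorem exists_value' {j : Fin t} {P : Submodule F (ι → F)} (hP : Nd Q P) (hPd : 2 ≤ finrank F P) {c : F}
    (hc : c ≠ 0) : ∃ v ∈ P, Q v = c := by
  refine OmegaTrans.exists_value Q hd.nd ?_ hPd hc
  rw [eq_bot_iff]
  exact fun x hx => (Submodule.mem_bot F).2 (hP x hx.1 fun y hy => hx.2 y hy)

end Cfsg.Agent.Classical.DecompOrth
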