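import Cfsg.Agent.Lib.Classical.DecompOrthCross

/-!
Orthogonal decompositions: an element moving a member gives a cross root element.
-/

set_option autoImplicit false
set_option linter.unusedSectionVars false
set_option maxHeartbeats 1600000

open Module Matrix QuadraticMap

namespace Cfsg.Agent.Classical.DecompOrth

open Refl Siegel MaxLin
open scoped commutatorElement

variable {F : Type*} [Field F] [Fintype F] {ι : Type} [Fintype ι] [DecidableEq ι]
variable {Q : QuadraticForm F (ι → F)} {t : ℕ} {D : Fin t → Submodule F (ι → F)} {M : Subgroup (O Q)} {k : ℕ}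

local notation "V" => ι → F

variable (hd : Dec Q D k)

include hd

theorem act_refl_member {l : Fin t} {a : V} (ha : a ∈ D l) (hQa : Q a ≠ 0) {i : Fin t} {x : V} (hx : x ∈ D i) :
    act Q (refl Q a hQa) x ∈ D i := by
  rw [act_refl]
  rcases eq_or_ne l i with rfl | h
  · exact (D l).sub_mem hx ((D l).smul_mem _ ha)
  · rw [hd.orth l i h a ha x hx, mul_zero, zero_smul, sub_zero]; exact hx

omit hd in
theorem refl_fix {a x : V} (hQa : Q a ≠ 0) (h : polar Q a x = 0) : act Q (refl Q a hQa) x = x := by
  rw [act_refl, h, mul_zero, zero_smul, sub_zero]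

theorem refl_other {l i : Fin t} {a x : V} (ha : a ∈ D l) (hQa : Q a ≠ 0) (hi : i ≠ l) (hx : x ∈ D i) :
    act Q (refl Q a hQa) x = x :=
  refl_fix hQa (hd.orth l i hi.symm a ha x hx)

theorem perp_member (u : V) {l : Fin t} (hul : Q (comp hd l u) ≠ 0) :
    Nd Q (D l ⊓ LinearMap.ker (polarBilin Q (comp hd l u))) ∧
      k ≤ finrank F (D l ⊓ LinearMap.ker (polarBilin Q (comp hd l u)) : Submodule F (ι → F)) + 1 := by
  refine ⟨nd_perp hd.two (hd.ndD l) (comp_mem hd l u) hul, ?_⟩
  have := finrank_perp_le (Q := Q) (D l) (comp hd l u)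
  rwa [hd.rank] at this

theorem perp_orth (u : V) {l : Fin t} {x : V} (hx : x ∈ D l ⊓ LinearMap.ker (polarBilin Q (comp hd l u))) :
    polar Q x u = 0 := by
  rw [polar_comp hd hx.1, polar_comm]; exact hx.2

variable (hM : Dat M D) (hno : NoCross M D)

include hM hno

/-- An anisotropic component with a free part. -/
theorem rotation {u y : V} {l j : Fin t} (hfam : ∀ r : F, Sm M u (r • y)) (hjl : j ≠ l)
    (hul : Q (comp hd l u) ≠ 0) (huj : Q (comp hd j u) ≠ 0)
    (hy : ∀ d : F, comp hd l y ≠ d • comp hd l u) : False := by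
  classical
  set ul := comp hd l u with hul'
  set uj := comp hd j u with huj'
  set P := D l ⊓ LinearMap.ker (polarBilin Q ul) with hP'
  obtain ⟨hP, hPd⟩ := perp_member hd u hul
  set Pj := D j ⊓ LinearMap.ker (polarBilin Q uj) with hPj'
  obtain ⟨hPj, hPjd⟩ := perp_member hd u huj
  have hk := hd.three
  have huQ : Q u = 0 := (hfam 0).1
  -- the projection
  set δ := polar Q ul (comp hd l y) / (2 * Q ul) with hδ
  set yP := comp hd l y - δ • ul with hyP
  have hyPP : yP ∈ P := ⟨(D l).sub_mem (comp_mem hd l y) ((D l).smul_mem _ (comp_mem hd l u)), by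
    show polar Q ul yP = 0
    rw [hyP, polar_sub_right, polar_smul_right, polar_diag, smul_eq_mul, hδ,
      div_mul_cancel₀ _ (mul_ne_zero hd.two hul), sub_self]⟩
  have hyP0 : yP ≠ 0 := sub_ne_zero.2 (hy δ)
  obtain ⟨a, ha, hQa, hay⟩ := aniso_nonorth hd.two hP hyPP hyP0
  obtain ⟨w, hw, hQw, haw, hne⟩ := exists_rot hd hM (l := l) hP hPd ha hQa
  have hay' : polar Q a y ≠ 0 := by
    rw [polar_comp hd ha.1]
    rwa [hyP, polar_sub_right, polar_smul_right, polar_comm (⇑Q) a ul, show polar Q ul a = 0 from ha.2, smul_zero,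
      sub_zero] at hay
  -- members of `M` fixing the centre
  let Z : Submodule F (ι → F) :=
    { carrier := {z | z ∈ P ∧ ∀ r : F, Sm M u (r • z)}
      zero_mem' := ⟨P.zero_mem, fun r => by rw [smul_zero]; exact Sm.zero huQ⟩
      add_mem' := fun {x y} hx hy => ⟨P.add_mem hx.1 hy.1, fun r => by rw [smul_add]; exact (hx.2 r).add (hy.2 r)⟩
      smul_mem' := fun c x hx => ⟨P.smul_mem _ hx.1, fun r => by rw [smul_smul]; exact hx.2 _⟩ }
  have pair : ∀ (a w : V) (ha : a ∈ P) (hw : w ∈ P) (hQa : Q a ≠ 0) (hQw : Q w ≠ 0),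
      ∃ h ∈ M, act Q h u = u ∧ ∀ x ∈ D l, act Q h x = act Q (refl Q a hQa) (act Q (refl Q w hQw) x) := by
    intro a w ha hw hQa hQw
    obtain ⟨e, he, hQe⟩ := exists_value' hd hM (j := j) hPj (by omega) hQa
    obtain ⟨f, hf, hQf⟩ := exists_value' hd hM (j := j) hPj (by omega) hQw
    refine ⟨refl Q a hQa * refl Q e (hQe ▸ hQa) * (refl Q w hQw * refl Q f (hQf ▸ hQw)), hM _
      (mul_mem (refl_pair_mem_commutator Q hd.nd hQa hQe) (refl_pair_mem_commutator Q hd.nd hQw hQf))
      (fun i x hx => ?_), ?_, fun x hx => ?_⟩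
    · rw [act_mul, act_mul, act_mul]
      exact act_refl_member hd ha.1 hQa (act_refl_member hd he.1 _ (act_refl_member hd hw.1 hQw
        (act_refl_member hd hf.1 _ hx)))
    · rw [act_mul, act_mul, act_mul, refl_fix _ (perp_orth hd u hf), refl_fix _ (perp_orth hd u hw),
        refl_fix _ (perp_orth hd u he), refl_fix _ (perp_orth hd u ha)]
    · rw [act_mul, act_mul, act_mul, refl_other hd hf.1 _ hjl.symm hx,
        refl_other hd he.1 _ hjl.symm (act_refl_member hd hw.1 hQw hx)]
  -- a first element from a commutator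
  set h₀ := ⁅refl Q a hQa, refl Q w hQw⁆ with hh₀
  have h₀x : ∀ x : V, act Q h₀ x =
      act Q (refl Q a hQa) (act Q (refl Q w hQw) (act Q (refl Q a hQa) (act Q (refl Q w hQw) x))) := fun x => by
    rw [hh₀, commutatorElement_def, refl_inv, refl_inv, act_mul, act_mul, act_mul]
  have h₀M : h₀ ∈ M := hM _ (Subgroup.commutator_mem_commutator (Subgroup.mem_top _) (Subgroup.mem_top _))
    fun i x hx => by
      rw [h₀x]
      exact act_refl_member hd ha.1 _ (act_refl_member hd hw.1 _ (act_refl_member hd ha.1 _
        (act_refl_member hd hw.1 _ hx)))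
  have h₀u : act Q h₀ u = u := by
    rw [h₀x, refl_fix _ (perp_orth hd u hw), refl_fix _ (perp_orth hd u ha), refl_fix _ (perp_orth hd u hw),
      refl_fix _ (perp_orth hd u ha)]
  have h₀sub : ∀ x : V, act Q h₀ x - x ∈ P := fun x => by
    have step : ∀ (b : V) (hb : b ∈ P) (hQb : Q b ≠ 0) (z : V), z - x ∈ P → act Q (refl Q b hQb) z - x ∈ P := by
      intro b hb hQb z hz
      rw [act_refl, sub_right_comm]
      exact P.sub_mem hz (P.smul_mem _ hb)
    rw [h₀x]
    exact step _ ha _ _ (step _ hw _ _ (step _ ha _ _ (step _ hw _ _ (by rw [sub_self]; exact P.zero_mem))))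
  set z := act Q h₀ y - y with hz
  have hzZ : z ∈ Z := ⟨h₀sub y, fun r => by
    have h1 := (hfam r).map h₀M
    rw [h₀u, act_smul] at h1
    rw [hz, smul_sub]
    exact h1.sub (hfam r)⟩
  have hz0 : z ≠ 0 := fun e => by
    have h1 : act Q h₀ y = y := sub_eq_zero.1 e
    have h2 : act Q (refl Q a hQa) (act Q (refl Q w hQw) y) = act Q (refl Q w hQw) (act Q (refl Q a hQa) y) := by
      have inv : ∀ (b : V) (hb : Q b ≠ 0) (x : V), act Q (refl Q b hb) (act Q (refl Q b hb) x) = x := fun b hb x => by
        have := act_inv' Q (refl Q b hb) x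
        rwa [refl_inv] at this
      conv_rhs => rw [← h1, h₀x, inv, inv]
    rw [act_refl, act_refl, act_refl, act_refl, polar_sub_right, polar_sub_right, polar_smul_right, polar_smul_right,
      polar_comm (⇑Q) w a] at h2
    simp only [smul_eq_mul] at h2
    have h3 : (polar Q a w * ((Q a)⁻¹ * (Q w)⁻¹)) • (polar Q w y • a - polar Q a y • w) = 0 := by
      linear_combination (norm := module) h2
    rw [smul_eq_zero, or_iff_right (mul_ne_zero haw (mul_ne_zero (inv_ne_zero hQa) (inv_ne_zero hQw))), sub_eq_zero]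
      at h3
    exact hne ((polar Q a y)⁻¹ * polar Q w y) (by rw [mul_smul, h3, inv_smul_smul₀ hay'])
  have huj0 : uj ≠ 0 := fun e => huj (by rw [e, QuadraticMap.map_zero])
  have fin : ∀ x ∈ Z, x ≠ 0 → Q x = 0 ∨ Q x * Q uj = 1 → False := fun x hx hx0 hQx =>
    vstep hd hM hno hx.1.1 hx0 hx.2 hjl huj0 hQx
  by_cases hQz : Q z = 0
  · exact fin z hzZ hz0 (Or.inl hQz)
  obtain ⟨v, hv, hQv, hzv, hvne⟩ := exists_rot hd hM (l := l) hP hPd hzZ.1 hQz
  obtain ⟨h, hh, hhu, hhx⟩ := pair z v hzZ.1 hv hQz hQv
  have hz' : act Q h z ∈ Z := ⟨by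
    rw [hhx z hzZ.1.1, act_refl, act_refl]
    exact P.sub_mem (P.sub_mem hzZ.1 (P.smul_mem _ hv)) (P.smul_mem _ hzZ.1), fun r => by
    have h1 := (hzZ.2 r).map hh
    rwa [hhu, act_smul] at h1⟩
  obtain ⟨A, B, hB, hAB⟩ : ∃ A B : F, B ≠ 0 ∧ act Q h z = A • z + B • v := by
    refine ⟨1 - (Q z)⁻¹ * polar Q z (z - ((Q v)⁻¹ * polar Q v z) • v), -((Q v)⁻¹ * polar Q v z), neg_ne_zero.2 (mul_ne_zero (inv_ne_zero hQv) (by rwa [polar_comm])), ?_⟩
    rw [hhx z hzZ.1.1, act_refl, act_refl]
    module
  have hvZ : v ∈ Z := by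
    have h1 := Z.smul_mem B⁻¹ (Z.sub_mem hz' (Z.smul_mem A hzZ))
    rwa [hAB, add_sub_cancel_left, inv_smul_smul₀ hB] at h1
  set c := polar Q z v / (2 * Q z) with hc
  set e := v - c • z with he
  have heZ : e ∈ Z := Z.sub_mem hvZ (Z.smul_mem _ hzZ)
  have he0 : e ≠ 0 := sub_ne_zero.2 (hvne c)
  by_cases hQe : Q e = 0
  · exact fin e heZ he0 (Or.inl hQe)
  have hze : polar Q z e = 0 := by
    rw [he, polar_sub_right, polar_smul_right, polar_diag, smul_eq_mul, hc,
      div_mul_cancel₀ _ (mul_ne_zero hd.two hQz), sub_self]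
  obtain ⟨p, q, hpq⟩ := plane_value hd.two hQz hQe hze (Q uj)⁻¹
  refine fin (p • z + q • e) (Z.add_mem (Z.smul_mem _ hzZ) (Z.smul_mem _ heZ)) (fun e0 => ?_)
    (Or.inr (by rw [hpq, inv_mul_cancel₀ huj]))
  rw [e0, QuadraticMap.map_zero] at hpq
  exact inv_ne_zero huj hpq.symm

/-- An image of a singular member vector lies in a member. -/
theorem image_member : ∀ (N : ℕ) (X : O Q), X ∈ M → ∀ (i : Fin t) (a : V), a ∈ D i → Q a = 0 → a ≠ 0 →
    {m | comp hd m (act Q X a) ≠ 0}.ncard = N → ∃ m, act Q X a ∈ D m := by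
  classical
  intro N
  induction N using Nat.strong_induction_on with
  | _ N ih =>
    intro X hX i a ha hQa ha0 hN
    by_contra hno'
    push Not at hno'
    set u := act Q X a with hu
    obtain ⟨b, hb, hba, hQb⟩ := aniso_perp hd ha ha0 hQa
    set y := act Q X b with hy
    have hfam : ∀ r : F, Sm M u (r • y) := fun r => by
      have := (Sm_internal hd hM ha ((D i).smul_mem r hb) hQa
        (by rw [polar_smul_right, polar_comm, hba, smul_zero])).map hX
      rwa [act_smul] at this
    have hQy : Q y ≠ 0 := by rw [hy, Q_act]; exact hQb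
    have hQu : Q u = 0 := by rw [hu, Q_act, hQa]
    have huy : polar Q u y = 0 := by rw [hu, hy, polar_act, polar_comm, hba]
    have other : ∀ j : Fin t, ∃ m, m ≠ j ∧ comp hd m u ≠ 0 := fun j => by
      by_contra hc
      push Not at hc
      exact hno' j (mem_of_comp hd hc)
    -- singular components
    have hsing : ∀ l, comp hd l u ≠ 0 → Q (comp hd l u) = 0 → ∃ d : F, comp hd l y = d • comp hd l u := by
      intro l hl0 hlQ
      set c := comp hd l u with hc
      have hcD : c ∈ D l := comp_mem hd l u
      have hcu : polar Q c u = 0 := by rw [polar_comp hd hcD, ← hc, polar_diag, hlQ, mul_zero]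
      by_cases hβ : polar Q c y = 0
      · obtain ⟨m, hml, hm0⟩ := other l
        have hperp : ∀ b' ∈ D l, polar Q c b' = 0 → polar Q b' y = 0 := fun b' hb' hcb' => by
          have h1 := hfam 1
          rw [one_smul] at h1
          have hin := fixed hd hM hno h1 hcD hlQ hl0 hcu hβ hb' hcb'
          rw [show polar Q b' u = 0 by rw [polar_comp hd hb', ← hc, polar_comm, hcb'], zero_smul, mul_zero, add_zero,
            zero_sub, ← neg_smul] at hin
          have h5 := comp_other hd hin hml
          rw [map_smul, smul_eq_zero, or_iff_left hm0, neg_eq_zero] at h5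
          exact h5
        obtain ⟨p, hp, hQp, hpc⟩ := partner (hd.ndD l) hcD hl0 hlQ
        refine ⟨polar Q p y, sub_eq_zero.1 ((hd.ndD l) _
          ((D l).sub_mem (comp_mem hd l y) ((D l).smul_mem _ hcD)) fun x hx => ?_)⟩
        have h1 := hperp (x - polar Q x c • p) ((D l).sub_mem hx ((D l).smul_mem _ hp)) (by
          rw [polar_sub_right, polar_smul_right, polar_comm (⇑Q) c x, polar_comm (⇑Q) c p, hpc]; simp)
        rw [polar_sub_left, polar_smul_left, polar_comp hd hx, smul_eq_mul] at h1
        rw [polar_sub_right, polar_smul_right, smul_eq_mul]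
        linear_combination h1
      · exfalso
        obtain ⟨hu1, hu2, hmem⟩ := hfam (polar Q c y)⁻¹
        set Y := sO Q u ((polar Q c y)⁻¹ • y) hu1 hu2 with hY
        have hYc : act Q Y c = c - u := by
          rw [hY, act_sO, hcu, polar_smul_right, smul_eq_mul, inv_mul_cancel₀ hβ]; simp
        by_cases hsup : ∃ m, c - u ∈ D m
        · obtain ⟨m, hm⟩ := hsup
          obtain ⟨b', hb', hb'c, hQb'⟩ := aniso_perp hd hcD hl0 hlQ
          have h1 := cross hd hM hno hmem hcD hlQ hl0 hb' (by rw [polar_comm]; exact hb'c) (by rw [hYc]; exact hm)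
          have hml : m ≠ l := fun e => by
            obtain ⟨m', hm', hm'0⟩ := other l
            have h2 := comp_other hd (e ▸ hm) hm'
            rw [map_sub, comp_other hd hcD hm', zero_sub, neg_eq_zero] at h2
            exact hm'0 h2
          have h2 := comp_other hd h1 hml.symm
          rw [hY, act_sO, show polar Q b' u = 0 by rw [polar_comp hd hb', ← hc, hb'c], zero_smul, add_zero, mul_zero,
            add_zero, map_sub, map_smul, comp_self hd hb', ← hc, sub_eq_zero] at h2
          rw [h2, Q_smul, hlQ, mul_zero] at hQb'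
          exact hQb' rfl
        · have hlt : {m | comp hd m (act Q Y c) ≠ 0}.ncard < N := by
            rw [← hN]
            refine Set.ncard_lt_ncard ⟨fun m hm => ?_, fun hsub => ?_⟩ (Set.toFinite _)
            · intro h0
              apply hm
              rw [hYc, map_sub, h0, sub_zero]
              by_contra hne
              exact hl0 (by
                rcases eq_or_ne m l with rfl | hml
                · exact h0
                · exact absurd (comp_other hd hcD hml) hne)
            · refine hsub (show comp hd l u ≠ 0 from hl0) ?_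
              rw [hYc, map_sub, comp_self hd hcD, ← hc, sub_self]
          exact hsup (by rw [← hYc]; exact ih _ hlt Y hmem l c hcD hlQ hl0 rfl)
    -- anisotropic components
    have hani : ∀ l, Q (comp hd l u) ≠ 0 → ∃ d : F, comp hd l y = d • comp hd l u := by
      intro l hlQ
      by_contra hc
      push Not at hc
      obtain ⟨j, hjl, hjQ⟩ : ∃ j, j ≠ l ∧ Q (comp hd j u) ≠ 0 := by
        by_contra hall
        push Not at hall
        apply hlQ
        have h1 : polar Q u u = ∑ m, polar Q (comp hd m u) (comp hd m u) := by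
          conv_lhs => arg 2; rw [← sum_comp hd u]
          show (polarBilin Q) (∑ m, comp hd m u) u = _
          rw [map_sum, LinearMap.sum_apply]
          exact Finset.sum_congr rfl fun m _ => polar_comp hd (comp_mem hd m u) u
        rw [Finset.sum_eq_single l (fun m _ hm => by rw [polar_diag, hall m hm, mul_zero]) (by simp), polar_diag,
          polar_diag, hQu, mul_zero] at h1
        exact (mul_eq_zero.1 h1.symm).resolve_left hd.two
      exact rotation hd hM hno hfam hjl hlQ hjQ hc
    -- zero components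
    have hzero : ∀ l, comp hd l u = 0 → comp hd l y = 0 := by
      intro l hl0
      by_contra hy0
      obtain ⟨j, hjl, hj0⟩ := other l
      let Z : Submodule F (ι → F) :=
        { carrier := {z | z ∈ D l ∧ ∀ r : F, Sm M u (r • z)}
          zero_mem' := ⟨(D l).zero_mem, fun r => by rw [smul_zero]; exact Sm.zero hQu⟩
          add_mem' := fun {x y} hx hy => ⟨(D l).add_mem hx.1 hy.1, fun r => by
            rw [smul_add]; exact (hx.2 r).add (hy.2 r)⟩
          smul_mem' := fun c x hx => ⟨(D l).smul_mem _ hx.1, fun r => by rw [smul_smul]; exact hx.2 _⟩ }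
      have hfixu : ∀ s w, s ∈ D l → w ∈ D l → ∀ (hs : Q s = 0) (hsw : polar Q s w = 0),
          act Q (sO Q s w hs hsw) u = u := fun s w hs hw hQs hsw => by
        rw [act_sO, show polar Q u s = 0 by rw [polar_comm, polar_comp hd hs, hl0, polar_zero_right],
          show polar Q u w = 0 by rw [polar_comm, polar_comp hd hw, hl0, polar_zero_right]]
        simp
      obtain ⟨s, hs, hQs, hys⟩ : ∃ s ∈ D l, Q s = 0 ∧ polar Q y s ≠ 0 := by
        by_contra hc
        push Not at hc
        refine hy0 (hd.ndD l _ (comp_mem hd l _) fun x hx => ?_)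
        have h1 : polar Q y x = 0 :=
          LinearMap.mem_ker.1 ((sing_span hd (LinearMap.ker (polarBilin Q y)) fun s hs hQs =>
            LinearMap.mem_ker.2 (hc s hs hQs)) hx)
        rw [← polar_comp hd hx, polar_comm]; exact h1
      have hs0 : s ≠ 0 := fun e => hys (by rw [e, polar_zero_right])
      obtain ⟨w, hw, hws, hQw⟩ := aniso_perp hd hs hs0 hQs
      have hsw : polar Q s w = 0 := by rw [polar_comm]; exact hws
      set d := polar Q y s • w - (polar Q y w + Q w * polar Q y s) • s with hdef
      have hd0 : d ≠ 0 := fun e => by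
        have h1 := congrArg (fun z => polar Q z w) e
        simp only [hdef, polar_sub_left, polar_smul_left, polar_diag, hsw, sub_zero, polar_zero_left, mul_zero,
          smul_eq_mul] at h1
        exact mul_ne_zero hys (mul_ne_zero hd.two hQw) h1
      have hdZ : d ∈ Z := ⟨(D l).sub_mem ((D l).smul_mem _ hw) ((D l).smul_mem _ hs), fun r => by
        have h1 := (hfam r).map (sO_internal hd hM hs hw hQs hsw)
        rw [hfixu s w hs hw hQs hsw, act_smul, act_sO] at h1
        have := h1.sub (hfam r)
        rwa [← smul_sub, add_sub_assoc, add_sub_cancel_left] at this⟩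
      have hsing' := sing_mem hd Z (fun z hz => hz.1) (fun s w hs hw hQs hsw x hx =>
        ⟨act_sO_member hd hs hw hQs hsw hx.1, fun r => by
          have h1 := (hx.2 r).map (sO_internal hd hM hs hw hQs hsw)
          rwa [hfixu s w hs hw hQs hsw, act_smul] at h1⟩)
        (fun e => hd0 (by rw [e] at hdZ; exact (Submodule.mem_bot F).1 hdZ)) s hs hQs
      exact vstep hd hM hno hs hs0 hsing'.2 hjl hj0 (Or.inl hQs)
    have hall : ∀ l, ∃ d : F, comp hd l y = d • comp hd l u := fun l => by
      rcases eq_or_ne (comp hd l u) 0 with h | h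
      · exact ⟨0, by rw [hzero l h, zero_smul]⟩
      · by_cases hq : Q (comp hd l u) = 0
        · exact hsing l h hq
        · exact hani l hq
    choose lam hlam using hall
    obtain ⟨j, -, hj0⟩ := other i
    obtain ⟨m, hm0, hmj⟩ : ∃ m, comp hd m u ≠ 0 ∧ lam m ≠ lam j := by
      by_contra hc
      push Not at hc
      refine hQy ?_
      have : y = lam j • u := by
        rw [← sum_comp hd y, ← sum_comp hd u, Finset.smul_sum]
        refine Finset.sum_congr rfl fun l _ => ?_
        rcases eq_or_ne (comp hd l u) 0 with h | h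
        · rw [hlam, h, smul_zero, smul_zero]
        · rw [hlam, hc l h]
      rw [this, Q_smul, hQu, mul_zero]
    obtain ⟨c, hc, hQc, hcu⟩ : ∃ c ∈ D j, Q c = 0 ∧ polar Q c u ≠ 0 := by
      by_contra hc
      push Not at hc
      refine hj0 (hd.ndD j _ (comp_mem hd j u) fun x hx => ?_)
      have h1 : polar Q x u = 0 := LinearMap.mem_ker.1 ((sing_span hd (LinearMap.ker ((polarBilin Q).flip u))
        fun s hs hQs => LinearMap.mem_ker.2 (hc s hs hQs)) hx)
      rwa [polar_comp hd hx] at h1
    have hc0 : c ≠ 0 := fun e => hcu (by rw [e, polar_zero_left])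
    have hcy : polar Q c y = lam j * polar Q c u := by
      rw [polar_comp hd hc, hlam, polar_smul_right, ← polar_comp hd hc, smul_eq_mul]
    set s := (lam m - lam j) / Q y with hs
    have hs0 : s ≠ 0 := div_ne_zero (sub_ne_zero.2 hmj) hQy
    obtain ⟨hu1, hu2, hmem⟩ := hfam s
    set Y := sO Q u (s • y) hu1 hu2 with hY
    have hcomp : ∀ n, comp hd n (act Q Y c) =
        comp hd n c + (s * polar Q c u * (lam n - lam m)) • comp hd n u := fun n => by
      rw [hY, act_sO, map_sub, map_add, map_smul, map_smul, map_smul, hlam, polar_smul_right, hcy, Q_smul,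
        smul_eq_mul]
      have : s * Q y = lam m - lam j := div_mul_cancel₀ _ hQy
      match_scalars
      · ring
      · linear_combination (-(s * polar Q c u)) * this
    have hj1 : comp hd j (act Q Y c) ≠ 0 := fun e => by
      rw [hcomp, comp_self hd hc, add_eq_zero_iff_eq_neg, ← neg_smul] at e
      generalize -(s * polar Q c u * (lam j - lam m)) = ρ at e
      have h1 : ρ ^ 2 * Q (comp hd j u) = 0 := by rw [← Q_smul, ← e, hQc]
      apply hcu
      rw [polar_comp hd hc, e, polar_smul_left, polar_diag, smul_eq_mul]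
      rcases mul_eq_zero.1 h1 with h | h
      · rw [eq_zero_of_pow_eq_zero h, zero_mul]
      · rw [h, mul_zero, mul_zero]
    by_cases hmem' : ∃ n, act Q Y c ∈ D n
    · obtain ⟨n, hn⟩ := hmem'
      have hnj : n = j := by
        by_contra hne
        exact hj1 (comp_other hd hn (Ne.symm hne))
      have hothers : ∀ l, l ≠ j → comp hd l y = lam m • comp hd l u := fun l hl => by
        rcases eq_or_ne (comp hd l u) 0 with h | h
        · rw [hlam, h, smul_zero, smul_zero]
        · have h1 := comp_other hd (hnj ▸ hn) hl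
          rw [hcomp, comp_other hd hc hl, zero_add, smul_eq_zero, or_iff_left h] at h1
          rw [hlam, sub_eq_zero.1 ((mul_eq_zero.1 h1).resolve_left (mul_ne_zero hs0 hcu))]
      have hdecomp : y - lam m • u = (lam j - lam m) • comp hd j u := by
        rw [← comp_self hd (x := y - lam m • u) (i := j) (mem_of_comp hd fun l hl => by
          rw [map_sub, map_smul, hothers l hl, sub_self]), map_sub, map_smul, hlam, sub_smul]
      have h2 : (lam j - lam m) * (2 * Q (comp hd j u)) = 0 := by
        have h3 := congrArg (fun x => polar Q u x) hdecomp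
        simp only [polar_sub_right, polar_smul_right, huy, polar_diag, hQu, mul_zero, smul_eq_mul, sub_zero] at h3
        rw [polar_comm (⇑Q) u, polar_comp hd (comp_mem hd j u), polar_diag] at h3
        exact h3.symm
      have hQj : Q (comp hd j u) = 0 :=
        (mul_eq_zero.1 ((mul_eq_zero.1 h2).resolve_left (sub_ne_zero.2 (Ne.symm hmj)))).resolve_left hd.two
      apply hQy
      have h3 := congrArg Q hdecomp
      rw [Q_smul, hQj, mul_zero, sub_eq_add_neg, ← neg_smul, Q_add, Q_smul, hQu, polar_smul_right,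
        polar_comm (⇑Q) y u, huy] at h3
      simpa using h3
    · refine hmem' (ih _ ?_ Y hmem j c hc hQc hc0 rfl)
      rw [← hN]
      refine Set.ncard_lt_ncard ⟨fun n hn => ?_, fun hsub => ?_⟩ (Set.toFinite _)
      · intro h0
        apply hn
        rw [hcomp, h0, smul_zero, add_zero]
        exact comp_other hd hc (fun e => hj0 (e ▸ h0))
      · have hmj' : m ≠ j := fun e => hmj (by rw [e])
        refine hsub (show comp hd m u ≠ 0 from hm0) ?_
        rw [hcomp, comp_other hd hc hmj', sub_self, mul_zero, zero_smul, add_zero]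

end Cfsg.Agent.Classical.DecompOrth
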