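import Cfsg.Agent.Lib.Classical.Symplectic
import Cfsg.Prelude.Def_ClassicalGeometry

/-!
The matrix symplectic groups (`Matrix.symplecticGroup` and `Cfsg.spGL`) as isometry groups of the
alternating form with matrix `J`.
-/

set_option autoImplicit false
set_option linter.style.haveILetI false

open scoped Matrix LinearAlgebra.Projectivization
open Matrix

namespace Cfsg.Agent.Classical.Sp

variable {F : Type*} [Field F] (m : ℕ)

/-- The alternating form with matrix `J`. -/
noncomputable def sympB (F : Type*) [Field F] (m : ℕ) :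
    LinearMap.BilinForm F (Fin m ⊕ Fin m → F) :=
  Matrix.toBilin' (Matrix.J (Fin m) F)

theorem sympB_apply (u v : Fin m ⊕ Fin m → F) : sympB F m u v = Cfsg.sympForm m F u v :=
  Matrix.toBilin'_apply' _ _ _

theorem sympB_sum (u v : Fin m ⊕ Fin m → F) :
    sympB F m u v = (∑ i : Fin m, u (Sum.inr i) * v (Sum.inl i)) -
      ∑ i : Fin m, u (Sum.inl i) * v (Sum.inr i) := by
  rw [sympB_apply, Cfsg.sympForm]
  simp [dotProduct, Fintype.sum_sum_type, Matrix.J, Matrix.fromBlocks_mulVec, Matrix.neg_mulVec]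
  ring

theorem sympB_isAlt : (sympB F m).IsAlt := fun u => by
  rw [sympB_sum, sub_eq_zero]
  exact Finset.sum_congr rfl fun i _ => mul_comm _ _

theorem sympB_nondeg : Nondeg (sympB F m) := by
  intro u hu
  by_contra hc
  push Not at hc
  apply hu
  funext k
  rcases k with i | i
  · have := hc (Pi.single (Sum.inr i) 1)
    rw [sympB_sum] at this
    simpa [Pi.single_apply] using this
  · have := hc (Pi.single (Sum.inl i) 1)
    rw [sympB_sum] at this
    simpa [Pi.single_apply] using this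

theorem finrank_space : Module.finrank F (Fin m ⊕ Fin m → F) = 2 * m := by
  rw [Module.finrank_fintype_fun_eq_card, Fintype.card_sum, Fintype.card_fin, two_mul]

theorem mem_symplectic_iff (A : Matrix (Fin m ⊕ Fin m) (Fin m ⊕ Fin m) F) :
    A ∈ Matrix.symplecticGroup (Fin m) F ↔
      ∀ u v, sympB F m (A *ᵥ u) (A *ᵥ v) = sympB F m u v := by
  have e : ∀ u v, sympB F m (A *ᵥ u) (A *ᵥ v) =
      Matrix.toBilin' (Aᵀ * Matrix.J (Fin m) F * A) u v := by
    intro u v
    rw [sympB, Matrix.toBilin'_apply', Matrix.toBilin'_apply', ← vecMul_transpose,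
      ← dotProduct_mulVec, mulVec_mulVec, mulVec_mulVec, Matrix.mul_assoc]
  rw [SymplecticGroup.mem_iff']
  refine ⟨fun h u v => by rw [e, h]; rfl, fun h => ?_⟩
  refine Matrix.toBilin'.injective (LinearMap.ext₂ fun u v => ?_)
  rw [← e]
  exact h u v

/-- A matrix with a two-sided inverse as a linear automorphism. -/
def matEquiv {ι : Type*} [Fintype ι] [DecidableEq ι] {A B : Matrix ι ι F} (h : A * B = 1)
    (h' : B * A = 1) : (ι → F) ≃ₗ[F] (ι → F) where
  toFun x := A *ᵥ x
  invFun x := B *ᵥ x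
  map_add' := mulVec_add A
  map_smul' c x := mulVec_smul A c x
  left_inv x := by show B *ᵥ (A *ᵥ x) = x; rw [mulVec_mulVec, h', one_mulVec]
  right_inv x := by show A *ᵥ (B *ᵥ x) = x; rw [mulVec_mulVec, h, one_mulVec]

/-- The matrix symplectic group is the isometry group of `sympB`. -/
noncomputable def spEquiv : Matrix.symplecticGroup (Fin m) F ≃* Grp (sympB F m) where
  toFun A :=
    ⟨matEquiv (congrArg Subtype.val (mul_inv_cancel A))
      (congrArg Subtype.val (inv_mul_cancel A)), (mem_symplectic_iff m A.1).1 A.2⟩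
  invFun g := ⟨LinearMap.toMatrix' (g : (Fin m ⊕ Fin m → F) ≃ₗ[F] (Fin m ⊕ Fin m → F)).toLinearMap,
    (mem_symplectic_iff m _).2 fun u v => by
      rw [LinearMap.toMatrix'_mulVec, LinearMap.toMatrix'_mulVec]
      exact g.2 u v⟩
  left_inv A := Subtype.ext (LinearMap.toMatrix'_toLin' A.1)
  right_inv g := Subtype.ext (LinearEquiv.ext fun x => by
    show LinearMap.toMatrix' (g : (Fin m ⊕ Fin m → F) ≃ₗ[F] (Fin m ⊕ Fin m → F)).toLinearMap *ᵥ x = _
    rw [LinearMap.toMatrix'_mulVec]
    rfl)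
  map_mul' A B := Subtype.ext (LinearEquiv.ext fun x => (Matrix.mulVec_mulVec x A.1 B.1).symm)

theorem spEquiv_apply (A : Matrix.symplecticGroup (Fin m) F) (x : Fin m ⊕ Fin m → F) :
    (spEquiv m A : (Fin m ⊕ Fin m → F) ≃ₗ[F] (Fin m ⊕ Fin m → F)) x = A.1 *ᵥ x := rfl

theorem spEquiv_symm_mulVec (g : Grp (sympB F m)) (x : Fin m ⊕ Fin m → F) :
    ((spEquiv m).symm g).1 *ᵥ x = (g : (Fin m ⊕ Fin m → F) ≃ₗ[F] (Fin m ⊕ Fin m → F)) x := by
  rw [← spEquiv_apply, MulEquiv.apply_symm_apply]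

theorem matrix_ext {A B : Matrix (Fin m ⊕ Fin m) (Fin m ⊕ Fin m) F}
    (h : ∀ x, A *ᵥ x = B *ᵥ x) : A = B :=
  Matrix.toLin'.injective (LinearMap.ext h)

theorem transvection_mulVec (v : Fin m ⊕ Fin m → F) (c : F) (x : Fin m ⊕ Fin m → F) :
    Cfsg.sympTransvection m v c *ᵥ x = x + (c * sympB F m x v) • v := by
  rw [Cfsg.sympTransvection, add_mulVec, one_mulVec, smul_mulVec, vecMulVec_mulVec,
    sympB_apply, Cfsg.sympForm, dotProduct_comm]
  simp [smul_smul]

theorem transvection_mem (v : Fin m ⊕ Fin m → F) (c : F) :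
    Cfsg.sympTransvection m v c ∈ Matrix.symplecticGroup (Fin m) F := by
  rw [mem_symplectic_iff]
  intro u w
  rw [transvection_mulVec, transvection_mulVec]
  exact Grp.map_form (T (sympB F m) (sympB_isAlt m) v c) u w

theorem spEquiv_symm_T (v : Fin m ⊕ Fin m → F) (c : F) :
    (((spEquiv m).symm (T (sympB F m) (sympB_isAlt m) v c)) :
      Matrix (Fin m ⊕ Fin m) (Fin m ⊕ Fin m) F) = Cfsg.sympTransvection m v c :=
  matrix_ext m fun x => by rw [spEquiv_symm_mulVec, transvection_mulVec]; rfl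

/-- The transvections in the matrix group correspond to those of `Grp`. -/
theorem map_transvections :
    {A : Matrix.symplecticGroup (Fin m) F | ∃ (w : Fin m ⊕ Fin m → F) (c : F),
      (A : Matrix (Fin m ⊕ Fin m) (Fin m ⊕ Fin m) F) = Cfsg.sympTransvection m w c} =
      (spEquiv m).symm '' tSet (sympB F m) (sympB_isAlt m) ⊤ := by
  ext A
  constructor
  · rintro ⟨w, c, h⟩
    exact ⟨T _ (sympB_isAlt m) w c, ⟨w, Submodule.mem_top, c, rfl⟩,
      Subtype.ext ((spEquiv_symm_T m w c).trans h.symm)⟩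
  · rintro ⟨_, ⟨w, -, c, rfl⟩, rfl⟩
    exact ⟨w, c, spEquiv_symm_T m w c⟩

/-- `Cfsg.spGL` is the same group. -/
noncomputable def spGLEquiv : Cfsg.spGL m F ≃* Grp (sympB F m) where
  toFun A := ⟨matEquiv (Units.mul_inv A.1) (Units.inv_mul A.1), fun u v => by
    show sympB F m (A.1.1 *ᵥ u) (A.1.1 *ᵥ v) = sympB F m u v
    rw [sympB_apply, sympB_apply]
    exact A.2 u v⟩
  invFun g :=
    ⟨⟨LinearMap.toMatrix' (g : (Fin m ⊕ Fin m → F) ≃ₗ[F] (Fin m ⊕ Fin m → F)).toLinearMap,
      LinearMap.toMatrix' (g : (Fin m ⊕ Fin m → F) ≃ₗ[F] (Fin m ⊕ Fin m → F)).symm.toLinearMap,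
      by rw [← LinearMap.toMatrix'_comp, LinearEquiv.comp_symm, LinearMap.toMatrix'_id],
      by rw [← LinearMap.toMatrix'_comp, LinearEquiv.symm_comp, LinearMap.toMatrix'_id]⟩,
      fun u v => by
        show Cfsg.sympForm m F (LinearMap.toMatrix' _ *ᵥ u) (LinearMap.toMatrix' _ *ᵥ v) = _
        rw [LinearMap.toMatrix'_mulVec, LinearMap.toMatrix'_mulVec, ← sympB_apply, ← sympB_apply]
        exact g.2 u v⟩
  left_inv A := Subtype.ext (Units.ext (LinearMap.toMatrix'_toLin' A.1.1))
  right_inv g := Subtype.ext (LinearEquiv.ext fun x => by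
    show LinearMap.toMatrix' (g : (Fin m ⊕ Fin m → F) ≃ₗ[F] (Fin m ⊕ Fin m → F)).toLinearMap *ᵥ x = _
    rw [LinearMap.toMatrix'_mulVec]
    rfl)
  map_mul' A B := Subtype.ext (LinearEquiv.ext fun x => (Matrix.mulVec_mulVec x A.1.1 B.1.1).symm)

theorem spGL_preprimitive : MulAction.IsPreprimitive ↥(Cfsg.spGL m F) (ℙ F (Fin m ⊕ Fin m → F)) := by
  haveI := preprimitive_points (sympB F m) (sympB_isAlt m) (sympB_nondeg m)
  refine MulAction.IsPreprimitive.of_surjective (φ := fun g => (spGLEquiv (F := F) m).symm g)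
    (f := { toFun := id, map_smul' := fun g p => ?_ }) Function.surjective_id
  induction p using Projectivization.ind with | _ v hv =>
  show g • Projectivization.mk F v hv = (spGLEquiv m).symm g • Projectivization.mk F v hv
  rw [smul_point]
  show _ = Projectivization.mk F ((((spGLEquiv m).symm g).1.1 : Matrix (Fin m ⊕ Fin m) (Fin m ⊕ Fin m) F) *ᵥ v) _
  congr 1
  show _ = LinearMap.toMatrix' _ *ᵥ v
  rw [LinearMap.toMatrix'_mulVec]
  rfl

/-- `PSp` is the quotient of the isometry group by its centre. -/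
noncomputable def pspEquiv : Cfsg.PSp m F ≃* Grp (sympB F m) ⧸ Subgroup.center (Grp (sympB F m)) :=
  QuotientGroup.congr _ _ (spEquiv m) (by
    ext x
    simp only [Subgroup.mem_map, Subgroup.mem_center_iff, MonoidHom.coe_coe]
    constructor
    · rintro ⟨a, ha, rfl⟩ g
      obtain ⟨b, rfl⟩ := (spEquiv m).surjective g
      show spEquiv m b * spEquiv m a = spEquiv m a * spEquiv m b
      rw [← map_mul, ← map_mul, ha b]
    · intro hx
      refine ⟨(spEquiv m).symm x, fun b => ?_, (spEquiv m).apply_symm_apply x⟩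
      apply (spEquiv m).injective
      rw [map_mul, map_mul, MulEquiv.apply_symm_apply]
      exact hx _)

theorem card_units_pow_field_ge_four [Fintype F] (h : 4 ≤ Fintype.card F) :
    ∃ a : F, a ≠ 0 ∧ a * a ≠ 1 := by
  classical
  by_contra hc
  push Not at hc
  have : Finset.univ ⊆ ({0, 1, -1} : Finset F) := fun a _ => by
    by_cases ha : a = 0
    · simp [ha]
    · rcases mul_self_eq_one_iff.1 (hc a ha) with h | h <;> simp [h]
  have := Finset.card_le_card this
  rw [Finset.card_univ] at this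
  have := Finset.card_le_three (a := (0 : F)) (b := 1) (c := -1)
  omega

/-- The hypothesis for perfectness, from the usual exceptions. -/
theorem perfect_hyp [Fintype F] (h : 3 ≤ m ∨ (m = 2 ∧ 3 ≤ Fintype.card F) ∨ 4 ≤ Fintype.card F) :
    6 ≤ Module.finrank F (Fin m ⊕ Fin m → F) ∨
      (4 ≤ Module.finrank F (Fin m ⊕ Fin m → F) ∧ (2 : F) ≠ 0) ∨
      ∃ a : F, a ≠ 0 ∧ a * a ≠ 1 := by
  rw [finrank_space]
  rcases h with h | ⟨h, h3⟩ | h
  · left; omega
  · by_cases h4 : 4 ≤ Fintype.card F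
    · exact Or.inr (Or.inr (card_units_pow_field_ge_four h4))
    refine Or.inr (Or.inl ⟨by omega, fun h2 => ?_⟩)
    haveI : CharP F 2 := CharTwo.of_one_ne_zero_of_two_eq_zero one_ne_zero h2
    obtain ⟨k, -, hk⟩ := FiniteField.card F 2
    have : Fintype.card F = 3 := by omega
    rw [this] at hk
    have h4 : (k : ℕ) = 0 ∨ (k : ℕ) = 1 ∨ 2 ≤ (k : ℕ) := by omega
    rcases h4 with h4 | h4 | h4
    · exact k.ne_zero h4
    · rw [h4] at hk; norm_num at hk
    · have := Nat.pow_le_pow_right two_pos h4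
      omega
  · exact Or.inr (Or.inr (card_units_pow_field_ge_four h))

end Cfsg.Agent.Classical.Sp
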