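import Cfsg.Agent.Lib.Classical.SympInvolution
import Cfsg.Agent.Lib.Classical.SymplecticMatrix

/-!
Witt extension for alternating forms, canonical bases of alternating, Hermitian and symmetric
forms.
-/

set_option autoImplicit false
set_option linter.style.haveILetI false
set_option linter.unusedSectionVars false

namespace Cfsg.Agent.Classical.Forms

open Module Sp

variable {F V : Type*} [Field F] [AddCommGroup V] [Module F V] [FiniteDimensional F V]

section alt

variable (B : LinearMap.BilinForm F V) (hA : B.IsAlt)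

include hA

/-- An orthogonal splitting along a subspace on which the form is non-degenerate. -/
theorem decomp_sub (P : Submodule F V) (hP : Nondeg (res B P)) :
    OrthDecomp (fun x y => B x y) P (B.orthogonal P) := by
  have hd : Disjoint P (B.orthogonal P) := by
    rw [Submodule.disjoint_def]
    intro x hxP hxO
    by_contra hx
    obtain ⟨y, hy⟩ := hP ⟨x, hxP⟩ (fun e => hx (congrArg Subtype.val e))
    apply hy
    show B x y = 0
    rw [alt_neg B hA (y : V) x, show B (y : V) x = 0 from hxO y y.2, neg_zero]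
  refine ⟨fun a b c => by simp, fun a b c => by simp,
    LinearMap.BilinForm.isCompl_orthogonal_of_restrict_nondegenerate hA.isRefl ?_,
    fun p hp w hw => hw p hp, fun p hp w hw => ?_, fun x hx => fun p hp => ?_⟩
  · have hr : (B.restrict P).IsRefl := fun x y h => hA.isRefl _ _ h
    rw [LinearMap.BilinForm.nondegenerate_iff_ker_eq_bot, LinearMap.ker_eq_bot']
    intro u hu
    by_contra hne
    obtain ⟨y, hy⟩ := hP u hne
    exact hy (LinearMap.congr_fun hu y)
  · show B w p = 0
    rw [alt_neg B hA p w, show B p w = 0 from hw p hp, neg_zero]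
  · show B p x = 0
    rw [alt_neg B hA x p, hx p hp, neg_zero]

theorem nondeg_orth (hB : Nondeg B) (P : Submodule F V) (hP : Nondeg (res B P)) :
    Nondeg (res B (B.orthogonal P)) := by
  intro w hw
  obtain ⟨y, hy⟩ := hB w (fun e => hw (Subtype.ext e))
  obtain ⟨p, hp, q, hq, rfl⟩ := (decomp_sub B hA P hP).exists_add y
  refine ⟨⟨q, hq⟩, fun e => hy ?_⟩
  change B (w : V) q = 0 at e
  rw [map_add, e, (decomp_sub B hA P hP).orth_right p hp w w.2, add_zero]

theorem finrank_orth (P : Submodule F V) (hP : Nondeg (res B P)) :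
    finrank F P + finrank F (B.orthogonal P) = finrank F V :=
  Submodule.finrank_add_eq_of_isCompl (decomp_sub B hA P hP).isCompl

end alt

theorem exists_dual {n : ℕ} (B : LinearMap.BilinForm F V) (hB : Nondeg B) {r : Fin n → V}
    (hr : LinearIndependent F r) (a : Fin n → F) : ∃ y, ∀ i, B (r i) y = a i := by
  have hinj : Function.Injective B := by
    rw [← LinearMap.ker_eq_bot, LinearMap.ker_eq_bot']
    intro u hu
    by_contra hne
    obtain ⟨y, hy⟩ := hB u hne
    exact hy (LinearMap.congr_fun hu y)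
  let φ : V →ₗ[F] (Fin n → F) := LinearMap.pi fun i => B (r i)
  suffices hs : Function.Surjective φ by
    obtain ⟨y, hy⟩ := hs a
    exact ⟨y, fun i => congrFun hy i⟩
  rw [← LinearMap.range_eq_top]
  by_contra hne
  obtain ⟨f, hf, hfle⟩ := Submodule.exists_le_ker_of_lt_top _ (lt_top_iff_ne_top.2 hne)
  apply hf
  let c : Fin n → F := fun i => f (Pi.single i 1)
  have hfx : ∀ x : Fin n → F, f x = ∑ i, x i * c i := by
    intro x
    conv_lhs => rw [pi_eq_sum_univ x]
    simp only [map_sum, map_smul, smul_eq_mul, c]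
    refine Finset.sum_congr rfl fun i _ => ?_
    congr 2
    funext j
    rw [Pi.single_apply]
    simp [eq_comm]
  have hz : B (∑ i, c i • r i) = 0 := by
    refine LinearMap.ext fun y => ?_
    have := hfle ⟨y, rfl⟩
    rw [LinearMap.mem_ker, hfx] at this
    simp only [map_sum, map_smul, LinearMap.sum_apply, LinearMap.smul_apply, smul_eq_mul,
      LinearMap.zero_apply]
    rw [← this]
    exact Finset.sum_congr rfl fun i _ => mul_comm _ _
  have hc := (Fintype.linearIndependent_iff.1 hr) c (hinj (by rw [hz, map_zero]))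
  refine LinearMap.ext fun x => ?_
  rw [hfx, LinearMap.zero_apply]
  exact Finset.sum_eq_zero fun i _ => by rw [hc i, mul_zero]

theorem nondeg_span_pair (B : LinearMap.BilinForm F V) (hA : B.IsAlt) {u v : V} (h : B u v = 1) :
    Nondeg (res B (Submodule.span F {u, v})) := by
  rintro ⟨x, hx⟩ hne
  obtain ⟨a, b, rfl⟩ := Submodule.mem_span_pair.1 hx
  have hu : u ∈ Submodule.span F ({u, v} : Set V) := Submodule.subset_span (by simp)
  have hv : v ∈ Submodule.span F ({u, v} : Set V) := Submodule.subset_span (by simp)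
  by_cases ha : a = 0
  · refine ⟨⟨u, hu⟩, fun e => hne ?_⟩
    change B (a • u + b • v) u = 0 at e
    simp [hA.self_eq_zero, h, alt_neg B hA u v, ha] at e
    simp [ha, e]
  · refine ⟨⟨v, hv⟩, fun e => ha ?_⟩
    change B (a • u + b • v) v = 0 at e
    simpa [hA.self_eq_zero, h] using e

universe uV uW

/-- An isometry of symplectic spaces with prescribed values on a totally isotropic family. -/
theorem exists_equiv_iso : ∀ (k : ℕ) {V : Type uV} [AddCommGroup V] [Module F V]
    [FiniteDimensional F V] {W : Type uW} [AddCommGroup W] [Module F W] [FiniteDimensional F W]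
    (B : LinearMap.BilinForm F V) (B' : LinearMap.BilinForm F W),
    B.IsAlt → Nondeg B → B'.IsAlt → Nondeg B' → finrank F V = finrank F W →
    ∀ (r : Fin k → V) (r' : Fin k → W), LinearIndependent F r → LinearIndependent F r' →
    (∀ i j, B (r i) (r j) = 0) → (∀ i j, B' (r' i) (r' j) = 0) →
    ∃ e : V ≃ₗ[F] W, (∀ x y, B' (e x) (e y) = B x y) ∧ ∀ i, e (r i) = r' i := by
  intro k
  induction k with
  | zero =>
    intro V _ _ _ W _ _ _ B B' hA hB hA' hB' hdim r r' _ _ _ _
    obtain ⟨-, e, he⟩ := exists_equiv (finrank F V) B B' hA hB hA' hB' rfl hdim.symm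
    exact ⟨e, he, fun i => i.elim0⟩
  | succ k ih =>
    intro V _ _ _ W _ _ _ B B' hA hB hA' hB' hdim r r' hr hr' hrr hrr'
    obtain ⟨y, hy⟩ := exists_dual B hB hr (Pi.single 0 1)
    obtain ⟨y', hy'⟩ := exists_dual B' hB' hr' (Pi.single 0 1)
    have h1 : B (r 0) y = 1 := by simpa using hy 0
    have h1' : B' (r' 0) y' = 1 := by simpa using hy' 0
    set P := Submodule.span F {r 0, y} with hPdef
    set P' := Submodule.span F {r' 0, y'} with hPdef'
    obtain ⟨c, hc⟩ := exists_pairEquiv B hA h1
    obtain ⟨c', hc'⟩ := exists_pairEquiv B' hA' h1'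
    have hP : Nondeg (res B P) := nondeg_span_pair B hA h1
    have hP' : Nondeg (res B' P') := nondeg_span_pair B' hA' h1'
    have hd : finrank F (B.orthogonal P) = finrank F (B'.orthogonal P') := by
      have e1 := finrank_orth B hA P hP
      have e2 := finrank_orth B' hA' P' hP'
      rw [← c.finrank_eq] at e1
      rw [← c'.finrank_eq] at e2
      omega
    have hmem : ∀ i : Fin k, r i.succ ∈ B.orthogonal P := by
      intro i p hp
      obtain ⟨a, b, rfl⟩ := Submodule.mem_span_pair.1 hp
      show B (a • r 0 + b • y) (r i.succ) = 0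
      simp [hrr, alt_neg B hA (r i.succ) y, hy i.succ, Fin.succ_ne_zero]
    have hmem' : ∀ i : Fin k, r' i.succ ∈ B'.orthogonal P' := by
      intro i p hp
      obtain ⟨a, b, rfl⟩ := Submodule.mem_span_pair.1 hp
      show B' (a • r' 0 + b • y') (r' i.succ) = 0
      simp [hrr', alt_neg B' hA' (r' i.succ) y', hy' i.succ, Fin.succ_ne_zero]
    obtain ⟨e₂, he₂, hr₂⟩ := ih (res B (B.orthogonal P)) (res B' (B'.orthogonal P'))
      (isAlt_res B hA _) (nondeg_orth B hA hB P hP) (isAlt_res B' hA' _)
      (nondeg_orth B' hA' hB' P' hP') hd (fun i => ⟨r i.succ, hmem i⟩)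
      (fun i => ⟨r' i.succ, hmem' i⟩)
      (LinearIndependent.of_comp (Submodule.subtype _) (hr.comp _ (Fin.succ_injective k)))
      (LinearIndependent.of_comp (Submodule.subtype _) (hr'.comp _ (Fin.succ_injective k)))
      (fun i j => hrr _ _) (fun i j => hrr' _ _)
    obtain ⟨e, he, hep, heq⟩ := glue (decomp_sub B hA P hP) (decomp_sub B' hA' P' hP')
      (c.symm.trans c') e₂
      (fun a b => by
        obtain ⟨a, rfl⟩ := c.surjective a
        obtain ⟨b, rfl⟩ := c.surjective b
        simp only [LinearEquiv.trans_apply, LinearEquiv.symm_apply_apply, hc, hc']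
        rw [pair_apply B hA h1, pair_apply B' hA' h1']) he₂
    refine ⟨e, he, fun i => ?_⟩
    refine Fin.cases ?_ (fun i => ?_) i
    · have e0 : (c (1, 0) : V) = r 0 := by rw [hc]; simp
      rw [← e0, hep, LinearEquiv.trans_apply, LinearEquiv.symm_apply_apply, hc']
      simp
    · have := heq ⟨r i.succ, hmem i⟩
      rw [hr₂ i] at this
      exact this

/-- A subspace splits as its radical and a non-degenerate part. -/
theorem exists_rad_compl (B : LinearMap.BilinForm F V) (hA : B.IsAlt) (X : Submodule F V) :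
    ∃ R C : Submodule F V, R ≤ X ∧ C ≤ X ∧ Disjoint R C ∧ R ⊔ C = X ∧
      (∀ r ∈ R, ∀ x ∈ X, B r x = 0) ∧ Nondeg (res B C) := by
  set R := LinearMap.ker (res B X) with hR
  obtain ⟨C, hC⟩ := exists_isCompl R
  refine ⟨R.map X.subtype, C.map X.subtype, Submodule.map_subtype_le _ _,
    Submodule.map_subtype_le _ _, ?_, ?_, ?_, ?_⟩
  · exact Submodule.disjoint_map X.subtype_injective hC.disjoint
  · rw [← Submodule.map_sup, hC.sup_eq_top, Submodule.map_subtype_top]
  · rintro r ⟨r', hr', rfl⟩ x hx
    exact LinearMap.congr_fun (LinearMap.mem_ker.1 hr') ⟨x, hx⟩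
  · rintro ⟨c, c', hc', rfl⟩ hne
    by_contra hcon
    simp only [not_exists, not_not] at hcon
    have hk : c' ∈ R := by
      rw [hR, LinearMap.mem_ker]
      refine LinearMap.ext fun x => ?_
      obtain ⟨r, hr, d, hd, rfl⟩ : ∃ r ∈ R, ∃ d ∈ C, r + d = x :=
        Submodule.mem_sup.1 (by rw [hC.sup_eq_top]; exact Submodule.mem_top)
      show B (c' : V) ((r + d : X) : V) = 0
      have h1 : B (r : V) c' = 0 := LinearMap.congr_fun (LinearMap.mem_ker.1 hr) c'
      have h2 : B (c' : V) d = 0 := hcon ⟨(d : V), d, hd, rfl⟩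
      rw [Submodule.coe_add, map_add, h2, alt_neg B hA (r : V) c', h1]
      simp
    refine hne (Subtype.ext ?_)
    show (c' : V) = 0
    rw [(Submodule.disjoint_def.1 hC.disjoint) c' hk hc']
    rfl

/-- Witt's lemma for alternating forms. -/
theorem witt_alt (B : LinearMap.BilinForm F V) (hA : B.IsAlt) (hB : Nondeg B)
    (X Y : Submodule F V) (φ : X ≃ₗ[F] Y)
    (hφ : ∀ x x' : X, B (φ x : V) (φ x' : V) = B (x : V) (x' : V)) :
    ∃ g : V ≃ₗ[F] V, (∀ u v, B (g u) (g v) = B u v) ∧ ∀ x : X, g (x : V) = (φ x : V) := by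
  obtain ⟨R, C, hRX, hCX, -, hsup, hrad, hC⟩ := exists_rad_compl B hA X
  let f : X →ₗ[F] V := Y.subtype.comp φ.toLinearMap
  have hf : Function.Injective f := Y.subtype_injective.comp φ.injective
  let fC : C →ₗ[F] V := f.comp (Submodule.inclusion hCX)
  let e₁ : C ≃ₗ[F] LinearMap.range fC :=
    LinearEquiv.ofInjective fC (hf.comp (Submodule.inclusion_injective hCX))
  have he₁ : ∀ a b : C, B (e₁ a : V) (e₁ b) = B (a : V) b := fun a b =>
    hφ (Submodule.inclusion hCX a) (Submodule.inclusion hCX b)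
  have hC' : Nondeg (res B (LinearMap.range fC)) := by
    intro u hu
    obtain ⟨a, rfl⟩ := e₁.surjective u
    obtain ⟨b, hb⟩ := hC a (fun e => hu (by rw [e, map_zero]))
    exact ⟨e₁ b, fun e => hb ((he₁ a b).symm.trans e)⟩
  let bR := finBasis F R
  let r : Fin (finrank F R) → V := fun i => (bR i : V)
  have hrX : ∀ i, r i ∈ X := fun i => hRX (bR i).2
  let r' : Fin (finrank F R) → V := fun i => f ⟨r i, hrX i⟩
  have hr : LinearIndependent F r := bR.linearIndependent.map' R.subtype R.ker_subtype
  have hr' : LinearIndependent F r' := by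
    have hi : Function.Injective (f.comp (Submodule.inclusion hRX)) :=
      hf.comp (Submodule.inclusion_injective hRX)
    exact bR.linearIndependent.map' _ (LinearMap.ker_eq_bot.2 hi)
  have hmem : ∀ i, r i ∈ B.orthogonal C := fun i c hc => by
    show B c (r i) = 0
    rw [alt_neg B hA (r i) c, hrad _ (bR i).2 c (hCX hc), neg_zero]
  have hmem' : ∀ i, r' i ∈ B.orthogonal (LinearMap.range fC) := by
    intro i p hp
    obtain ⟨c, rfl⟩ := hp
    show B (f (Submodule.inclusion hCX c)) (f ⟨r i, hrX i⟩) = 0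
    exact (hφ _ _).trans (hmem i c c.2)
  obtain ⟨e₂, he₂, hr₂⟩ := exists_equiv_iso (finrank F R) (res B (B.orthogonal C))
    (res B (B.orthogonal (LinearMap.range fC))) (isAlt_res B hA _) (nondeg_orth B hA hB C hC)
    (isAlt_res B hA _) (nondeg_orth B hA hB _ hC')
    (by
      have := finrank_orth B hA C hC
      have := finrank_orth B hA _ hC'
      have := e₁.finrank_eq
      omega)
    (fun i => ⟨r i, hmem i⟩) (fun i => ⟨r' i, hmem' i⟩)
    (LinearIndependent.of_comp (Submodule.subtype _) hr)
    (LinearIndependent.of_comp (Submodule.subtype _) hr')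
    (fun i j => hrad _ (bR i).2 _ (hrX j))
    (fun i j => (hφ _ _).trans (hrad _ (bR i).2 _ (hrX j)))
  obtain ⟨g, hg, hgC, hgO⟩ := glue (decomp_sub B hA C hC) (decomp_sub B hA _ hC') e₁ e₂ he₁ he₂
  refine ⟨g, hg, ?_⟩
  suffices h : g.toLinearMap.comp X.subtype = f from fun x => LinearMap.congr_fun h x
  have h1 : ∀ c : C, g (c : V) = f (Submodule.inclusion hCX c) := fun c => hgC c
  have h2 : g.toLinearMap.comp R.subtype = f.comp (Submodule.inclusion hRX) := by
    refine bR.ext fun i => ?_
    show g (r i) = f ⟨r i, hrX i⟩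
    have := hgO ⟨r i, hmem i⟩
    rw [hr₂ i] at this
    exact this
  refine LinearMap.ext fun x => ?_
  obtain ⟨a, ha, c, hc, e⟩ := Submodule.mem_sup.1 (hsup.ge x.2)
  have ex : x = Submodule.inclusion hRX ⟨a, ha⟩ + Submodule.inclusion hCX ⟨c, hc⟩ :=
    Subtype.ext e.symm
  have e3 := LinearMap.congr_fun h2 ⟨a, ha⟩
  simp only [LinearMap.comp_apply, Submodule.subtype_apply] at e3
  rw [ex, map_add, map_add, ← e3, ← h1 ⟨c, hc⟩]
  rfl

/-- A symplectic basis completed by a basis of the radical. -/
theorem exists_basis_alt (B : LinearMap.BilinForm F V) (hA : B.IsAlt) :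
    ∃ (m k : ℕ) (b : Basis ((Fin m ⊕ Fin m) ⊕ Fin k) F V),
      (∀ i j, B (b (Sum.inl (Sum.inl i))) (b (Sum.inl (Sum.inr j))) = if i = j then 1 else 0) ∧
      (∀ i j, B (b (Sum.inl (Sum.inl i))) (b (Sum.inl (Sum.inl j))) = 0) ∧
      (∀ i j, B (b (Sum.inl (Sum.inr i))) (b (Sum.inl (Sum.inr j))) = 0) ∧
      ∀ j v, B (b (Sum.inr j)) v = 0 := by
  obtain ⟨R, C, -, -, hdisj, hsup, hrad, hC⟩ := exists_rad_compl B hA ⊤
  obtain ⟨⟨m, hm⟩, -⟩ := exists_equiv (finrank F C) (res B C) (res B C) (isAlt_res B hA C) hC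
    (isAlt_res B hA C) hC rfl rfl
  obtain ⟨-, e, he⟩ := exists_equiv (finrank F C) (sympB F m) (res B C) (sympB_isAlt m)
    (sympB_nondeg m) (isAlt_res B hA C) hC (by rw [finrank_space, hm]; omega) rfl
  refine ⟨m, finrank F R, (((((Pi.basisFun F (Fin m ⊕ Fin m)).reindex (Equiv.sumComm _ _)).map e).prod (finBasis F R)).map
    (Submodule.prodEquivOfIsCompl C R ⟨hdisj.symm, codisjoint_iff.2 (by rw [sup_comm]; exact hsup)⟩)),
    fun i j => ?_, fun i j => ?_, fun i j => ?_, fun j v => ?_⟩
  · have := he (Pi.single (Sum.inr i) 1) (Pi.single (Sum.inl j) 1)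
    simp [sympB_sum, Pi.single_apply] at this
    simpa [eq_comm] using this
  · have := he (Pi.single (Sum.inr i) 1) (Pi.single (Sum.inr j) 1)
    simp [sympB_sum] at this
    simpa using this
  · have := he (Pi.single (Sum.inl i) 1) (Pi.single (Sum.inl j) 1)
    simp [sympB_sum] at this
    simpa using this
  · simpa using hrad _ (finBasis F R j).2 v Submodule.mem_top

end Cfsg.Agent.Classical.Forms
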