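import Cfsg.Agent.Lib.Classical.Transvec
import Mathlib

/-!
Witt extension for quadratic forms with non-degenerate polar form and for finite hermitian forms.
-/

set_option autoImplicit false

open Module QuadraticMap

namespace Cfsg.Agent.Classical.WittExt

section quadratic

variable {F V : Type*} [Field F] [AddCommGroup V] [Module F V] [FiniteDimensional F V]
variable (Q : QuadraticForm F V)

theorem quad_expand (x : V) (a : F) (y : V) :
    Q (x + a • y) = Q x + a * a * Q y + a * polar Q x y := by
  rw [QuadraticMap.map_add (⇑Q), QuadraticMap.map_smul, polar_smul_right, smul_eq_mul, smul_eq_mul]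

theorem polar_self_eq (x : V) : polar Q x x = 2 * Q x := by
  rw [polar_self, two_nsmul, two_mul]

variable (hQ : (polarBilin Q).Nondegenerate)

include hQ

/-- Every functional is a polar pairing. -/
theorem exists_polar_eq (f : Module.Dual F V) : ∃ z : V, ∀ x, polar Q z x = f x :=
  ⟨(LinearMap.BilinForm.toDual (polarBilin Q) hQ).symm f, fun x => by
    exact LinearMap.BilinForm.apply_toDual_symm_apply (B := polarBilin Q) (hB := hQ) f x⟩

/-- An isometric linear map as an automorphism. -/
noncomputable def isoOf (g : V →ₗ[F] V) (hg : ∀ x, Q (g x) = Q x) : V ≃ₗ[F] V :=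
  LinearEquiv.ofInjectiveEndo g (by
    rw [← LinearMap.ker_eq_bot, Submodule.eq_bot_iff]
    intro x hx
    rw [LinearMap.mem_ker] at hx
    refine hQ.1 x fun y => ?_
    show polar Q x y = 0
    have h : polar Q (g x) (g y) = polar Q x y := by simp only [polar, ← map_add, hg]
    rw [← h, hx, polar_zero_left])

omit [FiniteDimensional F V] hQ in
theorem polar_map {g : V → V} (hadd : ∀ x y, g (x + y) = g x + g y) (hg : ∀ x, Q (g x) = Q x) (x y : V) :
    polar Q (g x) (g y) = polar Q x y := by simp only [polar, ← hadd, hg]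

/-- Moving one vector while fixing an orthogonal subspace. -/
theorem exists_step (H : Submodule F V) {x y : V} (hx : x ∉ H) (hy : y ∉ H) (hQxy : Q y = Q x)
    (hH : ∀ h ∈ H, polar Q h y = polar Q h x) :
    ∃ g : V ≃ₗ[F] V, (∀ v, Q (g v) = Q v) ∧ g x = y ∧ ∀ h ∈ H, g h = h := by
  set d := y - x with hd
  have hHd : ∀ h ∈ H, polar Q h d = 0 := fun h hh => by rw [hd, polar_sub_right, hH h hh, sub_self]
  have hxd : polar Q x d = -Q d := by
    have h1 : Q (x + d) = Q x := by rw [hd, add_sub_cancel, hQxy]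
    rw [QuadraticMap.map_add (⇑Q)] at h1
    linear_combination h1
  have hyxd : y = x + d := by rw [hd, add_sub_cancel]
  rcases eq_or_ne d 0 with h0 | h0
  · exact ⟨LinearEquiv.refl F V, fun v => rfl, by simp [hyxd, h0], fun h _ => rfl⟩
  by_cases hQd : Q d ≠ 0
  · let g : V →ₗ[F] V := LinearMap.id - (Q d)⁻¹ • ((polarBilin Q d).smulRight d)
    have hg : ∀ v, g v = v + (-((Q d)⁻¹ * polar Q d v)) • d := fun v => by
      simp [g, smul_smul, sub_eq_add_neg]
    refine ⟨isoOf Q hQ g fun v => ?_, fun v => ?_, ?_, fun h hh => ?_⟩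
    · rw [hg, quad_expand, polar_comm (⇑Q) v d]; field_simp; ring
    · show Q (g v) = Q v
      rw [hg, quad_expand, polar_comm (⇑Q) v d]; field_simp; ring
    · show g x = y
      rw [hg, polar_comm, hxd, hyxd]
      congr 1
      rw [mul_neg, neg_neg, inv_mul_cancel₀ hQd, one_smul]
    · show g h = h
      rw [hg, polar_comm, hHd h hh]; simp
  push_neg at hQd
  rw [hQd, neg_zero] at hxd
  by_cases hxin : x ∈ H ⊔ Submodule.span F {d}
  · obtain ⟨h1, hh1, e, he, hxe⟩ := Submodule.mem_sup.1 hxin
    obtain ⟨c, rfl⟩ := Submodule.mem_span_singleton.1 he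
    have hc : c ≠ 0 := fun e => hx (by rw [← hxe, e, zero_smul, add_zero]; exact hh1)
    have hc1 : c + 1 ≠ 0 := fun e => hy (by
      rw [hyxd, ← hxe, add_assoc, show c • d + d = (c + 1) • d by rw [add_smul, one_smul], e, zero_smul, add_zero]; exact hh1)
    have hdH : d ∉ H := fun hdH => hx (hxe ▸ H.add_mem hh1 (H.smul_mem c hdH))
    obtain ⟨f, hfd, hf⟩ := exists_dual_one hdH
    obtain ⟨z0, hz0⟩ := exists_polar_eq Q hQ f
    set z := z0 - Q z0 • d with hz
    have hz0d : polar Q z0 d = 1 := by rw [hz0, hfd]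
    have hzd : polar Q z d = 1 := by
      rw [hz, polar_sub_left, polar_smul_left, polar_self_eq, hQd, hz0d]; simp
    have hzH : ∀ h ∈ H, polar Q z h = 0 := fun h hh => by
      rw [hz, polar_sub_left, polar_smul_left, polar_comm (⇑Q) d h, hHd h hh, hz0, hf h hh]; simp
    have hQz : Q z = 0 := by
      rw [hz, sub_eq_add_neg, ← neg_smul, quad_expand, hQd, hz0d]; ring
    set l := (c + 1) / c with hl
    have hl0 : l ≠ 0 := div_ne_zero hc1 hc
    let g : V →ₗ[F] V := LinearMap.id + (l - 1) • ((polarBilin Q z).smulRight d) +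
      (l⁻¹ - 1) • ((polarBilin Q d).smulRight z)
    have hg : ∀ v, g v = v + ((l - 1) * polar Q z v) • d + ((l⁻¹ - 1) * polar Q d v) • z := fun v => by
      simp [g, smul_smul]
    have hiso : ∀ v, Q (g v) = Q v := fun v => by
      rw [hg, quad_expand, quad_expand, hQd, hQz, polar_add_left, polar_smul_left, smul_eq_mul,
        polar_comm (⇑Q) d z, hzd, polar_comm (⇑Q) v d, polar_comm (⇑Q) v z]
      field_simp
      ring
    have hfix : ∀ h ∈ H, g h = h := fun h hh => by
      rw [hg, hzH h hh, polar_comm, hHd h hh]; simp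
    refine ⟨isoOf Q hQ g hiso, hiso, ?_, hfix⟩
    show g x = y
    rw [← hxe, map_add, map_smul, hfix h1 hh1, hyxd, ← hxe, hg d, hzd, polar_self_eq, hQd]
    simp only [mul_zero, zero_smul, add_zero, mul_one]
    rw [add_assoc, smul_add, smul_smul]
    congr 1
    congr 1
    rw [← one_smul F d, smul_smul]
    congr 1
    rw [hl]; field_simp; ring
  · obtain ⟨f, hfx, hf⟩ := exists_dual_one hxin
    obtain ⟨z, hz⟩ := exists_polar_eq Q hQ f
    have hzd : polar Q z d = 0 := by
      rw [hz]; exact hf d (Submodule.mem_sup_right (Submodule.mem_span_singleton_self d))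
    have hzH : ∀ h ∈ H, polar Q z h = 0 := fun h hh => by rw [hz]; exact hf h (Submodule.mem_sup_left hh)
    have hzx : polar Q z x = 1 := by rw [hz, hfx]
    let g : V →ₗ[F] V := LinearMap.id + (polarBilin Q z).smulRight d -
      (polarBilin Q d).smulRight z - Q z • ((polarBilin Q d).smulRight d)
    have hg : ∀ v, g v = v + (polar Q z v - Q z * polar Q d v) • d + (-polar Q d v) • z := fun v => by
      simp [g, smul_smul, sub_smul, neg_smul]; abel
    have hiso : ∀ v, Q (g v) = Q v := fun v => by
      rw [hg, quad_expand, quad_expand, hQd, polar_add_left, polar_smul_left, smul_eq_mul,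
        polar_comm (⇑Q) d z, hzd, polar_comm (⇑Q) v d, polar_comm (⇑Q) v z]
      ring
    refine ⟨isoOf Q hQ g hiso, hiso, ?_, fun h hh => ?_⟩
    · show g x = y
      rw [hg, hzx, polar_comm (⇑Q) d x, hxd, hyxd]; simp
    · show g h = h
      rw [hg, hzH h hh, polar_comm, hHd h hh]; simp

/-- Witt extension. -/
theorem extend : ∀ (k : ℕ) (X : Submodule F V) (f : X →ₗ[F] V), finrank F X = k → Function.Injective f →
    (∀ x : X, Q (f x) = Q (x : V)) → ∃ g : V ≃ₗ[F] V, (∀ v, Q (g v) = Q v) ∧ ∀ x : X, g (x : V) = f x := by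
  intro k
  induction k with
  | zero =>
    intro X f hX _ _
    refine ⟨LinearEquiv.refl F V, fun v => rfl, fun x => ?_⟩
    haveI : Subsingleton X := Module.finrank_zero_iff.1 hX
    rw [Subsingleton.elim x 0]; simp
  | succ k ih =>
    intro X f hX hinj hf
    obtain ⟨x, hx, hx0⟩ : ∃ x : X, x ∈ (⊤ : Submodule F X) ∧ x ≠ 0 := by
      haveI : Nontrivial X := Module.nontrivial_of_finrank_pos (R := F) (by omega)
      obtain ⟨x, hx⟩ := exists_ne (0 : X)
      exact ⟨x, trivial, hx⟩
    obtain ⟨φ, hφx, hφ⟩ := exists_dual_one (p := (⊥ : Submodule F X)) (x := x) (by simpa using hx0)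
    set H' : Submodule F X := LinearMap.ker φ with hH'
    set H : Submodule F V := H'.map X.subtype with hH
    have hdim : finrank F H = k := by
      rw [hH, Submodule.finrank_map_subtype_eq]
      have h := LinearMap.finrank_range_add_finrank_ker φ
      rw [LinearMap.range_eq_top.2 (fun a => ⟨a • x, by rw [map_smul, hφx, smul_eq_mul, mul_one]⟩),
        finrank_top, finrank_self, hX, ← hH'] at h
      omega
    have hHX : H ≤ X := Submodule.map_subtype_le _ _
    obtain ⟨g, hg, hgH⟩ := ih H (f.comp (Submodule.inclusion hHX)) hdim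
      (hinj.comp (Submodule.inclusion_injective hHX)) (fun h => hf _)
    set y := g.symm (f x) with hy
    have hxH : (x : V) ∉ H := by
      rintro ⟨h, hh, he⟩
      have : h = x := Subtype.ext he
      rw [this] at hh
      exact one_ne_zero (hφx.symm.trans hh)
    have hgsymm : ∀ v, Q (g.symm v) = Q v := fun v => by rw [← hg (g.symm v), LinearEquiv.apply_symm_apply]
    have hgfix : ∀ (h : V) (hh : h ∈ H), g.symm (f ⟨h, hHX hh⟩) = h := fun h hh => by
      rw [LinearEquiv.symm_apply_eq]; exact (hgH ⟨h, hh⟩).symm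
    have hyH : y ∉ H := fun hyH => hxH (by
      have h1 : f x = f ⟨y, hHX hyH⟩ := g.symm.injective (by rw [hgfix y hyH])
      have h2 : x = ⟨y, hHX hyH⟩ := hinj h1
      rw [h2]; exact hyH)
    have hpol : ∀ h ∈ H, polar Q h y = polar Q h x := fun h hh => by
      conv_lhs => rw [← hgfix h hh]
      rw [hy, polar_map Q (map_add g.symm) hgsymm, polar, polar]
      rw [← map_add, hf, hf, hf]
      rfl
    obtain ⟨s, hs, hsx, hsH⟩ := exists_step Q hQ H hxH hyH (by rw [hy, hgsymm, hf]) hpol
    refine ⟨s.trans g, fun v => by rw [LinearEquiv.trans_apply, hg, hs], fun v => ?_⟩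
    have hv : (v : V) - φ v • (x : V) ∈ H := ⟨v - φ v • x, by
      show φ (v - φ v • x) = 0
      rw [map_sub, map_smul, hφx, smul_eq_mul, mul_one, sub_self], by simp⟩
    have e := hgH ⟨_, hv⟩
    rw [LinearEquiv.trans_apply, show (v : V) = ((v : V) - φ v • (x : V)) + φ v • (x : V) by abel, map_add, map_smul,
      hsH _ hv, hsx, map_add, map_smul, hy, LinearEquiv.apply_symm_apply, e]
    show f _ + φ v • f x = f v
    rw [← map_smul, ← map_add]
    exact congrArg f (Subtype.ext (by simp))

end quadratic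

end Cfsg.Agent.Classical.WittExt
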