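import Cfsg.Agent.Lib.Classical.Spinor
import Cfsg.Agent.Lib.Classical.WittExt

/-!
The commutator subgroup of a finite orthogonal group: squares, and characteristic two.
-/

set_option autoImplicit false
set_option linter.style.haveILetI false

open Matrix QuadraticMap Module

namespace Cfsg.Agent.Classical.Refl

variable {F : Type*} [Field F] [Fintype F] {ι : Type} [Fintype ι] [DecidableEq ι] (Q : QuadraticForm F (ι → F))
variable (hQ : (polarBilin Q).Nondegenerate)

/-- An isometric linear automorphism as an element of the isometry group. -/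
noncomputable def ofLin (g : (ι → F) ≃ₗ[F] (ι → F)) (hg : ∀ v, Q (g v) = Q v) : O Q :=
  ⟨Matrix.GeneralLinearGroup.mkOfDetNeZero (LinearMap.toMatrix' g.toLinearMap) (by
    rw [LinearMap.det_toMatrix']; exact (LinearEquiv.isUnit_det' g).ne_zero),
    fun u _ => by
      show Q (LinearMap.toMatrix' g.toLinearMap *ᵥ u) = Q u
      rw [LinearMap.toMatrix'_mulVec]; exact hg u⟩

theorem act_ofLin (g : (ι → F) ≃ₗ[F] (ι → F)) (hg : ∀ v, Q (g v) = Q v) (v : ι → F) :
    act Q (ofLin Q g hg) v = g v := by
  show LinearMap.toMatrix' g.toLinearMap *ᵥ v = g v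
  rw [LinearMap.toMatrix'_mulVec]; rfl

/-- The squares of elements of determinant one. -/
def Sq : Subgroup (O Q) :=
  Subgroup.closure {x : O Q | ∃ g : O Q, g ∈ Cfsg.specialIsometryGroup F ⇑Q ∧ g * g = x}

instance Sq_normal : (Sq Q).Normal := by
  refine ⟨fun x hx h => ?_⟩
  induction hx using Subgroup.closure_induction with
  | mem x hx =>
    obtain ⟨g, hg, rfl⟩ := hx
    exact Subgroup.subset_closure ⟨h * g * h⁻¹, (MonoidHom.normal_ker _).conj_mem g hg h, by group⟩
  | one => simp
  | mul x y _ _ hx hy =>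
    rw [show h * (x * y) * h⁻¹ = (h * x * h⁻¹) * (h * y * h⁻¹) by group]; exact mul_mem hx hy
  | inv x _ hx =>
    rw [show h * x⁻¹ * h⁻¹ = (h * x * h⁻¹)⁻¹ by group]; exact inv_mem hx

theorem refl_pair_mem (u : ι → F) (hu : Q u ≠ 0) (v : ι → F) (hv : Q v ≠ 0) :
    refl Q u hu * refl Q v hv ∈ Cfsg.specialIsometryGroup F ⇑Q := by
  refine MonoidHom.mem_ker.2 (Units.ext ?_)
  show ((Cfsg.reflectionMatrix (⇑Q) u) * Cfsg.reflectionMatrix (⇑Q) v).det = 1
  rw [Matrix.det_mul, Quad.reflection_det Q hu, Quad.reflection_det Q hv]; ring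

include hQ in
theorem commutator_le_Sq (hex : Fintype.card F ≠ 2 ∨ Fintype.card ι ≠ 4) : commutator (O Q) ≤ Sq Q := by
  set π := QuotientGroup.mk' (Sq Q) with hπ
  have hrr : ∀ u hu v hv, π (refl Q u hu) * π (refl Q v hv) = π (refl Q v hv) * π (refl Q u hu) := by
    intro u hu v hv
    rw [← map_mul, ← map_mul, hπ, QuotientGroup.mk'_apply, QuotientGroup.mk'_apply, QuotientGroup.eq]
    refine Subgroup.subset_closure ⟨refl Q v hv * refl Q u hu, refl_pair_mem Q v hv u hu, ?_⟩
    rw [_root_.mul_inv_rev, refl_inv, refl_inv]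
  have hR : ∀ g : O Q, g ∈ R Q := fun g => eq_top Q hQ hex ▸ Subgroup.mem_top g
  have h1 : ∀ u hu (g : O Q), π (refl Q u hu) * π g = π g * π (refl Q u hu) := by
    intro u hu g
    induction hR g using Subgroup.closure_induction with
    | mem x hx =>
      obtain ⟨v, hv, he⟩ := hx
      obtain rfl : x = refl Q v hv := Subtype.ext (Units.ext he)
      exact hrr u hu v hv
    | one => rw [map_one, mul_one, one_mul]
    | mul x y _ _ hx hy => rw [map_mul, ← mul_assoc, hx, mul_assoc, hy, mul_assoc]
    | inv x _ hx => rw [map_inv]; exact (Commute.inv_right hx)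
  have h2 : ∀ g h : O Q, π g * π h = π h * π g := by
    intro g h
    induction hR g using Subgroup.closure_induction with
    | mem x hx =>
      obtain ⟨v, hv, he⟩ := hx
      obtain rfl : x = refl Q v hv := Subtype.ext (Units.ext he)
      exact h1 v hv h
    | one => rw [map_one, mul_one, one_mul]
    | mul x y _ _ hx hy => rw [map_mul, mul_assoc, hy, ← mul_assoc, hx, mul_assoc]
    | inv x _ hx => rw [map_inv]; exact (Commute.inv_left hx)
  rw [commutator_def, Subgroup.commutator_le]
  intro g _ h _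
  rw [← QuotientGroup.eq_one_iff, ← QuotientGroup.mk'_apply, map_commutatorElement, commutatorElement_eq_one_iff_mul_comm]
  exact h2 g h

section charTwo

variable [CharP F 2]

include hQ

theorem det_eq_one (g : O Q) : g ∈ Cfsg.specialIsometryGroup F ⇑Q := by
  refine MonoidHom.mem_ker.2 (Units.ext ?_)
  show ((g : GL ι F) : Matrix ι ι F).det = 1
  rcases mul_self_eq_one_iff.1 (Quad.det_sq_eq_one Q hQ fun x => g.2 x x) with h | h
  · exact h
  · exact h.trans (CharTwo.neg_eq 1)

omit [Fintype F] [CharP F 2] in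
theorem exists_nonsingular (hn : 1 ≤ Fintype.card ι) : ∃ v, Q v ≠ 0 := by
  by_contra h
  push Not at h
  haveI : Nontrivial (ι → F) := Module.nontrivial_of_finrank_pos (R := F) (by rw [finrank_pi]; omega)
  obtain ⟨x, hx⟩ := exists_ne (0 : ι → F)
  exact hx (hQ.1 x fun y => by show polar Q x y = 0; rw [polar, h, h, h]; ring)

theorem refl_conj_char_two {u w : ι → F} (hu : Q u ≠ 0) (hw : Q w ≠ 0) :
    ∃ g : O Q, refl Q u hu = g * refl Q w hw * g⁻¹ := by
  obtain ⟨a, ha⟩ := FiniteField.isSquare_of_char_two (ringChar.eq F 2) (Q u / Q w)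
  have ha0 : a ≠ 0 := fun e => div_ne_zero hu hw (by rw [ha, e, mul_zero])
  have hQa : Q (a • w) = Q u := by rw [QuadraticMap.map_smul, smul_eq_mul, ← ha, div_mul_cancel₀ _ hw]
  have hne : ∀ x, Q x ≠ 0 → x ∉ (⊥ : Submodule F (ι → F)) := fun x hx h => hx (by
    rw [(Submodule.mem_bot F).1 h, QuadraticMap.map_zero])
  obtain ⟨g, hg, hgx, -⟩ := WittExt.exists_step Q hQ ⊥ (hne _ (by rw [hQa]; exact hu)) (hne u hu) hQa.symm
    (fun h hh => by rw [(Submodule.mem_bot F).1 hh, polar_zero_left, polar_zero_left])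
  refine ⟨ofLin Q g hg, ?_⟩
  have h1 := refl_conj Q (ofLin Q g hg) (a • w) (by rw [hQa]; exact hu)
  rw [refl_smul Q w hw ha0] at h1
  rw [h1]
  simp only [act_ofLin, hgx]

theorem ker_dickson (hn : 1 ≤ Fintype.card ι) (hex : Fintype.card F ≠ 2 ∨ Fintype.card ι ≠ 4) :
    (dickson Q hQ hex).ker = commutator (O Q) := by
  refine le_antisymm (fun g hg => ?_) (Abelianization.commutator_subset_ker _)
  obtain ⟨w, hw⟩ := exists_nonsingular Q hQ hn
  set π := QuotientGroup.mk' (commutator (O Q)) with hπ
  have hcomm : ∀ x y : O Q ⧸ commutator (O Q), x * y = y * x := fun x y => (Abelianization.commGroup (O Q)).mul_comm x y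
  set a := π (refl Q w hw) with ha
  have haa : a * a = 1 := by rw [ha, ← map_mul, refl_mul_self, map_one]
  have hrefl : ∀ v (hv : Q v ≠ 0), π (refl Q v hv) = a := by
    intro v hv
    obtain ⟨h, e⟩ := refl_conj_char_two Q hQ hv hw
    rw [e, map_mul, map_mul, hcomm (π h), mul_assoc, ← map_mul, mul_inv_cancel, map_one, mul_one]
  have key : ∀ g : O Q, π g = 1 ∨ π g = a := by
    intro g
    induction (eq_top Q hQ hex ▸ Subgroup.mem_top g : g ∈ R Q) using Subgroup.closure_induction with
    | mem x hx =>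
      obtain ⟨v, hv, he⟩ := hx
      obtain rfl : x = refl Q v hv := Subtype.ext (Units.ext he)
      exact Or.inr (hrefl v hv)
    | one => exact Or.inl (map_one π)
    | mul x y _ _ hx hy =>
      rw [map_mul]
      rcases hx with hx | hx <;> rcases hy with hy | hy <;> simp [hx, hy, haa]
    | inv x _ hx =>
      rw [map_inv]
      rcases hx with hx | hx
      · simp [hx]
      · right; rw [hx]; exact inv_eq_of_mul_eq_one_right haa
  rcases key g with h | h
  · exact (QuotientGroup.eq_one_iff g).1 h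
  · exfalso
    have hle : commutator (O Q) ≤ (dickson Q hQ hex).ker := Abelianization.commutator_subset_ker _
    have := hle ((QuotientGroup.eq (s := commutator (O Q))).1 h)
    rw [MonoidHom.mem_ker, map_mul, map_inv, MonoidHom.mem_ker.1 hg, inv_one, one_mul, dickson_refl Q hQ hex w hw] at this
    exact absurd this (by decide)

theorem index_commutator_char_two (hn : 1 ≤ Fintype.card ι) (hex : Fintype.card F ≠ 2 ∨ Fintype.card ι ≠ 4) :
    (commutator (O Q)).index = 2 := by
  obtain ⟨w, hw⟩ := exists_nonsingular Q hQ hn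
  have hs : Function.Surjective (dickson Q hQ hex) := fun a => by
    rcases Int.units_eq_one_or a with rfl | rfl
    · exact ⟨1, map_one _⟩
    · exact ⟨_, dickson_refl Q hQ hex w hw⟩
  rw [← ker_dickson Q hQ hn hex, Subgroup.index_ker, MonoidHom.range_eq_top.2 hs, Subgroup.card_top, Nat.card_eq_fintype_card]
  rfl

end charTwo

end Cfsg.Agent.Classical.Refl
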