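import Cfsg.Agent.Lib.Classical.OrthBasis
import Cfsg.Prelude.Def_Classical
import Cfsg.Prelude.Def_LieClassical

/-!
The standard Hermitian form: norm counts, orders and centres of unitary groups.
-/

set_option autoImplicit false
set_option linter.style.haveILetI false
set_option linter.unusedSectionVars false

namespace Cfsg.Agent.Classical.Unitary

open Matrix

variable {F : Type*} [Field F] [Fintype F] {q : ℕ} (hF : Fintype.card F = q ^ 2)

include hF

theorem one_lt_q : 1 < q := by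
  have := Fintype.one_lt_card (α := F)
  rw [hF] at this
  rcases Nat.lt_or_ge 1 q with h | h
  · exact h
  · interval_cases q <;> simp at this

theorem exists_frob : ∃ σ : F →+* F, (∀ a, σ a = a ^ q) ∧ σ ≠ RingHom.id F ∧ ∀ a, σ (σ a) = a := by
  obtain ⟨n, hp, hn⟩ := FiniteField.card F (ringChar F)
  haveI : Fact (ringChar F).Prime := ⟨hp⟩
  haveI : ExpChar F (ringChar F) := ExpChar.prime hp
  obtain ⟨k, -, rfl⟩ := (Nat.dvd_prime_pow hp).1 (show q ∣ ringChar F ^ (n : ℕ) by
    rw [← hn, hF, sq]; exact dvd_mul_right q q)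
  refine ⟨iterateFrobenius F (ringChar F) k, fun a => iterateFrobenius_def (ringChar F) k a, fun e => ?_, fun a => ?_⟩
  · have hq := one_lt_q hF
    obtain ⟨g, hg⟩ := IsCyclic.exists_generator (α := Fˣ)
    have h1 : ((g : F)) ^ (ringChar F ^ k) = (g : F) := by
      rw [← iterateFrobenius_def, e]; rfl
    have h2 : g ^ (ringChar F ^ k - 1) = 1 := by
      refine mul_right_cancel (b := g) ?_
      rw [← pow_succ, Nat.sub_add_cancel hq.le, one_mul]
      exact Units.ext (by rw [Units.val_pow_eq_pow_val]; exact h1)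
    have hd := Nat.le_of_dvd (by omega) (orderOf_dvd_of_pow_eq_one h2)
    rw [orderOf_eq_card_of_forall_mem_zpowers hg, Nat.card_units, Nat.card_eq_fintype_card, hF] at hd
    generalize ringChar F ^ k = Q at hd hq
    nlinarith [Nat.sub_add_cancel (show 1 ≤ Q ^ 2 by nlinarith), Nat.sub_add_cancel (show 1 ≤ Q by omega)]
  · rw [iterateFrobenius_def, iterateFrobenius_def, ← pow_mul, ← sq, ← hF, FiniteField.pow_card]

omit [Fintype F] hF in
theorem herm_cons (n : ℕ) (x y : F) (u v : Fin n → F) :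
    Cfsg.hermForm (n + 1) F q (Fin.cons x u) (Fin.cons y v) = x * y ^ q + Cfsg.hermForm n F q u v := by
  simp [Cfsg.hermForm, Fin.sum_univ_succ]

theorem herm_self_fixed (n : ℕ) (v : Fin n → F) :
    Cfsg.hermForm n F q v v ^ q = Cfsg.hermForm n F q v v := by
  obtain ⟨σ, hσ, -, hσ2⟩ := exists_frob hF
  rw [← hσ, Cfsg.hermForm, map_sum]
  refine Finset.sum_congr rfl fun i _ => ?_
  rw [map_mul, ← hσ (v i), hσ2, mul_comm]

theorem exists_scale {a : F} (ha : a ≠ 0) (hfix : a ^ q = a) : ∃ c : F, c * c ^ q = a := by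
  obtain ⟨σ, hσ, hσ1, hσ2⟩ := exists_frob hF
  obtain ⟨c, hc⟩ := OrthBasis.exists_norm hσ1 hσ2 ha (by rw [hσ, hfix])
  exact ⟨c, by rw [← hσ, mul_comm, hc]⟩

theorem card_pow_eq_one {d : ℕ} (hd : d ∣ q ^ 2 - 1) :
    Nat.card (powMonoidHom d : Fˣ →* Fˣ).ker = d := by
  rw [IsCyclic.card_powMonoidHom_ker, Nat.card_units, Nat.card_eq_fintype_card, hF]
  exact Nat.gcd_eq_right hd

theorem sq_sub_one : q ^ 2 - 1 = (q + 1) * (q - 1) := by
  simpa using Nat.sq_sub_sq q 1

theorem card_fixed_nonzero : Nat.card {a : F // a ≠ 0 ∧ a ^ q = a} = q - 1 := by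
  have hq := one_lt_q hF
  rw [← card_pow_eq_one hF (show q - 1 ∣ q ^ 2 - 1 by rw [sq_sub_one hF]; exact dvd_mul_left _ _)]
  refine Nat.card_congr
    { toFun := fun a => ⟨Units.mk0 a.1 a.2.1, ?_⟩
      invFun := fun u => ⟨(u.1 : F), u.1.ne_zero, ?_⟩
      left_inv := fun a => rfl
      right_inv := fun u => Subtype.ext (Units.ext rfl) }
  · rw [MonoidHom.mem_ker, powMonoidHom_apply]
    refine Units.ext (mul_right_cancel₀ a.2.1 ?_)
    rw [Units.val_pow_eq_pow_val, Units.val_mk0, ← pow_succ, Nat.sub_add_cancel hq.le, a.2.2,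
      Units.val_one, one_mul]
  · have h := congrArg (fun x : Fˣ => (x : F) * (u.1 : F)) u.2
    simp only [powMonoidHom_apply, Units.val_pow_eq_pow_val, Units.val_one, one_mul] at h
    rwa [← pow_succ, Nat.sub_add_cancel hq.le] at h

/-- Number of vectors of a given norm. -/
noncomputable abbrev cnt (n : ℕ) (F : Type*) [Field F] (q : ℕ) (a : F) : ℕ :=
  Nat.card {v : Fin n → F // Cfsg.hermForm n F q v v = a}

theorem cnt_eq_one (n : ℕ) {a : F} (ha : a ≠ 0) (hfix : a ^ q = a) :
    cnt n F q a = cnt n F q 1 := by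
  obtain ⟨c, hc⟩ := exists_scale hF ha hfix
  have hc0 : c ≠ 0 := fun e => ha (by rw [← hc, e, zero_mul])
  have hsc : ∀ v : Fin n → F, Cfsg.hermForm n F q (c • v) (c • v) = a * Cfsg.hermForm n F q v v := by
    intro v
    simp only [Cfsg.hermForm, Finset.mul_sum, Pi.smul_apply, smul_eq_mul, mul_pow]
    refine Finset.sum_congr rfl fun i _ => ?_
    rw [← hc]; ring
  symm
  refine Nat.card_congr ((LinearEquiv.smulOfNeZero F (Fin n → F) c hc0).toEquiv.subtypeEquiv fun v => ?_)
  show _ ↔ Cfsg.hermForm n F q (c • v) (c • v) = a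
  rw [hsc]
  exact ⟨fun h => by rw [h, mul_one], fun h => (mul_eq_left₀ ha).1 h⟩

theorem cnt_total (n : ℕ) : cnt n F q 0 + (q - 1) * cnt n F q 1 = q ^ (2 * n) := by
  classical
  let Fix : Finset F := Finset.univ.filter fun a => a ≠ 0 ∧ a ^ q = a
  have hFix : Fix.card = q - 1 := by
    rw [← card_fixed_nonzero hF, Nat.card_eq_fintype_card, Fintype.card_subtype]
  have hmaps : ∀ v ∈ (Finset.univ : Finset (Fin n → F)), Cfsg.hermForm n F q v v ∈ insert 0 Fix := by
    intro v _
    by_cases h : Cfsg.hermForm n F q v v = 0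
    · rw [h]; exact Finset.mem_insert_self _ _
    · exact Finset.mem_insert_of_mem (Finset.mem_filter.2 ⟨Finset.mem_univ _, h, herm_self_fixed hF n v⟩)
  have h := Finset.card_eq_sum_card_fiberwise hmaps
  rw [Finset.card_univ, Fintype.card_fun, Fintype.card_fin, hF, ← pow_mul,
    Finset.sum_insert (by simp [Fix])] at h
  rw [h]
  congr 1
  · simp only [cnt, Nat.card_eq_fintype_card, Fintype.card_subtype]
  · rw [Finset.sum_congr rfl (g := fun _ => cnt n F q 1) fun a ha => ?_, Finset.sum_const, hFix, smul_eq_mul]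
    rw [← cnt_eq_one hF n (Finset.mem_filter.1 ha).2.1 (Finset.mem_filter.1 ha).2.2]
    simp only [cnt, Nat.card_eq_fintype_card, Fintype.card_subtype]

theorem cnt_zero_succ (n : ℕ) :
    cnt (n + 1) F q 0 = cnt n F q 0 + (q ^ 2 - 1) * cnt n F q 1 := by
  classical
  obtain ⟨σ, hσ, -, hσ2⟩ := exists_frob hF
  have e : {v : Fin (n + 1) → F // Cfsg.hermForm (n + 1) F q v v = 0} ≃
      Σ x : F, {w : Fin n → F // Cfsg.hermForm n F q w w = -(x * x ^ q)} :=
    { toFun := fun v => ⟨v.1 0, ⟨Fin.tail v.1, by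
        have h := v.2
        rw [← Fin.cons_self_tail v.1, herm_cons] at h
        linear_combination h⟩⟩
      invFun := fun p => ⟨Fin.cons p.1 p.2.1, by rw [herm_cons, p.2.2]; ring⟩
      left_inv := fun v => Subtype.ext (Fin.cons_self_tail v.1)
      right_inv := fun p => by obtain ⟨x, w, hw⟩ := p; rfl }
  have hne : ∀ x ∈ (Finset.univ : Finset F).erase 0, cnt n F q (-(x * x ^ q)) = cnt n F q 1 := by
    intro x hx
    have hx0 := Finset.ne_of_mem_erase hx
    refine cnt_eq_one hF n (neg_ne_zero.2 (mul_ne_zero hx0 (pow_ne_zero _ hx0))) ?_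
    rw [← hσ, map_neg, map_mul, ← hσ x, hσ2, mul_comm]
  show Nat.card _ = _
  rw [Nat.card_congr e, Nat.card_sigma, ← Finset.add_sum_erase _ _ (Finset.mem_univ (0 : F))]
  show cnt n F q (-(0 * 0 ^ q)) + ∑ x ∈ Finset.univ.erase 0, cnt n F q (-(x * x ^ q)) = _
  rw [Finset.sum_congr rfl hne, Finset.sum_const, Finset.card_erase_of_mem (Finset.mem_univ _),
    Finset.card_univ, hF, smul_eq_mul, zero_mul, neg_zero]

theorem cnt_one_succ (n : ℕ) : cnt (n + 1) F q 1 + q * cnt n F q 1 = q ^ (2 * n) * (q + 1) := by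
  have h1 := cnt_total hF n
  have h2 := cnt_total hF (n + 1)
  rw [cnt_zero_succ hF, sq_sub_one hF] at h2
  have hq := one_lt_q hF
  obtain ⟨r, rfl⟩ : ∃ r, q = r + 2 := ⟨q - 2, by omega⟩
  rw [show r + 2 - 1 = r + 1 by omega] at h1 h2
  refine Nat.eq_of_mul_eq_mul_left (show 0 < r + 1 by omega) ?_
  have h3 : (r + 2) ^ (2 * (n + 1)) = (r + 2) ^ (2 * n) * (r + 2) ^ 2 := by rw [mul_add, pow_add, mul_one]
  rw [h3] at h2
  nlinarith [h1, h2]

theorem cnt_one (n : ℕ) : (cnt n F q 1 : ℤ) * q = (q : ℤ) ^ n * ((q : ℤ) ^ n - (-1) ^ n) := by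
  induction n with
  | zero =>
    haveI : IsEmpty {v : Fin 0 → F // Cfsg.hermForm 0 F q v v = 1} :=
      ⟨fun v => zero_ne_one (α := F) (by simpa [Cfsg.hermForm] using v.2)⟩
    simp [cnt]
  | succ n ih =>
    have h : (cnt (n + 1) F q 1 : ℤ) + q * cnt n F q 1 = (q : ℤ) ^ (2 * n) * (q + 1) := by
      exact_mod_cast cnt_one_succ hF n
    have h3 : (q : ℤ) ^ (2 * n) = (q : ℤ) ^ n * (q : ℤ) ^ n := by rw [two_mul, pow_add]
    rw [h3] at h
    rw [pow_succ, pow_succ]
    linear_combination (q : ℤ) * h - (q : ℤ) * ih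

theorem cnt_one_eq (n : ℕ) : cnt n F q 1 =
    if Even n then q ^ (n - 1) * (q ^ n - 1) else q ^ (n - 1) * (q ^ n + 1) := by
  have hq := one_lt_q hF
  rcases Nat.eq_zero_or_pos n with rfl | hn
  · haveI : IsEmpty {v : Fin 0 → F // Cfsg.hermForm 0 F q v v = 1} :=
      ⟨fun v => zero_ne_one (α := F) (by simpa [Cfsg.hermForm] using v.2)⟩
    simp [cnt]
  · obtain ⟨k, rfl⟩ : ∃ k, n = k + 1 := ⟨n - 1, by omega⟩
    have h := cnt_one hF (k + 1)
    rw [Nat.add_sub_cancel]
    refine Nat.cast_injective (R := ℤ) (mul_right_cancel₀ (show (q : ℤ) ≠ 0 by positivity) (h.trans ?_))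
    rcases Nat.even_or_odd (k + 1) with he | he
    · rw [if_pos he, he.neg_one_pow, Nat.cast_mul, Nat.cast_sub (Nat.one_le_pow _ _ (by omega))]
      push_cast
      ring
    · rw [if_neg (Nat.not_even_iff_odd.2 he), he.neg_one_pow]
      push_cast
      ring

theorem cnt_zero_eq (n : ℕ) : cnt n F q 0 =
    (if Even n then (q ^ n - 1) * (q ^ (n - 1) + 1) else (q ^ n + 1) * (q ^ (n - 1) - 1)) + 1 := by
  have hq := one_lt_q hF
  have h := cnt_total hF n
  rw [cnt_one_eq hF] at h
  rcases Nat.eq_zero_or_pos n with rfl | hn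
  · simp at h ⊢; omega
  · obtain ⟨k, rfl⟩ : ∃ k, n = k + 1 := ⟨n - 1, by omega⟩
    rw [Nat.add_sub_cancel] at h ⊢
    zify at h ⊢
    have h1 : (1 : ℕ) ≤ q ^ (k + 1) := Nat.one_le_pow _ _ (by omega)
    have h1' : (1 : ℕ) ≤ q ^ k := Nat.one_le_pow _ _ (by omega)
    rcases Nat.even_or_odd (k + 1) with he | he
    · rw [if_pos he] at h ⊢
      push_cast [Nat.cast_sub h1, Nat.cast_sub h1', Nat.cast_sub hq.le] at h ⊢
      rw [show 2 * (k + 1) = (k + 1) + (k + 1) by ring, pow_add, pow_succ] at h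
      rw [pow_succ]
      linear_combination h
    · rw [if_neg (Nat.not_even_iff_odd.2 he)] at h ⊢
      push_cast [Nat.cast_sub h1, Nat.cast_sub h1', Nat.cast_sub hq.le] at h ⊢
      rw [show 2 * (k + 1) = (k + 1) + (k + 1) by ring, pow_add, pow_succ] at h
      rw [pow_succ]
      linear_combination h

/-- Orthonormal families. -/
abbrev Frames (n : ℕ) (F : Type*) [Field F] (q k : ℕ) : Type _ :=
  {r : Fin k → (Fin n → F) // ∀ i j, Cfsg.hermForm n F q (r i) (r j) = if i = j then 1 else 0}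

theorem exists_sesq (n : ℕ) : ∃ (σ : F →+* F) (B : (Fin n → F) →ₛₗ[σ] (Fin n → F) →ₗ[F] F),
    σ ≠ RingHom.id F ∧ (∀ a, σ (σ a) = a) ∧ B.IsSymm ∧ ∀ x y, B x y = Cfsg.hermForm n F q y x := by
  obtain ⟨σ, hσ, hσ1, hσ2⟩ := exists_frob hF
  let B : (Fin n → F) →ₛₗ[σ] (Fin n → F) →ₗ[F] F :=
    LinearMap.mk₂'ₛₗ σ (RingHom.id F) (fun x y => ∑ i, y i * σ (x i))
      (fun x x' y => by simp [mul_add, Finset.sum_add_distrib])
      (fun c x y => by simp [Finset.mul_sum, mul_left_comm])
      (fun x y y' => by simp [add_mul, Finset.sum_add_distrib])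
      (fun c x y => by simp [Finset.mul_sum, mul_assoc])
  refine ⟨σ, B, hσ1, hσ2, ⟨fun x y => ?_⟩, fun x y => ?_⟩
  · show σ (∑ i, y i * σ (x i)) = ∑ i, x i * σ (y i)
    rw [map_sum]
    exact Finset.sum_congr rfl fun i _ => by rw [map_mul, hσ2, mul_comm]
  · show ∑ i, y i * σ (x i) = _
    simp only [hσ, Cfsg.hermForm]

theorem card_fibre (n k : ℕ) (r : Frames n F q k) :
    Nat.card {v : Fin n → F // Cfsg.hermForm n F q v v = 1 ∧ ∀ i, Cfsg.hermForm n F q v (r.1 i) = 0} =
      cnt (n - k) F q 1 := by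
  classical
  obtain ⟨σ, B, hσ1, hσ2, hS, hB⟩ := exists_sesq hF n
  have hr : ∀ i j, B (r.1 i) (r.1 j) = if i = j then 1 else 0 := fun i j => by
    rw [hB, r.2]; simp only [eq_comm]
  let φ : (Fin n → F) →ₗ[F] (Fin k → F) := LinearMap.pi fun i => B (r.1 i)
  have hs : Function.Surjective φ := fun c => ⟨∑ i, c i • r.1 i, funext fun j => by
    simp [φ, map_sum, hr]⟩
  have hker : Module.finrank F (LinearMap.ker φ) = n - k := by
    have h := LinearMap.finrank_range_add_finrank_ker φ
    rw [LinearMap.range_eq_top.2 hs, finrank_top, Module.finrank_pi, Module.finrank_pi,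
      Fintype.card_fin, Fintype.card_fin] at h
    omega
  have hnd : OrthBasis.NondegOn B (LinearMap.ker φ) := by
    intro w hw hw0
    have hwr : ∀ i, B w (r.1 i) = 0 := fun i => by
      rw [← hS.eq, show B (r.1 i) w = 0 from congrFun hw i, map_zero]
    have hall : ∀ y, B w y = 0 := by
      intro y
      have hm : y - ∑ i, B (r.1 i) y • r.1 i ∈ LinearMap.ker φ := by
        rw [LinearMap.mem_ker]
        funext j
        simp [φ, map_sum, hr]
      have := hw0 _ hm
      simpa [map_sum, hwr] using this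
    funext i
    have h1 := hall (Pi.single i 1)
    rw [hB] at h1
    have h2 : (w i) ^ q = 0 := by
      simpa [Cfsg.hermForm, Pi.single_apply] using h1
    exact pow_eq_zero_iff (by have := one_lt_q hF; omega : q ≠ 0) |>.1 h2
  obtain ⟨b, hbm, hb⟩ := OrthBasis.exists_orthonormal B hσ1 hσ2 hS (n - k) (LinearMap.ker φ) hnd hker
  let L : (Fin (n - k) → F) →ₗ[F] (Fin n → F) := Fintype.linearCombination F b
  have hL : ∀ c, L c = ∑ i, c i • b i := fun c => Fintype.linearCombination_apply F b c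
  have hcoord : ∀ c j, B (b j) (L c) = c j := fun c j => by
    simp [hL, map_sum, hb]
  have hLh : ∀ c, Cfsg.hermForm n F q (L c) (L c) = Cfsg.hermForm (n - k) F q c c := by
    intro c
    rw [← hB]
    obtain ⟨τ, hτ, -, -⟩ := exists_frob hF
    conv_lhs => rw [hL]
    rw [map_sum]
    simp only [map_smul, smul_eq_mul]
    have hb' : ∀ i, B (∑ j, c j • b j) (b i) = σ (c i) := fun i => by rw [← hL, ← hS.eq, hcoord]
    simp only [hb', Cfsg.hermForm]
    refine Finset.sum_congr rfl fun i _ => ?_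
    have hn0 : 0 < n := Nat.lt_of_lt_of_le (Nat.zero_lt_of_lt i.isLt) (Nat.sub_le _ _)
    have hσq : σ (c i) = c i ^ q := by
      have h := hB (Pi.single (⟨0, hn0⟩ : Fin n) (c i)) (Pi.single ⟨0, hn0⟩ 1)
      rw [show (Pi.single (⟨0, hn0⟩ : Fin n) (c i) : Fin n → F) =
        c i • Pi.single ⟨0, hn0⟩ 1 by rw [← Pi.single_smul, smul_eq_mul, mul_one],
        LinearMap.map_smulₛₗ, LinearMap.smul_apply, hB, smul_eq_mul] at h
      have hq0 : q ≠ 0 := by have := one_lt_q hF; omega
      simpa [Cfsg.hermForm, Pi.single_apply, mul_pow, hq0] using h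
    rw [hσq]
  have hmem : ∀ c, L c ∈ LinearMap.ker φ := fun c => by
    rw [hL]; exact sum_mem fun i _ => Submodule.smul_mem _ _ (hbm i)
  symm
  refine Nat.card_congr (Equiv.ofBijective (fun c => (⟨L c.1, (hLh c.1).trans c.2, fun i => ?_⟩ :
    {v : Fin n → F // Cfsg.hermForm n F q v v = 1 ∧ ∀ i, Cfsg.hermForm n F q v (r.1 i) = 0})) ⟨?_, ?_⟩)
  · rw [← hB]
    exact congrFun (hmem c.1) i
  · intro c c' e
    refine Subtype.ext (funext fun j => ?_)
    have h := congrArg (fun v : {v : Fin n → F // Cfsg.hermForm n F q v v = 1 ∧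
      ∀ i, Cfsg.hermForm n F q v (r.1 i) = 0} => B (b j) v.1) e
    simpa [hcoord] using h
  · rintro ⟨v, hv1, hv⟩
    have hvk : v ∈ LinearMap.ker φ := funext fun i => by
      show B (r.1 i) v = 0
      rw [hB]; exact hv i
    have hspan : v ∈ LinearMap.range L := by
      have hle : LinearMap.range L ≤ LinearMap.ker φ := by rintro _ ⟨c, rfl⟩; exact hmem c
      have hinj : Function.Injective L := fun c c' e => funext fun j => by
        rw [← hcoord c j, ← hcoord c' j, e]
      have : LinearMap.range L = LinearMap.ker φ := Submodule.eq_of_le_of_finrank_le hle (by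
        rw [LinearMap.finrank_range_of_inj hinj, Module.finrank_pi, Fintype.card_fin, hker])
      rw [this]; exact hvk
    obtain ⟨c, rfl⟩ := hspan
    exact ⟨⟨c, (hLh c).symm.trans hv1⟩, rfl⟩

theorem card_frames_succ (n k : ℕ) :
    Nat.card (Frames n F q (k + 1)) = Nat.card (Frames n F q k) * cnt (n - k) F q 1 := by
  classical
  obtain ⟨σ, B, -, -, hS, hB⟩ := exists_sesq hF n
  let e : Frames n F q (k + 1) ≃ Σ r : Frames n F q k,
      {v : Fin n → F // Cfsg.hermForm n F q v v = 1 ∧ ∀ i, Cfsg.hermForm n F q v (r.1 i) = 0} :=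
    { toFun := fun s => ⟨⟨Fin.tail s.1, fun i j => by
          simpa [Fin.tail] using s.2 i.succ j.succ⟩,
        ⟨s.1 0, by simpa using s.2 0 0, fun i => by
          simpa [Fin.tail, (Fin.succ_ne_zero i).symm] using s.2 0 i.succ⟩⟩
      invFun := fun p => ⟨Fin.cons p.2.1 p.1.1, by
        refine Fin.cases ?_ fun i => ?_
        · refine Fin.cases ?_ fun j => ?_
          · simpa using p.2.2.1
          · simpa [(Fin.succ_ne_zero j).symm] using p.2.2.2 j
        · refine Fin.cases ?_ fun j => ?_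
          · simp only [Fin.cons_zero, Fin.cons_succ, Fin.succ_ne_zero, if_false]
            rw [← hB, ← hS.eq, hB, p.2.2.2 i, map_zero]
          · simpa using p.1.2 i j⟩
      left_inv := fun s => Subtype.ext (Fin.cons_self_tail s.1)
      right_inv := fun p => by obtain ⟨⟨r, hr⟩, ⟨v, hv⟩⟩ := p; rfl }
  haveI : Fintype (Frames n F q k) := Fintype.ofFinite _
  rw [Nat.card_congr e, Nat.card_sigma, Finset.sum_congr rfl fun r _ => card_fibre hF n k r,
    Finset.sum_const, Finset.card_univ, smul_eq_mul, ← Nat.card_eq_fintype_card]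

theorem frames_identity (n : ℕ) : ∀ k ≤ n,
    Nat.card (Frames n F q k) * ∏ i ∈ Finset.range (n - k), cnt (i + 1) F q 1 =
      ∏ i ∈ Finset.range n, cnt (i + 1) F q 1 := by
  intro k
  induction k with
  | zero =>
    intro _
    haveI : Unique (Frames n F q 0) :=
      { default := ⟨Fin.elim0, fun i => i.elim0⟩
        uniq := fun r => Subtype.ext (funext fun i => i.elim0) }
    simp
  | succ k ih =>
    intro hk
    rw [← ih (by omega), card_frames_succ hF, show n - k = n - (k + 1) + 1 by omega,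
      Finset.prod_range_succ]
    ring

theorem mem_GU_iff {n : ℕ} (g : GL (Fin n) F) :
    g ∈ Cfsg.GU n F q ↔ ∀ i j, Cfsg.hermForm n F q (fun k => (g : Matrix (Fin n) (Fin n) F) k i)
      (fun k => (g : Matrix (Fin n) (Fin n) F) k j) = if i = j then 1 else 0 := by
  obtain ⟨σ, B, -, -, -, hB⟩ := exists_sesq hF n
  constructor
  · intro hg i j
    have h := hg (Pi.single i 1) (Pi.single j 1)
    simp only [Units.coeHom_apply, Matrix.mulVec_single_one] at h
    refine h.trans ?_
    have hq0 : q ≠ 0 := by have := one_lt_q hF; omega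
    simp [Cfsg.hermForm, Pi.single_apply, hq0, eq_comm]
  · intro h u v
    show Cfsg.hermForm n F q ((g : Matrix (Fin n) (Fin n) F) *ᵥ u) ((g : Matrix (Fin n) (Fin n) F) *ᵥ v) = _
    rw [Matrix.mulVec_eq_sum, Matrix.mulVec_eq_sum]
    rw [← hB, ← hB]
    simp only [op_smul_eq_smul]
    have hcol : ∀ i j, B ((g : Matrix (Fin n) (Fin n) F).col i) ((g : Matrix (Fin n) (Fin n) F).col j) =
        if i = j then 1 else 0 := fun i j => by
      rw [hB]; simp only [eq_comm (a := i)]; exact h j i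
    have hstd : ∀ i j, B (Pi.single i 1 : Fin n → F) (Pi.single j 1) = if i = j then 1 else 0 := fun i j => by
      have hq0 : q ≠ 0 := by have := one_lt_q hF; omega
      rw [hB]; simp [Cfsg.hermForm, Pi.single_apply, hq0, eq_comm]
    have hbas : ∀ w : Fin n → F, w = ∑ i, w i • (Pi.single i 1 : Fin n → F) := fun w => by
      funext i; simp [Finset.sum_apply, Pi.single_apply]
    conv_rhs => rw [hbas u, hbas v]
    simp only [map_sum, LinearMap.sum_apply, LinearMap.map_smulₛₗ, LinearMap.smul_apply, smul_eq_mul,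
      RingHom.id_apply]
    refine Finset.sum_congr rfl fun i _ => congrArg (u i * ·) (Finset.sum_congr rfl fun j _ => ?_)
    have h1 : B ((g : Matrix (Fin n) (Fin n) F)ᵀ j) ((g : Matrix (Fin n) (Fin n) F)ᵀ i) =
      B ((g : Matrix (Fin n) (Fin n) F).col j) ((g : Matrix (Fin n) (Fin n) F).col i) := rfl
    rw [h1, hcol, hstd]

theorem card_GU (n : ℕ) : Nat.card (Cfsg.GU n F q) =
    q ^ (n * (n - 1) / 2) * ∏ i ∈ Finset.range n, (if Even i then q ^ (i + 1) + 1 else q ^ (i + 1) - 1) := by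
  classical
  have h1 : Nat.card (Cfsg.GU n F q) = Nat.card (Frames n F q n) := by
    refine Nat.card_congr (Equiv.ofBijective
      (fun g => (⟨fun i k => ((g : GL (Fin n) F) : Matrix (Fin n) (Fin n) F) k i,
        (mem_GU_iff hF g.1).1 g.2⟩ : Frames n F q n)) ⟨?_, ?_⟩)
    · intro a b e
      refine Subtype.ext (Units.ext ?_)
      ext i j
      exact congrFun (congrFun (congrArg Subtype.val e) j) i
    · rintro ⟨r, hr⟩
      obtain ⟨σ, B, -, -, -, hB⟩ := exists_sesq hF n
      have hli : LinearIndependent F r := OrthBasis.independent_of_orth B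
        (fun i j hij => by rw [hB, hr, if_neg (Ne.symm hij)])
        (fun i => by rw [hB, hr, if_pos rfl]; exact one_ne_zero)
      let M : Matrix (Fin n) (Fin n) F := Matrix.of fun k i => r i k
      have hM : IsUnit M := by
        rw [← Matrix.linearIndependent_cols_iff_isUnit]
        exact hli
      exact ⟨⟨hM.unit, (mem_GU_iff hF _).2 (fun i j => hr i j)⟩, rfl⟩
  have h2 := frames_identity hF n n le_rfl
  rw [Nat.sub_self, Finset.prod_range_zero, mul_one] at h2
  rw [h1, h2, ← Finset.sum_range_id, ← Finset.prod_pow_eq_pow_sum, ← Finset.prod_mul_distrib]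
  refine Finset.prod_congr rfl fun i _ => ?_
  rw [cnt_one_eq hF, Nat.add_sub_cancel]
  rcases Nat.even_or_odd i with he | he
  · rw [if_pos he, if_neg (by rw [Nat.even_add_one]; exact not_not.2 he)]
  · rw [if_neg (Nat.not_even_iff_odd.2 he), if_pos (by rw [Nat.even_add_one]; exact Nat.not_even_iff_odd.2 he)]

/-- Scalars of norm one. -/
noncomputable abbrev normOne (F : Type*) [Field F] (q : ℕ) : Subgroup Fˣ := (powMonoidHom (q + 1) : Fˣ →* Fˣ).ker

theorem card_normOne : Nat.card (normOne F q) = q + 1 :=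
  card_pow_eq_one hF (by rw [sq_sub_one hF]; exact dvd_mul_right _ _)

theorem diag_mem {n : ℕ} (d : Fin n → F) (hd : ∀ i, d i * d i ^ q = 1) (g : GL (Fin n) F)
    (hg : (g : Matrix (Fin n) (Fin n) F) = Matrix.diagonal d) : g ∈ Cfsg.GU n F q := by
  intro u v
  show Cfsg.hermForm n F q ((g : Matrix (Fin n) (Fin n) F) *ᵥ u) ((g : Matrix (Fin n) (Fin n) F) *ᵥ v) = _
  rw [hg]
  simp only [Cfsg.hermForm, Matrix.mulVec_diagonal, mul_pow]
  refine Finset.sum_congr rfl fun i _ => ?_
  linear_combination (u i * v i ^ q) * hd i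

theorem det_normOne {n : ℕ} (g : GL (Fin n) F) (hg : g ∈ Cfsg.GU n F q) :
    Matrix.GeneralLinearGroup.det g ∈ normOne F q := by
  obtain ⟨σ, hσ, -, -⟩ := exists_frob hF
  have hcol := (mem_GU_iff hF g).1 hg
  have hm : (g : Matrix (Fin n) (Fin n) F)ᵀ * (g : Matrix (Fin n) (Fin n) F).map σ = 1 := by
    ext i j
    rw [Matrix.mul_apply, Matrix.one_apply, ← hcol i j]
    simp [Cfsg.hermForm, hσ]
  have hd := congrArg Matrix.det hm
  rw [Matrix.det_mul, Matrix.det_transpose, Matrix.det_one,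
    show (g : Matrix (Fin n) (Fin n) F).map σ = σ.mapMatrix (g : Matrix (Fin n) (Fin n) F) from rfl,
    ← RingHom.map_det, hσ] at hd
  rw [MonoidHom.mem_ker, powMonoidHom_apply]
  apply Units.ext
  rw [Units.val_pow_eq_pow_val, Matrix.GeneralLinearGroup.val_det_apply, Units.val_one, pow_succ, mul_comm]
  exact hd

/-- The determinant of a unitary matrix. -/
noncomputable def detHom (n : ℕ) : Cfsg.GU n F q →* normOne F q where
  toFun g := ⟨Matrix.GeneralLinearGroup.det (g : GL (Fin n) F), det_normOne hF g.1 g.2⟩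
  map_one' := Subtype.ext (map_one _)
  map_mul' g h := Subtype.ext (map_mul _ _ _)

theorem detHom_surjective {n : ℕ} (hn : 1 ≤ n) : Function.Surjective (detHom hF n) := by
  rintro ⟨a, ha⟩
  let d : Fin n → F := fun i => if i = ⟨0, hn⟩ then (a : F) else 1
  have hdet : (Matrix.diagonal d).det = (a : F) := by
    rw [Matrix.det_diagonal, Finset.prod_eq_single ⟨0, hn⟩ (fun i _ hi => by simp [d, hi]) (by simp)]
    simp [d]
  let g := Matrix.GeneralLinearGroup.mkOfDetNeZero (Matrix.diagonal d) (by rw [hdet]; exact a.ne_zero)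
  have hd : ∀ i, d i * d i ^ q = 1 := fun i => by
    simp only [d]
    split_ifs
    · rw [← pow_succ', ← Units.val_pow_eq_pow_val, show a ^ (q + 1) = 1 from ha, Units.val_one]
    · rw [one_pow, mul_one]
  exact ⟨⟨g, diag_mem hF d hd g rfl⟩, Subtype.ext (Units.ext (by
    show (Matrix.diagonal d).det = _
    exact hdet))⟩

/-- `SU` as the kernel of the determinant. -/
noncomputable def suEquiv (n : ℕ) : Cfsg.SU n F q ≃* (detHom hF n).ker where
  toFun g := ⟨⟨Matrix.SpecialLinearGroup.toGL (g : SpecialLinearGroup (Fin n) F), g.2⟩,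
    Subtype.ext (Units.ext (g : SpecialLinearGroup (Fin n) F).2)⟩
  invFun g := ⟨⟨(((g : Cfsg.GU n F q) : GL (Fin n) F) : Matrix (Fin n) (Fin n) F),
    congrArg (fun x : normOne F q => ((x : Fˣ) : F)) g.2⟩, g.1.2⟩
  left_inv g := rfl
  right_inv g := Subtype.ext (Subtype.ext (Units.ext rfl))
  map_mul' g h := Subtype.ext (Subtype.ext (map_mul _ _ _))

theorem card_SU_mul {n : ℕ} (hn : 1 ≤ n) :
    (q + 1) * Nat.card (Cfsg.SU n F q) = Nat.card (Cfsg.GU n F q) := by
  rw [Nat.card_congr (suEquiv hF n).toEquiv, ← card_normOne hF, ← (detHom hF n).ker.index_mul_card,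
    Subgroup.index_ker, MonoidHom.range_eq_top.2 (detHom_surjective hF hn), Subgroup.card_top]

/-- Elements commuting with the special unitary group are scalar. -/
theorem scalar_of_comm {n : ℕ} (hn : 2 ≤ n) (M : Matrix (Fin n) (Fin n) F)
    (hM : ∀ g : Cfsg.SU n F q, ((g : SpecialLinearGroup (Fin n) F) : Matrix (Fin n) (Fin n) F) * M =
      M * ((g : SpecialLinearGroup (Fin n) F) : Matrix (Fin n) (Fin n) F)) :
    ∃ a : F, M = a • 1 := by
  classical
  have hq := one_lt_q hF
  haveI : Fintype (normOne F q) := Fintype.ofFinite _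
  obtain ⟨⟨l, hl⟩, hl2⟩ := IsCyclic.exists_ofOrder_eq_natCard (α := normOne F q) |>.imp fun l hl => hl
  rw [card_normOne hF, Subgroup.orderOf_mk] at hl2
  have hlne : (l : F) ≠ ((l⁻¹ : Fˣ) : F) := fun e => by
    have h := orderOf_dvd_of_pow_eq_one (show l ^ 2 = 1 by
      rw [sq]; exact eq_inv_iff_mul_eq_one.1 (Units.ext e))
    rw [hl2] at h
    have := Nat.le_of_dvd (by norm_num) h
    omega
  have hoff : ∀ i k, i ≠ k → M i k = 0 := by
    intro i k hik
    let d : Fin n → F := fun j => if j = i then (l : F) else if j = k then ((l⁻¹ : Fˣ) : F) else 1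
    have hdet : (Matrix.diagonal d).det = 1 := by
      rw [Matrix.det_diagonal, ← Finset.mul_prod_erase _ _ (Finset.mem_univ i),
        Finset.prod_eq_single k (fun j hj hjk => by simp [d, hjk, Finset.ne_of_mem_erase hj])
          (fun h => absurd (Finset.mem_erase.2 ⟨Ne.symm hik, Finset.mem_univ _⟩) h)]
      simp [d, Ne.symm hik]
    have hd : ∀ j, d j * d j ^ q = 1 := fun j => by
      have hl' : (l : F) * (l : F) ^ q = 1 := by
        rw [← pow_succ', ← Units.val_pow_eq_pow_val, show l ^ (q + 1) = 1 from hl, Units.val_one]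
      have hl'' : ((l⁻¹ : Fˣ) : F) * ((l⁻¹ : Fˣ) : F) ^ q = 1 := by
        rw [← pow_succ', ← Units.val_pow_eq_pow_val, inv_pow, show l ^ (q + 1) = 1 from hl, inv_one, Units.val_one]
      simp only [d]; split_ifs
      · exact hl'
      · exact hl''
      · rw [one_pow, mul_one]
    let g : SpecialLinearGroup (Fin n) F := ⟨Matrix.diagonal d, hdet⟩
    have h := congrFun (congrFun (hM ⟨g, diag_mem hF d hd (Matrix.SpecialLinearGroup.toGL g) rfl⟩) i) k
    simp only [g, Matrix.diagonal_mul, Matrix.mul_diagonal] at h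
    simp [d, Ne.symm hik] at h
    exact (mul_eq_zero.1 (show ((l : F) - ((l⁻¹ : Fˣ) : F)) * M i k = 0 by
      rw [Units.val_inv_eq_inv_val]; linear_combination h)).resolve_left (sub_ne_zero.2 hlne)
  refine ⟨M ⟨0, by omega⟩ ⟨0, by omega⟩, ?_⟩
  ext i k
  by_cases hik : i = k
  · subst hik
    simp only [Matrix.smul_apply, Matrix.one_apply_eq, smul_eq_mul, mul_one]
    set o : Fin n := ⟨0, by omega⟩
    by_cases hio : i = o
    · rw [hio]
    let S : Matrix (Fin n) (Fin n) F :=
      (Equiv.swap i o).permMatrix F * Matrix.diagonal (fun j => if j = i then -1 else 1)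
    have hdet : S.det = 1 := by
      rw [Matrix.det_mul, Matrix.det_permutation, Matrix.det_diagonal,
        Finset.prod_eq_single i (fun j _ hj => by simp [hj]) (by simp), Equiv.Perm.sign_swap hio]
      simp
    have hmem : (Matrix.SpecialLinearGroup.toGL (⟨S, hdet⟩ : SpecialLinearGroup (Fin n) F)) ∈ Cfsg.GU n F q := by
      intro u v
      show Cfsg.hermForm n F q (S *ᵥ u) (S *ᵥ v) = _
      have hS : ∀ w : Fin n → F, S *ᵥ w = fun j => (if Equiv.swap i o j = i then -1 else 1) * w (Equiv.swap i o j) := by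
        intro w
        funext j
        rw [← Matrix.mulVec_mulVec, Matrix.permMatrix_mulVec]
        simp [Matrix.mulVec_diagonal]
      obtain ⟨σ, hσ, -, -⟩ := exists_frob hF
      simp only [hS, Cfsg.hermForm]
      rw [← Equiv.sum_comp (Equiv.swap i o)]
      refine Finset.sum_congr rfl fun j _ => ?_
      simp only [Equiv.swap_apply_self]
      have hneg : (-1 : F) ^ q = -1 := by rw [← hσ, map_neg, map_one]
      split_ifs
      · rw [mul_pow, hneg]; ring
      · rw [one_mul, one_mul]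
    have h := congrFun (congrFun (hM ⟨⟨S, hdet⟩, hmem⟩) o) i
    rw [Matrix.mul_apply, Matrix.mul_apply, Finset.sum_eq_single i
      (fun j _ hj => by rw [hoff j i hj, mul_zero]) (by simp),
      Finset.sum_eq_single o (fun j _ hj => by rw [hoff o j (Ne.symm hj), zero_mul]) (by simp)] at h
    have hSoi : S o i = -1 := by
      simp [S, Matrix.mul_diagonal, Equiv.Perm.permMatrix, PEquiv.toMatrix_apply]
    change S o i * M i i = M o o * S o i at h
    rw [hSoi] at h
    linear_combination -h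
  · simp [hoff i k hik, hik]

theorem card_center_SU {n : ℕ} (hn : 2 ≤ n) :
    Nat.card (Subgroup.center (Cfsg.SU n F q)) = Nat.gcd n (q + 1) := by
  classical
  have hq := one_lt_q hF
  rw [← card_pow_eq_one hF (d := Nat.gcd n (q + 1))
    ((Nat.gcd_dvd_right _ _).trans (by rw [sq_sub_one hF]; exact dvd_mul_right _ _))]
  have key : ∀ a : Fˣ, a ∈ (powMonoidHom (Nat.gcd n (q + 1)) : Fˣ →* Fˣ).ker →
      a ^ n = 1 ∧ a ^ (q + 1) = 1 := by
    intro a ha
    have h : a ^ Nat.gcd n (q + 1) = 1 := ha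
    exact ⟨orderOf_dvd_iff_pow_eq_one.1 ((orderOf_dvd_of_pow_eq_one h).trans (Nat.gcd_dvd_left _ _)),
      orderOf_dvd_iff_pow_eq_one.1 ((orderOf_dvd_of_pow_eq_one h).trans (Nat.gcd_dvd_right _ _))⟩
  let sc : (powMonoidHom (Nat.gcd n (q + 1)) : Fˣ →* Fˣ).ker → Cfsg.SU n F q := fun a =>
    ⟨⟨Matrix.diagonal fun _ => ((a : Fˣ) : F), by
      rw [Matrix.det_diagonal, Finset.prod_const, Finset.card_univ, Fintype.card_fin,
        ← Units.val_pow_eq_pow_val, (key _ a.2).1, Units.val_one]⟩,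
      diag_mem hF (fun _ => ((a : Fˣ) : F)) (fun _ => by
        rw [← pow_succ', ← Units.val_pow_eq_pow_val, (key _ a.2).2, Units.val_one]) _ rfl⟩
  symm
  refine Nat.card_congr (Equiv.ofBijective (fun a => (⟨sc a, Subgroup.mem_center_iff.2 fun g =>
    Subtype.ext (Subtype.ext ?_)⟩ : Subgroup.center (Cfsg.SU n F q))) ⟨?_, ?_⟩)
  · show ((g : SpecialLinearGroup (Fin n) F) : Matrix (Fin n) (Fin n) F) * Matrix.diagonal _ =
      Matrix.diagonal _ * ((g : SpecialLinearGroup (Fin n) F) : Matrix (Fin n) (Fin n) F)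
    rw [← Matrix.smul_one_eq_diagonal, Matrix.mul_smul, Matrix.smul_mul, mul_one, one_mul]
  · intro a b e
    have h := congrArg (fun z : Subgroup.center (Cfsg.SU n F q) =>
      (((z : Cfsg.SU n F q) : SpecialLinearGroup (Fin n) F) : Matrix (Fin n) (Fin n) F) ⟨0, by omega⟩ ⟨0, by omega⟩) e
    simp only [sc, Matrix.diagonal_apply_eq] at h
    exact Subtype.ext (Units.ext h)
  · rintro ⟨z, hz⟩
    obtain ⟨a, ha⟩ := scalar_of_comm hF hn ((z : SpecialLinearGroup (Fin n) F) : Matrix (Fin n) (Fin n) F)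
      fun g => congrArg (fun x : Cfsg.SU n F q => ((x : SpecialLinearGroup (Fin n) F) : Matrix (Fin n) (Fin n) F))
        (Subgroup.mem_center_iff.1 hz g)
    have hdet := (z : SpecialLinearGroup (Fin n) F).2
    rw [ha, Matrix.det_smul, Matrix.det_one, mul_one, Fintype.card_fin] at hdet
    have hGU : Matrix.SpecialLinearGroup.toGL (z : SpecialLinearGroup (Fin n) F) ∈ Cfsg.GU n F q := z.2
    have hnorm : a ^ (q + 1) = 1 := by
      have h := (mem_GU_iff hF _).1 hGU ⟨0, by omega⟩ ⟨0, by omega⟩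
      rw [if_pos rfl] at h
      have hz' : ∀ i j, (Matrix.SpecialLinearGroup.toGL (z : SpecialLinearGroup (Fin n) F) : Matrix (Fin n) (Fin n) F) i j =
          (a • (1 : Matrix (Fin n) (Fin n) F)) i j := fun i j => by
        show ((z : SpecialLinearGroup (Fin n) F) : Matrix (Fin n) (Fin n) F) i j = _
        rw [ha]
      simp only [Cfsg.hermForm, hz', Matrix.smul_apply, Matrix.one_apply, smul_eq_mul] at h
      rw [Finset.sum_eq_single (⟨0, by omega⟩ : Fin n) (fun i _ hi => by simp [hi]) (by simp)] at h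
      simp only [if_pos, mul_one] at h
      rw [pow_succ, mul_comm]
      exact h
    have ha0 : a ≠ 0 := fun e => by rw [e, zero_pow (by omega)] at hdet; exact zero_ne_one hdet
    refine ⟨⟨Units.mk0 a ha0, ?_⟩, Subtype.ext (Subtype.ext (Subtype.ext ?_))⟩
    · rw [MonoidHom.mem_ker, powMonoidHom_apply]
      refine pow_gcd_eq_one.2 ⟨?_, ?_⟩ <;> refine Units.ext ?_ <;>
        simp only [Units.val_pow_eq_pow_val, Units.val_mk0, Units.val_one]
      · exact hdet
      · exact hnorm
    · show Matrix.diagonal (fun _ => a) = _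
      rw [ha, Matrix.smul_one_eq_diagonal]

end Cfsg.Agent.Classical.Unitary
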