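import Cfsg.Prelude.Def_ClassicalGeometry

/-!
Quadratic forms on coordinate spaces: polar vectors, reflections, Siegel transformations.
-/

set_option autoImplicit false
set_option linter.style.haveILetI false

open Matrix QuadraticMap

namespace Cfsg.Agent.Classical.Quad

variable {F : Type*} [Field F] {ι : Type} [Fintype ι] [DecidableEq ι] (Q : QuadraticForm F (ι → F))

theorem polarVec_dot (v x : ι → F) : Cfsg.polarVec (⇑Q) v ⬝ᵥ x = polar (⇑Q) v x := by
  have h : x = ∑ j, x j • Pi.single j (1 : F) := by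
    funext i
    simp [Finset.sum_apply, Pi.single_apply]
  have hx : polar (⇑Q) v x = ∑ j, x j * polar (⇑Q) v (Pi.single j 1) := by
    have e : polarBilin Q v x = ∑ j, x j * polarBilin Q v (Pi.single j 1) := by
      conv_lhs => rw [h]
      simp [map_sum, map_smul]
    simpa using e
  rw [hx]
  exact Finset.sum_congr rfl fun j _ => mul_comm _ _

theorem reflection_mulVec (v x : ι → F) :
    Cfsg.reflectionMatrix (⇑Q) v *ᵥ x = x - ((Q v)⁻¹ * polar (⇑Q) v x) • v := by
  rw [Cfsg.reflectionMatrix, sub_mulVec, one_mulVec, smul_mulVec, vecMulVec_mulVec, polarVec_dot]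
  simp [smul_smul]

theorem reflection_isometry {v : ι → F} (hv : Q v ≠ 0) (x : ι → F) :
    Q (Cfsg.reflectionMatrix (⇑Q) v *ᵥ x) = Q x := by
  rw [reflection_mulVec, sub_eq_add_neg, ← neg_smul, QuadraticMap.map_add (⇑Q), QuadraticMap.map_smul,
    polar_smul_right, polar_comm (⇑Q) x v]
  simp only [smul_eq_mul]
  field_simp
  ring

theorem reflection_self {v : ι → F} (hv : Q v ≠ 0) : Cfsg.reflectionMatrix (⇑Q) v *ᵥ v = -v := by
  rw [reflection_mulVec, polar_self]
  have : (Q v)⁻¹ * (2 • Q v) = 2 := by rw [nsmul_eq_mul]; field_simp; norm_num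
  rw [this, two_smul]
  abel

theorem reflection_det {v : ι → F} (hv : Q v ≠ 0) : (Cfsg.reflectionMatrix (⇑Q) v).det = -1 := by
  have h : Cfsg.reflectionMatrix (⇑Q) v =
      1 + replicateCol Unit (-(Q v)⁻¹ • v) * replicateRow Unit (Cfsg.polarVec (⇑Q) v) := by
    rw [Cfsg.reflectionMatrix, ← vecMulVec_eq, smul_vecMulVec, neg_smul, sub_eq_add_neg]
  rw [h, det_one_add_replicateCol_mul_replicateRow, dotProduct_smul, polarVec_dot, polar_self,
    smul_eq_mul, nsmul_eq_mul]
  field_simp
  norm_num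

theorem siegel_mulVec (u v x : ι → F) (c : F) :
    Cfsg.siegelMatrix (⇑Q) u v c *ᵥ x =
      x + (c * polar (⇑Q) u x) • v - (c * polar (⇑Q) v x) • u := by
  rw [Cfsg.siegelMatrix, add_mulVec, one_mulVec, smul_mulVec, sub_mulVec, vecMulVec_mulVec,
    vecMulVec_mulVec, polarVec_dot, polarVec_dot]
  simp only [op_smul_eq_smul, smul_sub, smul_smul]
  abel

/-- The Gram matrix of the polar form. -/
def gram : Matrix ι ι F :=
  Matrix.of fun i j => polar (⇑Q) (Pi.single i 1) (Pi.single j 1)

theorem polar_eq_gram (x y : ι → F) : polar (⇑Q) x y = x ⬝ᵥ (gram Q *ᵥ y) := by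
  rw [polar_comm, ← polarVec_dot]
  refine Finset.sum_congr rfl fun i _ => ?_
  rw [mul_comm]
  congr 1
  show polar (⇑Q) y (Pi.single i 1) = _
  rw [polar_comm, ← polarVec_dot]
  rfl

theorem det_gram_ne_zero (hQ : (polarBilin Q).Nondegenerate) : (gram Q).det ≠ 0 := by
  intro h
  obtain ⟨y, hy, h0⟩ := exists_mulVec_eq_zero_iff.2 h
  refine hy (hQ.2 y fun x => ?_)
  show polar (⇑Q) x y = 0
  rw [polar_eq_gram, h0, dotProduct_zero]

theorem det_sq_eq_one (hQ : (polarBilin Q).Nondegenerate) {A : Matrix ι ι F}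
    (hA : ∀ x, Q (A *ᵥ x) = Q x) : A.det * A.det = 1 := by
  have h : Aᵀ * gram Q * A = gram Q := by
    ext i j
    have hp : polar (⇑Q) (A *ᵥ Pi.single i 1) (A *ᵥ Pi.single j 1) =
        polar (⇑Q) (Pi.single i 1) (Pi.single j 1) := by
      simp only [polar]
      rw [← mulVec_add, hA, hA, hA]
    rw [polar_eq_gram, polar_eq_gram, ← vecMul_transpose, ← dotProduct_mulVec, mulVec_mulVec,
      mulVec_mulVec, Matrix.mul_assoc] at hp
    simpa [Matrix.mul_assoc] using hp
  have := congrArg Matrix.det h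
  rw [det_mul, det_mul, det_transpose] at this
  exact mul_right_cancel₀ (det_gram_ne_zero Q hQ) (by linear_combination this)

end Cfsg.Agent.Classical.Quad
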