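import Mathlib
import Cfsg.Agent.S0753

/-!
Orthogonal and orthonormal bases of symmetric and Hermitian forms over finite fields, and planes in
characteristic two.
-/

set_option autoImplicit false
set_option linter.style.haveILetI false
set_option linter.unusedSectionVars false

namespace Cfsg.Agent.Classical.OrthBasis

open Module

variable {F V : Type*} [Field F] [AddCommGroup V] [Module F V] [FiniteDimensional F V]
variable {σ : F →+* F} (B : V →ₛₗ[σ] V →ₗ[F] F)

/-- Non-degeneracy on a subspace. -/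
def NondegOn (W : Submodule F V) : Prop := ∀ w ∈ W, (∀ w' ∈ W, B w w' = 0) → w = 0

variable (hr : ∀ x y, B x y = 0 → B y x = 0)

include hr

theorem split {W : Submodule F V} (hW : NondegOn B W) {v : V} (hv : v ∈ W) (hvv : B v v ≠ 0) :
    ∃ W' : Submodule F V, W' ≤ W ∧ (∀ w ∈ W', B v w = 0) ∧ NondegOn B W' ∧
      finrank F W' + 1 = finrank F W := by
  refine ⟨W ⊓ LinearMap.ker (B v), inf_le_left, fun w hw => hw.2, fun w hw hw0 => ?_, ?_⟩
  · refine hW w hw.1 fun y hy => ?_
    have hm : y - (B v y / B v v) • v ∈ W ⊓ LinearMap.ker (B v) := by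
      refine ⟨sub_mem hy (W.smul_mem _ hv), ?_⟩
      show B v (y - (B v y / B v v) • v) = 0
      rw [map_sub, map_smul, smul_eq_mul, div_mul_cancel₀ _ hvv, sub_self]
    have h1 := hw0 _ hm
    rw [map_sub, map_smul, smul_eq_mul, hr v w hw.2, mul_zero, sub_zero] at h1
    exact h1
  · have hker : (W ⊓ LinearMap.ker (B v)).comap W.subtype = LinearMap.ker ((B v).comp W.subtype) := by
      ext x
      simp
    have hs : Function.Surjective ((B v).comp W.subtype) := fun a => by
      refine ⟨(a / B v v) • ⟨v, hv⟩, ?_⟩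
      simp [div_mul_cancel₀ _ hvv]
    have h := LinearMap.finrank_range_add_finrank_ker ((B v).comp W.subtype)
    rw [LinearMap.range_eq_top.2 hs, finrank_top, finrank_self, ← hker,
      (Submodule.comapSubtypeEquivOfLe (inf_le_left : W ⊓ LinearMap.ker (B v) ≤ W)).finrank_eq] at h
    omega

omit hr in
theorem independent_of_orth {ι : Type*} [Fintype ι] {b : ι → V}
    (ho : ∀ i j, i ≠ j → B (b i) (b j) = 0) (hn : ∀ i, B (b i) (b i) ≠ 0) :
    LinearIndependent F b := by
  classical
  rw [Fintype.linearIndependent_iff]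
  intro c hc i
  have h := congrArg (B (b i)) hc
  rw [map_sum, map_zero, Finset.sum_eq_single i (fun j _ hj => by
    rw [map_smul, ho i j (Ne.symm hj), smul_zero]) (by simp), map_smul, smul_eq_mul] at h
  exact (mul_eq_zero.1 h).resolve_right (hn i)

omit hr

section hermitian

theorem exists_norm [Finite F] (hσ : σ ≠ RingHom.id F) (hσ2 : ∀ a, σ (σ a) = a) {a : F}
    (ha : a ≠ 0) (hfix : σ a = a) : ∃ c : F, σ c * c = a := by
  classical
  let S : Fˣ →* Fˣ := Units.map σ.toMonoidHom
  let H : Fˣ →* Fˣ := MonoidHom.id Fˣ / S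
  let N : Fˣ →* Fˣ := S * MonoidHom.id Fˣ
  have hS : ∀ u : Fˣ, ((S u : Fˣ) : F) = σ u := fun u => rfl
  have hker : N.ker = H.range := by
    ext u
    constructor
    · intro hu
      have hu' : σ u * u = (1 : F) := by
        have := congrArg (fun x : Fˣ => (x : F)) (MonoidHom.mem_ker.1 hu)
        simpa [N, hS] using this
      obtain ⟨θ, hθ⟩ : ∃ θ : F, θ + u * σ θ ≠ 0 := by
        by_contra hc
        simp only [not_exists, not_not] at hc
        have h1 := hc 1
        rw [map_one, mul_one] at h1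
        refine hσ (RingHom.ext fun θ => ?_)
        have h2 := hc θ
        rw [show (u : F) = -1 by linear_combination h1] at h2
        rw [RingHom.id_apply]
        linear_combination -h2
      refine ⟨Units.mk0 _ hθ, ?_⟩
      apply Units.ext
      show (θ + (u : F) * σ θ) * ((S (Units.mk0 _ hθ))⁻¹ : Fˣ) = u
      rw [Units.val_inv_eq_inv_val, hS, mul_inv_eq_iff_eq_mul₀ (by
        rw [Units.val_mk0]; exact fun e => hθ (σ.injective (by rw [e, map_zero]))), Units.val_mk0,
        map_add, map_mul, hσ2]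
      linear_combination (-θ) * hu'
    · rintro ⟨θ, rfl⟩
      rw [MonoidHom.mem_ker]
      apply Units.ext
      have h0 : σ (θ : F) ≠ 0 := fun e => θ.ne_zero (σ.injective (by rw [e, map_zero]))
      simp [N, H, hS, hσ2, div_eq_mul_inv, map_mul, map_inv₀]
      field_simp
  have hle : N.range ≤ H.ker := by
    rintro _ ⟨u, rfl⟩
    rw [MonoidHom.mem_ker]
    apply Units.ext
    simp [N, H, hS, hσ2, div_eq_mul_inv, mul_comm]
  have hcard : Nat.card N.range = Nat.card H.ker := by
    have h1 := Subgroup.card_mul_index N.ker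
    have h2 := Subgroup.card_mul_index H.ker
    rw [Subgroup.index_ker, hker] at h1
    rw [Subgroup.index_ker, mul_comm] at h2
    exact Nat.eq_of_mul_eq_mul_left Nat.card_pos (h1.trans h2.symm)
  have hmem : Units.mk0 a ha ∈ H.ker := by
    rw [MonoidHom.mem_ker]
    apply Units.ext
    simp [H, hS, hfix, div_eq_mul_inv, ha]
  rw [← Subgroup.eq_of_le_of_card_ge hle hcard.ge] at hmem
  obtain ⟨c, hc⟩ := hmem
  exact ⟨c, by simpa [N, hS] using congrArg (fun x : Fˣ => (x : F)) hc⟩

theorem exists_orthonormal [Finite F] (hσ : σ ≠ RingHom.id F) (hσ2 : ∀ a, σ (σ a) = a)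
    (hS : B.IsSymm) : ∀ (n : ℕ) (W : Submodule F V), NondegOn B W → finrank F W = n →
    ∃ b : Fin n → V, (∀ i, b i ∈ W) ∧ ∀ i j, B (b i) (b j) = if i = j then 1 else 0 := by
  have hr : ∀ x y, B x y = 0 → B y x = 0 := fun x y h => by rw [← hS.eq x y, h, map_zero]
  intro n
  induction n with
  | zero => intro W _ _; exact ⟨Fin.elim0, fun i => i.elim0, fun i => i.elim0⟩
  | succ n ih =>
    intro W hW hn
    obtain ⟨v, hv, hvv⟩ : ∃ v ∈ W, B v v ≠ 0 := by
      by_contra hc
      simp only [not_exists, not_and, not_not] at hc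
      let B' : W →ₛₗ[σ] W →ₗ[F] F := LinearMap.mk₂'ₛₗ σ (RingHom.id F) (fun a b : W => B a b)
        (fun a a' b => by simp) (fun c a b => by simp) (fun a b b' => by simp) (fun c a b => by simp)
      have h0 := S0753.result σ hσ B' ⟨fun a b => hS.eq a b⟩ (fun w => hc w w.2)
      obtain ⟨w, hw⟩ : ∃ w : W, w ≠ 0 := by
        haveI : Nontrivial W := Module.nontrivial_of_finrank_pos (R := F) (by omega)
        exact exists_ne 0
      exact hw (Subtype.ext (hW w w.2 fun y hy =>
        LinearMap.congr_fun (LinearMap.congr_fun h0 w) ⟨y, hy⟩))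
    obtain ⟨c, hc⟩ := exists_norm hσ hσ2 (inv_ne_zero hvv) (by rw [map_inv₀, hS.eq v v])
    have hu : B (c • v) (c • v) = 1 := by
      simp only [LinearMap.map_smulₛₗ, LinearMap.smul_apply, smul_eq_mul, RingHom.id_apply]
      linear_combination (B v v) * hc + inv_mul_cancel₀ hvv
    obtain ⟨W', hW', horth, hnd, hdim⟩ := split B hr hW (W.smul_mem c hv) (by rw [hu]; exact one_ne_zero)
    obtain ⟨b, hb, hbb⟩ := ih W' hnd (by omega)
    refine ⟨Fin.cons (c • v) b, Fin.cases (W.smul_mem c hv) fun i => hW' (hb i), ?_⟩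
    refine Fin.cases ?_ fun i => ?_
    · refine Fin.cases ?_ fun j => ?_
      · simpa using hu
      · simpa [(Fin.succ_ne_zero j).symm] using horth _ (hb j)
    · refine Fin.cases ?_ fun j => ?_
      · simpa [Fin.succ_ne_zero] using hr _ _ (horth _ (hb i))
      · simpa using hbb i j

end hermitian

section symmetric

variable [Fintype F]

theorem exists_diag_one (h2 : (2 : F) ≠ 0) {a b : F} (ha : a ≠ 0) (hb : b ≠ 0) :
    ∃ x y : F, a * x ^ 2 + b * y ^ 2 = 1 := by
  classical
  have hodd : Fintype.card F % 2 = 1 := FiniteField.odd_card_of_char_ne_two fun h =>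
    h2 (by have := CharP.cast_eq_zero F (ringChar F); rw [h] at this; simpa using this)
  obtain ⟨x, y, hxy⟩ := FiniteField.exists_root_sum_quadratic
    (f := (Polynomial.C a * Polynomial.X ^ 2 : Polynomial F))
    (g := Polynomial.C b * Polynomial.X ^ 2 - Polynomial.C 1)
    (Polynomial.degree_C_mul_X_pow 2 ha)
    (by rw [Polynomial.degree_sub_C (by rw [Polynomial.degree_C_mul_X_pow 2 hb]; decide),
      Polynomial.degree_C_mul_X_pow 2 hb]; rfl) hodd
  refine ⟨x, y, ?_⟩
  simp only [Polynomial.eval_mul, Polynomial.eval_C, Polynomial.eval_pow, Polynomial.eval_X,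
    Polynomial.eval_sub] at hxy
  linear_combination hxy

theorem exists_scale (h2 : (2 : F) ≠ 0) {α : F} (hα : ¬ IsSquare α) {c : F} (hc : c ≠ 0) :
    ∃ t : F, t ^ 2 * c = 1 ∨ t ^ 2 * c = α := by
  classical
  have hch : ringChar F ≠ 2 := fun h =>
    h2 (by have := CharP.cast_eq_zero F (ringChar F); rw [h] at this; simpa using this)
  have hα0 : α ≠ 0 := fun e => hα ⟨0, by rw [e, mul_zero]⟩
  by_cases hs : IsSquare c
  · obtain ⟨s, rfl⟩ := hs
    exact ⟨s⁻¹, Or.inl (by field_simp [(mul_ne_zero_iff.1 hc).1]; )⟩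
  · have hq : IsSquare (α * c) := by
      rw [← quadraticChar_one_iff_isSquare (mul_ne_zero hα0 hc), map_mul,
        (quadraticChar_neg_one_iff_not_isSquare).2 hα, (quadraticChar_neg_one_iff_not_isSquare).2 hs]
      norm_num
    obtain ⟨s, hs'⟩ := hq
    refine ⟨s / c, Or.inr ?_⟩
    field_simp
    linear_combination -hs'

theorem exists_diag (B : LinearMap.BilinForm F V) (h2 : (2 : F) ≠ 0) (hS : B.IsSymm) {α : F}
    (hα : ¬ IsSquare α) :
    ∀ (n : ℕ) (W : Submodule F V), NondegOn B W → finrank F W = n + 1 →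
    ∃ b : Fin (n + 1) → V, (∀ i, b i ∈ W) ∧ (∀ i j, i ≠ j → B (b i) (b j) = 0) ∧
      (∀ i, i ≠ Fin.last n → B (b i) (b i) = 1) ∧
      (B (b (Fin.last n)) (b (Fin.last n)) = 1 ∨ B (b (Fin.last n)) (b (Fin.last n)) = α) := by
  have hr : ∀ x y, B x y = 0 → B y x = 0 := fun x y h => by rw [hS.eq y x, h]
  have hex : ∀ W : Submodule F V, NondegOn B W → 0 < finrank F W → ∃ v ∈ W, B v v ≠ 0 := by
    intro W hW hpos
    by_contra hc
    simp only [not_exists, not_and, not_not] at hc
    haveI : Nontrivial W := Module.nontrivial_of_finrank_pos hpos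
    obtain ⟨w, hw⟩ := exists_ne (0 : W)
    refine hw (Subtype.ext (hW w w.2 fun y hy => ?_))
    have h1 := hc _ (add_mem w.2 hy)
    simp only [map_add, LinearMap.add_apply, hc _ w.2, hc _ hy, hS.eq y w] at h1
    exact (mul_eq_zero.1 (show (2 : F) * B w y = 0 by linear_combination h1)).resolve_left h2
  intro n
  induction n with
  | zero =>
    intro W hW hn
    obtain ⟨v, hv, hvv⟩ := hex W hW (by omega)
    obtain ⟨t, ht⟩ := exists_scale h2 hα hvv
    refine ⟨fun _ => t • v, fun _ => W.smul_mem t hv, fun i j hij => absurd (Fin.ext (by omega) : i = j) hij,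
      fun i hi => absurd (Fin.ext (by simp [Fin.last]) : i = Fin.last 0) hi, ?_⟩
    simp only [map_smul, LinearMap.smul_apply, smul_eq_mul, ← mul_assoc, ← sq]
    exact ht
  | succ n ih =>
    intro W hW hn
    obtain ⟨v, hv, hvv⟩ := hex W hW (by omega)
    obtain ⟨W₁, hW₁, horth₁, hnd₁, hdim₁⟩ := split B hr hW hv hvv
    obtain ⟨u, hu, huu⟩ := hex W₁ hnd₁ (by omega)
    obtain ⟨x, y, hxy⟩ := exists_diag_one h2 hvv huu
    have hv' : x • v + y • u ∈ W := add_mem (W.smul_mem x hv) (W.smul_mem y (hW₁ hu))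
    have hone : B (x • v + y • u) (x • v + y • u) = 1 := by
      simp only [map_add, map_smul, LinearMap.add_apply, LinearMap.smul_apply, smul_eq_mul,
        horth₁ u hu, hr v u (horth₁ u hu)]
      linear_combination hxy
    obtain ⟨W', hW', horth, hnd, hdim⟩ := split B hr hW hv' (by rw [hone]; exact one_ne_zero)
    obtain ⟨b, hb, hbo, hb1, hbl⟩ := ih W' hnd (by omega)
    refine ⟨Fin.cons (x • v + y • u) b, Fin.cases hv' fun i => hW' (hb i), ?_, ?_, ?_⟩
    · refine Fin.cases ?_ fun i => ?_
      · refine Fin.cases (fun h => absurd rfl h) fun j _ => ?_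
        simpa using horth _ (hb j)
      · refine Fin.cases (fun _ => ?_) fun j hij => ?_
        · simpa using hr _ _ (horth _ (hb i))
        · simpa using hbo i j fun e => hij (congrArg Fin.succ e)
    · refine Fin.cases (fun _ => by simpa using hone) fun i hi => ?_
      simpa using hb1 i fun e => hi (by rw [e]; rfl)
    · simpa [← Fin.succ_last] using hbl

end symmetric

omit [FiniteDimensional F V]

theorem char_two_plane [Finite F] [CharP F 2] (Q : QuadraticForm F V) (h2 : finrank F V = 2)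
    (hQ : (QuadraticMap.polarBilin Q).Nondegenerate) :
    (∃ v w : V, LinearIndependent F ![v, w] ∧ Q v = 0 ∧ Q w = 0 ∧ QuadraticMap.polar Q v w = 1) ∨
    (∃ (v w : V) (μ : F), LinearIndependent F ![v, w] ∧ (∀ x : F, x ^ 2 + x + μ ≠ 0) ∧ Q v = 1 ∧
      Q w = μ ∧ QuadraticMap.polar Q v w = 1) := by
  haveI : FiniteDimensional F V := Module.finite_of_finrank_eq_succ h2
  haveI : Fintype F := Fintype.ofFinite F
  have hadd : ∀ (a b : F) (v w : V), Q (a • v + b • w) =
      a ^ 2 * Q v + b ^ 2 * Q w + a * b * QuadraticMap.polar Q v w := by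
    intro a b v w
    rw [QuadraticMap.map_add (⇑Q), QuadraticMap.map_smul, QuadraticMap.map_smul,
      QuadraticMap.polar_smul_left, QuadraticMap.polar_smul_right]
    simp only [smul_eq_mul]
    ring
  have hpart : ∀ v : V, v ≠ 0 → ∃ w, QuadraticMap.polar Q v w = 1 := by
    intro v hv
    obtain ⟨w, hw⟩ : ∃ w, QuadraticMap.polar Q v w ≠ 0 := by
      by_contra hc
      simp only [not_exists, not_not] at hc
      exact hv (hQ.1 v fun w => hc w)
    exact ⟨(QuadraticMap.polar Q v w)⁻¹ • w, by
      rw [QuadraticMap.polar_smul_right, smul_eq_mul, inv_mul_cancel₀ hw]⟩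
  have hind : ∀ v w : V, QuadraticMap.polar Q v w = 1 → LinearIndependent F ![v, w] := by
    intro v w h
    rw [LinearIndependent.pair_iff]
    intro a b hab
    have hz : ∀ u, QuadraticMap.polar Q u u = 0 := fun u => by
      rw [QuadraticMap.polar_self, two_nsmul, CharTwo.add_self_eq_zero]
    have h1 : QuadraticMap.polar Q v (a • v + b • w) = 0 := by simp [hab]
    have h2' : QuadraticMap.polar Q (a • v + b • w) w = 0 := by simp [hab]
    rw [QuadraticMap.polar_add_right, QuadraticMap.polar_smul_right, QuadraticMap.polar_smul_right,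
      hz, h] at h1
    rw [QuadraticMap.polar_add_left, QuadraticMap.polar_smul_left, QuadraticMap.polar_smul_left,
      hz, h] at h2'
    simp at h1 h2'
    exact ⟨h2', h1⟩
  haveI : Nontrivial V := Module.nontrivial_of_finrank_pos (R := F) (by omega)
  by_cases hs : ∃ v : V, v ≠ 0 ∧ Q v = 0
  · obtain ⟨v, hv, hv0⟩ := hs
    obtain ⟨w, hw⟩ := hpart v hv
    have hw' : QuadraticMap.polar Q v ((Q w) • v + (1 : F) • w) = 1 := by
      rw [QuadraticMap.polar_add_right, QuadraticMap.polar_smul_right,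
        QuadraticMap.polar_smul_right, QuadraticMap.polar_self, hv0, hw]
      simp
    refine Or.inl ⟨v, (Q w) • v + (1 : F) • w, hind _ _ hw', hv0, ?_, hw'⟩
    rw [hadd, hv0, hw]
    simp [CharTwo.add_self_eq_zero]
  · simp only [not_exists, not_and] at hs
    obtain ⟨v, hv⟩ := exists_ne (0 : V)
    obtain ⟨r, hr⟩ := (FiniteField.isSquare_of_char_two (ringChar.eq F 2) (Q v) : IsSquare (Q v))
    have hr0 : r ≠ 0 := fun e => hs v hv (by rw [hr, e, mul_zero])
    have hv1 : Q (r⁻¹ • v) = 1 := by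
      rw [QuadraticMap.map_smul, hr, smul_eq_mul]
      field_simp
    obtain ⟨w, hw⟩ := hpart (r⁻¹ • v) (smul_ne_zero (inv_ne_zero hr0) hv)
    refine Or.inr ⟨r⁻¹ • v, w, Q w, hind _ _ hw, fun x hx => ?_, hv1, rfl, hw⟩
    refine hs (x • (r⁻¹ • v) + (1 : F) • w) ?_ ?_
    · intro e
      exact one_ne_zero ((LinearIndependent.pair_iff.1 (hind _ _ hw)) x 1 e).2
    · rw [hadd, hv1, hw]
      linear_combination hx

end Cfsg.Agent.Classical.OrthBasis
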