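import Cfsg.Agent.Lib.Classical.Spinor
import Cfsg.Agent.Lib.Classical.OrthBasis

/-!
Square classes of reflections and the abelianisation of finite orthogonal groups of odd characteristic.
-/

set_option autoImplicit false
set_option linter.style.haveILetI false

open Matrix QuadraticMap Module

namespace Cfsg.Agent.Classical.Refl

variable {F : Type*} [Field F] [Fintype F]

/-- Two elements in one square class. -/
def Cls (c d : F) : Prop := ∃ a : F, a * a * d = c

omit [Fintype F] in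
theorem Cls.refl (c : F) : Cls c c := ⟨1, by ring⟩

omit [Fintype F] in
theorem Cls.symm {c d : F} (hc : c ≠ 0) (h : Cls c d) : Cls d c := by
  obtain ⟨a, ha⟩ := h
  have ha0 : a ≠ 0 := fun e => hc (by rw [← ha, e]; ring)
  exact ⟨a⁻¹, by rw [← ha]; field_simp⟩

omit [Fintype F] in
theorem Cls.trans {c d e : F} (h : Cls c d) (h' : Cls d e) : Cls c e := by
  obtain ⟨a, ha⟩ := h
  obtain ⟨b, hb⟩ := h'
  exact ⟨a * b, by rw [← ha, ← hb]; ring⟩

omit [Fintype F] in
theorem cls_iff_isSquare {c d : F} (hd : d ≠ 0) : Cls c d ↔ IsSquare (c / d) := by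
  constructor
  · rintro ⟨a, rfl⟩; exact ⟨a, by field_simp⟩
  · rintro ⟨a, ha⟩; exact ⟨a, by rw [← ha]; field_simp⟩

theorem ringChar_ne_two (h2 : (2 : F) ≠ 0) : ringChar F ≠ 2 := fun h =>
  h2 (by have := CharP.cast_eq_zero F (ringChar F); rw [h] at this; simpa using this)

theorem cls_of_not (h2 : (2 : F) ≠ 0) {a b c : F} (ha : a ≠ 0) (hb : b ≠ 0) (hc : c ≠ 0)
    (h1 : ¬ Cls b a) (h3 : ¬ Cls c a) : Cls b c := by
  classical
  rw [cls_iff_isSquare ha] at h1 h3
  rw [cls_iff_isSquare hc, show b / c = (b / a) * (c / a)⁻¹ by field_simp]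
  rw [← quadraticChar_neg_one_iff_not_isSquare] at h1 h3
  have h4 : quadraticChar F (c / a)⁻¹ = -1 := by
    have h5 : quadraticChar F (c / a) * quadraticChar F (c / a)⁻¹ = 1 := by
      rw [← map_mul, mul_inv_cancel₀ (div_ne_zero hc ha), map_one]
    rw [h3] at h5
    linarith
  rw [← quadraticChar_one_iff_isSquare (mul_ne_zero (div_ne_zero hb ha) (inv_ne_zero (div_ne_zero hc ha))),
    map_mul, h1, h4]
  norm_num

theorem exists_not_cls (h2 : (2 : F) ≠ 0) {a : F} (ha : a ≠ 0) : ∃ b, b ≠ 0 ∧ ¬ Cls b a := by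
  obtain ⟨ε, hε⟩ := FiniteField.exists_nonsquare (ringChar_ne_two h2)
  have hε0 : ε ≠ 0 := fun e => hε (e ▸ IsSquare.zero)
  exact ⟨ε * a, mul_ne_zero hε0 ha, fun h => hε (by
    have := (cls_iff_isSquare ha).1 h
    rwa [mul_div_assoc, div_self ha, mul_one] at this)⟩

variable {ι : Type} [Fintype ι] [DecidableEq ι] (Q : QuadraticForm F (ι → F))
variable (hQ : (polarBilin Q).Nondegenerate) (h2 : (2 : F) ≠ 0)

include hQ h2

omit [Fintype F] in
theorem exists_orth (hn : 2 ≤ Fintype.card ι) : ∃ u w, Q u ≠ 0 ∧ Q w ≠ 0 ∧ polar Q u w = 0 := by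
  haveI : Nontrivial (ι → F) := Module.nontrivial_of_finrank_pos (R := F) (by rw [finrank_pi]; omega)
  obtain ⟨u, hu⟩ : ∃ u, Q u ≠ 0 := by
    by_contra h
    push Not at h
    obtain ⟨x, hx⟩ := exists_ne (0 : ι → F)
    exact hx (hQ.1 x fun y => by show polar Q x y = 0; rw [polar, h, h, h]; ring)
  have hpu : polar Q u u ≠ 0 := by rw [polar_self, nsmul_eq_mul]; exact mul_ne_zero (by simpa using h2) hu
  obtain ⟨w, hw, hQw⟩ : ∃ w, polar Q u w = 0 ∧ Q w ≠ 0 := by
    by_contra h
    push Not at h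
    have hall : ∀ x y, polar Q u x = 0 → polar Q u y = 0 → polar Q x y = 0 := fun x y hx hy => by
      rw [polar, h _ hx, h _ hy, h (x + y) (by rw [polar_add_right, hx, hy, add_zero])]; ring
    have hdim := le_finrank_ker (polarBilin Q u)
    obtain ⟨x, hx, hx0⟩ : ∃ x ∈ LinearMap.ker (polarBilin Q u), x ≠ 0 := by
      refine Submodule.exists_mem_ne_zero_of_ne_bot fun e => ?_
      rw [e, finrank_bot] at hdim
      omega
    refine hx0 (hQ.1 x fun y => ?_)
    show polar Q x y = 0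
    have hy : polar Q u (y - (polar Q u y / polar Q u u) • u) = 0 := by
      rw [polar_sub_right, polar_smul_right, smul_eq_mul, div_mul_cancel₀ _ hpu, sub_self]
    have h1 := hall x _ hx hy
    rw [polar_sub_right, polar_smul_right, polar_comm (⇑Q) x u, show polar Q u x = 0 from hx, smul_zero, sub_zero] at h1
    exact h1
  exact ⟨u, w, hu, hQw, hw⟩

theorem represents (hn : 2 ≤ Fintype.card ι) {c : F} (hc : c ≠ 0) : ∃ v, Q v = c := by
  obtain ⟨u, w, hu, hw, huw⟩ := exists_orth Q hQ h2 hn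
  obtain ⟨x, y, hxy⟩ := OrthBasis.exists_diag_one h2 (div_ne_zero hu hc) (div_ne_zero hw hc)
  refine ⟨x • u + y • w, ?_⟩
  rw [QuadraticMap.map_add (⇑Q), QuadraticMap.map_smul, QuadraticMap.map_smul, polar_smul_left, polar_smul_right, huw]
  simp only [smul_eq_mul, mul_zero, add_zero]
  field_simp at hxy
  linear_combination hxy

omit hQ in
theorem exists_move {u w : ι → F} (hu : Q u ≠ 0) (h : Q w = Q u) :
    ∃ d, ∃ hd : Q d ≠ 0, act Q (refl Q d hd) w = u ∨ act Q (refl Q d hd) w = -u := by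
  by_cases hd : Q (w - u) = 0
  · have hd' : Q (w - -u) ≠ 0 := by
      intro hd'
      apply hu
      rw [sub_eq_add_neg, QuadraticMap.map_add (⇑Q), QuadraticMap.map_neg, polar_neg_right, h] at hd
      rw [sub_neg_eq_add, QuadraticMap.map_add (⇑Q), h] at hd'
      have : (2 : F) * (2 : F) * Q u = 0 := by linear_combination hd + hd'
      simpa [h2] using this
    exact ⟨_, hd', Or.inr (act_refl_back Q (h.trans (QuadraticMap.map_neg Q u).symm) hd')⟩
  · exact ⟨_, hd, Or.inl (act_refl_back Q h hd)⟩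

omit hQ in
theorem refl_conj_of_cls {u w : ι → F} (hu : Q u ≠ 0) (hw : Q w ≠ 0) (h : Cls (Q u) (Q w)) :
    ∃ d, ∃ hd : Q d ≠ 0, refl Q u hu = refl Q d hd * refl Q w hw * refl Q d hd := by
  obtain ⟨a, ha⟩ := h
  have ha0 : a ≠ 0 := fun e => hu (by rw [← ha, e]; ring)
  have hQa : Q (a • w) = Q u := by rw [QuadraticMap.map_smul, smul_eq_mul]; exact ha
  obtain ⟨d, hd, hcase⟩ := exists_move Q h2 hu hQa
  refine ⟨d, hd, ?_⟩
  have h1 := refl_conj Q (refl Q d hd) (a • w) (by rw [hQa]; exact hu)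
  rw [refl_smul Q w hw ha0, refl_inv] at h1
  rw [h1]
  rcases hcase with e | e
  · simp only [e]
  · simp only [e]
    rw [show refl Q (-u) _ = refl Q u hu from by
      refine act_ext Q fun y => ?_
      rw [act_refl, act_refl, QuadraticMap.map_neg, polar_neg_left, mul_neg, neg_smul, smul_neg, neg_neg]]

theorem chi_refl_self {c : F} (hc : c ≠ 0) (v : ι → F) (hv : Q v ≠ 0) (h : Cls c (Q v)) :
    chi Q c (refl Q v hv) = -1 := by
  classical
  rw [chi_refl Q h2 hc v hv, if_pos]
  exact h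

theorem chi_refl_other {c : F} (hc : c ≠ 0) (v : ι → F) (hv : Q v ≠ 0) (h : ¬ Cls c (Q v)) :
    chi Q c (refl Q v hv) = 1 := by
  classical
  rw [chi_refl Q h2 hc v hv, if_neg]
  exact h

theorem hex' : Fintype.card F ≠ 2 ∨ Fintype.card ι ≠ 4 := Or.inl fun hc => h2 (by
  haveI : Fact (Nat.Prime 2) := ⟨Nat.prime_two⟩
  haveI := charP_of_card_eq_prime (R := F) hc
  exact CharP.cast_eq_zero F 2)

/-- Determinant and spinor character together. -/
noncomputable def psi (c : F) : O Q →* ℤˣ × ℤˣ :=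
  MonoidHom.prod (dickson Q hQ (hex' Q hQ h2)) (chi Q c)

theorem ker_psi_le {u w : ι → F} (hu : Q u ≠ 0) (hw : Q w ≠ 0) (huw : ¬ Cls (Q w) (Q u)) :
    (psi Q hQ h2 (Q u)).ker ≤ commutator (O Q) := by
  intro g hg
  set π := QuotientGroup.mk' (commutator (O Q)) with hπ
  set a := π (refl Q u hu)
  set b := π (refl Q w hw)
  have hcomm : ∀ x y : O Q ⧸ commutator (O Q), x * y = y * x := fun x y => (Abelianization.commGroup (O Q)).mul_comm x y
  have hsq : ∀ v hv, π (refl Q v hv) * π (refl Q v hv) = 1 := fun v hv => by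
    rw [← map_mul, refl_mul_self, map_one]
  have hrefl : ∀ v (hv : Q v ≠ 0), π (refl Q v hv) = a ∨ π (refl Q v hv) = b := by
    intro v hv
    by_cases h : Cls (Q v) (Q u)
    · left
      obtain ⟨d, hd, e⟩ := refl_conj_of_cls Q h2 hv hu h
      rw [e, map_mul, map_mul, hcomm (π (refl Q d hd)), mul_assoc, hsq, mul_one]
    · right
      obtain ⟨d, hd, e⟩ := refl_conj_of_cls Q h2 hv hw (cls_of_not h2 hu hv hw h huw)
      rw [e, map_mul, map_mul, hcomm (π (refl Q d hd)), mul_assoc, hsq, mul_one]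
  have key : ∀ g : O Q, π g = 1 ∨ π g = a ∨ π g = b ∨ π g = a * b := by
    intro g
    have hg' : g ∈ R Q := eq_top Q hQ (hex' Q hQ h2) ▸ Subgroup.mem_top g
    have haa : a * a = 1 := hsq _ _
    have hbb : b * b = 1 := hsq _ _
    have step : ∀ x y : O Q ⧸ commutator (O Q), (x = a ∨ x = b) → (y = 1 ∨ y = a ∨ y = b ∨ y = a * b) →
        x * y = 1 ∨ x * y = a ∨ x * y = b ∨ x * y = a * b := by
      rintro x y (rfl | rfl) (rfl | rfl | rfl | rfl)
      · simp
      · simp [haa]
      · simp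
      · simp [← mul_assoc, haa]
      · simp
      · simp [hcomm b a]
      · simp [hbb]
      · refine Or.inr (Or.inl ?_)
        rw [hcomm b (a * b), mul_assoc, hbb, mul_one]
    induction hg' using Subgroup.closure_induction_left with
    | one => exact Or.inl (map_one π)
    | mul_left x hx y _ ih =>
      obtain ⟨v, hv, he⟩ := hx
      obtain rfl : x = refl Q v hv := Subtype.ext (Units.ext he)
      rw [map_mul]; exact step _ _ (hrefl v hv) ih
    | inv_mul_cancel x hx y _ ih =>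
      obtain ⟨v, hv, he⟩ := hx
      obtain rfl : x = refl Q v hv := Subtype.ext (Units.ext he)
      rw [refl_inv, map_mul]; exact step _ _ (hrefl v hv) ih
  rw [← QuotientGroup.eq_one_iff]
  show π g = 1
  have hne : (-1 : ℤˣ) ≠ 1 := by decide
  have h1 := chi_refl_self Q hQ h2 hu u hu (Cls.refl _)
  have h3 := chi_refl_other Q hQ h2 hu w hw fun h => huw (h.symm hu)
  have hψ : ∀ r : O Q, π g = π r → psi Q hQ h2 (Q u) r = 1 := by
    intro r hr
    have hle : commutator (O Q) ≤ (psi Q hQ h2 (Q u)).ker := Abelianization.commutator_subset_ker _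
    have := hle ((QuotientGroup.eq (s := commutator (O Q))).1 hr)
    rw [MonoidHom.mem_ker, map_mul, map_inv, MonoidHom.mem_ker.1 hg, inv_one, one_mul] at this
    exact this
  rcases key g with h | h | h | h
  · exact h
  · exfalso
    have := congrArg Prod.fst (hψ _ h)
    simp [psi, dickson_refl Q hQ _ u hu, hne] at this
  · exfalso
    have := congrArg Prod.fst (hψ _ h)
    simp [psi, dickson_refl Q hQ _ w hw, hne] at this
  · exfalso
    have := congrArg Prod.snd (hψ (refl Q u hu * refl Q w hw) (by rw [h, map_mul]))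
    simp [psi, h1, h3, hne] at this

theorem ker_psi {u w : ι → F} (hu : Q u ≠ 0) (hw : Q w ≠ 0) (huw : ¬ Cls (Q w) (Q u)) :
    (psi Q hQ h2 (Q u)).ker = commutator (O Q) :=
  le_antisymm (ker_psi_le Q hQ h2 hu hw huw) (Abelianization.commutator_subset_ker _)

theorem psi_surjective {u w : ι → F} (hu : Q u ≠ 0) (hw : Q w ≠ 0) (huw : ¬ Cls (Q w) (Q u)) :
    Function.Surjective (psi Q hQ h2 (Q u)) := by
  have h1 := chi_refl_self Q hQ h2 hu u hu (Cls.refl _)
  have h3 := chi_refl_other Q hQ h2 hu w hw fun h => huw (h.symm hu)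
  rintro ⟨a, b⟩
  rcases Int.units_eq_one_or a with rfl | rfl <;> rcases Int.units_eq_one_or b with rfl | rfl
  · exact ⟨1, map_one _⟩
  · exact ⟨refl Q u hu * refl Q w hw, by simp [psi, h1, h3, dickson_refl Q hQ]⟩
  · exact ⟨refl Q w hw, by simp [psi, h3, dickson_refl Q hQ]⟩
  · exact ⟨refl Q u hu, by simp [psi, h1, dickson_refl Q hQ]⟩

theorem exists_classes (hn : 2 ≤ Fintype.card ι) : ∃ u w, Q u ≠ 0 ∧ Q w ≠ 0 ∧ ¬ Cls (Q w) (Q u) := by
  obtain ⟨u, hu⟩ := represents Q hQ h2 hn one_ne_zero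
  obtain ⟨b, hb, hb'⟩ := exists_not_cls h2 (one_ne_zero (α := F))
  obtain ⟨w, hw⟩ := represents Q hQ h2 hn hb
  exact ⟨u, w, by rw [hu]; exact one_ne_zero, by rw [hw]; exact hb, by rw [hu, hw]; exact hb'⟩

theorem index_commutator (hn : 2 ≤ Fintype.card ι) : (commutator (O Q)).index = 4 := by
  obtain ⟨u, w, hu, hw, huw⟩ := exists_classes Q hQ h2 hn
  rw [← ker_psi Q hQ h2 hu hw huw, Subgroup.index_ker,
    MonoidHom.range_eq_top.2 (psi_surjective Q hQ h2 hu hw huw), Subgroup.card_top, Nat.card_eq_fintype_card]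
  rfl

end Cfsg.Agent.Classical.Refl
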