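import Cfsg.Agent.Lib.Classical.PlusMaximal
import Cfsg.Agent.Lib.Classical.OrthClasses
import Cfsg.Agent.Lib.Classical.OrthBasis

/-!
Hyperbolic decompositions of quadratic spaces over finite fields.
-/

set_option autoImplicit false
set_option linter.style.haveILetI false

open Module QuadraticMap

namespace Cfsg.Agent.Classical.WittDec

universe uF uV

variable {F : Type uF} [Field F]

section general

variable {V : Type uV} [AddCommGroup V] [Module F V] (Q : QuadraticForm F V)

/-- A decomposition into `k` hyperbolic pairs and a `d`-dimensional form. -/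
def Decomp (k d : ℕ) (G : QuadraticForm F (Fin d → F)) : Prop :=
  ∃ φ : ((Fin k ⊕ Fin k → F) × (Fin d → F)) ≃ₗ[F] V, ∀ p, Q (φ p) = Cfsg.quadFormPlus k F p.1 + G p.2

/-- Anisotropic forms. -/
def Aniso {W : Type*} [AddCommGroup W] [Module F W] (G : QuadraticForm F W) : Prop := ∀ x, G x = 0 → x = 0

theorem exists_singular_any [Finite F] [FiniteDimensional F V] (hn : 3 ≤ finrank F V) :
    ∃ v, v ≠ 0 ∧ Q v = 0 := by
  classical
  haveI := Fintype.ofFinite F
  by_contra hc
  simp only [not_exists, not_and] at hc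
  haveI : Nontrivial V := Module.nontrivial_of_finrank_pos (R := F) (by omega)
  obtain ⟨v0, hv0⟩ := exists_ne (0 : V)
  have hq0 := hc v0 hv0
  have hker : ∀ f : Dual F V, finrank F V ≤ finrank F (LinearMap.ker f) + 1 := fun f => by
    have h1 := LinearMap.finrank_range_add_finrank_ker f
    have h2 := Submodule.finrank_le (LinearMap.range f)
    rw [finrank_self] at h2
    omega
  by_cases h2 : (2 : F) = 0
  · have hch : ringChar F = 2 := CharP.ringChar_of_prime_eq_zero Nat.prime_two (by exact_mod_cast h2)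
    obtain ⟨u, hu, hus⟩ := Set.not_subset.1 (fun hle : (LinearMap.ker (polarBilin Q v0) : Set V) ⊆ (F ∙ v0 : Submodule F V) => by
      have := Submodule.finrank_mono (SetLike.coe_subset_coe.1 hle)
      rw [finrank_span_singleton hv0] at this
      have := hker (polarBilin Q v0)
      omega)
    obtain ⟨a, ha⟩ := FiniteField.isSquare_of_char_two hch (Q u / Q v0)
    refine hc (u + a • v0) (fun e => hus ?_) ?_
    · rw [eq_neg_of_add_eq_zero_left e]; exact neg_mem (Submodule.smul_mem _ a (Submodule.mem_span_singleton_self v0))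
    · have hu' : polar Q v0 u = 0 := hu
      rw [WittExt.quad_expand, polar_comm, hu', ← ha]
      field_simp
      linear_combination (Q u) * h2
  · obtain ⟨u, hu, hu0⟩ : ∃ u ∈ LinearMap.ker (polarBilin Q v0), u ≠ 0 :=
      Submodule.exists_mem_ne_zero_of_ne_bot fun e => by
        have := hker (polarBilin Q v0); rw [e, finrank_bot] at this; omega
    obtain ⟨w, hw, hw0⟩ : ∃ w ∈ LinearMap.ker (polarBilin Q v0) ⊓ LinearMap.ker (polarBilin Q u), w ≠ 0 :=
      Submodule.exists_mem_ne_zero_of_ne_bot fun e => by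
        have h1 := Submodule.finrank_sup_add_finrank_inf_eq (LinearMap.ker (polarBilin Q v0)) (LinearMap.ker (polarBilin Q u))
        rw [e, finrank_bot] at h1
        have h3 := Submodule.finrank_le (LinearMap.ker (polarBilin Q v0) ⊔ LinearMap.ker (polarBilin Q u))
        have := hker (polarBilin Q v0); have := hker (polarBilin Q u)
        omega
    obtain ⟨x, y, hxy⟩ := OrthBasis.exists_diag_one h2 (a := Q u / (-Q v0)) (b := Q w / (-Q v0))
      (div_ne_zero (hc u hu0) (neg_ne_zero.2 hq0)) (div_ne_zero (hc w hw0) (neg_ne_zero.2 hq0))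
    have e1 : polar Q v0 u = 0 := hu
    have e2 : polar Q v0 w = 0 := (Submodule.mem_inf.1 hw).1
    have e3 : polar Q u w = 0 := (Submodule.mem_inf.1 hw).2
    refine hc (v0 + (x • u + y • w)) (fun e => ?_) ?_
    · have h : polar Q v0 (v0 + (x • u + y • w)) = 0 := by rw [e]; simp
      rw [polar_add_right, polar_add_right, polar_smul_right, polar_smul_right, e1, e2, WittExt.polar_self_eq] at h
      simp [h2, hq0] at h
    · rw [QuadraticMap.map_add (⇑Q), QuadraticMap.map_add (⇑Q) (x • u), QuadraticMap.map_smul, QuadraticMap.map_smul,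
        polar_add_right, polar_smul_right, polar_smul_right, polar_smul_left, polar_smul_right, e1, e2, e3]
      simp only [smul_eq_mul, mul_zero, add_zero]
      field_simp at hxy
      linear_combination -hxy

theorem exists_singular [Finite F] [FiniteDimensional F V] (_hQ : (polarBilin Q).Nondegenerate)
    (hn : 3 ≤ finrank F V) : ∃ v, v ≠ 0 ∧ Q v = 0 :=
  exists_singular_any Q hn

theorem exists_singular_mem [Finite F] [FiniteDimensional F V] (S : Submodule F V) (hn : 3 ≤ finrank F S) :
    ∃ v ∈ S, v ≠ 0 ∧ Q v = 0 := by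
  obtain ⟨v, hv0, hv⟩ := exists_singular_any (Q.comp S.subtype) hn
  exact ⟨v, v.2, fun e => hv0 (Subtype.ext e), hv⟩

end general

theorem exists_decomp_aux : ∀ (n : ℕ) {V : Type uV} [AddCommGroup V] [Module F V] [FiniteDimensional F V]
    (Q : QuadraticForm F V), (polarBilin Q).Nondegenerate → finrank F V = n →
    ∃ (k d : ℕ) (G : QuadraticForm F (Fin d → F)), Decomp Q k d G ∧ Aniso G := by
  intro n
  induction n using Nat.strong_induction_on with
  | _ n ih =>
  intro V _ _ _ Q hQ hn
  by_cases hA : Aniso Q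
  · let e : (Fin (finrank F V) → F) ≃ₗ[F] V := (Module.finBasis F V).equivFun.symm
    refine ⟨0, finrank F V, Q.comp e.toLinearMap,
      ⟨{ toFun := fun p => e p.2
         map_add' := fun p p' => map_add e p.2 p'.2
         map_smul' := fun c p => map_smul e c p.2
         invFun := fun v => (0, e.symm v)
         left_inv := fun p => Prod.ext (funext fun s => s.elim (fun i => i.elim0) (fun i => i.elim0)) (e.symm_apply_apply _)
         right_inv := fun v => e.apply_symm_apply v }, fun p => ?_⟩,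
      fun x hx => e.map_eq_zero_iff.1 (hA _ hx)⟩
    show Q (e p.2) = _ + Q (e p.2)
    simp [Cfsg.quadFormPlus]
  · simp only [Aniso, not_forall] at hA
    obtain ⟨u, hu, hu0⟩ := hA
    obtain ⟨w0, hw0⟩ : ∃ w0, polar Q u w0 = 1 := by
      obtain ⟨z, hz⟩ : ∃ z, polar Q u z ≠ 0 := by
        by_contra hc
        simp only [not_exists, not_not] at hc
        exact hu0 (hQ.1 u hc)
      exact ⟨(polar Q u z)⁻¹ • z, by rw [polar_smul_right, smul_eq_mul, inv_mul_cancel₀ hz]⟩
    have huu : polar Q u u = 0 := by rw [WittExt.polar_self_eq, hu, mul_zero]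
    set w := w0 + (-Q w0) • u with hwdef
    have huw : polar Q u w = 1 := by rw [hwdef, polar_add_right, polar_smul_right, hw0, huu, smul_zero, add_zero]
    have hw : Q w = 0 := by rw [hwdef, WittExt.quad_expand, polar_comm, hw0, hu]; ring
    have hww : polar Q w w = 0 := by rw [WittExt.polar_self_eq, hw, mul_zero]
    have hwu : polar Q w u = 1 := by rw [polar_comm]; exact huw
    clear_value w
    let W : Submodule F V := LinearMap.ker (polarBilin Q u) ⊓ LinearMap.ker (polarBilin Q w)
    have hW : ∀ x, x ∈ W ↔ polar Q u x = 0 ∧ polar Q w x = 0 := fun x => Iff.rfl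
    have hproj : ∀ v, v - polar Q w v • u - polar Q u v • w ∈ W := fun v => by
      rw [hW]
      simp [polar_sub_right, polar_smul_right, huu, huw, hwu, hww]
    have hnd : (polarBilin (Q.comp W.subtype)).Nondegenerate := by
      have h1 : ∀ x : W, (∀ y : W, polar (Q.comp W.subtype) x y = 0) → x = 0 := fun x hx => by
        obtain ⟨hx1, hx2⟩ := (hW x).1 x.2
        refine Subtype.ext (hQ.1 _ fun v => ?_)
        have h := hx ⟨_, hproj v⟩
        change polar Q (x : V) (v - polar Q w v • u - polar Q u v • w) = 0 at h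
        rw [polar_sub_right, polar_sub_right, polar_smul_right, polar_smul_right, polar_comm _ (x : V) u,
          polar_comm _ (x : V) w, hx1, hx2, smul_zero, smul_zero, sub_zero, sub_zero] at h
        exact h
      exact ⟨h1, fun y hy => h1 y fun x => by rw [polar_comm]; exact hy x⟩
    have hlt : finrank F W < n := by
      rw [← hn]
      refine Submodule.finrank_lt fun e => ?_
      have h := ((hW u).1 (e ▸ Submodule.mem_top)).2
      rw [hwu] at h
      exact one_ne_zero h
    obtain ⟨k, d, G, ⟨φ, hφ⟩, hG⟩ := ih _ hlt (Q.comp W.subtype) hnd rfl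
    let r : ((Fin (k + 1) ⊕ Fin (k + 1) → F) × (Fin d → F)) →ₗ[F] ((Fin k ⊕ Fin k → F) × (Fin d → F)) :=
      LinearMap.prodMap (LinearMap.funLeft F F (Sum.map Fin.succ Fin.succ)) LinearMap.id
    let L : ((Fin (k + 1) ⊕ Fin (k + 1) → F) × (Fin d → F)) →ₗ[F] V :=
      { toFun := fun p => p.1 (.inl 0) • u + p.1 (.inr 0) • w + (φ (r p) : V)
        map_add' := fun p p' => by
          simp only [Prod.fst_add, Pi.add_apply, map_add, Submodule.coe_add]; module
        map_smul' := fun c p => by
          simp only [Prod.smul_fst, Pi.smul_apply, smul_eq_mul, map_smul, Submodule.coe_smul, RingHom.id_apply]; module }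
    have hL1 : ∀ p, polar Q w (L p) = p.1 (.inl 0) := fun p => by
      show polar Q w (_ + _ + _) = _
      simp [polar_add_right, polar_smul_right, hwu, hww, ((hW _).1 (φ (r p)).2).2]
    have hL2 : ∀ p, polar Q u (L p) = p.1 (.inr 0) := fun p => by
      show polar Q u (_ + _ + _) = _
      simp [polar_add_right, polar_smul_right, huu, huw, ((hW _).1 (φ (r p)).2).1]
    have hinj : Function.Injective L := by
      rw [← LinearMap.ker_eq_bot, LinearMap.ker_eq_bot']
      intro p hp
      have a0 : p.1 (.inl 0) = 0 := by rw [← hL1 p, hp]; simp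
      have b0 : p.1 (.inr 0) = 0 := by rw [← hL2 p, hp]; simp
      change p.1 (.inl 0) • u + p.1 (.inr 0) • w + (φ (r p) : V) = 0 at hp
      rw [a0, b0, zero_smul, zero_smul, zero_add, zero_add, ZeroMemClass.coe_eq_zero, LinearEquiv.map_eq_zero_iff] at hp
      refine Prod.ext (funext fun s => ?_) (congrArg Prod.snd hp :)
      rcases s with i | i <;> refine Fin.cases ?_ (fun j => ?_) i
      · exact a0
      · exact congrFun (congrArg Prod.fst hp) (.inl j)
      · exact b0
      · exact congrFun (congrArg Prod.fst hp) (.inr j)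
    have hsurj : Function.Surjective L := fun v => by
      let q := φ.symm ⟨_, hproj v⟩
      refine ⟨(Sum.elim (Fin.cons (polar Q w v) fun i => q.1 (.inl i)) (Fin.cons (polar Q u v) fun i => q.1 (.inr i)), q.2), ?_⟩
      show _ + _ + _ = v
      have hr : r (Sum.elim (Fin.cons (polar Q w v) fun i => q.1 (.inl i)) (Fin.cons (polar Q u v) fun i => q.1 (.inr i)), q.2) = q :=
        Prod.ext (funext fun s => by rcases s with i | i <;> simp [r]) rfl
      rw [hr, show (φ q : V) = v - polar Q w v • u - polar Q u v • w from congrArg Subtype.val (φ.apply_symm_apply _)]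
      simp only [Sum.elim_inl, Sum.elim_inr, Fin.cons_zero]
      module
    refine ⟨k + 1, d, G, ⟨LinearEquiv.ofBijective L ⟨hinj, hsurj⟩, fun p => ?_⟩, hG⟩
    show Q (p.1 (.inl 0) • u + p.1 (.inr 0) • w + (φ (r p) : V)) = _
    have hφp : Q (φ (r p) : V) = _ := hφ (r p)
    obtain ⟨e1, e2⟩ := (hW _).1 (φ (r p)).2
    rw [QuadraticMap.map_add (⇑Q), QuadraticMap.map_add (⇑Q) (p.1 (.inl 0) • u), QuadraticMap.map_smul,
      QuadraticMap.map_smul, polar_smul_left, polar_smul_right, polar_add_left, polar_smul_left, polar_smul_left,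
      hu, hw, huw, e1, e2, hφp]
    simp [Cfsg.quadFormPlus, Fin.sum_univ_succ, r]
    ring

theorem exists_decomp {V : Type uV} [AddCommGroup V] [Module F V] [FiniteDimensional F V]
    (Q : QuadraticForm F V) (hQ : (polarBilin Q).Nondegenerate) :
    ∃ (k d : ℕ) (G : QuadraticForm F (Fin d → F)), Decomp Q k d G ∧ Aniso G :=
  exists_decomp_aux _ Q hQ rfl

section decomp

variable {V : Type uV} [AddCommGroup V] [Module F V] [FiniteDimensional F V] {Q : QuadraticForm F V}
  {k d : ℕ} {G : QuadraticForm F (Fin d → F)}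

theorem Decomp.finrank_eq (h : Decomp Q k d G) : finrank F V = 2 * k + d := by
  obtain ⟨φ, -⟩ := h
  rw [← φ.finrank_eq, finrank_prod, finrank_pi, finrank_pi, Fintype.card_sum, Fintype.card_fin, Fintype.card_fin]
  omega

theorem Decomp.nondeg (h : Decomp Q k d G) (hQ : (polarBilin Q).Nondegenerate) : (polarBilin G).Nondegenerate := by
  obtain ⟨φ, hφ⟩ := h
  have h1 : ∀ x, (∀ y, polar G x y = 0) → x = 0 := fun x hx => by
    have h0 : φ (0, x) = 0 := hQ.1 _ fun v => by
      show polar Q (φ (0, x)) v = 0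
      obtain ⟨p, rfl⟩ := φ.surjective v
      rw [polar, ← map_add, hφ, hφ, hφ]
      have := hx p.2
      rw [polar] at this
      simp [Cfsg.quadFormPlus]
      linear_combination this
    exact congrArg Prod.snd (φ.map_eq_zero_iff.1 h0)
  exact ⟨h1, fun y hy => h1 y fun x => by rw [polar_comm]; exact hy x⟩

theorem Decomp.aniso_le_two [Finite F] (h : Decomp Q k d G) (hQ : (polarBilin Q).Nondegenerate) (hG : Aniso G) :
    d ≤ 2 := by
  by_contra hd
  obtain ⟨v, hv0, hv⟩ := exists_singular G (h.nondeg hQ) (by rw [finrank_pi, Fintype.card_fin]; omega)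
  exact hv0 (hG v hv)

theorem Decomp.exists_singular_subspace (h : Decomp Q k d G) :
    ∃ W : Submodule F V, finrank F W = k ∧ ∀ w ∈ W, Q w = 0 := by
  obtain ⟨φ, hφ⟩ := h
  let i : (Fin k → F) →ₗ[F] ((Fin k ⊕ Fin k → F) × (Fin d → F)) :=
    { toFun := fun a => (Sum.elim a 0, 0)
      map_add' := fun a b => by refine Prod.ext (funext fun s => ?_) ?_ <;> (try rcases s with j | j) <;> simp
      map_smul' := fun c a => by refine Prod.ext (funext fun s => ?_) ?_ <;> (try rcases s with j | j) <;> simp }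
  have hi : Function.Injective (φ.toLinearMap.comp i) :=
    φ.injective.comp fun a b e => funext fun j => congrFun (congrArg Prod.fst e) (.inl j)
  refine ⟨LinearMap.range (φ.toLinearMap.comp i), by rw [LinearMap.finrank_range_of_inj hi, finrank_fin_fun], ?_⟩
  rintro _ ⟨a, rfl⟩
  show Q (φ (i a)) = 0
  rw [hφ]
  simp [i, Cfsg.quadFormPlus]

theorem Decomp.finrank_le_of_singular (h : Decomp Q k d G) (hQ : (polarBilin Q).Nondegenerate) (hG : Aniso G)
    (W : Submodule F V) (hW : ∀ w ∈ W, Q w = 0) : finrank F W ≤ k := by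
  obtain ⟨φ, hφ⟩ := h
  let i : (Fin k → F) →ₗ[F] ((Fin k ⊕ Fin k → F) × (Fin d → F)) :=
    { toFun := fun a => (Sum.elim a 0, 0)
      map_add' := fun a b => by refine Prod.ext (funext fun s => ?_) ?_ <;> (try rcases s with j | j) <;> simp
      map_smul' := fun c a => by refine Prod.ext (funext fun s => ?_) ?_ <;> (try rcases s with j | j) <;> simp }
  have hi : Function.Injective (φ.toLinearMap.comp i) :=
    φ.injective.comp fun a b e => funext fun j => congrFun (congrArg Prod.fst e) (.inl j)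
  have hdim : finrank F (LinearMap.range (φ.toLinearMap.comp i)) = k := by
    rw [LinearMap.finrank_range_of_inj hi, finrank_fin_fun]
  rw [← hdim]
  by_contra hlt
  push Not at hlt
  -- extend along Witt's theorem
  obtain ⟨b, hb⟩ := exists_linearIndependent_of_le_finrank (R := F) (M := W) (n := k) (by omega)
  let f : LinearMap.range (φ.toLinearMap.comp i) →ₗ[F] V :=
    W.subtype.comp ((Module.finBasisOfFinrankEq F _ hdim).constr F b)
  obtain ⟨g, hg, hgx⟩ := WittExt.extend Q hQ _ _ f rfl
    (W.injective_subtype.comp ((Module.finBasisOfFinrankEq F _ hdim).injective_constr_of_linearIndependent hb))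
    (fun x => by
      obtain ⟨a, ha⟩ := x.2
      rw [← ha, show Q ((φ.toLinearMap.comp i) a) = 0 by show Q (φ (i a)) = 0; rw [hφ]; simp [i, Cfsg.quadFormPlus]]
      exact hW _ ((Module.finBasisOfFinrankEq F _ hdim).constr F b x).2)
  have key : W.map g.symm.toLinearMap ≤ LinearMap.range (φ.toLinearMap.comp i) := by
    rintro _ ⟨x, hx, rfl⟩
    obtain ⟨p, hp⟩ := φ.surjective (g.symm x)
    show g.symm x ∈ _
    have hsum : ∀ a, Q (φ (p + i a)) = 0 := fun a => by
      rw [map_add, hp, ← hg, map_add, g.apply_symm_apply]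
      refine hW _ (W.add_mem hx ?_)
      have : g (φ (i a)) = f ⟨φ (i a), a, rfl⟩ := hgx ⟨φ (i a), a, rfl⟩
      rw [this]; exact ((Module.finBasisOfFinrankEq F _ hdim).constr F b _).2
    have hy : ∀ j, p.1 (.inr j) = 0 := fun j => by
      have h1 := hsum (Pi.single j 1)
      have h0 := hsum 0
      rw [hφ] at h1 h0
      simp [i, Cfsg.quadFormPlus, add_mul, Finset.sum_add_distrib, Pi.single_apply] at h1 h0
      linear_combination h1 - h0
    have hz : p.2 = 0 := hG _ (by
      have h0 := hsum 0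
      rw [hφ] at h0
      simpa [Cfsg.quadFormPlus, hy] using h0)
    refine ⟨fun j => p.1 (.inl j), ?_⟩
    rw [← hp]
    show φ (i _) = φ p
    exact congrArg φ (Prod.ext (funext fun s => by rcases s with j | j <;> simp [i, hy]) hz.symm)
  have := Submodule.finrank_mono key
  rw [LinearEquiv.finrank_map_eq] at this
  omega

end decomp

section plane

/-- A bilinear form with diagonal `z₁² + a z₁ z₂ + b z₂²`. -/
def plane0 (a b : F) : (Fin 2 → F) →ₗ[F] (Fin 2 → F) →ₗ[F] F :=
  LinearMap.mk₂ F (fun u v => u 0 * v 0 + a * u 0 * v 1 + b * u 1 * v 1)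
    (fun u u' v => by simp; ring) (fun c u v => by simp; ring)
    (fun u v v' => by simp; ring) (fun c u v => by simp; ring)

/-- The binary form `z₁² + a z₁ z₂ + b z₂²`. -/
def plane (a b : F) : QuadraticForm F (Fin 2 → F) := LinearMap.BilinMap.toQuadraticMap (plane0 a b)

theorem plane_apply (a b : F) (z : Fin 2 → F) : plane a b z = z 0 ^ 2 + a * z 0 * z 1 + b * z 1 ^ 2 := by
  show z 0 * z 0 + a * z 0 * z 1 + b * z 1 * z 1 = _
  ring

theorem polar_plane (a b : F) (u v : Fin 2 → F) :
    polar (plane a b) u v = 2 * (u 0 * v 0) + a * (u 0 * v 1 + u 1 * v 0) + 2 * (b * (u 1 * v 1)) := by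
  simp [polar, plane_apply]; ring

variable [Finite F]

theorem plane_disc_ne (a b : F) (hab : ∀ z₁ z₂ : F, z₁ ^ 2 + a * z₁ * z₂ + b * z₂ ^ 2 = 0 → z₁ = 0 ∧ z₂ = 0) :
    4 * b - a ^ 2 ≠ 0 := by
  intro h
  haveI := Fintype.ofFinite F
  by_cases h2 : (2 : F) = 0
  · have hch : ringChar F = 2 := CharP.ringChar_of_prime_eq_zero Nat.prime_two (by exact_mod_cast h2)
    have ha : a = 0 := by simpa using show a ^ 2 = 0 by linear_combination -h + (2 * b) * h2
    obtain ⟨s, hs⟩ := FiniteField.isSquare_of_char_two hch b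
    refine one_ne_zero (hab s 1 ?_).2
    rw [ha, hs]; linear_combination (s * s) * h2
  · exact neg_ne_zero.2 h2 (hab a (-2) (by linear_combination h)).2

theorem plane_nondeg (a b : F) (hab : ∀ z₁ z₂ : F, z₁ ^ 2 + a * z₁ * z₂ + b * z₂ ^ 2 = 0 → z₁ = 0 ∧ z₂ = 0) :
    (polarBilin (plane a b)).Nondegenerate := by
  have hd := plane_disc_ne a b hab
  have h1 : ∀ x, (∀ y, polar (plane a b) x y = 0) → x = 0 := fun x hx => by
    have e0 := hx (Pi.single 0 1)
    have e1 := hx (Pi.single 1 1)
    simp [polar_plane] at e0 e1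
    have f0 : (4 * b - a ^ 2) * x 0 = 0 := by linear_combination (2 * b) * e0 - a * e1
    have f1 : (4 * b - a ^ 2) * x 1 = 0 := by linear_combination (2 : F) * e1 - a * e0
    funext i
    fin_cases i
    · exact (mul_eq_zero.1 f0).resolve_left hd
    · exact (mul_eq_zero.1 f1).resolve_left hd
  exact ⟨h1, fun y hy => h1 y fun x => by rw [polar_comm]; exact hy x⟩

theorem plane_aniso (a b : F) (hab : ∀ z₁ z₂ : F, z₁ ^ 2 + a * z₁ * z₂ + b * z₂ ^ 2 = 0 → z₁ = 0 ∧ z₂ = 0) :
    Aniso (plane a b) := fun x hx => by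
  rw [plane_apply] at hx
  funext i
  fin_cases i
  · exact (hab _ _ hx).1
  · exact (hab _ _ hx).2

/-- Any anisotropic plane has each normal form. -/
theorem exists_plane_equiv (G : QuadraticForm F (Fin 2 → F)) (hG : (polarBilin G).Nondegenerate) (hA : Aniso G) :
    (∃ ζ : F, ∀ t : F, t ^ 2 + t + ζ ≠ 0) ∧
    ∀ ζ : F, (∀ t : F, t ^ 2 + t + ζ ≠ 0) →
      ∃ ψ : (Fin 2 → F) ≃ₗ[F] (Fin 2 → F), ∀ z, G (ψ z) = plane 1 ζ z := by
  classical
  haveI := Fintype.ofFinite F
  obtain ⟨x, hx⟩ : ∃ x, G x = 1 := by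
    by_cases h2 : (2 : F) = 0
    · have hch : ringChar F = 2 := CharP.ringChar_of_prime_eq_zero Nat.prime_two (by exact_mod_cast h2)
      obtain ⟨v, hv⟩ : ∃ v : Fin 2 → F, v ≠ 0 := exists_ne 0
      obtain ⟨s, hs⟩ := FiniteField.isSquare_of_char_two hch (G v)⁻¹
      refine ⟨s • v, ?_⟩
      rw [QuadraticMap.map_smul, smul_eq_mul, ← hs, inv_mul_cancel₀ fun e => hv (hA v e)]
    · exact Refl.represents G hG h2 (by simp) one_ne_zero
  have hx0 : x ≠ 0 := fun e => by rw [e, QuadraticMap.map_zero] at hx; exact zero_ne_one hx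
  obtain ⟨y, hy, hyx⟩ : ∃ y, polar G x y = 1 ∧ y ∉ (F ∙ x) := by
    obtain ⟨z, hz⟩ : ∃ z, polar G x z ≠ 0 := by
      by_contra hc
      simp only [not_exists, not_not] at hc
      exact hx0 (hG.1 x hc)
    have hy : polar G x ((polar G x z)⁻¹ • z) = 1 := by rw [polar_smul_right, smul_eq_mul, inv_mul_cancel₀ hz]
    by_cases h : (polar G x z)⁻¹ • z ∈ (F ∙ x)
    · obtain ⟨c, hc⟩ := Submodule.mem_span_singleton.1 h
      obtain ⟨j, hj, hj0⟩ : ∃ j ∈ LinearMap.ker (polarBilin G x), j ≠ 0 :=
        Submodule.exists_mem_ne_zero_of_ne_bot fun e => by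
          have h1 := Refl.le_finrank_ker (polarBilin G x)
          rw [e, finrank_bot, Fintype.card_fin] at h1; omega
      refine ⟨(polar G x z)⁻¹ • z + j, by rw [polar_add_right, hy, show polar G x j = 0 from hj, add_zero], fun hm => ?_⟩
      obtain ⟨c', hc'⟩ := Submodule.mem_span_singleton.1 hm
      have hjx : j = (c' - c) • x := by rw [sub_smul, hc', hc, add_sub_cancel_left]
      have hxx : polar G x x ≠ 0 := fun e => by rw [← hc, polar_smul_right, e, smul_zero] at hy; exact zero_ne_one hy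
      have hj' : polar G x j = 0 := hj
      rw [hjx, polar_smul_right, smul_eq_mul, mul_eq_zero] at hj'
      rw [hjx, hj'.resolve_right hxx, zero_smul] at hj0
      exact hj0 rfl
    · exact ⟨_, hy, h⟩
  have hexp : ∀ s t : F, G (s • x + t • y) = s ^ 2 + s * t + G y * t ^ 2 := fun s t => by
    rw [QuadraticMap.map_add (⇑G), QuadraticMap.map_smul, QuadraticMap.map_smul, polar_smul_left, polar_smul_right,
      hx, hy]
    simp only [smul_eq_mul]; ring
  have hind : ∀ s t : F, s • x + t • y = 0 → s = 0 ∧ t = 0 := fun s t e => by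
    have ht : t = 0 := by
      by_contra ht
      apply hyx
      have : y = (-(s / t)) • x := by
        have hh : t • y = (-s) • x := by rw [neg_smul]; exact eq_neg_of_add_eq_zero_right e
        rw [← one_smul F y, ← inv_mul_cancel₀ ht, mul_smul, hh, smul_smul]; congr 1; ring
      rw [this]; exact Submodule.smul_mem _ _ (Submodule.mem_span_singleton_self x)
    rw [ht, zero_smul, add_zero, smul_eq_zero] at e
    exact ⟨e.resolve_right hx0, ht⟩
  have hirr : ∀ t : F, t ^ 2 + t + G y ≠ 0 := fun t e => by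
    refine one_ne_zero (hind t 1 (hA _ ?_)).2
    rw [hexp]; linear_combination e
  refine ⟨⟨G y, hirr⟩, fun ζ hζ => ?_⟩
  obtain ⟨c, u, hu, huc, hval⟩ : ∃ c u : F, u ≠ 0 ∧ 2 * c + u = 1 ∧ c ^ 2 + c * u + G y * u ^ 2 = ζ := by
    by_cases h2 : (2 : F) = 0
    · let S : F →+ F := AddMonoidHom.mk' (fun c => c ^ 2 + c) fun a b => by linear_combination (a * b) * h2
      have hker : Nat.card S.ker = 2 := by
        rw [Nat.card_eq_two_iff]
        refine ⟨⟨0, map_zero S⟩, ⟨1, show (1 : F) ^ 2 + 1 = 0 by linear_combination h2⟩,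
          fun e => zero_ne_one (congrArg Subtype.val e :), ?_⟩
        refine Set.eq_univ_of_forall fun ⟨c, hc⟩ => ?_
        have hc0 : c ^ 2 + c = 0 := hc
        have hc' : c * (c + 1) = 0 := by linear_combination hc0
        rcases mul_eq_zero.1 hc' with h | h
        · exact Or.inl (Subtype.ext h)
        · exact Or.inr (Subtype.ext (show c = 1 by linear_combination h - h2))
      have hidx : S.range.index = 2 := by
        have h1 := S.range.card_mul_index
        have h3 := S.ker.card_mul_index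
        rw [AddSubgroup.index_ker, hker] at h3
        have hpos : 0 < Nat.card S.range := Nat.card_pos
        exact Nat.eq_of_mul_eq_mul_left hpos (by rw [h1, mul_comm, h3])
      have h1 : G y ∉ S.range := fun ⟨c, hc⟩ => hirr c (by
        have : c ^ 2 + c = G y := hc
        linear_combination this + (G y) * h2)
      have h3 : ζ ∉ S.range := fun ⟨c, hc⟩ => hζ c (by
        have : c ^ 2 + c = ζ := hc
        linear_combination this + ζ * h2)
      obtain ⟨c, hc⟩ : G y + ζ ∈ S.range := (AddSubgroup.add_mem_iff_of_index_two hidx).2 (iff_of_false h1 h3)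
      have hc' : c ^ 2 + c = G y + ζ := hc
      exact ⟨c, 1, one_ne_zero, by linear_combination c * h2, by linear_combination hc' + (G y) * h2⟩
    · have hh : (2 : F) * (1 / 2) = 1 := by field_simp
      have n1 : ¬ IsSquare (1 - 4 * G y) := fun ⟨s, hs⟩ => hirr ((s - 1) / 2) (by field_simp; linear_combination -hs)
      have n2 : ¬ IsSquare (1 - 4 * ζ) := fun ⟨s, hs⟩ => hζ ((s - 1) / 2) (by field_simp; linear_combination -hs)
      have hne : 1 - 4 * G y ≠ 0 := fun e => n1 ⟨0, by rw [e, mul_zero]⟩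
      have hne' : 1 - 4 * ζ ≠ 0 := fun e => n2 ⟨0, by rw [e, mul_zero]⟩
      obtain ⟨r, hr⟩ : IsSquare ((1 - 4 * ζ) * (1 - 4 * G y)) := by
        rw [← quadraticChar_one_iff_isSquare (mul_ne_zero hne' hne), map_mul,
          (quadraticChar_neg_one_iff_not_isSquare).2 n1, (quadraticChar_neg_one_iff_not_isSquare).2 n2]
        norm_num
      have hr0 : r ≠ 0 := fun e => mul_ne_zero hne' hne (by rw [hr, e, mul_zero])
      refine ⟨(1 - r / (1 - 4 * G y)) / 2, r / (1 - 4 * G y), div_ne_zero hr0 hne, by field_simp; ring, ?_⟩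
      field_simp
      linear_combination (1 - 4 * G y) * hr
  let L : (Fin 2 → F) →ₗ[F] (Fin 2 → F) :=
    { toFun := fun z => (z 0 + c * z 1) • x + (u * z 1) • y
      map_add' := fun a b => by simp only [Pi.add_apply]; module
      map_smul' := fun a b => by simp only [Pi.smul_apply, smul_eq_mul, RingHom.id_apply]; module }
  have hL : Function.Injective L := by
    rw [← LinearMap.ker_eq_bot, LinearMap.ker_eq_bot']
    intro z hz
    obtain ⟨e1, e2⟩ := hind _ _ hz
    have z1 : z 1 = 0 := (mul_eq_zero.1 e2).resolve_left hu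
    rw [z1, mul_zero, add_zero] at e1
    funext i
    fin_cases i
    · exact e1
    · exact z1
  refine ⟨LinearEquiv.ofBijective L ⟨hL, LinearMap.injective_iff_surjective.1 hL⟩, fun z => ?_⟩
  show G ((z 0 + c * z 1) • x + (u * z 1) • y) = _
  rw [hexp, plane_apply]
  linear_combination (z 0 * z 1) * huc + (z 1 ^ 2) * hval

end plane

section normal

variable {V : Type uV} [AddCommGroup V] [Module F V] [FiniteDimensional F V] (Q : QuadraticForm F V)
  (hQ : (polarBilin Q).Nondegenerate)

/-- The elliptic form as a quadratic map. -/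
def QM (k : ℕ) (a b : F) : QuadraticForm F ((Fin k ⊕ Fin k) ⊕ Fin 2 → F) :=
  (PlusMax.QP (F := F) (m := k)).comp (LinearMap.funLeft F F Sum.inl) +
    (plane a b).comp (LinearMap.funLeft F F Sum.inr)

theorem QM_apply (k : ℕ) (a b : F) (v : (Fin k ⊕ Fin k) ⊕ Fin 2 → F) : QM k a b v = Cfsg.quadFormMinus k F a b v := by
  show PlusMax.QP (fun i => v (.inl i)) + plane a b (fun i => v (.inr i)) = _
  rw [plane_apply]
  rfl

/-- Splitting of coordinates. -/
def splitEquiv (k : ℕ) (β : Type) : ((Fin k ⊕ Fin k) ⊕ β → F) ≃ₗ[F] ((Fin k ⊕ Fin k → F) × (β → F)) :=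
  LinearEquiv.sumArrowLequivProdArrow _ _ F F

theorem QM_decomp (k : ℕ) (a b : F) : Decomp (QM k a b) k 2 (plane a b) :=
  ⟨(splitEquiv k (Fin 2)).symm, fun p => by
    show PlusMax.QP (p.1) + plane a b p.2 = _
    rfl⟩

theorem QP_decomp (m : ℕ) : Decomp (PlusMax.QP (F := F) (m := m)) m 0 0 :=
  ⟨{ toFun := fun p => p.1
     map_add' := fun _ _ => rfl
     map_smul' := fun _ _ => rfl
     invFun := fun v => (v, 0)
     left_inv := fun p => Prod.ext rfl (funext fun i => i.elim0)
     right_inv := fun _ => rfl }, fun p => by simp [PlusMax.QP_apply]⟩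

theorem QP_aniso : Aniso (0 : QuadraticForm F (Fin 0 → F)) := fun x _ => funext fun i => i.elim0

theorem QM_nondeg [Finite F] (k : ℕ) (a b : F)
    (hab : ∀ z₁ z₂ : F, z₁ ^ 2 + a * z₁ * z₂ + b * z₂ ^ 2 = 0 → z₁ = 0 ∧ z₂ = 0) :
    (polarBilin (QM k a b)).Nondegenerate := by
  have hpol : ∀ u v, polar (QM k a b) u v = polar PlusMax.QP (u ∘ Sum.inl) (v ∘ Sum.inl) +
      polar (plane a b) (u ∘ Sum.inr) (v ∘ Sum.inr) := fun u v => by
    have e : ∀ w, QM k a b w = PlusMax.QP (w ∘ Sum.inl) + plane a b (w ∘ Sum.inr) := fun w => rfl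
    simp only [polar, e, Pi.add_comp]
    ring
  have h1 : ∀ u, (∀ v, polar (QM k a b) u v = 0) → u = 0 := fun u hu => by
    have e1 : u ∘ Sum.inl = 0 := PlusMax.nondeg.1 _ fun y => by
      have h := hu (Sum.elim y 0)
      rw [hpol, Sum.elim_comp_inl, Sum.elim_comp_inr, polar_zero_right, add_zero] at h
      exact h
    have e2 : u ∘ Sum.inr = 0 := (plane_nondeg a b hab).1 _ fun y => by
      have h := hu (Sum.elim 0 y)
      rw [hpol, Sum.elim_comp_inl, Sum.elim_comp_inr, polar_zero_right, zero_add] at h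
      exact h
    funext i
    rcases i with i | i
    · exact congrFun e1 i
    · exact congrFun e2 i
  exact ⟨h1, fun y hy => h1 y fun x => by rw [polar_comm]; exact hy x⟩

variable [Finite F]

include hQ

theorem exists_equiv_plus {m : ℕ} (hV : finrank F V = 2 * m)
    (h : ∃ W : Submodule F V, finrank F W = m ∧ ∀ w ∈ W, Q w = 0) :
    ∃ φ : (Fin m ⊕ Fin m → F) ≃ₗ[F] V, ∀ v, Q (φ v) = Cfsg.quadFormPlus m F v := by
  obtain ⟨k, d, G, hd, hG⟩ := exists_decomp Q hQ
  obtain ⟨W, hW, hW'⟩ := h
  have h1 := hd.finrank_le_of_singular hQ hG W hW'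
  have h2 := hd.finrank_eq
  obtain rfl : d = 0 := by omega
  obtain rfl : k = m := by omega
  obtain ⟨φ, hφ⟩ := hd
  refine ⟨({ toFun := fun v => (v, (0 : Fin 0 → F))
             map_add' := fun _ _ => Prod.ext rfl (funext fun i => i.elim0)
             map_smul' := fun _ _ => Prod.ext rfl (funext fun i => i.elim0)
             invFun := fun p => p.1
             left_inv := fun _ => rfl
             right_inv := fun p => Prod.ext rfl (funext fun i => i.elim0) } :
    (Fin k ⊕ Fin k → F) ≃ₗ[F] _).trans φ, fun v => ?_⟩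
  show Q (φ (v, 0)) = _
  rw [hφ, QuadraticMap.map_zero, add_zero]

theorem minus_irreducible {m : ℕ} (hV : finrank F V = 2 * m)
    (h : ¬ ∃ W : Submodule F V, finrank F W = m ∧ ∀ w ∈ W, Q w = 0) :
    1 ≤ m ∧ (∃ ζ : F, ∀ t : F, t ^ 2 + t + ζ ≠ 0) := by
  obtain ⟨k, d, G, hd, hG⟩ := exists_decomp Q hQ
  have h2 := hd.finrank_eq
  have h3 := hd.aniso_le_two hQ hG
  by_cases hd0 : d = 0
  · exact absurd (by obtain ⟨W, hW, hW'⟩ := hd.exists_singular_subspace; exact ⟨W, by omega, hW'⟩) h
  obtain rfl : d = 2 := by omega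
  exact ⟨by omega, (exists_plane_equiv G (hd.nondeg hQ) hG).1⟩

theorem exists_equiv_minus {m : ℕ} (hV : finrank F V = 2 * m)
    (h : ¬ ∃ W : Submodule F V, finrank F W = m ∧ ∀ w ∈ W, Q w = 0) (a b : F)
    (hab : ∀ z₁ z₂ : F, z₁ ^ 2 + a * z₁ * z₂ + b * z₂ ^ 2 = 0 → z₁ = 0 ∧ z₂ = 0) :
    ∃ φ : ((Fin (m - 1) ⊕ Fin (m - 1)) ⊕ Fin 2 → F) ≃ₗ[F] V, ∀ v, Q (φ v) = Cfsg.quadFormMinus (m - 1) F a b v := by
  obtain ⟨k, d, G, hd, hG⟩ := exists_decomp Q hQ
  have h2 := hd.finrank_eq
  have h3 := hd.aniso_le_two hQ hG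
  by_cases hd0 : d = 0
  · exact absurd (by obtain ⟨W, hW, hW'⟩ := hd.exists_singular_subspace; exact ⟨W, by omega, hW'⟩) h
  obtain rfl : d = 2 := by omega
  obtain rfl : k = m - 1 := by omega
  have hGn := hd.nondeg hQ
  obtain ⟨φ, hφ⟩ := hd
  obtain ⟨⟨ζ, hζ⟩, hψ⟩ := exists_plane_equiv G hGn hG
  obtain ⟨ψ, hψ⟩ := hψ ζ hζ
  obtain ⟨χ, hχ⟩ := (exists_plane_equiv (plane a b) (plane_nondeg a b hab) (plane_aniso a b hab)).2 ζ hζ
  refine ⟨(splitEquiv (m - 1) (Fin 2)).trans ((LinearEquiv.prodCongr (LinearEquiv.refl F _) (χ.symm.trans ψ)).trans φ),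
    fun v => ?_⟩
  show Q (φ (fun i => v (.inl i), ψ (χ.symm fun i => v (.inr i)))) = _
  rw [hφ, hψ, ← hχ, LinearEquiv.apply_symm_apply, ← QM_apply]
  rfl

theorem exists_equiv_odd {m : ℕ} (hV : finrank F V = 2 * m + 1) :
    ∃ (c : F) (φ : ((Fin m ⊕ Fin m → F) × F) ≃ₗ[F] V), c ≠ 0 ∧
      ∀ p, Q (φ p) = Cfsg.quadFormPlus m F p.1 + c * p.2 ^ 2 := by
  obtain ⟨k, d, G, hd, hG⟩ := exists_decomp Q hQ
  have h2 := hd.finrank_eq
  have h3 := hd.aniso_le_two hQ hG
  obtain rfl : d = 1 := by omega
  obtain rfl : k = m := by omega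
  obtain ⟨φ, hφ⟩ := hd
  let e : F ≃ₗ[F] (Fin 1 → F) := (LinearEquiv.funUnique (Fin 1) F F).symm
  have he : ∀ x : F, e x = x • e 1 := fun x => by rw [← map_smul, smul_eq_mul, mul_one]
  refine ⟨G (e 1), (LinearEquiv.prodCongr (LinearEquiv.refl F _) e).trans φ,
    fun h => one_ne_zero (e.map_eq_zero_iff.1 (hG _ h)), fun p => ?_⟩
  show Q (φ (p.1, e p.2)) = _
  rw [hφ, he, QuadraticMap.map_smul, smul_eq_mul]
  ring

end normal

end Cfsg.Agent.Classical.WittDec
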