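import Cfsg.Agent.Lib.Classical.SymplecticMatrix
import Cfsg.Agent.Lib.Classical.Forms
import Cfsg.Agent.Lib.Classical.Unitary
import Cfsg.Agent.Lib.Classical.WittDecomp
import Cfsg.Agent.Lib.Classical.OrthCommutator
import Mathlib.FieldTheory.Finite.GaloisField

/-!
Restriction of scalars along a quadratic extension of finite fields.
-/

set_option autoImplicit false
set_option linter.style.haveILetI false

open Module

namespace Cfsg.Agent.Classical.FieldExt

open Cfsg.Agent.Classical.Sp

theorem exists_emb (F K : Type*) [Field F] [Fintype F] [Field K] [Fintype K] {d : ℕ} (hd : d ≠ 0)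
    (hK : Fintype.card K = Fintype.card F ^ d) : Nonempty (F →+* K) := by
  obtain ⟨a, hp, ha⟩ := FiniteField.card F (ringChar F)
  obtain ⟨b, hr, hb⟩ := FiniteField.card K (ringChar K)
  have hpr : ringChar F = ringChar K := by
    have h : ringChar K ∣ ringChar F ^ ((a : ℕ) * d) := by
      rw [pow_mul, ← ha, ← hK, hb]; exact dvd_pow_self _ b.ne_zero
    exact ((Nat.prime_dvd_prime_iff_eq hr hp).1 (hr.dvd_of_dvd_pow h)).symm
  haveI : Fact (ringChar F).Prime := ⟨hp⟩
  haveI : CharP K (ringChar F) := ringChar.of_eq hpr.symm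
  letI := ZMod.algebra F (ringChar F)
  letI := ZMod.algebra K (ringChar F)
  have h1 := Module.natCard_eq_pow_finrank (K := ZMod (ringChar F)) (V := F)
  have h2 := Module.natCard_eq_pow_finrank (K := ZMod (ringChar F)) (V := K)
  rw [Nat.card_eq_fintype_card, Nat.card_zmod] at h1 h2
  rw [hK, h1, ← pow_mul] at h2
  have h3 := Nat.pow_right_injective hp.two_le h2
  obtain ⟨f⟩ := FiniteField.nonempty_algHom_of_finrank_dvd (F := ZMod (ringChar F)) (K := F) (L := K)
    (h3 ▸ Dvd.intro d rfl)
  exact ⟨f.toRingHom⟩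

variable {F K : Type*} [Field F] [Fintype F] [Field K] [Fintype K] {q : ℕ}
  (hF : Fintype.card F = q) (hK : Fintype.card K = q ^ 2)

include hF hK

theorem mem_range_iff (i : F →+* K) (x : K) : (∃ a, i a = x) ↔ x ^ q = x := by
  classical
  refine ⟨fun ⟨a, ha⟩ => by rw [← ha, ← map_pow, ← hF, FiniteField.pow_card], fun hx => ?_⟩
  have hq : 1 < q := hF ▸ Fintype.one_lt_card
  have hne : (Polynomial.X ^ q - Polynomial.X : Polynomial K) ≠ 0 := FiniteField.X_pow_card_sub_X_ne_zero K hq
  let R := (Polynomial.X ^ q - Polynomial.X : Polynomial K).roots.toFinset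
  have hR : ∀ y : K, y ∈ R ↔ y ^ q = y := fun y => by
    simp [R, Polynomial.mem_roots hne, sub_eq_zero]
  have hle : R.card ≤ q := by
    refine (Multiset.toFinset_card_le _).trans ((Polynomial.card_roots' _).trans ?_)
    rw [FiniteField.X_pow_card_sub_X_natDegree_eq K hq]
  have hsub : Finset.univ.image i ⊆ R := fun y hy => by
    obtain ⟨a, -, rfl⟩ := Finset.mem_image.1 hy
    rw [hR, ← map_pow, ← hF, FiniteField.pow_card]
  have heq := Finset.eq_of_subset_of_card_le hsub (by
    rw [Finset.card_image_of_injective _ i.injective, Finset.card_univ, hF]; exact hle)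
  have := (hR x).2 hx
  rw [← heq] at this
  obtain ⟨a, -, ha⟩ := Finset.mem_image.1 this
  exact ⟨a, ha⟩

/-- A quadratic extension with its conjugation and trace. -/
theorem exists_setup : ∃ (i : F →+* K) (σ : K →+* K) (T : K →+ F), (∀ a, σ a = a ^ q) ∧ σ ≠ RingHom.id K ∧
    (∀ a, σ (σ a) = a) ∧ (∀ x, i (T x) = x + σ x) ∧ (∀ c x, T (i c * x) = c * T x) ∧
    (∀ y, (∀ a, T (a * y) = 0) → y = 0) ∧ (∀ c, σ (i c) = i c) := by
  obtain ⟨i⟩ := exists_emb F K two_ne_zero (hF.symm ▸ hK)
  obtain ⟨σ, hσ, hne, hinv⟩ := Unitary.exists_frob hK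
  have hfix : ∀ c, σ (i c) = i c := fun c => by rw [hσ]; exact (mem_range_iff hF hK i _).1 ⟨c, rfl⟩
  have hex : ∀ x, ∃ a, i a = x + σ x := fun x => by
    rw [mem_range_iff hF hK, ← hσ, map_add, hinv, add_comm]
  choose T hT using hex
  have hadd : ∀ x y, T (x + y) = T x + T y := fun x y => i.injective (by
    rw [map_add, hT, hT, hT, map_add]; ring)
  refine ⟨i, σ, AddMonoidHom.mk' T hadd, hσ, hne, hinv, hT, fun c x => i.injective (by
    show i (T (i c * x)) = i (c * T x)
    rw [map_mul, hT, hT, map_mul, hfix]; ring), fun y hy => ?_, hfix⟩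
  by_contra h0
  have h : ∀ b : K, b + σ b = 0 := fun b => by
    have := hy (b / y)
    rw [div_mul_cancel₀ _ h0] at this
    rw [← hT, show T b = 0 from this, map_zero]
  have h2 : (2 : K) = 0 := by
    have := h 1
    rw [map_one] at this
    linear_combination this
  exact hne (RingHom.ext fun b => by
    show σ b = b
    linear_combination h b - b * h2)

end Cfsg.Agent.Classical.FieldExt

namespace Cfsg.Agent.Classical.FieldExt

open Cfsg.Agent.Classical.Sp

variable {F : Type*} [Field F] {V : Type*} [AddCommGroup V] [Module F V] [FiniteDimensional F V]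

theorem exists_hom_symp {G : Type*} [Group G] (ρ : G →* (V ≃ₗ[F] V)) (hinj : Function.Injective ρ)
    (B : LinearMap.BilinForm F V) (hA : B.IsAlt) (hB : Nondeg B) {m : ℕ} (hV : finrank F V = 2 * m)
    (hpres : ∀ g x y, B (ρ g x) (ρ g y) = B x y) :
    ∃ φ : G →* Matrix.symplecticGroup (Fin m) F, Function.Injective φ := by
  obtain ⟨-, e, he⟩ := exists_equiv (finrank F V) (sympB F m) B (sympB_isAlt m) (sympB_nondeg m) hA hB
    (by rw [finrank_space, hV]) rfl
  let f : G → Grp (sympB F m) := fun g => ⟨e.trans ((ρ g).trans e.symm), fun x y => by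
    show sympB F m (e.symm (ρ g (e x))) (e.symm (ρ g (e y))) = sympB F m x y
    rw [← he, ← he, e.apply_symm_apply, e.apply_symm_apply, hpres]⟩
  refine ⟨(spEquiv m).symm.toMonoidHom.comp (MonoidHom.mk' f fun g h => Subtype.ext (LinearEquiv.ext fun x => ?_)),
    (spEquiv m).symm.injective.comp fun g h e' => hinj (LinearEquiv.ext fun y => ?_)⟩
  · show e.symm (ρ (g * h) (e x)) = e.symm (ρ g (e (e.symm (ρ h (e x)))))
    rw [map_mul, e.apply_symm_apply]; rfl
  · have h2 := LinearEquiv.congr_fun (congrArg Subtype.val e') (e.symm y)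
    simpa [f] using h2

theorem exists_hom_orth [Fintype F] {G : Type*} [Group G] (ρ : G →* (V ≃ₗ[F] V)) (hinj : Function.Injective ρ)
    (Q : QuadraticForm F V) {ι : Type} [Fintype ι] [DecidableEq ι] (f : (ι → F) → F)
    (φ : (ι → F) ≃ₗ[F] V) (hφ : ∀ v, Q (φ v) = f v) (hpres : ∀ g x, Q (ρ g x) = Q x) :
    ∃ ψ : G →* Cfsg.isometryGroup F f, Function.Injective ψ := by
  have hf : f = ⇑(Q.comp φ.toLinearMap) := funext fun v => (hφ v).symm
  subst hf
  have hg : ∀ g v, (Q.comp φ.toLinearMap) ((φ.trans ((ρ g).trans φ.symm)) v) = (Q.comp φ.toLinearMap) v := fun g v => by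
    show Q (φ (φ.symm (ρ g (φ v)))) = Q (φ v)
    rw [φ.apply_symm_apply, hpres]
  refine ⟨MonoidHom.mk' (fun g => Refl.ofLin (Q.comp φ.toLinearMap) (φ.trans ((ρ g).trans φ.symm)) (hg g))
    fun g h => Refl.act_ext _ fun y => ?_, fun g h e => hinj (LinearEquiv.ext fun y => ?_)⟩
  · rw [Refl.act_mul, Refl.act_ofLin, Refl.act_ofLin, Refl.act_ofLin]
    show φ.symm (ρ (g * h) (φ y)) = φ.symm (ρ g (φ (φ.symm (ρ h (φ y)))))
    rw [map_mul, φ.apply_symm_apply]; rfl
  · have := congrArg (fun x => Refl.act (Q.comp φ.toLinearMap) x (φ.symm y)) e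
    simp [Refl.act_ofLin] at this
    exact this

end Cfsg.Agent.Classical.FieldExt

namespace Cfsg.Agent.Classical.FieldExt

open Cfsg.Agent.Classical.Sp

open QuadraticMap

variable {F K : Type*} [Field F] [Field K] [Algebra F K] {ι : Type*} [Fintype ι]

/-- A matrix group acting by restriction of scalars. -/
def restrictHom [DecidableEq ι] : GL ι K →* ((ι → K) ≃ₗ[F] (ι → K)) where
  toFun g :=
    { toFun := fun x => (g : Matrix ι ι K).mulVec x
      map_add' := fun x y => Matrix.mulVec_add _ _ _
      map_smul' := fun c x => Matrix.mulVec_smul _ _ _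
      invFun := fun x => ((g⁻¹ : GL ι K) : Matrix ι ι K).mulVec x
      left_inv := fun x => by simp [Matrix.mulVec_mulVec, ← Units.val_mul]
      right_inv := fun x => by simp [Matrix.mulVec_mulVec, ← Units.val_mul] }
  map_one' := LinearEquiv.ext fun x => by simp
  map_mul' g h := LinearEquiv.ext fun x => (Matrix.mulVec_mulVec x (g : Matrix ι ι K) (h : Matrix ι ι K)).symm

theorem restrictHom_injective [DecidableEq ι] : Function.Injective (restrictHom (F := F) (K := K) (ι := ι)) :=
  fun g h e => Units.ext (Matrix.toLin'.injective (LinearMap.ext fun x => LinearEquiv.congr_fun e x))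

variable [Fintype F] [Fintype K] {q : ℕ}

theorem finrank_eq (hF : Fintype.card F = q) (hK : Fintype.card K = q ^ 2) :
    finrank F (ι → K) = 2 * Fintype.card ι := by
  have h := Module.natCard_eq_pow_finrank (K := F) (V := K)
  rw [Nat.card_eq_fintype_card, Nat.card_eq_fintype_card, hK, hF] at h
  have h2 := Nat.pow_right_injective (hF ▸ Fintype.one_lt_card : 1 < q) h
  rw [Module.finrank_pi_fintype, Finset.sum_const, smul_eq_mul, Finset.card_univ, ← h2, mul_comm]

variable (σ : K →+* K) (T : K →+ F) (hlin : ∀ (c : F) x, T (algebraMap F K c * x) = c * T x)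
  (hfix : ∀ c : F, σ (algebraMap F K c) = algebraMap F K c)

/-- The trace form `T (β h(u, v))` of the standard hermitian form. -/
def trForm (β : K) : LinearMap.BilinForm F (ι → K) :=
  LinearMap.mk₂ F (fun u v => T (β * ∑ i, u i * σ (v i)))
    (fun u u' v => by simp [add_mul, Finset.sum_add_distrib, mul_add, map_add])
    (fun c u v => by
      simp only [Pi.smul_apply, Algebra.smul_def, smul_eq_mul]
      rw [show β * ∑ i, algebraMap F K c * u i * σ (v i) = algebraMap F K c * (β * ∑ i, u i * σ (v i)) by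
        simp only [Finset.mul_sum]; exact Finset.sum_congr rfl fun i _ => by ring, hlin]
      rfl)
    (fun u v v' => by simp [mul_add, Finset.sum_add_distrib, map_add])
    (fun c u v => by
      simp only [Pi.smul_apply, Algebra.smul_def, smul_eq_mul, map_mul, hfix]
      rw [show β * ∑ i, u i * (algebraMap F K c * σ (v i)) = algebraMap F K c * (β * ∑ i, u i * σ (v i)) by
        simp only [Finset.mul_sum]; exact Finset.sum_congr rfl fun i _ => by ring, hlin]
      rfl)

theorem trForm_apply (β : K) (u v : ι → K) : trForm σ T hlin hfix β u v = T (β * ∑ i, u i * σ (v i)) := rfl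

variable (hinv : ∀ a, σ (σ a) = a) (hT : ∀ x, algebraMap F K (T x) = x + σ x)

include hT hinv in
/-- The hermitian norm as a quadratic form over the fixed field. -/
theorem algebraMap_norm {γ : K} (hγ : T γ = 1) (v : ι → K) :
    algebraMap F K (LinearMap.BilinMap.toQuadraticMap (trForm σ T hlin hfix γ) v) = ∑ i, v i * σ (v i) := by
  show algebraMap F K (T (γ * ∑ i, v i * σ (v i))) = _
  have hs : σ (∑ i, v i * σ (v i)) = ∑ i, v i * σ (v i) := by
    rw [map_sum]; exact Finset.sum_congr rfl fun i _ => by rw [map_mul, hinv, mul_comm]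
  have h1 := hT γ
  rw [hγ, map_one] at h1
  rw [hT, map_mul, hs]
  linear_combination -(∑ i, v i * σ (v i)) * h1

variable (hzero : ∀ y, (∀ a, T (a * y) = 0) → y = 0)

include hT hinv hzero in
theorem norm_nondeg {γ : K} (hγ : T γ = 1) :
    (polarBilin (LinearMap.BilinMap.toQuadraticMap (trForm (ι := ι) σ T hlin hfix γ))).Nondegenerate := by
  classical
  set Q := LinearMap.BilinMap.toQuadraticMap (trForm (ι := ι) σ T hlin hfix γ) with hQ
  have hn := algebraMap_norm σ T hlin hfix hinv hT (ι := ι) hγ
  have hpol : ∀ u v, polar Q u v = T (∑ i, u i * σ (v i)) := fun u v => by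
    apply (algebraMap F K).injective
    rw [polar, map_sub, map_sub, hn, hn, hn, hT, map_sum σ, ← Finset.sum_sub_distrib, ← Finset.sum_sub_distrib,
      ← Finset.sum_add_distrib]
    exact Finset.sum_congr rfl fun i _ => by rw [Pi.add_apply, map_add, map_mul, hinv]; ring
  have h1 : ∀ u, (∀ v, polar Q u v = 0) → u = 0 := fun u hu => funext fun i => hzero _ fun a => by
    have h := hu (Pi.single i (σ a))
    rw [hpol, Finset.sum_eq_single i (fun j _ hj => by simp [Pi.single_eq_of_ne hj]) (by simp), Pi.single_eq_same, hinv] at h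
    rwa [mul_comm]
  exact ⟨h1, fun y hy => h1 y fun x => by rw [polar_comm]; exact hy x⟩

end Cfsg.Agent.Classical.FieldExt
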