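import Cfsg.Agent.Lib.Classical.Symplectic
import Cfsg.Agent.Lib.Classical.FieldExtension
import Mathlib.LinearAlgebra.Matrix.GeneralLinearGroup.Card

/-!
Elements of odd prime order of `SL_n` which are similitudes of no alternating form.
-/

set_option autoImplicit false
set_option linter.style.haveILetI false

open Module Matrix

namespace Cfsg.Agent.Classical.DerangAlt

variable {F : Type*} [Field F] {n : ℕ}

/-- `M` has determinant one, is not scalar, has `r`-th power one and is a similitude of no nondegenerate alternating form. -/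
def Good (r : ℕ) (M : Matrix (Fin n) (Fin n) F) : Prop :=
  M.det = 1 ∧ M ^ r = 1 ∧ (∀ c : F, M ≠ c • 1) ∧
    ∀ (g : LinearMap.BilinForm F (Fin n → F)) (lam : F), g.IsAlt → Sp.Nondeg g → lam ≠ 0 →
      (∀ u v, g (M *ᵥ u) (M *ᵥ v) = lam * g u v) → False

theorem unipotent (hn : 3 ≤ n) {p : ℕ} [Fact p.Prime] [CharP F p] (hp : 2 < p) :
    ∃ M : Matrix (Fin n) (Fin n) F, Good p M := by
  classical
  let a : Fin n := ⟨0, by omega⟩
  let b : Fin n := ⟨1, by omega⟩
  let c : Fin n := ⟨2, by omega⟩
  have hab : a ≠ b := by simp [a, b]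
  have hbc : b ≠ c := by simp [b, c]
  have hac : a ≠ c := by simp [a, c]
  let N : Matrix (Fin n) (Fin n) F := Matrix.single a b 1 + Matrix.single b c 1 + Matrix.single a c 1
  refine ⟨Matrix.transvection a b 1 * Matrix.transvection b c 1, ?_, ?_, fun k hk => ?_, ?_⟩
  · rw [Matrix.det_mul, Matrix.det_transvection_of_ne _ _ hab, Matrix.det_transvection_of_ne _ _ hbc, one_mul]
  · have h1 : Matrix.transvection a b (1 : F) * Matrix.transvection b c 1 = 1 + N := by
      simp [Matrix.transvection, N, add_mul, mul_add, Matrix.single_mul_single_same]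
      abel
    have h2 : N ^ 3 = 0 := by
      simp [N, pow_succ, add_mul, mul_add, Matrix.single_mul_single_same, Matrix.single_mul_single_of_ne,
        hab.symm, hbc.symm, hac.symm]
    haveI : Nonempty (Fin n) := ⟨a⟩
    rw [h1, add_pow_char_of_commute _ (Commute.one_left N), one_pow, pow_eq_zero_of_le (show 3 ≤ p by omega) h2, add_zero]
  · have h1 := congrFun (congrFun hk a) b
    simp [Matrix.transvection, Matrix.add_mul, Matrix.mul_add, Matrix.single_mul_single_same, hab, hbc,
      Matrix.one_apply, Matrix.single_apply, hbc.symm, hac.symm, hab.symm] at h1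
  · intro g lam hA hN hlam0 hg
    set M := Matrix.transvection a b (1 : F) * Matrix.transvection b c 1 with hM
    have hM' : ∀ i, M *ᵥ Pi.single i 1 = Pi.single i 1 + (if i = b then Pi.single a 1 else 0) +
        (if i = c then Pi.single b 1 + Pi.single a 1 else 0) := fun i => by
      rw [Matrix.mulVec_single_one]
      funext k
      simp only [hM, Matrix.transvection, Matrix.add_mul, Matrix.mul_add, one_mul, mul_one, Matrix.single_mul_single_same]
      by_cases hib : i = b
      · subst hib; simp [Matrix.col, Matrix.one_apply, Matrix.single_apply, Pi.single_apply, hbc, hbc.symm, eq_comm]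
      · by_cases hic : i = c
        · subst hic; simp [Matrix.col, Matrix.one_apply, Matrix.single_apply, Pi.single_apply, hbc, hbc.symm, eq_comm]
        · simp [Matrix.col, Matrix.one_apply, Matrix.single_apply, Pi.single_apply, hib, hic, Ne.symm hib, Ne.symm hic, eq_comm]
    have hiter : ∀ (j : ℕ) (u v : Fin n → F), g ((M ^ j) *ᵥ u) ((M ^ j) *ᵥ v) = lam ^ j * g u v := by
      intro j
      induction j with
      | zero => intro u v; simp
      | succ j ih => intro u v; rw [pow_succ, ← Matrix.mulVec_mulVec u, ← Matrix.mulVec_mulVec v, ih, hg]; ring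
    have hMp : M ^ p = 1 := by
      have h1 : M = 1 + N := by
        simp [hM, Matrix.transvection, N, add_mul, mul_add, Matrix.single_mul_single_same]
        abel
      have h2 : N ^ 3 = 0 := by
        simp [N, pow_succ, add_mul, mul_add, Matrix.single_mul_single_same, Matrix.single_mul_single_of_ne,
          hab.symm, hbc.symm, hac.symm]
      haveI : Nonempty (Fin n) := ⟨a⟩
      rw [h1, add_pow_char_of_commute _ (Commute.one_left N), one_pow, pow_eq_zero_of_le (show 3 ≤ p by omega) h2, add_zero]
    have hea : (Pi.single a 1 : Fin n → F) ≠ 0 := fun e => one_ne_zero (α := F) (by simpa using congrFun e a)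
    have hlam : lam = 1 := by
      obtain ⟨w, hw⟩ := hN _ hea
      have h1 := hiter p (Pi.single a 1) w
      rw [hMp, Matrix.one_mulVec, Matrix.one_mulVec, eq_comm, mul_eq_right₀ hw] at h1
      exact frobenius_inj F p (by simp [frobenius_def, h1])
    subst hlam
    let e : Fin n → (Fin n → F) := fun i => Pi.single i 1
    have hMa : M *ᵥ e a = e a := by rw [hM']; simp [e, hab, hac]
    have hMb : M *ᵥ e b = e b + e a := by rw [hM']; simp [e, hbc]
    have hMc : M *ᵥ e c = e c + e b + e a := by rw [hM']; simp [e, hbc.symm, add_assoc]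
    have hself := fun v => hA.self_eq_zero v
    have hneg := fun u v => Sp.alt_neg g hA u v
    have h_ac : g (e a) (e c) = 0 := by
      have h1 := hg (e b) (e c)
      rw [hMb, hMc] at h1
      simp only [map_add, LinearMap.add_apply, one_mul, hself, hneg (e a) (e b)] at h1
      linear_combination h1
    have h_ab : g (e a) (e b) = 0 := by
      have h1 := hg (e a) (e c)
      rw [hMa, hMc] at h1
      simp only [map_add, one_mul, hself] at h1
      linear_combination h1
    obtain ⟨w, hw⟩ := hN (e a) hea
    refine hw ?_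
    rw [← LinearMap.congr_fun (show (0 : (Fin n → F) →ₗ[F] F) = g (e a) from (Pi.basisFun F (Fin n)).ext fun i => ?_) w,
      LinearMap.zero_apply]
    rw [Pi.basisFun_apply, LinearMap.zero_apply]
    show 0 = g (e a) (e i)
    by_cases hib : i = b
    · rw [hib, h_ab]
    by_cases hic : i = c
    · rw [hic, h_ac]
    have h1 := hg (e b) (e i)
    rw [hMb, hM'] at h1
    simp only [hib, hic, if_false, add_zero, map_add, LinearMap.add_apply, one_mul] at h1
    linear_combination -h1

theorem split (hn : 4 ≤ n) {r : ℕ} (hr : r.Prime) (hr2 : r ≠ 2) (hgap : ¬ (n = 6 ∧ r = 3)) {z : F}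
    (hz : z ^ r = 1) (hz1 : z ≠ 1) : ∃ M : Matrix (Fin n) (Fin n) F, Good r M := by
  classical
  haveI : Fact r.Prime := ⟨hr⟩
  have hz0 : z ≠ 0 := fun e => by rw [e, zero_pow hr.ne_zero] at hz; exact zero_ne_one hz
  have hord : orderOf z = r := orderOf_eq_prime hz hz1
  have hpow : ∀ j : ℕ, z ^ j = 1 → r ∣ j := fun j hj => hord ▸ orderOf_dvd_iff_pow_eq_one.2 hj
  set t : F := (z * z)⁻¹ with ht
  have ht1 : t ≠ 1 := fun e => by
    have := hpow 2 (by rw [pow_two]; exact inv_eq_one.1 e)
    exact hr2 ((Nat.prime_dvd_prime_iff_eq hr Nat.prime_two).1 this)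
  let μ : Fin n → F := fun i => if i.val < 2 then z else if i.val = 2 then t else 1
  have hμr : ∀ i, μ i ^ r = 1 := fun i => by
    simp only [μ]; split_ifs
    · exact hz
    · rw [ht, inv_pow, mul_pow, hz, mul_one, inv_one]
    · exact one_pow _
  let a : Fin n := ⟨0, by omega⟩
  let b : Fin n := ⟨1, by omega⟩
  let c : Fin n := ⟨2, by omega⟩
  let d : Fin n := ⟨3, by omega⟩
  have hμd : μ d = 1 := by simp [μ, d]
  have hμa : μ a = z := by simp [μ, a]
  have hμb : μ b = z := by simp [μ, b]
  have hμc : μ c = t := by simp [μ, c]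
  refine ⟨Matrix.diagonal μ, ?_, ?_, fun k hk => ?_, ?_⟩
  · rw [Matrix.det_diagonal]
    obtain ⟨e, rfl⟩ : ∃ e, n = e + 1 + 1 + 1 := ⟨n - 3, by omega⟩
    rw [Fin.prod_univ_succ, Fin.prod_univ_succ, Fin.prod_univ_succ]
    have h1 : ∏ x : Fin e, μ x.succ.succ.succ = 1 := Finset.prod_eq_one fun x _ => by simp [μ]
    rw [h1]
    simp [μ, ht, Nat.mod_eq_of_lt (show 2 < e + 1 + 1 + 1 by omega)]
    field_simp
  · rw [Matrix.diagonal_pow, ← Matrix.diagonal_one]; exact congrArg _ (funext hμr)
  · have h1 := congrFun (congrFun hk a) a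
    have h2 := congrFun (congrFun hk d) d
    simp [hμa, hμd] at h1 h2
    exact hz1 (h1.trans h2.symm)
  · intro g lam hA hN hlam0 hg
    let e : Fin n → (Fin n → F) := fun i => Pi.single i 1
    have hMe : ∀ i, Matrix.diagonal μ *ᵥ e i = μ i • e i := fun i => by
      funext k
      simp [e, Matrix.mulVec_diagonal, Pi.single_apply]
      split_ifs with h <;> simp [h]
    have key : ∀ i j, g (e i) (e j) ≠ 0 → μ i * μ j = lam := fun i j h => by
      have h1 := hg (e i) (e j)
      rw [hMe, hMe, map_smul, LinearMap.map_smul, LinearMap.smul_apply, smul_eq_mul, smul_eq_mul] at h1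
      exact mul_right_cancel₀ h (by linear_combination h1)
    have he0 : ∀ i, e i ≠ 0 := fun i h => one_ne_zero (α := F) (by simpa [e] using congrFun h i)
    have rad : ∀ v, v ≠ 0 → ∃ j, g v (e j) ≠ 0 := fun v hv => by
      by_contra hcon
      push Not at hcon
      obtain ⟨w, hw⟩ := hN v hv
      refine hw ?_
      rw [← LinearMap.congr_fun (show (0 : (Fin n → F) →ₗ[F] F) = g v from (Pi.basisFun F (Fin n)).ext fun i => by
        rw [Pi.basisFun_apply, LinearMap.zero_apply, ← hcon i]) w, LinearMap.zero_apply]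
    have hcases : ∀ j : Fin n, (j = a ∨ j = b) ∧ μ j = z ∨ j = c ∧ μ j = t ∨ 3 ≤ j.val ∧ μ j = 1 := fun j => by
      rcases lt_trichotomy j.val 2 with h | h | h
      · refine Or.inl ⟨?_, by simp only [μ, if_pos h]⟩
        simp only [a, b, Fin.ext_iff]; omega
      · exact Or.inr (Or.inl ⟨Fin.ext h, by simp only [μ, if_neg (show ¬ j.val < 2 by omega), if_pos h]⟩)
      · exact Or.inr (Or.inr ⟨h, by simp only [μ, if_neg (show ¬ j.val < 2 by omega), if_neg (show j.val ≠ 2 by omega)]⟩)
    by_cases h3 : r = 3
    · have htz : t = z := by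
        rw [h3] at hz
        rw [ht]; field_simp; linear_combination -hz
      have hlow : ∀ j : Fin n, j.val < 3 → μ j = z := fun j hj => by
        rcases hcases j with ⟨-, h⟩ | ⟨-, h⟩ | ⟨h, -⟩
        · exact h
        · rw [h, htz]
        · omega
      have hhigh : ∀ j : Fin n, 3 ≤ j.val → μ j = 1 := fun j hj => by simp only [μ, if_neg (show ¬ j.val < 2 by omega), if_neg (show j.val ≠ 2 by omega)]
      obtain ⟨j, hj⟩ := rad _ (he0 d)
      have hl := key d j hj
      rw [hμd, one_mul] at hl
      have hlz : lam = z := by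
        by_cases h : j.val < 3
        · rw [← hl, hlow j h]
        · exfalso
          rw [hhigh j (by omega)] at hl
          obtain ⟨k, hk⟩ := rad _ (he0 a)
          have h1 := key a k hk
          rw [hμa, ← hl] at h1
          by_cases h' : k.val < 3
          · rw [hlow k h'] at h1
            have := hpow 2 (by rw [pow_two]; exact h1)
            rw [h3] at this; omega
          · rw [hhigh k (by omega), mul_one] at h1
            exact hz1 h1
      have hlow0 : ∀ i k : Fin n, i.val < 3 → k.val < 3 → g (e i) (e k) = 0 := fun i k hi hk => by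
        by_contra h
        have h1 := key i k h
        rw [hlow i hi, hlow k hk, hlz] at h1
        exact hz1 ((mul_eq_left₀ hz0).1 h1)
      have hhigh0 : ∀ i k : Fin n, 3 ≤ i.val → 3 ≤ k.val → g (e i) (e k) = 0 := fun i k hi hk => by
        by_contra h
        have h1 := key i k h
        rw [hhigh i hi, hhigh k hk, hlz, one_mul] at h1
        exact hz1 h1.symm
      obtain ⟨m, rfl⟩ : ∃ m, n = 3 + m := ⟨n - 3, by omega⟩
      let A : (Fin 3 → F) →ₗ[F] (Fin m → F) :=
        LinearMap.pi fun k => (g.flip (e (Fin.natAdd 3 k))).comp (Fintype.linearCombination F fun i => e (Fin.castAdd m i))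
      let B : (Fin m → F) →ₗ[F] (Fin 3 → F) :=
        LinearMap.pi fun i => (g.flip (e (Fin.castAdd m i))).comp (Fintype.linearCombination F fun k => e (Fin.natAdd 3 k))
      have hli : ∀ (v : Fin 3 → F) (w : Fin m → F),
          (Fintype.linearCombination F fun i => e (Fin.castAdd m i)) v + (Fintype.linearCombination F fun k => e (Fin.natAdd 3 k)) w = Fin.append v w := by
        intro v w
        funext s
        refine Fin.addCases (fun i => ?_) (fun k => ?_) s <;>
          simp [Fintype.linearCombination_apply, Finset.sum_apply, e, Pi.single_apply, Fin.ext_iff]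
        · rw [Finset.sum_eq_single i (fun x _ hx => if_neg fun h => hx (Fin.ext h.symm)) (by simp), if_pos rfl,
            Finset.sum_eq_zero fun x _ => if_neg (by omega), add_zero]
        · rw [Finset.sum_eq_single k (fun x _ hx => if_neg fun h => hx (Fin.ext (by omega))) (by simp), if_pos rfl,
            Finset.sum_eq_zero fun x _ => if_neg (by omega), zero_add]
      have hAi : Function.Injective A := by
        rw [← LinearMap.ker_eq_bot, LinearMap.ker_eq_bot']
        intro v hv
        set u := (Fintype.linearCombination F fun i => e (Fin.castAdd m i)) v with hu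
        by_cases hu0 : u = 0
        · have h1 := hli v 0
          rw [map_zero, add_zero, ← hu, hu0] at h1
          funext i; simpa using (congrFun h1 (Fin.castAdd m i)).symm
        · obtain ⟨s, hs⟩ := rad u hu0
          refine absurd ?_ hs
          clear hs
          refine Fin.addCases (fun i => ?_) (fun k => ?_) s
          · rw [hu, Fintype.linearCombination_apply, map_sum, LinearMap.sum_apply]
            exact Finset.sum_eq_zero fun x _ => by rw [map_smul, LinearMap.smul_apply, hlow0 _ _ (by simp) (by simp), smul_zero]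
          · exact congrFun hv k
      have hBi : Function.Injective B := by
        rw [← LinearMap.ker_eq_bot, LinearMap.ker_eq_bot']
        intro v hv
        set u := (Fintype.linearCombination F fun k => e (Fin.natAdd 3 k)) v with hu
        by_cases hu0 : u = 0
        · have h1 := hli 0 v
          rw [map_zero, zero_add, ← hu, hu0] at h1
          funext i; simpa using (congrFun h1 (Fin.natAdd 3 i)).symm
        · obtain ⟨s, hs⟩ := rad u hu0
          refine absurd ?_ hs
          clear hs
          refine Fin.addCases (fun i => ?_) (fun k => ?_) s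
          · exact congrFun hv i
          · rw [hu, Fintype.linearCombination_apply, map_sum, LinearMap.sum_apply]
            exact Finset.sum_eq_zero fun x _ => by rw [map_smul, LinearMap.smul_apply, hhigh0 _ _ (by simp) (by simp), smul_zero]
      have h1 := LinearMap.finrank_le_finrank_of_injective hAi
      have h2 := LinearMap.finrank_le_finrank_of_injective hBi
      rw [finrank_fin_fun, finrank_fin_fun] at h1 h2
      exact hgap ⟨by omega, h3⟩
    · obtain ⟨j, hj⟩ := rad _ (he0 c)
      have hl := key c j hj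
      rw [hμc] at hl
      have hjc : j ≠ c := fun h => hj (by rw [h]; exact hA.self_eq_zero _)
      have hne3 : z ^ 3 ≠ 1 := fun h => h3 ((Nat.prime_dvd_prime_iff_eq hr Nat.prime_three).1 (hpow 3 h))
      have hne4 : z ^ 4 ≠ 1 := fun h => by
        have := (Nat.prime_dvd_prime_iff_eq hr Nat.prime_two).1 (hr.dvd_of_dvd_pow (show r ∣ 2 ^ 2 from hpow 4 h))
        exact hr2 this
      rcases hcases j with ⟨-, h⟩ | ⟨h, -⟩ | ⟨-, h⟩
      · rw [h] at hl
        have honly : ∀ i, μ i = z → ∀ k, k ≠ c → g (e i) (e k) = 0 := fun i hi k hk => by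
          by_contra hne
          have h1 := key i k hne
          rw [hi, ← hl] at h1
          rcases hcases k with ⟨-, h'⟩ | ⟨h', -⟩ | ⟨-, h'⟩
          · rw [h'] at h1
            have h2 : z = t := mul_right_cancel₀ hz0 h1
            rw [ht] at h2
            field_simp at h2
            exact hne3 (by linear_combination h2)
          · exact hk h'
          · rw [h', mul_one, ht] at h1
            field_simp at h1
            exact hne2 hz1 hpow hr2 hr (by rw [← pow_two]; exact h1)
        set u := g (e b) (e c) • e a - g (e a) (e c) • e b with hu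
        have hu0 : u ≠ 0 := fun h0 => by
          have h1 := congrFun h0 a
          have h2 := congrFun h0 b
          simp [hu, e, a, b, Pi.single_apply] at h1 h2
          obtain ⟨k, hk⟩ := rad _ (he0 a)
          refine hk ?_
          by_cases hkc : k = c
          · rw [hkc]; exact h2
          · exact honly a hμa k hkc
        obtain ⟨k, hk⟩ := rad u hu0
        refine hk ?_
        rw [hu, map_sub, map_smul, map_smul, LinearMap.sub_apply, LinearMap.smul_apply, LinearMap.smul_apply]
        by_cases hkc : k = c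
        · rw [hkc, smul_eq_mul, smul_eq_mul]; ring
        · rw [honly a hμa k hkc, honly b hμb k hkc, smul_zero, smul_zero, sub_zero]
      · exact hjc h
      · rw [h, mul_one] at hl
        obtain ⟨k, hk⟩ := rad _ (he0 a)
        have h1 := key a k hk
        rw [hμa, ← hl] at h1
        rcases hcases k with ⟨-, h'⟩ | ⟨-, h'⟩ | ⟨-, h'⟩
        · rw [h', ht] at h1
          field_simp at h1
          exact hne4 (by linear_combination h1)
        · rw [h'] at h1
          exact hz1 ((mul_eq_right₀ (inv_ne_zero (mul_ne_zero hz0 hz0))).1 h1)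
        · rw [h', mul_one, ht] at h1
          field_simp at h1
          exact hne3 (by linear_combination h1)
where
  hne2 {z : F} {r : ℕ} (hz1 : z ≠ 1) (hpow : ∀ j : ℕ, z ^ j = 1 → r ∣ j) (hr2 : r ≠ 2) (hr : r.Prime)
      (h1 : z * z = 1) : False :=
    hr2 ((Nat.prime_dvd_prime_iff_eq hr Nat.prime_two).1 (hpow 2 (by rw [pow_two, h1])))

theorem oddDegree [Fintype F] (p : ℕ) [Fact p.Prime] [CharP F p] {r j : ℕ} (hr : r.Prime) (hr2 : r ≠ 2)
    (hr1 : ¬ r ∣ Fintype.card F - 1) (hj : Odd j) (hjn : j < n) (hrj : r ∣ Fintype.card F ^ j - 1) :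
    ∃ M : Matrix (Fin n) (Fin n) F, Good r M := by
  classical
  haveI : Fact r.Prime := ⟨hr⟩
  set q := Fintype.card F with hq
  have hj0 : j ≠ 0 := fun h => by rw [h] at hj; exact Nat.not_odd_zero hj
  obtain ⟨k, -, hk⟩ := FiniteField.card F p
  rw [← hq] at hk
  let L := GaloisField p (k * j)
  haveI : Fintype L := Fintype.ofFinite L
  have hLc : Fintype.card L = q ^ j := by
    rw [← Nat.card_eq_fintype_card, GaloisField.card p _ (Nat.mul_ne_zero k.ne_zero hj0), hk, pow_mul]
  obtain ⟨i⟩ := FieldExt.exists_emb F L hj0 (by rw [hLc])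
  letI : Algebra F L := i.toAlgebra
  haveI : Module.Finite F L := Module.Finite.of_finite
  have hfd : finrank F L = j := by
    have := Module.card_eq_pow_finrank (K := F) (V := L)
    rw [hLc] at this
    exact (Nat.pow_right_injective (Fintype.one_lt_card (α := F)) this).symm
  obtain ⟨ζu, hζ⟩ := exists_prime_orderOf_dvd_card' (G := Lˣ) r (by
    rw [Nat.card_units, Nat.card_eq_fintype_card, hLc]; exact hrj)
  set ζ : L := (ζu : L) with hζd
  have hζr : ζ ^ r = 1 := by rw [hζd, ← Units.val_pow_eq_pow_val, ← hζ, pow_orderOf_eq_one]; rfl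
  have hζ1 : ζ ≠ 1 := fun e0 => by
    rw [Units.val_eq_one.1 e0, orderOf_one] at hζ
    exact hr.ne_one hζ.symm
  have hζ0 : ζ ≠ 0 := ζu.ne_zero
  have hroot1 : ∀ u : F, u ^ r = 1 → u = 1 := fun u hu => by
    by_contra hu1
    have hu0 : u ≠ 0 := fun e => by rw [e, zero_pow hr.ne_zero] at hu; exact zero_ne_one hu
    have h1 : orderOf (Units.mk0 u hu0) = r :=
      orderOf_eq_prime (Units.ext (by simpa using hu)) (fun e => hu1 (congrArg Units.val e))
    have h2 := orderOf_dvd_card (x := Units.mk0 u hu0)
    rw [h1, Fintype.card_units] at h2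
    exact hr1 h2
  have hnotF : ∀ u : F, algebraMap F L u ≠ ζ := fun u hu => by
    have h1 : algebraMap F L (u ^ r) = algebraMap F L 1 := by rw [map_pow, hu, hζr, map_one]
    rw [hroot1 u ((algebraMap F L).injective h1), map_one] at hu
    exact hζ1 hu.symm
  have hinv : Polynomial.aeval ζ⁻¹ (minpoly F ζ) ≠ 0 := fun h => by
    haveI : IsGalois F L := inferInstance
    obtain ⟨σ, hσ⟩ := minpoly.exists_algEquiv_of_root' (K := F) (Algebra.IsAlgebraic.isAlgebraic ζ) h
    have hσσ : σ (σ ζ) = ζ := by rw [hσ, map_inv₀, hσ, inv_inv]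
    have h2 : ∀ t : ℕ, (σ ^ (2 * t + 1)) ζ = ζ⁻¹ := by
      intro t
      induction t with
      | zero => simpa using hσ
      | succ t ih =>
        rw [show 2 * (t + 1) + 1 = 2 + (2 * t + 1) by ring, pow_add, AlgEquiv.mul_apply, ih, pow_two, AlgEquiv.mul_apply,
          map_inv₀, hσ, inv_inv, hσ]
    have h3 : σ ^ j = 1 := by
      have h7 : σ ^ Nat.card (L ≃ₐ[F] L) = 1 := pow_card_eq_one'
      rwa [IsGalois.card_aut_eq_finrank, hfd] at h7
    obtain ⟨t, rfl⟩ := hj
    have h4 := h2 t
    rw [h3, AlgEquiv.one_apply] at h4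
    have h5 : ζ ^ 2 = 1 := by rw [pow_two]; nth_rewrite 2 [h4]; exact mul_inv_cancel₀ hζ0
    have h6 := orderOf_dvd_iff_pow_eq_one.2 h5
    rw [hζd, orderOf_units, hζ] at h6
    exact hr2 ((Nat.prime_dvd_prime_iff_eq hr Nat.prime_two).1 h6)
  obtain ⟨m, rfl⟩ : ∃ m, n = j + (m + 1) := ⟨n - j - 1, by omega⟩
  let φ : (Fin (j + (m + 1)) → F) ≃ₗ[F] L × (Fin (m + 1) → F) :=
    LinearEquiv.ofFinrankEq _ _ (by rw [finrank_prod, finrank_fin_fun, finrank_fin_fun, hfd])
  let T : (Fin (j + (m + 1)) → F) →ₗ[F] (Fin (j + (m + 1)) → F) :=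
    φ.symm.toLinearMap ∘ₗ (LinearMap.mulLeft F ζ).prodMap LinearMap.id ∘ₗ φ.toLinearMap
  have hT : ∀ y z, T (φ.symm (y, z)) = φ.symm (ζ * y, z) := fun y z => by simp [T]
  let M := LinearMap.toMatrix' T
  have hMv : ∀ v, M *ᵥ v = T v := fun v => LinearMap.toMatrix'_mulVec T v
  have hpow : M ^ r = 1 := by
    have h1 : ∀ (s : ℕ) y z, (M ^ s) *ᵥ φ.symm (y, z) = φ.symm (ζ ^ s * y, z) := by
      intro s
      induction s with
      | zero => intro y z; simp
      | succ s ih => intro y z; rw [pow_succ', ← Matrix.mulVec_mulVec, ih, hMv, hT, ← mul_assoc, ← pow_succ']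
    refine Matrix.ext_of_mulVec_single fun i => ?_
    obtain ⟨⟨y, z⟩, hyz⟩ := φ.symm.surjective (Pi.single i 1)
    rw [← hyz, h1, hζr, one_mul, Matrix.one_mulVec]
  refine ⟨M, hroot1 _ (by rw [← Matrix.det_pow, hpow, Matrix.det_one]), hpow, fun u hu => ?_, ?_⟩
  · have h1 := hT 1 0
    rw [← hMv, hu, Matrix.smul_mulVec, Matrix.one_mulVec, ← map_smul, φ.symm.injective.eq_iff, Prod.smul_mk,
      Prod.mk.injEq, mul_one, Algebra.smul_def, mul_one] at h1
    exact hnotF u h1.1
  · intro g lam hA hN hlam0 hg
    have hg' : ∀ (y y' : L) z z', g (φ.symm (ζ * y, z)) (φ.symm (ζ * y', z')) = lam * g (φ.symm (y, z)) (φ.symm (y', z')) := fun y y' z z' => by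
      rw [← hT, ← hT, ← hMv, ← hMv, hg]
    have hcross : ∀ y z, g (φ.symm (y, 0)) (φ.symm (0, z)) = 0 := by
      intro y z
      have hne : ζ - algebraMap F L lam ≠ 0 := sub_ne_zero.2 fun h => hnotF lam h.symm
      obtain ⟨y', rfl⟩ : ∃ y', y = (ζ - algebraMap F L lam) * y' := ⟨(ζ - algebraMap F L lam)⁻¹ * y, by rw [← mul_assoc, mul_inv_cancel₀ hne, one_mul]⟩
      have h1 := hg' y' 0 0 z
      rw [mul_zero] at h1
      rw [sub_mul, ← Algebra.smul_def, show ((ζ * y' - lam • y', (0 : Fin (m + 1) → F)) : L × (Fin (m + 1) → F)) = (ζ * y', 0) - lam • (y', 0) by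
        simp, map_sub, map_smul, map_sub, map_smul, LinearMap.sub_apply, LinearMap.smul_apply, h1, smul_eq_mul, sub_self]
    have hsplit : ∀ y z, φ.symm (y, z) = φ.symm (y, 0) + φ.symm (0, z) := fun y z => by
      rw [← map_add]; simp
    have hlam : lam = 1 := by
      obtain ⟨z, hz⟩ : ∃ z : Fin (m + 1) → F, z ≠ 0 := exists_ne 0
      obtain ⟨w, hw⟩ := hN (φ.symm (0, z)) (fun h => hz (congrArg Prod.snd (φ.symm.map_eq_zero_iff.1 h)))
      obtain ⟨⟨y', z'⟩, rfl⟩ := φ.symm.surjective w
      rw [hsplit y' z', map_add, Sp.alt_neg g hA (φ.symm (y', 0)), hcross, neg_zero, zero_add] at hw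
      have h1 := hg' 0 0 z z'
      rw [mul_zero, eq_comm, mul_eq_right₀ hw] at h1
      exact h1
    subst hlam
    let ψ : L → L → F := fun y y' => g (φ.symm (y, 0)) (φ.symm (y', 0))
    have hψ1 : ∀ y y', ψ (ζ * y) y' = ψ y (ζ⁻¹ * y') := fun y y' => by
      have h1 := hg' y (ζ⁻¹ * y') 0 0
      rw [← mul_assoc, mul_inv_cancel₀ hζ0, one_mul, one_mul] at h1
      exact h1
    have hψa : ∀ (P : Polynomial F) y y', ψ (Polynomial.aeval ζ P * y) y' = ψ y (Polynomial.aeval ζ⁻¹ P * y') := by
      intro P
      induction P using Polynomial.induction_on' with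
      | add P Q hP hQ =>
        intro y y'
        simp only [map_add, add_mul]
        have e1 : ∀ y₁ y₂ : L, φ.symm (y₁ + y₂, 0) = φ.symm (y₁, 0) + φ.symm (y₂, 0) := fun y₁ y₂ => by rw [← map_add]; simp
        simp only [ψ, e1, map_add, LinearMap.add_apply]
        exact congrArg₂ (· + ·) (hP y y') (hQ y y')
      | monomial s u =>
        have hs : ∀ (s : ℕ) y y', ψ (ζ ^ s * y) y' = ψ y (ζ⁻¹ ^ s * y') := by
          intro s
          induction s with
          | zero => intro y y'; simp
          | succ s ih => intro y y'; rw [pow_succ, mul_assoc, ih, hψ1, pow_succ', mul_assoc]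
        intro y y'
        simp only [Polynomial.aeval_monomial, mul_assoc]
        have e2 : ∀ (u : F) (y : L), φ.symm (algebraMap F L u * y, 0) = u • φ.symm (y, 0) := fun u y => by
          rw [← map_smul, Prod.smul_mk, smul_zero, Algebra.smul_def]
        simp only [ψ, e2, map_smul, LinearMap.smul_apply]
        exact congrArg _ (hs s y y')
    have hψ0 : ∀ y y', ψ y y' = 0 := fun y y' => by
      have h1 := hψa (minpoly F ζ) y ((Polynomial.aeval ζ⁻¹ (minpoly F ζ))⁻¹ * y')
      rw [minpoly.aeval, zero_mul, ← mul_assoc, mul_inv_cancel₀ hinv, one_mul] at h1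
      rw [← h1]
      simp [ψ, show φ.symm ((0 : L), (0 : Fin (m + 1) → F)) = 0 from map_zero _]
    obtain ⟨w, hw⟩ := hN (φ.symm (1, 0)) (fun h => one_ne_zero (congrArg Prod.fst (φ.symm.map_eq_zero_iff.1 h)))
    obtain ⟨⟨y', z'⟩, rfl⟩ := φ.symm.surjective w
    rw [hsplit y' z', map_add, hcross, add_zero] at hw
    exact hw (hψ0 1 y')

end Cfsg.Agent.Classical.DerangAlt
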