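import Mathlib

/-!
Determinants of maps with an invariant decomposition, and of square roots of scalars.
-/

set_option autoImplicit false
set_option linter.unusedSectionVars false

open Module

namespace Cfsg.Agent.DetInvol

variable {F V : Type*} [Field F] [AddCommGroup V] [Module F V] [FiniteDimensional F V]

/-- The determinant of a map that is scalar on two complementary subspaces. -/
theorem det_split (L : V →ₗ[F] V) (A B : Submodule F V) (h : IsCompl A B) {α β : F} (hA : ∀ x ∈ A, L x = α • x)
    (hB : ∀ x ∈ B, L x = β • x) : LinearMap.det L = α ^ finrank F A * β ^ finrank F B := by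
  set e := Submodule.prodEquivOfIsCompl A B h
  have hL : L = e.toLinearMap ∘ₗ ((α • LinearMap.id).prodMap (β • LinearMap.id)) ∘ₗ e.symm.toLinearMap := by
    refine LinearMap.ext fun x => ?_
    obtain ⟨⟨a, b⟩, rfl⟩ := e.surjective x
    simp [e, map_add, hA _ a.2, hB _ b.2]
  rw [hL, LinearMap.det_conj, LinearMap.det_prodMap, LinearMap.det_smul, LinearMap.det_smul, LinearMap.det_id,
    LinearMap.det_id, mul_one, mul_one]

/-- The fixed space and the negated space of an involution. -/
def pos (L : V →ₗ[F] V) : Submodule F V := LinearMap.ker (L - LinearMap.id)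

/-- The negated space of a linear map. -/
def neg (L : V →ₗ[F] V) : Submodule F V := LinearMap.ker (L + LinearMap.id)

theorem mem_pos {L : V →ₗ[F] V} {x : V} : x ∈ pos L ↔ L x = x := by simp [pos, sub_eq_zero]

theorem mem_neg {L : V →ₗ[F] V} {x : V} : x ∈ neg L ↔ L x = -x := by simp [neg, add_eq_zero_iff_eq_neg]

theorem isCompl (h2 : (2 : F) ≠ 0) {L : V →ₗ[F] V} (hL : ∀ x, L (L x) = x) : IsCompl (pos L) (neg L) := by
  refine ⟨Submodule.disjoint_def.2 fun x hx hy => ?_, codisjoint_iff.2 (eq_top_iff.2 fun x _ => ?_)⟩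
  · rw [mem_pos] at hx; rw [mem_neg, hx] at hy
    have : (2 : F) • x = 0 := by rw [two_smul]; nth_rw 2 [hy]; exact add_neg_cancel x
    exact (smul_eq_zero.1 this).resolve_left h2
  · refine Submodule.mem_sup.2 ⟨(2 : F)⁻¹ • (x + L x), ?_, (2 : F)⁻¹ • (x - L x), ?_, ?_⟩
    · rw [mem_pos, map_smul, map_add, hL, add_comm]
    · rw [mem_neg, map_smul, map_sub, hL, ← smul_neg, neg_sub]
    · rw [← smul_add, show x + L x + (x - L x) = (2 : F) • x by rw [two_smul]; abel, inv_smul_smul₀ h2]

theorem finrank_add (h2 : (2 : F) ≠ 0) {L : V →ₗ[F] V} (hL : ∀ x, L (L x) = x) :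
    finrank F (pos L) + finrank F (neg L) = finrank F V :=
  Submodule.finrank_add_eq_of_isCompl (isCompl h2 hL)

theorem det_invol (h2 : (2 : F) ≠ 0) {L : V →ₗ[F] V} (hL : ∀ x, L (L x) = x) :
    LinearMap.det L = (-1) ^ finrank F (neg L) := by
  rw [det_split L _ _ (isCompl h2 hL) (α := 1) (β := -1) (fun x hx => by rw [one_smul]; exact mem_pos.1 hx)
    (fun x hx => by rw [neg_one_smul]; exact mem_neg.1 hx), one_pow, one_mul]

theorem exists_frame {a : F} (ha : ¬ IsSquare a) {L : V →ₗ[F] V} (hL : ∀ x, L (L x) = a • x) {d : ℕ}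
    (hd : finrank F V = 2 * d) : ∀ k ≤ d, ∃ w : Fin k → V, LinearIndependent F (Sum.elim w (L ∘ w)) := by
  intro k
  induction k with
  | zero => exact fun _ => ⟨Fin.elim0, linearIndependent_empty_type⟩
  | succ k ih =>
    intro hk
    obtain ⟨w, hw⟩ := ih (by omega)
    set U := Submodule.span F (Set.range (Sum.elim w (L ∘ w)))
    have hdim : finrank F U ≤ k + k := by
      refine (finrank_range_le_card _).trans ?_
      simp
    obtain ⟨v, hv⟩ : ∃ v, v ∉ U := by
      by_contra h
      push Not at h
      have e : U = ⊤ := eq_top_iff.2 fun x _ => h x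
      rw [e, finrank_top] at hdim
      omega
    have hLU : ∀ x ∈ U, L x ∈ U := by
      intro x hx
      induction hx using Submodule.span_induction with
      | mem x hx =>
        obtain ⟨i | i, rfl⟩ := hx
        · exact Submodule.subset_span ⟨Sum.inr i, rfl⟩
        · rw [Sum.elim_inr, Function.comp_apply, hL]
          exact U.smul_mem _ (Submodule.subset_span ⟨Sum.inl i, rfl⟩)
      | zero => rw [map_zero]; exact U.zero_mem
      | add x y _ _ hx hy => rw [map_add]; exact U.add_mem hx hy
      | smul c x _ hx => rw [map_smul]; exact U.smul_mem c hx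
    refine ⟨Fin.snoc w v, Fintype.linearIndependent_iff.2 fun c hc => ?_⟩
    rw [Fintype.sum_sum_type, Fin.sum_univ_castSucc, Fin.sum_univ_castSucc] at hc
    simp only [Sum.elim_inl, Sum.elim_inr, Function.comp_apply, Fin.snoc_castSucc, Fin.snoc_last] at hc
    set x := c (.inl (Fin.last k))
    set y := c (.inr (Fin.last k))
    set u := (∑ i : Fin k, c (.inl i.castSucc) • w i) + ∑ i : Fin k, c (.inr i.castSucc) • L (w i) with hu
    have huU : u ∈ U := U.add_mem (U.sum_mem fun i _ => U.smul_mem _ (Submodule.subset_span ⟨Sum.inl i, rfl⟩))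
      (U.sum_mem fun i _ => U.smul_mem _ (Submodule.subset_span ⟨Sum.inr i, rfl⟩))
    have h1 : x • v + y • L v = -u := eq_neg_of_add_eq_zero_left (by rw [hu, ← hc]; abel)
    have h3 : (x * x - y * y * a) • v ∈ U := by
      have h4 := hLU _ (U.neg_mem huU)
      rw [← h1, map_add, map_smul, map_smul, hL, smul_smul] at h4
      have := U.sub_mem (U.smul_mem x (h1 ▸ U.neg_mem huU)) (U.smul_mem y h4)
      convert this using 1
      module
    have hxy : x = 0 ∧ y = 0 := by
      have h0 : x * x - y * y * a = 0 := by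
        by_contra hne
        exact hv ((U.smul_mem_iff hne).1 h3)
      by_cases hy : y = 0
      · refine ⟨?_, hy⟩
        rw [hy] at h0
        exact mul_self_eq_zero.1 (by linear_combination h0)
      · exact absurd ⟨x / y, by field_simp; linear_combination -h0⟩ ha
    have hu0 : u = 0 := by rw [hxy.1, hxy.2, zero_smul, zero_smul, add_zero] at h1; exact neg_eq_zero.1 h1.symm
    have hall := Fintype.linearIndependent_iff.1 hw (Sum.elim (fun i => c (.inl i.castSucc)) fun i => c (.inr i.castSucc))
      (by rw [Fintype.sum_sum_type]; exact hu0)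
    rintro (i | i) <;> induction i using Fin.lastCases with
    | last => first | exact hxy.1 | exact hxy.2
    | cast i => first | exact hall (.inl i) | exact hall (.inr i)

/-- The determinant of a square root of a non-square scalar. -/
theorem det_of_sq {a : F} (ha : ¬ IsSquare a) {L : V →ₗ[F] V} (hL : ∀ x, L (L x) = a • x) {d : ℕ}
    (hd : finrank F V = 2 * d) : LinearMap.det L = (-a) ^ d := by
  classical
  obtain ⟨w, hw⟩ := exists_frame ha hL hd d le_rfl
  let b : Basis (Fin d ⊕ Fin d) F V :=
    Basis.mk hw (hw.span_eq_top_of_card_eq_finrank' (by simp [hd, two_mul])).ge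
  have hM : LinearMap.toMatrix b b L = Matrix.fromBlocks (0 : Matrix (Fin d) (Fin d) F) (a • 1) 1 0 := by
    ext i j
    rw [LinearMap.toMatrix_apply]
    have hj : L (b j) = Sum.elim (fun j => b (.inr j)) (fun j => a • b (.inl j)) j := by
      rcases j with j | j <;> simp [b, hL]
    rw [hj]
    rcases i with i | i <;> rcases j with j | j <;>
      simp [Matrix.one_apply, Finsupp.single_apply, eq_comm]
  rw [← LinearMap.det_toMatrix b, hM,
    show Matrix.fromBlocks (0 : Matrix (Fin d) (Fin d) F) (a • 1) 1 0 =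
      (Matrix.fromBlocks 1 1 0 1 * Matrix.fromBlocks 1 0 (-1) 1 * Matrix.fromBlocks 1 1 0 1) *
        Matrix.fromBlocks (-1) 0 0 (a • 1) by simp [Matrix.fromBlocks_multiply]]
  simp [Matrix.det_mul, Matrix.det_fromBlocks_zero₂₁, Matrix.det_fromBlocks_zero₁₂, Matrix.det_neg,
    Matrix.det_smul]
  rw [← mul_pow, neg_one_mul]

end Cfsg.Agent.DetInvol
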