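import Cfsg.Agent.Lib.Classical.DicksonPSL

/-!
`PGL₂(F)` and `PSL₂(F)` as finite subgroups of `PGL₂` over the algebraic closure: the two orbits on
special points, Borel subgroups and the dihedral subgroups attached to tori.
-/

set_option autoImplicit false
set_option linter.style.haveILetI false
set_option linter.unusedSectionVars false

open scoped MatrixGroups Pointwise Classical
open Matrix OnePoint

noncomputable section

namespace Cfsg.Agent.Classical.Dickson

section abstract_ambient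

variable {K : Type*} [Field K] [DecidableEq K] [IsAlgClosed K]

local notation "P2" => PGL(2, K)
local notation "X2" => OnePoint K

/-- The data of `PGL₂(q)` or `PSL₂(q)`. -/
structure Ambient (G₀ : Subgroup (PGL(2, K))) (q e e' : ℕ) : Prop where
  two_le : 2 ≤ q
  hq : qOf G₀ (∞ : OnePoint K) = q
  he : eOf G₀ (∞ : OnePoint K) = e
  ho : Nat.card (orb G₀ (∞ : OnePoint K)) = q + 1
  kind : (e = q - 1 ∧ e' = q + 1) ∨ (2 * e = q - 1 ∧ 2 * e' = q + 1)

variable {G₀ : Subgroup (PGL(2, K))} [Finite G₀] {q e e' : ℕ}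

namespace Ambient

theorem card (A : Ambient G₀ q e e') : Nat.card G₀ = (q + 1) * (q * e) := by
  rw [← card_orb_mul G₀ (∞ : X2), A.ho, card_st, A.hq, A.he]

theorem e_pos (A : Ambient G₀ q e e') : 0 < e := A.he ▸ eOf_pos G₀ _

theorem cross (A : Ambient G₀ q e e') : e' * (q - 1) = (q + 1) * e := by
  rcases A.kind with ⟨h1, h2⟩ | ⟨h1, h2⟩
  · rw [h1, h2]
  · refine Nat.eq_of_mul_eq_mul_left (show 0 < 2 by norm_num) ?_
    rw [← mul_assoc, h2, ← h1]; ring

theorem split (A : Ambient G₀ q e e') :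
    (∀ x ∈ special G₀, x ∈ orb G₀ (∞ : X2) ∧ qOf G₀ x = q ∧ eOf G₀ x = e ∨
      x ∉ orb G₀ (∞ : X2) ∧ qOf G₀ x = 1 ∧ eOf G₀ x = e') ∧
    (∀ x ∈ special G₀, ∀ y ∈ special G₀, x ∉ orb G₀ (∞ : X2) → y ∉ orb G₀ (∞ : X2) → y ∈ orb G₀ x) ∧
    ∃ x, x ∈ special G₀ ∧ x ∉ orb G₀ (∞ : X2) := by
  classical
  set Ω := (finite_special G₀).toFinset with hΩ
  have hΩmem : ∀ y, y ∈ Ω ↔ y ∈ special G₀ := fun y => Set.Finite.mem_toFinset _
  have hΩst : ∀ y ∈ Ω, orb G₀ y ⊆ ↑Ω := fun y hy z hz =>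
    (hΩmem z).2 (orb_subset_special G₀ ((hΩmem y).1 hy) hz)
  have hsum := sum_wt G₀
  rw [← hΩ] at hsum
  have htwo := A.two_le
  have hepos := A.e_pos
  have hinf : (∞ : X2) ∈ Ω := by
    rw [hΩmem]
    haveI : Nontrivial (tr G₀ (∞ : X2)) := Finite.one_lt_card_iff_nontrivial.1 (by
      have := A.hq; unfold qOf at this; omega)
    obtain ⟨⟨g, hg⟩, hne⟩ := exists_ne (1 : tr G₀ (∞ : X2))
    exact ⟨g, hg.1, fun e => hne (Subtype.ext e), hg.2.1⟩
  obtain ⟨S', hS'sub, hS'st, hS'cov, h1⟩ := sum_split G₀ hΩst hinf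
  rw [hsum, A.hq, A.ho] at h1
  have hh : (Nat.card G₀ : ℤ) = ((q : ℤ) + 1) * ((q : ℤ) * e) := by rw [A.card]; push_cast; ring
  rcases S'.eq_empty_or_nonempty with hE | ⟨y, hy⟩
  · exfalso
    rw [hE, Finset.sum_empty, hh] at h1
    push_cast at h1
    have : (1 : ℤ) ≤ e := by omega
    have : (2 : ℤ) ≤ q := by omega
    nlinarith
  obtain ⟨S'', hS''sub, hS''st, hS''cov, h2⟩ := sum_split G₀ hS'st hy
  rw [h2] at h1
  have hrest : 0 ≤ ∑ z ∈ S'', wt G₀ z :=
    Finset.sum_nonneg fun z hz => (wt_pos G₀ ((hΩmem z).1 (hS'sub (hS''sub hz)))).le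
  have hle := two_mul_card_orb_le G₀ ((hΩmem y).1 (hS'sub hy))
  have hqy : qOf G₀ y = 1 := by
    have h0 := qOf_pos G₀ y
    by_contra hne
    have : (2 : ℤ) ≤ qOf G₀ y := by omega
    have : (2 : ℤ) ≤ q := by omega
    push_cast at h1
    nlinarith [Int.natCast_nonneg (Nat.card (orb G₀ y))]
  have hS''e : S'' = ∅ := by
    rw [Finset.eq_empty_iff_forall_notMem]
    intro z hz
    obtain ⟨S3, hS3sub, -, -, h3⟩ := sum_split G₀ hS''st hz
    have hzΩ := (hΩmem z).1 (hS'sub (hS''sub hz))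
    have hlez := two_mul_card_orb_le G₀ hzΩ
    have hnn : 0 ≤ ∑ w ∈ S3, wt G₀ w :=
      Finset.sum_nonneg fun w hw => (wt_pos G₀ ((hΩmem w).1 (hS'sub (hS''sub (hS3sub hw))))).le
    rw [h3, hqy] at h1
    have hq0 : (0 : ℤ) ≤ ((q : ℤ) + 1) * ((q : ℤ) - 2) := mul_nonneg (by omega) (by omega)
    have h0 := qOf_pos G₀ z
    rcases Nat.lt_or_ge (qOf G₀ z) 2 with hz2 | hz2
    · rw [show qOf G₀ z = 1 by omega] at h1
      push_cast at h1
      omega
    · have : (0 : ℤ) ≤ (Nat.card (orb G₀ z) : ℤ) * ((qOf G₀ z : ℤ) - 2) :=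
        mul_nonneg (Int.natCast_nonneg _) (by omega)
      push_cast at h1
      omega
  rw [hS''e, Finset.sum_empty, add_zero, hqy] at h1
  have hoy : Nat.card (orb G₀ y) = q * (q - 1) := by
    zify [show 1 ≤ q by omega]
    push_cast at h1
    linarith
  have hey : eOf G₀ y = e' := by
    have h := card_orb_mul G₀ y
    rw [card_st, hqy, one_mul, hoy, A.card] at h
    have hc := A.cross
    refine Nat.eq_of_mul_eq_mul_left (show 0 < q * (q - 1) from Nat.mul_pos (by omega) (by omega)) ?_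
    rw [h, mul_comm q (q - 1), mul_assoc, mul_comm (q-1), mul_assoc, hc]; ring
  have hnot : y ∉ orb G₀ (∞ : X2) := fun h => by
    have h' := qOf_orb G₀ h
    rw [hqy, A.hq] at h'
    omega
  refine ⟨fun x hx => ?_, fun x hx z hz hxo hzo => ?_, y, (hΩmem y).1 (hS'sub hy), hnot⟩
  · rcases hS'cov x ((hΩmem x).2 hx) with h | h
    · rcases hS''cov x h with h' | h'
      · rw [hS''e] at h'; exact absurd h' (Finset.notMem_empty x)
      · refine Or.inr ⟨fun ho => hnot ?_, (qOf_orb G₀ h').trans hqy, (eOf_orb G₀ h').trans hey⟩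
        rw [← orb_eq_of_mem G₀ ho, orb_eq_of_mem G₀ h']
        exact self_mem_orb G₀ y
    · exact Or.inl ⟨h, (qOf_orb G₀ h).trans A.hq, (eOf_orb G₀ h).trans A.he⟩
  · have hin : ∀ w ∈ special G₀, w ∉ orb G₀ (∞ : X2) → w ∈ orb G₀ y := fun w hw hwo => by
      rcases hS'cov w ((hΩmem w).2 hw) with h | h
      · rcases hS''cov w h with h' | h'
        · rw [hS''e] at h'; exact absurd h' (Finset.notMem_empty w)
        · exact h'
      · exact absurd h hwo
    rw [orb_eq_of_mem G₀ (hin x hx hxo)]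
    exact hin z hz hzo

/-- The two-point stabiliser in a rational pair. -/
theorem card_pair {x y : X2} (A : Ambient G₀ q e e') (hx : x ∈ orb G₀ (∞ : X2))
    (hy : y ∈ orb G₀ (∞ : X2)) (hxy : y ≠ x) :
    Nat.card ↥(st G₀ x ⊓ MulAction.stabilizer (PGL(2, K)) y) = e ∧
      ∀ z ∈ orb G₀ (∞ : X2), z ≠ x → ∃ g ∈ st G₀ x, g • y = z := by
  have hqx : qOf G₀ x = q := (qOf_orb G₀ hx).trans A.hq
  have hox : orb G₀ x = orb G₀ (∞ : X2) := orb_eq_of_mem G₀ hx
  -- the translations act regularly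
  have hreg : ∀ z ∈ orb G₀ (∞ : X2), z ≠ x → ∃ g ∈ tr G₀ x, g • y = z := by
    let f : tr G₀ x → (orb G₀ (∞ : X2) \ {x} : Set X2) := fun g => ⟨(g : P2) • y, by
      obtain ⟨k, hk, hky⟩ := hy
      refine ⟨⟨(g : P2) * k, G₀.mul_mem g.2.1 hk, ?_⟩, fun h => hxy ?_⟩
      · show ((g : P2) * k) • (∞ : X2) = _
        rw [mul_smul]; exact congrArg _ hky
      · exact MulAction.injective (g : P2) (Eq.trans h g.2.2.1.symm)⟩
    have hf : Function.Injective f := fun g k h => by
      have h' : (g : P2) • y = (k : P2) • y := congrArg Subtype.val h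
      have hfix : ((k : P2)⁻¹ * g) • y = y := by rw [mul_smul, h', inv_smul_smul]
      have hm : (k : P2)⁻¹ * g ∈ tr G₀ x := (tr G₀ x).mul_mem ((tr G₀ x).inv_mem k.2) g.2
      exact Subtype.ext (inv_mul_eq_one.1 ((hm.2.2 y hfix).resolve_left hxy)).symm
    haveI := ((finite_orb G₀ (∞ : X2)).sdiff (t := {x})).to_subtype
    have hcard : Nat.card (tr G₀ x) = Nat.card (orb G₀ (∞ : X2) \ {x} : Set X2) := by
      rw [Nat.card_coe_set_eq, Set.ncard_sdiff_singleton_of_mem hx, ← Nat.card_coe_set_eq, A.ho]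
      simpa [qOf] using hqx
    have hsurj := ((Nat.bijective_iff_injective_and_card f).2 ⟨hf, hcard⟩).2
    intro z hz hzx
    obtain ⟨g, hg⟩ := hsurj ⟨z, hz, hzx⟩
    exact ⟨g, g.2, congrArg Subtype.val hg⟩
  refine ⟨?_, fun z hz hzx => (hreg z hz hzx).imp fun g h => ⟨tr_le_st G₀ x h.1, h.2⟩⟩
  let g : tr G₀ x × ↥(st G₀ x ⊓ MulAction.stabilizer P2 y) → st G₀ x :=
    fun p => ⟨p.1.1 * p.2.1, (st G₀ x).mul_mem (tr_le_st G₀ x p.1.2) p.2.2.1⟩
  have hg : Function.Bijective g := by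
    constructor
    · rintro ⟨⟨a, ha⟩, ⟨b, hb⟩⟩ ⟨⟨c, hc⟩, ⟨d, hd⟩⟩ h
      have h' : a * b = c * d := congrArg Subtype.val h
      have h1 : c⁻¹ * a = d * b⁻¹ := by
        rw [inv_mul_eq_iff_eq_mul, ← mul_assoc, eq_mul_inv_iff_mul_eq, h']
      have hm : c⁻¹ * a ∈ tr G₀ x := (tr G₀ x).mul_mem ((tr G₀ x).inv_mem hc) ha
      have hfix : (c⁻¹ * a) • y = y := by
        rw [h1]; exact (MulAction.stabilizer P2 y).mul_mem hd.2 ((MulAction.stabilizer P2 y).inv_mem hb.2)
      obtain rfl : c = a := inv_mul_eq_one.1 ((hm.2.2 y hfix).resolve_left hxy)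
      obtain rfl : b = d := mul_left_cancel h'
      rfl
    · rintro ⟨k, hk⟩
      have hkz : k • y ∈ orb G₀ (∞ : X2) := by
        obtain ⟨k', hk', hky⟩ := hy
        exact ⟨k * k', G₀.mul_mem hk.1 hk', by
          show (k * k') • (∞ : X2) = k • y
          rw [mul_smul]; exact congrArg _ hky⟩
      obtain ⟨a, ha, ha'⟩ := hreg _ hkz fun h => hxy (MulAction.injective k (Eq.trans h hk.2.symm))
      refine ⟨(⟨a, ha⟩, ⟨a⁻¹ * k, (st G₀ x).mul_mem ((st G₀ x).inv_mem (tr_le_st G₀ x ha)) hk, ?_⟩),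
        Subtype.ext (mul_inv_cancel_left a k)⟩
      show (a⁻¹ * k) • y = y
      rw [mul_smul, ← ha', inv_smul_smul]
  have hc := Nat.card_eq_of_bijective g hg
  rw [Nat.card_prod, card_st] at hc
  have htr : Nat.card (tr G₀ x) = q := hqx
  rw [htr, hqx, (eOf_orb G₀ hx).trans A.he] at hc
  exact Nat.eq_of_mul_eq_mul_left (by have := A.two_le; omega) hc

/-- The dihedral subgroup attached to a pair of points. -/
def pairStab (G₀ : Subgroup (PGL(2, K))) (x y : OnePoint K) : Subgroup (PGL(2, K)) :=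
  G₀ ⊓ MulAction.stabilizer (PGL(2, K)) ({x, y} : Set (OnePoint K))

theorem mem_pairStab {x y : X2} {g : P2} :
    g ∈ pairStab G₀ x y ↔ g ∈ G₀ ∧ (g • x = x ∧ g • y = y ∨ g • x = y ∧ g • y = x) := by
  simp only [pairStab, Subgroup.mem_inf, MulAction.mem_stabilizer_iff, Set.smul_set_insert, Set.smul_set_singleton]
  rw [Set.pair_eq_pair_iff]

instance finite_pairStab (x y : OnePoint K) : Finite (pairStab G₀ x y) :=
  Finite.of_injective _ (Subgroup.inclusion_injective inf_le_left)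

/-- The dihedral overgroup of the elements with two given fixed points. -/
theorem torus (A : Ambient G₀ q e e') (hq4 : 4 ≤ q) {g : P2} (hg : g ∈ G₀) {x y : X2}
    (hxy : x ≠ y) (hg1 : g ≠ 1) (hx : g • x = x) (hy : g • y = y) :
    ∃ k, (k = e ∨ k = e') ∧ g ∈ pairStab G₀ x y ∧ Nat.card (pairStab G₀ x y) = 2 * k ∧
      Nonempty (pairStab G₀ x y ≃* DihedralGroup k) ∧
      ∀ h ∈ G₀, (h * g * h⁻¹) • x = x → (h * g * h⁻¹) • y = y → h ∈ pairStab G₀ x y := by
  obtain ⟨hsplit, htrans, -⟩ := A.split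
  have hxs : x ∈ special G₀ := ⟨g, hg, hg1, hx⟩
  have hys : y ∈ special G₀ := ⟨g, hg, hg1, hy⟩
  have hfix : ∀ z, g • z = z → z = x ∨ z = y := fun z hz => by
    by_contra hne
    push Not at hne
    exact hg1 (eq_one_of_fix_three hxy hne.1.symm hne.2.symm hx hy hz)
  have hmix : ∀ {a b : X2}, a ≠ b → g • a = a → g • b = b → a ∈ special G₀ → b ∈ special G₀ →
      a ∈ orb G₀ (∞ : X2) → b ∈ orb G₀ (∞ : X2) := by
    intro a b hab ha hb has hbs hao
    by_contra hbo
    obtain ⟨-, hqb, heb⟩ := (hsplit b hbs).resolve_left fun h => hbo h.1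
    haveI := isCyclic_st G₀ hqb
    have hle : st G₀ b ≤ st G₀ a := by
      intro h hh
      refine ⟨hh.1, ?_⟩
      have hcomm : h * g = g * h := by
        letI : CommGroup (st G₀ b) := IsCyclic.commGroup
        exact congrArg Subtype.val (mul_comm (⟨h, hh⟩ : st G₀ b) ⟨g, hg, hb⟩)
      have hga : g • (h • a) = h • a := by rw [← mul_smul, ← hcomm, mul_smul, ha]
      show h • a = a
      by_contra hne
      have hb' : h • b = b := hh.2
      refine hg1 (eq_one_of_fix_three hab (Ne.symm hne) (fun e => hab ?_) ha hb hga)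
      exact (MulAction.injective h (hb'.trans e)).symm
    have hd : e' ∣ e := by
      haveI := Finite.of_injective _ (Subgroup.inclusion_injective (st_le G₀ b))
      obtain ⟨⟨u, hu⟩, huo⟩ := IsCyclic.exists_ofOrder_eq_natCard (α := st G₀ b)
      rw [Subgroup.orderOf_mk, card_st, hqb, heb, one_mul] at huo
      rw [← huo, ← (eOf_orb G₀ hao).trans A.he]
      exact orderOf_dvd_eOf G₀ (hle hu) hu.2 hab.symm
    have := Nat.le_of_dvd A.e_pos hd
    rcases A.kind with ⟨h1, h2⟩ | ⟨h1, h2⟩ <;> omega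
  -- the pointwise stabiliser and an element exchanging the points
  obtain ⟨k, hk, hT, w, hw, hwx, hwy⟩ : ∃ k, (k = e ∨ k = e') ∧
      Nat.card ↥(st G₀ x ⊓ MulAction.stabilizer P2 y) = k ∧
      ∃ w ∈ G₀, w • x = y ∧ w • y = x := by
    by_cases hxo : x ∈ orb G₀ (∞ : X2)
    · have hyo := hmix hxy hx hy hxs hys hxo
      refine ⟨e, Or.inl rfl, (A.card_pair hxo hyo hxy.symm).1, ?_⟩
      obtain ⟨w₀, hw₀, hw₀x⟩ : y ∈ orb G₀ x := by rw [orb_eq_of_mem G₀ hxo]; exact hyo
      change w₀ • x = y at hw₀x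
      obtain ⟨a, ha, ha'⟩ := (A.card_pair hyo (show w₀ • y ∈ orb G₀ (∞ : X2) by
          obtain ⟨k, hk, hky⟩ := hyo
          exact ⟨w₀ * k, G₀.mul_mem hw₀ hk, by
            show (w₀ * k) • (∞ : X2) = w₀ • y
            rw [mul_smul]; exact congrArg _ hky⟩)
        (fun h => hxy (MulAction.injective w₀ (hw₀x.trans h.symm)))).2 x hxo hxy
      exact ⟨a * w₀, G₀.mul_mem ha.1 hw₀, by rw [mul_smul, hw₀x]; exact ha.2, by rw [mul_smul, ha']⟩
    · have hyo : y ∉ orb G₀ (∞ : X2) := fun h => hxo (hmix hxy.symm hy hx hys hxs h)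
      obtain ⟨-, hqx, hex⟩ := (hsplit x hxs).resolve_left fun h => hxo h.1
      obtain ⟨-, hqy, hey⟩ := (hsplit y hys).resolve_left fun h => hyo h.1
      haveI := isCyclic_st G₀ hqx
      have hle : st G₀ x ≤ st G₀ y := by
        intro h hh
        refine ⟨hh.1, ?_⟩
        have hcomm : h * g = g * h := by
          letI : CommGroup (st G₀ x) := IsCyclic.commGroup
          exact congrArg Subtype.val (mul_comm (⟨h, hh⟩ : st G₀ x) ⟨g, hg, hx⟩)
        show h • y = y
        rcases hfix (h • y) (by rw [← mul_smul, ← hcomm, mul_smul, hy]) with e | e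
        · exact absurd (MulAction.injective h (Eq.trans e hh.2.symm)) hxy.symm
        · exact e
      have heq : st G₀ x = st G₀ y := Subgroup.eq_of_le_of_card_ge hle (by
        rw [card_st, card_st, hqx, hqy, hex, hey])
      refine ⟨e', Or.inr rfl, ?_, ?_⟩
      · rw [inf_eq_left.2 fun h hh => (hle hh).2, card_st, hqx, hex, one_mul]
      · obtain ⟨w, hw, hwx⟩ := htrans x hxs y hys hxo hyo
        change w • x = y at hwx
        refine ⟨w, hw, hwx, ?_⟩
        have hgy : (w⁻¹ * g * w) ∈ st G₀ x := by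
          refine ⟨G₀.mul_mem (G₀.mul_mem (G₀.inv_mem hw) hg) hw, ?_⟩
          show (w⁻¹ * g * w) • x = x
          rw [mul_smul, mul_smul, hwx, hy, ← hwx, inv_smul_smul]
        have h2 : (w⁻¹ * g * w) • y = y := (hle hgy).2
        rw [mul_smul, mul_smul, inv_smul_eq_iff] at h2
        rcases hfix _ h2 with e | e
        · exact e
        · exact absurd (MulAction.injective w (hwx.trans e.symm)) hxy
  set D := pairStab G₀ x y with hD
  have hgD : g ∈ D := mem_pairStab.2 ⟨hg, Or.inl ⟨hx, hy⟩⟩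
  have hstD : st D x = st G₀ x ⊓ MulAction.stabilizer P2 y := by
    ext h
    rw [mem_st, hD, mem_pairStab, Subgroup.mem_inf, mem_st, MulAction.mem_stabilizer_iff]
    constructor
    · rintro ⟨⟨h0, ⟨h1, h2⟩ | ⟨h1, h2⟩⟩, h3⟩
      · exact ⟨⟨h0, h1⟩, h2⟩
      · exact absurd (h3.symm.trans h1) hxy
    · rintro ⟨⟨h0, h1⟩, h2⟩
      exact ⟨⟨h0, Or.inl ⟨h1, h2⟩⟩, h1⟩
  have horb : orb D x = {x, y} := by
    ext z
    constructor
    · rintro ⟨h, hh, rfl⟩
      rcases (mem_pairStab.1 hh).2 with ⟨h1, -⟩ | ⟨h1, -⟩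
      · exact Or.inl h1
      · exact Or.inr h1
    · rintro (rfl | rfl)
      · exact self_mem_orb D _
      · exact ⟨w, mem_pairStab.2 ⟨hw, Or.inr ⟨hwx, hwy⟩⟩, hwx⟩
  have ho2 : Nat.card (orb D x) = 2 := by rw [horb, Nat.card_coe_set_eq, Set.ncard_pair hxy]
  have hq1 : qOf D x = 1 := by
    unfold qOf
    rw [Subgroup.card_eq_one, eq_bot_iff]
    intro h hh
    have hmem : h ∈ st D x := tr_le_st D x hh
    rw [hstD] at hmem
    exact Subgroup.mem_bot.2 ((hh.2.2 y hmem.2).resolve_left hxy.symm)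
  refine ⟨k, hk, hgD, ?_, ?_, fun h hh h1 h2 => mem_pairStab.2 ⟨hh, ?_⟩⟩
  · rw [← two_mul_card_st D ho2, hstD, hT]
  · rw [← hT, ← hstD]
    exact nonempty_dihedral' D hq1 ho2
  · rw [mul_smul, mul_smul] at h1 h2
    have h1' := hfix (h⁻¹ • x) (eq_inv_smul_iff.2 h1)
    have h2' := hfix (h⁻¹ • y) (eq_inv_smul_iff.2 h2)
    rcases h1' with e1 | e1 <;> rcases h2' with e2 | e2
    · exact absurd (MulAction.injective h⁻¹ (e1.trans e2.symm)) hxy
    · exact Or.inl ⟨(inv_smul_eq_iff.1 e1).symm, (inv_smul_eq_iff.1 e2).symm⟩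
    · exact Or.inr ⟨(inv_smul_eq_iff.1 e2).symm, (inv_smul_eq_iff.1 e1).symm⟩
    · exact absurd (MulAction.injective h⁻¹ (e1.trans e2.symm)) hxy

end Ambient

end abstract_ambient

section concrete

variable (F : Type*) [Field F] [Fintype F]

local notation "KK" => AlgebraicClosure F

/-- The rational points of `PGL₂`. -/
def pglF : Subgroup (PGL(2, AlgebraicClosure F)) :=
  (ProjGenLinGroup.map (n := Fin 2) (algebraMap F (AlgebraicClosure F))).range

/-- The rational points of `PSL₂`. -/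
def pslF : Subgroup (PGL(2, AlgebraicClosure F)) := (emb (F := F)).range

theorem pslF_le : pslF F ≤ pglF F := by rintro _ ⟨a, rfl⟩; exact ⟨_, rfl⟩

instance finite_pglF : Finite (pglF F) := by
  haveI : Finite (PGL(2, F)) := inferInstanceAs (Finite (GL (Fin 2) F ⧸ Subgroup.center (GL (Fin 2) F)))
  exact Set.finite_range _ |>.to_subtype

instance finite_pslF : Finite (pslF F) :=
  Finite.of_injective _ (Subgroup.inclusion_injective (pslF_le F))

variable {F}

theorem map_aff (s : Fˣ) (a : F) :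
    ProjGenLinGroup.map (algebraMap F KK) (aff s a) =
      aff (Units.map (algebraMap F KK).toMonoidHom s) (algebraMap F KK a) := by
  rw [aff, aff, ProjGenLinGroup.map_mk]
  congr 1
  refine Units.ext ?_
  show ((affGL s a : GL (Fin 2) F) : Matrix (Fin 2) (Fin 2) F).map _ = _
  rw [affGL_coe, affGL_coe]
  ext i j
  fin_cases i <;> fin_cases j <;> simp

theorem exists_sl (M : Matrix (Fin 2) (Fin 2) F) (h : M.det = 1) :
    ∃ g : SpecialLinearGroup (Fin 2) F, (g : Matrix (Fin 2) (Fin 2) F) = M := ⟨⟨M, h⟩, rfl⟩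

theorem exists_of_aff_mem_pglF {s : KKˣ} {a : KK} (h : aff s a ∈ pglF F) :
    ∃ g : PGL(2, F), ProjGenLinGroup.map (algebraMap F KK) g = aff s a ∧
      ∃ (t : Fˣ) (b : F), g = aff t b ∧ Units.map (algebraMap F KK).toMonoidHom t = s ∧
        algebraMap F KK b = a := by
  obtain ⟨g, hg⟩ := h
  have hinfty : g • (∞ : OnePoint F) = ∞ := by
    have h1 := map_smul_point (algebraMap F KK) g (∞ : OnePoint F)
    rw [hg, OnePoint.map_infty, aff_smul_infty] at h1
    cases hz : g • (∞ : OnePoint F) with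
    | infty => rfl
    | coe z => rw [hz, OnePoint.map_some] at h1; exact absurd h1 (coe_ne_infty _)
  obtain ⟨t, b, rfl⟩ := exists_aff g hinfty
  rw [map_aff, aff_eq_iff] at hg
  exact ⟨_, by rw [map_aff, hg.1, hg.2], t, b, rfl, hg.1, hg.2⟩

theorem orb_infty (G : Subgroup (PGL(2, KK))) (hG : G ≤ pglF F) (hG' : pslF F ≤ G) [Finite G] :
    orb G (∞ : OnePoint KK) = Set.range (OnePoint.map (algebraMap F KK)) := by
  ext z
  constructor
  · rintro ⟨g, hg, rfl⟩
    obtain ⟨a, rfl⟩ := hG hg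
    exact ⟨a • (∞ : OnePoint F), by rw [map_smul_point]; rfl⟩
  · rintro ⟨z, rfl⟩
    obtain ⟨a, ha⟩ : ∃ a : Matrix.ProjectiveSpecialLinearGroup (Fin 2) F,
        ProjectiveSpecialLinearGroup.toPGL a • (∞ : OnePoint F) = z := by
      cases z with
      | infty => exact ⟨1, by rw [map_one, one_smul]⟩
      | coe b =>
        obtain ⟨m, hm⟩ := exists_sl !![b, -1; 1, 0] (by simp [Matrix.det_fin_two])
        refine ⟨QuotientGroup.mk m, ?_⟩
        rw [ProjectiveSpecialLinearGroup.toPGL_mk, mk_smul', smul_infty_eq_ite]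
        simp [SpecialLinearGroup.coe_GL_coe_matrix, hm]
    refine ⟨emb a, hG' ⟨a, rfl⟩, ?_⟩
    show emb a • (∞ : OnePoint KK) = _
    rw [← ha, map_smul_point]
    rfl

theorem onePointMap_injective {R S : Type*} [Field R] [Field S] (f : R →+* S) :
    Function.Injective (OnePoint.map f) := by
  rintro (_ | a) (_ | b) h
  · rfl
  · exact absurd h (infty_ne_coe _)
  · exact absurd h (coe_ne_infty _)
  · exact congrArg OnePoint.some (f.injective (coe_eq_coe.1 h))

theorem card_orb_infty (G : Subgroup (PGL(2, KK))) (hG : G ≤ pglF F) (hG' : pslF F ≤ G) [Finite G] :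
    Nat.card (orb G (∞ : OnePoint KK)) = Fintype.card F + 1 := by
  rw [orb_infty G hG hG', Nat.card_range_of_injective (onePointMap_injective (algebraMap F KK))]
  show Nat.card (Option F) = _
  rw [Finite.card_option, Nat.card_eq_fintype_card]

theorem qOf_infty (G : Subgroup (PGL(2, KK))) (hG : G ≤ pglF F) (hG' : pslF F ≤ G) [Finite G] :
    qOf G (∞ : OnePoint KK) = Fintype.card F := by
  rw [qOf, card_tr_infty, ← Nat.card_eq_fintype_card]
  refine (Nat.card_congr (Equiv.ofBijective (fun a : F => (⟨algebraMap F KK a, hG' ?_⟩ : transl G)) ⟨?_, ?_⟩)).symm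
  · obtain ⟨m, hm⟩ := exists_sl !![1, a; 0, 1] (by simp [Matrix.det_fin_two])
    refine ⟨QuotientGroup.mk m, ?_⟩
    have e : (ProjectiveSpecialLinearGroup.toPGL (QuotientGroup.mk m) : PGL(2, F)) = aff 1 a := by
      rw [ProjectiveSpecialLinearGroup.toPGL_mk, aff]
      congr 1
      exact Units.ext (hm.trans (by rw [affGL_coe, Units.val_one]))
    show (ProjGenLinGroup.map (algebraMap F KK)) (ProjectiveSpecialLinearGroup.toPGL (QuotientGroup.mk m)) = _
    rw [e, map_aff, map_one]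
  · intro a b h
    exact (algebraMap F KK).injective (congrArg Subtype.val h)
  · rintro ⟨a, ha⟩
    obtain ⟨-, -, -, b, -, -, hb⟩ := exists_of_aff_mem_pglF (hG ha)
    exact ⟨b, Subtype.ext hb⟩

theorem eOf_pglF : eOf (pglF F) (∞ : OnePoint KK) = Fintype.card F - 1 := by
  have hc : (1 : PGL(2, KK)) • (∞ : OnePoint KK) = ∞ := one_smul _ _
  rw [(invariants (pglF F) hc).2.2, map_conj_self _ (one_mem _), ← Fintype.card_units, ← Nat.card_eq_fintype_card]
  refine (Nat.card_congr (Equiv.ofBijective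
    (fun s : Fˣ => (⟨Units.map (algebraMap F KK).toMonoidHom s, algebraMap F KK 0, aff s 0, map_aff s 0⟩ :
      mult (pglF F))) ⟨?_, ?_⟩)).symm
  · intro a b h
    exact Units.map_injective (algebraMap F KK).injective (congrArg Subtype.val h)
  · rintro ⟨s, a, ha⟩
    obtain ⟨-, -, t, -, -, ht, -⟩ := exists_of_aff_mem_pglF ha
    exact ⟨t, Subtype.ext ht⟩

theorem mem_range_toPGL_iff (g : GL (Fin 2) F) :
    ProjGenLinGroup.mk g ∈ (ProjectiveSpecialLinearGroup.toPGL (n := Fin 2) (R := F)).range ↔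
      IsSquare g.det := by
  constructor
  · rintro ⟨h, hh⟩
    induction h using QuotientGroup.induction_on with | H h =>
    rw [ProjectiveSpecialLinearGroup.toPGL_mk, ProjGenLinGroup.mk_eq_mk_iff] at hh
    obtain ⟨u, rfl⟩ := hh
    refine ⟨u, ?_⟩
    rw [map_mul]
    refine Units.ext ?_
    simp [pow_two]
  · rintro ⟨r, hr⟩
    obtain ⟨m, hm⟩ := exists_sl (((r⁻¹ : Fˣ) : F) • (g : Matrix (Fin 2) (Fin 2) F)) (by
      have hr' : (g : Matrix (Fin 2) (Fin 2) F).det = (r : F) * r := by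
        rw [← GeneralLinearGroup.val_det_apply, hr, Units.val_mul]
      rw [Matrix.det_smul, Fintype.card_fin, hr', pow_two]
      field_simp
      simp)
    refine ⟨QuotientGroup.mk m, ?_⟩
    · rw [ProjectiveSpecialLinearGroup.toPGL_mk, ProjGenLinGroup.mk_eq_mk_iff]
      refine ⟨r, Units.ext (Matrix.ext fun i j => ?_)⟩
      simp [hm, Matrix.mul_apply, Fin.sum_univ_two]
      fin_cases i <;> fin_cases j <;> simp [mul_comm, mul_left_comm]

theorem eOf_pslF : eOf (pslF F) (∞ : OnePoint KK) =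
    Nat.card (powMonoidHom 2 : Fˣ →* Fˣ).range := by
  have hc : (1 : PGL(2, KK)) • (∞ : OnePoint KK) = ∞ := one_smul _ _
  rw [(invariants (pslF F) hc).2.2, map_conj_self _ (one_mem _)]
  refine (Nat.card_congr (Equiv.ofBijective
    (fun s : (powMonoidHom 2 : Fˣ →* Fˣ).range => (⟨Units.map (algebraMap F KK).toMonoidHom s.1,
      algebraMap F KK 0, ?_⟩ : mult (pslF F))) ⟨?_, ?_⟩)).symm
  · obtain ⟨u, hu⟩ := s.2
    obtain ⟨a, ha⟩ := (mem_range_toPGL_iff (affGL (s.1) (0 : F))).2 ⟨u, by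
      rw [← hu]
      refine Units.ext ?_
      simp [affGL_coe, Matrix.det_fin_two, pow_two]⟩
    exact ⟨a, by
      show ProjGenLinGroup.map _ (ProjectiveSpecialLinearGroup.toPGL a) = _
      rw [ha, ← aff, map_aff]⟩
  · intro a b h
    exact Subtype.ext (Units.map_injective (algebraMap F KK).injective (congrArg Subtype.val h))
  · rintro ⟨s, a, h, hh⟩
    obtain ⟨g, hg, t, b, rfl, ht, -⟩ := exists_of_aff_mem_pglF (s := s) (a := a) (pslF_le F ⟨h, hh⟩)
    have heq : ProjectiveSpecialLinearGroup.toPGL h = aff t b := map_injective (algebraMap F KK) (hh.trans hg.symm)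
    obtain ⟨r, hr⟩ := (mem_range_toPGL_iff (affGL t b)).1 ⟨h, heq⟩
    refine ⟨⟨t, r, ?_⟩, Subtype.ext ht⟩
    refine Units.ext ?_
    have := congrArg Units.val hr
    simp [affGL_coe, Matrix.det_fin_two] at this
    simp [this, pow_two]

theorem card_squares : Nat.card (powMonoidHom 2 : Fˣ →* Fˣ).range =
    (Fintype.card F - 1) / Nat.gcd 2 (Fintype.card F - 1) := by
  rw [IsCyclic.card_powMonoidHom_range, Nat.card_eq_fintype_card, Fintype.card_units, Nat.gcd_comm]

theorem ambient_pglF : Ambient (pglF F) (Fintype.card F) (Fintype.card F - 1) (Fintype.card F + 1) :=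
  ⟨Fintype.one_lt_card, qOf_infty _ le_rfl (pslF_le F), eOf_pglF, card_orb_infty _ le_rfl (pslF_le F),
    Or.inl ⟨rfl, rfl⟩⟩

theorem ambient_pslF : Ambient (pslF F) (Fintype.card F)
    ((Fintype.card F - 1) / Nat.gcd 2 (Fintype.card F - 1))
    ((Fintype.card F + 1) / Nat.gcd 2 (Fintype.card F - 1)) := by
  refine ⟨Fintype.one_lt_card, qOf_infty _ (pslF_le F) le_rfl, eOf_pslF.trans card_squares,
    card_orb_infty _ (pslF_le F) le_rfl, ?_⟩
  have h1 := Fintype.one_lt_card (α := F)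
  rcases (Nat.dvd_prime Nat.prime_two).1 (Nat.gcd_dvd_left 2 (Fintype.card F - 1)) with h | h
  · left; rw [h, Nat.div_one, Nat.div_one]; exact ⟨rfl, rfl⟩
  · right
    have hd := Nat.gcd_dvd_right 2 (Fintype.card F - 1)
    rw [h] at hd ⊢
    omega

theorem card_pglF : Nat.card (pglF F) = Fintype.card F * (Fintype.card F ^ 2 - 1) := by
  rw [(ambient_pglF (F := F)).card]
  have : Fintype.card F ^ 2 - 1 = (Fintype.card F + 1) * (Fintype.card F - 1) := by
    simpa using Nat.sq_sub_sq (Fintype.card F) 1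
  rw [this]; ring

theorem card_pslF : Nat.card (pslF F) =
    Nat.card (Matrix.ProjectiveSpecialLinearGroup (Fin 2) F) :=
  (Nat.card_congr (MonoidHom.ofInjective emb_injective).toEquiv).symm

end concrete

end Cfsg.Agent.Classical.Dickson
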