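import Cfsg.Agent.Lib.Classical.SmallAlt

/-!
Groups of order 24 and 60 recognised by the absence of some element orders.
-/

set_option autoImplicit false
set_option linter.style.haveILetI false

namespace Cfsg.Agent.Classical.Dickson

variable {G : Type*} [Group G] [Finite G]

/-- An element of `p`-power order normalising a Sylow `p`-subgroup lies in it. -/
theorem mem_sylow_of_normalizes {p : ℕ} [Fact p.Prime] (P : Sylow p G) {x : G}
    (hx : IsPGroup p (Subgroup.zpowers x))
    (hn : x ∈ Subgroup.normalizer ((P : Subgroup G) : Set G)) : x ∈ (P : Subgroup G) := by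
  have h := P.is_maximal' (hx.to_sup_of_normal_right' P.isPGroup' (Subgroup.zpowers_le.2 hn)) le_sup_right
  have hmem : x ∈ Subgroup.zpowers x ⊔ (P : Subgroup G) := Subgroup.mem_sup_left (Subgroup.mem_zpowers x)
  rwa [h] at hmem

theorem exists_pow_lt {x z : G} (h : x ∈ Subgroup.zpowers z) : ∃ k < orderOf z, z ^ k = x := by
  classical
  haveI := Fintype.ofFinite G
  rw [(isOfFinOrder_of_finite z).mem_zpowers_iff_mem_range_orderOf] at h
  simpa using h

/-- A normal subgroup of order two and an element of order `r` give an element of order `2 r`. -/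
theorem exists_order_two_mul {N : Subgroup G} [N.Normal] (hN : Nat.card N = 2) {r : ℕ} (hr : Odd r)
    {x : G} (hx : orderOf x = r) : ∃ g : G, orderOf g = 2 * r := by
  haveI : Fact (Nat.Prime 2) := ⟨Nat.prime_two⟩
  obtain ⟨⟨z, hz⟩, hz2⟩ := exists_prime_orderOf_dvd_card' (G := N) 2 (by rw [hN])
  rw [Subgroup.orderOf_mk] at hz2
  have hNz : N = Subgroup.zpowers z :=
    (Subgroup.eq_of_le_of_card_ge (Subgroup.zpowers_le.2 hz) (by rw [Nat.card_zpowers, hz2, hN])).symm
  have hcomm : Commute z x := by
    have h1 : x * z * x⁻¹ ∈ N := ‹N.Normal›.conj_mem z hz x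
    rw [hNz] at h1
    obtain ⟨k, hk, hk'⟩ := exists_pow_lt h1
    rw [hz2] at hk
    interval_cases k
    · rw [pow_zero] at hk'
      have : z = 1 := conj_eq_one_iff.1 hk'.symm
      rw [this, orderOf_one] at hz2
      exact absurd hz2 (by norm_num)
    · rw [pow_one] at hk'
      exact mul_inv_eq_iff_eq_mul.1 hk'.symm |>.symm
  refine ⟨z * x, ?_⟩
  rw [hcomm.orderOf_mul_eq_mul_orderOf_of_coprime (by rw [hz2, hx]; exact Nat.coprime_two_left.2 hr),
    hz2, hx]

/-- A group of order 24 without elements of order six is symmetric of degree four. -/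
theorem nonempty_perm_four (h : Nat.card G = 24) (h6 : ∀ g : G, orderOf g ≠ 6) :
    Nonempty (G ≃* Equiv.Perm (Fin 4)) := by
  classical
  haveI : Fact (Nat.Prime 3) := ⟨Nat.prime_three⟩
  haveI : Fact (Nat.Prime 2) := ⟨Nat.prime_two⟩
  obtain ⟨P⟩ : Nonempty (Sylow 3 G) := inferInstance
  have hP : Nat.card P = 3 := by
    rw [P.card_eq_multiplicity, h, show (24 : ℕ) = 2 ^ 3 * 3 by norm_num,
      Nat.factorization_mul (by norm_num) (by norm_num), Nat.factorization_pow]
    simp [Nat.Prime.factorization Nat.prime_three, Nat.Prime.factorization Nat.prime_two]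
  have hidx : (P : Subgroup G).index = 8 := by
    have := (P : Subgroup G).card_mul_index
    rw [h, hP] at this; omega
  have hn : Nat.card (Sylow 3 G) = 4 := by
    have h1 := P.card_dvd_index
    rw [hidx] at h1
    have h2 := card_sylow_modEq_one 3 G
    have h3 : Nat.card (Sylow 3 G) ≤ 8 := Nat.le_of_dvd (by norm_num) h1
    unfold Nat.ModEq at h2
    interval_cases hc : Nat.card (Sylow 3 G) <;> first | omega | skip
    exfalso
    haveI : Subsingleton (Sylow 3 G) := (Nat.card_eq_one_iff_unique.1 hc).1
    haveI hnorm : (P : Subgroup G).Normal := Sylow.normal_of_subsingleton P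
    let φ : G →* MulAut (P : Subgroup G) := MulAut.conjNormal
    haveI : IsCyclic (P : Subgroup G) := isCyclic_of_prime_card hP
    have hd : φ.ker.index ∣ 2 := by
      rw [Subgroup.index_ker]
      refine (Subgroup.card_subgroup_dvd_card _).trans (dvd_of_eq ?_)
      rw [IsCyclic.card_mulAut, hP, Nat.totient_prime Nat.prime_three]
    have h2 : 2 ∣ Nat.card φ.ker := by
      have := φ.ker.index_mul_card
      rw [h] at this
      rcases (Nat.dvd_prime Nat.prime_two).1 hd with e | e <;> rw [e] at this
      · exact ⟨12, by omega⟩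
      · exact ⟨6, by omega⟩
    obtain ⟨⟨z, hz⟩, hz2⟩ := exists_prime_orderOf_dvd_card' 2 h2
    rw [Subgroup.orderOf_mk] at hz2
    obtain ⟨⟨c, hcP⟩, hc3⟩ := exists_prime_orderOf_dvd_card' (G := (P : Subgroup G)) 3 (by rw [hP])
    rw [Subgroup.orderOf_mk] at hc3
    have hcomm : Commute c z := by
      have h1 := congrArg (fun e : MulAut (P : Subgroup G) => ((e ⟨c, hcP⟩ : (P : Subgroup G)) : G))
        (MonoidHom.mem_ker.1 hz)
      simp only [φ, MulAut.conjNormal_apply, MulAut.one_apply] at h1
      exact (mul_inv_eq_iff_eq_mul.1 h1).symm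
    apply h6 (c * z)
    rw [hcomm.orderOf_mul_eq_mul_orderOf_of_coprime (by rw [hc3, hz2]; norm_num), hc3, hz2]
  let φ : G →* Equiv.Perm (Sylow 3 G) := MulAction.toPermHom G (Sylow 3 G)
  have hker : φ.ker = ⊥ := by
    have hle : ∀ Q : Sylow 3 G, ∀ g ∈ φ.ker, g ∈ Subgroup.normalizer ((Q : Subgroup G) : Set G) := by
      intro Q g hg
      exact Sylow.smul_eq_iff_mem_normalizer.1 (Equiv.ext_iff.1 (MonoidHom.mem_ker.1 hg) Q)
    have hN : Nat.card (Subgroup.normalizer ((P : Subgroup G) : Set G)) = 6 := by
      have h1 := (Subgroup.normalizer ((P : Subgroup G) : Set G)).card_mul_index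
      have h2 : (Subgroup.normalizer ((P : Subgroup G) : Set G)).index = 4 := by
        rw [← hn]; exact (Sylow.card_eq_index_normalizer P).symm
      rw [h2, h] at h1
      omega
    have hd : Nat.card φ.ker ∣ 6 := hN ▸ Subgroup.card_dvd_of_le (hle P)
    have h3 : ¬ 3 ∣ Nat.card φ.ker := by
      intro hd3
      obtain ⟨⟨x, hx⟩, hx3⟩ := exists_prime_orderOf_dvd_card' 3 hd3
      rw [Subgroup.orderOf_mk] at hx3
      have hpg : IsPGroup 3 (Subgroup.zpowers x) := IsPGroup.of_card (n := 1) (by rw [Nat.card_zpowers, hx3, pow_one])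
      have hmem : ∀ Q : Sylow 3 G, (Q : Subgroup G) = Subgroup.zpowers x := fun Q =>
        (Subgroup.eq_of_le_of_card_ge (Subgroup.zpowers_le.2 (mem_sylow_of_normalizes Q hpg (hle Q x hx))) (by
          exact le_of_eq (Q.card_eq_multiplicity.trans (P.card_eq_multiplicity.symm.trans (hP.trans (hx3.symm.trans (Nat.card_zpowers x).symm)))))).symm
      haveI : Subsingleton (Sylow 3 G) := ⟨fun Q R => Sylow.ext ((hmem Q).trans (hmem R).symm)⟩
      have := Finite.card_le_one_iff_subsingleton.2 ‹Subsingleton (Sylow 3 G)›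
      omega
    have hle6 := Nat.le_of_dvd (by norm_num) hd
    refine Subgroup.eq_bot_of_card_eq _ ?_
    interval_cases hk : Nat.card φ.ker <;> first | omega | skip
    exfalso
    obtain ⟨x, hx⟩ := exists_prime_orderOf_dvd_card' (G := G) 3 (by rw [h]; norm_num)
    obtain ⟨g, hg⟩ := exists_order_two_mul hk (by decide) hx
    exact h6 g hg
  let e : Sylow 3 G ≃ Fin 4 := Finite.equivFinOfCardEq hn
  let f : G →* Equiv.Perm (Fin 4) := e.permCongrHom.toMonoidHom.comp φ
  have hf : Function.Injective f := e.permCongrHom.injective.comp ((MonoidHom.ker_eq_bot_iff _).1 hker)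
  exact ⟨MulEquiv.ofBijective f ((Nat.bijective_iff_injective_and_card f).2 ⟨hf, by
    rw [h, Nat.card_perm, Nat.card_fin]; rfl⟩)⟩

/-- A group of order 60 without elements of order 6 and 15 is simple. -/
theorem simple_of_sixty (h : Nat.card G = 60) (h6 : ∀ g : G, orderOf g ≠ 6)
    (h15 : ∀ g : G, orderOf g ≠ 15) : IsSimpleGroup G := by
  classical
  haveI : Nontrivial G := Finite.one_lt_card_iff_nontrivial.1 (by omega)
  haveI : Fact (Nat.Prime 3) := ⟨Nat.prime_three⟩
  haveI : Fact (Nat.Prime 5) := ⟨by norm_num⟩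
  haveI : Fact (Nat.Prime 2) := ⟨Nat.prime_two⟩
  have fifteen : ∀ (y x : G), orderOf y = 5 → orderOf x = 3 →
      y * x * y⁻¹ ∈ Subgroup.zpowers x → False := by
    intro y x hy hx hc
    obtain ⟨k, hk, hk'⟩ := exists_pow_lt hc
    rw [hx] at hk
    have hx3 : x ^ 3 = 1 := by rw [← hx]; exact pow_orderOf_eq_one x
    have hpow : ∀ n : ℕ, y ^ n * x * (y ^ n)⁻¹ = x ^ (k ^ n) := by
      intro n
      induction n with
      | zero => simp
      | succ n ih =>
        rw [pow_succ' y, show y * y ^ n * x * (y * y ^ n)⁻¹ = y * (y ^ n * x * (y ^ n)⁻¹) * y⁻¹ by group,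
          ih, ← conj_pow, ← hk', ← pow_mul, pow_succ']
    have h5 := hpow 5
    rw [← hy, pow_orderOf_eq_one, hy, one_mul, inv_one, mul_one] at h5
    have hk1 : k = 1 := by
      have h2 := h5.symm
      rw [← pow_mod_orderOf x, hx] at h2
      have hx1 : x ≠ 1 := fun e => by rw [e, orderOf_one] at hx; omega
      interval_cases k
      · norm_num at h2; exact absurd h2.symm hx1
      · rfl
      · norm_num at h2
        exfalso
        apply hx1
        have : x * x = x * 1 := by rw [mul_one, ← pow_two, h2]
        exact mul_left_cancel this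
    rw [hk1, pow_one] at hk'
    have hcomm : Commute y x := mul_inv_eq_iff_eq_mul.1 hk'.symm
    exact h15 (y * x) (by
      rw [hcomm.orderOf_mul_eq_mul_orderOf_of_coprime (by rw [hy, hx]; norm_num), hy, hx])
  obtain ⟨y0, hy0⟩ := exists_prime_orderOf_dvd_card' (G := G) 5 (by rw [h]; norm_num)
  obtain ⟨x0, hx0⟩ := exists_prime_orderOf_dvd_card' (G := G) 3 (by rw [h]; norm_num)
  have hfac : ∀ (p : ℕ) (Q : Sylow p G), (p = 3 ∨ p = 5) → Nat.card Q = p := by
    intro p Q hp
    have hp' : p.Prime := by rcases hp with rfl | rfl <;> norm_num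
    haveI : Fact p.Prime := ⟨hp'⟩
    rw [Q.card_eq_multiplicity, h, show (60 : ℕ) = 2 ^ 2 * 3 * 5 by norm_num,
      Nat.factorization_mul (by norm_num) (by norm_num), Nat.factorization_mul (by norm_num) (by norm_num),
      Nat.factorization_pow]
    rcases hp with rfl | rfl <;>
      simp [Nat.Prime.factorization Nat.prime_three, Nat.Prime.factorization Nat.prime_two,
        Nat.Prime.factorization (show Nat.Prime 5 by norm_num)]
  obtain ⟨P⟩ : Nonempty (Sylow 5 G) := inferInstance
  have hP := hfac 5 P (Or.inr rfl)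
  have hidx : (P : Subgroup G).index = 12 := by
    have := (P : Subgroup G).card_mul_index
    rw [h, hP] at this; omega
  have hn : Nat.card (Sylow 5 G) = 6 := by
    have h1 := P.card_dvd_index
    rw [hidx] at h1
    have h2 := card_sylow_modEq_one 5 G
    have h3 : Nat.card (Sylow 5 G) ≤ 12 := Nat.le_of_dvd (by norm_num) h1
    unfold Nat.ModEq at h2
    interval_cases hc : Nat.card (Sylow 5 G) <;> first | omega | skip
    exfalso
    haveI : Subsingleton (Sylow 5 G) := (Nat.card_eq_one_iff_unique.1 hc).1
    haveI : (P : Subgroup G).Normal := Sylow.normal_of_subsingleton P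
    haveI : IsCyclic (P : Subgroup G) := isCyclic_of_prime_card hP
    let φ : G →* MulAut (P : Subgroup G) := MulAut.conjNormal
    have hd : φ.ker.index ∣ 4 := by
      rw [Subgroup.index_ker]
      refine (Subgroup.card_subgroup_dvd_card _).trans (dvd_of_eq ?_)
      rw [IsCyclic.card_mulAut, hP, Nat.totient_prime (by norm_num)]
    have h3' : 3 ∣ Nat.card φ.ker := by
      have := φ.ker.index_mul_card
      rw [h] at this
      have hle := Nat.le_of_dvd (by norm_num) hd
      interval_cases hi : φ.ker.index <;> omega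
    obtain ⟨⟨z, hz⟩, hz3⟩ := exists_prime_orderOf_dvd_card' 3 h3'
    rw [Subgroup.orderOf_mk] at hz3
    obtain ⟨⟨y, hyP⟩, hy5⟩ := exists_prime_orderOf_dvd_card' (G := (P : Subgroup G)) 5 (by rw [hP])
    rw [Subgroup.orderOf_mk] at hy5
    have hcomm : Commute z y := by
      have h1 := congrArg (fun e : MulAut (P : Subgroup G) => ((e ⟨y, hyP⟩ : (P : Subgroup G)) : G))
        (MonoidHom.mem_ker.1 hz)
      simp only [φ, MulAut.conjNormal_apply, MulAut.one_apply] at h1
      exact mul_inv_eq_iff_eq_mul.1 h1
    exact h15 (z * y) (by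
      rw [hcomm.orderOf_mul_eq_mul_orderOf_of_coprime (by rw [hz3, hy5]; norm_num), hz3, hy5])
  refine ⟨fun N hN => ?_⟩
  haveI := hN
  have hdN : Nat.card N ∣ 60 := h ▸ N.card_subgroup_dvd_card
  have hfive : ∀ (y : G) (Q : Sylow 5 G), orderOf y = 5 → y ∈ (Q : Subgroup G) →
      (Q : Subgroup G) = Subgroup.zpowers y := fun y Q hy hyQ =>
    (Subgroup.eq_of_le_of_card_ge (Subgroup.zpowers_le.2 hyQ)
      (by rw [Nat.card_zpowers, hy, hfac 5 Q (Or.inr rfl)])).symm
  by_cases h5 : 5 ∣ Nat.card N
  · -- all six Sylow subgroups of order five lie in `N`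
    right
    have hdi : N.index * Nat.card N = 60 := h ▸ N.index_mul_card
    have hall : ∀ Q : Sylow 5 G, (Q : Subgroup G) ≤ N := by
      intro Q
      obtain ⟨⟨z, hzQ⟩, hz5⟩ := exists_prime_orderOf_dvd_card' (G := (Q : Subgroup G)) 5 (by rw [hfac 5 Q (Or.inr rfl)])
      rw [Subgroup.orderOf_mk] at hz5
      rw [hfive z Q hz5 hzQ, Subgroup.zpowers_le, ← QuotientGroup.eq_one_iff, ← orderOf_eq_one_iff]
      refine Nat.eq_one_of_dvd_coprimes (a := 5) (b := N.index) ?_ ?_ ?_
      · rw [Nat.Prime.coprime_iff_not_dvd (by norm_num)]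
        intro hd
        have h25 : 5 * 5 ∣ 60 := hdi ▸ Nat.mul_dvd_mul hd h5
        norm_num at h25
      · exact hz5 ▸ orderOf_map_dvd (QuotientGroup.mk' N) z
      · rw [Subgroup.index_eq_card]; exact orderOf_dvd_natCard _
    have h6' : 6 ≤ Nat.card (Sylow 5 N) :=
      hn ▸ Nat.card_le_card_of_injective (fun Q => Q.subtype (hall Q)) (fun Q R e => Sylow.subtype_injective e)
    obtain ⟨R5⟩ : Nonempty (Sylow 5 N) := inferInstance
    have hdvd5 : Nat.card (Sylow 5 N) ∣ Nat.card N :=
      R5.card_dvd_index.trans (R5 : Subgroup N).index_dvd_card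
    have hmod5 := card_sylow_modEq_one 5 N
    unfold Nat.ModEq at hmod5
    by_contra hne
    have h60 : Nat.card N ≠ 60 := fun e => hne (Subgroup.eq_top_of_card_eq _ (e.trans h.symm))
    have hN30 : Nat.card N = 30 := by
      have hn5' : Nat.card (Sylow 5 N) ≤ Nat.card N := Nat.le_of_dvd Nat.card_pos hdvd5
      have hmem : Nat.card N ∈ Nat.divisors 60 := Nat.mem_divisors.2 ⟨hdN, by norm_num⟩
      rw [show Nat.divisors 60 = {1, 2, 3, 4, 5, 6, 10, 12, 15, 20, 30, 60} by decide] at hmem
      simp only [Finset.mem_insert, Finset.mem_singleton] at hmem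
      rcases hmem with e | e | e | e | e | e | e | e | e | e | e | e <;> rw [e] at h5 hn5' hdvd5 <;>
        first
          | exact e
          | omega
          | (interval_cases hc : Nat.card (Sylow 5 N) <;> omega)
    -- the transfer gives a subgroup of index two in `N`, which has a unique Sylow five subgroup
    obtain ⟨T⟩ : Nonempty (Sylow 2 N) := inferInstance
    have hT : Nat.card T = 2 := by
      rw [T.card_eq_multiplicity, hN30, show (30 : ℕ) = 2 * 15 by norm_num,
        Nat.factorization_mul (by norm_num) (by norm_num)]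
      simp [Nat.Prime.factorization Nat.prime_two, Nat.factorization_eq_zero_of_not_dvd]
    have hTc : IsCyclic T := isCyclic_of_prime_card hT
    have hmin : (Nat.card N).minFac = 2 := by rw [hN30]; norm_num
    set M := (MonoidHom.transferSylow T (hTc.normalizer_le_centralizer hmin)).ker with hM
    have hcompl : M.IsComplement' T := hTc.isComplement' hmin
    have hMcard : Nat.card M = 15 := by
      have := hcompl.card_mul
      rw [hT, hN30] at this
      omega
    haveI : M.Normal := inferInstanceAs (MonoidHom.ker _).Normal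
    have hMi : M.index = 2 := by
      have := M.index_mul_card
      rw [hMcard, hN30] at this; omega
    have hallM : ∀ Q : Sylow 5 N, (Q : Subgroup N) ≤ M := by
      intro Q z hz
      rw [← QuotientGroup.eq_one_iff, ← orderOf_eq_one_iff]
      refine Nat.eq_one_of_dvd_coprimes (a := 5) (b := M.index) (by rw [hMi]; norm_num) ?_ ?_
      · have hQ5 : Nat.card Q = 5 := by
          rw [Q.card_eq_multiplicity, hN30, show (30 : ℕ) = 5 * 6 by norm_num,
            Nat.factorization_mul (by norm_num) (by norm_num)]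
          simp [Nat.Prime.factorization (show Nat.Prime 5 by norm_num), Nat.factorization_eq_zero_of_not_dvd]
        exact (orderOf_map_dvd (QuotientGroup.mk' M) z).trans (hQ5 ▸ Subgroup.orderOf_dvd_natCard _ hz)
      · rw [Subgroup.index_eq_card]; exact orderOf_dvd_natCard _
    have h6M : 6 ≤ Nat.card (Sylow 5 M) :=
      h6'.trans (Nat.card_le_card_of_injective (fun Q => Q.subtype (hallM Q)) (fun Q R e => Sylow.subtype_injective e))
    obtain ⟨RM⟩ : Nonempty (Sylow 5 M) := inferInstance
    have hRM : Nat.card RM = 5 := by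
      rw [RM.card_eq_multiplicity, hMcard, show (15 : ℕ) = 5 * 3 by norm_num,
        Nat.factorization_mul (by norm_num) (by norm_num)]
      simp [Nat.Prime.factorization (show Nat.Prime 5 by norm_num), Nat.factorization_eq_zero_of_not_dvd]
    have hRMi := (RM : Subgroup M).card_mul_index
    rw [hRM, hMcard] at hRMi
    have := Nat.le_of_dvd (by omega) RM.card_dvd_index
    omega
  · left
    by_contra hne
    have hN1 : Nat.card N ≠ 1 := fun e => hne (Subgroup.eq_bot_of_card_eq _ e)
    have hd12 : Nat.card N ∣ 12 :=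
      ((Nat.Prime.coprime_iff_not_dvd (by norm_num)).2 h5).symm.dvd_of_dvd_mul_left
        (hdN.trans (dvd_of_eq (by norm_num : 60 = 5 * 12)))
    -- an element of order five acts trivially on small sets
    have htriv : ∀ {α : Type _} [Finite α] (φ : G →* Equiv.Perm α), Nat.card α ≤ 4 → φ y0 = 1 := by
      intro α _ φ hα
      rw [← orderOf_eq_one_iff]
      refine Nat.eq_one_of_dvd_coprimes (a := 5) (b := (Nat.card α).factorial) ?_ (hy0 ▸ orderOf_map_dvd φ y0) ?_
      · have hle : (Nat.card α).factorial ∣ 24 := by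
          interval_cases (Nat.card α) <;> decide
        exact Nat.Coprime.coprime_dvd_right hle (by norm_num)
      · rw [← Nat.card_perm]; exact orderOf_dvd_natCard _
    by_cases h3 : 3 ∣ Nat.card N
    · -- an element of order five normalises a Sylow three subgroup of `N`
      obtain ⟨R⟩ : Nonempty (Sylow 3 N) := inferInstance
      have hR3 : Nat.card R = 3 := by
        have hd : Nat.card R ∣ 12 := (R : Subgroup N).card_subgroup_dvd_card.trans hd12
        obtain ⟨k, hk⟩ := R.isPGroup'.exists_card_eq
        have h3R : 3 ∣ Nat.card R := R.dvd_card_of_dvd_card h3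
        rw [hk] at hd h3R ⊢
        rcases k with _ | _ | k
        · norm_num at h3R
        · norm_num
        · exfalso
          have : 9 ∣ 12 := dvd_trans ⟨3 ^ k, by ring⟩ hd
          norm_num at this
      have hle4 : Nat.card (Sylow 3 N) ≤ 4 := by
        have h1 := R.card_dvd_index
        have h2 := (R : Subgroup N).card_mul_index
        rw [hR3] at h2
        have h4 := Nat.le_of_dvd (by norm_num) hd12
        have h5' := Nat.le_of_dvd (Nat.pos_of_ne_zero (R : Subgroup N).index_ne_zero_of_finite) h1
        omega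
      letI act : MulAction G (Sylow 3 N) := MulAction.compHom (Sylow 3 N) (MulAut.conjNormal : G →* MulAut N)
      have hfix := Equiv.ext_iff.1 (htriv (MulAction.toPermHom G (Sylow 3 N)) hle4) R
      have hfix' : (MulAut.conjNormal y0 : MulAut N) • R = R := hfix
      obtain ⟨⟨x, hxR⟩, hx3⟩ := exists_prime_orderOf_dvd_card' (G := (R : Subgroup N)) 3 (by rw [hR3])
      rw [Subgroup.orderOf_mk] at hx3
      have hRz : (R : Subgroup N) = Subgroup.zpowers x :=
        (Subgroup.eq_of_le_of_card_ge (Subgroup.zpowers_le.2 hxR) (by rw [Nat.card_zpowers, hx3, hR3])).symm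
      have hmem : (MulAut.conjNormal y0 : MulAut N) x ∈ Subgroup.zpowers x := by
        rw [← hRz, ← hfix']
        exact ⟨x, hxR, rfl⟩
      refine fifteen y0 (x : G) hy0 (by rw [Subgroup.orderOf_coe, hx3]) ?_
      have h2 := Subgroup.mem_map_of_mem N.subtype hmem
      rw [MonoidHom.map_zpowers] at h2
      simpa [MulAut.conjNormal_apply] using h2
    · have h4 : Nat.card N = 2 ∨ Nat.card N = 4 := by
        have hle := Nat.le_of_dvd (by norm_num) hd12
        interval_cases hc : Nat.card N <;> omega
      rcases h4 with h4 | h4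
      · obtain ⟨g, hg⟩ := exists_order_two_mul h4 (by decide) hx0
        exact h6 g hg
      · have hc := htriv ((MulAut.toPerm N).comp MulAut.conjNormal) h4.le
        obtain ⟨Q, hQ⟩ := (IsPGroup.of_card (p := 5) (n := 1) (G := Subgroup.zpowers y0)
          (by rw [Nat.card_zpowers, hy0, pow_one])).exists_le_sylow
        have hQe := hfive y0 Q hy0 (hQ (Subgroup.mem_zpowers y0))
        have hle : N ≤ Subgroup.normalizer ((Q : Subgroup G) : Set G) := by
          intro z hz
          refine Subgroup.centralizer_le_normalizer _ ?_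
          rw [hQe, Subgroup.zpowers_eq_closure, Subgroup.centralizer_closure, Subgroup.mem_centralizer_singleton_iff]
          have e := congrArg Subtype.val (Equiv.ext_iff.1 hc ⟨z, hz⟩)
          simp [MulAut.conjNormal_apply] at e
          exact (mul_inv_eq_iff_eq_mul.1 e).symm
        have hd4 := Subgroup.card_dvd_of_le hle
        have h1 := (Subgroup.normalizer ((Q : Subgroup G) : Set G)).card_mul_index
        have h2 : (Subgroup.normalizer ((Q : Subgroup G) : Set G)).index = 6 := by
          rw [← hn]; exact (Sylow.card_eq_index_normalizer Q).symm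
        rw [h2, h] at h1
        rw [h4, show Nat.card (Subgroup.normalizer ((Q : Subgroup G) : Set G)) = 10 by omega] at hd4
        norm_num at hd4

end Cfsg.Agent.Classical.Dickson
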