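import Cfsg.Agent.Lib.Inv.Dihedral

/-!
Recognition of a dihedral group from a cyclic group of rotations and an inverting involution.
-/

set_option autoImplicit false
set_option linter.style.haveILetI false

namespace Cfsg.Agent.Classical

/-- A group covered by the image of a cyclic group and one coset of it, given by an inverting involution
outside, is dihedral. -/
theorem nonempty_dihedral {G C : Type*} [Group G] [Finite G] [Group C] [Finite C] [IsCyclic C]
    (R : C →* G) (hR : Function.Injective R) (s : G) (hs : s * s = 1) (hsR : ∀ c, R c ≠ s)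
    (hinv : ∀ c, s * R c * s = R c⁻¹) (hall : ∀ g, ∃ c, g = R c ∨ g = R c * s) :
    Nonempty (G ≃* DihedralGroup (Nat.card C)) := by
  obtain ⟨c₀, hc₀⟩ := IsCyclic.exists_generator (α := C)
  have hs1 : s ≠ 1 := fun e => hsR 1 (by rw [map_one, e])
  have h1 : s * R c₀ ≠ 1 := fun e => hsR c₀ (by
    have h2 := congrArg (s * ·) e
    simpa [← mul_assoc, hs] using h2)
  have h2 : s * R c₀ * (s * R c₀) = 1 := by
    rw [← mul_assoc, hinv, ← map_mul, inv_mul_cancel, map_one]
  obtain ⟨e⟩ := Inv.dihedral_equiv (Inv.orderOf_eq_two_of_mul_self hs hs1) (Inv.orderOf_eq_two_of_mul_self h2 h1)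
  have hsc : s * (s * R c₀) = R c₀ := by rw [← mul_assoc, hs, one_mul]
  rw [hsc, orderOf_injective R hR, orderOf_eq_card_of_forall_mem_zpowers hc₀] at e
  refine ⟨(Subgroup.topEquiv.symm.trans (MulEquiv.subgroupCongr ?_)).trans e⟩
  symm
  refine eq_top_iff.2 fun g _ => ?_
  have hsm : s ∈ Subgroup.closure ({s, s * R c₀} : Set G) := Subgroup.subset_closure (Or.inl rfl)
  have hcm : ∀ c, R c ∈ Subgroup.closure ({s, s * R c₀} : Set G) := by
    intro c
    obtain ⟨k, rfl⟩ := Subgroup.mem_zpowers_iff.1 (hc₀ c)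
    rw [map_zpow]
    refine Subgroup.zpow_mem _ ?_ k
    have h := Subgroup.mul_mem _ hsm (Subgroup.subset_closure (Or.inr rfl) : s * R c₀ ∈ Subgroup.closure ({s, s * R c₀} : Set G))
    rwa [hsc] at h
  obtain ⟨c, rfl | rfl⟩ := hall g
  · exact hcm c
  · exact Subgroup.mul_mem _ (hcm c) hsm

end Cfsg.Agent.Classical
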