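import Cfsg.Agent.Lib.Classical.SL2Klein
import Cfsg.Agent.S1012

/-!
Normalisers of Klein four subgroups, and tetrahedral and octahedral subgroups of `PSL₂`.
-/

set_option autoImplicit false
set_option linter.style.haveILetI false
set_option linter.unusedSectionVars false

open scoped MatrixGroups
open Matrix

namespace Cfsg.Agent.Classical.SL2Two

open SL2

/-- A group of order twelve without elements of order six is alternating of degree four. -/
theorem nonempty_alt_four {G : Type*} [Group G] [Finite G] (h : Nat.card G = 12)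
    (h6 : ∀ g : G, orderOf g ≠ 6) : Nonempty (G ≃* alternatingGroup (Fin 4)) := by
  classical
  haveI : Fact (Nat.Prime 3) := ⟨Nat.prime_three⟩
  haveI : Fact (Nat.Prime 2) := ⟨Nat.prime_two⟩
  obtain ⟨c, hc⟩ := exists_prime_orderOf_dvd_card' (G := G) 3 (by rw [h]; norm_num)
  set C := Subgroup.zpowers c with hC
  have hcard : Nat.card C = 3 := by rw [hC, Nat.card_zpowers, hc]
  have hidx : C.index = 4 := by
    have := C.card_mul_index
    rw [hcard, h] at this
    omega
  have hker : C.normalCore = ⊥ := by
    rcases (Nat.dvd_prime Nat.prime_three).1 (hcard ▸ Subgroup.card_dvd_of_le C.normalCore_le) with e | e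
    · exact Subgroup.eq_bot_of_card_eq _ e
    · exfalso
      have hN : C.normalCore = C :=
        Subgroup.eq_of_le_of_card_ge C.normalCore_le (by rw [e, hcard])
      haveI : C.Normal := hN ▸ C.normalCore_normal
      haveI : IsCyclic C := isCyclic_of_prime_card hcard
      let φ : G →* MulAut C := MulAut.conjNormal
      have hd : φ.ker.index ∣ 2 := by
        rw [Subgroup.index_ker]
        refine (Subgroup.card_subgroup_dvd_card _).trans (dvd_of_eq ?_)
        rw [IsCyclic.card_mulAut, hcard, Nat.totient_prime Nat.prime_three]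
      have h2 : 2 ∣ Nat.card φ.ker := by
        have := φ.ker.index_mul_card
        rw [h] at this
        rcases (Nat.dvd_prime Nat.prime_two).1 hd with e | e <;> rw [e] at this
        · exact ⟨6, by omega⟩
        · exact ⟨3, by omega⟩
      obtain ⟨⟨z, hz⟩, hz2⟩ := exists_prime_orderOf_dvd_card' 2 h2
      rw [Subgroup.orderOf_mk] at hz2
      have hcomm : Commute c z := by
        have h1 := congrArg (fun e : MulAut C => ((e ⟨c, Subgroup.mem_zpowers c⟩ : C) : G))
          (MonoidHom.mem_ker.1 hz)
        simp only [φ, MulAut.conjNormal_apply, MulAut.one_apply] at h1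
        exact (mul_inv_eq_iff_eq_mul.1 h1).symm
      apply h6 (c * z)
      rw [hcomm.orderOf_mul_eq_mul_orderOf_of_coprime (by rw [hc, hz2]; norm_num), hc, hz2]
  haveI : Fintype (G ⧸ C) := Fintype.ofFinite _
  let e : G ⧸ C ≃ Fin 4 := Fintype.equivFinOfCardEq (by
    rw [← Nat.card_eq_fintype_card, ← Subgroup.index_eq_card, hidx])
  let f : G →* Equiv.Perm (Fin 4) := e.permCongrHom.toMonoidHom.comp (MulAction.toPermHom G (G ⧸ C))
  have hf : Function.Injective f := e.permCongrHom.injective.comp
    ((MonoidHom.ker_eq_bot_iff _).1 (by rw [← Subgroup.normalCore_eq_ker, hker]))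
  have hr : f.range = alternatingGroup (Fin 4) := by
    apply Equiv.Perm.eq_alternatingGroup_of_index_eq_two
    have h1 := f.range.card_mul_index
    rw [Nat.card_congr (MonoidHom.ofInjective hf).toEquiv.symm, h, Nat.card_perm, Nat.card_fin] at h1
    norm_num [Nat.factorial] at h1
    omega
  exact ⟨(MonoidHom.ofInjective hf).trans (MulEquiv.subgroupCongr hr)⟩

theorem klein_sq {G : Type*} [Group G] {V : Subgroup G} [IsKleinFour V] (v : V) : v ^ 2 = 1 := by
  have := Monoid.pow_exponent_eq_one v
  rwa [IsKleinFour.exponent_two] at this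

variable {F : Type*} [Field F] [Fintype F]

local notation "M2" => Matrix (Fin 2) (Fin 2) F
local notation "S2" => SpecialLinearGroup (Fin 2) F
local notation "P2" => Matrix.ProjectiveSpecialLinearGroup (Fin 2) F

/-- Two generators of a Klein four subgroup lifted to `SL₂`. -/
theorem exists_lift (h2 : (2 : F) ≠ 0) (V : Subgroup P2) (hV : IsKleinFour V) :
    ∃ g h : S2, (g : M2).trace = 0 ∧ (h : M2).trace = 0 ∧ h * g = g * negOne * h ∧
      ∀ v : P2, v ∈ V ↔ v = 1 ∨ v = proj g ∨ v = proj h ∨ v = proj (g * h) := by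
  haveI := hV
  haveI : Fintype V := Fintype.ofFinite V
  classical
  obtain ⟨a, b, ha, hb, hab⟩ : ∃ a b : V, a ≠ 1 ∧ b ≠ 1 ∧ a ≠ b := by
    have h4 : Fintype.card V = 4 := by rw [← Nat.card_eq_fintype_card]; exact hV.card_four
    have he : 1 < ((Finset.univ : Finset V).erase 1).card := by
      rw [Finset.card_erase_of_mem (Finset.mem_univ _), Finset.card_univ, h4]; norm_num
    obtain ⟨a, ha, b, hb, hab⟩ := Finset.one_lt_card.1 he
    exact ⟨a, b, Finset.ne_of_mem_erase ha, Finset.ne_of_mem_erase hb, hab⟩
  have hord : ∀ v : V, v ≠ 1 → orderOf (v : P2) = 2 := fun v hv => by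
    rw [Subgroup.orderOf_coe]
    exact orderOf_eq_prime (by exact klein_sq v) hv
  obtain ⟨g, hg⟩ := proj_surjective (a : P2)
  obtain ⟨h, hh⟩ := proj_surjective (b : P2)
  have hgt := (orderOf_proj_two_iff h2 g).1 (hg ▸ hord a ha)
  have hht := (orderOf_proj_two_iff h2 h).1 (hh ▸ hord b hb)
  have hs : ∀ c : V, c * c = 1 := fun c => by
    rw [← sq]; exact klein_sq c
  have hcomm : b * a = a * b := by
    have hi : ∀ c : V, c⁻¹ = c := fun c => inv_eq_of_mul_eq_one_right (hs c)
    calc b * a = (b * a)⁻¹ := (hi _).symm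
      _ = a⁻¹ * b⁻¹ := _root_.mul_inv_rev b a
      _ = a * b := by rw [hi, hi]
  have hp : proj (h * g) = proj (g * h) := by
    rw [map_mul, map_mul, hg, hh]
    exact congrArg Subtype.val hcomm
  have hne : proj h ≠ proj g := by
    rw [hg, hh]; exact fun e => hab (Subtype.ext e).symm
  refine ⟨g, h, hgt, hht, ?_, fun v => ?_⟩
  · rcases (proj_eq_iff _ _).1 hp with e | e
    · exfalso
      rcases eq_of_commuting h2 hgt hht e with e' | e'
      · exact hne (by rw [e'])
      · exact hne (by rw [e', map_mul, (proj_eq_one_iff negOne).2 (Or.inr rfl), mul_one])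
    · rw [e, mul_assoc, mul_assoc, negOne_comm h2]
  · constructor
    · intro hv
      have hm : (⟨v, hv⟩ : V) ∈ ({a * b, a, b, 1} : Finset V) := by
        rw [IsKleinFour.eq_finset_univ ha hb hab]; exact Finset.mem_univ _
      simp only [Finset.mem_insert, Finset.mem_singleton] at hm
      rcases hm with e | e | e | e
      · exact Or.inr (Or.inr (Or.inr (by rw [map_mul, hg, hh]; exact congrArg Subtype.val e)))
      · exact Or.inr (Or.inl (by rw [hg]; exact congrArg Subtype.val e))
      · exact Or.inr (Or.inr (Or.inl (by rw [hh]; exact congrArg Subtype.val e)))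
      · exact Or.inl (congrArg Subtype.val e)
    · rintro (rfl | rfl | rfl | rfl)
      · exact one_mem _
      · rw [hg]; exact a.2
      · rw [hh]; exact b.2
      · rw [map_mul, hg, hh]; exact mul_mem a.2 b.2

/-- An element of order three normalising a Klein four subgroup. -/
theorem exists_three (h2 : (2 : F) ≠ 0) (V : Subgroup P2) (hV : IsKleinFour V) :
    ∃ c : P2, orderOf c = 3 ∧ c ∈ Subgroup.normalizer (V : Set P2) := by
  obtain ⟨g, h, hg, hh, hhg, hV'⟩ := exists_lift h2 V hV
  set A := (g : M2) with hA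
  set B := (h : M2) with hB
  have hAA : A * A = -1 := by rw [hA, ← coe_mul', sq_of_trace_zero g hg, coe_negOne]
  have hBB : B * B = -1 := by rw [hB, ← coe_mul', sq_of_trace_zero h hh, coe_negOne]
  have hBA : B * A = -(A * B) := by
    have := congrArg (fun x : S2 => (x : M2)) hhg
    simp only [coe_mul', coe_negOne] at this
    rw [← hA, ← hB] at this
    rw [this]
    noncomm_ring
  have hABt : (A * B).trace = 0 := by
    have h1 := congrArg Matrix.trace hBA
    rw [Matrix.trace_mul_comm, Matrix.trace_neg] at h1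
    exact (mul_eq_zero.1 (show (2 : F) * (A * B).trace = 0 by linear_combination h1)).resolve_left h2
  set W : M2 := 1 + A + B + A * B with hW
  have hWA : W * A = B * W := by
    have h1 : A * B * A = B := by rw [mul_assoc, hBA, mul_neg, ← mul_assoc, hAA, neg_mul, one_mul, neg_neg]
    have h3 : B * (A * B) = A := by rw [← mul_assoc, hBA, neg_mul, mul_assoc, hBB, mul_neg, mul_one, neg_neg]
    simp only [hW, add_mul, mul_add, one_mul, mul_one, hAA, hBB, hBA, h1, h3]
    abel
  have hWB : W * B = A * B * W := by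
    have h1 : A * B * B = -A := by rw [mul_assoc, hBB, mul_neg, mul_one]
    have h3 : A * B * A = B := by rw [mul_assoc, hBA, mul_neg, ← mul_assoc, hAA, neg_mul, one_mul, neg_neg]
    have h4 : A * B * (A * B) = -1 := by rw [← mul_assoc, h3, hBB]
    simp only [hW, add_mul, mul_add, one_mul, mul_one, hBB, h1, h3, h4]
    abel
  have hWt : W.trace = 2 := by
    rw [hW, Matrix.trace_add, Matrix.trace_add, Matrix.trace_add, hA, hB, hg, hh, ← hA, ← hB, hABt,
      Matrix.trace_one, Fintype.card_fin]
    simp
  have hsq : W * W = (2 : F) • W - (4 : F) • (1 : M2) := by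
    rw [two_smul, show (4 : F) • (1 : M2) = 1 + 1 + 1 + 1 by rw [show (4 : F) = 1 + 1 + 1 + 1 by norm_num]; simp [add_smul]]
    have h1 : A * B * A = B := by rw [mul_assoc, hBA, mul_neg, ← mul_assoc, hAA, neg_mul, one_mul, neg_neg]
    have h2' : A * B * B = -A := by rw [mul_assoc, hBB, mul_neg, mul_one]
    have h3 : B * (A * B) = A := by rw [← mul_assoc, hBA, neg_mul, mul_assoc, hBB, mul_neg, mul_one, neg_neg]
    have h4 : A * (A * B) = -B := by rw [← mul_assoc, hAA, neg_mul, one_mul]
    have h5 : A * B * (A * B) = -1 := by rw [← mul_assoc, h1, hBB]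
    simp only [hW, add_mul, mul_add, one_mul, mul_one, hAA, hBB, hBA, h1, h2', h3, h4, h5]
    abel
  have hWd : W.det = 4 := by
    have h1 := sq_eq W
    rw [hsq, hWt] at h1
    have h3 : W.det • (1 : M2) = (4 : F) • (1 : M2) := by linear_combination (norm := module) h1
    have := congrFun (congrFun h3 0) 0
    simpa using this
  let c : S2 := ⟨(2 : F)⁻¹ • W, by
    rw [Matrix.det_smul, hWd, Fintype.card_fin]
    field_simp
    norm_num⟩
  have hca : c * g * c⁻¹ = h := by
    apply mul_inv_eq_iff_eq_mul.2
    apply sl_ext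
    show ((2 : F)⁻¹ • W) * A = B * ((2 : F)⁻¹ • W)
    rw [Matrix.smul_mul, hWA, Matrix.mul_smul]
  have hcb : c * h * c⁻¹ = g * h := by
    apply mul_inv_eq_iff_eq_mul.2
    apply sl_ext
    show ((2 : F)⁻¹ • W) * B = A * B * ((2 : F)⁻¹ • W)
    rw [Matrix.smul_mul, hWB, Matrix.mul_smul]
  have hc3 : c * c * c = negOne := by
    apply sl_ext
    show ((2 : F)⁻¹ • W) * ((2 : F)⁻¹ • W) * ((2 : F)⁻¹ • W) = -1
    have h3 : W * W * W = (-8 : F) • (1 : M2) := by
      rw [hsq, Matrix.sub_mul, Matrix.smul_mul, Matrix.smul_mul, one_mul, hsq]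
      module
    simp only [Matrix.smul_mul, Matrix.mul_smul, smul_smul, h3]
    match_scalars
    field_simp
    norm_num
  refine ⟨proj c, ?_, ?_⟩
  · refine orderOf_eq_prime (p := 3) ?_ ?_
    · rw [← map_pow, pow_succ, sq, hc3]
      exact (proj_eq_one_iff negOne).2 (Or.inr rfl)
    · intro e
      have hgh : h = g := by
        rcases (proj_eq_one_iff c).1 e with e' | e'
        · rw [← hca, e', one_mul, inv_one, mul_one]
        · rw [← hca, e', negOne_comm h2, mul_inv_cancel_right]
      rw [hgh] at hhg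
      have := mul_right_cancel hhg
      exact negOne_ne_one h2 (mul_left_cancel (this.symm.trans (mul_one g).symm))
  · refine Subgroup.mem_normalizer_fintype ?_
    intro v hv
    rcases (hV' v).1 hv with rfl | rfl | rfl | rfl <;> refine (hV' _).2 ?_
    · left; rw [mul_one, mul_inv_cancel]
    · right; right; left; rw [← map_inv, ← map_mul, ← map_mul, hca]
    · right; right; right; rw [← map_inv, ← map_mul, ← map_mul, hcb]
    · right; left
      rw [← map_inv, ← map_mul, ← map_mul,
        show c * (g * h) * c⁻¹ = (c * g * c⁻¹) * (c * h * c⁻¹) by group, hca, hcb, ← mul_assoc, hhg,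
        mul_assoc, sq_of_trace_zero h hh, mul_assoc, negOne_mul_self h2, mul_one]

theorem centralizer_klein (h2 : (2 : F) ≠ 0) (V : Subgroup P2) (hV : IsKleinFour V) (z : P2)
    (hz : ∀ v ∈ V, z * v = v * z) : z ∈ V := by
  obtain ⟨g, h, hg, hh, hhg, hV'⟩ := exists_lift h2 V hV
  obtain ⟨w, rfl⟩ := proj_surjective z
  have key : ∀ u : S2, (u : M2).trace = 0 → proj u ∈ V → w * u = u * w ∨ w * u = u * negOne * w := by
    intro u _ hu
    have e := hz _ hu
    rw [← map_mul, ← map_mul] at e
    rcases (proj_eq_iff _ _).1 e with e | e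
    · exact Or.inl e
    · refine Or.inr ?_
      rw [e, mul_assoc, ← negOne_comm h2, ← mul_assoc]
  have hcg := key g hg ((hV' _).2 (Or.inr (Or.inl rfl)))
  have hch := key h hh ((hV' _).2 (Or.inr (Or.inr (Or.inl rfl))))
  -- shift by an element of the quaternion group into the centraliser of both generators
  have hgh : g * h = h * g * negOne := by
    rw [hhg, mul_assoc (g * negOne), ← negOne_comm h2 h, mul_assoc g, ← mul_assoc negOne, negOne_mul_self h2, one_mul]
  have hn1 : negOne * negOne = (1 : S2) := negOne_mul_self h2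
  have hNg : ∀ r, negOne * (g * r) = g * (negOne * r) := fun r => by
    rw [← mul_assoc, negOne_comm h2, mul_assoc]
  have hNh : ∀ r, negOne * (h * r) = h * (negOne * r) := fun r => by
    rw [← mul_assoc, negOne_comm h2, mul_assoc]
  have hNw : ∀ r, negOne * (w * r) = w * (negOne * r) := fun r => by
    rw [← mul_assoc, negOne_comm h2, mul_assoc]
  have hNN : ∀ r : S2, negOne * (negOne * r) = r := fun r => by rw [← mul_assoc, hn1, one_mul]
  have hHG : ∀ r, h * (g * r) = g * (h * (negOne * r)) := fun r => by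
    rw [← mul_assoc, hhg]; simp only [mul_assoc, hNh]
  obtain ⟨r, hr, hrg, hrh⟩ : ∃ r : S2, proj r ∈ V ∧ Commute (r * w) g ∧ Commute (r * w) h := by
    rcases hcg with e₁ | e₁ <;> rcases hch with e₂ | e₂
    · exact ⟨1, by rw [map_one]; exact one_mem _, by rw [one_mul]; exact e₁, by rw [one_mul]; exact e₂⟩
    · refine ⟨g, (hV' _).2 (Or.inr (Or.inl rfl)), (Commute.refl g).mul_left e₁, ?_⟩
      have hWH : ∀ r, w * (h * r) = h * (negOne * (w * r)) := fun r => by
        rw [← mul_assoc, e₂]; simp only [mul_assoc]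
      suffices ∀ r, g * w * h * r = h * (g * w) * r from mul_right_cancel (this 1)
      intro r
      simp only [mul_assoc, hWH, hHG, hNg, hNh, hNw, hNN]
    · refine ⟨h, (hV' _).2 (Or.inr (Or.inr (Or.inl rfl))), ?_, (Commute.refl h).mul_left e₂⟩
      have hWG : ∀ r, w * (g * r) = g * (negOne * (w * r)) := fun r => by
        rw [← mul_assoc, e₁]; simp only [mul_assoc]
      suffices ∀ r, h * w * g * r = g * (h * w) * r from mul_right_cancel (this 1)
      intro r
      simp only [mul_assoc, hWG, hHG, hNg, hNh, hNw, hNN]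
    · refine ⟨g * h, (hV' _).2 (Or.inr (Or.inr (Or.inr rfl))), ?_, ?_⟩
      · have hWG : ∀ r, w * (g * r) = g * (negOne * (w * r)) := fun r => by
          rw [← mul_assoc, e₁]; simp only [mul_assoc]
        suffices ∀ r, g * h * w * g * r = g * (g * h * w) * r from mul_right_cancel (this 1)
        intro r
        simp only [mul_assoc, hWG, hHG, hNg, hNh, hNw, hNN]
      · have hWH : ∀ r, w * (h * r) = h * (negOne * (w * r)) := fun r => by
          rw [← mul_assoc, e₂]; simp only [mul_assoc]
        suffices ∀ r, g * h * w * h * r = h * (g * h * w) * r from mul_right_cancel (this 1)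
        intro r
        simp only [mul_assoc, hWH, hHG, hNg, hNh, hNw, hNN]
  -- the common centraliser is the centre
  have hz' : proj (r * w) = 1 := by
    rw [proj_eq_one_iff]
    have hns : ∀ u : S2, (u : M2).trace = 0 → ¬ ∃ a : F, (u : M2) = a • 1 := by
      rintro u hu ⟨a, ha⟩
      have h1 := u.2
      rw [ha] at hu h1
      rw [Matrix.trace_smul, Matrix.trace_one, Fintype.card_fin, smul_eq_mul] at hu
      rw [(mul_eq_zero.1 hu).resolve_right (by exact_mod_cast h2), zero_smul, Matrix.det_zero] at h1
      exact zero_ne_one h1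
    obtain ⟨x, y, hxy⟩ := exists_affine (hns g hg) (h := ((r * w : S2) : M2))
      (congrArg (fun t : S2 => (t : M2)) hrg.eq.symm)
    have hy : y = 0 := by
      have e := congrArg (fun t : S2 => (t : M2)) hrh.eq
      simp only [coe_mul' _ h, coe_mul' h] at e
      rw [hxy] at e
      have e2 : ((h * g : S2) : M2) = ((g * negOne * h : S2) : M2) := by rw [hhg]
      simp only [coe_mul', coe_negOne, mul_neg, mul_one, neg_mul] at e2
      simp only [add_mul, mul_add, Matrix.smul_mul, Matrix.mul_smul, one_mul, mul_one, e2, smul_neg] at e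
      have h3 : ((2 : F) * y) • ((g : M2) * (h : M2)) = 0 := by linear_combination (norm := module) e
      rcases smul_eq_zero.1 h3 with e4 | e4
      · exact (mul_eq_zero.1 e4).resolve_left h2
      · have := congrArg Matrix.det e4
        rw [Matrix.det_mul, g.2, h.2, mul_one, Matrix.det_zero] at this
        exact absurd this one_ne_zero
    rw [hy, zero_smul, add_zero] at hxy
    rw [← mem_center_iff, Matrix.SpecialLinearGroup.mem_center_iff]
    refine ⟨x, ?_, by rw [hxy]; simp [Matrix.scalar_apply, smul_one_eq_diagonal]⟩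
    have := (r * w).2
    rw [hxy, Matrix.det_smul, Matrix.det_one, mul_one] at this
    exact this
  rw [map_mul] at hz'
  rw [eq_inv_of_mul_eq_one_right hz']
  exact inv_mem hr

theorem card_normalizer_klein_dvd (h2 : (2 : F) ≠ 0) (V : Subgroup P2) (hV : IsKleinFour V) :
    Nat.card (Subgroup.normalizer (V : Set P2)) ∣ 24 ∧ 12 ∣ Nat.card (Subgroup.normalizer (V : Set P2)) ∧
      ∀ x : Subgroup.normalizer (V : Set P2), orderOf x ≠ 6 := by
  classical
  haveI : Finite P2 := Finite.of_surjective _ proj_surjective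
  haveI := hV
  set N := Subgroup.normalizer (V : Set P2) with hN
  haveI : Fintype V := Fintype.ofFinite V
  let X := {v : V // v ≠ 1}
  have hX : Nat.card X = 3 := by
    rw [Nat.card_eq_fintype_card, Fintype.card_subtype_compl, Fintype.card_subtype_eq,
      ← Nat.card_eq_fintype_card, hV.card_four]
  haveI : (V.subgroupOf N).Normal := Subgroup.normal_in_normalizer
  let ψ : N →* MulAut V := (MulAut.congr (Subgroup.subgroupOfEquivOfLe Subgroup.le_normalizer)).toMonoidHom.comp
    (MulAut.conjNormal (H := V.subgroupOf N))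
  have hψ : ∀ (x : N) (v : V), ((ψ x v : V) : P2) = (x : P2) * v * (x : P2)⁻¹ := fun x v => rfl
  let ρ : MulAut V →* Equiv.Perm X :=
    { toFun := fun e => Equiv.subtypeEquiv e.toEquiv fun v => by simp
      map_one' := rfl
      map_mul' := fun a b => rfl }
  have hρ : Function.Injective ρ := by
    intro a b e
    refine MulEquiv.ext fun v => ?_
    by_cases hv : v = 1
    · rw [hv, map_one, map_one]
    · exact congrArg (fun q : Equiv.Perm X => (q ⟨v, hv⟩).1) e
  let θ : N →* Equiv.Perm X := ρ.comp ψ
  have hker : ∀ x : N, θ x = 1 → (x : P2) ∈ V := fun x hx => by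
    refine centralizer_klein h2 V hV _ fun v hv => ?_
    have h1 : ψ x = 1 := hρ (by rw [map_one]; exact hx)
    have h3 := hψ x ⟨v, hv⟩
    rw [h1] at h3
    exact (mul_inv_eq_iff_eq_mul.1 h3.symm)
  have hkerV : Nat.card θ.ker = 4 := by
    rw [← hV.card_four]
    refine Nat.card_congr (Equiv.ofBijective (fun x => (⟨((x : N) : P2), hker _ x.2⟩ : V)) ⟨?_, ?_⟩)
    · exact fun a b e => Subtype.ext (Subtype.ext (congrArg (fun t : V => (t : P2)) e))
    · intro v
      refine ⟨⟨⟨v, Subgroup.le_normalizer v.2⟩, ?_⟩, rfl⟩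
      rw [MonoidHom.mem_ker]
      show ρ (ψ _) = 1
      rw [show ψ ⟨v, Subgroup.le_normalizer v.2⟩ = 1 from MulEquiv.ext fun u => Subtype.ext ?_, map_one]
      rw [hψ]
      have hs : ∀ c : V, c⁻¹ = c := fun c => inv_eq_of_mul_eq_one_right (by
        rw [← sq]; exact klein_sq c)
      have hc : v * u = u * v := by
        calc v * u = (v * u)⁻¹ := (hs _).symm
          _ = u⁻¹ * v⁻¹ := _root_.mul_inv_rev v u
          _ = u * v := by rw [hs, hs]
      show (v : P2) * u * (v : P2)⁻¹ = u
      rw [mul_inv_eq_iff_eq_mul]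
      exact congrArg Subtype.val hc
  haveI : Fintype X := Fintype.ofFinite X
  have hcard : Nat.card N = θ.ker.index * 4 := by rw [← hkerV, Subgroup.index_mul_card]
  have hdvd : θ.ker.index ∣ 6 := by
    rw [Subgroup.index_ker]
    refine (Subgroup.card_subgroup_dvd_card _).trans (dvd_of_eq ?_)
    rw [Nat.card_perm, hX]; rfl
  refine ⟨?_, ?_, fun x hx => ?_⟩
  · rw [hcard, show 24 = 6 * 4 by norm_num]; exact Nat.mul_dvd_mul_right hdvd 4
  · obtain ⟨c, hc, hcN⟩ := exists_three h2 V hV
    have h3 : 3 ∣ Nat.card N := by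
      rw [← hc, ← Subgroup.orderOf_mk c hcN]; exact orderOf_dvd_natCard _
    have h4 : 4 ∣ Nat.card N := ⟨θ.ker.index, by rw [hcard, mul_comm]⟩
    exact Nat.Coprime.mul_dvd_of_dvd_of_dvd (by norm_num : Nat.Coprime 4 3) h4 h3
  · have hpow : ∀ k, θ (x ^ k) = 1 → 6 / Nat.gcd 6 k ∣ 2 := by
      intro k hk
      rw [← hx, ← orderOf_pow, orderOf_dvd_iff_pow_eq_one]
      refine Subtype.ext ?_
      have hm := hker _ hk
      have h := klein_sq (⟨_, hm⟩ : V)
      exact congrArg (fun t : V => (t : P2)) h
    have ho : orderOf (θ x) ∣ 6 := hx ▸ orderOf_map_dvd θ x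
    have hle := Nat.le_of_dvd (by norm_num) ho
    have hle3 : orderOf (θ x) ≠ 6 := by
      intro e
      have h6 : Nat.card (Equiv.Perm X) = 6 := by rw [Nat.card_perm, hX]; rfl
      haveI : IsCyclic (Equiv.Perm X) := isCyclic_of_orderOf_eq_card (θ x) (by rw [e, h6])
      haveI := IsCyclic.isMulCommutative (α := Equiv.Perm X)
      have he : X ≃ Fin 3 := Finite.equivFinOfCardEq hX
      have := congrArg he.permCongrHom ((inferInstance : IsMulCommutative (Equiv.Perm X)).is_comm.comm
        (he.permCongrHom.symm (Equiv.swap 0 1)) (he.permCongrHom.symm (Equiv.swap 1 2)))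
      simp only [map_mul, MulEquiv.apply_symm_apply] at this
      exact absurd this (by decide)
    interval_cases hn : orderOf (θ x) <;> try omega
    · have := hpow 1 (by rw [pow_one]; exact orderOf_eq_one_iff.1 hn)
      norm_num at this
    · have := hpow 2 (by
        have h' := pow_orderOf_eq_one (θ x)
        rw [hn] at h'
        rw [map_pow]; exact h')
      norm_num at this
    · -- a 3-cycle fixes no involution of `V`
      have hm := hker _ (show θ (x ^ 3) = 1 by
        have h' := pow_orderOf_eq_one (θ x)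
        rw [hn] at h'
        rw [map_pow]; exact h')
      have hne : (⟨_, hm⟩ : V) ≠ 1 := by
        intro e
        have : x ^ 3 = 1 := Subtype.ext (congrArg (fun t : V => (t : P2)) e)
        have := orderOf_dvd_of_pow_eq_one this
        rw [hx] at this
        norm_num at this
      have hfix : θ x ⟨_, hne⟩ = ⟨_, hne⟩ := by
        refine Subtype.ext (Subtype.ext ?_)
        show (x : P2) * ((x ^ 3 : N) : P2) * (x : P2)⁻¹ = ((x ^ 3 : N) : P2)
        simp only [Subgroup.coe_pow]
        rw [← pow_succ', pow_succ, mul_inv_cancel_right]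
      have : θ x = 1 := by
        by_contra hne1
        have hs : (θ x).support.card ≤ 2 := by
          have : (θ x).support ⊆ Finset.univ.erase ⟨_, hne⟩ := fun y hy =>
            Finset.mem_erase.2 ⟨fun e => (Equiv.Perm.mem_support.1 hy) (by rw [e]; exact hfix), Finset.mem_univ _⟩
          refine (Finset.card_le_card this).trans ?_
          rw [Finset.card_erase_of_mem (Finset.mem_univ _), Finset.card_univ, ← Nat.card_eq_fintype_card, hX]
        have hd := Equiv.Perm.lcm_cycleType (θ x)
        have hsum := Equiv.Perm.sum_cycleType (θ x)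
        rw [hn] at hd
        have hmem : ∀ l ∈ (θ x).cycleType, l = 2 := fun l hl =>
          le_antisymm ((Multiset.le_sum_of_mem hl).trans (hsum.trans_le hs)) (Equiv.Perm.two_le_of_mem_cycleType hl)
        have : (θ x).cycleType.lcm ∣ 2 := Multiset.lcm_dvd.2 fun l hl => by rw [hmem l hl]
        rw [hd] at this
        norm_num at this
      rw [this, orderOf_one] at hn
      norm_num at hn

theorem card_normalizer_klein (h2 : (2 : F) ≠ 0) (hq : Fintype.card F % 8 = 1 ∨ Fintype.card F % 8 = 7)
    (V : Subgroup P2) (hV : IsKleinFour V) :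
    Nat.card (Subgroup.normalizer (V : Set P2)) = 24 := by
  haveI : Finite P2 := Finite.of_surjective _ proj_surjective
  haveI : Fact (Nat.Prime 2) := ⟨Nat.prime_two⟩
  obtain ⟨h24, h12, -⟩ := card_normalizer_klein_dvd h2 V hV
  have hle := Nat.le_of_dvd (by norm_num) h24
  have h8 : 2 ^ 3 ∣ Nat.card P2 := by
    have hc := card_PSL2_mul (F := F)
    rw [Nat.gcd_eq_left (Nat.dvd_of_mod_eq_zero (by omega))] at hc
    have h16 : 16 ∣ Fintype.card F ^ 2 - 1 := by
      obtain ⟨j, hj⟩ : ∃ j, Fintype.card F = 8 * j + 1 ∨ Fintype.card F = 8 * j + 7 :=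
        ⟨Fintype.card F / 8, by omega⟩
      rcases hj with hj | hj <;> rw [hj]
      · exact ⟨4 * j ^ 2 + j, by ring_nf; omega⟩
      · exact ⟨4 * j ^ 2 + 7 * j + 3, by ring_nf; omega⟩
    obtain ⟨s, hs⟩ := h16
    rw [hs] at hc
    exact ⟨Fintype.card F * s, Nat.eq_of_mul_eq_mul_left two_pos (hc.trans (by ring))⟩
  have hV2 : IsPGroup 2 V := IsPGroup.of_card (n := 2) (by rw [hV.card_four]; norm_num)
  obtain ⟨P, hP⟩ := hV2.exists_le_sylow
  have hP8 : 8 ∣ Nat.card P := P.pow_dvd_card_of_pow_dvd_card h8
  have hne : V.subgroupOf (P : Subgroup P2) ≠ ⊤ := by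
    intro e
    have := Subgroup.card_dvd_of_le (Subgroup.subgroupOf_eq_top.1 e)
    rw [hV.card_four] at this
    exact absurd (hP8.trans this) (by norm_num)
  haveI := P.2.isNilpotent
  obtain ⟨y, hyN, hyV⟩ := SetLike.exists_of_lt
    (Group.normalizerCondition_of_isNilpotent _ (lt_top_iff_ne_top.2 hne))
  have hyN' : (y : P2) ∈ Subgroup.normalizer (V : Set P2) := by
    refine Subgroup.mem_normalizer_fintype fun v hv => ?_
    exact (Subgroup.mem_normalizer_iff.1 hyN ⟨v, hP hv⟩).1 hv
  by_contra hne24
  have h12' : Nat.card (Subgroup.normalizer (V : Set P2)) = 12 := by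
    have := Nat.pos_of_ne_zero (Nat.card_pos (α := Subgroup.normalizer (V : Set P2))).ne'
    obtain ⟨t, ht⟩ := h12
    omega
  -- the two-group generated by `V` and `y` inside the normaliser
  have hlt : V < Subgroup.normalizer (V : Set P2) ⊓ (P : Subgroup P2) :=
    lt_of_le_of_ne (le_inf Subgroup.le_normalizer hP) fun e => hyV (by
      show (y : P2) ∈ V
      rw [e]; exact ⟨hyN', y.2⟩)
  obtain ⟨k, hk⟩ := (P.2.to_le (inf_le_right : Subgroup.normalizer (V : Set P2) ⊓ (P : Subgroup P2) ≤ P)).exists_card_eq
  have h1 := Subgroup.card_dvd_of_le (inf_le_left : Subgroup.normalizer (V : Set P2) ⊓ (P : Subgroup P2) ≤ _)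
  rw [hk, h12'] at h1
  have h3 : 4 < 2 ^ k := by
    rw [← hk, ← hV.card_four]
    by_contra hcon
    exact hlt.ne (Subgroup.eq_of_le_of_card_ge hlt.le (by omega))
  have hk4 : 2 ^ k ≤ 12 := Nat.le_of_dvd (by norm_num) h1
  have : k < 4 := by
    by_contra hcon
    have := Nat.pow_le_pow_right (show 1 ≤ 2 by norm_num) (show 4 ≤ k by omega)
    omega
  interval_cases k <;> first | (norm_num at h3; done) | (norm_num at h1; done)

end Cfsg.Agent.Classical.SL2Two
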