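import Cfsg.Agent.Lib.Classical.DicksonShape
import Cfsg.Agent.Lib.Classical.DicksonSmall
import Cfsg.Agent.Lib.Classical.DihedralRecog
import Cfsg.Agent.Lib.Classical.SL2Subgroups

/-!
The isomorphism types in Dickson's classification.
-/

set_option autoImplicit false
set_option linter.style.haveILetI false
set_option linter.unusedSectionVars false

open scoped MatrixGroups Pointwise
open Matrix OnePoint

noncomputable section

namespace Cfsg.Agent.Classical.Dickson

variable {K : Type*} [Field K] [DecidableEq K] [IsAlgClosed K]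

local notation "P2" => PGL(2, K)
local notation "X2" => OnePoint K

variable (G : Subgroup (PGL(2, K))) [Finite G] {p : ℕ} [Fact p.Prime] [CharP K p]

/-- Orders of elements of a stabiliser. -/
theorem orderOf_cases {x : X2} {g : P2} (hg : g ∈ st G x) :
    orderOf g ∣ p ∧ g ∈ tr G x ∨ orderOf g ∣ eOf G x := by
  by_cases h : ∃ y, g • y = y ∧ y ≠ x
  · obtain ⟨y, hy, hyx⟩ := h
    exact Or.inr (orderOf_dvd_eOf G hg hy hyx)
  · push Not at h
    have ht : IsTr x g := ⟨hg.2, fun y hy => Or.inl (h y hy)⟩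
    exact Or.inl ⟨orderOf_dvd_of_pow_eq_one (pow_char_of_isTr ht), hg.1, ht⟩

/-- Orders of elements of a stabiliser without translations. -/
theorem orderOf_dvd_of_qOf_one {x : X2} (hq : qOf G x = 1) {g : P2} (hg : g ∈ st G x) :
    orderOf g ∣ eOf G x := by
  by_cases h : ∃ y, g • y = y ∧ y ≠ x
  · obtain ⟨y, hy, hyx⟩ := h
    exact orderOf_dvd_eOf G hg hy hyx
  · push Not at h
    have ht : g ∈ tr G x := ⟨hg.1, hg.2, fun y hy => Or.inl (h y hy)⟩
    rw [Subgroup.eq_bot_of_card_eq _ hq, Subgroup.mem_bot] at ht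
    rw [ht, orderOf_one]; exact one_dvd _

/-- A translation group of prime order has the characteristic as its order. -/
theorem qOf_eq_char {x : X2} {r : ℕ} (hr : r.Prime) (hq : qOf G x = r) : r = p := by
  haveI : Fact r.Prime := ⟨hr⟩
  obtain ⟨⟨g, hg⟩, hg'⟩ := exists_prime_orderOf_dvd_card' (G := tr G x) r (dvd_of_eq hq.symm)
  rw [Subgroup.orderOf_mk] at hg'
  exact (Nat.prime_dvd_prime_iff_eq hr Fact.out).1 (hg' ▸ orderOf_dvd_of_pow_eq_one (pow_char_of_isTr hg.2))

theorem two_mul_card_st {x : X2} (ho : Nat.card (orb G x) = 2) : 2 * Nat.card (st G x) = Nat.card G := by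
  rw [← card_orb_mul G x, ho]

/-- An orbit of size two without translations: a dihedral group. -/
theorem nonempty_dihedral' {x : X2} (hq : qOf G x = 1) (ho : Nat.card (orb G x) = 2) :
    Nonempty (G ≃* DihedralGroup (Nat.card (st G x))) := by
  have h2 := two_mul_card_st G ho
  haveI := isCyclic_st G hq
  obtain ⟨s, hs, hsx⟩ : ∃ s ∈ G, s • x ≠ x := by
    by_contra hc
    push Not at hc
    have : st G x = G := le_antisymm (st_le G x) (fun g hg => ⟨hg, hc g hg⟩)
    rw [this] at h2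
    have := Nat.card_pos (α := G)
    omega
  have hout : ∀ g ∈ G, g • x ≠ x → g * g = 1 := by
    intro g hg hgx
    have hgg : g • (g • x) = x := by
      by_contra hne
      have hsub : ({x, g • x, g • (g • x)} : Set X2) ⊆ orb G x := by
        rintro z (rfl | rfl | rfl)
        · exact self_mem_orb G _
        · exact ⟨g, hg, rfl⟩
        · exact ⟨g * g, G.mul_mem hg hg, mul_smul _ _ _⟩
      have hle := Set.ncard_le_ncard hsub (finite_orb G x)
      rw [← Nat.card_coe_set_eq (orb G x), ho, Set.ncard_eq_three.2 ⟨_, _, _, hgx.symm, Ne.symm hne,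
        fun e => hgx (MulAction.injective g e).symm, rfl⟩] at hle
      omega
    obtain ⟨w, hw⟩ := exists_fixed g
    have hwx : w ≠ x := fun e => hgx (e ▸ hw)
    refine eq_one_of_fix_three hgx.symm hwx.symm ?_ ?_ ?_ (x := x) (y := g • x) (z := w) ?_
    · exact fun e => hwx (MulAction.injective g (e.trans hw.symm)).symm
    · rw [mul_smul, hgg]
    · rw [mul_smul, hgg]
    · rw [mul_smul, hw, hw]
  let R : st G x →* G := Subgroup.inclusion (st_le G x)
  refine nonempty_dihedral R (Subgroup.inclusion_injective _) ⟨s, hs⟩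
    (Subtype.ext (hout s hs hsx)) (fun c e => hsx ?_) (fun c => Subtype.ext ?_) (fun g => ?_)
  · have e' : (c : P2) = s := congrArg Subtype.val e
    rw [← e']; exact c.2.2
  · show s * (c : P2) * s = ((c : P2))⁻¹
    have hne : (s * (c : P2)) • x ≠ x := by rw [mul_smul, c.2.2]; exact hsx
    have h1 := hout _ (G.mul_mem hs c.2.1) hne
    rw [eq_inv_iff_mul_eq_one, ← h1]; group
  · by_cases hg : (g : P2) • x = x
    · exact ⟨⟨g, g.2, hg⟩, Or.inl rfl⟩
    · have hin : (g : P2) * s ∈ st G x := by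
        refine ⟨G.mul_mem g.2 hs, ?_⟩
        show ((g : P2) * s) • x = x
        rw [mul_smul]
        by_contra hne
        have hsub : ({x, (g : P2) • x, (g : P2) • (s • x)} : Set X2) ⊆ orb G x := by
          rintro z (rfl | rfl | rfl)
          · exact self_mem_orb G _
          · exact ⟨g, g.2, rfl⟩
          · exact ⟨g * s, G.mul_mem g.2 hs, mul_smul _ _ _⟩
        have hle := Set.ncard_le_ncard hsub (finite_orb G x)
        rw [← Nat.card_coe_set_eq (orb G x), ho, Set.ncard_eq_three.2 ⟨_, _, _, Ne.symm hg, Ne.symm hne,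
          fun e => hsx (MulAction.injective (g : P2) e).symm, rfl⟩] at hle
        omega
      refine ⟨⟨_, hin⟩, Or.inr (Subtype.ext ?_)⟩
      show (g : P2) = (g : P2) * s * s
      rw [mul_assoc, hout s hs hsx, mul_one]

theorem nonempty_A4 (hG : ∀ g ∈ G, g ≠ 1 → ∃ x : X2, g ∈ st G x ∧ qOf G x = 1 ∧
    (eOf G x = 2 ∨ eOf G x = 3)) (h : Nat.card G = 12) : Nonempty (G ≃* alternatingGroup (Fin 4)) := by
  refine SL2Two.nonempty_alt_four h fun g hg => ?_
  obtain ⟨x, hx, hq, he⟩ := hG g g.2 (fun e => by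
    rw [← Subgroup.orderOf_coe, e, orderOf_one] at hg; omega)
  have hd := orderOf_dvd_of_qOf_one G hq hx
  rw [Subgroup.orderOf_coe, hg] at hd
  rcases he with e | e <;> rw [e] at hd <;> norm_num at hd

theorem nonempty_S4 (hG : ∀ g ∈ G, g ≠ 1 → ∃ x : X2, g ∈ st G x ∧ qOf G x = 1 ∧
    (eOf G x = 2 ∨ eOf G x = 3 ∨ eOf G x = 4)) (h : Nat.card G = 24) :
    Nonempty (G ≃* Equiv.Perm (Fin 4)) := by
  refine nonempty_perm_four h fun g hg => ?_
  obtain ⟨x, hx, hq, he⟩ := hG g g.2 (fun e => by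
    rw [← Subgroup.orderOf_coe, e, orderOf_one] at hg; omega)
  have hd := orderOf_dvd_of_qOf_one G hq hx
  rw [Subgroup.orderOf_coe, hg] at hd
  rcases he with e | e | e <;> rw [e] at hd <;> norm_num at hd

theorem nonempty_A5 (p : ℕ) [Fact p.Prime] [CharP K p] (hG : ∀ g ∈ G, g ≠ 1 → ∃ x : X2, g ∈ st G x ∧
    (qOf G x = 1 ∧ (eOf G x = 2 ∨ eOf G x = 3 ∨ eOf G x = 5) ∨ qOf G x = 3 ∧ eOf G x = 2))
    (h : Nat.card G = 60) : Nonempty (G ≃* alternatingGroup (Fin 5)) := by
  have key : ∀ g : G, orderOf g = 1 ∨ orderOf g = 2 ∨ orderOf g = 3 ∨ orderOf g = 5 := by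
    intro g
    by_cases hg : (g : P2) = 1
    · exact Or.inl (by rw [← Subgroup.orderOf_coe, hg, orderOf_one])
    obtain ⟨x, hx, hcase⟩ := hG g g.2 hg
    have hp : ∀ r, r.Prime → orderOf g ∣ r → orderOf g = 1 ∨ orderOf g = r := fun r hr hd =>
      (Nat.dvd_prime hr).1 hd
    rcases hcase with ⟨hq, he⟩ | ⟨hq, he⟩
    · have hd := orderOf_dvd_of_qOf_one G hq hx
      rw [Subgroup.orderOf_coe] at hd
      rcases he with e | e | e <;> rw [e] at hd
      · have := hp 2 Nat.prime_two hd; omega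
      · have := hp 3 Nat.prime_three hd; omega
      · have := hp 5 (by norm_num) hd; omega
    · rcases orderOf_cases G (p := p) hx with ⟨hd, -⟩ | hd <;> rw [Subgroup.orderOf_coe] at hd
      · rw [← qOf_eq_char G (p := p) Nat.prime_three hq] at hd
        have := hp 3 Nat.prime_three hd; omega
      · rw [he] at hd
        have := hp 2 Nat.prime_two hd; omega
  haveI := simple_of_sixty h (fun g e => by have := key g; omega) (fun g e => by have := key g; omega)
  exact SmallAlt.simple_sixty h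

/-- The inversions exchange infinity and zero. -/
theorem invGL_smul_infty (c : K) (hc : c ≠ 0) :
    ProjGenLinGroup.mk (invGL c hc) • (∞ : X2) = ((0 : K) : X2) := by
  rw [mk_smul', smul_infty_eq_ite, invGL_coe]; simp

theorem invGL_smul_zero (c : K) (hc : c ≠ 0) :
    ProjGenLinGroup.mk (invGL c hc) • ((0 : K) : X2) = ∞ := by
  rw [mk_smul', smul_some_eq_ite, invGL_coe]; simp

theorem invGL_smul_one (c : K) (hc : c ≠ 0) :
    ProjGenLinGroup.mk (invGL c hc) • ((1 : K) : X2) = ((c : K) : X2) := by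
  rw [mk_smul', smul_some_eq_ite, invGL_coe]; simp

/-- Normalised field case. -/
theorem field_case_infty {q e : ℕ} (hq : 3 ≤ q) (hA : Nat.card (transl G) = q)
    (hS : Nat.card (mult G) = e) (he : 2 * e = q - 1 ∨ e = q - 1)
    (ho : Nat.card (orb G (∞ : X2)) = q + 1) (h1 : (1 : K) ∈ transl G)
    (h0 : ((0 : K) : X2) ∈ orb G (∞ : X2)) :
    ∃ K₀ : Subfield K, Nat.card K₀ = q ∧ (∀ k ∈ K₀, (k : X2) ∈ orb G (∞ : X2)) ∧
      G ≤ (ProjGenLinGroup.map (n := Fin 2) K₀.subtype).range ∧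
      (e = q - 1 ∧ Nonempty (G ≃* Matrix.ProjGenLinGroup (Fin 2) K₀) ∨
        2 * e = q - 1 ∧ Nonempty (G ≃* Matrix.ProjectiveSpecialLinearGroup (Fin 2) K₀)) := by
  classical
  set A := transl G with hAdef
  have hinj : ∀ k : K, k ≠ 0 → (∀ a ∈ A, k * a ∈ A) → ∀ a ∈ A, k⁻¹ * a ∈ A := by
    intro k hk hka a ha
    let f : A → A := fun b => ⟨k * b.1, hka b.1 b.2⟩
    have hf : Function.Injective f := fun b c e => Subtype.ext (mul_left_cancel₀ hk (congrArg Subtype.val e))
    obtain ⟨⟨b, hb⟩, hb'⟩ := (Finite.injective_iff_surjective.1 hf) ⟨a, ha⟩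
    have : k * b = a := congrArg Subtype.val hb'
    rw [← this, inv_mul_cancel_left₀ hk]; exact hb
  let R : Subfield K :=
    { carrier := {k | ∀ a ∈ A, k * a ∈ A}
      one_mem' := fun a ha => by rw [one_mul]; exact ha
      zero_mem' := fun a _ => by rw [zero_mul]; exact zero_mem A
      add_mem' := fun {x y} hx hy a ha => by rw [add_mul]; exact A.add_mem (hx a ha) (hy a ha)
      mul_mem' := fun {x y} hx hy a ha => by rw [mul_assoc]; exact hx _ (hy a ha)
      neg_mem' := fun {x} hx a ha => by rw [neg_mul]; exact A.neg_mem (hx a ha)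
      inv_mem' := fun x hx a ha => by
        by_cases h : x = 0
        · rw [h, _root_.inv_zero, zero_mul]; exact zero_mem A
        · exact hinj x h hx a ha }
  have hRA : ∀ k ∈ R, k ∈ A := fun k hk => by simpa using hk 1 h1
  haveI : Finite R := Finite.of_injective (fun k : R => (⟨k.1, hRA k.1 k.2⟩ : A))
    fun a b e => Subtype.ext (congrArg Subtype.val e : _)
  have hSR : ∀ s ∈ mult G, (s : K) ∈ R := fun s hs a ha => mult_smul_transl G hs ha
  have hRbig : e + 1 ≤ Nat.card R := by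
    rw [← hS, ← Finite.card_option]
    refine Nat.card_le_card_of_injective (fun o : Option (mult G) =>
      (o.elim (0 : R) fun s => ⟨(s.1 : K), hSR s.1 s.2⟩)) ?_
    rintro (_ | s) (_ | t) h <;> simp only [Option.elim, Subtype.ext_iff, ZeroMemClass.coe_zero] at h
    · rfl
    · exact absurd h.symm (Units.ne_zero _)
    · exact absurd h (Units.ne_zero _)
    · exact congrArg Option.some (Subtype.ext (Units.ext h))
  have hAR : ∀ a ∈ A, a ∈ R := by
    by_contra hc
    push Not at hc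
    obtain ⟨a, ha, haR⟩ := hc
    have hle : Nat.card (R × R) ≤ Nat.card A := by
      refine Nat.card_le_card_of_injective
        (fun r => (⟨r.1.1 + r.2.1 * a, A.add_mem (hRA _ r.1.2) (r.2.2 a ha)⟩ : A)) ?_
      rintro ⟨⟨r₁, hr₁⟩, ⟨r₂, hr₂⟩⟩ ⟨⟨s₁, hs₁⟩, ⟨s₂, hs₂⟩⟩ h
      have h' : r₁ + r₂ * a = s₁ + s₂ * a := congrArg Subtype.val h
      by_cases h2 : r₂ = s₂
      · subst h2
        simp only [Prod.mk.injEq, Subtype.mk.injEq, and_true]
        linear_combination h'
      · exfalso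
        refine haR ?_
        have : a = (s₁ - r₁) * (r₂ - s₂)⁻¹ := by
          rw [eq_mul_inv_iff_mul_eq₀ (sub_ne_zero.2 h2)]; linear_combination h'
        rw [this]
        exact R.mul_mem (R.sub_mem hs₁ hr₁) (R.inv_mem (R.sub_mem hr₂ hs₂))
    rw [Nat.card_prod, hA] at hle
    have h2e : q + 1 ≤ 2 * (e + 1) := by omega
    have h3 : (q + 1) * (q + 1) ≤ (2 * Nat.card R) * (2 * Nat.card R) :=
      Nat.mul_le_mul (by omega) (by omega)
    nlinarith
  have hcard : Nat.card R = q := by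
    rw [← hA]
    exact Nat.card_congr
      { toFun := fun k => (⟨k.1, hRA k.1 k.2⟩ : A)
        invFun := fun a => ⟨a.1, hAR a.1 a.2⟩ }
  -- the orbit is the line over `R`
  let O : Set X2 := insert ∞ ((fun a : K => (a : X2)) '' (A : Set K))
  have hO : O = orb G (∞ : X2) := by
    refine Set.eq_of_subset_of_ncard_le ?_ ?_ (finite_orb G _)
    · rintro z (rfl | ⟨a, ha, rfl⟩)
      · exact self_mem_orb G _
      · obtain ⟨w, hw, hw0⟩ := h0
        exact ⟨aff 1 a * w, G.mul_mem ha hw, by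
          show (aff 1 a * w) • (∞ : X2) = (a : X2)
          rw [mul_smul]
          change aff 1 a • (w • (∞ : X2)) = _
          rw [show w • (∞ : X2) = ((0 : K) : X2) from hw0, aff_smul_coe, mul_zero, zero_add]⟩
    · have hfin : (A : Set K).Finite := finite_transl G
      rw [← Nat.card_coe_set_eq (orb G _), ho, Set.ncard_insert_of_notMem (by simp)
        (hfin.image _), Set.ncard_image_of_injective _ (fun a b h => coe_eq_coe.1 h),
        ← Nat.card_coe_set_eq, show Nat.card (A : Set K) = q from hA]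
  refine ⟨R, hcard, fun k hk => hO ▸ Or.inr ⟨k, hRA k hk, rfl⟩, ?_⟩
  have hpt : ∀ {g : P2}, g ∈ G → ∀ {z : X2}, z ∈ orb G (∞ : X2) →
      g • z = ∞ ∨ ∃ a ∈ A, g • z = (a : X2) := by
    intro g hg z hz
    obtain ⟨k, hk, rfl⟩ := hz
    have hm : g • (k • (∞ : X2)) ∈ O := by rw [hO]; exact ⟨g * k, G.mul_mem hg hk, mul_smul _ _ _⟩
    rcases hm with e | ⟨a, ha, e⟩
    · exact Or.inl e
    · exact Or.inr ⟨a, ha, e.symm⟩
  obtain ⟨w₀, hw₀, hw₀'⟩ := h0
  obtain ⟨u, hu, hu'⟩ : ∃ u ∈ A, w₀⁻¹ • (∞ : X2) = (u : X2) := by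
    rcases hpt (G.inv_mem hw₀) (self_mem_orb G _) with e | h
    · exfalso
      rw [inv_smul_eq_iff, show w₀ • (∞ : X2) = ((0 : K) : X2) from hw₀'] at e
      exact infty_ne_coe _ e
    · exact h
  set w := w₀ * aff 1 u with hwdef
  have hwG : w ∈ G := G.mul_mem hw₀ hu
  have hwinf : w • (∞ : X2) = ((0 : K) : X2) := by rw [hwdef, mul_smul, aff_smul_infty]; exact hw₀'
  have hw0 : w • ((0 : K) : X2) = ∞ := by
    rw [hwdef, mul_smul, aff_smul_coe, mul_zero, zero_add, ← hu', smul_inv_smul]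
  obtain ⟨c, hc, hc'⟩ : ∃ c ∈ A, w • ((1 : K) : X2) = (c : X2) := by
    rcases hpt hwG (hO ▸ Or.inr ⟨1, h1, rfl⟩ : ((1 : K) : X2) ∈ orb G (∞ : X2)) with e | h
    · exact absurd (MulAction.injective w (hw0.trans e.symm)) (fun e => zero_ne_one (coe_eq_coe.1 e))
    · exact h
  have hc0 : c ≠ 0 := by
    rintro rfl
    exact infty_ne_coe _ (MulAction.injective w (hwinf.trans hc'.symm))
  have hwc : w = ProjGenLinGroup.mk (invGL c hc0) := by
    refine inv_mul_eq_one.1 (eq_one_of_fix_three (infty_ne_coe (0 : K)) (infty_ne_coe (1 : K))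
      (fun e => zero_ne_one (coe_eq_coe.1 e)) ?_ ?_ ?_) |>.symm
    · rw [mul_smul, hwinf, inv_smul_eq_iff, invGL_smul_infty]
    · rw [mul_smul, hw0, inv_smul_eq_iff, invGL_smul_zero]
    · rw [mul_smul, hc', inv_smul_eq_iff, invGL_smul_one]
  -- everything is defined over `R`
  set Φ := ProjGenLinGroup.map (n := Fin 2) R.subtype with hΦ
  have haffR : ∀ (s : Kˣ) (a : K), (s : K) ∈ R → a ∈ R → aff s a ∈ Φ.range := by
    intro s a hs ha
    refine ⟨aff (Units.mk0 (⟨(s : K), hs⟩ : R) (fun h => Units.ne_zero s (congrArg Subtype.val h))) ⟨a, ha⟩, ?_⟩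
    rw [hΦ, aff, aff, ProjGenLinGroup.map_mk]
    congr 1
    refine Units.ext ?_
    show ((affGL _ _ : GL (Fin 2) R) : Matrix (Fin 2) (Fin 2) R).map R.subtype = _
    rw [affGL_coe, affGL_coe]
    ext i j
    fin_cases i <;> fin_cases j <;> rfl
  have hcR : c ∈ R := hAR c hc
  have hinvR : ProjGenLinGroup.mk (invGL c hc0) = Φ (ProjGenLinGroup.mk
      (invGL (⟨c, hcR⟩ : R) (fun h => hc0 (congrArg Subtype.val h)))) := by
    rw [hΦ, ProjGenLinGroup.map_mk]
    congr 1
    refine Units.ext ?_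
    show _ = ((invGL _ _ : GL (Fin 2) R) : Matrix (Fin 2) (Fin 2) R).map R.subtype
    rw [invGL_coe, invGL_coe]
    ext i j
    fin_cases i <;> fin_cases j <;> rfl
  have hGle : G ≤ Φ.range := by
    intro g hg
    have hfix : ∀ k ∈ G, k • (∞ : X2) = ∞ → k ∈ Φ.range := by
      intro k hk hk'
      obtain ⟨s, a, rfl⟩ := exists_aff k hk'
      refine haffR s a (hSR s ⟨a, hk⟩) ?_
      rcases hpt hk (hO ▸ Or.inr ⟨0, zero_mem A, rfl⟩ : ((0 : K) : X2) ∈ orb G (∞ : X2)) with e | ⟨b, hb, e⟩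
      · rw [aff_smul_coe] at e; exact absurd e.symm (infty_ne_coe _)
      · rw [aff_smul_coe, coe_eq_coe, mul_zero, zero_add] at e
        rw [e]; exact hAR b hb
    rcases hpt hg (self_mem_orb G _) with e | ⟨a, ha, e⟩
    · exact hfix g hg e
    · have hk : w⁻¹ * (aff 1 (-a) * g) ∈ Φ.range := by
        refine hfix _ (G.mul_mem (G.inv_mem hwG) (G.mul_mem (A.neg_mem ha) hg)) ?_
        rw [mul_smul, mul_smul, e, aff_smul_coe, inv_smul_eq_iff, hwinf]
        simp
      have : g = (aff 1 (-a))⁻¹ * (w * (w⁻¹ * (aff 1 (-a) * g))) := by group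
      rw [this]
      exact mul_mem (inv_mem (haffR 1 (-a) (by rw [Units.val_one]; exact one_mem R) (R.neg_mem (hAR a ha))))
        (mul_mem (hwc ▸ hinvR ▸ ⟨_, rfl⟩) hk)
  set H₀ := G.comap Φ with hH₀
  have hH₀G : H₀.map Φ = G := Subgroup.map_comap_eq_self hGle
  have eH : G ≃* H₀ := (MulEquiv.subgroupCongr hH₀G.symm).trans
    (H₀.equivMapOfInjective Φ (map_injective R.subtype)).symm
  have hH₀card : Nat.card H₀ = q * e * (q + 1) := by
    rw [← Nat.card_congr eH.toEquiv, ← card_orb_mul G (∞ : X2), ho, card_st_infty, hA, hS]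
    ring
  haveI := Fintype.ofFinite R
  have hqR : Fintype.card R = q := by rw [← Nat.card_eq_fintype_card, hcard]
  have hPGL : Nat.card (PGL(2, R)) * (q - 1) = q * ((q + 1) * (q - 1) ^ 2) := by
    rw [← hqR, ← SL2.card_GL2, hqR]
    have hcen : Nat.card (Subgroup.center (GL (Fin 2) R)) = q - 1 := by
      rw [GeneralLinearGroup.center_eq_range_scalar,
        ← Nat.card_congr (MonoidHom.ofInjective (f := GeneralLinearGroup.scalar (R := R) (Fin 2)) ?_).toEquiv,
        Nat.card_eq_fintype_card, Fintype.card_units, hqR]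
      intro x y hxy
      refine Units.ext ?_
      have := congrArg (fun g : GL (Fin 2) R => (g : Matrix (Fin 2) (Fin 2) R) 0 0) hxy
      simpa using this
    rw [← hcen]
    exact (Subgroup.card_eq_card_quotient_mul_card_subgroup _).symm
  have hPGL' : Nat.card (PGL(2, R)) = q * (q + 1) * (q - 1) :=
    Nat.eq_of_mul_eq_mul_right (show 0 < q - 1 by omega) (by rw [hPGL]; ring)
  haveI : Finite (PGL(2, R)) := inferInstanceAs (Finite (GL (Fin 2) R ⧸ Subgroup.center (GL (Fin 2) R)))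
  refine ⟨hGle, ?_⟩
  rcases he with he | he
  swap
  · refine Or.inl ⟨he, ⟨eH.trans ((MulEquiv.subgroupCongr ?_).trans Subgroup.topEquiv)⟩⟩
    exact Subgroup.eq_top_of_card_eq _ (by rw [hH₀card, hPGL', he]; ring)
  refine Or.inr ⟨he, ?_⟩
  let T : Matrix.ProjectiveSpecialLinearGroup (Fin 2) R →* PGL(2, R) := ProjectiveSpecialLinearGroup.toPGL
  have hT : Function.Injective T := ProjectiveSpecialLinearGroup.toPGL_injective
  have hTle : T.range ≤ H₀ := by
    rintro _ ⟨g, rfl⟩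
    induction g using QuotientGroup.induction_on with | H g =>
    show T (QuotientGroup.mk g) ∈ H₀
    refine SL_transvection_induction (fun g => T (QuotientGroup.mk g) ∈ H₀) (fun i j hij b => ?_)
      (fun A B hA hB => by rw [QuotientGroup.mk_mul, map_mul]; exact H₀.mul_mem hA hB) g
    rw [hH₀, Subgroup.mem_comap]
    have hup : ∀ b : R, Φ (aff 1 b) ∈ G := fun b => by
      have : Φ (aff (1 : Rˣ) b) = aff 1 (b : K) := by
        rw [hΦ, aff, aff, ProjGenLinGroup.map_mk]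
        congr 1
        refine Units.ext ?_
        show ((affGL _ _ : GL (Fin 2) R) : Matrix (Fin 2) (Fin 2) R).map R.subtype = _
        rw [affGL_coe, affGL_coe]
        ext i j
        fin_cases i <;> fin_cases j <;> simp
      rw [this]; exact hRA _ b.2
    have hi : (i = 0 ∧ j = 1) ∨ (i = 1 ∧ j = 0) := by omega
    rcases hi with ⟨rfl, rfl⟩ | ⟨rfl, rfl⟩
    · convert hup b using 2
      rw [ProjectiveSpecialLinearGroup.toPGL_mk, aff]
      congr 1
      refine Units.ext ?_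
      rw [affGL_coe]
      show ((SpecialLinearGroup.transvection hij b : SpecialLinearGroup (Fin 2) R) : Matrix (Fin 2) (Fin 2) R) = _
      rw [SpecialLinearGroup.transvection_coe]
      ext i j
      fin_cases i <;> fin_cases j <;> simp
    · set cR : R := ⟨c, hcR⟩ with hcRdef
      have hcR0 : cR ≠ 0 := fun h => hc0 (congrArg Subtype.val h)
      have key : T (QuotientGroup.mk (SpecialLinearGroup.transvection hij b)) =
          ProjGenLinGroup.mk (invGL cR hcR0) * aff 1 (b * cR) * (ProjGenLinGroup.mk (invGL cR hcR0))⁻¹ := by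
        rw [ProjectiveSpecialLinearGroup.toPGL_mk, eq_mul_inv_iff_mul_eq, aff, ← map_mul, ← map_mul]
        congr 1
        refine Units.ext ?_
        rw [Units.val_mul, Units.val_mul, affGL_coe, invGL_coe]
        show ((SpecialLinearGroup.transvection hij b : SpecialLinearGroup (Fin 2) R) : Matrix (Fin 2) (Fin 2) R) * _ = _
        rw [SpecialLinearGroup.transvection_coe]
        ext i j
        fin_cases i <;> fin_cases j <;> simp [Matrix.mul_apply, Fin.sum_univ_two, mul_comm]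
      show Φ (T (QuotientGroup.mk (SpecialLinearGroup.transvection hij b))) ∈ G
      rw [key, map_mul, map_mul, map_inv, ← hinvR, ← hwc]
      exact G.mul_mem (G.mul_mem hwG (hup _)) (G.inv_mem hwG)
  have hodd : q % 2 = 1 := by omega
  have hTcard : 2 * Nat.card T.range = q * (q + 1) * (q - 1) := by
    have h := SL2.card_PSL2_mul (F := R)
    rw [hqR, show Nat.gcd 2 (q - 1) = 2 from Nat.gcd_eq_left (by omega),
      Nat.card_congr (MonoidHom.ofInjective hT).toEquiv] at h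
    rw [h, mul_assoc, show q ^ 2 - 1 = q ^ 2 - 1 ^ 2 by norm_num, Nat.sq_sub_sq]
  have heq : H₀ = T.range := (Subgroup.eq_of_le_of_card_ge hTle (by
    have : 2 * Nat.card H₀ = q * (q + 1) * (q - 1) := by rw [hH₀card, ← he]; ring
    omega)).symm
  exact ⟨eH.trans ((MulEquiv.subgroupCongr heq).trans (MonoidHom.ofInjective hT).symm)⟩

/-- The field case. -/
theorem field_case {x : X2} (hq : 3 ≤ qOf G x) (ho : Nat.card (orb G x) = qOf G x + 1)
    (he : 2 * eOf G x = qOf G x - 1 ∨ eOf G x = qOf G x - 1) :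
    ∃ K₀ : Subfield K, Nat.card K₀ = qOf G x ∧
      (∃ c : P2, c • x = ∞ ∧ (∀ k ∈ K₀, ∃ z ∈ orb G x, c • z = (k : X2)) ∧
        G.map (MulAut.conj c).toMonoidHom ≤ (ProjGenLinGroup.map (n := Fin 2) K₀.subtype).range) ∧
      (eOf G x = qOf G x - 1 ∧ Nonempty (G ≃* Matrix.ProjGenLinGroup (Fin 2) K₀) ∨
        2 * eOf G x = qOf G x - 1 ∧ Nonempty (G ≃* Matrix.ProjectiveSpecialLinearGroup (Fin 2) K₀)) := by
  obtain ⟨y, hy, hyx⟩ : ∃ y ∈ orb G x, y ≠ x := by
    refine Set.exists_ne_of_one_lt_ncard ?_ x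
    rw [← Nat.card_coe_set_eq, ho]; omega
  obtain ⟨c₁, hc₁x, hc₁y⟩ := exists_to_infty_zero hyx.symm
  set G₁ := G.map (MulAut.conj c₁).toMonoidHom with hG₁
  have hA₁ := (invariants G hc₁x).1
  obtain ⟨⟨a, ha⟩, hane⟩ : ∃ a : transl G₁, a ≠ 0 := by
    haveI : Nontrivial (transl G₁) := Finite.one_lt_card_iff_nontrivial.1 (by rw [← hA₁]; omega)
    exact exists_ne 0
  have ha0 : a ≠ 0 := fun e => hane (Subtype.ext e)
  set c := aff (Units.mk0 a ha0)⁻¹ 0 * c₁ with hcdef
  have hcx : c • x = ∞ := by rw [hcdef, mul_smul, hc₁x, aff_smul_infty]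
  have hcy : c • y = ((0 : K) : X2) := by rw [hcdef, mul_smul, hc₁y, aff_smul_coe]; simp
  set G' := G.map (MulAut.conj c).toMonoidHom with hG'
  have horb : orb G' (∞ : X2) = (fun z => c • z) '' orb G x := by
    ext z
    constructor
    · rintro ⟨g, ⟨k, hk, rfl⟩, rfl⟩
      exact ⟨k • x, ⟨k, hk, rfl⟩, by
        show c • k • x = (c * k * c⁻¹) • (∞ : X2)
        rw [← hcx, ← mul_smul, ← mul_smul, inv_mul_cancel_right]⟩
    · rintro ⟨_, ⟨k, hk, rfl⟩, rfl⟩
      exact ⟨c * k * c⁻¹, ⟨k, hk, rfl⟩, by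
        show (c * k * c⁻¹) • (∞ : X2) = c • k • x
        rw [← hcx, mul_smul, mul_smul, inv_smul_smul]⟩
  have h1 : (1 : K) ∈ transl G' := by
    obtain ⟨k, hk, hk'⟩ := ha
    refine ⟨k, hk, ?_⟩
    show c * k * c⁻¹ = aff 1 1
    have hk'' : c₁ * k * c₁⁻¹ = aff 1 a := hk'
    rw [hcdef, show aff (Units.mk0 a ha0)⁻¹ 0 * c₁ * k * (aff (Units.mk0 a ha0)⁻¹ 0 * c₁)⁻¹ =
      aff (Units.mk0 a ha0)⁻¹ 0 * (c₁ * k * c₁⁻¹) * (aff (Units.mk0 a ha0)⁻¹ 0)⁻¹ by group, hk'',
      mul_inv_eq_iff_eq_mul, aff_mul, aff_mul]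
    simp [ha0]
  obtain ⟨hq', -, he'⟩ := invariants G hcx
  obtain ⟨K₀, hK₀, hline, hle, hcase⟩ := field_case_infty G' hq hq'.symm he'.symm he
    (by rw [horb, Nat.card_image_of_injective (MulAction.injective c), ho]) h1
    (by rw [horb, ← hcy]; exact ⟨y, hy, rfl⟩)
  let e : G ≃* G' := G.equivMapOfInjective _ (MulAut.conj c).injective
  exact ⟨K₀, hK₀, ⟨c, hcx, fun k hk => by
    have h := hline k hk
    rwa [horb] at h, hle⟩, hcase.imp (fun ⟨h, ⟨f⟩⟩ => ⟨h, ⟨e.trans f⟩⟩) (fun ⟨h, ⟨f⟩⟩ => ⟨h, ⟨e.trans f⟩⟩)⟩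

theorem prime_ne_char (p : ℕ) [Fact p.Prime] [CharP K p] (r : ℕ) (hr : r.Prime) (hd : r ∣ Nat.card G)
    (h : ∀ g ∈ G, g ≠ 1 → ∃ x : X2, g ∈ st G x ∧ (qOf G x = 1 ∨ qOf G x = 3 ∧ p ≠ r)) : p ≠ r := by
  haveI : Fact r.Prime := ⟨hr⟩
  obtain ⟨⟨g, hg⟩, hgr⟩ := exists_prime_orderOf_dvd_card' (G := G) r hd
  rw [Subgroup.orderOf_mk] at hgr
  have hg1 : g ≠ 1 := fun e => hr.one_lt.ne (by rw [← hgr, e, orderOf_one])
  obtain ⟨x, hx, hq | ⟨-, hne⟩⟩ := h g hg hg1
  · rintro rfl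
    exact not_dvd_eOf G x (hgr ▸ orderOf_dvd_of_qOf_one G hq hx)
  · exact hne

/-- Dickson's classification over an algebraically closed field. -/
theorem classify (p : ℕ) [Fact p.Prime] [CharP K p] (h2 : 2 ≤ Nat.card G) :
    (∃ x : X2, st G x = G) ∨
    (∃ x : X2, qOf G x = 1 ∧ 2 * Nat.card (st G x) = Nat.card G ∧
      Nonempty (G ≃* DihedralGroup (Nat.card (st G x)))) ∨
    (p ≠ 2 ∧ p ≠ 3 ∧ Nonempty (G ≃* alternatingGroup (Fin 4))) ∨
    (p ≠ 2 ∧ p ≠ 3 ∧ Nonempty (G ≃* Equiv.Perm (Fin 4))) ∨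
    (p ≠ 2 ∧ p ≠ 5 ∧ Nonempty (G ≃* alternatingGroup (Fin 5))) ∨
    (∃ (x : X2) (K₀ : Subfield K), 3 ≤ qOf G x ∧ Nat.card K₀ = qOf G x ∧
      (∃ c : P2, c • x = ∞ ∧ (∀ k ∈ K₀, ∃ z ∈ orb G x, c • z = (k : X2)) ∧
        G.map (MulAut.conj c).toMonoidHom ≤ (ProjGenLinGroup.map (n := Fin 2) K₀.subtype).range) ∧
      (eOf G x = qOf G x - 1 ∧ Nonempty (G ≃* Matrix.ProjGenLinGroup (Fin 2) K₀) ∨
        2 * eOf G x = qOf G x - 1 ∧ Nonempty (G ≃* Matrix.ProjectiveSpecialLinearGroup (Fin 2) K₀))) := by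
  rcases shape G h2 with h | ⟨x, hq, ho⟩ | ⟨h, h12⟩ | ⟨h, h24⟩ | ⟨h, h60⟩ | ⟨x, hq, ho, he⟩
  · exact Or.inl h
  · exact Or.inr (Or.inl ⟨x, hq, two_mul_card_st G ho, nonempty_dihedral' G hq ho⟩)
  · exact Or.inr (Or.inr (Or.inl ⟨prime_ne_char G p 2 Nat.prime_two (by rw [h12]; norm_num) (fun g hg h1 => (h g hg h1).imp fun y hy => ⟨hy.1, Or.inl hy.2.1⟩),
      prime_ne_char G p 3 Nat.prime_three (by rw [h12]; norm_num) (fun g hg h1 => (h g hg h1).imp fun y hy => ⟨hy.1, Or.inl hy.2.1⟩),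
      nonempty_A4 G h h12⟩))
  · exact Or.inr (Or.inr (Or.inr (Or.inl ⟨prime_ne_char G p 2 Nat.prime_two (by rw [h24]; norm_num) (fun g hg h1 => (h g hg h1).imp fun y hy => ⟨hy.1, Or.inl hy.2.1⟩),
      prime_ne_char G p 3 Nat.prime_three (by rw [h24]; norm_num) (fun g hg h1 => (h g hg h1).imp fun y hy => ⟨hy.1, Or.inl hy.2.1⟩),
      nonempty_S4 G h h24⟩)))
  · exact Or.inr (Or.inr (Or.inr (Or.inr (Or.inl ⟨prime_ne_char G p 2 Nat.prime_two (by rw [h60]; norm_num) (fun g hg h1 => (h g hg h1).imp fun y hy => ⟨hy.1, hy.2.imp (fun e => e.1)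
        (fun e => ⟨e.1, by rw [← qOf_eq_char G (p := p) Nat.prime_three e.1]; decide⟩)⟩),
      prime_ne_char G p 5 (by norm_num) (by rw [h60]; norm_num) (fun g hg h1 => (h g hg h1).imp fun y hy => ⟨hy.1, hy.2.imp (fun e => e.1)
        (fun e => ⟨e.1, by rw [← qOf_eq_char G (p := p) Nat.prime_three e.1]; decide⟩)⟩),
      nonempty_A5 G p h h60⟩))))
  · obtain ⟨K₀, hK₀, hline, hcase⟩ := field_case G hq ho he
    exact Or.inr (Or.inr (Or.inr (Or.inr (Or.inr ⟨x, K₀, hq, hK₀, hline, hcase⟩))))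

end Cfsg.Agent.Classical.Dickson
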