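import Mathlib
import Cfsg.Prelude.Def_Classical

/-!
The field of four elements as an explicit computable type, and change of field for special linear and
special unitary groups.
-/

set_option autoImplicit false
set_option linter.style.haveILetI false

namespace Cfsg.Agent.Classical

/-- The field of four elements `0, 1, ω, ω + 1`. -/
inductive F4 where
  | zero : F4
  | one : F4
  | w : F4
  | v : F4
deriving DecidableEq

namespace F4

instance : Fintype F4 := ⟨⟨[F4.zero, F4.one, F4.w, F4.v], by decide⟩, fun x => by cases x <;> decide⟩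

def add' : F4 → F4 → F4
  | .zero, x => x
  | x, .zero => x
  | .one, .one => .zero
  | .w, .w => .zero
  | .v, .v => .zero
  | .one, .w => .v
  | .w, .one => .v
  | .one, .v => .w
  | .v, .one => .w
  | .w, .v => .one
  | .v, .w => .one

def mul' : F4 → F4 → F4
  | .zero, _ => .zero
  | _, .zero => .zero
  | .one, x => x
  | x, .one => x
  | .w, .w => .v
  | .w, .v => .one
  | .v, .w => .one
  | .v, .v => .w

instance instAdd4 : Add F4 := ⟨add'⟩
instance instMul4 : Mul F4 := ⟨mul'⟩
instance instZero4 : Zero F4 := ⟨F4.zero⟩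
instance instOne4 : One F4 := ⟨F4.one⟩
instance instNeg4 : Neg F4 := ⟨id⟩
instance instInv4 : Inv F4 := ⟨fun a => mul' a a⟩

instance instCommRing4 : CommRing F4 where
  add_assoc := by rintro ⟨⟩ ⟨⟩ ⟨⟩ <;> rfl
  zero_add := by rintro ⟨⟩ <;> rfl
  add_zero := by rintro ⟨⟩ <;> rfl
  add_comm := by rintro ⟨⟩ ⟨⟩ <;> rfl
  neg_add_cancel := by rintro ⟨⟩ <;> rfl
  mul_assoc := by rintro ⟨⟩ ⟨⟩ ⟨⟩ <;> rfl
  one_mul := by rintro ⟨⟩ <;> rfl
  mul_one := by rintro ⟨⟩ <;> rfl
  zero_mul := by rintro ⟨⟩ <;> rfl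
  mul_zero := by rintro ⟨⟩ <;> rfl
  mul_comm := by rintro ⟨⟩ ⟨⟩ <;> rfl
  left_distrib := by rintro ⟨⟩ ⟨⟩ ⟨⟩ <;> rfl
  right_distrib := by rintro ⟨⟩ ⟨⟩ ⟨⟩ <;> rfl
  nsmul := nsmulRec
  zsmul := zsmulRec

instance instField4 : Field F4 where
  exists_pair_ne := ⟨F4.zero, F4.one, by decide⟩
  mul_inv_cancel := by rintro ⟨⟩ h <;> first | rfl | exact absurd rfl h
  inv_zero := rfl
  nnqsmul := _
  qsmul := _

theorem card_eq : Fintype.card F4 = 4 := rfl

theorem nonempty_ringEquiv {F : Type*} [Field F] [Fintype F] (hF : Fintype.card F = 4) : Nonempty (F ≃+* F4) :=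
  ⟨FiniteField.ringEquivOfCardEq (hF.trans card_eq.symm)⟩

end F4

open Matrix

theorem center_map {G H : Type*} [Group G] [Group H] (E : G ≃* H) :
    (Subgroup.center G).map E.toMonoidHom = Subgroup.center H := by
  ext x
  constructor
  · rintro ⟨g, hg, rfl⟩
    refine Subgroup.mem_center_iff.2 fun y => ?_
    obtain ⟨y, rfl⟩ := E.surjective y
    show E y * E g = E g * E y
    rw [← map_mul, ← map_mul, Subgroup.mem_center_iff.1 hg y]
  · intro hx
    refine ⟨E.symm x, Subgroup.mem_center_iff.2 fun y => E.injective ?_, E.apply_symm_apply x⟩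
    rw [map_mul, map_mul, E.apply_symm_apply, Subgroup.mem_center_iff.1 hx]

variable {n : Type} [Fintype n] [DecidableEq n]

/-- Change of field on special linear groups. -/
noncomputable def slEquiv {F K : Type*} [Field F] [Field K] (e : F ≃+* K) :
    SpecialLinearGroup n F ≃* SpecialLinearGroup n K :=
  MulEquiv.ofBijective (SpecialLinearGroup.map (e : F →+* K))
    ⟨fun a b h => Subtype.ext (Matrix.ext fun i j =>
        e.injective (congrFun (congrFun (congrArg Subtype.val h) i) j)),
      fun a => ⟨SpecialLinearGroup.map (e.symm : K →+* F) a, Subtype.ext (Matrix.ext fun i j => by simp)⟩⟩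

theorem psl_congr {F K : Type*} [Field F] [Field K] (e : F ≃+* K) :
    Nonempty (ProjectiveSpecialLinearGroup n F ≃* ProjectiveSpecialLinearGroup n K) :=
  ⟨QuotientGroup.congr _ _ (slEquiv e) (center_map _)⟩

theorem psu_congr {F K : Type*} [Field F] [Field K] (e : F ≃+* K) (m q : ℕ) :
    Nonempty (Cfsg.PSU m F q ≃* Cfsg.PSU m K q) := by
  have hform : ∀ u v : Fin m → F,
      Cfsg.hermForm m K q (fun i => e (u i)) (fun i => e (v i)) = e (Cfsg.hermForm m F q u v) := fun u v => by
    simp [Cfsg.hermForm, map_sum, map_mul, map_pow]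
  have hmv : ∀ (g : SpecialLinearGroup (Fin m) F) (u : Fin m → F),
      ((slEquiv e g : SpecialLinearGroup (Fin m) K) : Matrix (Fin m) (Fin m) K) *ᵥ (fun i => e (u i)) =
        fun i => e (((g : Matrix (Fin m) (Fin m) F) *ᵥ u) i) := fun g u => by
    funext i
    exact ((e : F →+* K).map_mulVec (g : Matrix (Fin m) (Fin m) F) u i).symm
  have hmap : (Cfsg.SU m F q).map (slEquiv e).toMonoidHom = Cfsg.SU m K q := by
    ext g
    constructor
    · rintro ⟨g, hg, rfl⟩ u v
      obtain ⟨u, rfl⟩ : ∃ u' : Fin m → F, (fun i => e (u' i)) = u := ⟨fun i => e.symm (u i), funext fun i => e.apply_symm_apply _⟩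
      obtain ⟨v, rfl⟩ : ∃ v' : Fin m → F, (fun i => e (v' i)) = v := ⟨fun i => e.symm (v i), funext fun i => e.apply_symm_apply _⟩
      show Cfsg.hermForm m K q (((slEquiv e g : SpecialLinearGroup (Fin m) K) : Matrix (Fin m) (Fin m) K) *ᵥ _)
        (((slEquiv e g : SpecialLinearGroup (Fin m) K) : Matrix (Fin m) (Fin m) K) *ᵥ _) = _
      rw [hmv, hmv, hform, hform]
      exact congrArg e (hg u v)
    · intro hg
      obtain ⟨g', rfl⟩ := (slEquiv e).surjective g
      refine ⟨g', fun u v => ?_, rfl⟩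
      show Cfsg.hermForm m F q ((g' : Matrix (Fin m) (Fin m) F) *ᵥ u) ((g' : Matrix (Fin m) (Fin m) F) *ᵥ v) = _
      apply e.injective
      rw [← hform, ← hform, ← hmv, ← hmv]
      exact hg _ _
  let E : Cfsg.SU m F q ≃* Cfsg.SU m K q := ((slEquiv e).subgroupMap _).trans (MulEquiv.subgroupCongr hmap)
  exact ⟨QuotientGroup.congr _ _ E (center_map _)⟩

end Cfsg.Agent.Classical
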