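import Cfsg.Agent.Lib.Classical.SL2Subgroups

/-!
Characteristic two, and classes of Klein four subgroups.
-/

set_option autoImplicit false
set_option linter.style.haveILetI false
set_option linter.unusedSectionVars false

open scoped MatrixGroups
open Matrix

namespace Cfsg.Agent.Classical.SL2Two

open SL2

/-- The number of conjugates of a subgroup times the order of its normaliser. -/
theorem card_conjugates_mul {G : Type*} [Group G] [Finite G] (V : Subgroup G) :
    Nat.card {W : Subgroup G // ∃ g : G, W = V.map (MulAut.conj g).toMonoidHom} *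
      Nat.card (Subgroup.normalizer (V : Set G)) = Nat.card G := by
  classical
  let φ : G → {W : Subgroup G // ∃ g : G, W = V.map (MulAut.conj g).toMonoidHom} :=
    fun g => ⟨_, g, rfl⟩
  have hfib : ∀ W, Nat.card {g : G // φ g = W} = Nat.card (Subgroup.normalizer (V : Set G)) := by
    rintro ⟨W, a, rfl⟩
    refine Nat.card_congr ((Equiv.mulLeft a⁻¹).subtypeEquiv fun g => ?_)
    constructor
    · intro hg
      have hg' : V.map (MulAut.conj g).toMonoidHom = V.map (MulAut.conj a).toMonoidHom :=
        congrArg Subtype.val hg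
      refine Subgroup.mem_normalizer_fintype fun v hv => ?_
      have : g * v * g⁻¹ ∈ V.map (MulAut.conj a).toMonoidHom := by rw [← hg']; exact ⟨v, hv, rfl⟩
      obtain ⟨u, hu, e⟩ := this
      simp only [MulEquiv.coe_toMonoidHom, MulAut.conj_apply] at e
      show a⁻¹ * g * v * (a⁻¹ * g)⁻¹ ∈ V
      rw [show a⁻¹ * g * v * (a⁻¹ * g)⁻¹ = a⁻¹ * (g * v * g⁻¹) * a by group, ← e,
        show a⁻¹ * (a * u * a⁻¹) * a = u by group]
      exact hu
    · intro hg
      refine Subtype.ext ?_
      show V.map (MulAut.conj g).toMonoidHom = V.map (MulAut.conj a).toMonoidHom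
      ext x
      constructor
      · rintro ⟨v, hv, rfl⟩
        refine ⟨_, (Subgroup.mem_normalizer_iff.1 hg v).1 hv, ?_⟩
        simp [mul_assoc]
      · rintro ⟨v, hv, rfl⟩
        refine ⟨_, (Subgroup.mem_normalizer_iff.1 (inv_mem hg) v).1 hv, ?_⟩
        simp [mul_assoc]
  haveI : Fintype {W : Subgroup G // ∃ g : G, W = V.map (MulAut.conj g).toMonoidHom} :=
    Fintype.ofFinite _
  rw [← Nat.card_congr (Equiv.sigmaFiberEquiv φ), Nat.card_sigma,
    Finset.sum_congr rfl fun W _ => hfib W, Finset.sum_const, Finset.card_univ, smul_eq_mul,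
    Nat.card_eq_fintype_card]

variable {F : Type*} [Field F] [Fintype F]

local notation "M2" => Matrix (Fin 2) (Fin 2) F
local notation "S2" => SpecialLinearGroup (Fin 2) F
local notation "P2" => Matrix.ProjectiveSpecialLinearGroup (Fin 2) F

theorem klein_conj_of_three_five (hq : Fintype.card F % 8 = 3 ∨ Fintype.card F % 8 = 5)
    (V W : Subgroup P2) (hV : IsKleinFour V) (hW : IsKleinFour W) :
    ∃ g : P2, W = V.map (MulAut.conj g).toMonoidHom := by
  haveI : Finite P2 := Finite.of_surjective _ proj_surjective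
  haveI : Fact (Nat.Prime 2) := ⟨Nat.prime_two⟩
  have hc := card_PSL2_mul (F := F)
  rw [Nat.gcd_eq_left (Nat.dvd_of_mod_eq_zero (by omega))] at hc
  have hsyl : ∀ U : Subgroup P2, IsKleinFour U → ∃ P : Sylow 2 P2, U = P := by
    intro U hU
    obtain ⟨P, hP⟩ := (IsPGroup.of_card (p := 2) (n := 2) (G := U) (by rw [hU.card_four]; norm_num)).exists_le_sylow
    refine ⟨P, Subgroup.eq_of_le_of_card_ge hP ?_⟩
    rw [hU.card_four]
    obtain ⟨k, hk⟩ := P.2.exists_card_eq
    have hd : 2 ^ k ∣ Nat.card P2 := hk ▸ Subgroup.card_subgroup_dvd_card _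
    rw [hk]
    by_contra hgt
    have hk3 : 3 ≤ k := by
      by_contra h
      interval_cases k <;> norm_num at hgt
    have h16 : 16 ∣ Fintype.card F * (Fintype.card F ^ 2 - 1) := by
      rw [← hc, show (16 : ℕ) = 2 * 2 ^ 3 by norm_num]
      exact mul_dvd_mul_left 2 ((pow_dvd_pow 2 hk3).trans hd)
    have h16' : 16 ∣ Fintype.card F ^ 2 - 1 := by
      refine (Nat.Coprime.dvd_of_dvd_mul_left ?_ h16)
      exact Nat.Coprime.pow_left 4 ((Nat.Prime.coprime_iff_not_dvd Nat.prime_two).2 (by omega))
    obtain ⟨j, hj⟩ : ∃ j, Fintype.card F = 8 * j + 3 ∨ Fintype.card F = 8 * j + 5 :=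
      ⟨Fintype.card F / 8, by omega⟩
    rcases hj with hj | hj <;> rw [hj] at h16' <;> ring_nf at h16' <;> omega
  obtain ⟨P, rfl⟩ := hsyl V hV
  obtain ⟨Q, rfl⟩ := hsyl W hW
  obtain ⟨g, hg⟩ := MulAction.exists_smul_eq P2 P Q
  refine ⟨g, ?_⟩
  rw [← hg]
  rfl

theorem klein_two_classes (hq : Fintype.card F % 8 = 1 ∨ Fintype.card F % 8 = 7) :
    ∃ V₁ V₂ : Subgroup P2, IsKleinFour V₁ ∧ IsKleinFour V₂ ∧
      (¬ ∃ g : P2, V₂ = V₁.map (MulAut.conj g).toMonoidHom) ∧
      ∀ W : Subgroup P2, IsKleinFour W → (∃ g : P2, W = V₁.map (MulAut.conj g).toMonoidHom) ∨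
        (∃ g : P2, W = V₂.map (MulAut.conj g).toMonoidHom) := by
  classical
  haveI : Finite P2 := Finite.of_surjective _ proj_surjective
  have h2 : (2 : F) ≠ 0 := two_ne_zero' (Nat.odd_iff.2 (by omega))
  haveI : Fintype {V : Subgroup P2 // IsKleinFour V} := Fintype.ofFinite _
  set K : Finset {V : Subgroup P2 // IsKleinFour V} := Finset.univ
  have hK : 12 * K.card = Nat.card P2 := by
    rw [Finset.card_univ, ← Nat.card_eq_fintype_card]
    exact twelve_mul_card_klein h2
  let O : {V : Subgroup P2 // IsKleinFour V} → Finset {V : Subgroup P2 // IsKleinFour V} :=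
    fun V => K.filter fun W => ∃ g : P2, (W : Subgroup P2) = (V : Subgroup P2).map (MulAut.conj g).toMonoidHom
  have hO : ∀ V, 24 * (O V).card = Nat.card P2 := by
    rintro ⟨V, hV⟩
    have h := card_conjugates_mul V
    rw [card_normalizer_klein h2 hq V hV] at h
    rw [← h, mul_comm]
    congr 1
    rw [← Fintype.card_subtype, ← Nat.card_eq_fintype_card]
    refine Nat.card_congr
      { toFun := fun W => ⟨W.1.1, W.2⟩
        invFun := fun W => ⟨⟨W.1, ?_⟩, W.2⟩
        left_inv := fun _ => rfl
        right_inv := fun _ => rfl }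
    obtain ⟨g, hg⟩ := W.2
    rw [hg]
    let e := (MulAut.conj g).subgroupMap V
    exact ⟨(Nat.card_congr e.toEquiv).symm.trans hV.card_four,
      (Monoid.exponent_eq_of_mulEquiv e).symm.trans hV.exponent_two⟩
  have hsymm : ∀ V W, W ∈ O V → V ∈ O W := by
    intro V W hW
    obtain ⟨g, hg⟩ := (Finset.mem_filter.1 hW).2
    refine Finset.mem_filter.2 ⟨Finset.mem_univ _, g⁻¹, ?_⟩
    rw [hg, Subgroup.map_map]
    conv_lhs => rw [← Subgroup.map_id (V : Subgroup P2)]
    congr 1
    ext x
    simp [mul_assoc]
  have htrans : ∀ U V W, V ∈ O U → W ∈ O V → W ∈ O U := by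
    intro U V W hV hW
    obtain ⟨g, hg⟩ := (Finset.mem_filter.1 hV).2
    obtain ⟨k, hk⟩ := (Finset.mem_filter.1 hW).2
    refine Finset.mem_filter.2 ⟨Finset.mem_univ _, k * g, ?_⟩
    rw [hk, hg, Subgroup.map_map]
    congr 1
    ext x
    simp [mul_assoc]
  have hpos : 0 < Nat.card P2 := Nat.card_pos
  obtain ⟨V₁, -⟩ : ∃ V, V ∈ K := Finset.card_pos.1 (by omega)
  obtain ⟨V₂, -, h₂⟩ : ∃ V ∈ K, V ∉ O V₁ := by
    by_contra hc
    simp only [not_exists, not_and, not_not] at hc
    have := Finset.card_le_card (show K ⊆ O V₁ from fun V hV => hc V hV)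
    have := hO V₁
    omega
  refine ⟨V₁.1, V₂.1, V₁.2, V₂.2, fun h => h₂ (Finset.mem_filter.2 ⟨Finset.mem_univ _, h⟩), fun W hW => ?_⟩
  have hdisj : Disjoint (O V₁) (O V₂) := Finset.disjoint_left.2 fun U h1 h2' =>
    h₂ (htrans V₁ U V₂ h1 (hsymm V₂ U h2'))
  have hall : O V₁ ∪ O V₂ = K := Finset.eq_of_subset_of_card_le (Finset.subset_univ _) (by
    rw [Finset.card_union_of_disjoint hdisj]
    have := hO V₁
    have := hO V₂
    omega)
  have hm : (⟨W, hW⟩ : {V : Subgroup P2 // IsKleinFour V}) ∈ O V₁ ∪ O V₂ := by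
    rw [hall]; exact Finset.mem_univ _
  rcases Finset.mem_union.1 hm with h | h
  · exact Or.inl (Finset.mem_filter.1 h).2
  · exact Or.inr (Finset.mem_filter.1 h).2

theorem two_eq_zero_of_char (hc : ringChar F = 2) : (2 : F) = 0 := by
  have := CharP.cast_eq_zero F (ringChar F)
  rw [hc] at this
  simpa using this

theorem center_trivial (h0 : (2 : F) = 0) (g : S2) (hg : g ∈ Subgroup.center S2) : g = 1 := by
  rcases (mem_center_iff g).1 hg with e | e
  · exact e
  · rw [e]
    apply sl_ext
    rw [coe_negOne, coe_one']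
    have h11 : (1 : F) + 1 = 0 := by linear_combination h0
    rw [neg_eq_iff_add_eq_zero, show (1 : M2) + 1 = ((1 : F) + 1) • (1 : M2) by rw [add_smul, one_smul],
      h11, zero_smul]

theorem proj_injective_two (h0 : (2 : F) = 0) : Function.Injective (proj (F := F)) :=
  (injective_iff_map_eq_one _).2 fun g hg => center_trivial h0 g ((QuotientGroup.eq_one_iff g).1 hg)

theorem sq_eq_one_of_four (h0 : (2 : F) = 0) (g : S2) (hg : g ^ 4 = 1) : g ^ 2 = 1 := by
  have h := congrArg (fun x : S2 => (x : M2)) hg
  simp only [coe_pow'] at h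
  have hsq : (g : M2) * g = (g : M2).trace • (g : M2) - 1 := by rw [sq_eq, g.2, one_smul]
  set τ := (g : M2).trace
  by_cases hsc : ∃ a : F, (g : M2) = a • 1
  · obtain ⟨a, ha⟩ := hsc
    have := g.2
    rw [ha, Matrix.det_smul, Matrix.det_one, mul_one, Fintype.card_fin] at this
    apply sl_ext
    rw [coe_pow', ha, smul_pow, one_pow, this, one_smul, coe_one']
  · rw [show (4 : ℕ) = 2 * 2 from rfl, pow_mul, sq (g : M2), hsq, sq] at h
    have h' : (τ * τ * τ - 2 * τ) • (g : M2) + (1 - τ * τ) • (1 : M2) = (1 : M2) := by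
      rw [coe_one'] at h
      simp only [sub_mul, mul_sub, Matrix.smul_mul, Matrix.mul_smul, one_mul, mul_one, hsq] at h
      linear_combination (norm := module) h
    obtain ⟨h1, -⟩ := eq_of_nonscalar hsc (x := 1 - τ * τ) (y := τ * τ * τ - 2 * τ) (x' := 1) (y' := 0)
      (by rw [zero_smul, add_zero, one_smul, add_comm]; exact h')
    have hτ : τ = 0 := by
      have : τ * τ = 0 := by linear_combination -h1
      exact mul_self_eq_zero.1 this
    apply sl_ext
    rw [coe_pow', sq, hsq, hτ, zero_smul, zero_sub, coe_one', neg_eq_iff_add_eq_zero,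
      show (1 : M2) + 1 = ((1 : F) + 1) • (1 : M2) by rw [add_smul, one_smul],
      show (1 : F) + 1 = 0 by linear_combination h0, zero_smul]

theorem no_four_two (h0 : (2 : F) = 0) (x : P2) : orderOf x ≠ 4 := by
  obtain ⟨g, rfl⟩ := proj_surjective x
  rw [orderOf_injective proj (proj_injective_two h0)]
  intro h
  have hg : g ^ 4 = 1 := by
    have := pow_orderOf_eq_one g
    rwa [h] at this
  have := orderOf_dvd_of_pow_eq_one (sq_eq_one_of_four h0 g hg)
  rw [h] at this
  norm_num at this

/-- A vector fixed by an involution in characteristic two spans the fixed line. -/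
theorem fixed_line (h0 : (2 : F) = 0) {g : S2} (hg : g ≠ 1) (hg2 : g * g = 1) :
    ∃ v : Fin 2 → F, v ≠ 0 ∧ (g : M2) *ᵥ v = v ∧
      ∀ w, (g : M2) *ᵥ w = w → ∃ a : F, w = a • v := by
  set N : M2 := (g : M2) - 1 with hN
  have hN0 : N ≠ 0 := by
    rw [hN, sub_ne_zero]
    exact fun e => hg (sl_ext (e.trans coe_one'.symm))
  have hdet : N.det = 0 := by
    have hsq : N * N = 0 := by
      rw [hN]
      have hgg : (g : M2) * g = 1 := by rw [← coe_mul', hg2, coe_one']
      simp only [sub_mul, mul_sub, hgg, one_mul, mul_one]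
      have : (1 : M2) - (g : M2) - ((g : M2) - 1) = (2 : F) • (1 - (g : M2)) := by rw [two_smul]; abel
      rw [this, h0, zero_smul]
    have := congrArg Matrix.det hsq
    rw [Matrix.det_mul, Matrix.det_zero] at this
    exact mul_self_eq_zero.1 this
  obtain ⟨v, hv, hNv⟩ := Matrix.exists_mulVec_eq_zero_iff.2 hdet
  have hgv : ∀ w, N *ᵥ w = 0 ↔ (g : M2) *ᵥ w = w := fun w => by
    rw [hN, Matrix.sub_mulVec, Matrix.one_mulVec, sub_eq_zero]
  refine ⟨v, hv, (hgv v).1 hNv, fun w hw => ?_⟩
  by_contra hc
  simp only [not_exists] at hc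
  apply hN0
  have hli : LinearIndependent F ![v, w] :=
    (LinearIndependent.pair_iff' hv).2 fun a e => hc a e.symm
  have hbasis := hli.span_eq_top_of_card_eq_finrank (by simp)
  refine Matrix.toLin'.injective (LinearMap.ext_on_range hbasis fun i => ?_)
  fin_cases i
  · simpa [Matrix.toLin'_apply] using hNv
  · simpa [Matrix.toLin'_apply] using (hgv w).2 hw

/-- No tetrahedral subgroup when three does not divide `q - 1` in characteristic two. -/
theorem no_alt_four (h0 : (2 : F) = 0) (hcube : ∀ a : F, a ^ 3 = 1 → a = 1)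
    (f : alternatingGroup (Fin 4) →* P2) (hf : Function.Injective f) : False := by
  let a : alternatingGroup (Fin 4) := ⟨Equiv.swap 0 1 * Equiv.swap 2 3, by rw [Equiv.Perm.mem_alternatingGroup]; decide⟩
  let b : alternatingGroup (Fin 4) := ⟨Equiv.swap 0 2 * Equiv.swap 1 3, by rw [Equiv.Perm.mem_alternatingGroup]; decide⟩
  let c : alternatingGroup (Fin 4) := ⟨Equiv.swap 0 1 * Equiv.swap 0 2, by rw [Equiv.Perm.mem_alternatingGroup]; decide⟩
  obtain ⟨A, hA⟩ := proj_surjective (f a)
  obtain ⟨B, hB⟩ := proj_surjective (f b)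
  obtain ⟨C, hC⟩ := proj_surjective (f c)
  have hi := proj_injective_two h0
  have hA2 : A * A = 1 := hi (by rw [map_mul, hA, ← map_mul, map_one, show a * a = 1 from Subtype.ext (by decide), map_one])
  have hA1 : A ≠ 1 := fun e => by
    rw [e, map_one, eq_comm, ← map_one f] at hA
    exact absurd (congrArg Subtype.val (hf hA)) (by decide)
  have hC3 : C * C * C = 1 := hi (by rw [map_mul, map_mul, hC, ← map_mul, ← map_mul, map_one, show c * c * c = 1 from Subtype.ext (by decide), map_one])
  have hC1 : C ≠ 1 := fun e => by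
    rw [e, map_one, eq_comm, ← map_one f] at hC
    exact absurd (congrArg Subtype.val (hf hC)) (by decide)
  have hAB : A * B = B * A := hi (by rw [map_mul, map_mul, hA, hB, ← map_mul, ← map_mul, show a * b = b * a from Subtype.ext (by decide)])
  have hcc : (c * a * c⁻¹ = b ∨ c * a * c⁻¹ = a * b) := by
    first
      | exact Or.inl (Subtype.ext (by decide))
      | exact Or.inr (Subtype.ext (by decide))
  obtain ⟨v, hv, hAv, huniq⟩ := fixed_line h0 hA1 hA2
  have hBv : ∃ β : F, (B : M2) *ᵥ v = β • v := huniq _ (by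
    rw [mulVec_mulVec, ← coe_mul', hAB, coe_mul', ← mulVec_mulVec, hAv])
  obtain ⟨β, hβ⟩ := hBv
  have hβ1 : β = 1 := by
    have hB2 : B * B = 1 := hi (by rw [map_mul, hB, ← map_mul, map_one, show b * b = 1 from Subtype.ext (by decide), map_one])
    have h := congrArg (fun x : S2 => (x : M2) *ᵥ v) hB2
    simp only [coe_mul', coe_one', one_mulVec, ← mulVec_mulVec, hβ, mulVec_smul, smul_smul] at h
    have h3 : (β * β - 1) • v = 0 := by rw [sub_smul, h, one_smul, sub_self]
    have h4 := (smul_eq_zero.1 h3).resolve_right hv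
    have : (β - 1) * (β - 1) = 0 := by linear_combination h4 + (1 - β) * h0
    exact sub_eq_zero.1 (mul_self_eq_zero.1 this)
  rw [hβ1, one_smul] at hβ
  -- the element of order three fixes the common line
  have hCAv : ((C * A * C⁻¹ : S2) : M2) *ᵥ v = v := by
    have h : C * A * C⁻¹ = B ∨ C * A * C⁻¹ = A * B := hcc.imp
      (fun e => hi (by rw [map_mul, map_mul, map_inv, hC, hA, hB, ← map_inv, ← map_mul, ← map_mul, e]))
      (fun e => hi (by rw [map_mul, map_mul, map_inv, map_mul, hC, hA, hB, ← map_inv, ← map_mul, ← map_mul, e, map_mul]))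
    rcases h with e | e <;> rw [e]
    · exact hβ
    · rw [coe_mul', ← mulVec_mulVec, hβ, hAv]
  obtain ⟨κ, hκ⟩ : ∃ κ : F, ((C⁻¹ : S2) : M2) *ᵥ v = κ • v := huniq _ (by
    have h := congrArg (fun u => ((C⁻¹ : S2) : M2) *ᵥ u) hCAv
    simp only [coe_mul', ← mulVec_mulVec] at h
    rw [mulVec_mulVec _ ((C⁻¹ : S2) : M2) (C : M2), ← coe_mul', inv_mul_cancel, coe_one', one_mulVec] at h
    exact h)
  have hκ1 : κ = 1 := by
    refine hcube κ ?_
    have h := congrArg (fun x : S2 => (x : M2) *ᵥ v) (congrArg (·⁻¹) hC3)
    simp only [_root_.mul_inv_rev, inv_one, coe_mul', coe_one', one_mulVec, ← mulVec_mulVec, hκ, mulVec_smul, smul_smul] at h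
    have h3 : (κ * κ * κ - 1) • v = 0 := by rw [sub_smul, h, one_smul, sub_self]
    linear_combination (smul_eq_zero.1 h3).resolve_right hv
  rw [hκ1, one_smul] at hκ
  -- so its trace is two and it is an involution
  set D := ((C⁻¹ : S2) : M2) with hD
  have hdet0 : (D - 1).det = 0 :=
    Matrix.exists_mulVec_eq_zero_iff.1 ⟨v, hv, by rw [Matrix.sub_mulVec, hκ, one_mulVec, sub_self]⟩
  have htr : D.trace = 2 := by
    rw [Matrix.det_fin_two] at hdet0
    have := (C⁻¹ : S2).2
    rw [← hD, Matrix.det_fin_two] at this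
    simp at hdet0
    rw [Matrix.trace, Fin.sum_univ_two]
    simp only [Matrix.diag_apply]
    linear_combination -hdet0 + this
  have hinv2 : C⁻¹ * C⁻¹ = 1 := by
    apply sl_ext
    rw [coe_mul', sq_eq, ← hD, htr, h0, zero_smul, (C⁻¹ : S2).2, one_smul, coe_one', zero_sub,
      neg_eq_iff_add_eq_zero, show (1 : M2) + 1 = ((1 : F) + 1) • (1 : M2) by rw [add_smul, one_smul],
      show (1 : F) + 1 = 0 by linear_combination h0, zero_smul]
  apply hC1
  calc C = C * C * C * (C⁻¹ * C⁻¹) := by group
    _ = 1 := by rw [hC3, hinv2, one_mul]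

/-- A tetrahedral subgroup from a cube root of unity in characteristic two. -/
theorem exists_alt_four_two (h0 : (2 : F) = 0) {w : F} (hw : w ^ 3 = 1) (hw1 : w ≠ 1) :
    ∃ H : Subgroup P2, Nonempty (H ≃* alternatingGroup (Fin 4)) := by
  classical
  haveI : Finite P2 := Finite.of_surjective _ proj_surjective
  have hw0 : w ≠ 0 := fun e => by rw [e] at hw; norm_num at hw
  have hww : w * w + w + 1 = 0 := by
    have h : (w - 1) * (w * w + w + 1) = 0 := by linear_combination hw
    exact (mul_eq_zero.1 h).resolve_left (sub_ne_zero.2 hw1)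
  let E : Set F := {0, 1, w, w * w}
  have hneg : ∀ x : F, -x = x := fun x => by linear_combination -x * h0
  have hadd : ∀ x ∈ E, ∀ y ∈ E, x + y ∈ E := by
    intro x hx y hy
    simp only [E, Set.mem_insert_iff, Set.mem_singleton_iff] at hx hy ⊢
    rcases hx with e | e | e | e <;> rcases hy with e' | e' | e' | e' <;> rw [e, e'] <;>
      first
        | (left; linear_combination h0; done)
        | (left; linear_combination w * h0; done)
        | (left; linear_combination w * w * h0; done)
        | (right; left; ring1)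
        | (right; right; left; ring1)
        | (right; right; right; ring1)
        | (right; left; linear_combination hww - h0; done)
        | (right; right; left; linear_combination hww - w * h0; done)
        | (right; right; right; linear_combination hww - w * w * h0; done)
        | (left; ring1)
  have hmul : ∀ x ∈ E, ∀ y ∈ E, x * y ∈ E := by
    intro x hx y hy
    simp only [E, Set.mem_insert_iff, Set.mem_singleton_iff] at hx hy ⊢
    rcases hx with e | e | e | e <;> rcases hy with e' | e' | e' | e' <;> rw [e, e'] <;>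
      first
        | (left; ring1)
        | (right; left; ring1)
        | (right; left; linear_combination hw; done)
        | (right; right; left; ring1)
        | (right; right; left; linear_combination w * hw; done)
        | (right; right; right; ring1)
  -- pairs `(a, b)` give the matrices `[[a, b], [0, a⁻¹]]`
  let K : Subgroup S2 :=
    { carrier := {g | (g : M2) 1 0 = 0 ∧ ((g : M2) 0 0 = 1 ∨ (g : M2) 0 0 = w ∨ (g : M2) 0 0 = w * w) ∧
        (g : M2) 0 1 ∈ E ∧ (g : M2) 0 0 * (g : M2) 1 1 = 1}
      one_mem' := by simp [E]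
      mul_mem' := by
        rintro g h ⟨g10, g00, g01, gd⟩ ⟨h10, h00, h01, hd⟩
        have hg11 : (g : M2) 1 1 ∈ E ∧ (h : M2) 1 1 ∈ E := by
          constructor
          · simp only [E, Set.mem_insert_iff, Set.mem_singleton_iff]
            rcases g00 with e | e | e <;> rw [e] at gd
            · right; left; linear_combination gd
            · right; right; right; linear_combination (w * w) * gd - (g : M2) 1 1 * hw
            · right; right; left; linear_combination w * gd - (g : M2) 1 1 * hw
          · simp only [E, Set.mem_insert_iff, Set.mem_singleton_iff]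
            rcases h00 with e | e | e <;> rw [e] at hd
            · right; left; linear_combination hd
            · right; right; right; linear_combination (w * w) * hd - (h : M2) 1 1 * hw
            · right; right; left; linear_combination w * hd - (h : M2) 1 1 * hw
        have hg00 : (g : M2) 0 0 ∈ E := by
          rcases g00 with e | e | e <;> simp [E, e]
        refine ⟨?_, ?_, ?_, ?_⟩
        · simp [coe_mul', Matrix.mul_apply, Fin.sum_univ_two, g10, h10]
        · simp only [coe_mul', Matrix.mul_apply, Fin.sum_univ_two, h10, mul_zero, add_zero]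
          rcases g00 with e | e | e <;> rcases h00 with e' | e' | e' <;> rw [e, e'] <;>
            first
              | (left; linear_combination hw; done)
              | (left; ring1)
              | (right; left; ring1)
              | (right; left; linear_combination w * hw; done)
              | (right; right; ring1)
        · simp only [coe_mul', Matrix.mul_apply, Fin.sum_univ_two]
          exact hadd _ (hmul _ hg00 _ h01) _ (hmul _ g01 _ hg11.2)
        · simp only [coe_mul', Matrix.mul_apply, Fin.sum_univ_two, g10, h10, mul_zero, zero_mul, add_zero, zero_add]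
          linear_combination ((h : M2) 0 0 * (h : M2) 1 1) * gd + hd
      inv_mem' := by
        rintro g ⟨g10, g00, g01, gd⟩
        have hinv : ((g⁻¹ : S2) : M2) = Matrix.adjugate (g : M2) := rfl
        refine ⟨?_, ?_, ?_, ?_⟩ <;>
          simp only [hinv, Matrix.adjugate_fin_two, Matrix.of_apply, Matrix.cons_val', Matrix.cons_val_zero,
            Matrix.cons_val_one, Matrix.empty_val', Matrix.cons_val_fin_one]
        · rw [g10, neg_zero]
        · rcases g00 with e | e | e <;> rw [e] at gd
          · left; linear_combination gd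
          · right; right; linear_combination (w * w) * gd - (g : M2) 1 1 * hw
          · right; left; linear_combination w * gd - (g : M2) 1 1 * hw
        · rw [hneg]; exact g01
        · linear_combination gd }
  have hcard : Nat.card K = 12 := by
    have e : K ≃ ({1, w, w * w} : Set F) × E :=
      { toFun := fun g => (⟨((g : S2) : M2) 0 0, g.2.2.1⟩, ⟨((g : S2) : M2) 0 1, g.2.2.2.1⟩)
        invFun := fun p => ⟨⟨!![p.1.1, p.2.1; 0, p.1.1⁻¹], by
            rw [Matrix.det_fin_two_of, mul_zero, sub_zero, mul_inv_cancel₀]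
            rcases p.1.2 with e | e | e <;> rw [e]
            · exact one_ne_zero
            · exact hw0
            · exact mul_ne_zero hw0 hw0⟩, rfl, p.1.2, p.2.2, by
            show p.1.1 * p.1.1⁻¹ = 1
            rw [mul_inv_cancel₀]
            rcases p.1.2 with e | e | e <;> rw [e]
            · exact one_ne_zero
            · exact hw0
            · exact mul_ne_zero hw0 hw0⟩
        left_inv := fun g => by
          refine Subtype.ext (sl_ext ?_)
          obtain ⟨g10, -, -, gd⟩ := g.2
          apply coord <;> simp [g10]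
          exact (eq_inv_of_mul_eq_one_right gd).symm
        right_inv := fun p => by simp }
    have hww1 : w * w ≠ 1 := fun e => hw1 (by linear_combination hw - w * e)
    have hwne : w ≠ w * w := fun e => hw1 (mul_left_cancel₀ hw0 (by rw [← e, mul_one]))
    rw [Nat.card_congr e, Nat.card_prod, Nat.card_coe_set_eq, Nat.card_coe_set_eq]
    have h3 : ({1, w, w * w} : Set F).ncard = 3 := by
      rw [Set.ncard_insert_of_notMem (by simp [Ne.symm hw1, Ne.symm hww1]), Set.ncard_pair hwne]
    have h4 : E.ncard = 4 := by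
      rw [show E = insert (0 : F) {1, w, w * w} from rfl,
        Set.ncard_insert_of_notMem (by simpa [eq_comm] using hw0), h3]
    rw [h3, h4]
  let H := K.map (proj (F := F))
  let eK : K ≃* H := K.equivMapOfInjective _ (proj_injective_two h0)
  refine ⟨H, ?_⟩
  refine nonempty_alt_four (by rw [← Nat.card_congr eK.toEquiv, hcard]) fun x hx => ?_
  obtain ⟨g, rfl⟩ := eK.surjective x
  rw [MulEquiv.orderOf_eq, ← Subgroup.orderOf_coe] at hx
  -- in characteristic two the cube of a triangular element of order six is unitriangular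
  obtain ⟨g10, g00, -, gd⟩ := g.2
  by_cases h1 : ((g : S2) : M2) 0 0 = 1
  · have hg2 : (g : S2) * (g : S2) = 1 := by
      apply sl_ext
      rw [h1, one_mul] at gd
      rw [coe_mul', coe_one']
      apply coord <;> simp [Matrix.mul_apply, Fin.sum_univ_two, h1, g10, gd]
      linear_combination ((g : S2) : M2) 0 1 * h0
    have := orderOf_dvd_of_pow_eq_one (show (g : S2) ^ 2 = 1 by rw [sq]; exact hg2)
    rw [hx] at this
    norm_num at this
  · have htr : ((g : S2) : M2).trace = 1 := by
      rw [Matrix.trace, Fin.sum_univ_two]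
      simp only [Matrix.diag_apply]
      rcases g00 with e | e | e
      · exact absurd e h1
      · rw [e] at gd ⊢
        linear_combination (w * w) * gd - ((g : S2) : M2) 1 1 * hw + hww - h0
      · rw [e] at gd ⊢
        linear_combination w * gd - ((g : S2) : M2) 1 1 * hw + hww - h0
    have hg3 : (g : S2) ^ 3 = 1 := by
      apply sl_ext
      have hh := sq_eq ((g : S2) : M2)
      rw [htr, (g : S2).2, one_smul, one_smul] at hh
      rw [coe_pow', pow_succ, sq, hh, Matrix.sub_mul, one_mul, hh, coe_one', sub_sub_cancel_left,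
        neg_eq_iff_add_eq_zero, show (1 : M2) + 1 = ((1 : F) + 1) • (1 : M2) by rw [add_smul, one_smul],
        show (1 : F) + 1 = 0 by linear_combination h0, zero_smul]
    have := orderOf_dvd_of_pow_eq_one hg3
    rw [hx] at this
    norm_num at this

end Cfsg.Agent.Classical.SL2Two
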