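import Cfsg.Agent.Lib.Classical.DicksonCases
import Cfsg.Agent.Lib.Classical.FieldFour
import Cfsg.Agent.Lib.Classical.SL2Char2

/-!
Dickson's classification for `PSL₂` over a finite field.
-/

set_option autoImplicit false
set_option linter.style.haveILetI false
set_option linter.unusedSectionVars false

open scoped MatrixGroups Pointwise Classical
open Matrix OnePoint

noncomputable section

namespace Cfsg.Agent.Classical.Dickson

variable {F : Type*} [Field F]

/-- Change of field on projective linear groups. -/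
theorem pgl_congr {K L : Type*} [Field K] [Field L] (e : K ≃+* L) :
    Nonempty (Matrix.ProjGenLinGroup (Fin 2) K ≃* Matrix.ProjGenLinGroup (Fin 2) L) :=
  ⟨MonoidHom.toMulEquiv (ProjGenLinGroup.map (e : K →+* L)) (ProjGenLinGroup.map (e.symm : L →+* K))
    (by rw [← ProjGenLinGroup.map_comp]; simp) (by rw [← ProjGenLinGroup.map_comp]; simp)⟩

/-- `PSL₂(F)` inside `PGL₂` of the algebraic closure. -/
def emb : Matrix.ProjectiveSpecialLinearGroup (Fin 2) F →* PGL(2, AlgebraicClosure F) :=
  (ProjGenLinGroup.map (algebraMap F (AlgebraicClosure F))).comp ProjectiveSpecialLinearGroup.toPGL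

theorem emb_injective : Function.Injective (emb (F := F)) := by
  classical
  exact (map_injective (algebraMap F (AlgebraicClosure F))).comp ProjectiveSpecialLinearGroup.toPGL_injective

variable [Fintype F]

/-- Orders prime to the characteristic. -/
theorem orderOf_dvd_psl (p : ℕ) [Fact p.Prime] [CharP F p]
    (g : Matrix.ProjectiveSpecialLinearGroup (Fin 2) F) (hg : (orderOf g).Coprime p) :
    orderOf g ∣ (Fintype.card F + 1) / Nat.gcd 2 (Fintype.card F - 1) ∨
      orderOf g ∣ (Fintype.card F - 1) / Nat.gcd 2 (Fintype.card F - 1) := by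
  classical
  obtain ⟨g, rfl⟩ := QuotientGroup.mk_surjective g
  set n := orderOf (QuotientGroup.mk g : Matrix.ProjectiveSpecialLinearGroup (Fin 2) F) with hn
  have hnz : g ^ n ∈ Subgroup.center (SpecialLinearGroup (Fin 2) F) := by
    rw [← QuotientGroup.eq_one_iff, QuotientGroup.mk_pow, hn, pow_orderOf_eq_one]
  have hdvd : ∀ a : SpecialLinearGroup (Fin 2) F, (QuotientGroup.mk a : Matrix.ProjectiveSpecialLinearGroup (Fin 2) F) = QuotientGroup.mk g →
      n ∣ orderOf a := fun a ha => by
    rw [hn, ← ha]; exact orderOf_map_dvd (QuotientGroup.mk' _) a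
  by_cases h2 : (2 : F) = 0
  · have hd : Nat.gcd 2 (Fintype.card F - 1) = 1 := by
      have heven : Fintype.card F % 2 = 0 :=
        (FiniteField.even_card_iff_char_two (F := F)).1 (CharP.ringChar_of_prime_eq_zero Nat.prime_two (by exact_mod_cast h2))
      have := Fintype.one_lt_card (α := F)
      rcases (Nat.dvd_prime Nat.prime_two).1 (Nat.gcd_dvd_left 2 (Fintype.card F - 1)) with h | h
      · exact h
      · have h' := Nat.gcd_dvd_right 2 (Fintype.card F - 1)
        rw [h] at h'
        omega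
    rw [hd, Nat.div_one, Nat.div_one]
    have hgo : orderOf g = n := Nat.dvd_antisymm
      (orderOf_dvd_of_pow_eq_one (SL2Two.center_trivial h2 _ hnz)) (hdvd g rfl)
    rw [← hgo]
    rcases SL2.pow_pred_or_succ p g (hgo ▸ hg) with h | h
    · exact Or.inr (orderOf_dvd_of_pow_eq_one h)
    · exact Or.inl (orderOf_dvd_of_pow_eq_one h)
  · have hp2 : p ≠ 2 := fun e => h2 (by subst e; exact_mod_cast CharP.cast_eq_zero F 2)
    have hnpos : 0 < n := orderOf_pos _
    have hnd : ¬ (orderOf (QuotientGroup.mk g : Matrix.ProjectiveSpecialLinearGroup (Fin 2) F) = 0) := by omega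
    obtain ⟨a, ha, han⟩ : ∃ a : SpecialLinearGroup (Fin 2) F,
        (QuotientGroup.mk a : Matrix.ProjectiveSpecialLinearGroup (Fin 2) F) = QuotientGroup.mk g ∧
          a ^ n = SL2Two.negOne := by
      rcases (SL2Two.mem_center_iff _).1 hnz with e | e
      · rcases Nat.even_or_odd n with ⟨k, hk⟩ | ho
        · exfalso
          have hk1 : g ^ k * g ^ k = 1 := by rw [← pow_add, ← hk, e]
          have hmk : (QuotientGroup.mk (g ^ k) : Matrix.ProjectiveSpecialLinearGroup (Fin 2) F) = 1 := by
            rw [QuotientGroup.eq_one_iff, SL2Two.mem_center_iff]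
            exact (SL2Two.sq_eq_one_iff h2 _).1 hk1
          rw [QuotientGroup.mk_pow] at hmk
          have := Nat.le_of_dvd (by omega) (orderOf_dvd_of_pow_eq_one hmk)
          omega
        · refine ⟨g * SL2Two.negOne, ?_, ?_⟩
          · rw [QuotientGroup.mk_mul_of_mem _ ((SL2Two.mem_center_iff _).2 (Or.inr rfl))]
          · obtain ⟨k, hk⟩ := ho
            have hcomm : Commute g SL2Two.negOne := (SL2Two.negOne_comm h2 g).symm
            rw [hcomm.mul_pow, e, one_mul, hk, pow_succ, pow_mul, pow_two, SL2Two.negOne_mul_self h2,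
              one_pow, one_mul]
      · exact ⟨g, rfl, e⟩
    have hao : orderOf a = 2 * n := by
      have h1 : orderOf a ∣ 2 * n := orderOf_dvd_of_pow_eq_one (by
        rw [mul_comm, pow_mul, han, pow_two, SL2Two.negOne_mul_self h2])
      obtain ⟨k, hk⟩ := hdvd a ha
      rw [hk, mul_comm n k] at h1
      rcases (Nat.dvd_prime Nat.prime_two).1 (Nat.dvd_of_mul_dvd_mul_right hnpos h1) with e | e
      · exfalso
        rw [e, mul_one] at hk
        rw [← hk, pow_orderOf_eq_one] at han
        exact SL2Two.negOne_ne_one h2 han.symm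
      · rw [hk, e, mul_comm]
    have hcop : (orderOf a).Coprime p := by
      rw [hao]
      exact Nat.Coprime.mul_left ((Nat.coprime_primes Nat.prime_two Fact.out).2 hp2.symm) hg
    have hodd : Fintype.card F % 2 = 1 :=
      FiniteField.odd_card_of_char_ne_two (by rwa [ringChar.eq F p])
    have hd : Nat.gcd 2 (Fintype.card F - 1) = 2 := Nat.gcd_eq_left (by omega)
    rw [hd]
    rcases SL2.pow_pred_or_succ p a hcop with h | h
    · right
      have h' := orderOf_dvd_of_pow_eq_one h
      rw [hao] at h'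
      exact Nat.dvd_div_of_mul_dvd h'
    · left
      have h' := orderOf_dvd_of_pow_eq_one h
      rw [hao] at h'
      exact Nat.dvd_div_of_mul_dvd h'

section rational

variable (p : ℕ) [Fact p.Prime] [CharP F p]

local notation "KK" => AlgebraicClosure F

include p in
theorem exists_sigma : ∃ σ : KK →+* KK, ∀ k, σ k = k ^ Fintype.card F := by
  haveI : CharP KK p := charP_of_injective_algebraMap (algebraMap F KK).injective p
  obtain ⟨n, -, hn⟩ := SL2.exists_card_eq (F := F) p
  exact ⟨iterateFrobenius KK p n, fun k => by rw [iterateFrobenius_def, hn]⟩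

theorem mem_range_of_pow_card {k : KK} (h : k ^ Fintype.card F = k) : ∃ a : F, algebraMap F KK a = k := by
  classical
  let P : Polynomial KK := Polynomial.X ^ Fintype.card F - Polynomial.X
  have hd : P.natDegree = Fintype.card F :=
    FiniteField.X_pow_card_sub_X_natDegree_eq KK Fintype.one_lt_card
  have hP : P ≠ 0 := FiniteField.X_pow_card_sub_X_ne_zero KK Fintype.one_lt_card
  let S : Finset KK := Finset.univ.map ⟨algebraMap F KK, (algebraMap F KK).injective⟩
  have hS : S.val ⊆ P.roots := by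
    intro z hz
    obtain ⟨a, -, rfl⟩ := Finset.mem_map.1 hz
    rw [Polynomial.mem_roots hP]
    simp [P, ← map_pow, FiniteField.pow_card]
  by_contra hne
  have hk : k ∉ S := fun hk => by
    obtain ⟨a, -, e⟩ := Finset.mem_map.1 hk
    exact hne ⟨a, e⟩
  have hsub : insert k S ⊆ P.roots.toFinset := by
    intro z hz
    rw [Multiset.mem_toFinset]
    rcases Finset.mem_insert.1 hz with rfl | hz
    · rw [Polynomial.mem_roots hP]; simp [P, h]
    · exact hS hz
  have h1 := (Finset.card_le_card hsub).trans ((Multiset.toFinset_card_le _).trans (Polynomial.card_roots' P))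
  rw [Finset.card_insert_of_notMem hk, Finset.card_map, Finset.card_univ, hd] at h1
  omega

theorem sigma_emb {σ : KK →+* KK} (hσ : ∀ k, σ k = k ^ Fintype.card F)
    (g : Matrix.ProjectiveSpecialLinearGroup (Fin 2) F) :
    ProjGenLinGroup.map σ (emb g) = emb g := by
  have hcomp : σ.comp (algebraMap F KK) = algebraMap F KK := RingHom.ext fun a => by
    rw [RingHom.comp_apply, hσ, ← map_pow, FiniteField.pow_card]
  show ProjGenLinGroup.map σ (ProjGenLinGroup.map (algebraMap F KK) _) = _
  rw [← MonoidHom.comp_apply, ← ProjGenLinGroup.map_comp, hcomp]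
  rfl

/-- Points of a non-trivial translation group are fixed by Frobenius, with their orbit. -/
theorem sigma_orb {σ : KK →+* KK} (hσ : ∀ k, σ k = k ^ Fintype.card F)
    (G : Subgroup (PGL(2, KK))) (hG : G ≤ (emb (F := F)).range) [Finite G] {x : OnePoint KK}
    (hq : 1 < qOf G x) : ∀ z ∈ orb G x, OnePoint.map σ z = z := by
  have hx : OnePoint.map σ x = x := by
    haveI : Nontrivial (tr G x) := Finite.one_lt_card_iff_nontrivial.1 hq
    obtain ⟨⟨g, hgG, hgx⟩, hg⟩ := exists_ne (1 : tr G x)
    have hg1 : g ≠ 1 := fun e => hg (Subtype.ext e)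
    obtain ⟨a, rfl⟩ := hG hgG
    refine (hgx.2 _ ?_).resolve_right hg1
    conv_lhs => rw [← sigma_emb hσ a, ← map_smul_point, hgx.1]
  rintro z ⟨g, hg, rfl⟩
  obtain ⟨a, rfl⟩ := hG hg
  show OnePoint.map σ (emb a • x) = emb a • x
  rw [map_smul_point, sigma_emb hσ, hx]

include p in
/-- The field of a field-case subgroup lies in `F`. -/
theorem exists_hom (G : Subgroup (PGL(2, KK))) (hG : G ≤ (emb (F := F)).range) [Finite G]
    {x : OnePoint KK} (hq : 1 < qOf G x) {K₀ : Subfield KK} {c : PGL(2, KK)} (hc : c • x = ∞)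
    (hline : ∀ k ∈ K₀, ∃ z ∈ orb G x, c • z = (k : OnePoint KK)) :
    ∃ f : K₀ →+* F, True := by
  obtain ⟨σ, hσ⟩ := exists_sigma (F := F) p
  have horb := sigma_orb hσ G hG hq
  obtain ⟨y, hy, hy'⟩ := hline 0 (zero_mem _)
  obtain ⟨w, hw, hw'⟩ := hline 1 (one_mem _)
  set c' := ProjGenLinGroup.map σ c with hc'def
  have key : ∀ z ∈ orb G x, c' • z = OnePoint.map σ (c • z) := fun z hz => by
    rw [map_smul_point, horb z hz]
  have hcc : c⁻¹ * c' = 1 := by
    refine eq_one_of_fix_three (x := x) (y := y) (z := w) ?_ ?_ ?_ ?_ ?_ ?_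
    · intro e; rw [e, hy'] at hc; exact coe_ne_infty _ hc
    · intro e; rw [e, hw'] at hc; exact coe_ne_infty _ hc
    · intro e; rw [e, hw'] at hy'; exact one_ne_zero (coe_eq_coe.1 hy')
    · rw [mul_smul, key x (self_mem_orb G x), hc, OnePoint.map_infty, ← hc, inv_smul_smul]
    · rw [mul_smul, key y hy, hy', OnePoint.map_some, map_zero, ← hy', inv_smul_smul]
    · rw [mul_smul, key w hw, hw', OnePoint.map_some, map_one, ← hw', inv_smul_smul]
  have hfix : ∀ k ∈ K₀, k ∈ (algebraMap F KK).fieldRange := by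
    intro k hk
    obtain ⟨z, hz, hz'⟩ := hline k hk
    have h1 := key z hz
    rw [← inv_mul_eq_one.1 hcc, hz', OnePoint.map_some, coe_eq_coe, hσ] at h1
    exact mem_range_of_pow_card (F := F) h1.symm
  let φ : F ≃+* (algebraMap F KK).fieldRange :=
    RingEquiv.ofBijective (algebraMap F KK).rangeRestrictField
      ⟨fun a b e => (algebraMap F KK).injective (congrArg Subtype.val e), fun ⟨_, a, rfl⟩ => ⟨a, rfl⟩⟩
  exact ⟨(φ.symm : (algebraMap F KK).fieldRange →+* F).comp (Subfield.inclusion hfix), trivial⟩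

end rational

/-- Dickson's classification. -/
theorem dickson (p : ℕ) [Fact p.Prime] [CharP F p]
    (H : Subgroup (Matrix.ProjectiveSpecialLinearGroup (Fin 2) F)) :
    (∃ k : ℕ, (k ∣ (Fintype.card F + 1) / Nat.gcd 2 (Fintype.card F - 1) ∨
        k ∣ (Fintype.card F - 1) / Nat.gcd 2 (Fintype.card F - 1)) ∧
      ((IsCyclic H ∧ Nat.card H = k) ∨ Nonempty (H ≃* DihedralGroup k))) ∨
    (∃ P : Sylow p (Matrix.ProjectiveSpecialLinearGroup (Fin 2) F),
      H ≤ Subgroup.normalizer ((P : Subgroup (Matrix.ProjectiveSpecialLinearGroup (Fin 2) F)) :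
        Set (Matrix.ProjectiveSpecialLinearGroup (Fin 2) F))) ∨
    Nonempty (H ≃* alternatingGroup (Fin 4)) ∨ Nonempty (H ≃* Equiv.Perm (Fin 4)) ∨
    Nonempty (H ≃* alternatingGroup (Fin 5)) ∨
    (∃ (K : Type) (_ : Field K) (_ : Fintype K) (m : ℕ), Fintype.card K ^ m = Fintype.card F ∧
      3 ≤ Fintype.card K ∧ CharP K p ∧
      (Nonempty (H ≃* Matrix.ProjGenLinGroup (Fin 2) K) ∨
        Odd (Fintype.card K) ∧ Nonempty (H ≃* Matrix.ProjectiveSpecialLinearGroup (Fin 2) K))) := by
  haveI : CharP (AlgebraicClosure F) p :=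
    charP_of_injective_algebraMap (algebraMap F (AlgebraicClosure F)).injective p
  set G := H.map (emb (F := F)) with hG
  let eH : H ≃* G := H.equivMapOfInjective _ emb_injective
  haveI : Finite G := Finite.of_equiv _ eH.toEquiv
  have hdvd : ∀ (x : OnePoint (AlgebraicClosure F)), qOf G x = 1 →
      Nat.card (st G x) ∣ (Fintype.card F + 1) / Nat.gcd 2 (Fintype.card F - 1) ∨
        Nat.card (st G x) ∣ (Fintype.card F - 1) / Nat.gcd 2 (Fintype.card F - 1) := by
    intro x hx
    haveI := isCyclic_st G hx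
    obtain ⟨⟨g, hg⟩, hgo⟩ := IsCyclic.exists_ofOrder_eq_natCard (α := st G x)
    rw [Subgroup.orderOf_mk] at hgo
    obtain ⟨a, ha, rfl⟩ := hg.1
    rw [orderOf_injective emb emb_injective] at hgo
    rw [← hgo]
    refine orderOf_dvd_psl p a ?_
    rw [hgo, card_st, hx, one_mul]
    exact ((Nat.Prime.coprime_iff_not_dvd Fact.out).2 (not_dvd_eOf G x)).symm
  rcases Nat.lt_or_ge (Nat.card G) 2 with hlt | h2
  · left
    have h1 : Nat.card H = 1 := by
      rw [Nat.card_congr eH.toEquiv]
      have := Nat.card_pos (α := G); omega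
    haveI := (Nat.card_eq_one_iff_unique.1 h1).1
    exact ⟨1, Or.inl (one_dvd _), Or.inl ⟨isCyclic_of_subsingleton, h1⟩⟩
  rcases classify G p h2 with ⟨x, hx⟩ | ⟨x, hq, -, ⟨e⟩⟩ | ⟨-, -, ⟨e⟩⟩ | ⟨-, -, ⟨e⟩⟩ | ⟨-, -, ⟨e⟩⟩ | ⟨x, K₀, hq3, hK₀, ⟨c, hc, hline, -⟩, hcase⟩
  · by_cases hq : qOf G x = 1
    · left
      refine ⟨Nat.card (st G x), hdvd x hq, Or.inl ⟨?_, ?_⟩⟩
      · haveI := isCyclic_st G hq
        haveI : IsCyclic G := hx ▸ (inferInstance : IsCyclic (st G x))
        exact isCyclic_of_surjective eH.symm.toMonoidHom eH.symm.surjective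
      · rw [hx]; exact Nat.card_congr eH.toEquiv
    · right; left
      set G₀ := (emb (F := F)).range with hG₀
      haveI : Finite G₀ := Finite.of_equiv _ (MonoidHom.ofInjective emb_injective).toEquiv
      have hle : G ≤ G₀ := by rintro _ ⟨a, -, rfl⟩; exact ⟨a, rfl⟩
      set P₀ := (tr G₀ x).comap (emb (F := F)) with hP₀
      have hP : IsPGroup p P₀ := fun g => ⟨1, by
        rw [pow_one]
        exact Subtype.ext (emb_injective (by
          rw [Subgroup.coe_pow, map_pow, Subgroup.coe_one, map_one]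
          exact pow_char_of_isTr g.2.2))⟩
      obtain ⟨Q, hQ⟩ := hP.exists_le_sylow
      haveI : Nontrivial (tr G x) := Finite.one_lt_card_iff_nontrivial.1 (by
        have := qOf_pos G x; unfold qOf at hq this; omega)
      obtain ⟨⟨t, htG, htx⟩, ht⟩ := exists_ne (1 : tr G x)
      have ht1 : t ≠ 1 := fun e => ht (Subtype.ext e)
      obtain ⟨a, haH, rfl⟩ := htG
      have haQ : a ∈ (Q : Subgroup (Matrix.ProjectiveSpecialLinearGroup (Fin 2) F)) := hQ ⟨⟨a, rfl⟩, htx⟩
      -- every non-trivial element of a `p`-subgroup fixes a single point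
      have hone : ∀ g ∈ (Q : Subgroup (Matrix.ProjectiveSpecialLinearGroup (Fin 2) F)), ∀ y : OnePoint (AlgebraicClosure F), emb g • y = y →
          emb g ∈ tr G₀ y := by
        intro g hg y hy
        have hmem : emb g ∈ st G₀ y := ⟨⟨g, rfl⟩, hy⟩
        rcases orderOf_cases G₀ (p := p) hmem with ⟨-, h⟩ | h
        · exact h
        · obtain ⟨k, hk⟩ := IsPGroup.iff_orderOf.1 Q.isPGroup' ⟨g, hg⟩
          rw [Subgroup.orderOf_mk] at hk
          rw [orderOf_injective emb emb_injective, hk] at h
          rcases k with _ | k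
          · rw [pow_zero, orderOf_eq_one_iff] at hk
            rw [hk, map_one]; exact one_mem _
          · exact absurd ((dvd_pow_self p k.succ_ne_zero).trans h) (not_dvd_eOf G₀ y)
      have hfix : ∀ g ∈ (Q : Subgroup (Matrix.ProjectiveSpecialLinearGroup (Fin 2) F)), emb g • x = x := by
        haveI : Nontrivial (Q : Subgroup (Matrix.ProjectiveSpecialLinearGroup (Fin 2) F)) :=
          ⟨⟨⟨a, haQ⟩, 1, fun e => ht1 (by rw [show a = 1 from congrArg Subtype.val e, map_one])⟩⟩
        haveI := Q.isPGroup'.center_nontrivial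
        obtain ⟨⟨⟨z, hzQ⟩, hzc⟩, hz1⟩ := exists_ne (1 : Subgroup.center (Q : Subgroup (Matrix.ProjectiveSpecialLinearGroup (Fin 2) F)))
        have hz1' : emb z ≠ 1 := fun e => hz1 (Subtype.ext (Subtype.ext (emb_injective (e.trans (map_one _).symm))))
        have hcomm : ∀ g ∈ (Q : Subgroup (Matrix.ProjectiveSpecialLinearGroup (Fin 2) F)), emb g * emb z = emb z * emb g := fun g hg => by
          rw [← map_mul, ← map_mul]
          exact congrArg emb (congrArg Subtype.val (Subgroup.mem_center_iff.1 hzc ⟨g, hg⟩))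
        obtain ⟨y, hy⟩ := exists_fixed (emb z)
        have hzy := hone z hzQ y hy
        have hxy : x = y := by
          have hzx : emb z • x = x := by
            refine (htx.2 _ ?_).resolve_right ht1
            rw [← mul_smul, hcomm a haQ, mul_smul, htx.1]
          exact (hzy.2.2 x hzx).resolve_right hz1'
        intro g hg
        rw [hxy]
        refine (hzy.2.2 _ ?_).resolve_right hz1'
        rw [← mul_smul, ← hcomm g hg, mul_smul, hy]
      have hQeq : (Q : Subgroup (Matrix.ProjectiveSpecialLinearGroup (Fin 2) F)) = P₀ :=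
        le_antisymm (fun g hg => hone g hg x (hfix g hg)) hQ
      refine ⟨Q, fun h hh => ?_⟩
      rw [hQeq, Subgroup.mem_normalizer_iff_map_conj_eq]
      have hhx : emb h • x = x := by
        have : emb h ∈ st G x := by rw [hx]; exact ⟨h, hh, rfl⟩
        exact this.2
      have hconj := conj_tr G₀ (emb h) x
      rw [hhx, map_conj_self G₀ ⟨h, rfl⟩] at hconj
      ext g
      rw [hP₀, Subgroup.mem_comap, hconj]
      constructor
      · rintro ⟨k, hk, rfl⟩
        exact ⟨emb k, hconj ▸ hk, by simp⟩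
      · rintro ⟨k, hk, e⟩
        obtain ⟨k', rfl⟩ := hk.1
        refine ⟨k', ?_, emb_injective ?_⟩
        · rw [SetLike.mem_coe, Subgroup.mem_comap]
          rw [← hconj]; exact hk
        · simpa using e
  · left
    exact ⟨Nat.card (st G x), hdvd x hq, Or.inr ⟨eH.trans e⟩⟩
  · exact Or.inr (Or.inr (Or.inl ⟨eH.trans e⟩))
  · exact Or.inr (Or.inr (Or.inr (Or.inl ⟨eH.trans e⟩)))
  · exact Or.inr (Or.inr (Or.inr (Or.inr (Or.inl ⟨eH.trans e⟩))))
  · right; right; right; right; right
    obtain ⟨f, -⟩ := exists_hom p G (by rintro _ ⟨a, -, rfl⟩; exact ⟨a, rfl⟩)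
      (by omega) hc hline
    haveI : Finite K₀ := Finite.of_injective f f.injective
    haveI := Fintype.ofFinite K₀
    letI := f.toAlgebra
    obtain ⟨n, hn⟩ : ∃ n, Fintype.card F = Fintype.card K₀ ^ n := ⟨_, Module.card_eq_pow_finrank⟩
    haveI : CharP K₀ p := charP_of_injective_ringHom (f := K₀.subtype) Subtype.val_injective p |> fun _ =>
      (RingHom.charP_iff K₀.subtype Subtype.val_injective p).2 inferInstance
    obtain ⟨a, -, ha⟩ := FiniteField.card K₀ p
    have hGF : Nat.card (GaloisField p (a : ℕ)) = p ^ (a : ℕ) := GaloisField.card p _ a.ne_zero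
    haveI : Fintype (GaloisField p (a : ℕ)) := Fintype.ofFinite _
    have hGF' : Fintype.card K₀ = Fintype.card (GaloisField p (a : ℕ)) := by
      rw [← Nat.card_eq_fintype_card (α := GaloisField p (a : ℕ)), hGF, ha]
    let e₀ : K₀ ≃+* GaloisField p (a : ℕ) := FiniteField.ringEquivOfCardEq hGF'
    have hq0 : Fintype.card K₀ = qOf G x := by rw [← Nat.card_eq_fintype_card, hK₀]
    refine ⟨GaloisField p (a : ℕ), inferInstance, inferInstance, n, by rw [← hGF', hn],
      by rw [← hGF', hq0]; exact hq3, inferInstance, ?_⟩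
    rcases hcase with ⟨-, ⟨g⟩⟩ | ⟨he, ⟨g⟩⟩
    · exact Or.inl ⟨(eH.trans g).trans (pgl_congr e₀).some⟩
    · refine Or.inr ⟨?_, ⟨(eH.trans g).trans (psl_congr e₀).some⟩⟩
      rw [← hGF', hq0, Nat.odd_iff]
      have := eOf_pos G x
      omega

end Cfsg.Agent.Classical.Dickson
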