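import Cfsg.Agent.Lib.Classical.DicksonTools
import Cfsg.Agent.Lib.Classical.DicksonPSL

/-!
Centralizers in finite subgroups of `PGL₂`.
-/

set_option autoImplicit false
set_option linter.style.haveILetI false
set_option linter.unusedSectionVars false

open scoped MatrixGroups Pointwise Classical
open Matrix OnePoint

noncomputable section

namespace Cfsg.Agent.Classical.Dickson

section general

variable {K : Type*} [Field K] [DecidableEq K]

theorem fix_infty_zero {g : PGL(2, K)} (h₁ : g • (∞ : OnePoint K) = ∞)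
    (h₀ : g • ((0 : K) : OnePoint K) = ((0 : K) : OnePoint K)) : ∃ s : Kˣ, g = aff s 0 := by
  obtain ⟨s, a, rfl⟩ := exists_aff g h₁
  rw [aff_smul_coe, coe_eq_coe] at h₀
  exact ⟨s, by rw [show a = 0 by linear_combination h₀]⟩

theorem inv_swap_aff (s : Kˣ) :
    (ProjGenLinGroup.mk (invGL (1 : K) one_ne_zero)) * aff s 0 *
      (ProjGenLinGroup.mk (invGL (1 : K) one_ne_zero))⁻¹ = aff s⁻¹ 0 := by
  rw [mul_inv_eq_iff_eq_mul, aff, aff, ← map_mul, ← map_mul, ProjGenLinGroup.mk_eq_mk_iff]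
  refine ⟨Units.mk0 (s : K)⁻¹ (inv_ne_zero s.ne_zero), Units.ext ?_⟩
  ext i j
  fin_cases i <;> fin_cases j <;> simp [affGL_coe, invGL_coe, Matrix.mul_apply, Fin.sum_univ_two]

/-- An element exchanging two points inverts the elements fixing them. -/
theorem swap_inv {x y : OnePoint K} (hxy : x ≠ y) {g w : PGL(2, K)} (hx : g • x = x) (hy : g • y = y)
    (hwx : w • x = y) (hwy : w • y = x) : w * g * w⁻¹ = g⁻¹ := by
  obtain ⟨c, hcx, hcy⟩ := exists_to_infty_zero hxy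
  have hcix : c⁻¹ • (∞ : OnePoint K) = x := inv_smul_eq_iff.2 hcx.symm
  have hciy : c⁻¹ • ((0 : K) : OnePoint K) = y := inv_smul_eq_iff.2 hcy.symm
  obtain ⟨s, hs⟩ := fix_infty_zero (g := c * g * c⁻¹)
    (by rw [mul_smul, mul_smul, hcix, hx, hcx]) (by rw [mul_smul, mul_smul, hciy, hy, hcy])
  set j := ProjGenLinGroup.mk (invGL (1 : K) one_ne_zero) with hj
  have hj1 : j • (∞ : OnePoint K) = ((0 : K) : OnePoint K) := by
    rw [hj, mk_smul', smul_infty_eq_ite, invGL_coe]; simp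
  have hj0 : j • ((0 : K) : OnePoint K) = ∞ := by
    rw [hj, mk_smul', smul_some_eq_ite, invGL_coe]; simp
  obtain ⟨t, ht⟩ := fix_infty_zero (g := c * w * c⁻¹ * j)
    (by rw [mul_smul, hj1, mul_smul, mul_smul, hciy, hwy, hcx])
    (by rw [mul_smul, hj0, mul_smul, mul_smul, hcix, hwx, hcy])
  have hinv : j⁻¹ * aff s 0 * j = aff s⁻¹ 0 := by
    have h := inv_swap_aff (K := K) s⁻¹
    rw [inv_inv, ← hj] at h
    rw [← h]
    group
  have hw : c * w * c⁻¹ = aff t 0 * j⁻¹ := by rw [← ht]; group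
  have e : c * (w * g * w⁻¹) * c⁻¹ = c * g⁻¹ * c⁻¹ := by
    rw [show c * (w * g * w⁻¹) * c⁻¹ = (c * w * c⁻¹) * (c * g * c⁻¹) * (c * w * c⁻¹)⁻¹ by group,
      hs, hw, show aff t 0 * j⁻¹ * aff s 0 * (aff t 0 * j⁻¹)⁻¹ = aff t 0 * (j⁻¹ * aff s 0 * j) * (aff t 0)⁻¹ by group,
      hinv, show c * g⁻¹ * c⁻¹ = (c * g * c⁻¹)⁻¹ by group, hs, mul_inv_eq_iff_eq_mul, aff_inv,
      aff_mul, aff_mul, mul_comm t s⁻¹]
    simp
  exact mul_left_cancel (mul_right_cancel e)

/-- Elements fixing two common points commute. -/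
theorem fix_two_comm {x y : OnePoint K} (hxy : x ≠ y) {g h : PGL(2, K)} (hgx : g • x = x) (hgy : g • y = y)
    (hhx : h • x = x) (hhy : h • y = y) : g * h = h * g := by
  obtain ⟨c, hcx, hcy⟩ := exists_to_infty_zero hxy
  have hcix : c⁻¹ • (∞ : OnePoint K) = x := inv_smul_eq_iff.2 hcx.symm
  have hciy : c⁻¹ • ((0 : K) : OnePoint K) = y := inv_smul_eq_iff.2 hcy.symm
  obtain ⟨s, hs⟩ := fix_infty_zero (g := c * g * c⁻¹)
    (by rw [mul_smul, mul_smul, hcix, hgx, hcx]) (by rw [mul_smul, mul_smul, hciy, hgy, hcy])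
  obtain ⟨t, ht⟩ := fix_infty_zero (g := c * h * c⁻¹)
    (by rw [mul_smul, mul_smul, hcix, hhx, hcx]) (by rw [mul_smul, mul_smul, hciy, hhy, hcy])
  have e : c * (g * h) * c⁻¹ = c * (h * g) * c⁻¹ := by
    rw [show c * (g * h) * c⁻¹ = c * g * c⁻¹ * (c * h * c⁻¹) by group,
      show c * (h * g) * c⁻¹ = c * h * c⁻¹ * (c * g * c⁻¹) by group, hs, ht, aff_mul, aff_mul,
      mul_comm s t]
    simp
  exact mul_left_cancel (mul_right_cancel e)

/-- The centralizer of a translation is the group of translations. -/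
theorem centralizer_tr (G₀ : Subgroup (PGL(2, K))) {x : OnePoint K} {g : PGL(2, K)} (hg : IsTr x g)
    (hg1 : g ≠ 1) : G₀ ⊓ Subgroup.centralizer {g} = tr G₀ x := by
  ext h
  simp only [Subgroup.mem_inf, Subgroup.mem_centralizer_singleton_iff, mem_tr]
  refine ⟨fun ⟨hh, hc⟩ => ⟨hh, ?_⟩, fun ⟨hh, ht⟩ => ⟨hh, (isTr_comm hg ht).symm⟩⟩
  have hfix : ∀ y, g • y = y → y = x := fun y hy => (hg.2 y hy).resolve_right hg1
  have hhx : h • x = x := hfix _ (by rw [← mul_smul, ← hc, mul_smul, hg.1])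
  obtain ⟨c, hcx⟩ := exists_to_infty x
  obtain ⟨s, a, hs⟩ := exists_aff (c * g * c⁻¹)
    (by rw [← hcx, mul_smul, mul_smul, inv_smul_smul, hg.1])
  obtain ⟨t, b, ht⟩ := exists_aff (c * h * c⁻¹)
    (by rw [← hcx, mul_smul, mul_smul, inv_smul_smul, hhx])
  have hg' := isTr_conj c hg
  rw [hcx, hs, isTr_infty_aff] at hg'
  subst hg'
  have ha : a ≠ 0 := by
    rintro rfl
    rw [aff_one, conj_eq_one_iff] at hs
    exact hg1 hs
  have e : aff t b * aff 1 a = aff 1 a * aff t b := by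
    rw [← hs, ← ht, show c * h * c⁻¹ * (c * g * c⁻¹) = c * (h * g) * c⁻¹ by group, hc]
    group
  rw [aff_mul, aff_mul, aff_eq_iff] at e
  have e2 := e.2
  rw [Units.val_one, one_mul] at e2
  have ht1 : (t : K) = 1 := mul_right_cancel₀ ha (by linear_combination e2)
  rw [← isTr_conj_iff c, hcx, ht, isTr_infty_aff]
  exact Units.ext ht1

/-- The centralizer of an element with two fixed points. -/
theorem centralizer_two [IsAlgClosed K] (G₀ : Subgroup (PGL(2, K))) [Finite G₀] {x y : OnePoint K} (hxy : x ≠ y) {g : PGL(2, K)}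
    (hg1 : g ≠ 1) (hx : g • x = x) (hy : g • y = y) :
    (g * g = 1 → G₀ ⊓ Subgroup.centralizer {g} = Ambient.pairStab G₀ x y) ∧
      (g * g ≠ 1 → G₀ ⊓ Subgroup.centralizer {g} = st G₀ x ⊓ MulAction.stabilizer (PGL(2, K)) y) := by
  have hfix : ∀ z, g • z = z → z = x ∨ z = y := fun z hz => by
    by_contra hne
    push Not at hne
    exact hg1 (eq_one_of_fix_three hxy hne.1.symm hne.2.symm hx hy hz)
  have hperm : ∀ h, h * g = g * h → h • x = x ∧ h • y = y ∨ h • x = y ∧ h • y = x := by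
    intro h hc
    rcases hfix (h • x) (by rw [← mul_smul, ← hc, mul_smul, hx]) with ex | ex <;>
      rcases hfix (h • y) (by rw [← mul_smul, ← hc, mul_smul, hy]) with ey | ey
    · exact absurd (MulAction.injective h (ex.trans ey.symm)) hxy
    · exact Or.inl ⟨ex, ey⟩
    · exact Or.inr ⟨ex, ey⟩
    · exact absurd (MulAction.injective h (ex.trans ey.symm)) hxy
  refine ⟨fun h2 => ?_, fun h2 => ?_⟩ <;> ext h
  · rw [Ambient.mem_pairStab, Subgroup.mem_inf, Subgroup.mem_centralizer_singleton_iff]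
    refine ⟨fun ⟨hh, hc⟩ => ⟨hh, hperm h hc⟩, fun ⟨hh, hcase⟩ => ⟨hh, ?_⟩⟩
    rcases hcase with ⟨e1, e2⟩ | ⟨e1, e2⟩
    · exact fix_two_comm hxy e1 e2 hx hy
    · have h' := swap_inv hxy hx hy e1 e2
      rw [inv_eq_of_mul_eq_one_right h2, mul_inv_eq_iff_eq_mul] at h'
      exact h'
  · simp only [Subgroup.mem_inf, Subgroup.mem_centralizer_singleton_iff, mem_st, MulAction.mem_stabilizer_iff]
    refine ⟨fun ⟨hh, hc⟩ => ?_, fun ⟨⟨hh, e1⟩, e2⟩ => ⟨hh, fix_two_comm hxy e1 e2 hx hy⟩⟩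
    rcases hperm h hc with ⟨e1, e2⟩ | ⟨e1, e2⟩
    · exact ⟨⟨hh, e1⟩, e2⟩
    · exfalso
      have h' := swap_inv hxy hx hy e1 e2
      rw [hc, mul_inv_cancel_right] at h'
      exact h2 (mul_eq_one_iff_eq_inv.2 h')

/-- An element with two fixed points is not a translation. -/
theorem orderOf_two_fix {p : ℕ} [Fact p.Prime] [CharP K p] (G₀ : Subgroup (PGL(2, K))) [Finite G₀]
    {x y : OnePoint K} (hxy : x ≠ y) {g : PGL(2, K)} (hg : g ∈ G₀) (hx : g • x = x) (hy : g • y = y) :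
    ¬ p ∣ orderOf g :=
  fun h => not_dvd_eOf G₀ x (h.trans (orderOf_dvd_eOf G₀ ⟨hg, hx⟩ hy hxy.symm))

end general

section ambient

variable {K : Type*} [Field K] [DecidableEq K] [IsAlgClosed K]
variable {G₀ : Subgroup (PGL(2, K))} [Finite G₀] {q e e' : ℕ}

theorem card_two_fix (A : Ambient G₀ q e e') (hq4 : 4 ≤ q) {g : PGL(2, K)} (hg : g ∈ G₀)
    {x y : OnePoint K} (hxy : x ≠ y) (hg1 : g ≠ 1) (hx : g • x = x) (hy : g • y = y) :
    ∃ k, (k = e ∨ k = e') ∧ Nat.card ↥(st G₀ x ⊓ MulAction.stabilizer (PGL(2, K)) y) = k ∧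
      Nat.card (Ambient.pairStab G₀ x y) = 2 * k := by
  obtain ⟨k, hk, -, hc, ⟨f⟩, -⟩ := A.torus hq4 hg hxy hg1 hx hy
  refine ⟨k, hk, ?_, hc⟩
  set D := Ambient.pairStab G₀ x y with hD
  have hstD : st D x = st G₀ x ⊓ MulAction.stabilizer (PGL(2, K)) y := by
    ext h
    simp only [mem_st, hD, Ambient.mem_pairStab, Subgroup.mem_inf, MulAction.mem_stabilizer_iff]
    constructor
    · rintro ⟨⟨h0, ⟨h1, h2⟩ | ⟨h1, h2⟩⟩, h3⟩
      · exact ⟨⟨h0, h1⟩, h2⟩
      · exact absurd (h3.symm.trans h1) hxy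
    · rintro ⟨⟨h0, h1⟩, h2⟩
      exact ⟨⟨h0, Or.inl ⟨h1, h2⟩⟩, h1⟩
  have hsub : orb D x ⊆ {x, y} := by
    rintro z ⟨h, hh, rfl⟩
    rcases (Ambient.mem_pairStab.1 hh).2 with ⟨h1, -⟩ | ⟨h1, -⟩
    · exact Or.inl h1
    · exact Or.inr h1
  have hle2 := (Set.ncard_le_ncard hsub (Set.toFinite _)).trans_eq (Set.ncard_pair hxy)
  rw [← Nat.card_coe_set_eq] at hle2
  have hpos : 0 < Nat.card (orb D x) := by
    rw [Nat.card_coe_set_eq, Set.ncard_pos (finite_orb D x)]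
    exact ⟨x, self_mem_orb D x⟩
  rcases (show Nat.card (orb D x) = 1 ∨ Nat.card (orb D x) = 2 by omega) with ho | ho
  · exfalso
    have hk2 : 2 ≤ k := by
      have := A.e_pos
      rcases A.kind with ⟨h1, h2⟩ | ⟨h1, h2⟩ <;> rcases hk with r | r <;> omega
    have hst : st D x = D := by
      refine Subgroup.eq_of_le_of_card_ge (st_le _ _) (le_of_eq ?_)
      rw [← card_orb_mul D x, ho, one_mul]
    have hqD : qOf D x = 1 := by
      unfold qOf
      rw [Subgroup.card_eq_one, eq_bot_iff]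
      intro h hh
      have hm : h ∈ st D x := tr_le_st D x hh
      rw [hstD] at hm
      exact Subgroup.mem_bot.2 ((hh.2.2 y hm.2).resolve_left hxy.symm)
    haveI : IsCyclic D := hst ▸ isCyclic_st D hqD
    exact DihedralGroup.not_isCyclic (show k ≠ 1 by omega) (isCyclic_of_surjective f f.surjective)
  · rw [← hstD]
    have := two_mul_card_st D ho
    omega

/-- Orders of centralizers. -/
theorem centralizer_cases (p : ℕ) [Fact p.Prime] [CharP K p] (A : Ambient G₀ q e e') (hq4 : 4 ≤ q)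
    {g : PGL(2, K)} (hg : g ∈ G₀) (hg1 : g ≠ 1) :
    (orderOf g = p ∧ Nat.card ↥(G₀ ⊓ Subgroup.centralizer {g}) = q) ∨
    ∃ k, (k = e ∨ k = e') ∧ ¬ p ∣ orderOf g ∧ orderOf g ∣ k ∧
      (g * g = 1 ∧ Nat.card ↥(G₀ ⊓ Subgroup.centralizer {g}) = 2 * k ∨
        g * g ≠ 1 ∧ Nat.card ↥(G₀ ⊓ Subgroup.centralizer {g}) = k) := by
  rcases fixed_cases hg1 with ⟨x, hx, hfix⟩ | ⟨x, y, hxy, -, -, hfix⟩
  · left
    have hxs : x ∈ special G₀ := ⟨g, hg, hg1, hx.1⟩
    refine ⟨orderOf_eq_prime (pow_char_of_isTr hx) hg1, ?_⟩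
    rw [centralizer_tr G₀ hx hg1]
    rcases A.split.1 x hxs with ⟨-, h, -⟩ | ⟨-, h, -⟩
    · exact h
    · exfalso
      have hm : g ∈ tr G₀ x := ⟨hg, hx⟩
      rw [Subgroup.eq_bot_of_card_eq _ h, Subgroup.mem_bot] at hm
      exact hg1 hm
  · right
    have hx := (hfix x).2 (Or.inl rfl)
    have hy := (hfix y).2 (Or.inr rfl)
    obtain ⟨k, hk, hT, hD⟩ := card_two_fix A hq4 hg hxy hg1 hx hy
    refine ⟨k, hk, orderOf_two_fix G₀ hxy hg hx hy, ?_, ?_⟩
    · rw [← hT]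
      exact Subgroup.orderOf_dvd_natCard _ (Subgroup.mem_inf.2 ⟨⟨hg, hx⟩, hy⟩)
    · by_cases h2 : g * g = 1
      · exact Or.inl ⟨h2, by rw [(centralizer_two G₀ hxy hg1 hx hy).1 h2, hD]⟩
      · exact Or.inr ⟨h2, by rw [(centralizer_two G₀ hxy hg1 hx hy).2 h2, hT]⟩

/-- In characteristic two commuting elements have the same centralizer. -/
theorem centralizer_eq_of_comm [CharP K 2] {g h : PGL(2, K)} (hg : g ∈ G₀) (hh : h ∈ G₀) (hg1 : g ≠ 1)
    (hh1 : h ≠ 1) (hc : h * g = g * h) :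
    G₀ ⊓ Subgroup.centralizer {h} = G₀ ⊓ Subgroup.centralizer {g} := by
  haveI : Fact (Nat.Prime 2) := ⟨Nat.prime_two⟩
  have hmem : h ∈ G₀ ⊓ Subgroup.centralizer {g} := ⟨hh, Subgroup.mem_centralizer_singleton_iff.2 hc⟩
  rcases fixed_cases hg1 with ⟨x, hx, -⟩ | ⟨x, y, hxy, -, -, hfix⟩
  · rw [centralizer_tr G₀ hx hg1] at hmem ⊢
    exact centralizer_tr G₀ hmem.2 hh1
  · have hx := (hfix x).2 (Or.inl rfl)
    have hy := (hfix y).2 (Or.inr rfl)
    have hsq : ∀ k : PGL(2, K), k ∈ G₀ → k ≠ 1 → k • x = x → k • y = y → k * k ≠ 1 := by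
      intro k hk hk1 hkx hky h2
      exact orderOf_two_fix G₀ (p := 2) hxy hk hkx hky
        (dvd_of_eq (orderOf_eq_prime (by rw [pow_two]; exact h2) hk1).symm)
    rw [(centralizer_two G₀ hxy hg1 hx hy).2 (hsq g hg hg1 hx hy)] at hmem ⊢
    exact (centralizer_two G₀ hxy hh1 hmem.1.2 hmem.2).2 (hsq h hh hh1 hmem.1.2 hmem.2)

end ambient

section psl

variable {F : Type*} [Field F] [Fintype F]

theorem map_centralizer_psl (g : Matrix.ProjectiveSpecialLinearGroup (Fin 2) F) :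
    (Subgroup.centralizer ({g} : Set (Matrix.ProjectiveSpecialLinearGroup (Fin 2) F))).map emb =
      pslF F ⊓ Subgroup.centralizer {emb g} := by
  ext h
  simp only [Subgroup.mem_map, Subgroup.mem_inf, Subgroup.mem_centralizer_singleton_iff]
  constructor
  · rintro ⟨a, ha, rfl⟩
    exact ⟨⟨a, rfl⟩, by rw [← map_mul, ha, map_mul]⟩
  · rintro ⟨⟨a, rfl⟩, ha⟩
    exact ⟨a, emb_injective (by rw [map_mul, map_mul]; exact ha), rfl⟩

theorem card_centralizer_psl (g : Matrix.ProjectiveSpecialLinearGroup (Fin 2) F) :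
    Nat.card (Subgroup.centralizer ({g} : Set (Matrix.ProjectiveSpecialLinearGroup (Fin 2) F))) =
      Nat.card ↥(pslF F ⊓ Subgroup.centralizer {emb g}) := by
  rw [← map_centralizer_psl, Subgroup.card_map_of_injective emb_injective]

end psl

end Cfsg.Agent.Classical.Dickson
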