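import Cfsg.Agent.Lib.Classical.SL2
import Cfsg.Agent.Lib.Struct.UniqueOrderP

/-!
Involutions, elements of order four, Sylow 2-subgroups and generation in two dimensional linear
groups.
-/

set_option autoImplicit false
set_option linter.style.haveILetI false
set_option linter.unusedSectionVars false

open scoped MatrixGroups
open Matrix

namespace Cfsg.Agent.Classical.SL2Two

open SL2

variable {F : Type*} [Field F] [Fintype F]

local notation "M2" => Matrix (Fin 2) (Fin 2) F
local notation "S2" => SpecialLinearGroup (Fin 2) F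
local notation "Z2" => Subgroup.center (SpecialLinearGroup (Fin 2) F)

theorem two_ne_zero' (hodd : Odd (Fintype.card F)) : (2 : F) ≠ 0 := by
  intro h
  have : ringChar F = 2 := CharP.ringChar_of_prime_eq_zero Nat.prime_two (by exact_mod_cast h)
  have := (FiniteField.even_card_iff_char_two (F := F)).1 this
  rw [Nat.odd_iff] at hodd
  omega

theorem ringChar_prime : (ringChar F).Prime := CharP.char_is_prime F (ringChar F)

/-- The central element `-1`. -/
def negOne : S2 := ⟨-1, by simp [Matrix.det_neg]⟩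

theorem coe_negOne : ((negOne : S2) : M2) = -1 := rfl

theorem coe_one' : ((1 : S2) : M2) = 1 := rfl

theorem sl_ext {a b : S2} (h : (a : M2) = b) : a = b := Subtype.ext h

theorem coe_neg_inv (g : S2) (hg : (g : M2).trace = 0) : ((g⁻¹ : S2) : M2) = -(g : M2) := by
  rw [inv_eq, hg, zero_smul, zero_sub]

theorem sq_of_trace_zero (g : S2) (hg : (g : M2).trace = 0) : g * g = negOne := by
  apply sl_ext
  rw [coe_mul', sq_eq, hg, g.2, zero_smul, one_smul, zero_sub, coe_negOne]

theorem trace_zero_of_sq (h2 : (2 : F) ≠ 0) (g : S2) (hg : g * g = negOne) : (g : M2).trace = 0 := by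
  have h := congrArg (fun x : S2 => (x : M2)) hg
  simp only [coe_mul'] at h
  rw [sq_eq, g.2, one_smul, coe_negOne] at h
  have h' : (g : M2).trace • (g : M2) = 0 := by linear_combination (norm := module) h
  rcases smul_eq_zero.1 h' with e | e
  · exact e
  · rw [e, Matrix.trace_zero]

theorem negOne_ne_one (h2 : (2 : F) ≠ 0) : (negOne : S2) ≠ 1 := by
  intro e
  have := congrFun (congrFun (congrArg (fun x : S2 => (x : M2)) e) 0) 0
  simp [coe_negOne] at this
  exact h2 (by linear_combination -this)

theorem sq_eq_one_iff (h2 : (2 : F) ≠ 0) (g : S2) : g * g = 1 ↔ g = 1 ∨ g = negOne := by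
  constructor
  · intro hg
    have h := congrArg (fun x : S2 => (x : M2)) hg
    simp only [coe_mul'] at h
    rw [sq_eq, g.2, one_smul] at h
    have h' : (g : M2).trace • (g : M2) = (2 : F) • (1 : M2) := by
      rw [show (2 : F) • (1 : M2) = (1 : M2) + 1 by rw [two_smul]]
      rw [coe_one'] at h
      linear_combination (norm := module) h
    set τ := (g : M2).trace
    have hτ : τ ≠ 0 := by
      intro e
      rw [e, zero_smul] at h'
      have := congrFun (congrFun h' 0) 0
      simp at this
      exact h2 this.symm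
    have hsc : (g : M2) = (τ⁻¹ * 2) • (1 : M2) := by
      rw [mul_smul, ← h', inv_smul_smul₀ hτ]
    set a := τ⁻¹ * 2
    have hd : a * a = 1 := by
      have := g.2
      rw [hsc] at this
      simpa [Matrix.det_smul, sq] using this
    rcases mul_self_eq_one_iff.1 hd with e | e
    · left; apply sl_ext; rw [hsc, e, one_smul, coe_one']
    · right; apply sl_ext; rw [hsc, e, neg_smul, one_smul, coe_negOne]
  · rintro (rfl | rfl)
    · exact one_mul 1
    · apply sl_ext
      rw [coe_mul', coe_negOne, neg_mul_neg, one_mul, coe_one']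

theorem mem_center_iff (g : S2) : g ∈ Z2 ↔ g = 1 ∨ g = negOne := by
  rw [Matrix.SpecialLinearGroup.mem_center_iff]
  constructor
  · rintro ⟨r, hr, e⟩
    simp only [Fintype.card_fin] at hr
    have e' : (g : M2) = r • (1 : M2) := by rw [← e]; simp [Matrix.scalar_apply, smul_one_eq_diagonal]
    rcases (mul_self_eq_one_iff (a := r)).1 (by rw [← sq]; exact hr) with rfl | rfl
    · left; apply sl_ext; rw [e', one_smul, coe_one']
    · right; apply sl_ext; rw [e', neg_smul, one_smul, coe_negOne]
  · rintro (rfl | rfl)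
    · exact ⟨1, by simp, by simp⟩
    · exact ⟨-1, by simp, by simp [coe_negOne, Matrix.scalar_apply, ← Matrix.diagonal_neg]⟩

theorem orderOf_two_iff (h2 : (2 : F) ≠ 0) (g : S2) : orderOf g = 2 ↔ g = negOne := by
  constructor
  · intro hg
    have h := (SL2Two.sq_eq_one_iff h2 g).1 (by
      have := pow_orderOf_eq_one g
      rw [hg, sq] at this
      exact this)
    refine h.resolve_left fun e => ?_
    rw [e, orderOf_one] at hg
    norm_num at hg
  · rintro rfl
    exact orderOf_eq_prime (p := 2)
      (by rw [sq]; exact (SL2Two.sq_eq_one_iff h2 _).2 (Or.inr rfl)) (negOne_ne_one h2)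

theorem orderOf_four_iff (h2 : (2 : F) ≠ 0) (g : S2) : orderOf g = 4 ↔ (g : M2).trace = 0 := by
  constructor
  · intro hg
    refine trace_zero_of_sq h2 g ?_
    rw [← orderOf_two_iff h2, ← sq, orderOf_pow' _ two_ne_zero, hg]
    norm_num
  · intro hg
    have h := sq_of_trace_zero g hg
    refine orderOf_eq_prime_pow (p := 2) (n := 1) ?_ ?_
    · rw [pow_one, sq, h]; exact negOne_ne_one h2
    · rw [show 2 ^ (1 + 1) = 2 * 2 by norm_num, pow_mul, sq g, h, sq]
      exact (SL2Two.sq_eq_one_iff h2 _).2 (Or.inr rfl)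

/-- The standard element of order four. -/
def g0 : S2 := ⟨!![0, -1; 1, 0], by simp [Matrix.det_fin_two]⟩

theorem trace_g0 : ((g0 : S2) : M2).trace = 0 := by simp [g0, Matrix.trace, Fin.sum_univ_two]

/-- All elements of trace zero are conjugate. -/
theorem conj_g0 (h2 : (2 : F) ≠ 0) (g : S2) (hg : (g : M2).trace = 0) :
    ∃ x : S2, x * g0 * x⁻¹ = g := by
  set a := (g : M2) 0 0
  set b := (g : M2) 0 1
  set c := (g : M2) 1 0
  have hd : (g : M2) 1 1 = -a := by
    rw [Matrix.trace, Fin.sum_univ_two] at hg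
    simpa using eq_neg_of_add_eq_zero_right hg
  have hdet : -a * a - b * c = 1 := by
    have := g.2
    rw [Matrix.det_fin_two, hd] at this
    linear_combination this
  -- a vector `v` with `det [v, g v] = 1`
  obtain ⟨x, y, hxy⟩ : ∃ x y : F, c * x ^ 2 - 2 * a * x * y - b * y ^ 2 = 1 := by
    by_cases hc : c = 0
    · have ha : a ≠ 0 := fun e => by rw [e, hc] at hdet; norm_num at hdet
      refine ⟨(-1 - b) / (2 * a), 1, ?_⟩
      rw [hc]
      field_simp
      ring
    · have hodd : Fintype.card F % 2 = 1 := FiniteField.odd_card_of_char_ne_two fun h =>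
        h2 (by have := CharP.cast_eq_zero F (ringChar F); rw [h] at this; simpa using this)
      obtain ⟨X, y, hX⟩ := FiniteField.exists_root_sum_quadratic
        (f := (Polynomial.X ^ 2 : Polynomial F)) (g := Polynomial.X ^ 2 - Polynomial.C c)
        (Polynomial.degree_X_pow 2) (Polynomial.degree_X_pow_sub_C (by decide) _) hodd
      refine ⟨(X + a * y) / c, y, ?_⟩
      simp only [Polynomial.eval_pow, Polynomial.eval_X, Polynomial.eval_sub, Polynomial.eval_C] at hX
      field_simp
      linear_combination hX + y ^ 2 * hdet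
  let M : M2 := !![x, a * x + b * y; y, c * x - a * y]
  have hM : M.det = 1 := by
    simp only [M, Matrix.det_fin_two_of]
    linear_combination hxy
  refine ⟨⟨M, hM⟩, ?_⟩
  apply mul_inv_eq_iff_eq_mul.2
  apply sl_ext
  show M * !![0, -1; 1, 0] = (g : M2) * M
  apply coord <;>
    simp [M, Matrix.mul_apply, Fin.sum_univ_two, hd, show (g : M2) 0 0 = a from rfl,
      show (g : M2) 0 1 = b from rfl, show (g : M2) 1 0 = c from rfl] <;>
    first
      | ring1
      | linear_combination x * hdet
      | linear_combination -x * hdet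
      | linear_combination y * hdet
      | linear_combination -y * hdet

theorem card_trace_zero (h2 : (2 : F) ≠ 0) :
    (Fintype.card F % 4 = 1 → Nat.card {g : S2 // (g : M2).trace = 0} =
      Fintype.card F * (Fintype.card F + 1)) ∧
    (Fintype.card F % 4 = 3 → Nat.card {g : S2 // (g : M2).trace = 0} =
      Fintype.card F * (Fintype.card F - 1)) := by
  classical
  set q := Fintype.card F with hq
  have hodd : q % 2 = 1 := FiniteField.odd_card_of_char_ne_two fun h =>
    h2 (by have := CharP.cast_eq_zero F (ringChar F); rw [h] at this; simpa using this)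
  let e : {g : S2 // (g : M2).trace = 0} ≃ Σ a : F, {bc : F × F // bc.1 * bc.2 = -1 - a * a} :=
    { toFun := fun g => ⟨((g.1 : S2) : M2) 0 0,
        ⟨(((g.1 : S2) : M2) 0 1, ((g.1 : S2) : M2) 1 0), by
          have h1 := g.2
          have h2 := (g.1 : S2).2
          rw [Matrix.trace, Fin.sum_univ_two] at h1
          simp only [Matrix.diag_apply] at h1
          rw [Matrix.det_fin_two, eq_neg_of_add_eq_zero_right h1] at h2
          linear_combination -h2⟩⟩
      invFun := fun p => ⟨⟨!![p.1, p.2.1.1; p.2.1.2, -p.1], by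
          rw [Matrix.det_fin_two_of]
          linear_combination -p.2.2⟩, by simp [Matrix.trace, Fin.sum_univ_two]⟩
      left_inv := fun g => by
        refine Subtype.ext (sl_ext ?_)
        have h1 := g.2
        rw [Matrix.trace, Fin.sum_univ_two] at h1
        apply coord <;> simp
        exact (eq_neg_of_add_eq_zero_right h1).symm
      right_inv := fun p => by simp }
  have hfib : ∀ d : F, Nat.card {bc : F × F // bc.1 * bc.2 = d} =
      (q - 1) + if d = 0 then q else 0 := by
    intro d
    have h1 : Nat.card {bc : F × F // bc.1 * bc.2 = d} = ∑ b : F, Nat.card {c : F // b * c = d} := by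
      rw [← Nat.card_sigma]
      exact Nat.card_congr
        { toFun := fun p => ⟨p.1.1, p.1.2, p.2⟩
          invFun := fun p => ⟨(p.1, p.2.1), p.2.2⟩
          left_inv := fun _ => rfl
          right_inv := fun _ => rfl }
    have h3 : ∀ b ∈ (Finset.univ : Finset F).erase 0, Nat.card {c : F // b * c = d} = 1 := by
      intro b hb
      have hb0 := Finset.ne_of_mem_erase hb
      rw [Nat.card_eq_one_iff_unique]
      exact ⟨⟨fun u v => Subtype.ext (mul_left_cancel₀ hb0 (u.2.trans v.2.symm))⟩,
        ⟨⟨d / b, by field_simp⟩⟩⟩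
    rw [h1, ← Finset.add_sum_erase _ _ (Finset.mem_univ (0 : F)), Finset.sum_congr rfl h3,
      Finset.sum_const, Finset.card_erase_of_mem (Finset.mem_univ _), Finset.card_univ,
      smul_eq_mul, mul_one]
    have h0 : Nat.card {c : F // (0 : F) * c = d} = if d = 0 then q else 0 := by
      split_ifs with hd
      · rw [hq, ← Nat.card_eq_fintype_card]
        exact Nat.card_congr (Equiv.subtypeUnivEquiv fun c => by rw [hd, zero_mul])
      · haveI : IsEmpty {c : F // (0 : F) * c = d} := ⟨fun c => hd (by rw [← c.2, zero_mul])⟩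
        exact Nat.card_of_isEmpty
    rw [h0, add_comm]
  have htot : Nat.card {g : S2 // (g : M2).trace = 0} =
      q * (q - 1) + q * (Finset.univ.filter fun a : F => -1 - a * a = 0).card := by
    rw [Nat.card_congr e, Nat.card_sigma, Finset.sum_congr rfl fun a _ => hfib _,
      Finset.sum_add_distrib, Finset.sum_const, Finset.card_univ, smul_eq_mul, ← Finset.sum_filter,
      Finset.sum_const, smul_eq_mul, mul_comm _ q]
  constructor
  · intro h4
    obtain ⟨i, hi⟩ : IsSquare (-1 : F) := FiniteField.isSquare_neg_one_iff.2 (by rw [← hq]; omega)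
    have hs : (Finset.univ.filter fun a : F => -1 - a * a = 0) = {i, -i} := by
      ext a
      simp only [Finset.mem_filter, Finset.mem_univ, true_and, Finset.mem_insert, Finset.mem_singleton]
      rw [sub_eq_zero, hi, mul_self_eq_mul_self_iff]
      constructor <;> rintro (rfl | rfl) <;> simp
    rw [htot, hs, Finset.card_pair]
    · obtain ⟨r, hr⟩ : ∃ r, q = r + 1 := ⟨q - 1, by omega⟩
      rw [hr]; simp; ring
    · intro e
      have : (2 : F) * i = 0 := by linear_combination e
      rw [(mul_eq_zero.1 this).resolve_left h2, mul_zero] at hi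
      exact one_ne_zero (neg_eq_zero.1 hi)
  · intro h4
    have hs : (Finset.univ.filter fun a : F => -1 - a * a = 0) = ∅ := by
      rw [Finset.filter_eq_empty_iff]
      intro a _ e
      have : IsSquare (-1 : F) := ⟨a, sub_eq_zero.1 e⟩
      have := FiniteField.isSquare_neg_one_iff.1 this
      rw [← hq] at this
      omega
    rw [htot, hs, Finset.card_empty, mul_zero, add_zero]

theorem card_class_g0_mul (h2 : (2 : F) ≠ 0) :
    Nat.card {g : S2 // (g : M2).trace = 0} * Nat.card (Subgroup.centralizer ({g0} : Set S2)) =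
      Nat.card S2 := by
  haveI : Finite (ConjAct S2) := Finite.of_equiv S2 ConjAct.toConjAct.toEquiv
  have h1 := Nat.card_congr (MulAction.orbitEquivQuotientStabilizer (ConjAct S2) (g0 : S2))
  have h3 : Nat.card {g : S2 // (g : M2).trace = 0} = Nat.card (MulAction.orbit (ConjAct S2) (g0 : S2)) := by
    refine Nat.card_congr (Equiv.subtypeEquivRight fun x => ?_)
    rw [ConjAct.orbit_eq_carrier_conjClasses, ConjClasses.mem_carrier_iff_mk_eq,
      ConjClasses.mk_eq_mk_iff_isConj]
    constructor
    · intro hx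
      obtain ⟨c, hc⟩ := conj_g0 h2 x hx
      exact (isConj_iff.2 ⟨c, hc⟩).symm
    · intro hx
      obtain ⟨c, rfl⟩ := isConj_iff.1 hx.symm
      rw [coe_mul', coe_mul', Matrix.trace_mul_comm, ← Matrix.mul_assoc, ← coe_mul',
        inv_mul_cancel, coe_one', one_mul, trace_g0]
  rw [h3, h1, Subgroup.nat_card_centralizer_nat_card_stabilizer,
    ← Subgroup.card_eq_card_quotient_mul_card_subgroup]
  exact Nat.card_congr ConjAct.ofConjAct.toEquiv

theorem card_centralizer_g0 (h2 : (2 : F) ≠ 0) :
    (Fintype.card F % 4 = 1 → Nat.card (Subgroup.centralizer ({g0} : Set S2)) = Fintype.card F - 1) ∧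
    (Fintype.card F % 4 = 3 → Nat.card (Subgroup.centralizer ({g0} : Set S2)) = Fintype.card F + 1) := by
  have h := card_class_g0_mul (F := F) h2
  rw [card_SL2, show Fintype.card F ^ 2 - 1 = (Fintype.card F + 1) * (Fintype.card F - 1) by
    rw [show Fintype.card F ^ 2 - 1 = Fintype.card F ^ 2 - 1 ^ 2 by norm_num, Nat.sq_sub_sq]] at h
  have hq := Fintype.one_lt_card (α := F)
  constructor
  · intro h4
    rw [(card_trace_zero h2).1 h4, ← mul_assoc] at h
    exact Nat.eq_of_mul_eq_mul_left (by positivity) h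
  · intro h4
    rw [(card_trace_zero h2).2 h4, mul_comm (Fintype.card F + 1), ← mul_assoc] at h
    exact Nat.eq_of_mul_eq_mul_left (Nat.mul_pos Fintype.card_pos (by omega)) h

theorem two_pow_dvd_order (h2 : (2 : F) ≠ 0) (g : S2) {k : ℕ} (hg : orderOf g = 2 ^ k) :
    2 ^ k ∣ Fintype.card F - 1 ∨ 2 ^ k ∣ Fintype.card F + 1 := by
  haveI : Fact (ringChar F).Prime := ⟨ringChar_prime⟩
  have hp : ringChar F ≠ 2 := fun e => h2 (by
    have := CharP.cast_eq_zero F (ringChar F); rw [e] at this; simpa using this)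
  rw [← hg]
  exact (pow_pred_or_succ (ringChar F) g (by
    rw [hg]; exact Nat.Coprime.pow_left _ ((Nat.coprime_primes Nat.prime_two ringChar_prime).2 hp.symm))).imp
    orderOf_dvd_of_pow_eq_one orderOf_dvd_of_pow_eq_one

theorem sylow_not_cyclic (h2 : (2 : F) ≠ 0) [Fact (Nat.Prime 2)] (P : Sylow 2 S2) :
    ¬ IsCyclic (P : Subgroup S2) := by
  intro hc
  obtain ⟨k, hk⟩ := P.2.exists_card_eq
  obtain ⟨g, hg⟩ := IsCyclic.exists_ofOrder_eq_natCard (α := (P : Subgroup S2))
  rw [hk, ← Subgroup.orderOf_coe] at hg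
  have hodd : Fintype.card F % 2 = 1 := FiniteField.odd_card_of_char_ne_two fun h =>
    h2 (by have := CharP.cast_eq_zero F (ringChar F); rw [h] at this; simpa using this)
  have hq := Fintype.one_lt_card (α := F)
  have h8 : 2 ^ (k + 1) ∣ Nat.card S2 := by
    rw [card_SL2, show Fintype.card F ^ 2 - 1 = (Fintype.card F + 1) * (Fintype.card F - 1) by
      rw [show Fintype.card F ^ 2 - 1 = Fintype.card F ^ 2 - 1 ^ 2 by norm_num, Nat.sq_sub_sq],
      pow_succ]
    refine dvd_mul_of_dvd_right ?_ _
    rcases two_pow_dvd_order h2 _ hg with h | h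
    · rw [mul_comm]
      exact Nat.mul_dvd_mul (by omega) h
    · exact Nat.mul_dvd_mul h (by omega)
  have h9 := P.pow_dvd_card_of_pow_dvd_card h8
  rw [hk] at h9
  have h10 := (Nat.pow_dvd_pow_iff_le_right (by norm_num : 1 < 2)).1 h9
  exact absurd h10 (by omega)

theorem sylow_quaternion (h2 : (2 : F) ≠ 0) [Fact (Nat.Prime 2)] (P : Sylow 2 S2) :
    ∃ k : ℕ, 1 ≤ k ∧ Nonempty ((P : Subgroup S2) ≃* QuaternionGroup (2 ^ k)) := by
  have huniq : ∀ x y : (P : Subgroup S2), orderOf x = 2 → y ^ 2 = 1 → y ∈ Subgroup.zpowers x := by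
    intro x y hx hy
    have hx' : (x : S2) = negOne := by rw [← orderOf_two_iff h2, Subgroup.orderOf_coe, hx]
    have hy' : (y : S2) * y = 1 := by
      rw [← sq]; exact congrArg Subtype.val hy
    rcases (SL2Two.sq_eq_one_iff h2 (y : S2)).1 hy' with e | e
    · rw [show y = 1 from Subtype.ext e]; exact one_mem _
    · rw [show y = x from Subtype.ext (e.trans hx'.symm)]; exact Subgroup.mem_zpowers x
  rcases Struct.cyclic_or_quaternion (p := 2) P.2 huniq with h | ⟨-, n, hn, e⟩
  · exact absurd h (sylow_not_cyclic h2 P)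
  · exact ⟨n, hn, e⟩

theorem card_four_cyclic (h2 : (2 : F) ≠ 0) (A : Subgroup S2) (hA : Nat.card A = 4) :
    ∃ g : S2, (g : M2).trace = 0 ∧ A = Subgroup.zpowers g := by
  obtain ⟨g, hgA, hg⟩ : ∃ g ∈ A, orderOf g = 4 := by
    by_contra hc
    simp only [not_exists, not_and] at hc
    have hall : ∀ g ∈ A, g = 1 ∨ g = negOne := by
      intro g hg
      rw [← SL2Two.sq_eq_one_iff h2, ← sq, ← orderOf_dvd_iff_pow_eq_one]
      have hd : orderOf g ∣ 4 := hA ▸ A.orderOf_dvd_natCard hg
      have h4 := hc g hg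
      have := Nat.le_of_dvd (by norm_num) hd
      interval_cases hn : orderOf g <;> simp_all
    have : Nat.card A ≤ Nat.card ({1, negOne} : Set S2) :=
      Nat.card_mono (Set.toFinite _) hall
    rw [hA, Nat.card_coe_set_eq] at this
    have h3 := (Set.ncard_insert_le (1 : S2) {negOne}).trans_eq (by rw [Set.ncard_singleton])
    omega
  exact ⟨g, (orderOf_four_iff h2 g).1 hg,
    (Subgroup.eq_of_le_of_card_ge (Subgroup.zpowers_le.2 hgA) (by rw [Nat.card_zpowers, hg, hA])).symm⟩

theorem conj_four (h2 : (2 : F) ≠ 0) (A : Subgroup S2) (hA : Nat.card A = 4) :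
    ∃ x : S2, A = (Subgroup.zpowers g0).map (MulAut.conj x).toMonoidHom := by
  obtain ⟨g, hg, rfl⟩ := card_four_cyclic h2 A hA
  obtain ⟨x, rfl⟩ := conj_g0 h2 g hg
  exact ⟨x, by rw [MonoidHom.map_zpowers]; rfl⟩

theorem card_conj_eq_inv (h2 : (2 : F) ≠ 0) :
    Nat.card {x : S2 // x * g0 * x⁻¹ = g0⁻¹} = Nat.card (Subgroup.centralizer ({g0} : Set S2)) := by
  obtain ⟨h, hh⟩ := conj_g0 h2 (g0⁻¹ : S2) (by rw [coe_neg_inv _ trace_g0, Matrix.trace_neg, trace_g0, neg_zero])
  refine Nat.card_congr ((Equiv.mulLeft h⁻¹).subtypeEquiv fun x => ?_)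
  rw [Subgroup.mem_centralizer_singleton_iff, Equiv.coe_mulLeft]
  constructor
  · intro hx
    have : x * g0 = g0⁻¹ * x := by rw [← hx]; group
    calc h⁻¹ * x * g0 = h⁻¹ * (x * g0) := mul_assoc _ _ _
      _ = h⁻¹ * (h * g0 * h⁻¹ * x) := by rw [this, hh]
      _ = g0 * (h⁻¹ * x) := by group
  · intro hx
    calc x * g0 * x⁻¹ = h * (h⁻¹ * x * g0) * x⁻¹ := by group
      _ = h * (g0 * (h⁻¹ * x)) * x⁻¹ := by rw [hx]
      _ = g0⁻¹ := by rw [← hh]; group

theorem card_normalizer_g0 (h2 : (2 : F) ≠ 0) :
    Nat.card (Subgroup.normalizer ((Subgroup.zpowers g0 : Subgroup S2) : Set S2)) =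
      2 * Nat.card (Subgroup.centralizer ({g0} : Set S2)) := by
  classical
  have hg4 : orderOf (g0 : S2) = 4 := (orderOf_four_iff h2 _).2 trace_g0
  have hne : (g0 : S2) ≠ g0⁻¹ := by
    intro e
    have := orderOf_dvd_of_pow_eq_one (show (g0 : S2) ^ 2 = 1 by rw [sq]; exact eq_inv_iff_mul_eq_one.1 e)
    rw [hg4] at this
    norm_num at this
  have hiff : ∀ x : S2, x ∈ Subgroup.normalizer ((Subgroup.zpowers g0 : Subgroup S2) : Set S2) ↔
      x * g0 * x⁻¹ = g0 ∨ x * g0 * x⁻¹ = g0⁻¹ := by
    intro x
    constructor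
    · intro hx
      have hm := (Subgroup.mem_normalizer_iff.1 hx g0).1 (Subgroup.mem_zpowers g0)
      have ho : orderOf (x * g0 * x⁻¹) = 4 := by rw [← MulAut.conj_apply, MulEquiv.orderOf_eq, hg4]
      rw [mem_zpowers_iff_mem_range_orderOf, hg4] at hm
      simp only [Finset.mem_image, Finset.mem_range] at hm
      obtain ⟨k, hk, e⟩ := hm
      rw [← e] at ho ⊢
      interval_cases k
      · simp at ho
      · exact Or.inl (pow_one _)
      · rw [orderOf_pow, hg4] at ho
        norm_num at ho
      · right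
        rw [eq_inv_iff_mul_eq_one, ← pow_succ]
        have := pow_orderOf_eq_one (g0 : S2)
        rwa [hg4] at this
    · intro hx
      refine Subgroup.mem_normalizer_fintype ?_
      rintro _ ⟨k, rfl⟩
      show x * g0 ^ k * x⁻¹ ∈ Subgroup.zpowers g0
      rw [← conj_zpow]
      rcases hx with e | e <;> rw [e]
      · exact Subgroup.zpow_mem_zpowers _ _
      · exact Subgroup.zpow_mem _ (inv_mem (Subgroup.mem_zpowers _)) k
  rw [two_mul]
  nth_rewrite 2 [← card_conj_eq_inv h2]
  haveI : Fintype S2 := Fintype.ofFinite S2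
  have hC : Nat.card (Subgroup.centralizer ({g0} : Set S2)) = Nat.card {x : S2 // x * g0 * x⁻¹ = g0} :=
    Nat.card_congr (Equiv.subtypeEquivRight fun x => by
      rw [Subgroup.mem_centralizer_singleton_iff, mul_inv_eq_iff_eq_mul])
  rw [hC, Nat.card_congr (Equiv.subtypeEquivRight hiff), ← Nat.card_sum]
  exact Nat.card_congr (subtypeOrEquiv _ _ (by
    intro r hr1 hr2 x hx
    exact hne ((hr1 x hx).symm.trans (hr2 x hx))))

/-- The projection to `PSL₂`. -/
noncomputable abbrev proj : S2 →* Matrix.ProjectiveSpecialLinearGroup (Fin 2) F :=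
  QuotientGroup.mk' (Subgroup.center (SpecialLinearGroup (Fin 2) F))

theorem proj_eq_one_iff (g : S2) : proj g = 1 ↔ g = 1 ∨ g = negOne :=
  (QuotientGroup.eq_one_iff g).trans (mem_center_iff g)

theorem proj_surjective : Function.Surjective (proj (F := F)) := QuotientGroup.mk'_surjective _

theorem orderOf_proj_two_iff (h2 : (2 : F) ≠ 0) (g : S2) :
    orderOf (proj g) = 2 ↔ (g : M2).trace = 0 := by
  constructor
  · intro h
    have h1 : proj g ^ 2 = 1 := by
      have := pow_orderOf_eq_one (proj g)
      rwa [h] at this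
    rw [← map_pow, proj_eq_one_iff, sq] at h1
    rcases h1 with e | e
    · exfalso
      have h3 := (proj_eq_one_iff g).2 ((SL2Two.sq_eq_one_iff h2 g).1 e)
      rw [h3, orderOf_one] at h
      norm_num at h
    · exact trace_zero_of_sq h2 g e
  · intro h
    refine orderOf_eq_prime (p := 2) ?_ ?_
    · rw [← map_pow, proj_eq_one_iff, sq]
      exact Or.inr (sq_of_trace_zero g h)
    · intro e
      rcases (proj_eq_one_iff g).1 e with rfl | rfl
      · simp [Matrix.trace, Fin.sum_univ_two] at h
        exact h2 (by linear_combination h)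
      · simp [coe_negOne, Matrix.trace, Fin.sum_univ_two] at h
        exact h2 h

theorem isConj_involutions (h2 : (2 : F) ≠ 0) {x y : Matrix.ProjectiveSpecialLinearGroup (Fin 2) F}
    (hx : orderOf x = 2) (hy : orderOf y = 2) : IsConj x y := by
  obtain ⟨a, rfl⟩ := proj_surjective x
  obtain ⟨b, rfl⟩ := proj_surjective y
  obtain ⟨u, hu⟩ := conj_g0 h2 a ((orderOf_proj_two_iff h2 a).1 hx)
  obtain ⟨v, hv⟩ := conj_g0 h2 b ((orderOf_proj_two_iff h2 b).1 hy)
  have h1 : IsConj (proj g0) (proj a) := MonoidHom.map_isConj proj (isConj_iff.2 ⟨u, hu⟩)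
  have h3 : IsConj (proj g0) (proj b) := MonoidHom.map_isConj proj (isConj_iff.2 ⟨v, hv⟩)
  exact h1.symm.trans h3

theorem psl_no_four (h2 : (2 : F) ≠ 0) (hq : Fintype.card F % 8 = 3 ∨ Fintype.card F % 8 = 5)
    (x : Matrix.ProjectiveSpecialLinearGroup (Fin 2) F) : orderOf x ≠ 4 := by
  obtain ⟨g, rfl⟩ := proj_surjective x
  intro h
  have h4 : orderOf (proj (g * g)) = 2 := by
    rw [map_mul, ← sq, orderOf_pow' _ two_ne_zero, h]
    norm_num
  have ht := (orderOf_proj_two_iff h2 _).1 h4
  have h8 : orderOf (g * g) = 4 := (orderOf_four_iff h2 _).2 ht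
  have h16 : orderOf g = 2 ^ 3 := by
    refine orderOf_eq_prime_pow (p := 2) (n := 2) ?_ ?_
    · intro e
      rw [show 2 ^ 2 = 2 * 2 by norm_num, pow_mul, sq g] at e
      have := orderOf_dvd_of_pow_eq_one e
      rw [h8] at this
      norm_num at this
    · rw [show 2 ^ (2 + 1) = 2 * 4 by norm_num, pow_mul, sq g, ← h8, pow_orderOf_eq_one]
  rcases two_pow_dvd_order h2 g h16 with e | e <;> omega

end Cfsg.Agent.Classical.SL2Two
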