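import Cfsg.Agent.Lib.Classical.DicksonTools
import Cfsg.Agent.Lib.Classical.SL2Two

/-!
The normalisers of tori are maximal in `PSL₂(F)` outside the small exceptions.
-/

set_option autoImplicit false
set_option linter.style.haveILetI false
set_option linter.unusedSectionVars false
set_option maxRecDepth 4000

open scoped MatrixGroups Pointwise Classical commutatorElement
open Matrix OnePoint

noncomputable section

namespace Cfsg.Agent.Classical.Dickson

theorem alt_four_orders : ∀ a : alternatingGroup (Fin 4), a ^ 2 = 1 ∨ a ^ 3 = 1 := by decide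

theorem perm_four_orders : ∀ a : Equiv.Perm (Fin 4), a ^ 3 = 1 ∨ a ^ 4 = 1 := by decide

theorem alt_five_orders : ∀ a : alternatingGroup (Fin 5), a ^ 2 = 1 ∨ a ^ 3 = 1 ∨ a ^ 5 = 1 := by decide

theorem alt_four_no_inverting :
    ∀ a b : alternatingGroup (Fin 4), b * b = 1 → b * a * b = a⁻¹ → a ^ 3 = 1 → a = 1 ∨ b = 1 := by decide

variable {F : Type*} [Field F] [Fintype F]

local notation "KK" => AlgebraicClosure F

theorem gcd_tori {G₀ : Subgroup (PGL(2, KK))} [Finite G₀] {e e' : ℕ}
    (A : Ambient G₀ (Fintype.card F) e e') : Nat.gcd e e' ∣ 2 := by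
  have h1 : Nat.gcd e e' ∣ e := Nat.gcd_dvd_left _ _
  have h2 : Nat.gcd e e' ∣ e' := Nat.gcd_dvd_right _ _
  rcases A.kind with ⟨k1, k2⟩ | ⟨k1, k2⟩
  · have := Nat.dvd_sub h2 h1
    rw [k1, k2, show Fintype.card F + 1 - (Fintype.card F - 1) = 2 by
      have := Fintype.one_lt_card (α := F); omega] at this
    rwa [k1, k2]
  · have := Nat.dvd_sub h2 h1
    rw [show e' - e = 1 by omega] at this
    exact this.trans (one_dvd 2)

/-- The normaliser of a torus through a given element is maximal. -/
theorem torus_max (p : ℕ) [Fact p.Prime] [CharP F p] (hq4 : 4 ≤ Fintype.card F) {k : ℕ} (hk3 : 3 ≤ k)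
    (hk : k = (Fintype.card F - 1) / Nat.gcd 2 (Fintype.card F - 1) ∨
      k = (Fintype.card F + 1) / Nat.gcd 2 (Fintype.card F - 1))
    (h7 : Fintype.card F ≠ 7) (h9 : Fintype.card F ≠ 9) (h11 : Fintype.card F = 11 → k ≠ 5)
    {g : PGL(2, AlgebraicClosure F)} (hg : g ∈ pslF F) (hgk : orderOf g = k)
    {x y : OnePoint (AlgebraicClosure F)} (hxy : x ≠ y) (hx : g • x = x) (hy : g • y = y) :
    IsMax (pslF F) (Ambient.pairStab (pslF F) x y) ∧ Nat.card (Ambient.pairStab (pslF F) x y) = 2 * k ∧
      Nonempty (Ambient.pairStab (pslF F) x y ≃* DihedralGroup k) := by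
  haveI : CharP KK p := charP_of_injective_algebraMap (algebraMap F KK).injective p
  have A := ambient_pslF (F := F)
  have hgcd := gcd_tori A
  obtain ⟨hpe, hpe'⟩ := coprime_char p A
  have hpk : ¬ p ∣ k := by rcases hk with h | h <;> rw [h] <;> assumption
  have hg1 : g ≠ 1 := fun h => by rw [h, orderOf_one] at hgk; omega
  have hfix : ∀ z, g • z = z → z = x ∨ z = y := fun z hz => by
    by_contra hne
    push Not at hne
    exact hg1 (eq_one_of_fix_three hxy hne.1.symm hne.2.symm hx hy hz)
  have huniq : ∀ k', (k' = (Fintype.card F - 1) / Nat.gcd 2 (Fintype.card F - 1) ∨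
      k' = (Fintype.card F + 1) / Nat.gcd 2 (Fintype.card F - 1)) → k ∣ k' → k' = k := by
    intro k' hk' hd
    by_contra hne
    have h2 : k ∣ 2 := by
      rcases hk with h | h <;> rcases hk' with h' | h'
      · exact absurd (h'.trans h.symm) hne
      · exact (Nat.dvd_gcd (dvd_of_eq h) (hd.trans (dvd_of_eq h'))).trans hgcd
      · exact (Nat.dvd_gcd (hd.trans (dvd_of_eq h')) (dvd_of_eq h)).trans hgcd
      · exact absurd (h'.trans h.symm) hne
    have := Nat.le_of_dvd two_pos h2
    omega
  have hrot : ∀ {D : Subgroup (PGL(2, KK))} {k' : ℕ}, g ∈ D → (D ≃* DihedralGroup k') → k ∣ k' := by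
    intro D k' hgD f
    have ho : orderOf (f ⟨g, hgD⟩) = k := by rw [MulEquiv.orderOf_eq, Subgroup.orderOf_mk, hgk]
    rw [← ho]
    exact dihedral_order_dvd _ (by omega)
  obtain ⟨k', hk', hgD, hDc, ⟨f⟩, -⟩ := A.torus hq4 hg hxy hg1 hx hy
  obtain rfl : k' = k := huniq k' hk' (hrot hgD f)
  set D := Ambient.pairStab (pslF F) x y with hD
  refine ⟨isMax_of_forall inf_le_left (fun h => ?_) fun M hM hle => ?_, hDc, ⟨f⟩⟩
  · have hc : Nat.card D = Nat.card (pslF F) := by rw [h]
    rw [hDc, A.card] at hc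
    have he : k' ≤ Fintype.card F + 1 := by
      rcases hk with h | h <;> rw [h] <;> refine (Nat.div_le_self _ _).trans ?_ <;> omega
    have := A.e_pos
    generalize (Fintype.card F - 1) / Nat.gcd 2 (Fintype.card F - 1) = E at hc this
    have : 4 ≤ Fintype.card F * E := Nat.mul_le_mul hq4 this
    nlinarith
  haveI : Finite M := Finite.of_injective _ (Subgroup.inclusion_injective hM.1)
  have hdM : 2 * k' ∣ Nat.card M := hDc ▸ Subgroup.card_dvd_of_le hle
  have hgM := hle hgD
  have hkd : 2 < Fintype.card F → Fintype.card F % 2 = 1 →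
      2 * k' = Fintype.card F - 1 ∨ 2 * k' = Fintype.card F + 1 := by
    intro _ hodd
    rw [Nat.gcd_eq_left (show 2 ∣ Fintype.card F - 1 by omega)] at hk
    omega
  have hodd : p ≠ 2 → Fintype.card F % 2 = 1 := by
    intro h2
    obtain ⟨s, hpp, hs⟩ := FiniteField.card F p
    rw [hs, ← Nat.odd_iff]
    exact (hpp.eq_two_or_odd'.resolve_left h2).pow
  have hordM : ∀ {T : Type} [Group T] (fM : M ≃* T), orderOf (fM ⟨g, hgM⟩) = k' := by
    intro T _ fM
    rw [MulEquiv.orderOf_eq, Subgroup.orderOf_mk, hgk]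
  rcases max_cases p (pslF_le F) le_rfl (fun c hc => conj_pslF hc) A hq4 hM (not_psl_le_of_isMax hM) with
    ⟨z, -, hMz, -⟩ | ⟨k'', hk'', hMc, ⟨fM⟩⟩ | ⟨h2, h3', ⟨fM⟩⟩ | ⟨h2, h3', ⟨fM⟩⟩ | ⟨h2, h5, -, ⟨fM⟩⟩ |
    ⟨K₁, c, m, -, hK₁, hr3, hm, hq, hMe, -⟩
  · exfalso
    have hMfix : ∀ h ∈ M, h • z = z := fun h hh => (hMz ▸ hh : h ∈ st (pslF F) z).2
    have hz := hfix z (hMfix g hgM)
    have hcomm : ∀ a ∈ D, ∀ b ∈ D, a * b = b * a := by
      obtain ⟨w, hw, hwz⟩ : ∃ w : OnePoint KK, w ≠ z ∧ ∀ a ∈ D, a • w = w := by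
        rcases hz with rfl | rfl
        · exact ⟨y, hxy.symm, fun a ha => by
            rcases (Ambient.mem_pairStab.1 ha).2 with ⟨-, h2⟩ | ⟨h1, -⟩
            · exact h2
            · exact absurd ((hMfix a (hle ha)).symm.trans h1) hxy⟩
        · exact ⟨x, hxy, fun a ha => by
            rcases (Ambient.mem_pairStab.1 ha).2 with ⟨h1, -⟩ | ⟨-, h2⟩
            · exact h1
            · exact absurd (h2.symm.trans (hMfix a (hle ha))) hxy⟩
      have hq1 : qOf D z = 1 := by
        unfold qOf
        rw [Subgroup.card_eq_one, eq_bot_iff]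
        intro h hh
        exact Subgroup.mem_bot.2 ((hh.2.2 w (hwz h hh.1)).resolve_left hw)
      haveI := isCyclic_st D hq1
      letI : CommGroup (st D z) := IsCyclic.commGroup
      intro a ha b hb
      exact congrArg Subtype.val (mul_comm (⟨a, ha, hMfix a (hle ha)⟩ : st D z) ⟨b, hb, hMfix b (hle hb)⟩)
    have h := hcomm _ (f.symm (DihedralGroup.r 1)).2 _ (f.symm (DihedralGroup.sr 0)).2
    have h' : DihedralGroup.r (1 : ZMod k') * DihedralGroup.sr 0 = DihedralGroup.sr 0 * DihedralGroup.r 1 := by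
      apply f.symm.injective
      rw [map_mul, map_mul]
      exact Subtype.ext h
    rw [DihedralGroup.r_mul_sr, DihedralGroup.sr_mul_r, DihedralGroup.sr.injEq] at h'
    have h2 : ((2 : ℕ) : ZMod k') = 0 := by push_cast; linear_combination -h'
    rw [ZMod.natCast_eq_zero_iff] at h2
    have := Nat.le_of_dvd two_pos h2
    omega
  · rw [hMc, hDc, huniq k'' hk'' (hrot hgM fM)]
  · exfalso
    have ho := hordM fM
    set a := fM ⟨g, hgM⟩
    have hk3' : k' = 3 := by
      rcases alt_four_orders a with h | h <;> rw [← orderOf_dvd_iff_pow_eq_one, ho] at h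
      · have := Nat.le_of_dvd two_pos h; omega
      · exact ((Nat.prime_dvd_prime_iff_eq (by
          rcases (Nat.dvd_prime Nat.prime_three).1 h with e | e
          · omega
          · rw [e]; exact Nat.prime_three) Nat.prime_three).1 h)
    -- a subgroup isomorphic to the dihedral group of order six
    let φ : DihedralGroup k' →* alternatingGroup (Fin 4) :=
      fM.toMonoidHom.comp ((Subgroup.inclusion hle).comp f.symm.toMonoidHom)
    have hφ : Function.Injective φ := by
      intro u v huv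
      exact f.symm.injective (Subgroup.inclusion_injective hle (fM.injective huv))
    rcases alt_four_no_inverting (φ (DihedralGroup.r 1)) (φ (DihedralGroup.sr 0))
      (by rw [← map_mul, DihedralGroup.sr_mul_self, map_one])
      (by rw [← map_mul, ← map_mul, ← map_inv, DihedralGroup.sr_mul_r, DihedralGroup.sr_mul_sr,
            DihedralGroup.inv_r]; simp)
      (by
        rw [← map_pow, DihedralGroup.r_pow]
        have : ((3 : ℕ) : ZMod k') = 0 := (ZMod.natCast_eq_zero_iff _ _).2 (dvd_of_eq hk3')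
        rw [one_mul, this, DihedralGroup.r_zero, map_one]) with h | h
    · have h' := congrArg orderOf (hφ (h.trans φ.map_one.symm))
      rw [DihedralGroup.orderOf_r_one, orderOf_one] at h'
      omega
    · have h' := congrArg orderOf (hφ (h.trans φ.map_one.symm))
      rw [DihedralGroup.orderOf_sr, orderOf_one] at h'
      omega
  · exfalso
    have ho := hordM fM
    set a := fM ⟨g, hgM⟩
    have hk4 : k' = 3 ∨ k' = 4 := by
      rcases perm_four_orders a with h | h <;> rw [← orderOf_dvd_iff_pow_eq_one, ho] at h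
      · have := Nat.le_of_dvd (by norm_num) h; omega
      · have := Nat.le_of_dvd (by norm_num) h; omega
    have := hkd (by omega) (hodd h2)
    have h5 : Fintype.card F = 5 := by omega
    have hd : Nat.card M ∣ Nat.card (pslF F) := Subgroup.card_dvd_of_le hM.1
    rw [A.card, Nat.card_congr fM.toEquiv, Nat.card_perm, Nat.card_fin, h5] at hd
    exact absurd hd (by decide)
  · exfalso
    have ho := hordM fM
    set a := fM ⟨g, hgM⟩
    have hk5 : k' = 3 ∨ k' = 5 := by
      rcases alt_five_orders a with h | h | h <;> rw [← orderOf_dvd_iff_pow_eq_one, ho] at h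
      · have := Nat.le_of_dvd two_pos h; omega
      · have := Nat.le_of_dvd (by norm_num) h; omega
      · rcases (Nat.dvd_prime (by norm_num)).1 h with e | e <;> omega
    have := hkd (by omega) (hodd h2)
    rcases hk5 with rfl | rfl
    · have h5' : Fintype.card F = 5 := by omega
      obtain ⟨s, -, hs⟩ := FiniteField.card F p
      rw [h5'] at hs
      exact h5 ((Nat.prime_dvd_prime_iff_eq Fact.out (by norm_num)).1 (hs ▸ dvd_pow_self p s.ne_zero))
    · rcases this with h | h
      · exact h11 (by omega) rfl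
      · exact h9 (by omega)
  · exfalso
    have hle' : M.map (MulAut.conj c).toMonoidHom ≤ subPGL K₁ := hMe ▸ inf_le_left
    obtain ⟨a, ha⟩ := hle' ⟨g, hgM, rfl⟩
    haveI := finite_of_le hK₁
    haveI := Fintype.ofFinite K₁
    have hb := orderOf_le_pglF (F := K₁) (g := ProjGenLinGroup.map (algebraMap K₁ (AlgebraicClosure K₁)) a) ⟨a, rfl⟩
    rw [orderOf_injective _ (map_injective _), ← orderOf_injective _ (map_injective K₁.subtype), ha,
      MulEquiv.coe_toMonoidHom, MulEquiv.orderOf_eq, hgk] at hb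
    rw [← Nat.card_eq_fintype_card (α := K₁)] at hb
    set r := Nat.card K₁
    have hrr : r * r ≤ Fintype.card F := by
      rw [hq, ← pow_two]; exact Nat.pow_le_pow_right (by omega) hm.two_le
    have hlow : Fintype.card F - 1 ≤ 2 * k' := by
      rcases A.kind with ⟨h, h'⟩ | ⟨h, h'⟩ <;> rcases hk with e | e <;> omega
    have hr : r = 3 := by
      by_contra hne
      have : 4 * r ≤ r * r := Nat.mul_le_mul_right r (by omega)
      omega
    rw [hr] at hq hb
    by_cases hm2 : m = 2
    · rw [hm2] at hq; exact h9 (by omega)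
    · have : 3 ^ 3 ≤ 3 ^ m := Nat.pow_le_pow_right (by norm_num) (by have := hm.two_le; omega)
      omega

/-- Normalisers of tori are maximal. -/
theorem dihedral_max (p : ℕ) [Fact p.Prime] [CharP F p] (hq4 : 4 ≤ Fintype.card F) {k : ℕ} (hk3 : 3 ≤ k)
    (hk : k = (Fintype.card F - 1) / Nat.gcd 2 (Fintype.card F - 1) ∨
      k = (Fintype.card F + 1) / Nat.gcd 2 (Fintype.card F - 1))
    (h7 : Fintype.card F ≠ 7) (h9 : Fintype.card F ≠ 9) (h11 : Fintype.card F = 11 → k ≠ 5) :
    ∃ M, IsMax (pslF F) M ∧ Nat.card M = 2 * k ∧ Nonempty (M ≃* DihedralGroup k) := by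
  haveI : CharP KK p := charP_of_injective_algebraMap (algebraMap F KK).injective p
  have A := ambient_pslF (F := F)
  have hgcd := gcd_tori A
  obtain ⟨hpe, hpe'⟩ := coprime_char p A
  have hpk : ¬ p ∣ k := by rcases hk with h | h <;> rw [h] <;> assumption
  obtain ⟨g, hg, hgk⟩ : ∃ g ∈ pslF F, orderOf g = k := by
    rcases hk with h | h <;> rw [h]
    · exact exists_order_e A
    · exact exists_order_e' A
  have hg1 : g ≠ 1 := fun h => by rw [h, orderOf_one] at hgk; omega
  obtain ⟨x, y, hxy, hx, hy, -⟩ : ∃ x y : OnePoint KK, x ≠ y ∧ g • x = x ∧ g • y = y ∧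
      ∀ z, g • z = z → z = x ∨ z = y := by
    rcases fixed_cases hg1 with ⟨x, hx, -⟩ | ⟨x, y, hxy, -, -, h⟩
    · exfalso
      have hd : k ∣ p := hgk ▸ orderOf_dvd_of_pow_eq_one (pow_char_of_isTr hx)
      rcases (Nat.dvd_prime Fact.out).1 hd with h | h
      · omega
      · exact hpk (h ▸ dvd_rfl)
    · exact ⟨x, y, hxy, (h x).2 (Or.inl rfl), (h y).2 (Or.inr rfl), fun z hz => (h z).1 hz⟩
  exact ⟨_, torus_max p hq4 hk3 hk h7 h9 h11 hg hgk hxy hx hy⟩

end Cfsg.Agent.Classical.Dickson
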