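import Cfsg.Agent.Lib.Classical.DicksonCentralizer
import Cfsg.Agent.Lib.Classical.DicksonDihedral

/-!
Class sizes in `PSL₂(F)`.
-/

set_option autoImplicit false
set_option linter.style.haveILetI false
set_option linter.unusedSectionVars false

open scoped MatrixGroups Pointwise Classical
open Matrix OnePoint

noncomputable section

namespace Cfsg.Agent.Classical.Dickson

variable {F : Type*} [Field F] [Fintype F]

local notation "P2F" => Matrix.ProjectiveSpecialLinearGroup (Fin 2) F

/-- The order of the centralizer of a semisimple element of known order. -/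
theorem centralizer_card_of_order (p : ℕ) [Fact p.Prime] [CharP F p] {e e' k : ℕ} (hq4 : 4 ≤ Fintype.card F)
    (A : Ambient (pslF F) (Fintype.card F) e e') (hk : k = e ∨ k = e') {g : P2F} {d : ℕ}
    (hg : orderOf g = d) (hd1 : 1 < d) (hdk : d ∣ k) (hd : d ∣ e → d ∣ e' → False) :
    (d = 2 → Nat.card (Subgroup.centralizer ({g} : Set P2F)) = 2 * k) ∧
      (2 < d → Nat.card (Subgroup.centralizer ({g} : Set P2F)) = k) := by
  haveI : CharP (AlgebraicClosure F) p :=
    charP_of_injective_algebraMap (algebraMap F (AlgebraicClosure F)).injective p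
  rw [card_centralizer_psl]
  have ho : orderOf (emb g) = d := (orderOf_injective _ emb_injective g).trans hg
  have hne : emb g ≠ 1 := fun h => by rw [h, orderOf_one] at ho; omega
  rcases centralizer_cases p A hq4 ⟨g, rfl⟩ hne with ⟨h1, -⟩ | ⟨k', hk', -, hdk', hc⟩
  · exfalso
    rw [ho] at h1
    obtain ⟨hpe, hpe'⟩ := coprime_char p A
    rcases hk with rfl | rfl
    · exact hpe (h1 ▸ hdk)
    · exact hpe' (h1 ▸ hdk)
  · rw [ho] at hdk'
    obtain rfl : k' = k := by
      rcases hk with rfl | rfl <;> rcases hk' with h | h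
      · exact h
      · exact (hd hdk (h ▸ hdk')).elim
      · exact (hd (h ▸ hdk') hdk).elim
      · exact h
    rcases hc with ⟨h2, hc⟩ | ⟨h2, hc⟩
    · refine ⟨fun _ => hc, fun hlt => ?_⟩
      have := Nat.le_of_dvd two_pos (ho ▸ orderOf_dvd_of_pow_eq_one (show emb g ^ 2 = 1 by rw [pow_two]; exact h2))
      omega
    · refine ⟨fun e2 => absurd ?_ h2, fun _ => hc⟩
      have h' := pow_orderOf_eq_one (emb g)
      rw [ho, e2, pow_two] at h'
      exact h'

/-- The possible orders of centralizers. -/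
theorem centralizer_card_cases (p : ℕ) [Fact p.Prime] [CharP F p] {e e' : ℕ} (hq4 : 4 ≤ Fintype.card F)
    (A : Ambient (pslF F) (Fintype.card F) e e') {g : P2F} (hg : g ≠ 1) :
    Nat.card (Subgroup.centralizer ({g} : Set P2F)) = Fintype.card F ∨
    ∃ k, (k = e ∨ k = e') ∧ (Nat.card (Subgroup.centralizer ({g} : Set P2F)) = k ∨
      (2 ∣ k ∧ p ≠ 2 ∧ Nat.card (Subgroup.centralizer ({g} : Set P2F)) = 2 * k)) := by
  haveI : CharP (AlgebraicClosure F) p :=
    charP_of_injective_algebraMap (algebraMap F (AlgebraicClosure F)).injective p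
  rw [card_centralizer_psl]
  have hne : emb g ≠ 1 := fun h => hg (emb_injective (h.trans emb.map_one.symm))
  rcases centralizer_cases p A hq4 ⟨g, rfl⟩ hne with ⟨-, h⟩ | ⟨k, hk, hp, hdk, ⟨h2, h⟩ | ⟨-, h⟩⟩
  · exact Or.inl h
  · have ho : orderOf (emb g) = 2 := orderOf_eq_prime (by rw [pow_two]; exact h2) hne
    rw [ho] at hp hdk
    exact Or.inr ⟨k, hk, Or.inr ⟨hdk, fun e2 => hp (dvd_of_eq e2), h⟩⟩
  · exact Or.inr ⟨k, hk, Or.inl h⟩

theorem exists_centralizer_q (p : ℕ) [Fact p.Prime] [CharP F p] {e e' : ℕ} (hq4 : 4 ≤ Fintype.card F)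
    (A : Ambient (pslF F) (Fintype.card F) e e') :
    ∃ g : P2F, Nat.card (Subgroup.centralizer ({g} : Set P2F)) = Fintype.card F := by
  haveI : CharP (AlgebraicClosure F) p :=
    charP_of_injective_algebraMap (algebraMap F (AlgebraicClosure F)).injective p
  haveI : Finite P2F := Finite.of_surjective _ SL2Two.proj_surjective
  obtain ⟨n, hpp, hn⟩ := FiniteField.card F p
  have hd : p ∣ Nat.card P2F := by
    rw [← card_pslF, A.card, hn]
    exact Dvd.dvd.mul_left (Dvd.dvd.mul_right (dvd_pow_self p n.ne_zero) _) _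
  obtain ⟨g, hg⟩ := exists_prime_orderOf_dvd_card' p hd
  refine ⟨g, ?_⟩
  rw [card_centralizer_psl]
  have ho : orderOf (emb g) = p := (orderOf_injective _ emb_injective g).trans hg
  have hne : emb g ≠ 1 := fun h => by rw [h, orderOf_one] at ho; exact hpp.ne_one ho.symm
  rcases centralizer_cases p A hq4 ⟨g, rfl⟩ hne with ⟨-, h⟩ | ⟨k, -, hp, -⟩
  · exact h
  · exact absurd (dvd_of_eq ho.symm) hp

theorem exists_orderOf_torus {e e' k : ℕ} (A : Ambient (pslF F) (Fintype.card F) e e')
    (hk : k = e ∨ k = e') : ∃ g : P2F, orderOf g = k := by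
  obtain ⟨_, ⟨a, rfl⟩, ha⟩ : ∃ g ∈ pslF F, orderOf g = k := by
    rcases hk with rfl | rfl
    · exact exists_order_e A
    · exact exists_order_e' A
  exact ⟨a, (orderOf_injective _ emb_injective a).symm.trans ha⟩

end Cfsg.Agent.Classical.Dickson
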