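import Cfsg.Agent.Lib.Classical.DicksonTools
import Cfsg.Agent.Lib.Classical.SL2Two

/-!
Subfield subgroups of `PSL₂(F)`: existence, isomorphism type and maximality.
-/

set_option autoImplicit false
set_option linter.style.haveILetI false
set_option linter.unusedSectionVars false

open scoped MatrixGroups Pointwise Classical commutatorElement
open Matrix OnePoint

noncomputable section

namespace Cfsg.Agent.Classical.Dickson

variable {F : Type*} [Field F] [Fintype F]

local notation "KK" => AlgebraicClosure F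

theorem card_subfield_pow (p : ℕ) [Fact p.Prime] [CharP F p] {L : Subfield KK}
    (hL : L ≤ (algebraMap F KK).fieldRange) : ∃ a : ℕ, 0 < a ∧ Nat.card L = p ^ a := by
  haveI := finite_of_le hL
  haveI := Fintype.ofFinite L
  haveI : CharP L p := by
    haveI : CharP KK p := charP_of_injective_algebraMap (algebraMap F KK).injective p
    exact (RingHom.charP_iff L.subtype Subtype.val_injective p).2 inferInstance
  obtain ⟨s, -, hs⟩ := FiniteField.card L p
  exact ⟨s, s.pos, by rw [Nat.card_eq_fintype_card, hs]⟩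

theorem pow_card_sub {L : Subfield KK} [Finite L] {k : KK} (hk : k ∈ L) : k ^ Nat.card L = k := by
  haveI := Fintype.ofFinite L
  have h1 : (⟨k, hk⟩ : L) ^ Nat.card L = ⟨k, hk⟩ := by
    rw [Nat.card_eq_fintype_card]; exact FiniteField.pow_card _
  exact congrArg Subtype.val h1

theorem subfield_eq_of_card (p : ℕ) [Fact p.Prime] [CharP F p] {L L' : Subfield KK}
    (hL : L ≤ (algebraMap F KK).fieldRange) (hL' : L' ≤ (algebraMap F KK).fieldRange)
    (h : Nat.card L = Nat.card L') : L = L' := by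
  obtain ⟨a, ha, hac⟩ := card_subfield_pow p hL
  obtain ⟨M, hMc, hM⟩ := exists_subfield_pow (F := F) p a ha
  haveI : Finite M := Nat.finite_of_card_ne_zero (by rw [hMc]; exact pow_ne_zero _ (Fact.out : p.Prime).ne_zero)
  have key : ∀ K₁ : Subfield KK, K₁ ≤ (algebraMap F KK).fieldRange → Nat.card K₁ = p ^ a → K₁ = M := by
    intro K₁ hK hc
    haveI := finite_of_le hK
    have hle : (K₁ : Set KK) ⊆ M := fun k hk => (hM k).2 (hc ▸ pow_card_sub hk)
    refine SetLike.coe_injective (Set.eq_of_subset_of_ncard_le hle ?_ (Set.toFinite _))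
    rw [← Nat.card_coe_set_eq, ← Nat.card_coe_set_eq]
    show Nat.card M ≤ Nat.card K₁
    rw [hMc, hc]
  rw [key L hL hac, key L' hL' (h ▸ hac)]

/-- A subfield for each root of the order. -/
theorem exists_subfield_root (p : ℕ) [Fact p.Prime] [CharP F p] {r m : ℕ} (hr : 2 ≤ r)
    (hq : Fintype.card F = r ^ m) :
    ∃ L : Subfield KK, L ≤ (algebraMap F KK).fieldRange ∧ Nat.card L = r := by
  obtain ⟨n, hp, hn⟩ := FiniteField.card F p
  have hm : m ≠ 0 := by
    rintro rfl
    have := Fintype.one_lt_card (α := F)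
    rw [pow_zero] at hq
    omega
  obtain ⟨a, -, ha⟩ := (Nat.dvd_prime_pow hp).1 (show r ∣ p ^ (n : ℕ) from hn ▸ hq ▸ dvd_pow_self r hm)
  have ha0 : 0 < a := by
    rcases Nat.eq_zero_or_pos a with rfl | h
    · rw [pow_zero] at ha; omega
    · exact h
  obtain ⟨L, hLc, hL⟩ := exists_subfield_pow (F := F) p a ha0
  refine ⟨L, fun k hk => ?_, by rw [hLc, ha]⟩
  rw [hL, ← ha] at hk
  have h : ∀ i : ℕ, k ^ r ^ i = k := by
    intro i
    induction i with
    | zero => simp
    | succ i ih => rw [pow_succ, pow_mul, ih, hk]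
  exact mem_range_of_pow_card (F := F) (k := k) (by rw [hq]; exact h m)

theorem sub_card_cases {L : Subfield KK} (hL : L ≤ (algebraMap F KK).fieldRange) :
    Nat.card L * (Nat.card L ^ 2 - 1) ∣ 2 * Nat.card ↥(subPGL L ⊓ pslF F) ∧
      Nat.card ↥(subPGL L ⊓ pslF F) ∣ Nat.card L * (Nat.card L ^ 2 - 1) := by
  haveI := finite_of_le hL
  rw [← card_subPGL L]
  obtain ⟨k, hk⟩ : Nat.card ↥(subPGL L ⊓ pslF F) ∣ Nat.card (subPGL L) := Subgroup.card_dvd_of_le inf_le_left
  refine ⟨?_, ⟨k, hk⟩⟩
  have h1 := card_psl_sub hL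
  rw [← card_subPGL L, hk, mul_comm 2] at h1
  haveI : Finite ↥(subPGL L ⊓ pslF F) := Finite.of_injective _ (Subgroup.inclusion_injective inf_le_right)
  have hk2 : k ≤ 2 := Nat.le_of_mul_le_mul_left h1 Nat.card_pos
  rw [hk, mul_comm 2]
  refine Nat.mul_dvd_mul_left _ ?_
  interval_cases k
  · rw [mul_zero] at hk
    have := card_subPGL L
    haveI : Finite (subPGL L) := by
      haveI := finite_of_le hL
      haveI : Finite (PGL(2, L)) := Finite.of_surjective _ ProjGenLinGroup.mk_surjective
      exact Finite.of_surjective _ (ProjGenLinGroup.map (n := Fin 2) L.subtype).rangeRestrict_surjective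
    exact absurd hk (Nat.card_pos (α := subPGL L)).ne'
  · exact one_dvd 2
  · exact dvd_rfl

/-- The isomorphism type of a subfield subgroup inside `PGL₂`. -/
theorem nonempty_subPGL (L : Subfield KK) : Nonempty (subPGL L ≃* PGL(2, L)) :=
  ⟨(MonoidHom.ofInjective (map_injective L.subtype)).symm⟩

theorem nonempty_sub_psl {L : Subfield KK} (hL : L ≤ (algebraMap F KK).fieldRange) [Fintype L]
    (h : Nat.card ↥(subPGL L ⊓ pslF F) ≤ Nat.card (Matrix.ProjectiveSpecialLinearGroup (Fin 2) L)) :
    Nonempty (↥(subPGL L ⊓ pslF F) ≃* Matrix.ProjectiveSpecialLinearGroup (Fin 2) L) := by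
  haveI : Finite ↥(subPGL L ⊓ pslF F) := Finite.of_injective _ (Subgroup.inclusion_injective inf_le_right)
  have hinj : Function.Injective
      ((ProjGenLinGroup.map (n := Fin 2) L.subtype).comp ProjectiveSpecialLinearGroup.toPGL) := by
    rw [MonoidHom.coe_comp]
    exact (map_injective L.subtype).comp (ProjectiveSpecialLinearGroup.toPGL_injective (n := Fin 2) (R := L))
  have he := Subgroup.eq_of_le_of_card_ge (psl_le_sub hL)
    (h.trans (le_of_eq (Nat.card_congr (MonoidHom.ofInjective hinj).toEquiv)))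
  exact ⟨((MonoidHom.ofInjective hinj).trans (MulEquiv.subgroupCongr he)).symm⟩

/-- Translations at infinity and at zero in a subfield subgroup. -/
theorem exists_translations {L : Subfield KK} (hL : L ≤ (algebraMap F KK).fieldRange) :
    ∃ u ∈ subPGL L ⊓ pslF F, ∃ l ∈ subPGL L ⊓ pslF F, u ≠ 1 ∧ l ≠ 1 ∧
      IsTr (∞ : OnePoint KK) u ∧ IsTr ((0 : KK) : OnePoint KK) l := by
  have hu : aff (1 : KKˣ) (1 : KK) ∈ subPGL L ⊓ pslF F := by
    refine ⟨⟨ProjGenLinGroup.mk (affGL (1 : Lˣ) 1), ?_⟩, ?_⟩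
    · rw [ProjGenLinGroup.map_mk, aff]
      congr 1
      ext i j
      fin_cases i <;> fin_cases j <;> simp [affGL_coe]
    · have h : ProjGenLinGroup.map (algebraMap F KK) (ProjGenLinGroup.mk (affGL (1 : Fˣ) 1)) ∈ pslF F := by
        rw [mem_pslF_iff]
        exact ⟨1, Units.ext (by simp [affGL_coe, Matrix.det_fin_two])⟩
      rw [← aff, map_aff] at h
      simpa using h
  set w : PGL(2, KK) := ProjGenLinGroup.mk (invGL (1 : KK) one_ne_zero) with hw
  have hwL : w ∈ subPGL L := by
    refine ⟨ProjGenLinGroup.mk (invGL (1 : L) one_ne_zero), ?_⟩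
    rw [ProjGenLinGroup.map_mk, hw]
    congr 1
    ext i j
    fin_cases i <;> fin_cases j <;> simp [invGL_coe]
  have hu1 : aff (1 : KKˣ) (1 : KK) ≠ 1 := fun h => one_ne_zero (aff_eq_one_iff.1 h).2
  have ht : IsTr (∞ : OnePoint KK) (aff (1 : KKˣ) (1 : KK)) := (isTr_infty_aff _ _).2 rfl
  refine ⟨_, hu, w * aff 1 1 * w⁻¹, ⟨?_, ?_⟩, hu1, fun h => hu1 (conj_eq_one_iff.1 h), ht, ?_⟩
  · exact (subPGL L).mul_mem ((subPGL L).mul_mem hwL hu.1) ((subPGL L).inv_mem hwL)
  · have := conj_pslF (F := F) (subPGL_le_pglF hL hwL)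
    rw [← this]
    exact ⟨_, hu.2, rfl⟩
  · have := isTr_conj w ht
    rwa [show w • (∞ : OnePoint KK) = ((0 : KK) : OnePoint KK) from invGL_smul_infty 1 one_ne_zero] at this

theorem sub_ne_pslF {L : Subfield KK} (hL : L ≤ (algebraMap F KK).fieldRange) {m : ℕ} (hm : 2 ≤ m)
    (hq : Fintype.card F = Nat.card L ^ m) : subPGL L ⊓ pslF F ≠ pslF F := by
  intro h
  haveI := finite_of_le hL
  have h1 : Nat.card (pslF F) ≤ Nat.card L * (Nat.card L ^ 2 - 1) := by
    rw [← h]; exact Nat.le_of_dvd (by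
      have : 2 ≤ Nat.card L := Finite.one_lt_card
      have : 4 ≤ Nat.card L ^ 2 := by nlinarith
      exact Nat.mul_pos (by omega) (by omega)) (sub_card_cases hL).2
  have A := ambient_pslF (F := F)
  rw [A.card] at h1
  have hl : 2 ≤ Nat.card L := Finite.one_lt_card
  have hll : Nat.card L * Nat.card L ≤ Fintype.card F := by
    rw [hq, ← pow_two]; exact Nat.pow_le_pow_right (by omega) hm
  have he : Fintype.card F - 1 ≤ 2 * ((Fintype.card F - 1) / Nat.gcd 2 (Fintype.card F - 1)) := by
    rcases A.kind with ⟨h, -⟩ | ⟨h, -⟩ <;> omega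
  generalize (Fintype.card F - 1) / Nat.gcd 2 (Fintype.card F - 1) = e at h1 he
  generalize Nat.card L = l at h1 hl hll
  generalize Fintype.card F = q at h1 hll he
  have h4 : 4 ≤ l * l := Nat.mul_le_mul hl hl
  have he1 : 2 ≤ e := by omega
  have : l ^ 2 - 1 ≤ q := by rw [pow_two]; omega
  have h2 : l * (l ^ 2 - 1) ≤ l * q := Nat.mul_le_mul_left _ this
  have h5 : q * (q * e) ≤ q * l := by nlinarith
  have h6 : q * e ≤ l := Nat.le_of_mul_le_mul_left h5 (by omega)
  nlinarith

/-- Subfield subgroups of prime index are maximal. -/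
theorem subfield_max (p : ℕ) [Fact p.Prime] [CharP F p] {L : Subfield KK}
    (hL : L ≤ (algebraMap F KK).fieldRange) (h3 : 3 ≤ Nat.card L) {m : ℕ} (hm : m.Prime)
    (hq : Fintype.card F = Nat.card L ^ m) : IsMax (pslF F) (subPGL L ⊓ pslF F) := by
  haveI := finite_of_le hL
  refine isMax_of_forall inf_le_right (sub_ne_pslF hL hm.two_le hq) fun M hM hle => ?_
  have A := ambient_pslF (F := F)
  have hq4 : 4 ≤ Fintype.card F := by
    rw [hq]
    calc 4 ≤ Nat.card L * Nat.card L := Nat.mul_le_mul (show 2 ≤ _ by omega) (show 2 ≤ _ by omega)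
      _ ≤ _ := by rw [← pow_two]; exact Nat.pow_le_pow_right (by omega) hm.two_le
  haveI : Finite M := Finite.of_injective _ (Subgroup.inclusion_injective hM.1)
  obtain ⟨hd1, hd2⟩ := sub_card_cases hL
  have hdM : Nat.card ↥(subPGL L ⊓ pslF F) ∣ Nat.card M := Subgroup.card_dvd_of_le hle
  obtain ⟨a, ha, hac⟩ := card_subfield_pow p hL
  have hbig : ∀ n, Nat.card M = n → p ≠ 2 → p ≠ 3 → n = 12 ∨ n = 24 ∨ (n = 60 ∧ p ≠ 5) → False := by
    intro n hn h2 h3' hcase
    have hp5 : 5 ≤ p := by
      have := (Fact.out : p.Prime).two_le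
      have : p ≠ 4 := fun e => by have h := (Fact.out : p.Prime); rw [e] at h; norm_num at h
      omega
    have hdn : Nat.card L * (Nat.card L ^ 2 - 1) ∣ 2 * n := hd1.trans (hn ▸ Nat.mul_dvd_mul_left 2 hdM)
    rcases (show Nat.card L = p ∨ 25 ≤ Nat.card L by
      rcases (show a = 1 ∨ 2 ≤ a by omega) with rfl | h
      · exact Or.inl (by rw [hac, pow_one])
      · exact Or.inr (by rw [hac]; exact le_trans (Nat.pow_le_pow_left hp5 2) (Nat.pow_le_pow_right (by omega) h))) with h | h
    · rw [h] at hdn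
      rcases hcase with rfl | rfl | ⟨rfl, hne⟩
      all_goals
        have h25 : 24 ≤ p ^ 2 - 1 := by
          have : 25 ≤ p ^ 2 := by nlinarith
          omega
        have hle' := Nat.le_of_dvd (by norm_num) hdn
      · nlinarith
      · nlinarith
      · have h7 : 7 ≤ p := by
          have : p ≠ 6 := fun e => by have h := (Fact.out : p.Prime); rw [e] at h; norm_num at h
          omega
        have : 48 ≤ p ^ 2 - 1 := by
          have : 49 ≤ p ^ 2 := by nlinarith
          omega
        nlinarith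
    · have h624 : 624 ≤ Nat.card L ^ 2 - 1 := by
        have : 625 ≤ Nat.card L ^ 2 := by nlinarith
        omega
      have hle' := Nat.le_of_dvd (by omega) hdn
      have : 25 * 624 ≤ Nat.card L * (Nat.card L ^ 2 - 1) := Nat.mul_le_mul h h624
      omega
  rcases max_cases p (pslF_le F) le_rfl (fun c hc => conj_pslF hc) A hq4 hM (not_psl_le_of_isMax hM) with
    ⟨x, -, hMx, -⟩ | ⟨k, hk, hMc, -⟩ | ⟨h2, h3', ⟨f⟩⟩ | ⟨h2, h3', ⟨f⟩⟩ | ⟨h2, h5, -, ⟨f⟩⟩ |
    ⟨K₁, c, m', -, hK₁, -, hm', hq', hMe, -⟩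
  · exfalso
    obtain ⟨u, hu, l, hl, hu1, hl1, hut, hlt⟩ := exists_translations hL
    have hu' := (hMx ▸ hle hu : u ∈ st (pslF F) x)
    have hl' := (hMx ▸ hle hl : l ∈ st (pslF F) x)
    have e1 := (hut.2 x hu'.2).resolve_right hu1
    have e2 := (hlt.2 x hl'.2).resolve_right hl1
    exact coe_ne_infty _ (e2.symm.trans e1)
  · exfalso
    obtain ⟨hpe, hpe'⟩ := coprime_char p A
    have hpk : ¬ p ∣ k := by rcases hk with rfl | rfl <;> assumption
    have hLk : Nat.card L ∣ 4 := by
      refine (Nat.Coprime.dvd_of_dvd_mul_right (n := k) ?_ ?_)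
      · rw [hac]; exact Nat.Coprime.pow_left _ ((Nat.Prime.coprime_iff_not_dvd Fact.out).2 hpk)
      · rw [show 4 * k = 2 * (2 * k) by ring, ← hMc]
        exact (Dvd.intro _ rfl).trans (hd1.trans (Nat.mul_dvd_mul_left 2 hdM))
    have hL4 : Nat.card L = 4 := by
      have := Nat.le_of_dvd (by norm_num) hLk
      interval_cases h : Nat.card L <;> omega
    have heven : Even (Nat.card L) := ⟨2, hL4⟩
    rw [(card_sub_inf_pslF hL hq).1 (Or.inl heven), card_subPGL L, hL4, hMc] at hdM
    have hk2 : 2 ∣ k := by omega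
    have hp2 : p = 2 := by
      rw [hac] at hL4
      exact (Nat.prime_dvd_prime_iff_eq Fact.out Nat.prime_two).1
        ((Fact.out : p.Prime).dvd_of_dvd_pow (show p ∣ 2 ^ 2 from (dvd_pow_self p ha.ne').trans (dvd_of_eq hL4)))
    exact hpk (hp2 ▸ hk2)
  · exact (hbig _ rfl h2 h3' (Or.inl (by
      rw [Nat.card_congr f.toEquiv, nat_card_alternatingGroup, Nat.card_fin]; rfl))).elim
  · exact (hbig _ rfl h2 h3' (Or.inr (Or.inl (by
      rw [Nat.card_congr f.toEquiv, Nat.card_perm, Nat.card_fin]; rfl)))).elim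
  · by_cases h3' : p = 3
    · exfalso
      have hM60 : Nat.card M = 60 := by
        rw [Nat.card_congr f.toEquiv, nat_card_alternatingGroup, Nat.card_fin]; rfl
      have hdvd : Nat.card L * (Nat.card L ^ 2 - 1) ∣ 120 := by
        have := hd1.trans (Nat.mul_dvd_mul_left 2 hdM)
        rwa [hM60] at this
      have hL3 : Nat.card L = 3 := by
        have h9 : Nat.card L ∣ 120 := (Dvd.intro _ rfl).trans hdvd
        rw [hac, h3'] at h9
        have ha1 : a = 1 := by
          by_contra h
          have : 3 ^ 2 ∣ 120 := (pow_dvd_pow 3 (show 2 ≤ a by omega)).trans h9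
          norm_num at this
        rw [hac, h3', ha1, pow_one]
      -- the subfield subgroup is a tetrahedral or octahedral group
      have hA5 : ∀ H : Subgroup M, Nat.card H ≠ 24 := by
        intro H hH
        have := H.card_subgroup_dvd_card
        rw [hH, hM60] at this
        norm_num at this
      rcases Nat.even_or_odd m with he | ho
      · have hcc : Nat.card ↥(subPGL L ⊓ pslF F) = 24 := by
          rw [(card_sub_inf_pslF hL hq).1 (Or.inr he), card_subPGL L, hL3]; rfl
        exact hA5 ((subPGL L ⊓ pslF F).subgroupOf M) (by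
          rw [Nat.card_congr (Subgroup.subgroupOfEquivOfLe hle).toEquiv, hcc])
      · -- the order of the overgroup does not divide the order of the group
        have hcard : Nat.card M ∣ Nat.card (pslF F) := Subgroup.card_dvd_of_le hM.1
        rw [hM60, A.card] at hcard
        have h5dvd : 5 ∣ Fintype.card F * (Fintype.card F ^ 2 - 1) := by
          have hsq : Fintype.card F ^ 2 - 1 = (Fintype.card F + 1) * (Fintype.card F - 1) := by
            simpa using Nat.sq_sub_sq (Fintype.card F) 1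
          have h5' := (show 5 ∣ 60 by norm_num).trans hcard
          rw [hsq]
          refine h5'.trans ⟨(Fintype.card F - 1) / ((Fintype.card F - 1) / Nat.gcd 2 (Fintype.card F - 1)), ?_⟩
          rw [mul_assoc, mul_assoc, Nat.mul_div_cancel' (Nat.div_dvd_of_dvd (Nat.gcd_dvd_right _ _))]
          ring
        rw [hq, hL3] at h5dvd
        obtain ⟨t, rfl⟩ := ho
        rw [← Nat.modEq_zero_iff_dvd] at h5dvd
        have h3m : 3 ^ (2 * t + 1) % 5 = 3 ∨ 3 ^ (2 * t + 1) % 5 = 2 := by
          clear hq hm h5dvd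
          induction t with
          | zero => left; rfl
          | succ t ih =>
            rw [show 2 * (t + 1) + 1 = 2 * t + 1 + 2 by ring, pow_add, Nat.mul_mod]
            rcases ih with e | e <;> rw [e] <;> simp
        have hpos : 1 ≤ (3 ^ (2 * t + 1)) ^ 2 := Nat.one_le_pow _ _ (Nat.pos_of_ne_zero (pow_ne_zero _ (by norm_num)))
        generalize 3 ^ (2 * t + 1) = X at h5dvd h3m hpos
        have hx : X ^ 2 % 5 = 4 := by rw [Nat.pow_mod]; rcases h3m with e | e <;> rw [e]
        have hx1 : (X ^ 2 - 1) % 5 = 3 := by omega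
        unfold Nat.ModEq at h5dvd
        rw [Nat.mul_mod, hx1] at h5dvd
        omega
    · exact (hbig _ rfl h2 h3' (Or.inr (Or.inr ⟨by
        rw [Nat.card_congr f.toEquiv, nat_card_alternatingGroup, Nat.card_fin]; rfl, h5⟩))).elim
  · have hMcard : Nat.card M = Nat.card ↥(subPGL K₁ ⊓ pslF F) := by
      rw [← hMe]; exact (Subgroup.card_map_of_injective (MulAut.conj c).injective).symm
    obtain ⟨b, hb, hbc⟩ := card_subfield_pow p hK₁
    have hab : a * m = b * m' := by
      have h := hq.symm.trans hq'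
      rw [hac, hbc, ← pow_mul, ← pow_mul] at h
      exact Nat.pow_right_injective (Fact.out : p.Prime).two_le h
    rcases eq_or_ne m m' with rfl | hne
    · rw [hMcard, subfield_eq_of_card p hL hK₁ (by
        rw [hac, hbc, Nat.eq_of_mul_eq_mul_right hm.pos hab])]
    · exfalso
      have hcop : Nat.Coprime m' m := (Nat.coprime_primes hm' hm).2 hne.symm
      obtain ⟨t, rfl⟩ := hcop.dvd_of_dvd_mul_right (Dvd.intro_left b hab.symm)
      have hb' : b = t * m := Nat.eq_of_mul_eq_mul_right hm'.pos (by rw [← hab]; ring)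
      subst hb'
      have ht : 0 < t := Nat.pos_of_mul_pos_left ha
      have hdd := hd1.trans (Nat.mul_dvd_mul_left 2
        ((hdM.trans (dvd_of_eq hMcard)).trans (sub_card_cases hK₁).2))
      rw [hac, hbc] at hdd
      set T := p ^ (2 * t) with hT
      have hT4 : 4 ≤ T := by
        rw [hT]
        calc 4 ≤ 2 ^ (2 * t) := by
              calc 4 = 2 ^ 2 := rfl
                _ ≤ _ := Nat.pow_le_pow_right (by norm_num) (by omega)
          _ ≤ _ := Nat.pow_le_pow_left (Fact.out : p.Prime).two_le _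
      have hgcd : Nat.gcd ((p ^ (m' * t)) ^ 2 - 1) ((p ^ (t * m)) ^ 2 - 1) = T - 1 := by
        rw [← pow_mul, ← pow_mul, Nat.pow_sub_one_gcd_pow_sub_one]
        rw [show m' * t * 2 = 2 * t * m' by ring, show t * m * 2 = 2 * t * m by ring, Nat.gcd_mul_left,
          hcop, mul_one]
      have h1 : (p ^ (m' * t)) ^ 2 - 1 ∣ 2 * ((p ^ (t * m)) ^ 2 - 1) := by
        have hc : Nat.Coprime ((p ^ (m' * t)) ^ 2 - 1) (p ^ (t * m)) := by
          refine Nat.Coprime.pow_right _ (((Fact.out : p.Prime).coprime_iff_not_dvd.2 fun hd => ?_).symm)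
          have hd' : p ∣ (p ^ (m' * t)) ^ 2 := dvd_pow (dvd_pow_self p ha.ne') two_ne_zero
          have := Nat.dvd_sub hd' hd
          rw [Nat.sub_sub_self (Nat.one_le_pow _ _ (Nat.pos_of_ne_zero (pow_ne_zero _ (Fact.out : p.Prime).ne_zero)))] at this
          exact (Fact.out : p.Prime).not_dvd_one this
        refine hc.dvd_of_dvd_mul_left ((Dvd.intro_left _ rfl).trans (hdd.trans (dvd_of_eq ?_)))
        ring
      have h2 : (p ^ (m' * t)) ^ 2 - 1 ∣ 2 * (T - 1) := by
        rw [← hgcd, ← Nat.gcd_mul_left]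
        exact Nat.dvd_gcd (Dvd.intro_left _ rfl) h1
      have h3' : T * T ≤ (p ^ (m' * t)) ^ 2 := by
        rw [← pow_mul, hT, ← pow_add]
        exact Nat.pow_le_pow_right (Fact.out : p.Prime).pos (by have := hm'.two_le; nlinarith)
      have h4 := Nat.le_of_dvd (by omega) h2
      have : 4 * T ≤ T * T := Nat.mul_le_mul_right T hT4
      omega

end Cfsg.Agent.Classical.Dickson
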