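import Mathlib

/-!
The action of `PGL₂` on the projective line in affine coordinates.
-/

set_option autoImplicit false
set_option linter.style.haveILetI false
set_option linter.unusedSectionVars false

open scoped MatrixGroups
open Matrix OnePoint

noncomputable section

namespace Cfsg.Agent.Classical.Dickson

variable {K : Type*} [Field K] [DecidableEq K]

theorem scalar_smul_point (u : Kˣ) (x : OnePoint K) :
    GeneralLinearGroup.scalar (Fin 2) u • x = x := by
  cases x with
  | infty => simp [smul_infty_eq_ite]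
  | coe c => simp [smul_some_eq_ite, mul_div_assoc]

/-- The action of `PGL₂` on the projective line. -/
noncomputable scoped instance pglAction : MulAction (PGL(2, K)) (OnePoint K) :=
  ProjGenLinGroup.mulActionOfGL scalar_smul_point

theorem mk_smul' (g : GL (Fin 2) K) (x : OnePoint K) : ProjGenLinGroup.mk g • x = g • x := rfl

/-- The affine map `z ↦ s z + a`. -/
def affGL (s : Kˣ) (a : K) : GL (Fin 2) K :=
  GeneralLinearGroup.mkOfDetNeZero !![(s : K), a; 0, 1] (by simp [Matrix.det_fin_two])

theorem affGL_coe (s : Kˣ) (a : K) : (affGL s a : Matrix (Fin 2) (Fin 2) K) = !![(s : K), a; 0, 1] := rfl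

/-- The affine map in `PGL₂`. -/
def aff (s : Kˣ) (a : K) : PGL(2, K) := ProjGenLinGroup.mk (affGL s a)

theorem aff_mul (s t : Kˣ) (a b : K) : aff s a * aff t b = aff (s * t) (s * b + a) := by
  rw [aff, aff, aff, ← map_mul]
  congr 1
  refine Units.ext ?_
  rw [Units.val_mul, affGL_coe, affGL_coe, affGL_coe]
  simp

theorem aff_one : aff (1 : Kˣ) (0 : K) = 1 := by
  rw [aff, ← map_one ProjGenLinGroup.mk]
  congr 1
  refine Units.ext ?_
  rw [affGL_coe, Units.val_one, Units.val_one]
  exact Matrix.one_fin_two.symm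

theorem aff_inv (s : Kˣ) (a : K) : (aff s a)⁻¹ = aff s⁻¹ (-((s⁻¹ : Kˣ) * a)) := by
  rw [inv_eq_iff_mul_eq_one, aff_mul, mul_inv_cancel, ← aff_one]
  congr 1
  rw [mul_neg, ← mul_assoc, Units.mul_inv, one_mul, neg_add_cancel]

theorem aff_pow (a : K) (n : ℕ) : aff (1 : Kˣ) a ^ n = aff 1 (n * a) := by
  induction n with
  | zero => simp [aff_one]
  | succ n ih => rw [pow_succ, ih, aff_mul, one_mul, Units.val_one, one_mul]; congr 1; push_cast; ring

theorem aff_smul_infty (s : Kˣ) (a : K) : aff s a • (∞ : OnePoint K) = ∞ := by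
  rw [aff, mk_smul', smul_infty_eq_self_iff]
  rfl

theorem aff_smul_coe (s : Kˣ) (a z : K) :
    aff s a • (z : OnePoint K) = ((s * z + a : K) : OnePoint K) := by
  rw [aff, mk_smul', smul_some_eq_ite, affGL_coe]
  simp

theorem aff_eq_iff {s t : Kˣ} {a b : K} : aff s a = aff t b ↔ s = t ∧ a = b := by
  refine ⟨fun h => ?_, fun h => by rw [h.1, h.2]⟩
  have h0 := congrArg (fun g : PGL(2, K) => g • ((0 : K) : OnePoint K)) h
  have h1 := congrArg (fun g : PGL(2, K) => g • ((1 : K) : OnePoint K)) h
  simp only [aff_smul_coe, coe_eq_coe, mul_zero, zero_add, mul_one] at h0 h1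
  exact ⟨Units.ext (by linear_combination h1 - h0), h0⟩

theorem aff_eq_one_iff {s : Kˣ} {a : K} : aff s a = 1 ↔ s = 1 ∧ a = 0 := by
  rw [← aff_one, aff_eq_iff]

/-- Elements fixing infinity are affine. -/
theorem exists_aff (g : PGL(2, K)) (h : g • (∞ : OnePoint K) = ∞) : ∃ s a, g = aff s a := by
  induction g using ProjGenLinGroup.induction_on with | mk g =>
  rw [mk_smul', smul_infty_eq_self_iff] at h
  have hdet := g.det_ne_zero
  rw [Matrix.det_fin_two, h, mul_zero, sub_zero] at hdet
  have h00 : g 0 0 ≠ 0 := left_ne_zero_of_mul hdet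
  have h11 : g 1 1 ≠ 0 := right_ne_zero_of_mul hdet
  refine ⟨Units.mk0 (g 0 0 / g 1 1) (div_ne_zero h00 h11), g 0 1 / g 1 1, ?_⟩
  rw [aff, ProjGenLinGroup.mk_eq_mk_iff]
  refine ⟨Units.mk0 (g 1 1)⁻¹ (inv_ne_zero h11), Units.ext ?_⟩
  rw [Units.val_mul, affGL_coe]
  ext i j
  fin_cases i <;> fin_cases j <;> simp [h, h11, div_eq_mul_inv]

/-- The inversion `z ↦ c / z`. -/
def invGL (c : K) (hc : c ≠ 0) : GL (Fin 2) K :=
  GeneralLinearGroup.mkOfDetNeZero !![0, c; 1, 0] (by simp [Matrix.det_fin_two, hc])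

theorem invGL_coe (c : K) (hc : c ≠ 0) : (invGL c hc : Matrix (Fin 2) (Fin 2) K) = !![0, c; 1, 0] := rfl

/-- Every point can be moved to infinity. -/
theorem exists_to_infty (x : OnePoint K) : ∃ c : PGL(2, K), c • x = ∞ := by
  cases x with
  | infty => exact ⟨1, one_smul _ _⟩
  | coe z =>
    refine ⟨ProjGenLinGroup.mk (invGL 1 one_ne_zero) * aff 1 (-z), ?_⟩
    rw [mul_smul, aff_smul_coe, mk_smul', smul_some_eq_ite, invGL_coe]
    simp

/-- Two points can be moved to infinity and zero. -/
theorem exists_to_infty_zero {x y : OnePoint K} (hxy : x ≠ y) :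
    ∃ c : PGL(2, K), c • x = ∞ ∧ c • y = ((0 : K) : OnePoint K) := by
  obtain ⟨c, hc⟩ := exists_to_infty x
  cases hy : c • y with
  | infty => exact absurd (MulAction.injective c (hc.trans hy.symm)) hxy
  | coe z =>
    exact ⟨aff 1 (-z) * c, by rw [mul_smul, hc, aff_smul_infty], by
      rw [mul_smul, hy, aff_smul_coe]; simp⟩

/-- An element fixing three points is trivial. -/
theorem eq_one_of_fix_three {g : PGL(2, K)} {x y z : OnePoint K} (hxy : x ≠ y) (hxz : x ≠ z)
    (hyz : y ≠ z) (hx : g • x = x) (hy : g • y = y) (hz : g • z = z) : g = 1 := by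
  obtain ⟨c, hcx, hcy⟩ := exists_to_infty_zero hxy
  have key : ∀ w : OnePoint K, g • w = w → (c * g * c⁻¹) • (c • w) = c • w := fun w hw => by
    rw [mul_smul, mul_smul, inv_smul_smul, hw]
  obtain ⟨s, a, hs⟩ := exists_aff (c * g * c⁻¹) (by
    have := key x hx; rwa [hcx] at this)
  have ha := key y hy
  rw [hs, hcy, aff_smul_coe, coe_eq_coe, mul_zero, zero_add] at ha
  have hz' := key z hz
  cases hw : c • z with
  | infty => exact absurd (MulAction.injective c (hcx.trans hw.symm)) hxz
  | coe w =>
    have hw0 : w ≠ 0 := by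
      rintro rfl
      exact hyz (MulAction.injective c (hcy.trans hw.symm))
    rw [hs, hw, aff_smul_coe, coe_eq_coe, ha, add_zero] at hz'
    have hs1 : s = 1 := Units.ext (mul_right_cancel₀ hw0 (by rw [hz', Units.val_one, one_mul]))
    rw [hs1, ha, aff_one] at hs
    rwa [conj_eq_one_iff] at hs

/-- Every element has a fixed point over an algebraically closed field. -/
theorem exists_fixed [IsAlgClosed K] (g : PGL(2, K)) : ∃ x : OnePoint K, g • x = x := by
  induction g using ProjGenLinGroup.induction_on with | mk g =>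
  by_cases h : g 1 0 = 0
  · exact ⟨∞, by rw [mk_smul', smul_infty_eq_self_iff]; exact h⟩
  obtain ⟨z, hz⟩ := IsAlgClosed.exists_root
    (Polynomial.C (g 1 0) * Polynomial.X ^ 2 + Polynomial.C (g 1 1 - g 0 0) * Polynomial.X +
      Polynomial.C (-(g 0 1))) (by rw [Polynomial.degree_quadratic h]; decide)
  refine ⟨(z : OnePoint K), ?_⟩
  rw [mk_smul', ← GeneralLinearGroup.fixpointPolynomial_aeval_eq_zero_iff]
  simp only [GeneralLinearGroup.fixpointPolynomial, Polynomial.IsRoot.def, Polynomial.eval_add,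
    Polynomial.eval_mul, Polynomial.eval_C, Polynomial.eval_pow, Polynomial.eval_X] at hz ⊢
  simp
  linear_combination hz

/-- Functoriality of the action. -/
theorem map_smul_point {L : Type*} [Field L] [DecidableEq L] (f : K →+* L) (g : PGL(2, K))
    (x : OnePoint K) :
    OnePoint.map f (g • x) = ProjGenLinGroup.map f g • OnePoint.map f x := by
  induction g using ProjGenLinGroup.induction_on with | mk g =>
  rw [mk_smul', ProjGenLinGroup.map_mk, mk_smul']
  exact OnePoint.map_smul f g x

theorem map_injective {L : Type*} [Field L] [DecidableEq L] (f : K →+* L) :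
    Function.Injective (ProjGenLinGroup.map (n := Fin 2) f) := by
  rw [injective_iff_map_eq_one]
  intro g hg
  have hfix : ∀ x : OnePoint K, g • x = x := fun x => by
    have e := map_smul_point f g x
    rw [hg, one_smul] at e
    cases hgx : g • x <;> cases x <;> rw [hgx] at e <;>
      simp only [OnePoint.map_infty, OnePoint.map_some, coe_ne_infty, infty_ne_coe, coe_eq_coe] at e <;>
      first
        | rfl
        | rw [f.injective e]
  exact eq_one_of_fix_three (infty_ne_coe (0 : K)) (infty_ne_coe (1 : K))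
    (fun e => zero_ne_one (coe_eq_coe.1 e)) (hfix _) (hfix _) (hfix _)

end Cfsg.Agent.Classical.Dickson
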