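import Cfsg.Agent.Lib.Classical.DicksonAmbient

/-!
Subgroups and maximal subgroups of `PSL₂(F)` and `PGL₂(F)`.
-/

set_option autoImplicit false
set_option linter.style.haveILetI false
set_option linter.unusedSectionVars false

open scoped MatrixGroups Pointwise Classical
open Matrix OnePoint

noncomputable section

namespace Cfsg.Agent.Classical.Dickson

variable {F : Type*} [Field F] [Fintype F]

local notation "KK" => AlgebraicClosure F

/-- The standard copy of `PGL₂` over a subfield. -/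
def subPGL (L : Subfield (AlgebraicClosure F)) : Subgroup (PGL(2, AlgebraicClosure F)) :=
  (ProjGenLinGroup.map (n := Fin 2) L.subtype).range

/-- Contained in a Borel subgroup. -/
def InBorel (G₀ H : Subgroup (PGL(2, AlgebraicClosure F))) : Prop :=
  ∃ x ∈ orb G₀ (∞ : OnePoint (AlgebraicClosure F)), H ≤ st G₀ x

/-- Contained in the normaliser of a torus. -/
def InTorus (G₀ H : Subgroup (PGL(2, AlgebraicClosure F))) (e e' : ℕ) : Prop :=
  ∃ (D : Subgroup (PGL(2, AlgebraicClosure F))) (k : ℕ), (k = e ∨ k = e') ∧ H ≤ D ∧ D ≤ G₀ ∧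
    Nat.card D = 2 * k ∧ Nonempty (D ≃* DihedralGroup k)

/-- A subfield subgroup. -/
def IsFieldType (H : Subgroup (PGL(2, AlgebraicClosure F))) : Prop :=
  ∃ (K₀ : Subfield (AlgebraicClosure F)) (c : PGL(2, AlgebraicClosure F)), c ∈ pglF F ∧
    K₀ ≤ (algebraMap F (AlgebraicClosure F)).fieldRange ∧ 3 ≤ Nat.card K₀ ∧
    H.map (MulAut.conj c).toMonoidHom ≤ subPGL K₀ ∧
    ((Nat.card H = Nat.card K₀ * (Nat.card K₀ ^ 2 - 1) ∧ Nonempty (H ≃* PGL(2, K₀))) ∨
      (Odd (Nat.card K₀) ∧ 2 * Nat.card H = Nat.card K₀ * (Nat.card K₀ ^ 2 - 1) ∧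
        Nonempty (H ≃* Matrix.ProjectiveSpecialLinearGroup (Fin 2) K₀)))

theorem pglF_rational {g : PGL(2, KK)} (hg : g ∈ pglF F) {z : OnePoint KK}
    (hz : z ∈ Set.range (OnePoint.map (algebraMap F KK))) :
    g • z ∈ Set.range (OnePoint.map (algebraMap F KK)) := by
  obtain ⟨a, rfl⟩ := hg
  obtain ⟨w, rfl⟩ := hz
  exact ⟨a • w, map_smul_point _ _ _⟩


theorem rational_of_three {c : PGL(2, KK)} {x y w : OnePoint KK}
    (hx : x ∈ Set.range (OnePoint.map (algebraMap F KK))) (hy : y ∈ Set.range (OnePoint.map (algebraMap F KK)))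
    (hw : w ∈ Set.range (OnePoint.map (algebraMap F KK))) (hcx : c • x = ∞)
    (hcy : c • y = ((0 : KK) : OnePoint KK)) (hcw : c • w = ((1 : KK) : OnePoint KK)) : c ∈ pglF F := by
  obtain ⟨x', rfl⟩ := hx
  obtain ⟨y', rfl⟩ := hy
  obtain ⟨w', rfl⟩ := hw
  have hxy : x' ≠ y' := fun e => by rw [e, hcy] at hcx; exact coe_ne_infty _ hcx
  obtain ⟨d, hdx, hdy⟩ := exists_to_infty_zero hxy
  cases hdw : d • w' with
  | infty =>
    exfalso
    rw [MulAction.injective d (hdw.trans hdx.symm), hcx] at hcw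
    exact infty_ne_coe _ hcw
  | coe b =>
    have hb : b ≠ 0 := by
      rintro rfl
      rw [MulAction.injective d (hdw.trans hdy.symm), hcy] at hcw
      exact zero_ne_one (coe_eq_coe.1 hcw)
    set d' := aff (Units.mk0 b hb)⁻¹ 0 * d
    have e1 : d' • x' = ∞ := by rw [mul_smul, hdx, aff_smul_infty]
    have e2 : d' • y' = ((0 : F) : OnePoint F) := by rw [mul_smul, hdy, aff_smul_coe]; simp
    have e3 : d' • w' = ((1 : F) : OnePoint F) := by rw [mul_smul, hdw, aff_smul_coe]; simp [hb]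
    refine ⟨d', (inv_mul_eq_one.1 (eq_one_of_fix_three (g := c⁻¹ * ProjGenLinGroup.map (algebraMap F KK) d')
      (x := OnePoint.map (algebraMap F KK) x') (y := OnePoint.map (algebraMap F KK) y')
      (z := OnePoint.map (algebraMap F KK) w') ?_ ?_ ?_ ?_ ?_ ?_)).symm⟩
    · exact fun e => hxy (onePointMap_injective _ e)
    · intro e; rw [e, hcw] at hcx; exact coe_ne_infty _ hcx
    · intro e; rw [e, hcw] at hcy; exact one_ne_zero (coe_eq_coe.1 hcy)
    · rw [mul_smul, ← map_smul_point, e1, OnePoint.map_infty, ← hcx, inv_smul_smul]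
    · rw [mul_smul, ← map_smul_point, e2, OnePoint.map_some, map_zero, ← hcy, inv_smul_smul]
    · rw [mul_smul, ← map_smul_point, e3, OnePoint.map_some, map_one, ← hcw, inv_smul_smul]

instance finite_subfield (L : Subfield KK) [Finite L] : Finite (subPGL L) := by
  haveI : Finite (PGL(2, L)) := inferInstanceAs (Finite (GL (Fin 2) L ⧸ Subgroup.center (GL (Fin 2) L)))
  exact (Set.finite_range _).to_subtype

theorem card_PGL2 (L : Type*) [Field L] [Fintype L] :
    Nat.card (PGL(2, L)) = Fintype.card L * (Fintype.card L ^ 2 - 1) :=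
  (Nat.card_congr (MonoidHom.ofInjective (map_injective (algebraMap L (AlgebraicClosure L)))).toEquiv).trans
    (card_pglF (F := L))

theorem card_subPGL (L : Subfield KK) [Finite L] :
    Nat.card (subPGL L) = Nat.card L * (Nat.card L ^ 2 - 1) := by
  haveI := Fintype.ofFinite L
  rw [Nat.card_eq_fintype_card (α := L), ← card_PGL2 L]
  exact (Nat.card_congr (MonoidHom.ofInjective (map_injective L.subtype)).toEquiv).symm

theorem exists_hom_of_le {L : Subfield KK} (hL : L ≤ (algebraMap F KK).fieldRange) :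
    ∃ f : L →+* F, (algebraMap F KK).comp f = L.subtype := by
  let φ : F ≃+* (algebraMap F KK).fieldRange :=
    RingEquiv.ofBijective (algebraMap F KK).rangeRestrictField
      ⟨fun a b e => (algebraMap F KK).injective (congrArg Subtype.val e), fun ⟨_, a, rfl⟩ => ⟨a, rfl⟩⟩
  refine ⟨(φ.symm : (algebraMap F KK).fieldRange →+* F).comp (Subfield.inclusion hL), RingHom.ext fun k => ?_⟩
  exact congrArg Subtype.val (φ.apply_symm_apply (Subfield.inclusion hL k))

theorem finite_of_le {L : Subfield KK} (hL : L ≤ (algebraMap F KK).fieldRange) : Finite L := by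
  obtain ⟨f, -⟩ := exists_hom_of_le hL
  exact Finite.of_injective f f.injective

theorem card_eq_pow {L L' : Subfield KK} (h : L ≤ L') (hL' : L' ≤ (algebraMap F KK).fieldRange) :
    ∃ m : ℕ, 0 < m ∧ Nat.card L' = Nat.card L ^ m ∧ (m = 1 → L = L') := by
  haveI := finite_of_le hL'
  haveI := finite_of_le (h.trans hL')
  haveI := Fintype.ofFinite L
  haveI := Fintype.ofFinite L'
  letI := (Subfield.inclusion h).toAlgebra
  refine ⟨Module.finrank L L', Module.finrank_pos, ?_, fun hm => ?_⟩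
  · rw [Nat.card_eq_fintype_card, Nat.card_eq_fintype_card]
    exact Module.card_eq_pow_finrank
  · refine SetLike.coe_injective (Set.eq_of_subset_of_ncard_le h ?_ (Set.toFinite _))
    rw [← Nat.card_coe_set_eq, ← Nat.card_coe_set_eq]
    show Nat.card L' ≤ Nat.card L
    rw [Nat.card_eq_fintype_card, Nat.card_eq_fintype_card, Module.card_eq_pow_finrank (K := L) (V := L'),
      hm, pow_one]

theorem card_fieldRange : Nat.card (algebraMap F KK).fieldRange = Fintype.card F := by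
  rw [← Nat.card_eq_fintype_card]
  exact (Nat.card_range_of_injective (algebraMap F KK).injective)

/-- The subfield of the fixed points of a power of Frobenius. -/
theorem exists_subfield_pow (p a : ℕ) [Fact p.Prime] [CharP F p] (ha : 0 < a) :
    ∃ L : Subfield KK, Nat.card L = p ^ a ∧ ∀ k, k ∈ L ↔ k ^ (p ^ a) = k := by
  haveI : CharP KK p := charP_of_injective_algebraMap (algebraMap F KK).injective p
  refine ⟨RingHom.eqLocusField (iterateFrobenius KK p a) (RingHom.id KK), ?_, fun k => ?_⟩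
  swap
  · show iterateFrobenius KK p a k = k ↔ _
    rw [iterateFrobenius_def]
  set n := p ^ a
  have hn : 1 < n := Nat.one_lt_pow ha.ne' (Fact.out : p.Prime).one_lt
  have hsep : (Polynomial.X ^ n - Polynomial.X : Polynomial KK).Separable :=
    galois_poly_separable p n (dvd_pow_self p ha.ne')
  have hc := Polynomial.card_rootSet_eq_natDegree (K := KK) hsep (IsAlgClosed.splits _)
  rw [FiniteField.X_pow_card_sub_X_natDegree_eq KK hn] at hc
  conv_rhs => rw [← hc, ← Nat.card_eq_fintype_card]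
  refine Nat.card_congr (Equiv.subtypeEquivRight fun k => ?_)
  rw [Polynomial.mem_rootSet]
  show iterateFrobenius KK p a k = k ↔ _
  simp [iterateFrobenius_def, sub_eq_zero, FiniteField.X_pow_card_sub_X_ne_zero KK hn, n]

variable {G₀ : Subgroup (PGL(2, AlgebraicClosure F))} [Finite G₀] {e e' : ℕ}

theorem rational_of_qOf (A : Ambient G₀ (Fintype.card F) e e') {H : Subgroup (PGL(2, KK))} (hH : H ≤ G₀)
    {x : OnePoint KK} (hq : 1 < qOf H x) : x ∈ orb G₀ (∞ : OnePoint KK) := by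
  haveI : Finite H := Finite.of_injective _ (Subgroup.inclusion_injective hH)
  haveI : Nontrivial (tr H x) := Finite.one_lt_card_iff_nontrivial.1 hq
  obtain ⟨⟨g, hg⟩, hne⟩ := exists_ne (1 : tr H x)
  have hg1 : g ≠ 1 := fun e => hne (Subtype.ext e)
  rcases A.split.1 x ⟨g, hH hg.1, hg1, hg.2.1⟩ with h | ⟨-, h, -⟩
  · exact h.1
  · exfalso
    unfold qOf at h
    have : g ∈ tr G₀ x := ⟨hH hg.1, hg.2⟩
    rw [Subgroup.eq_bot_of_card_eq _ h, Subgroup.mem_bot] at this
    exact hg1 this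

theorem cyclic_case (A : Ambient G₀ (Fintype.card F) e e') (hq4 : 4 ≤ Fintype.card F) {g : PGL(2, KK)}
    (hg : g ∈ G₀) (hg1 : g ≠ 1) :
    InBorel G₀ (Subgroup.zpowers g) ∨ InTorus G₀ (Subgroup.zpowers g) e e' := by
  rcases fixed_cases hg1 with ⟨x, hx, -⟩ | ⟨x, y, hxy, -, -, h⟩
  · refine Or.inl ⟨x, ?_, Subgroup.zpowers_le.2 ⟨hg, hx.1⟩⟩
    rcases A.split.1 x ⟨g, hg, hg1, hx.1⟩ with h | ⟨-, h, -⟩
    · exact h.1
    · exfalso
      unfold qOf at h
      have : g ∈ tr G₀ x := ⟨hg, hx⟩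
      rw [Subgroup.eq_bot_of_card_eq _ h, Subgroup.mem_bot] at this
      exact hg1 this
  · obtain ⟨k, hk, hgD, hcard, hiso, -⟩ :=
      A.torus hq4 hg hxy hg1 ((h x).2 (Or.inl rfl)) ((h y).2 (Or.inr rfl))
    exact Or.inr ⟨_, k, hk, Subgroup.zpowers_le.2 hgD, inf_le_left, hcard, hiso⟩

/-- The non-trivial subgroups. -/
theorem sub_cases (p : ℕ) [Fact p.Prime] [CharP F p] (hG₀ : G₀ ≤ pglF F) (hG₀' : pslF F ≤ G₀)
    (A : Ambient G₀ (Fintype.card F) e e') (hq4 : 4 ≤ Fintype.card F)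
    {H : Subgroup (PGL(2, KK))} (hH : H ≤ G₀) (hne : H ≠ ⊥) :
    InBorel G₀ H ∨ InTorus G₀ H e e' ∨
    (p ≠ 2 ∧ p ≠ 3 ∧ Nonempty (H ≃* alternatingGroup (Fin 4))) ∨
    (p ≠ 2 ∧ p ≠ 3 ∧ Nonempty (H ≃* Equiv.Perm (Fin 4))) ∨
    (p ≠ 2 ∧ p ≠ 5 ∧ (5 ∣ e ∨ 5 ∣ e') ∧ Nonempty (H ≃* alternatingGroup (Fin 5))) ∨
    IsFieldType H := by
  haveI : CharP KK p := charP_of_injective_algebraMap (algebraMap F KK).injective p
  haveI : Finite H := Finite.of_injective _ (Subgroup.inclusion_injective hH)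
  have h2 : 2 ≤ Nat.card H := by
    by_contra hlt
    have := Nat.card_pos (α := H)
    exact hne (Subgroup.eq_bot_of_card_eq _ (by omega))
  rcases classify H p h2 with ⟨x, hx⟩ | ⟨x, hq, hc2, -⟩ | h | h | ⟨hp2, hp5, ⟨f⟩⟩ |
    ⟨x, K₀, hq3, hK₀, ⟨c, hc, hline, hle⟩, hcase⟩
  · by_cases hq : qOf H x = 1
    · haveI := isCyclic_st H hq
      obtain ⟨⟨g, hg⟩, hgen⟩ := IsCyclic.exists_generator (α := st H x)
      have hHg : H = Subgroup.zpowers g := by
        refine le_antisymm (fun k hk => ?_) (Subgroup.zpowers_le.2 hg.1)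
        rw [← hx] at hk
        obtain ⟨n, hn⟩ := Subgroup.mem_zpowers_iff.1 (hgen ⟨k, hk⟩)
        exact Subgroup.mem_zpowers_iff.2 ⟨n, congrArg Subtype.val hn⟩
      have hg1 : g ≠ 1 := fun e1 => hne (by rw [hHg, e1, Subgroup.zpowers_one_eq_bot])
      rw [hHg]
      rcases cyclic_case A hq4 (hH hg.1) hg1 with h | h
      · exact Or.inl h
      · exact Or.inr (Or.inl h)
    · refine Or.inl ⟨x, rational_of_qOf A hH (by have := qOf_pos H x; omega), fun g hg => ⟨hH hg, ?_⟩⟩
      have hg' : g ∈ st H x := by rw [hx]; exact hg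
      exact hg'.2
  · by_cases hst1 : Nat.card (st H x) = 1
    · rw [hst1] at hc2
      haveI : Fact (Nat.Prime 2) := ⟨Nat.prime_two⟩
      obtain ⟨⟨g, hg⟩, hgo⟩ := exists_prime_orderOf_dvd_card' (G := H) 2 (dvd_of_eq (by omega))
      rw [Subgroup.orderOf_mk] at hgo
      have hHg : H = Subgroup.zpowers g :=
        (Subgroup.eq_of_le_of_card_ge (Subgroup.zpowers_le.2 hg) (by rw [Nat.card_zpowers, hgo]; omega)).symm
      have hg1 : g ≠ 1 := fun e1 => by rw [e1, orderOf_one] at hgo; omega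
      rw [hHg]
      rcases cyclic_case A hq4 (hH hg) hg1 with h | h
      · exact Or.inl h
      · exact Or.inr (Or.inl h)
    have ho : Nat.card (orb H x) = 2 := by
      have := card_orb_mul H x
      rw [← hc2] at this
      exact Nat.eq_of_mul_eq_mul_right Nat.card_pos this
    haveI : Nontrivial (st H x) := Finite.one_lt_card_iff_nontrivial.1 (by
      have := Nat.card_pos (α := st H x); omega)
    obtain ⟨⟨g, hg⟩, hne1⟩ := exists_ne (1 : st H x)
    have hg1 : g ≠ 1 := fun e1 => hne1 (Subtype.ext e1)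
    obtain ⟨y, hy, hyx⟩ : ∃ y ∈ orb H x, y ≠ x :=
      Set.exists_ne_of_one_lt_ncard (by rw [← Nat.card_coe_set_eq, ho]; norm_num) x
    have hpair : orb H x = {x, y} := by
      refine (Set.eq_of_subset_of_ncard_le ?_ ?_ (finite_orb H x)).symm
      · rintro z (rfl | rfl)
        · exact self_mem_orb H _
        · exact hy
      · rw [← Nat.card_coe_set_eq (orb H x), ho, Set.ncard_pair hyx.symm]
    have horb : ∀ h ∈ H, ∀ z ∈ orb H x, h • z ∈ orb H x := by
      rintro h hh z ⟨k, hk, rfl⟩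
      exact ⟨h * k, H.mul_mem hh hk, mul_smul _ _ _⟩
    have hgy : g • y = y := by
      have := horb g hg.1 y hy
      rw [hpair] at this
      rcases this with h | h
      · exact absurd (MulAction.injective g (h.trans hg.2.symm)) hyx
      · exact h
    obtain ⟨k, hk, -, hcard, hiso, -⟩ := A.torus hq4 (hH hg.1) hyx.symm hg1 hg.2 hgy
    refine Or.inr (Or.inl ⟨_, k, hk, fun h hh => Ambient.mem_pairStab.2 ⟨hH hh, ?_⟩, inf_le_left, hcard, hiso⟩)
    have h1 := horb h hh x (self_mem_orb H x)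
    have h2 := horb h hh y hy
    rw [hpair] at h1 h2
    rcases h1 with h1 | h1 <;> rcases h2 with h2 | h2
    · exact absurd (MulAction.injective h (h1.trans h2.symm)) hyx.symm
    · exact Or.inl ⟨h1, h2⟩
    · exact Or.inr ⟨h1, h2⟩
    · exact absurd (MulAction.injective h (h1.trans h2.symm)) hyx.symm
  · exact Or.inr (Or.inr (Or.inl h))
  · exact Or.inr (Or.inr (Or.inr (Or.inl h)))
  · refine Or.inr (Or.inr (Or.inr (Or.inr (Or.inl ⟨hp2, hp5, ?_, ⟨f⟩⟩))))
    haveI : Fact (Nat.Prime 5) := ⟨by norm_num⟩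
    obtain ⟨⟨g, hg⟩, hgo⟩ := exists_prime_orderOf_dvd_card' (G := H) 5 (by
      rw [Nat.card_congr f.toEquiv, nat_card_alternatingGroup, Nat.card_fin]; decide)
    rw [Subgroup.orderOf_mk] at hgo
    obtain ⟨z, hz⟩ := exists_fixed g
    have hg1 : g ≠ 1 := fun e1 => by rw [e1, orderOf_one] at hgo; omega
    rcases orderOf_cases G₀ (p := p) (x := z) (g := g) ⟨hH hg, hz⟩ with ⟨hd, -⟩ | hd <;> rw [hgo] at hd
    · exact absurd ((Nat.prime_dvd_prime_iff_eq (by norm_num) Fact.out).1 hd).symm hp5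
    · rcases A.split.1 z ⟨g, hH hg, hg1, hz⟩ with ⟨-, -, h⟩ | ⟨-, -, h⟩ <;> rw [h] at hd
      · exact Or.inl hd
      · exact Or.inr hd
  · refine Or.inr (Or.inr (Or.inr (Or.inr (Or.inr ?_))))
    have hq1 : 1 < qOf H x := by omega
    have hxO := rational_of_qOf A hH hq1
    have hrat : ∀ z ∈ orb H x, z ∈ Set.range (OnePoint.map (algebraMap F KK)) := by
      rintro z ⟨g, hg, rfl⟩
      exact pglF_rational (hG₀ (hH hg)) (orb_infty G₀ hG₀ hG₀' ▸ hxO)
    obtain ⟨y, hy, hy'⟩ := hline 0 (zero_mem _)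
    obtain ⟨w, hw, hw'⟩ := hline 1 (one_mem _)
    have hcF := rational_of_three (hrat x (self_mem_orb H x)) (hrat y hy) (hrat w hw) hc hy' hw'
    have hK₀le : K₀ ≤ (algebraMap F KK).fieldRange := by
      intro k hk
      obtain ⟨z, hz, hz'⟩ := hline k hk
      obtain ⟨t, ht⟩ := pglF_rational hcF (hrat z hz)
      rw [hz'] at ht
      cases t with
      | infty => exact absurd ht (infty_ne_coe _)
      | coe a => exact ⟨a, coe_eq_coe.1 ht⟩
    haveI := finite_of_le hK₀le
    haveI := Fintype.ofFinite K₀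
    refine ⟨K₀, c, hcF, hK₀le, by omega, hle, ?_⟩
    rcases hcase with ⟨he, ⟨f⟩⟩ | ⟨he, ⟨f⟩⟩
    · refine Or.inl ⟨?_, ⟨f⟩⟩
      rw [Nat.card_congr f.toEquiv, card_PGL2, Nat.card_eq_fintype_card]
    · have hodd : Nat.card K₀ % 2 = 1 := by
        have := eOf_pos H x
        omega
      refine Or.inr ⟨Nat.odd_iff.2 hodd, ?_, ⟨f⟩⟩
      have h := SL2.card_PSL2_mul (F := K₀)
      rw [← Nat.card_eq_fintype_card, show Nat.gcd 2 (Nat.card K₀ - 1) = 2 from Nat.gcd_eq_left (by omega)] at h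
      rw [Nat.card_congr f.toEquiv, h]

end Cfsg.Agent.Classical.Dickson
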