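import Cfsg.Agent.Lib.Classical.DicksonMax

/-!
Maximal subgroups of `PSL₂(F)` and `PGL₂(F)` and the intersections with subfield subgroups.
-/

set_option autoImplicit false
set_option linter.style.haveILetI false
set_option linter.unusedSectionVars false

open scoped MatrixGroups Pointwise Classical
open Matrix OnePoint

noncomputable section

namespace Cfsg.Agent.Classical.Dickson

variable {F : Type*} [Field F] [Fintype F]

local notation "KK" => AlgebraicClosure F

theorem map_conj_map {G : Type*} [Group G] (c : G) (H : Subgroup G) :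
    (H.map (MulAut.conj c).toMonoidHom).map (MulAut.conj c⁻¹).toMonoidHom = H := by
  rw [Subgroup.map_map]
  convert Subgroup.map_id H
  ext x
  simp [mul_assoc]

theorem mem_pslF_iff (g : GL (Fin 2) F) :
    ProjGenLinGroup.map (algebraMap F KK) (ProjGenLinGroup.mk g) ∈ pslF F ↔ IsSquare g.det := by
  rw [← mem_range_toPGL_iff]
  constructor
  · rintro ⟨a, ha⟩
    exact ⟨a, map_injective (algebraMap F KK) ha⟩
  · rintro ⟨a, ha⟩
    exact ⟨a, congrArg (ProjGenLinGroup.map (algebraMap F KK)) ha⟩

theorem conj_pslF {c : PGL(2, KK)} (hc : c ∈ pglF F) :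
    (pslF F).map (MulAut.conj c).toMonoidHom = pslF F := by
  refine Subgroup.eq_of_le_of_card_ge ?_ (le_of_eq (Subgroup.card_map_of_injective (MulAut.conj c).injective).symm)
  rintro _ ⟨_, ⟨a, rfl⟩, rfl⟩
  obtain ⟨γ, rfl⟩ := hc
  induction γ using ProjGenLinGroup.induction_on with | mk γ =>
  obtain ⟨g, hg⟩ := ProjGenLinGroup.mk_surjective (ProjectiveSpecialLinearGroup.toPGL a)
  have hsq : IsSquare g.det := (mem_range_toPGL_iff g).1 ⟨a, hg.symm⟩
  show ProjGenLinGroup.map (algebraMap F KK) (ProjGenLinGroup.mk γ) *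
    ProjGenLinGroup.map (algebraMap F KK) (ProjectiveSpecialLinearGroup.toPGL a) *
    (ProjGenLinGroup.map (algebraMap F KK) (ProjGenLinGroup.mk γ))⁻¹ ∈ pslF F
  rw [← hg, ← map_inv, ← map_mul, ← map_mul, ← map_inv, ← map_mul, ← map_mul, mem_pslF_iff]
  have e : GeneralLinearGroup.det (γ * g * γ⁻¹) = GeneralLinearGroup.det g := by
    rw [map_mul, map_mul, map_inv, mul_inv_eq_iff_eq_mul, mul_comm]
  rw [e]
  exact hsq

theorem conj_pglF {c : PGL(2, KK)} (hc : c ∈ pglF F) :
    (pglF F).map (MulAut.conj c).toMonoidHom = pglF F := map_conj_self _ hc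

theorem subPGL_le_pglF {L : Subfield KK} (hL : L ≤ (algebraMap F KK).fieldRange) :
    subPGL L ≤ pglF F := by
  obtain ⟨f, hf⟩ := exists_hom_of_le hL
  rintro _ ⟨g, rfl⟩
  exact ⟨ProjGenLinGroup.map f g, by rw [← MonoidHom.comp_apply, ← ProjGenLinGroup.map_comp, hf]⟩

/-- The image of `PSL₂` of a subfield. -/
theorem psl_le_sub {L : Subfield KK} (hL : L ≤ (algebraMap F KK).fieldRange) :
    (((ProjGenLinGroup.map (n := Fin 2) L.subtype).comp ProjectiveSpecialLinearGroup.toPGL).range) ≤
      subPGL L ⊓ pslF F := by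
  obtain ⟨f, hf⟩ := exists_hom_of_le hL
  rintro _ ⟨a, rfl⟩
  refine ⟨⟨_, rfl⟩, ?_⟩
  induction a using QuotientGroup.induction_on with | H h =>
  show ProjGenLinGroup.map L.subtype (ProjectiveSpecialLinearGroup.toPGL (QuotientGroup.mk h)) ∈ pslF F
  rw [ProjectiveSpecialLinearGroup.toPGL_mk, ← hf, ProjGenLinGroup.map_comp, MonoidHom.comp_apply,
    ProjGenLinGroup.map_mk, mem_pslF_iff]
  refine ⟨1, Units.ext ?_⟩
  simp
  show ((h : Matrix (Fin 2) (Fin 2) L).map f).det = 1
  rw [← RingHom.mapMatrix_apply, ← RingHom.map_det, h.2, map_one]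

theorem card_psl_sub {L : Subfield KK} (hL : L ≤ (algebraMap F KK).fieldRange) :
    Nat.card L * (Nat.card L ^ 2 - 1) ≤
      2 * Nat.card ↥(subPGL L ⊓ pslF F) := by
  haveI := finite_of_le hL
  haveI := Fintype.ofFinite L
  haveI : Finite ↥(subPGL L ⊓ pslF F) :=
    Finite.of_injective _ (Subgroup.inclusion_injective inf_le_left)
  have h := SL2.card_PSL2_mul (F := L)
  have hle : Nat.card (Matrix.ProjectiveSpecialLinearGroup (Fin 2) L) ≤ Nat.card ↥(subPGL L ⊓ pslF F) := by
    have hinj : Function.Injective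
        ((ProjGenLinGroup.map (n := Fin 2) L.subtype).comp ProjectiveSpecialLinearGroup.toPGL) := by
      rw [MonoidHom.coe_comp]
      exact (map_injective L.subtype).comp (ProjectiveSpecialLinearGroup.toPGL_injective (n := Fin 2) (R := L))
    rw [Nat.card_congr (MonoidHom.ofInjective hinj).toEquiv]
    exact Subgroup.card_le_of_le (psl_le_sub hL)
  rw [Nat.card_eq_fintype_card (α := L), ← h]
  exact Nat.mul_le_mul (Nat.gcd_le_left _ (by norm_num)) hle

theorem geom_parity (l : ℕ) (hl : Odd l) : ∀ m : ℕ, (∑ i ∈ Finset.range m, l ^ i) % 2 = m % 2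
  | 0 => rfl
  | m + 1 => by
    rw [Finset.sum_range_succ, Nat.add_mod, geom_parity l hl m, Nat.odd_iff.1 hl.pow]
    omega

/-- The elements of a subfield of index `m` are squares exactly for even order or even index. -/
theorem sub_le_pslF_iff {L : Subfield KK} (hL : L ≤ (algebraMap F KK).fieldRange) {m : ℕ}
    (hm : Fintype.card F = Nat.card L ^ m) :
    subPGL L ≤ pslF F ↔ Even (Nat.card L) ∨ Even m := by
  obtain ⟨f, hf⟩ := exists_hom_of_le hL
  haveI := finite_of_le hL
  haveI := Fintype.ofFinite L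
  have hle : subPGL L ≤ pslF F ↔ ∀ a : L, a ≠ 0 → IsSquare (f a) := by
    constructor
    · intro h a ha
      have h1 := h ⟨ProjGenLinGroup.mk (affGL (Units.mk0 a ha) 0), rfl⟩
      rw [← hf, ProjGenLinGroup.map_comp, MonoidHom.comp_apply, ProjGenLinGroup.map_mk, mem_pslF_iff] at h1
      obtain ⟨r, hr⟩ := h1
      refine ⟨r, ?_⟩
      have := congrArg Units.val hr
      simpa [affGL_coe, Matrix.det_fin_two] using this
    · rintro h _ ⟨g, rfl⟩
      induction g using ProjGenLinGroup.induction_on with | mk g =>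
      rw [← hf, ProjGenLinGroup.map_comp, MonoidHom.comp_apply, ProjGenLinGroup.map_mk, mem_pslF_iff]
      have hdet : ((GeneralLinearGroup.det (GeneralLinearGroup.map f g)) : F) = f (g : Matrix (Fin 2) (Fin 2) L).det := by
        rw [GeneralLinearGroup.val_det_apply, RingHom.map_det]; rfl
      obtain ⟨r, hr⟩ := h _ g.det_ne_zero
      have hr0 : r ≠ 0 := fun e => by
        rw [e, mul_zero, map_eq_zero] at hr
        exact g.det_ne_zero hr
      exact ⟨Units.mk0 r hr0, Units.ext (by rw [hdet, hr]; rfl)⟩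
  rw [hle]
  rw [Nat.card_eq_fintype_card] at hm ⊢
  by_cases hc : ringChar F = 2
  · have hcL : ringChar L = 2 := by
      haveI : CharP F 2 := ringChar.eq_iff.1 hc
      haveI : CharP L 2 := (RingHom.charP_iff f f.injective 2).2 inferInstance
      exact ringChar.eq L 2
    exact iff_of_true (fun a _ => FiniteField.isSquare_of_char_two hc (f a))
      (Or.inl (Nat.even_iff.2 ((FiniteField.even_card_iff_char_two (F := L)).1 hcL)))
  · have hoddF : Fintype.card F % 2 = 1 := FiniteField.odd_card_of_char_ne_two hc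
    have hoddL : Odd (Fintype.card L) := by
      rw [Nat.odd_iff]
      by_contra he
      rw [hm, Nat.pow_mod, show Fintype.card L % 2 = 0 by omega] at hoddF
      rcases m with _ | m
      · have := Fintype.one_lt_card (α := F); rw [hm] at this; norm_num at this
      · norm_num at hoddF
    have hcL : ringChar L ≠ 2 := fun e => by
      have := (FiniteField.even_card_iff_char_two (F := L)).1 e
      rw [Nat.odd_iff] at hoddL; omega
    have hexp : Fintype.card F / 2 = Fintype.card L / 2 * ∑ i ∈ Finset.range m, Fintype.card L ^ i := by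
      have h1 := Nat.geomSum_eq Fintype.one_lt_card m (m := Fintype.card L)
      have hd : (Fintype.card L - 1) * (∑ i ∈ Finset.range m, Fintype.card L ^ i) = Fintype.card F - 1 := by
        rw [h1, hm, Nat.mul_div_cancel' (by simpa using Nat.sub_dvd_pow_sub_pow (Fintype.card L) 1 m)]
      obtain ⟨t, ht⟩ := hoddL
      rw [ht, show 2 * t + 1 - 1 = 2 * t by omega, mul_assoc] at hd
      rw [ht, show (2 * t + 1) / 2 = t by omega]
      omega
    have key : ∀ a : L, a ≠ 0 → (IsSquare (f a) ↔ IsSquare a ∨ Even m) := by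
      intro a ha
      rw [FiniteField.isSquare_iff hc ((map_ne_zero f).2 ha), ← map_pow, map_eq_one_iff f f.injective,
        hexp, pow_mul]
      constructor
      · intro h
        rw [or_iff_not_imp_left]
        intro hns
        rw [FiniteField.isSquare_iff hcL ha] at hns
        rw [(FiniteField.pow_dichotomy hcL ha).resolve_left hns] at h
        rcases Nat.even_or_odd (∑ i ∈ Finset.range m, Fintype.card L ^ i) with hs | hs
        · rw [Nat.even_iff, geom_parity _ hoddL] at hs; exact Nat.even_iff.2 hs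
        · rw [hs.neg_one_pow] at h
          exact absurd h (Ring.neg_one_ne_one_of_char_ne_two hcL)
      · rintro (h | h)
        · rw [(FiniteField.isSquare_iff hcL ha).1 h, one_pow]
        · rcases FiniteField.pow_dichotomy hcL ha with e | e
          · rw [e, one_pow]
          · rw [e]
            exact Even.neg_one_pow (by rw [Nat.even_iff, geom_parity _ hoddL]; exact Nat.even_iff.1 h)
    constructor
    · intro h
      obtain ⟨a, ha⟩ := FiniteField.exists_nonsquare hcL
      have ha0 : a ≠ 0 := fun e => ha (e ▸ IsSquare.zero)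
      exact Or.inr (((key a ha0).1 (h a ha0)).resolve_left ha)
    · rintro (h | h) a ha
      · exact absurd h (Nat.not_even_iff_odd.2 hoddL)
      · exact (key a ha).2 (Or.inr h)

theorem card_sub_inf_pslF {L : Subfield KK} (hL : L ≤ (algebraMap F KK).fieldRange) {m : ℕ}
    (hm : Fintype.card F = Nat.card L ^ m) :
    ((Even (Nat.card L) ∨ Even m) → subPGL L ⊓ pslF F = subPGL L) ∧
    (Odd (Nat.card L) → Odd m →
      2 * Nat.card ↥(subPGL L ⊓ pslF F) = Nat.card L * (Nat.card L ^ 2 - 1)) := by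
  refine ⟨fun h => inf_eq_left.2 ((sub_le_pslF_iff hL hm).2 h), fun h1 h2 => le_antisymm ?_ (card_psl_sub hL)⟩
  haveI := finite_of_le hL
  rw [← card_subPGL L]
  have hd : Nat.card ↥(subPGL L ⊓ pslF F) ∣ Nat.card (subPGL L) := Subgroup.card_dvd_of_le inf_le_left
  obtain ⟨k, hk⟩ := hd
  have hne : k ≠ 1 := by
    rintro rfl
    rw [mul_one] at hk
    have := (sub_le_pslF_iff hL hm).1 (inf_eq_left.1 (Subgroup.eq_of_le_of_card_ge inf_le_left hk.le))
    rw [Nat.odd_iff] at h1 h2
    rw [Nat.even_iff, Nat.even_iff] at this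
    omega
  have hk0 : k ≠ 0 := by
    rintro rfl
    have := Nat.card_pos (α := subPGL L)
    omega
  rw [hk, mul_comm]
  exact Nat.mul_le_mul_left _ (by omega)

/-- Maximality among the subgroups of `G₀`. -/
def IsMax (G₀ M : Subgroup (PGL(2, AlgebraicClosure F))) : Prop :=
  M ≤ G₀ ∧ M ≠ G₀ ∧ ∀ L, M ≤ L → L ≤ G₀ → L = M ∨ L = G₀

theorem isMax_map {G : Type*} [Group G] (f : G →* PGL(2, KK)) (hf : Function.Injective f)
    {M : Subgroup G} (hM : IsCoatom M) : IsMax f.range (M.map f) := by
  refine ⟨by rintro _ ⟨a, -, rfl⟩; exact ⟨a, rfl⟩, fun h => hM.1 ?_, fun L h1 h2 => ?_⟩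
  · rw [← Subgroup.comap_map_eq_self_of_injective hf M, h, eq_top_iff]
    exact fun a _ => ⟨a, rfl⟩
  · have hML : M ≤ L.comap f := fun a ha => h1 ⟨a, ha, rfl⟩
    rcases hML.eq_or_lt with e | e
    · exact Or.inl (by rw [e, Subgroup.map_comap_eq_self h2])
    · refine Or.inr (le_antisymm h2 ?_)
      rintro _ ⟨a, rfl⟩
      exact (hM.2 _ e).ge (Subgroup.mem_top a)

theorem isCoatom_of_isMax {G : Type*} [Group G] (f : G →* PGL(2, KK)) (hf : Function.Injective f)
    {M : Subgroup G} (hM : IsMax f.range (M.map f)) : IsCoatom M := by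
  refine ⟨fun h => hM.2.1 (by rw [h, ← MonoidHom.range_eq_map]), fun N hN => ?_⟩
  have hle : N.map f ≤ f.range := by rintro _ ⟨a, -, rfl⟩; exact ⟨a, rfl⟩
  rcases hM.2.2 (N.map f) (Subgroup.map_mono hN.le) hle with h | h
  · exact absurd (Subgroup.map_injective hf h) hN.ne'
  · rw [MonoidHom.range_eq_map] at h
    exact Subgroup.map_injective hf h

variable {G₀ : Subgroup (PGL(2, AlgebraicClosure F))} [Finite G₀] {e e' : ℕ}

/-- A subgroup of index at most two in `PGL₂(F)` contains `PSL₂(F)`. -/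
theorem pslF_le_of_index {M : Subgroup (PGL(2, KK))} (hM : M ≤ pglF F) (hodd : Odd (Fintype.card F))
    (hcard : Fintype.card F * (Fintype.card F ^ 2 - 1) ≤ 2 * Nat.card M) : pslF F ≤ M := by
  set N := M.subgroupOf (pglF F) with hN
  have hNc : Nat.card N = Nat.card M := Nat.card_congr (Subgroup.subgroupOfEquivOfLe hM).toEquiv
  have hidx : N.index ≤ 2 := by
    have h1 := N.index_mul_card
    rw [hNc, card_pglF] at h1
    haveI : Finite M := Finite.of_injective _ (Subgroup.inclusion_injective hM)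
    have := Nat.card_pos (α := M)
    nlinarith
  have hsq : ∀ g : pglF F, g * g ∈ N := by
    intro g
    have hpos : 0 < N.index := Nat.pos_of_ne_zero N.index_ne_zero_of_finite
    interval_cases hi : N.index
    · rw [Subgroup.index_eq_one.1 hi]; trivial
    · exact Subgroup.mul_self_mem_of_index_two hi g
  rintro _ ⟨a, rfl⟩
  induction a using QuotientGroup.induction_on with | H h =>
  refine SL_transvection_induction (fun h => emb (QuotientGroup.mk h) ∈ M) (fun i j hij b => ?_)
    (fun A B hA hB => by rw [QuotientGroup.mk_mul, map_mul]; exact M.mul_mem hA hB) h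
  have hh : (SpecialLinearGroup.transvection hij (b / 2)) * (SpecialLinearGroup.transvection hij (b / 2)) =
      (SpecialLinearGroup.transvection hij b : SpecialLinearGroup (Fin 2) F) := by
    apply Subtype.ext
    show ((SpecialLinearGroup.transvection hij (b / 2) : SpecialLinearGroup (Fin 2) F) : Matrix (Fin 2) (Fin 2) F) *
      ((SpecialLinearGroup.transvection hij (b / 2) : SpecialLinearGroup (Fin 2) F) : Matrix (Fin 2) (Fin 2) F) = _
    rw [SpecialLinearGroup.transvection_coe, SpecialLinearGroup.transvection_coe,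
      add_mul, one_mul, mul_add, mul_one, Matrix.single_mul_single_of_ne _ _ _ _ hij.symm]
    rw [add_zero, add_assoc, ← Matrix.single_add]
    congr 2
    have h2 : (2 : F) ≠ 0 := SL2Two.two_ne_zero' hodd
    field_simp
    ring
  rw [← hh, QuotientGroup.mk_mul, map_mul]
  exact hsq ⟨_, pslF_le F ⟨_, rfl⟩⟩

/-- The maximal subgroups. -/
theorem max_cases (p : ℕ) [Fact p.Prime] [CharP F p] (hG₀ : G₀ ≤ pglF F) (hG₀' : pslF F ≤ G₀)
    (hn : ∀ c ∈ pglF F, G₀.map (MulAut.conj c).toMonoidHom = G₀)
    (A : Ambient G₀ (Fintype.card F) e e') (hq4 : 4 ≤ Fintype.card F)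
    {M : Subgroup (PGL(2, KK))} (hM : IsMax G₀ M) (hnot : ¬ pslF F ≤ M) :
    (∃ x ∈ orb G₀ (∞ : OnePoint KK), M = st G₀ x ∧ Nat.card M = Fintype.card F * e) ∨
    (∃ k, (k = e ∨ k = e') ∧ Nat.card M = 2 * k ∧ Nonempty (M ≃* DihedralGroup k)) ∨
    (p ≠ 2 ∧ p ≠ 3 ∧ Nonempty (M ≃* alternatingGroup (Fin 4))) ∨
    (p ≠ 2 ∧ p ≠ 3 ∧ Nonempty (M ≃* Equiv.Perm (Fin 4))) ∨
    (p ≠ 2 ∧ p ≠ 5 ∧ (5 ∣ e ∨ 5 ∣ e') ∧ Nonempty (M ≃* alternatingGroup (Fin 5))) ∨
    (∃ (K₀ : Subfield KK) (c : PGL(2, KK)) (m : ℕ), c ∈ pglF F ∧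
      K₀ ≤ (algebraMap F KK).fieldRange ∧ 3 ≤ Nat.card K₀ ∧ m.Prime ∧
      Fintype.card F = Nat.card K₀ ^ m ∧ M.map (MulAut.conj c).toMonoidHom = subPGL K₀ ⊓ G₀ ∧
      ((Nat.card M = Nat.card K₀ * (Nat.card K₀ ^ 2 - 1) ∧ Nonempty (M ≃* PGL(2, K₀))) ∨
        (Odd (Nat.card K₀) ∧ 2 * Nat.card M = Nat.card K₀ * (Nat.card K₀ ^ 2 - 1) ∧
          Nonempty (M ≃* Matrix.ProjectiveSpecialLinearGroup (Fin 2) K₀)))) := by
  obtain ⟨hMle, hMne, hMmax⟩ := hM
  have hh := A.card
  have hepos := A.e_pos
  have hse : (Fintype.card F - 1) ≤ 2 * e := by rcases A.kind with ⟨h, -⟩ | ⟨h, -⟩ <;> omega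
  have hMbot : M ≠ ⊥ := by
    rintro rfl
    -- a Borel subgroup lies in between
    rcases hMmax (st G₀ (∞ : OnePoint KK)) bot_le (st_le G₀ _) with h | h
    · have := card_st G₀ (∞ : OnePoint KK)
      rw [h, Subgroup.card_bot, A.hq] at this
      have := eOf_pos G₀ (∞ : OnePoint KK)
      nlinarith
    · have := card_st G₀ (∞ : OnePoint KK)
      rw [h, hh, A.hq, A.he] at this
      nlinarith
  rcases sub_cases p hG₀ hG₀' A hq4 hMle hMbot with ⟨x, hx, hxM⟩ | ⟨D, k, hk, hMD, hD, hDc, hDi⟩ | h | h | h |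
    ⟨K₀, c, hc, hK₀, h3, hle, hiso⟩
  · left
    have hc2 : Nat.card (st G₀ x) = Fintype.card F * e := by
      rw [card_st, qOf_orb G₀ hx, eOf_orb G₀ hx, A.hq, A.he]
    refine ⟨x, hx, ?_, ?_⟩ <;> rcases hMmax _ hxM (st_le G₀ x) with h | h
    · exact h.symm
    · exfalso
      rw [h, hh] at hc2
      nlinarith
    · rw [← h, hc2]
    · exfalso
      rw [h, hh] at hc2
      nlinarith
  · right; left
    rcases hMmax D hMD hD with h | h
    · subst h
      exact ⟨k, hk, hDc, hDi⟩
    · exfalso
      rw [h, hh] at hDc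
      have hkle : k ≤ Fintype.card F + 1 := by
        rcases A.kind with ⟨h1, h2⟩ | ⟨h1, h2⟩ <;> rcases hk with rfl | rfl <;> omega
      have h6 : 6 ≤ Fintype.card F * e := by
        rcases A.kind with ⟨h1, -⟩ | ⟨h1, -⟩
        · rw [h1]; nlinarith [show 3 ≤ Fintype.card F - 1 by omega]
        · have : 2 ≤ e := by omega
          nlinarith
      nlinarith
  · exact Or.inr (Or.inr (Or.inl h))
  · exact Or.inr (Or.inr (Or.inr (Or.inl h)))
  · exact Or.inr (Or.inr (Or.inr (Or.inr (Or.inl h))))
  · right; right; right; right; right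
    haveI := finite_of_le hK₀
    haveI : Finite M := Finite.of_injective _ (Subgroup.inclusion_injective hMle)
    have hKK : Nat.card (algebraMap F KK).fieldRange = Fintype.card F := card_fieldRange
    set r := Nat.card K₀ with hr
    have hMcard : Nat.card M ≤ r * (r ^ 2 - 1) ∧ r * (r ^ 2 - 1) ≤ 2 * Nat.card M := by
      rcases hiso with ⟨h, -⟩ | ⟨-, h, -⟩ <;> omega
    have hG₀big : Fintype.card F * (Fintype.card F ^ 2 - 1) ≤ 2 * Nat.card G₀ := by
      rw [hh]
      have : Fintype.card F ^ 2 - 1 = (Fintype.card F + 1) * (Fintype.card F - 1) := by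
        simpa using Nat.sq_sub_sq (Fintype.card F) 1
      rw [this]
      calc Fintype.card F * ((Fintype.card F + 1) * (Fintype.card F - 1))
          ≤ Fintype.card F * ((Fintype.card F + 1) * (2 * e)) :=
            Nat.mul_le_mul_left _ (Nat.mul_le_mul_left _ hse)
        _ = 2 * ((Fintype.card F + 1) * (Fintype.card F * e)) := by ring
    have hover : ∀ L : Subfield KK, K₀ ≤ L → L ≤ (algebraMap F KK).fieldRange →
        L ≠ (algebraMap F KK).fieldRange → M.map (MulAut.conj c).toMonoidHom = subPGL L ⊓ G₀ := by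
      intro L h1 h2 h3
      haveI := finite_of_le h2
      have hML : M.map (MulAut.conj c).toMonoidHom ≤ subPGL L ⊓ G₀ := by
        refine le_inf (hle.trans ?_) ((Subgroup.map_mono hMle).trans_eq (hn c hc))
        rintro _ ⟨g, rfl⟩
        refine ⟨ProjGenLinGroup.map (Subfield.inclusion h1) g, ?_⟩
        rw [← MonoidHom.comp_apply, ← ProjGenLinGroup.map_comp]
        rfl
      set M' := (subPGL L ⊓ G₀).map (MulAut.conj c⁻¹).toMonoidHom with hM'
      have hM'le : M' ≤ G₀ := (Subgroup.map_mono inf_le_right).trans_eq (hn _ ((pglF F).inv_mem hc))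
      have hMM' : M ≤ M' := by
        have := Subgroup.map_mono (f := (MulAut.conj c⁻¹).toMonoidHom) hML
        rwa [map_conj_map] at this
      rcases hMmax M' hMM' hM'le with h | h
      · rw [← h, hM']
        have e1 := map_conj_map c⁻¹ (subPGL L ⊓ G₀)
        rwa [inv_inv] at e1
      · exfalso
        obtain ⟨j, hj, hjc, hj1⟩ := card_eq_pow h2 le_rfl
        have hj2 : 2 ≤ j := by
          by_contra hlt
          exact h3 (hj1 (by omega))
        rw [hKK] at hjc
        have hM'c : Nat.card M' ≤ Nat.card L * (Nat.card L ^ 2 - 1) := by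
          rw [hM', Subgroup.card_map_of_injective (MulAut.conj c⁻¹).injective, ← card_subPGL L]
          exact Subgroup.card_le_of_le inf_le_left
        rw [h] at hM'c
        set l := Nat.card L
        have hl2 : 2 ≤ l := Finite.one_lt_card
        have hql : l * l ≤ Fintype.card F := by
          rw [hjc, ← pow_two]; exact Nat.pow_le_pow_right (by omega) hj2
        have h4 : l * (l ^ 2 - 1) < l * (l * l) := Nat.mul_lt_mul_of_pos_left (by
          rw [pow_two]; have : 0 < l * l := Nat.mul_pos (by omega) (by omega); omega) (by omega)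
        have hq1 : Fintype.card F ^ 2 - 1 ≥ 3 * Fintype.card F := by
          have : Fintype.card F ^ 2 = Fintype.card F * Fintype.card F := pow_two _
          have : 4 * Fintype.card F ≤ Fintype.card F * Fintype.card F := Nat.mul_le_mul_right _ hq4
          omega
        nlinarith
    have hK₀ne : K₀ ≠ (algebraMap F KK).fieldRange := by
      intro e0
      have hrq : r = Fintype.card F := by rw [hr, e0, hKK]
      rcases hiso with ⟨h, -⟩ | ⟨hodd, h, -⟩
      · apply hnot
        have : M = pglF F := Subgroup.eq_of_le_of_card_ge (hMle.trans hG₀) (by rw [card_pglF, h, hrq])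
        rw [this]; exact pslF_le F
      · apply hnot
        exact pslF_le_of_index (hMle.trans hG₀) (hrq ▸ hodd) (by rw [h, hrq])
    obtain ⟨m, hm, hmc, hm1⟩ := card_eq_pow hK₀ le_rfl
    rw [hKK, ← hr] at hmc
    refine ⟨K₀, c, m, hc, hK₀, h3, ?_, hmc, hover K₀ le_rfl hK₀ hK₀ne, hiso⟩
    by_contra hnp
    have hm2 : 2 ≤ m := by
      by_contra hlt
      exact hK₀ne (hm1 (by omega))
    obtain ⟨a, ha, ha2, ham⟩ := Nat.exists_dvd_of_not_prime2 hm2 hnp
    haveI := Fintype.ofFinite K₀
    haveI : CharP K₀ p := by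
      haveI : CharP KK p := charP_of_injective_algebraMap (algebraMap F KK).injective p
      exact (RingHom.charP_iff K₀.subtype Subtype.val_injective p).2 inferInstance
    obtain ⟨s, -, hs⟩ := FiniteField.card K₀ p
    obtain ⟨L, hLc, hL⟩ := exists_subfield_pow (F := F) p (s * a) (Nat.mul_pos s.pos (by omega))
    rw [← Nat.card_eq_fintype_card, ← hr] at hs
    rw [pow_mul, ← hs] at hLc hL
    have hKL : K₀ ≤ L := by
      intro k hk
      rw [hL]
      have h1 : (⟨k, hk⟩ : K₀) ^ r = ⟨k, hk⟩ := by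
        rw [hr, Nat.card_eq_fintype_card]; exact FiniteField.pow_card _
      have h2 : k ^ r = k := congrArg Subtype.val h1
      have h3 : ∀ i : ℕ, k ^ r ^ i = k := by
        intro i
        induction i with
        | zero => simp
        | succ i ih => rw [pow_succ, pow_mul, ih, h2]
      exact h3 a
    have hLF : L ≤ (algebraMap F KK).fieldRange := by
      intro k hk
      rw [hL] at hk
      obtain ⟨b, rfl⟩ := ha
      have h3 : ∀ i : ℕ, k ^ (r ^ a) ^ i = k := by
        intro i
        induction i with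
        | zero => simp
        | succ i ih => rw [pow_succ, pow_mul, ih, hk]
      obtain ⟨b', hb'⟩ := mem_range_of_pow_card (F := F) (k := k) (by rw [hmc, pow_mul]; exact h3 b)
      exact ⟨b', hb'⟩
    have hLne : L ≠ (algebraMap F KK).fieldRange := by
      intro e0
      rw [e0, hKK, hmc] at hLc
      have := Nat.pow_right_injective (by omega : 2 ≤ r) hLc
      omega
    have heq := hover L hKL hLF hLne
    have h5 : Nat.card L * (Nat.card L ^ 2 - 1) ≤ 2 * Nat.card M := by
      rw [← Subgroup.card_map_of_injective (f := (MulAut.conj c).toMonoidHom) (MulAut.conj c).injective (K := M)]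
      refine (card_psl_sub hLF).trans (Nat.mul_le_mul_left 2 ?_)
      haveI := finite_of_le hLF
      haveI : Finite ↥(subPGL L ⊓ G₀) := Finite.of_injective _ (Subgroup.inclusion_injective inf_le_left)
      calc Nat.card ↥(subPGL L ⊓ pslF F) ≤ Nat.card ↥(subPGL L ⊓ G₀) :=
            Subgroup.card_le_of_le (inf_le_inf_left _ hG₀')
        _ = _ := by rw [← heq]
    rw [hLc] at h5
    have hrr : r * r ≤ r ^ a := by rw [← pow_two]; exact Nat.pow_le_pow_right (by omega) ha2
    set l := r ^ a
    have hl1 : r ^ 2 - 1 ≤ l ^ 2 - 1 := Nat.sub_le_sub_right (Nat.pow_le_pow_left (le_trans (Nat.le_mul_self r) hrr) 2) 1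
    have hpos : 0 < r ^ 2 - 1 := by
      have : 9 ≤ r ^ 2 := by nlinarith
      omega
    have h6 : r * r * (r ^ 2 - 1) ≤ l * (l ^ 2 - 1) := Nat.mul_le_mul hrr hl1
    nlinarith [hMcard.1]

end Cfsg.Agent.Classical.Dickson
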