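import Mathlib

/-!
Linear groups over a field: elementary transvections generate `SL`, commutator subgroups of `SL`
and `GL`, simplicity of `PSL` in dimension at least three, orders over finite fields.
-/

set_option autoImplicit false
set_option linter.style.haveILetI false

open scoped commutatorElement LinearAlgebra.Projectivization MatrixGroups
open Matrix

namespace Cfsg.Agent.Classical

variable {F : Type*} [Field F] {ι : Type*} [Fintype ι] [DecidableEq ι]

theorem SL_smul (A : SpecialLinearGroup ι F) (w : ι → F) :
    A • w = (A : Matrix ι ι F) *ᵥ w := rfl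

theorem transvection_smul (i j : ι) (hij : i ≠ j) (c : F) (w : ι → F) :
    SpecialLinearGroup.transvection hij c • w = w + (c * w j) • Pi.single i (1 : F) := by
  rw [SL_smul, SpecialLinearGroup.transvection_coe, add_mulVec, one_mulVec,
    single_mulVec_eq]

theorem SL_ext_smul {A B : SpecialLinearGroup ι F} (h : ∀ w : ι → F, A • w = B • w) : A = B := by
  refine Subtype.ext (Matrix.toLin'.injective (LinearMap.ext fun w => ?_))
  simpa [SL_smul] using h w

theorem diag2n_decompose {i j : ι} (hij : i ≠ j) (a : F) (ha : a ≠ 0) :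
    SpecialLinearGroup.diag2n hij a ha = SpecialLinearGroup.transvection hij a *
      SpecialLinearGroup.transvection hij.symm (-a⁻¹) * SpecialLinearGroup.transvection hij a *
      SpecialLinearGroup.transvection hij (-1) * SpecialLinearGroup.transvection hij.symm 1 *
      SpecialLinearGroup.transvection hij (-1) := by
  refine SL_ext_smul fun w => ?_
  simp only [mul_smul, transvection_smul]
  funext k
  simp only [SL_smul, SpecialLinearGroup.diag2n_coe, mulVec_diagonal,
    Pi.add_apply, Pi.smul_apply, smul_eq_mul]
  by_cases hki : k = i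
  · subst hki
    simp [hij, hij.symm]
    field_simp
    ring
  by_cases hkj : k = j
  · subst hkj
    simp [hij, hij.symm]
    field_simp
    ring
  · simp [hki, hkj]

/-- Elementary transvections generate the special linear group. -/
theorem SL_transvection_induction [Nontrivial ι] (P : SpecialLinearGroup ι F → Prop)
    (htransvec : ∀ (i j : ι) (h : i ≠ j) c, P (SpecialLinearGroup.transvection h c))
    (hmul : ∀ A B, P A → P B → P (A * B)) (A : SpecialLinearGroup ι F) : P A := by
  refine SpecialLinearGroup.diagonal_transvection_induction' P _ (fun i j hij c hc => ?_)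
    htransvec hmul
  rw [diag2n_decompose hij c hc]
  refine hmul _ _ (hmul _ _ (hmul _ _ (hmul _ _ (hmul _ _ ?_ ?_) ?_) ?_) ?_) ?_
  all_goals exact htransvec _ _ _ _

theorem closure_transvection_eq_top [Nontrivial ι] :
    Subgroup.closure {A : SpecialLinearGroup ι F | ∃ (i j : ι) (h : i ≠ j) (c : F),
      A = SpecialLinearGroup.transvection h c} = ⊤ :=
  top_le_iff.1 fun A _ => SL_transvection_induction (fun A => A ∈ Subgroup.closure
    {A : SpecialLinearGroup ι F | ∃ (i j : ι) (h : i ≠ j) (c : F),
      A = SpecialLinearGroup.transvection h c})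
    (fun i j h c => Subgroup.subset_closure ⟨i, j, h, c, rfl⟩) (fun _ _ => mul_mem) A

theorem commutator_transvection_transvection {i j k : ι} (hij : i ≠ j) (hik : i ≠ k) (hkj : k ≠ j)
    (c : F) : ⁅SpecialLinearGroup.transvection hik c, SpecialLinearGroup.transvection hkj 1⁆ =
      SpecialLinearGroup.transvection hij c := by
  rw [commutatorElement_def, SpecialLinearGroup.transvection_inv, SpecialLinearGroup.transvection_inv]
  refine SL_ext_smul fun w => ?_
  simp only [mul_smul, transvection_smul]
  funext l
  simp only [Pi.add_apply, Pi.smul_apply, smul_eq_mul]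
  by_cases hli : l = i
  · subst hli
    simp [hik, hik.symm, hij, hij.symm, hkj, hkj.symm]
    ring
  by_cases hlk : l = k
  · subst hlk
    simp [hik, hik.symm, hij, hij.symm, hkj, hkj.symm]
  · simp [hli, hlk]

theorem commutator_diag2n_transvection {i j : ι} (hij : i ≠ j) (a : F) (ha : a ≠ 0) (b : F) :
    ⁅SpecialLinearGroup.diag2n hij a ha, SpecialLinearGroup.transvection hij b⁆ =
      SpecialLinearGroup.transvection hij (b * (a ^ 2 - 1)) := by
  have hinv : (SpecialLinearGroup.diag2n hij a ha)⁻¹ =
      SpecialLinearGroup.diag2n hij a⁻¹ (inv_ne_zero ha) := by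
    refine inv_eq_of_mul_eq_one_right (Subtype.ext ?_)
    show (SpecialLinearGroup.diag2n hij a ha).1 * (SpecialLinearGroup.diag2n hij a⁻¹ _).1 = 1
    rw [SpecialLinearGroup.diag2n_coe, SpecialLinearGroup.diag2n_coe,
      diagonal_mul_diagonal, diagonal_eq_one]
    funext k
    split_ifs <;> simp [ha]
  rw [commutatorElement_def, SpecialLinearGroup.transvection_inv, hinv]
  refine SL_ext_smul fun w => ?_
  simp only [mul_smul, transvection_smul]
  funext l
  simp only [SL_smul, SpecialLinearGroup.diag2n_coe, mulVec_diagonal,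
    Pi.add_apply, Pi.smul_apply, smul_eq_mul]
  by_cases hli : l = i
  · subst hli
    simp [hij, hij.symm]
    field_simp
    ring
  by_cases hlj : l = j
  · subst hlj
    simp [hij, hij.symm, ha]
  · simp [hli, hlj]

theorem transvection_mem_commutatorSet
    (h : 3 ≤ Fintype.card ι ∨ ∃ a : F, a ≠ 0 ∧ a ^ 2 ≠ 1) {i j : ι} (hij : i ≠ j) (c : F) :
    SpecialLinearGroup.transvection hij c ∈ commutatorSet (SpecialLinearGroup ι F) := by
  show ∃ g₁ g₂, ⁅g₁, g₂⁆ = SpecialLinearGroup.transvection hij c
  rcases h with h | ⟨a, ha, hasq⟩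
  · obtain ⟨k, hk⟩ : ∃ k, k ∉ ({i, j} : Finset ι) := by
      by_contra hc
      push Not at hc
      have := Finset.card_le_card (s := Finset.univ) (t := {i, j}) fun k _ => hc k
      have := Finset.card_le_two (a := i) (b := j)
      rw [Finset.card_univ] at *
      omega
    simp only [Finset.mem_insert, Finset.mem_singleton, not_or] at hk
    exact ⟨_, _, commutator_transvection_transvection hij (Ne.symm hk.1) hk.2 c⟩
  · exact ⟨_, _, (commutator_diag2n_transvection hij a ha (c / (a ^ 2 - 1))).trans
      (by rw [div_mul_cancel₀ c (sub_ne_zero_of_ne hasq)])⟩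

theorem SL_commutator_eq_top [Nontrivial ι]
    (h : 3 ≤ Fintype.card ι ∨ ∃ a : F, a ≠ 0 ∧ a ^ 2 ≠ 1) :
    commutator (SpecialLinearGroup ι F) = ⊤ := by
  rw [commutator_eq_closure, ← top_le_iff, ← closure_transvection_eq_top]
  refine Subgroup.closure_mono ?_
  rintro _ ⟨i, j, hij, c, rfl⟩
  exact transvection_mem_commutatorSet h hij c

theorem range_toGL :
    (SpecialLinearGroup.toGL : SpecialLinearGroup ι F →* GL ι F).range =
      (GeneralLinearGroup.det : GL ι F →* Fˣ).ker := by
  ext g
  refine ⟨?_, fun hg => ?_⟩
  · rintro ⟨A, rfl⟩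
    exact SpecialLinearGroup.coeToGL_det A
  · refine ⟨⟨(g : Matrix ι ι F), congrArg Units.val (MonoidHom.mem_ker.1 hg)⟩, Units.ext rfl⟩

theorem GL_commutator_eq_ker_det
    (h : Fintype.card ι = 2 → ∃ a : F, a ≠ 0 ∧ a ≠ 1) :
    commutator (GL ι F) = (GeneralLinearGroup.det : GL ι F →* Fˣ).ker := by
  refine le_antisymm (Abelianization.commutator_subset_ker _) ?_
  rw [← range_toGL]
  rintro _ ⟨A, rfl⟩
  rcases subsingleton_or_nontrivial ι with hs | hn
  · rw [Subsingleton.elim A 1, map_one]
    exact one_mem _
  by_cases h3 : 3 ≤ Fintype.card ι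
  · have hA : A ∈ commutator (SpecialLinearGroup ι F) := by
      rw [SL_commutator_eq_top (Or.inl h3)]; exact Subgroup.mem_top A
    have hle : (commutator (SpecialLinearGroup ι F)).map SpecialLinearGroup.toGL ≤
        commutator (GL ι F) := by
      rw [commutator_def, Subgroup.map_commutator, commutator_def]
      exact Subgroup.commutator_mono le_top le_top
    exact hle ⟨A, hA, rfl⟩
  obtain ⟨a, ha0, ha1⟩ := h (by have := Fintype.one_lt_card (α := ι); omega)
  refine SL_transvection_induction (fun A => SpecialLinearGroup.toGL A ∈ commutator (GL ι F))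
    (fun i j hij c => ?_) (fun A B hA hB => by rw [map_mul]; exact mul_mem hA hB) A
  let D : GL ι F :=
    ⟨diagonal fun k => if k = i then a else 1, diagonal fun k => if k = i then a⁻¹ else 1,
      by rw [diagonal_mul_diagonal, diagonal_eq_one]; funext k; split_ifs <;> simp [ha0],
      by rw [diagonal_mul_diagonal, diagonal_eq_one]; funext k; split_ifs <;> simp [ha0]⟩
  have key : SpecialLinearGroup.toGL (SpecialLinearGroup.transvection hij c) =
      ⁅D, SpecialLinearGroup.toGL (SpecialLinearGroup.transvection hij (c / (a - 1)))⁆ := by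
    rw [commutatorElement_def, ← map_inv, SpecialLinearGroup.transvection_inv]
    refine Units.ext (Matrix.toLin'.injective (LinearMap.ext fun w => ?_))
    have hT : ∀ (b : F) (v : ι → F),
        (SpecialLinearGroup.transvection hij b : Matrix ι ι F) *ᵥ v =
          v + (b * v j) • Pi.single i (1 : F) := fun b v => by
      rw [← SL_smul, transvection_smul]
    simp only [toLin'_apply, Units.val_mul, ← mulVec_mulVec,
      SpecialLinearGroup.coe_GL_coe_matrix, hT]
    funext k
    simp only [D, Units.inv_mk, mulVec_diagonal, Pi.add_apply, Pi.smul_apply, smul_eq_mul]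
    by_cases hk : k = i
    · subst hk
      simp [hij.symm]
      field_simp [sub_ne_zero_of_ne ha1]
      ring
    · simp [hk]
  rw [key]
  exact Subgroup.commutator_mem_commutator (Subgroup.mem_top _) (Subgroup.mem_top _)

/-- The Iwasawa structure on `PSL`. -/
noncomputable def pslIwasawa [Nontrivial ι] :
    MulAction.IwasawaStructure (Matrix.ProjectiveSpecialLinearGroup ι F) (ℙ F (ι → F)) where
  T := PSL.iwasawaT
  is_comm p := by
    haveI : IsMulCommutative (SpecialLinearGroup.lineStab (F := F) (ι := ι) p.submodule) := by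
      rw [← Projectivization.mk_rep p, Projectivization.submodule_mk]
      exact SpecialLinearGroup.lineStab_isMulCommutative_of_span p.rep p.rep_nonzero
    exact Subgroup.map_isMulCommutative _ _
  is_conj g p := by
    obtain ⟨g_SL, rfl⟩ := QuotientGroup.mk_surjective g
    rw [Matrix.ProjectiveSpecialLinearGroup.smul_proj_mk]
    change Subgroup.map _ _ = _
    rw [PSL.smul_submodule, Matrix.SpecialLinearGroup.lineStab_smul, PSL.iwasawaT_map_conj]
  is_generator := by
    rw [show (⨆ p, PSL.iwasawaT (F := F) (ι := ι) p) =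
      Subgroup.map (QuotientGroup.mk' _) (⨆ p : ℙ F (ι → F),
        SpecialLinearGroup.lineStab p.submodule) from (Subgroup.map_iSup _ _).symm]
    rw [show (⨆ p : ℙ F (ι → F), SpecialLinearGroup.lineStab p.submodule) = ⊤ from ?_]
    · exact Subgroup.map_top_of_surjective _ (QuotientGroup.mk'_surjective _)
    rw [← top_le_iff, ← closure_transvection_eq_top, Subgroup.closure_le]
    rintro _ ⟨i, j, hij, c, rfl⟩
    refine SetLike.mem_coe.2 (Subgroup.mem_iSup_of_mem
      (Projectivization.mk F (Pi.single i (1 : F)) (Pi.single_ne_zero_iff.2 one_ne_zero)) ?_)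
    rw [Projectivization.submodule_mk]
    exact SL2Gen.transvection_mem_lineStab hij c

theorem PSL_simple [Nontrivial ι]
    (h : 3 ≤ Fintype.card ι ∨ ∃ a : F, a ≠ 0 ∧ a ^ 2 ≠ 1) :
    IsSimpleGroup (Matrix.ProjectiveSpecialLinearGroup ι F) := by
  refine MulAction.IwasawaStructure.isSimpleGroup ?_ pslIwasawa inferInstance
  haveI : Group.IsPerfect (SpecialLinearGroup ι F) := ⟨SL_commutator_eq_top h⟩
  haveI : Group.IsPerfect (Matrix.ProjectiveSpecialLinearGroup ι F) := inferInstance
  exact Group.IsPerfect.commutator_eq_top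

/-! ### Orders over finite fields -/

variable [Fintype F]

theorem card_units_eq : Nat.card Fˣ = Fintype.card F - 1 := by
  rw [Nat.card_units, Nat.card_eq_fintype_card]

theorem card_GL_eq_mul_card_SL [Nonempty ι] :
    Nat.card (GL ι F) = (Fintype.card F - 1) * Nat.card (SpecialLinearGroup ι F) := by
  have h := (GeneralLinearGroup.det : GL ι F →* Fˣ).ker.card_mul_index
  rw [Subgroup.index_ker, MonoidHom.range_eq_top.2 GeneralLinearGroup.det_surjective,
    Subgroup.card_top, card_units_eq, ← range_toGL, ← Nat.card_congr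
      (MonoidHom.ofInjective SpecialLinearGroup.toGL_injective).toEquiv, mul_comm] at h
  exact h.symm

theorem card_center_SL [Nonempty ι] :
    Nat.card (Subgroup.center (SpecialLinearGroup ι F)) =
      Nat.gcd (Fintype.card ι) (Fintype.card F - 1) := by
  rw [Nat.card_congr (SpecialLinearGroup.center_equiv_rootsOfUnity'
    (Classical.arbitrary ι)).toEquiv]
  have : rootsOfUnity (Fintype.card ι) F = (powMonoidHom (Fintype.card ι) : Fˣ →* Fˣ).ker := rfl
  rw [this, IsCyclic.card_powMonoidHom_ker, card_units_eq, Nat.gcd_comm]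

theorem card_center_GL [Nonempty ι] :
    Nat.card (Subgroup.center (GL ι F)) = Fintype.card F - 1 := by
  rw [GeneralLinearGroup.center_eq_range_scalar, ← card_units_eq]
  refine (Nat.card_congr (MonoidHom.ofInjective (f := GeneralLinearGroup.scalar ι) ?_).toEquiv).symm
  intro u v h
  have := congrArg Units.val h
  rw [GeneralLinearGroup.coe_scalar, GeneralLinearGroup.coe_scalar, scalar_inj] at this
  exact Units.ext this

theorem card_PSL_mul [Nonempty ι] :
    Nat.gcd (Fintype.card ι) (Fintype.card F - 1) *
      Nat.card (Matrix.ProjectiveSpecialLinearGroup ι F) =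
      Nat.card (SpecialLinearGroup ι F) := by
  rw [← card_center_SL (F := F) (ι := ι), mul_comm]
  exact (Subgroup.card_eq_card_quotient_mul_card_subgroup _).symm

theorem card_PGL [Nonempty ι] :
    Nat.card (Matrix.ProjGenLinGroup ι F) = Nat.card (SpecialLinearGroup ι F) := by
  have hpos : 0 < Fintype.card F - 1 := by
    have := Fintype.one_lt_card (α := F)
    omega
  refine Nat.eq_of_mul_eq_mul_left hpos ?_
  rw [← card_GL_eq_mul_card_SL, ← card_center_GL (F := F) (ι := ι), mul_comm]
  exact (Subgroup.card_eq_card_quotient_mul_card_subgroup _).symm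

end Cfsg.Agent.Classical
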