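import Cfsg.Agent.Lib.Classical.DicksonRows
import Cfsg.Agent.Lib.Classical.Linear

/-!
Icosahedral subgroups of `PSL₂(F)` form one class under `PGL₂(F)`.
-/

set_option autoImplicit false
set_option linter.style.haveILetI false
set_option linter.unusedSectionVars false

open scoped MatrixGroups Pointwise Classical commutatorElement
open Matrix OnePoint

noncomputable section

namespace Cfsg.Agent.Classical.Dickson

variable {F : Type*} [Field F] [Fintype F]

local notation "KK" => AlgebraicClosure F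

theorem psl_simple_of_four_le (h : 4 ≤ Fintype.card F) :
    IsSimpleGroup (Matrix.ProjectiveSpecialLinearGroup (Fin 2) F) := by
  refine PSL_simple (Or.inr ?_)
  by_contra hc
  push Not at hc
  have hsub : (Finset.univ : Finset F) ⊆ {0, 1, -1} := fun a _ => by
    by_cases ha : a = 0
    · simp [ha]
    · rcases sq_eq_one_iff.1 (hc a ha) with e | e <;> simp [e]
  have h1 := (Finset.card_le_card hsub).trans Finset.card_le_three
  rw [Finset.card_univ] at h1
  omega

theorem exists_pair_of_iso {t : F} (ht : t * t = t + 1)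
    (H : Subgroup (Matrix.ProjectiveSpecialLinearGroup (Fin 2) F))
    (hH : Nonempty (H ≃* alternatingGroup (Fin 5))) :
    ∃ A B : SpecialLinearGroup (Fin 2) F, Icosa.IsPair A B t ∧ Icosa.IsPair.grp A B = H := by
  haveI : Finite (Matrix.ProjectiveSpecialLinearGroup (Fin 2) F) := Finite.of_surjective _ SL2Two.proj_surjective
  obtain ⟨e⟩ := hH
  obtain ⟨a, b, ha2, ha1, hb3, hb1, hab5, hab1, -⟩ := alt_five_gens
  haveI : Fact (Nat.Prime 2) := ⟨Nat.prime_two⟩
  haveI : Fact (Nat.Prime 3) := ⟨Nat.prime_three⟩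
  haveI : Fact (Nat.Prime 5) := ⟨by norm_num⟩
  have oa : orderOf ((e.symm a : H) : Matrix.ProjectiveSpecialLinearGroup (Fin 2) F) = 2 := by
    rw [Subgroup.orderOf_coe, MulEquiv.orderOf_eq, orderOf_eq_prime ha2 ha1]
  have ob : orderOf ((e.symm b : H) : Matrix.ProjectiveSpecialLinearGroup (Fin 2) F) = 3 := by
    rw [Subgroup.orderOf_coe, MulEquiv.orderOf_eq, orderOf_eq_prime hb3 hb1]
  have oab : orderOf (((e.symm a : H) : Matrix.ProjectiveSpecialLinearGroup (Fin 2) F) * (e.symm b : H)) = 5 := by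
    rw [← Subgroup.coe_mul, ← map_mul, Subgroup.orderOf_coe, MulEquiv.orderOf_eq, orderOf_eq_prime hab5 hab1]
  obtain ⟨A, B, t', hp, hA, hB⟩ := Icosa.exists_pair oa ob oab
  have hgen : ∀ {B' : SpecialLinearGroup (Fin 2) F} {t'' : F}, Icosa.IsPair A B' t'' →
      SL2Two.proj B' ∈ H → Icosa.IsPair.grp A B' = H := by
    intro B' t'' hp' hB'
    have hle : Icosa.IsPair.grp A B' ≤ H := by
      rw [Icosa.IsPair.grp, Subgroup.closure_le]
      rintro _ (rfl | rfl)
      · rw [hA]; exact (e.symm a).2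
      · exact hB'
    refine Subgroup.eq_of_le_of_card_ge hle ?_
    rw [hp'.card_grp, Nat.card_congr e.toEquiv, nat_card_alternatingGroup, Nat.card_fin]
    decide
  have hB0 : SL2Two.proj B ∈ H := by rw [hB]; exact (e.symm b).2
  have hroots : (t' - t) * (t' + t - 1) = 0 := by linear_combination hp.ht - ht
  rcases mul_eq_zero.1 hroots with h | h
  · rw [sub_eq_zero] at h
    exact ⟨A, B, h ▸ hp, hgen hp hB0⟩
  · obtain ⟨B', hp', hm⟩ := hp.exists_other
    rw [hgen hp hB0] at hm
    have h' : 1 - t' = t := by linear_combination -h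
    exact ⟨A, B', h' ▸ hp', hgen hp' hm⟩

/-- Any two icosahedral subgroups are conjugate by a rational projectivity. -/
theorem icosa_conj_all (h2 : (2 : F) ≠ 0) (h5 : 5 ∣ Fintype.card F * (Fintype.card F ^ 2 - 1))
    (H H' : Subgroup (Matrix.ProjectiveSpecialLinearGroup (Fin 2) F))
    (hH : Nonempty (H ≃* alternatingGroup (Fin 5))) (hH' : Nonempty (H' ≃* alternatingGroup (Fin 5))) :
    ∃ c ∈ pglF F, (H.map emb).map (MulAut.conj c).toMonoidHom = H'.map emb := by
  obtain ⟨t, ht⟩ := Icosa.exists_root h5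
  obtain ⟨A, B, hp, hg⟩ := exists_pair_of_iso ht H hH
  obtain ⟨A', B', hp', hg'⟩ := exists_pair_of_iso ht H' hH'
  obtain ⟨T, hTA, hTB⟩ := Icosa.exists_conj h2 hp hp'
  refine ⟨_, ⟨ProjGenLinGroup.mk T, rfl⟩, ?_⟩
  rw [← hg, ← hg', Icosa.IsPair.grp, Icosa.IsPair.grp, MonoidHom.map_closure, MonoidHom.map_closure,
    MonoidHom.map_closure, Set.image_pair, Set.image_pair, Set.image_pair]
  show Subgroup.closure {MulAut.conj _ (emb _), MulAut.conj _ (emb _)} = _
  rw [conj_emb T hTA, conj_emb T hTB]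

theorem pslF_index_two (hodd : Fintype.card F % 2 = 1) : ((pslF F).subgroupOf (pglF F)).index = 2 := by
  have hG := SL2.card_PSL2_mul (F := F)
  have h1 := Fintype.one_lt_card (α := F)
  rw [Nat.gcd_eq_left (show 2 ∣ Fintype.card F - 1 by omega), ← card_pslF] at hG
  have h := ((pslF F).subgroupOf (pglF F)).index_mul_card
  rw [Nat.card_congr (Subgroup.subgroupOfEquivOfLe (pslF_le F)).toEquiv, card_pglF, ← hG] at h
  exact Nat.eq_of_mul_eq_mul_right Nat.card_pos h

end Cfsg.Agent.Classical.Dickson
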