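import Cfsg.Agent.Lib.Classical.DicksonRows
import Cfsg.Agent.Lib.Classical.DicksonDihedral
import Cfsg.Agent.Lib.Classical.DicksonExists
import Cfsg.Agent.Lib.Classical.IcosaClasses

/-!
Maximal subgroups of `PGL₂(F)` meet `PSL₂(F)` maximally outside small exceptions.
-/

set_option autoImplicit false
set_option linter.style.haveILetI false
set_option linter.unusedSectionVars false

open scoped MatrixGroups Pointwise Classical commutatorElement
open Matrix OnePoint

noncomputable section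

namespace Cfsg.Agent.Classical.Dickson

theorem perm_four_pair : ∃ a b r : Equiv.Perm (Fin 4), a = r * r ∧ a * a = 1 ∧ b ^ 3 = 1 ∧ b ≠ 1 ∧
    b = (b * b) * (b * b) ∧ (a * b) ^ 2 ≠ 1 ∧ a * b ≠ b * a :=
  ⟨Equiv.swap 0 1 * Equiv.swap 2 3, Equiv.swap 1 2 * Equiv.swap 2 3,
    Equiv.swap 0 3 * Equiv.swap 0 1 * Equiv.swap 0 2, by decide⟩

theorem perm_four_cycle : ∃ c : Equiv.Perm (Fin 4), c ^ 4 = 1 ∧ c ^ 2 ≠ 1 :=
  ⟨Equiv.swap 0 3 * Equiv.swap 0 1 * Equiv.swap 0 2, by decide⟩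

theorem dihedral_conj_r_one {n : ℕ} [NeZero n] (d : DihedralGroup n) :
    ∃ m : ℕ, d * DihedralGroup.r 1 * d⁻¹ = DihedralGroup.r 1 ^ m := by
  obtain ⟨i, hi⟩ : ∃ i, d * DihedralGroup.r 1 * d⁻¹ = DihedralGroup.r i := by
    rcases d with j | j <;> simp
  exact ⟨i.val, by rw [hi, DihedralGroup.r_one_pow, ZMod.natCast_zmod_val]⟩

variable {F : Type*} [Field F] [Fintype F]

local notation "KK" => AlgebraicClosure F

theorem sq_mem_pslF (hodd : Fintype.card F % 2 = 1) {g : PGL(2, KK)} (hg : g ∈ pglF F) :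
    g * g ∈ pslF F :=
  Subgroup.mul_self_mem_of_index_two (pslF_index_two hodd) ⟨g, hg⟩

theorem not_le_pslF (hodd : Fintype.card F % 2 = 1) {M : Subgroup (PGL(2, KK))}
    (hM : IsMax (pglF F) M) (hnot : ¬ pslF F ≤ M) : ¬ M ≤ pslF F := by
  intro h
  rcases hM.2.2 _ h (pslF_le F) with e | e
  · exact hnot e.le
  · have h2 := pslF_index_two (F := F) hodd
    rw [e, Subgroup.subgroupOf_self, Subgroup.index_top] at h2
    omega

theorem sq_gen_le {T : Type*} [Group T] (hsq : ∀ x : T, ∃ r s, x = r * r * (s * s))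
    (hodd : Fintype.card F % 2 = 1) {M : Subgroup (PGL(2, KK))} (hM : M ≤ pglF F) (f : M ≃* T) :
    M ≤ pslF F := by
  intro g hg
  obtain ⟨r, s, hrs⟩ := hsq (f ⟨g, hg⟩)
  have e : (⟨g, hg⟩ : M) = f.symm r * f.symm r * (f.symm s * f.symm s) := by
    rw [← map_mul, ← map_mul, ← map_mul, ← hrs, MulEquiv.symm_apply_apply]
  have e' := congrArg Subtype.val e
  simp only [Subgroup.coe_mul] at e'
  rw [e']
  exact (pslF F).mul_mem (sq_mem_pslF hodd (hM (f.symm r).2)) (sq_mem_pslF hodd (hM (f.symm s).2))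

/-- A Borel subgroup of `PSL₂(F)` is maximal. -/
theorem st_max (p : ℕ) [Fact p.Prime] [CharP F p] (hodd : Fintype.card F % 2 = 1)
    (hq5 : 5 ≤ Fintype.card F) {x : OnePoint KK} (hx : x ∈ orb (pslF F) (∞ : OnePoint KK)) :
    IsMax (pslF F) (st (pslF F) x) := by
  obtain ⟨n, hp, hn⟩ := FiniteField.card F p
  have hpq : p ∣ Fintype.card F := hn ▸ dvd_pow_self p n.ne_zero
  have hp2 : p ≠ 2 := fun e => by rw [e] at hpq; omega
  have A := ambient_pslF (F := F)
  rw [Nat.gcd_eq_left (show 2 ∣ Fintype.card F - 1 by omega)] at A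
  have hcard : Nat.card (st (pslF F) x) = Fintype.card F * ((Fintype.card F - 1) / 2) := by
    rw [card_st, qOf_orb (pslF F) hx, eOf_orb (pslF F) hx, A.hq, A.he]
  have he : 2 ≤ (Fintype.card F - 1) / 2 := by omega
  refine isMax_of_forall (st_le _ _) (fun h => ?_) fun M hM hle => ?_
  · have h' := congrArg (fun S : Subgroup (PGL(2, KK)) => Nat.card S) h
    simp only [hcard, A.card] at h'
    nlinarith
  haveI : Finite M := Finite.of_injective _ (Subgroup.inclusion_injective hM.1)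
  have hd : Fintype.card F * ((Fintype.card F - 1) / 2) ∣ Nat.card M := hcard ▸ Subgroup.card_dvd_of_le hle
  have hqd : Fintype.card F ∣ Nat.card M := (dvd_mul_right _ _).trans hd
  rcases max_cases p (pslF_le F) le_rfl (fun c hc => conj_pslF hc) A (by omega) hM (not_psl_le_of_isMax hM) with
    ⟨z, -, -, hc⟩ | ⟨k, hk, hc, -⟩ | ⟨-, h3, ⟨f⟩⟩ | ⟨-, h3, ⟨f⟩⟩ | ⟨-, h5, -, ⟨f⟩⟩ |
    ⟨K₀, c, m, -, hK₀, hr3, hm, hq, -, hcase⟩
  · rw [hc, hcard]
  · exfalso
    have h1 := Nat.le_of_dvd (by omega) hd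
    have h2 : Fintype.card F * 2 ≤ Fintype.card F * ((Fintype.card F - 1) / 2) := Nat.mul_le_mul_left _ he
    rcases hk with rfl | rfl <;> omega
  · exfalso
    rw [Nat.card_congr f.toEquiv, nat_card_alternatingGroup, Nat.card_fin] at hqd
    have := (Nat.prime_dvd_prime_iff_eq hp Nat.prime_three).1
      ((hp.dvd_mul.1 ((hpq.trans hqd).trans (dvd_of_eq (show _ = 4 * 3 by decide)))).resolve_left
        fun h => hp2 ((Nat.prime_dvd_prime_iff_eq hp Nat.prime_two).1 (hp.dvd_of_dvd_pow (n := 2) h)))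
    exact h3 this
  · exfalso
    rw [Nat.card_congr f.toEquiv, Nat.card_perm, Nat.card_fin] at hqd
    have := (Nat.prime_dvd_prime_iff_eq hp Nat.prime_three).1
      ((hp.dvd_mul.1 ((hpq.trans hqd).trans (dvd_of_eq (show _ = 8 * 3 by decide)))).resolve_left
        fun h => hp2 ((Nat.prime_dvd_prime_iff_eq hp Nat.prime_two).1 (hp.dvd_of_dvd_pow (n := 3) h)))
    exact h3 this
  · exfalso
    rw [Nat.card_congr f.toEquiv, nat_card_alternatingGroup, Nat.card_fin] at hqd
    have hq60 : Fintype.card F ∣ 60 := hqd.trans (dvd_of_eq (by decide))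
    have hp60 : p ∣ 4 * (3 * 5) := hpq.trans hq60
    rcases hp.dvd_mul.1 hp60 with h | h
    · exact hp2 ((Nat.prime_dvd_prime_iff_eq hp Nat.prime_two).1 (hp.dvd_of_dvd_pow (n := 2) h))
    rcases hp.dvd_mul.1 h with h | h
    · rw [(Nat.prime_dvd_prime_iff_eq hp Nat.prime_three).1 h] at hn
      rcases (show (n : ℕ) = 1 ∨ 2 ≤ (n : ℕ) by have := n.pos; omega) with e | e
      · rw [e] at hn; omega
      · have h9 : 9 ∣ 60 := ((pow_dvd_pow 3 e).trans (dvd_of_eq hn.symm)).trans hq60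
        omega
    · exact h5 ((Nat.prime_dvd_prime_iff_eq hp (by norm_num)).1 h)
  · exfalso
    haveI := finite_of_le hK₀
    set r := Nat.card K₀
    have hr2 : r * r ∣ r * (r ^ 2 - 1) := by
      have h1 : r * r ∣ Fintype.card F := by rw [hq, ← pow_two]; exact pow_dvd_pow r hm.two_le
      refine (h1.trans hqd).trans ?_
      rcases hcase with ⟨hc, -⟩ | ⟨-, hc, -⟩
      · exact dvd_of_eq hc
      · exact Dvd.intro_left 2 hc
    have h1 : r ∣ r ^ 2 - 1 := (Nat.mul_dvd_mul_iff_left (by omega)).1 hr2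
    have h2 : r ∣ r ^ 2 - (r ^ 2 - 1) := Nat.dvd_sub (dvd_pow_self r two_ne_zero) h1
    rw [show r ^ 2 - (r ^ 2 - 1) = 1 by have : 9 ≤ r ^ 2 := Nat.pow_le_pow_left hr3 2; omega] at h2
    have := Nat.le_of_dvd one_pos h2
    omega

theorem meet_dihedral (p : ℕ) [Fact p.Prime] [CharP F p] (hodd : Fintype.card F % 2 = 1)
    (hq5 : 5 ≤ Fintype.card F) (h7 : Fintype.card F ≠ 7) (h9 : Fintype.card F ≠ 9)
    (h11 : Fintype.card F ≠ 11) {M : Subgroup (PGL(2, KK))} (hM : IsMax (pglF F) M) {k : ℕ}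
    (hk : k = Fintype.card F - 1 ∨ k = Fintype.card F + 1) (hk6 : 6 ≤ k) (f : M ≃* DihedralGroup k) :
    IsMax (pslF F) (M ⊓ pslF F) := by
  haveI : NeZero k := ⟨by omega⟩
  haveI : CharP KK p := charP_of_injective_algebraMap (algebraMap F KK).injective p
  have A := ambient_pglF (F := F)
  set ρ : PGL(2, KK) := Subtype.val (f.symm (DihedralGroup.r 1)) with hρ
  have hρM : ρ ∈ M := (f.symm (DihedralGroup.r 1)).2
  have hρo : orderOf ρ = k := by rw [hρ, Subgroup.orderOf_coe, MulEquiv.orderOf_eq, DihedralGroup.orderOf_r_one]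
  have hρ1 : ρ ≠ 1 := fun h => by rw [h, orderOf_one] at hρo; omega
  obtain ⟨x, y, hxy, hx, hy⟩ : ∃ x y : OnePoint KK, x ≠ y ∧ ρ • x = x ∧ ρ • y = y := by
    rcases fixed_cases hρ1 with ⟨x, hx, -⟩ | ⟨x, y, hxy, -, -, h⟩
    · exfalso
      have hd : k ∣ p := hρo ▸ orderOf_dvd_of_pow_eq_one (pow_char_of_isTr hx)
      rcases (Nat.dvd_prime Fact.out).1 hd with h | h
      · omega
      · have hp : p.Prime := Fact.out
        rw [← h] at hp
        have := hp.eq_two_or_odd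
        rcases hk with e | e <;> omega
    · exact ⟨x, y, hxy, (h x).2 (Or.inl rfl), (h y).2 (Or.inr rfl)⟩
  obtain ⟨k', hk', -, hDc, -, hD⟩ := A.torus (by omega) (hM.1 hρM) hxy hρ1 hx hy
  have hle : M ≤ Ambient.pairStab (pglF F) x y := by
    intro h hh
    obtain ⟨m, hm⟩ := dihedral_conj_r_one (f ⟨h, hh⟩)
    have e : h * ρ * h⁻¹ = ρ ^ m := by
      have e1 := congrArg (fun d => ((f.symm d : M) : PGL(2, KK))) hm
      simp only [map_mul, map_inv, map_pow, MulEquiv.symm_apply_apply, Subgroup.coe_mul, Subgroup.coe_inv, SubmonoidClass.coe_pow] at e1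
      exact e1
    refine hD h (hM.1 hh) ?_ ?_ <;> rw [e]
    · exact pow_mem (show ρ ∈ MulAction.stabilizer (PGL(2, KK)) x from hx) m
    · exact pow_mem (show ρ ∈ MulAction.stabilizer (PGL(2, KK)) y from hy) m
  have hMD : Ambient.pairStab (pglF F) x y = M := by
    refine (hM.2.2 _ hle inf_le_left).resolve_right fun e => ?_
    have h' := congrArg (fun S : Subgroup (PGL(2, KK)) => Nat.card S) e
    simp only [hDc, A.card] at h'
    have h4 : 4 ≤ Fintype.card F - 1 := by omega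
    have h20 : 5 * 4 ≤ Fintype.card F * (Fintype.card F - 1) := Nat.mul_le_mul hq5 h4
    have h' := (Nat.mul_le_mul_left (Fintype.card F + 1) h20).trans h'.ge
    rcases hk' with rfl | rfl <;> omega
  have hkk : k / 2 = (Fintype.card F - 1) / Nat.gcd 2 (Fintype.card F - 1) ∨
      k / 2 = (Fintype.card F + 1) / Nat.gcd 2 (Fintype.card F - 1) := by
    rw [Nat.gcd_eq_left (show 2 ∣ Fintype.card F - 1 by omega)]
    rcases hk with e | e
    · exact Or.inl (by rw [e])
    · exact Or.inr (by rw [e])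
  have hgo : orderOf (ρ * ρ) = k / 2 := by
    rw [← pow_two, orderOf_pow' _ two_ne_zero, hρo,
      Nat.gcd_eq_right (show 2 ∣ k by rcases hk with e | e <;> omega)]
  obtain ⟨h, -, -⟩ := torus_max p (by omega) (show 3 ≤ k / 2 by omega) hkk h7 h9
    (fun e => absurd e h11) (sq_mem_pslF hodd (hM.1 hρM)) hgo hxy
    (by rw [mul_smul, hx, hx]) (by rw [mul_smul, hy, hy])
  convert h using 1
  rw [← hMD]
  ext g
  simp only [Subgroup.mem_inf, Ambient.mem_pairStab]
  exact ⟨fun h => ⟨h.2, h.1.2⟩, fun h => ⟨⟨pslF_le F h.1, h.2⟩, h.1⟩⟩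

theorem meet_sym (p : ℕ) [Fact p.Prime] [CharP F p] (hodd : Fintype.card F % 2 = 1)
    (hq5 : 5 ≤ Fintype.card F) (hprime : (Fintype.card F).Prime)
    (h8 : Fintype.card F % 8 = 3 ∨ Fintype.card F % 8 = 5)
    (h40 : Fintype.card F % 40 ∉ ({11, 19, 21, 29} : Finset ℕ)) {M : Subgroup (PGL(2, KK))}
    (hM : IsMax (pglF F) M) (hnot : ¬ pslF F ≤ M) (f : M ≃* Equiv.Perm (Fin 4)) :
    IsMax (pslF F) (M ⊓ pslF F) := by
  haveI : Finite M := Finite.of_injective _ (Subgroup.inclusion_injective hM.1)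
  have h2F : (2 : F) ≠ 0 := SL2Two.two_ne_zero' (Nat.odd_iff.2 hodd)
  have h2K : (2 : KK) ≠ 0 := by
    intro h
    refine h2F ((algebraMap F KK).injective ?_)
    rw [map_ofNat, map_zero, h]
  have A := ambient_pslF (F := F)
  rw [Nat.gcd_eq_left (show 2 ∣ Fintype.card F - 1 by omega)] at A
  have hidx : ((pslF F).subgroupOf M).index = 2 := by
    obtain ⟨a, ha, ha'⟩ := SetLike.not_le_iff_exists.1 (not_le_pslF hodd hM hnot)
    rw [Subgroup.index_eq_two_iff]
    refine ⟨⟨a, ha⟩, fun b => ?_⟩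
    have h := Subgroup.mul_mem_iff_of_index_two (pslF_index_two (F := F) hodd)
      (a := (⟨b, hM.1 b.2⟩ : pglF F)) (b := ⟨a, hM.1 ha⟩)
    simp only [Subgroup.mem_subgroupOf] at h ⊢
    by_cases hb : (b : PGL(2, KK)) ∈ pslF F
    · exact Or.inr ⟨hb, fun hba => ha' ((h.1 hba).1 hb)⟩
    · exact Or.inl ⟨h.2 ⟨fun x => absurd x hb, fun x => absurd x ha'⟩, hb⟩
  set H := M ⊓ pslF F with hH
  have hH12 : Nat.card H = 12 := by
    have h := ((pslF F).subgroupOf M).index_mul_card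
    rw [hidx, ← Subgroup.card_map_of_injective (K := (pslF F).subgroupOf M) M.subtype_injective,
      Subgroup.subgroupOf_map_subtype, inf_comm, ← hH, Nat.card_congr f.toEquiv, Nat.card_perm,
      Nat.card_fin, show Nat.factorial 4 = 24 by decide] at h
    omega
  obtain ⟨a₀, c₀, haa, ha1, hcc, hc1, hac, hne, hra, hrc, -⟩ := perm_four_klein
  obtain ⟨a, b, r, har, ha2, hb3, hb1, hbsq, hab2, habc⟩ := perm_four_pair
  have hmem : ∀ u, (∃ s, u = s * s) → ((f.symm u : M) : PGL(2, KK)) ∈ H := by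
    rintro u ⟨s, rfl⟩
    exact ⟨(f.symm _).2, by rw [map_mul, Subgroup.coe_mul]; exact sq_mem_pslF hodd (hM.1 (f.symm s).2)⟩
  let φ : Equiv.Perm (Fin 4) →* PGL(2, KK) := M.subtype.comp f.symm.toMonoidHom
  have hφ : Function.Injective φ := M.subtype_injective.comp f.symm.injective
  refine isMax_of_forall inf_le_right (fun h => ?_) fun N hN hle => ?_
  · have h' := congrArg (fun S : Subgroup (PGL(2, KK)) => Nat.card S) h
    simp only [hH12, A.card] at h'
    have : 2 ≤ (Fintype.card F - 1) / 2 := by omega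
    have := Nat.mul_le_mul hq5 this
    nlinarith
  haveI : Finite N := Finite.of_injective _ (Subgroup.inclusion_injective hN.1)
  rcases max_cases p (pslF_le F) le_rfl (fun c hc => conj_pslF hc) A (by omega) hN (not_psl_le_of_isMax hN) with
    ⟨x, -, hx, -⟩ | ⟨k, -, -, ⟨g⟩⟩ | ⟨-, -, ⟨g⟩⟩ | ⟨-, -, ⟨g⟩⟩ | ⟨-, -, hd, -⟩ |
    ⟨K₀, c, m, -, -, -, hm, hq, -⟩
  · exfalso
    have hfix : ∀ u, (∃ s, u = s * s) → φ u • x = x := fun u hu =>
      (hx ▸ hle (hmem u hu) : φ u ∈ st (pslF F) x).2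
    refine hne (hφ (invol_eq_of_fixed h2K (hfix a₀ hra) (hfix c₀ hrc) ?_ ?_ ?_ ?_ ?_))
    · rw [← map_mul, haa, map_one]
    · rw [← map_mul, hcc, map_one]
    · rw [← map_mul, hac, map_mul]
    · exact fun e => ha1 (hφ (e.trans φ.map_one.symm))
    · exact fun e => hc1 (hφ (e.trans φ.map_one.symm))
  · exfalso
    let u : N := ⟨φ a, hle (hmem a ⟨r, har⟩)⟩
    let v : N := ⟨φ b, hle (hmem b ⟨b * b, hbsq⟩)⟩
    haveI : Fact (Nat.Prime 3) := ⟨Nat.prime_three⟩
    have hv : orderOf (g v) = 3 := by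
      rw [MulEquiv.orderOf_eq, Subgroup.orderOf_mk, orderOf_injective φ hφ, orderOf_eq_prime hb3 hb1]
    rcases dihedral_two_three (g u) (g v) hv with h | h
    · rw [← map_mul, ← map_pow] at h
      have h' := congrArg Subtype.val (g.injective (h.trans g.map_one.symm))
      rw [SubmonoidClass.coe_pow, Subgroup.coe_mul, OneMemClass.coe_one, ← map_mul, ← map_pow] at h'
      exact hab2 (hφ (h'.trans φ.map_one.symm))
    · rw [← map_mul, ← map_mul] at h
      have h' := congrArg Subtype.val (g.injective h)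
      rw [Subgroup.coe_mul, Subgroup.coe_mul, ← map_mul, ← map_mul] at h'
      exact habc (hφ h')
  · rw [hH12, Nat.card_congr g.toEquiv, nat_card_alternatingGroup, Nat.card_fin]; decide
  · exfalso
    obtain ⟨c, hc4, hc2⟩ := perm_four_cycle
    obtain ⟨z, hz⟩ := hN.1 (g.symm c).2
    refine SL2Two.psl_no_four h2F h8 z ?_
    rw [← orderOf_injective _ emb_injective, hz, Subgroup.orderOf_coe, MulEquiv.orderOf_eq]
    haveI : Fact (Nat.Prime 2) := ⟨Nat.prime_two⟩
    exact orderOf_eq_prime_pow (p := 2) (n := 1) (by simpa using hc2) hc4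
  · exfalso
    have hmod : Fintype.card F % 40 ∈ ({11, 19, 21, 29} : Finset ℕ) := by
      simp only [Finset.mem_insert, Finset.mem_singleton]
      rcases hd with ⟨w, hw⟩ | ⟨w, hw⟩ <;> omega
    exact h40 hmod
  · exfalso
    rw [hq] at hprime
    exact hm.ne_one hprime.eq_one_of_pow

theorem meet_subfield (p : ℕ) [Fact p.Prime] [CharP F p] {M : Subgroup (PGL(2, KK))}
    (hnot : ¬ M ≤ pslF F) {L : Subfield KK} (hL : L ≤ (algebraMap F KK).fieldRange)
    (h3 : 3 ≤ Nat.card L) {m : ℕ} (hm : m.Prime) (hq : Fintype.card F = Nat.card L ^ m)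
    {c : PGL(2, KK)} (hc : c ∈ pglF F) (hMc : M.map (MulAut.conj c).toMonoidHom = subPGL L ⊓ pglF F) :
    IsMax (pslF F) (M ⊓ pslF F) := by
  have h := subfield_max p hL h3 hm hq
  have e : (M ⊓ pslF F).map (MulAut.conj c).toMonoidHom = subPGL L ⊓ pslF F := by
    rw [Subgroup.map_inf _ _ _ (MulAut.conj c).injective, hMc, conj_pslF hc, inf_assoc,
      inf_eq_right.2 (pslF_le F)]
  have h' := isMax_conj h (c := c⁻¹) (conj_pslF ((pglF F).inv_mem hc))
  rwa [← e, map_conj_map] at h'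

end Cfsg.Agent.Classical.Dickson
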