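import Cfsg.Agent.Lib.Classical.DicksonShape

/-!
Finite subgroups of odd order of the two-dimensional general linear group.
-/

set_option autoImplicit false

open scoped MatrixGroups Pointwise
open Matrix OnePoint

noncomputable section

namespace Cfsg.Agent.Classical.Dickson

theorem exists_fixed_of_odd {K : Type*} [Field K] [DecidableEq K] [IsAlgClosed K] (p : ℕ) [Fact p.Prime]
    [CharP K p] (hp : p ≠ 2) (G : Subgroup (PGL(2, K))) [Finite G] (hodd : Odd (Nat.card G)) :
    ∃ x : OnePoint K, ∀ g ∈ G, g • x = x := by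
  rcases Nat.lt_or_ge (Nat.card G) 2 with h | h
  · refine ⟨∞, fun g hg => ?_⟩
    have h1 : Nat.card G = 1 := by have := Nat.card_pos (α := G); omega
    rw [Subgroup.eq_bot_of_card_eq G h1, Subgroup.mem_bot] at hg
    rw [hg, one_smul]
  rcases shape G h with ⟨x, hx⟩ | ⟨x, -, ho⟩ | ⟨-, h'⟩ | ⟨-, h'⟩ | ⟨-, h'⟩ | ⟨x, -, ho, -⟩
  · exact ⟨x, fun g hg => ((mem_st G).1 (hx.symm ▸ hg : g ∈ st G x)).2⟩
  · exfalso
    have h1 := card_orb_mul G x
    rw [ho] at h1
    exact Nat.not_even_iff_odd.2 hodd ⟨_, by rw [← h1, two_mul]⟩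
  iterate 3 exact absurd hodd (by rw [h']; decide)
  · exfalso
    have h1 := card_orb_mul G x
    rw [ho] at h1
    have hq : Odd (qOf G x) := by
      have hT : IsPGroup p (tr G x) := fun t => ⟨1, Subtype.ext (by
        rw [SubmonoidClass.coe_pow, pow_one, pow_char_of_isTr (p := p) t.2.2]; rfl)⟩
      obtain ⟨k, hk⟩ := IsPGroup.iff_card.1 hT
      show Odd (Nat.card (tr G x))
      rw [hk]
      exact ((Fact.out : p.Prime).odd_of_ne_two hp).pow
    exact Nat.not_even_iff_odd.2 hodd (h1 ▸ hq.add_one.mul_right _)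

theorem mul_self_of_pow_eq_zero {F : Type*} [Field F] (N : Matrix (Fin 2) (Fin 2) F) {k : ℕ} (hk : N ^ k = 0) :
    N * N = 0 := by
  rcases Nat.eq_zero_or_pos k with rfl | hk0
  · rw [pow_zero] at hk; rw [← mul_one (N * N), hk, mul_zero]
  have hdet : N.det = 0 := by
    have := congrArg Matrix.det hk
    rw [Matrix.det_pow, Matrix.det_zero] at this
    exact pow_eq_zero_iff hk0.ne' |>.1 this
  rw [Matrix.det_fin_two] at hdet
  set t := N 0 0 + N 1 1 with ht
  have hsq : N * N = t • N := by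
    ext i j
    fin_cases i <;> fin_cases j <;> simp [Matrix.mul_apply, ht, Fin.sum_univ_two] <;> (first | linear_combination hdet | linear_combination (-1 : F) * hdet | ring)
  have hpow : ∀ n : ℕ, N ^ (n + 1) = t ^ n • N := by
    intro n
    induction n with
    | zero => simp
    | succ n ih => rw [pow_succ _ (n + 1), ih, smul_mul_assoc, hsq, smul_smul, pow_succ]
  obtain ⟨n, rfl⟩ := Nat.exists_eq_succ_of_ne_zero hk0.ne'
  rw [hpow] at hk
  rcases smul_eq_zero.1 hk with h | h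
  · rw [hsq, pow_eq_zero_iff'.1 h |>.1, zero_smul]
  · rw [h, mul_zero]

theorem not_dvd_card_aux {F : Type*} [Field F] {K : Type*} [Field K] [DecidableEq K] [IsAlgClosed K] (ι : F →+* K)
    (p : ℕ) [Fact p.Prime] [CharP F p] [CharP K p] (hp : p ≠ 2)
    (H : Subgroup (GL (Fin 2) F)) [Finite H] (hodd : Odd (Nat.card H))
    (hirr : ∀ v : Fin 2 → F, v ≠ 0 → ∃ g ∈ H, (g : Matrix (Fin 2) (Fin 2) F).mulVec v ∉ Submodule.span F {v}) :
    ¬ p ∣ Nat.card H := by
  intro hdvd
  let φ : H →* PGL(2, K) := ProjGenLinGroup.mk.comp ((GeneralLinearGroup.map (n := Fin 2) ι).comp H.subtype)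
  haveI : Finite φ.range := Finite.of_surjective _ φ.rangeRestrict_surjective
  obtain ⟨x, hx⟩ := exists_fixed_of_odd p hp φ.range (hodd.of_dvd_nat (Subgroup.card_range_dvd φ))
  obtain ⟨c, hc⟩ := exists_to_infty x
  obtain ⟨C, rfl⟩ : ∃ C, ProjGenLinGroup.mk C = c := by
    induction c using ProjGenLinGroup.induction_on with | mk g => exact ⟨g, rfl⟩
  set w : Fin 2 → K := ((C⁻¹ : GL (Fin 2) K) : Matrix (Fin 2) (Fin 2) K).mulVec (Pi.single 0 1) with hw
  -- a common eigenvector over the closure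
  have heig : ∀ h : H, ∃ a : K, ((h : GL (Fin 2) F) : Matrix (Fin 2) (Fin 2) F).map ι *ᵥ w = a • w := by
    intro h
    set h' := GeneralLinearGroup.map (n := Fin 2) ι (h : GL (Fin 2) F) with hh'
    have h1 : ProjGenLinGroup.mk (C * h' * C⁻¹) • (∞ : OnePoint K) = ∞ := by
      rw [← hc, map_mul, map_mul, map_inv, mul_smul, mul_smul, inv_smul_smul]
      congr 1
      exact hx _ ⟨h, rfl⟩
    rw [mk_smul', smul_infty_eq_self_iff] at h1
    refine ⟨(C * h' * C⁻¹ : GL (Fin 2) K) 0 0, ?_⟩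
    have h2 : ((C * h' * C⁻¹ : GL (Fin 2) K) : Matrix (Fin 2) (Fin 2) K) *ᵥ Pi.single 0 1 =
        ((C * h' * C⁻¹ : GL (Fin 2) K) 0 0) • Pi.single 0 1 := by
      rw [Matrix.mulVec_single_one]
      ext i
      fin_cases i
      · simp
      · simpa using h1
    have h3 := congrArg (fun u => ((C⁻¹ : GL (Fin 2) K) : Matrix (Fin 2) (Fin 2) K) *ᵥ u) h2
    have e : ((C⁻¹ : GL (Fin 2) K) : Matrix (Fin 2) (Fin 2) K) * ((C * h' * C⁻¹ : GL (Fin 2) K) : Matrix (Fin 2) (Fin 2) K) =
        (h' : Matrix (Fin 2) (Fin 2) K) * ((C⁻¹ : GL (Fin 2) K) : Matrix (Fin 2) (Fin 2) K) := by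
      rw [← Units.val_mul, ← Units.val_mul]
      congr 1
      group
    simp only [Matrix.mulVec_smul, Matrix.mulVec_mulVec] at h3
    rw [e, ← Matrix.mulVec_mulVec] at h3
    exact h3
  have hw0 : w ≠ 0 := fun h0 => by
    have h1 := congrArg (fun u => (C : Matrix (Fin 2) (Fin 2) K) *ᵥ u) h0
    rw [hw, Matrix.mulVec_mulVec, ← Units.val_mul, mul_inv_cancel, Units.val_one, Matrix.one_mulVec, Matrix.mulVec_zero] at h1
    simpa using congrFun h1 0
  -- an element of order p
  obtain ⟨g, hg⟩ := exists_prime_orderOf_dvd_card' (G := H) p hdvd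
  set M : Matrix (Fin 2) (Fin 2) F := ((g : GL (Fin 2) F) : Matrix (Fin 2) (Fin 2) F)
  set N := M - 1 with hN
  have hMp : M ^ p = 1 := by
    have h1 := pow_orderOf_eq_one g
    rw [hg] at h1
    have h2 := congrArg (fun u : H => ((u : GL (Fin 2) F) : Matrix (Fin 2) (Fin 2) F)) h1
    simpa [M] using h2
  have hNsq : N * N = 0 := mul_self_of_pow_eq_zero N (k := p) (by
    rw [hN, sub_pow_char_of_commute p (Commute.one_right M), hMp, one_pow, sub_self])
  have hN0 : N ≠ 0 := by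
    intro h
    have hM1 : (g : GL (Fin 2) F) = 1 := Units.ext (sub_eq_zero.1 h)
    rw [← Subgroup.orderOf_coe, hM1, orderOf_one] at hg
    exact (Fact.out : p.Prime).one_lt.ne hg
  obtain ⟨i₀, j₀, hij⟩ : ∃ i j, N i j ≠ 0 := by
    by_contra h
    push Not at h
    exact hN0 (Matrix.ext h)
  set v : Fin 2 → F := fun i => N i j₀ with hv
  have hv0 : v ≠ 0 := fun h => hij (congrFun h i₀)
  have hNv : N *ᵥ v = 0 := by
    ext i
    exact congrFun (congrFun hNsq i) j₀
  obtain ⟨a, ha⟩ := heig g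
  have hNw : N.map ι *ᵥ w = (a - 1) • w := by
    rw [hN, Matrix.map_sub _ (map_sub ι), Matrix.map_one _ (map_zero ι) (map_one ι), Matrix.sub_mulVec,
      Matrix.one_mulVec, ha, sub_smul, one_smul]
  have hNw0 : N.map ι *ᵥ w = 0 := by
    have h1 : (N.map ι * N.map ι) *ᵥ w = 0 := by
      rw [← Matrix.map_mul, hNsq, Matrix.map_zero _ (map_zero ι), Matrix.zero_mulVec]
    rw [← Matrix.mulVec_mulVec, hNw, Matrix.mulVec_smul, hNw, smul_smul] at h1
    have h2 := (smul_eq_zero.1 h1).resolve_right hw0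
    rw [hNw, mul_self_eq_zero.1 h2, zero_smul]
  -- the eigenvector is rational
  have hcross : w 0 * ι (v 1) = w 1 * ι (v 0) := by
    have e1 := congrFun hNw0 i₀
    have e2 := congrArg ι (congrFun hNv i₀)
    simp only [Matrix.mulVec, dotProduct, Fin.sum_univ_two, Matrix.map_apply, Pi.zero_apply, map_add, map_mul, map_zero] at e1 e2
    by_contra hne
    have h0 : ι (N i₀ 0) = 0 := by
      have : ι (N i₀ 0) * (w 0 * ι (v 1) - w 1 * ι (v 0)) = 0 := by linear_combination ι (v 1) * e1 - w 1 * e2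
      exact (mul_eq_zero.1 this).resolve_right (sub_ne_zero.2 hne)
    have h1 : ι (N i₀ 1) = 0 := by
      have : ι (N i₀ 1) * (w 0 * ι (v 1) - w 1 * ι (v 0)) = 0 := by linear_combination w 0 * e2 - ι (v 0) * e1
      exact (mul_eq_zero.1 this).resolve_right (sub_ne_zero.2 hne)
    refine hij (ι.injective ?_)
    rw [map_zero]
    fin_cases j₀ <;> assumption
  obtain ⟨k, hk⟩ : ∃ k, v k ≠ 0 := Function.ne_iff.1 hv0
  set s := w k / ι (v k) with hs
  have hws : w = s • fun i => ι (v i) := by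
    have hk' : ι (v k) ≠ 0 := fun h => hk (ι.injective (h.trans (map_zero ι).symm))
    ext i
    rw [Pi.smul_apply, smul_eq_mul, hs, div_mul_eq_mul_div, eq_div_iff hk']
    fin_cases i <;> fin_cases k <;> first | rfl | exact hcross | exact hcross.symm
  have hs0 : s ≠ 0 := fun h => hw0 (by rw [hws, h, zero_smul])
  obtain ⟨h, hh, hnot⟩ := hirr v hv0
  obtain ⟨b, hb⟩ := heig ⟨h, hh⟩
  rw [hws, Matrix.mulVec_smul, smul_comm b s] at hb
  have hb' : ∀ i, ι (((h : Matrix (Fin 2) (Fin 2) F) *ᵥ v) i) = b * ι (v i) := fun i => by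
    have := congrFun (smul_right_injective (Fin 2 → K) hs0 hb) i
    rw [RingHom.map_mulVec]
    exact this
  refine hnot (Submodule.mem_span_singleton.2 ⟨((h : Matrix (Fin 2) (Fin 2) F) *ᵥ v) k / v k, ?_⟩)
  have hbk : b = ι (((h : Matrix (Fin 2) (Fin 2) F) *ᵥ v) k / v k) := by
    rw [map_div₀, hb', mul_div_cancel_right₀ _ (fun e => hk (ι.injective (e.trans (map_zero ι).symm)))]
  ext i
  refine ι.injective ?_
  rw [Pi.smul_apply, smul_eq_mul, map_mul, ← hbk, hb']

theorem not_dvd_card_of_irreducible {F : Type*} [Field F] (p : ℕ) [Fact p.Prime] [CharP F p] (hp : p ≠ 2)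
    (H : Subgroup (GL (Fin 2) F)) [Finite H] (hodd : Odd (Nat.card H))
    (hirr : ∀ v : Fin 2 → F, v ≠ 0 → ∃ g ∈ H, (g : Matrix (Fin 2) (Fin 2) F).mulVec v ∉ Submodule.span F {v}) :
    ¬ p ∣ Nat.card H := by
  classical
  haveI : CharP (AlgebraicClosure F) p := charP_of_injective_algebraMap (algebraMap F (AlgebraicClosure F)).injective p
  exact not_dvd_card_aux (algebraMap F (AlgebraicClosure F)) p hp H hodd hirr

end Cfsg.Agent.Classical.Dickson
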