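import Cfsg.Agent.Lib.Classical.DicksonClasses
import Cfsg.Agent.Lib.Classical.IcosaClasses
import Mathlib.GroupTheory.IndexNormal

/-!
Redundant Sylow subgroups of `PSL₂(F)` and `SL₂(F)`.
-/

set_option autoImplicit false
set_option linter.style.haveILetI false
set_option linter.unusedSectionVars false

open scoped MatrixGroups Pointwise Classical
open Matrix OnePoint

noncomputable section

namespace Cfsg.Agent.Classical.Dickson

/-- Every element of `p`-power order lies in a Sylow subgroup other than `Q`, for some `Q`. -/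
def HasRedundant (p : ℕ) (G : Type*) [Group G] : Prop :=
  ∃ Q : Sylow p G, ∀ x : G, (∃ k : ℕ, orderOf x = p ^ k) → ∃ P : Sylow p G, P ≠ Q ∧ x ∈ P

section transfer

variable {G H : Type*} [Group G] [Finite G] [Group H] {p : ℕ} [hp : Fact p.Prime]

theorem mem_of_map_mem {π : G →* H} (hπ : π.ker ≤ Subgroup.center G)
    (hk : IsPGroup p π.ker ∨ (Nat.card π.ker).Coprime p) (P : Sylow p G) {x : G}
    (hx : ∃ k : ℕ, orderOf x = p ^ k) (hm : π x ∈ (P : Subgroup G).map π) : x ∈ P := by
  obtain ⟨a, ha, e⟩ := hm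
  have hn : a⁻¹ * x ∈ π.ker := by rw [MonoidHom.mem_ker, map_mul, map_inv, e, inv_mul_cancel]
  rcases hk with hk | hk
  · haveI : π.ker.Normal := π.normal_ker
    obtain ⟨P', hP'⟩ := hk.exists_le_sylow
    obtain ⟨g, rfl⟩ := MulAction.exists_smul_eq G P' P
    have hle : π.ker ≤ ((g • P' : Sylow p G) : Subgroup G) := by
      intro z hz
      rw [Sylow.coe_subgroup_smul, Subgroup.mem_pointwise_smul_iff_inv_smul_mem]
      refine hP' ?_
      show (MulAut.conj g)⁻¹ • z ∈ π.ker
      rw [← map_inv]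
      exact π.normal_ker.conj_mem z hz g⁻¹
    have := mul_mem ha (hle hn)
    rwa [mul_inv_cancel_left] at this
  · obtain ⟨k, hk'⟩ := hx
    set n := a⁻¹ * x with hn'
    have hc : Commute a n := (Subgroup.mem_center_iff.1 (hπ hn)) a
    have hnN : n ^ Nat.card π.ker = 1 := congrArg Subtype.val (pow_card_eq_one' (x := (⟨n, hn⟩ : π.ker)))
    have hxa : x = a * n := by rw [hn', mul_inv_cancel_left]
    have hxN : x ^ Nat.card π.ker ∈ P := by
      rw [hxa, hc.mul_pow, hnN, mul_one]
      exact pow_mem ha _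
    obtain ⟨m, hm⟩ := exists_pow_eq_self_of_coprime (x := x) (n := Nat.card π.ker)
      (by rw [hk']; exact (hk.pow_right k))
    rw [← hm]
    exact pow_mem hxN m

theorem mapSurjective_injective {π : G →* H} (hs : Function.Surjective π) (hπ : π.ker ≤ Subgroup.center G)
    (hk : IsPGroup p π.ker ∨ (Nat.card π.ker).Coprime p) {P P' : Sylow p G}
    (h : P.mapSurjective hs = P'.mapSurjective hs) : P = P' := by
  have hle : (P' : Subgroup G) ≤ P := by
    intro x hx
    refine mem_of_map_mem hπ hk P ?_ ?_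
    · obtain ⟨k, hk'⟩ := IsPGroup.iff_orderOf.1 P'.2 ⟨x, hx⟩
      exact ⟨k, by rwa [Subgroup.orderOf_mk] at hk'⟩
    · rw [← Sylow.coe_mapSurjective hs, h, Sylow.coe_mapSurjective]
      exact Subgroup.mem_map_of_mem π hx
  exact Sylow.ext (P'.3 P.2 hle)

theorem hasRedundant_iff_of_central {π : G →* H} (hs : Function.Surjective π)
    (hπ : π.ker ≤ Subgroup.center G) (hk : IsPGroup p π.ker ∨ (Nat.card π.ker).Coprime p) :
    HasRedundant p G ↔ HasRedundant p H := by
  haveI : Finite H := Finite.of_surjective π hs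
  have hord : ∀ (P : Sylow p G) (x : G), x ∈ P → ∃ k : ℕ, orderOf x = p ^ k := fun P x hx => by
    obtain ⟨k, hk'⟩ := IsPGroup.iff_orderOf.1 P.2 ⟨x, hx⟩
    exact ⟨k, by rwa [Subgroup.orderOf_mk] at hk'⟩
  constructor
  · rintro ⟨Q, hQ⟩
    refine ⟨Q.mapSurjective hs, fun y hy => ?_⟩
    obtain ⟨k, hk'⟩ := hy
    obtain ⟨P', hP'⟩ := (IsPGroup.of_card (p := p) (n := k) (show Nat.card (Subgroup.zpowers y) = p ^ k by
      rw [Nat.card_zpowers, hk'])).exists_le_sylow
    obtain ⟨P, rfl⟩ := Sylow.mapSurjective_surjective hs p P'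
    obtain ⟨a, ha, rfl⟩ := hP' (Subgroup.mem_zpowers y)
    obtain ⟨P₁, hne, ha₁⟩ := hQ a (hord P a ha)
    exact ⟨P₁.mapSurjective hs, fun e => hne (mapSurjective_injective hs hπ hk e),
      Subgroup.mem_map_of_mem π ha₁⟩
  · rintro ⟨Q', hQ'⟩
    obtain ⟨Q, rfl⟩ := Sylow.mapSurjective_surjective hs p Q'
    refine ⟨Q, fun x hx => ?_⟩
    obtain ⟨k, hk'⟩ := hx
    obtain ⟨j, -, hj⟩ := (Nat.dvd_prime_pow hp.out).1 (hk' ▸ orderOf_map_dvd π x)
    obtain ⟨P', hne, hm⟩ := hQ' (π x) ⟨j, hj⟩
    obtain ⟨P, rfl⟩ := Sylow.mapSurjective_surjective hs p P'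
    exact ⟨P, fun e => hne (by rw [e]), mem_of_map_mem hπ hk P ⟨k, hk'⟩ hm⟩

/-- A cyclic Sylow subgroup is never redundant. -/
theorem not_hasRedundant_of_cyclic (P₀ : Sylow p G) [IsCyclic P₀] : ¬ HasRedundant p G := by
  rintro ⟨Q, hQ⟩
  haveI : IsCyclic Q := isCyclic_of_surjective (P₀.equiv Q) (P₀.equiv Q).surjective
  obtain ⟨⟨x, hx⟩, hxo⟩ := IsCyclic.exists_ofOrder_eq_natCard (α := Q)
  rw [Subgroup.orderOf_mk] at hxo
  have hpow : ∃ k : ℕ, orderOf x = p ^ k := ⟨_, hxo.trans Q.card_eq_multiplicity⟩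
  obtain ⟨P, hne, hxP⟩ := hQ x hpow
  have e1 : Subgroup.zpowers x = (Q : Subgroup G) :=
    Subgroup.eq_of_le_of_card_ge (Subgroup.zpowers_le.2 hx) (by rw [Nat.card_zpowers, hxo])
  have hle : (Q : Subgroup G) ≤ P := e1 ▸ Subgroup.zpowers_le.2 hxP
  exact hne (Sylow.ext (Q.3 P.2 hle))

theorem not_hasRedundant_of_unique [Subsingleton (Sylow p G)] : ¬ HasRedundant p G := by
  rintro ⟨Q, hQ⟩
  obtain ⟨P, hne, -⟩ := hQ 1 ⟨0, by simp⟩
  exact hne (Subsingleton.elim _ _)

end transfer

section psl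

variable {F : Type*} [Field F] [Fintype F]

local notation "P2F" => Matrix.ProjectiveSpecialLinearGroup (Fin 2) F
local notation "KK" => AlgebraicClosure F

theorem map_sylow_le (p : ℕ) (P : Sylow p P2F) : (P : Subgroup P2F).map emb ≤ pslF F := by
  rintro _ ⟨a, -, rfl⟩; exact ⟨a, rfl⟩

/-- The Sylow subgroups of the defining characteristic meet trivially. -/
theorem not_hasRedundant_char (p : ℕ) [Fact p.Prime] [CharP F p] (hq4 : 4 ≤ Fintype.card F) :
    ¬ HasRedundant p P2F := by
  haveI : Finite P2F := Finite.of_surjective _ SL2Two.proj_surjective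
  haveI : CharP KK p := charP_of_injective_algebraMap (algebraMap F KK).injective p
  rintro ⟨Q, hQ⟩
  have A := ambient_pslF (F := F)
  obtain ⟨n, hpp, hn⟩ := FiniteField.card F p
  have hQn : Q.1 ≠ ⊥ := Q.ne_bot_of_dvd_card (by
    rw [← card_pslF, A.card]
    exact Dvd.dvd.mul_left (Dvd.dvd.mul_right (hn ▸ dvd_pow_self p n.ne_zero) _) _)
  haveI : Nontrivial Q.1 := (Subgroup.nontrivial_iff_ne_bot _).2 hQn
  obtain ⟨⟨x, hxQ⟩, hx1'⟩ := exists_ne (1 : Q.1)
  have hx1 : x ≠ 1 := fun e => hx1' (Subtype.ext e)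
  obtain ⟨k, hk⟩ := IsPGroup.iff_orderOf.1 Q.2 ⟨x, hxQ⟩
  rw [Subgroup.orderOf_mk] at hk
  obtain ⟨P, hne, hxP⟩ := hQ x ⟨k, hk⟩
  have hne1 : emb x ≠ 1 := fun h => hx1 (emb_injective (h.trans emb.map_one.symm))
  have hC : Nat.card (Subgroup.centralizer ({x} : Set P2F)) = Fintype.card F := by
    rw [card_centralizer_psl]
    rcases centralizer_cases p A hq4 ⟨x, rfl⟩ hne1 with ⟨-, h⟩ | ⟨_, -, h, -⟩
    · exact h
    · rw [orderOf_injective _ emb_injective, hk] at h
      exfalso
      rcases Nat.eq_zero_or_pos k with rfl | hk0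
      · exact hx1 (orderOf_eq_one_iff.1 (by rw [hk, pow_zero]))
      · exact h (dvd_pow_self p hk0.ne')
  have hsub : ∀ R : Sylow p P2F, x ∈ R → (R : Subgroup P2F) ≤ Subgroup.centralizer {x} := by
    intro R hxR a ha
    rw [Subgroup.mem_centralizer_singleton_iff]
    exact emb_injective (by
      rw [map_mul, map_mul]
      exact pGroup_comm p A (map_sylow_le p R) (R.2.map emb) ⟨a, ha, rfl⟩ ⟨x, hxR, rfl⟩)
  have hCp : IsPGroup p (Subgroup.centralizer ({x} : Set P2F)) := IsPGroup.of_card (hC.trans hn)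
  exact hne (Sylow.ext ((P.3 hCp (hsub P hxP)).symm.trans (Q.3 hCp (hsub Q hxQ))))

/-- Odd primes away from the characteristic have cyclic Sylow subgroups. -/
theorem not_hasRedundant_odd (c p : ℕ) [Fact c.Prime] [CharP F c] [hp : Fact p.Prime] (hp2 : p ≠ 2)
    (hpc : p ≠ c) : ¬ HasRedundant p P2F := by
  haveI : Finite P2F := Finite.of_surjective _ SL2Two.proj_surjective
  obtain ⟨n, hcp, hn⟩ := FiniteField.card F c
  have A := ambient_pslF (F := F)
  generalize (Fintype.card F - 1) / Nat.gcd 2 (Fintype.card F - 1) = e at A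
  generalize (Fintype.card F + 1) / Nat.gcd 2 (Fintype.card F - 1) = e' at A
  have hgcd := gcd_tori A
  set v := (Nat.card P2F).factorization p with hv
  have hd : p ^ v ∣ (Fintype.card F + 1) * (Fintype.card F * e) := by
    rw [← A.card, card_pslF]; exact Nat.ordProj_dvd _ _
  have hpq : Nat.Coprime p (Fintype.card F) := by
    rw [hn]
    exact ((Nat.coprime_primes hp.out hcp).2 hpc).pow_right _
  have hp2' : Nat.Coprime p 2 := (Nat.coprime_primes hp.out Nat.prime_two).2 hp2
  have hd' : p ^ v ∣ e' * e := by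
    rw [mul_left_comm] at hd
    have h := (Nat.Coprime.pow_left v hpq).dvd_of_dvd_mul_left hd
    rcases A.kind with ⟨-, k2⟩ | ⟨-, k2⟩
    · rw [k2]; exact h
    · rw [← k2, mul_assoc] at h
      exact (Nat.Coprime.pow_left v hp2').dvd_of_dvd_mul_left h
  obtain ⟨k, hk, hkd⟩ : ∃ k, (k = e ∨ k = e') ∧ p ^ v ∣ k := by
    by_cases hpe : p ∣ e
    · refine ⟨e, Or.inl rfl, (Nat.Coprime.pow_left v ?_).dvd_of_dvd_mul_left hd'⟩
      refine (Nat.Prime.coprime_iff_not_dvd hp.out).2 fun h => ?_
      exact hp2 ((Nat.prime_dvd_prime_iff_eq hp.out Nat.prime_two).1 ((Nat.dvd_gcd hpe h).trans hgcd))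
    · exact ⟨e', Or.inr rfl,
        (Nat.Coprime.pow_left v ((Nat.Prime.coprime_iff_not_dvd hp.out).2 hpe)).dvd_of_dvd_mul_right hd'⟩
  obtain ⟨g, hg⟩ := exists_orderOf_torus A hk
  obtain ⟨j, hj⟩ := hkd
  have hk0 : k ≠ 0 := by
    rintro rfl
    exact (orderOf_pos g).ne' hg
  have hcard : Nat.card (Subgroup.zpowers (g ^ j)) = p ^ v := by
    rw [Nat.card_zpowers, orderOf_pow' _ (by rintro rfl; simp at hj; exact hk0 hj), hg, hj,
      Nat.gcd_eq_right (dvd_mul_left _ _), Nat.mul_div_cancel _ (Nat.pos_of_ne_zero (by rintro rfl; simp at hj; exact hk0 hj))]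
  let P₀ : Sylow p P2F := Sylow.ofCard (Subgroup.zpowers (g ^ j)) hcard
  haveI : IsCyclic (P₀ : Subgroup P2F) := inferInstanceAs (IsCyclic (Subgroup.zpowers (g ^ j)))
  exact not_hasRedundant_of_cyclic P₀

/-- The prime two in odd characteristic. -/
theorem hasRedundant_two_iff (c : ℕ) [Fact c.Prime] [CharP F c] (hodd : Fintype.card F % 2 = 1)
    (hq5 : 5 ≤ Fintype.card F) {k k' : ℕ}
    (hk : (k = (Fintype.card F - 1) / 2 ∧ k' = (Fintype.card F + 1) / 2) ∨
      (k = (Fintype.card F + 1) / 2 ∧ k' = (Fintype.card F - 1) / 2)) (heven : 2 ∣ k) :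
    HasRedundant 2 P2F ↔ ¬ ∃ a, k = 2 ^ a := by
  haveI : Finite P2F := Finite.of_surjective _ SL2Two.proj_surjective
  haveI : Fact (Nat.Prime 2) := ⟨Nat.prime_two⟩
  haveI : CharP KK c := charP_of_injective_algebraMap (algebraMap F KK).injective c
  have A := ambient_pslF (F := F)
  rw [Nat.gcd_eq_left (show 2 ∣ Fintype.card F - 1 by omega)] at A
  have hkA : k = (Fintype.card F - 1) / 2 ∨ k = (Fintype.card F + 1) / 2 := hk.imp (·.1) (·.1)
  have hk2 : 2 ≤ k := by omega
  have hk'odd : ¬ 2 ∣ k' := by omega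
  have hN : Nat.card P2F = 2 * k * (Fintype.card F * k') := by
    rw [← card_pslF, A.card]
    have e1 : Fintype.card F + 1 = 2 * ((Fintype.card F + 1) / 2) := by omega
    rcases hk with ⟨r, r'⟩ | ⟨r, r'⟩ <;> subst r <;> subst r' <;> nth_rewrite 1 [e1] <;> ring
  have hc2 : c ≠ 2 := by
    obtain ⟨n, hcp, hn⟩ := FiniteField.card F c
    rintro rfl
    have : 2 ∣ Fintype.card F := hn ▸ dvd_pow_self 2 n.ne_zero
    omega
  have hqk : ¬ 2 ∣ Fintype.card F * k' := fun h => by
    rcases Nat.prime_two.dvd_mul.1 h with h | h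
    · omega
    · exact hk'odd h
  -- the torus containing a given element of even order
  have torusOf : ∀ x : P2F, x ≠ 1 → (∃ j, orderOf x = 2 ^ j) →
      ∃ a b : OnePoint KK, a ≠ b ∧ emb x • a = a ∧ emb x • b = b ∧
        Nat.card ↥(st (pslF F) a ⊓ MulAction.stabilizer (PGL(2, KK)) b) = k ∧
        Nat.card (Ambient.pairStab (pslF F) a b) = 2 * k := by
    rintro x hx1 ⟨j, hj⟩
    have hne : emb x ≠ 1 := fun h => hx1 (emb_injective (h.trans emb.map_one.symm))
    have h2x : 2 ∣ orderOf (emb x) := by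
      rw [orderOf_injective _ emb_injective, hj]
      refine dvd_pow_self 2 fun e => hx1 (orderOf_eq_one_iff.1 (by rw [hj, e, pow_zero]))
    rcases fixed_cases hne with ⟨a, ha, -⟩ | ⟨a, b, hab, -, -, hfix⟩
    · exfalso
      have hd := h2x.trans (orderOf_dvd_of_pow_eq_one (pow_char_of_isTr (p := c) ha))
      exact hc2 ((Nat.prime_dvd_prime_iff_eq Nat.prime_two Fact.out).1 hd).symm
    · have ha := (hfix a).2 (Or.inl rfl)
      have hb := (hfix b).2 (Or.inr rfl)
      obtain ⟨k₁, hk₁, hT, hD⟩ := card_two_fix A (by omega) ⟨x, rfl⟩ hab hne ha hb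
      have h2k : 2 ∣ k₁ := hT ▸ h2x.trans (Subgroup.orderOf_dvd_natCard _
        (Subgroup.mem_inf.2 ⟨⟨⟨x, rfl⟩, ha⟩, hb⟩))
      have : k₁ = k := by rcases hk₁ with r | r <;> rcases hk with ⟨s, s'⟩ | ⟨s, s'⟩ <;> omega
      exact ⟨a, b, hab, ha, hb, this ▸ hT, this ▸ hD⟩
  constructor
  · rintro ⟨Q, hQ⟩ ⟨a, ha⟩
    have hcardS : ∀ R : Sylow 2 P2F, Nat.card R = 2 * k := by
      intro R
      rw [R.card_eq_multiplicity, hN, Nat.factorization_mul (a := 2 * k) (b := Fintype.card F * k') (by omega) (fun h => hqk (by rw [h]; exact dvd_zero 2)),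
        Finsupp.add_apply, Nat.factorization_eq_zero_of_not_dvd hqk, add_zero, ha, ← pow_succ',
        Nat.Prime.factorization_pow Nat.prime_two, Finsupp.single_eq_same]
    by_cases hk4 : k = 2
    · obtain ⟨x, hxQ, hx1⟩ : ∃ x, x ∈ Q ∧ x ≠ 1 := by
        haveI : Nontrivial Q := Finite.one_lt_card_iff_nontrivial.1 (by rw [hcardS]; omega)
        obtain ⟨⟨x, hx⟩, h⟩ := exists_ne (1 : Q)
        exact ⟨x, hx, fun e => h (Subtype.ext e)⟩
      obtain ⟨j, hj⟩ := IsPGroup.iff_orderOf.1 Q.2 ⟨x, hxQ⟩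
      rw [Subgroup.orderOf_mk] at hj
      obtain ⟨P, hne, hxP⟩ := hQ x ⟨j, hj⟩
      have hne1 : emb x ≠ 1 := fun h => hx1 (emb_injective (h.trans emb.map_one.symm))
      have hC : Nat.card (Subgroup.centralizer ({x} : Set P2F)) ≤ 4 := by
        rw [card_centralizer_psl]
        rcases centralizer_cases c A (by omega) ⟨x, rfl⟩ hne1 with ⟨ho, -⟩ | ⟨k₁, hk₁, -, hd, hcc⟩
        · exfalso
          rw [orderOf_injective _ emb_injective, hj] at ho
          exact hc2 ((Nat.prime_dvd_prime_iff_eq Fact.out Nat.prime_two).1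
            ((Fact.out : c.Prime).dvd_of_dvd_pow (dvd_of_eq ho.symm)))
        · rw [orderOf_injective _ emb_injective, hj] at hd
          have h2k : 2 ∣ k₁ := (dvd_pow_self 2 fun e => hx1 (orderOf_eq_one_iff.1 (by rw [hj, e, pow_zero]))).trans hd
          have : k₁ = 2 := by rcases hk₁ with r | r <;> rcases hk with ⟨s, s'⟩ | ⟨s, s'⟩ <;> omega
          rcases hcc with ⟨-, h⟩ | ⟨-, h⟩ <;> omega
      have hsub : ∀ R : Sylow 2 P2F, x ∈ R → (R : Subgroup P2F) = Subgroup.centralizer {x} := by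
        intro R hxR
        refine Subgroup.eq_of_le_of_card_ge (fun a ha => ?_) (hC.trans (by rw [hcardS, hk4]))
        rw [Subgroup.mem_centralizer_singleton_iff]
        exact congrArg Subtype.val (IsPGroup.commutative_of_card_eq_prime_sq (p := 2) (G := R)
          (by rw [hcardS, hk4]; norm_num) ⟨a, ha⟩ ⟨x, hxR⟩)
      exact hne (Sylow.ext ((hsub P hxP).trans (hsub Q hxQ).symm))
    · obtain ⟨g, hg⟩ := exists_orderOf_torus A hkA
      obtain ⟨P₀, hP₀⟩ := (IsPGroup.of_card (p := 2) (n := a) (show Nat.card (Subgroup.zpowers g) = 2 ^ a by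
        rw [Nat.card_zpowers, hg, ha])).exists_le_sylow
      obtain ⟨x, hxQ, hxo⟩ : ∃ x, x ∈ Q ∧ orderOf x = k := by
        refine ⟨_, (P₀.equiv Q ⟨g, hP₀ (Subgroup.mem_zpowers g)⟩).2, ?_⟩
        rw [Subgroup.orderOf_coe, MulEquiv.orderOf_eq, Subgroup.orderOf_mk, hg]
      obtain ⟨P, hne, hxP⟩ := hQ x ⟨a, hxo.trans ha⟩
      have hx1 : x ≠ 1 := fun e => by rw [e, orderOf_one] at hxo; omega
      obtain ⟨p₁, p₂, hp12, hp1, hp2, hT, hD⟩ := torusOf x hx1 ⟨a, hxo.trans ha⟩
      have hsub : ∀ R : Sylow 2 P2F, x ∈ R → (R : Subgroup P2F).map emb = Ambient.pairStab (pslF F) p₁ p₂ := by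
        intro R hxR
        refine Subgroup.eq_of_le_of_card_ge ?_ (le_of_eq (by
          rw [hD, Subgroup.card_map_of_injective emb_injective]; exact (hcardS R).symm))
        rintro _ ⟨h, hh, rfl⟩
        set Z := Subgroup.zpowers (⟨x, hxR⟩ : R) with hZ
        have hidx : Z.index = 2 := by
          have e := Z.card_mul_index
          rw [hZ, Nat.card_zpowers, Subgroup.orderOf_mk, hxo] at e
          exact Nat.eq_of_mul_eq_mul_left (by omega) ((e.trans (hcardS R)).trans (mul_comm 2 k))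
        obtain ⟨i, hi⟩ := Subgroup.mem_zpowers_iff.1
          ((Subgroup.normal_of_index_eq_two hidx).conj_mem _ (Subgroup.mem_zpowers _) ⟨h, hh⟩)
        have hi' : emb x ^ i = emb h * emb x * (emb h)⁻¹ := by
          rw [← map_zpow, ← map_inv, ← map_mul, ← map_mul]
          exact congrArg emb (congrArg Subtype.val hi)
        obtain ⟨_, _, -, -, -, htor⟩ := A.torus (by omega) ⟨x, rfl⟩ hp12
          (fun e => hx1 (emb_injective (e.trans emb.map_one.symm))) hp1 hp2
        refine htor _ ⟨h, rfl⟩ ?_ ?_ <;> rw [← hi']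
        · exact zpow_mem (show emb x ∈ MulAction.stabilizer (PGL(2, KK)) p₁ from hp1) i
        · exact zpow_mem (show emb x ∈ MulAction.stabilizer (PGL(2, KK)) p₂ from hp2) i
      exact hne (Sylow.ext (Subgroup.map_injective emb_injective ((hsub P hxP).trans (hsub Q hxQ).symm)))
  · intro hnp
    obtain ⟨r, hr, hrk, hr2⟩ : ∃ r : ℕ, r.Prime ∧ r ∣ k ∧ r ≠ 2 := by
      by_contra hc
      push Not at hc
      exact hnp ⟨_, Nat.eq_prime_pow_of_unique_prime_dvd (by omega) fun {d} hd hdk => hc d hd hdk⟩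
    haveI : Fact r.Prime := ⟨hr⟩
    refine ⟨Classical.choice Sylow.nonempty, fun x hx => ?_⟩
    generalize (Classical.choice (Sylow.nonempty (p := 2) (G := P2F))) = Q
    by_contra hcon
    push Not at hcon
    by_cases hx1 : x = 1
    · subst hx1
      have hsub : Subsingleton (Sylow 2 P2F) := ⟨fun P P' => by
        rw [show P = Q from by_contra fun h => hcon P h (one_mem _),
          show P' = Q from by_contra fun h => hcon P' h (one_mem _)]⟩
      haveI := psl_simple_of_four_le (F := F) (by omega)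
      haveI := Q.normal_of_subsingleton
      have hdvd : 2 ∣ Nat.card P2F := hN ▸ Dvd.dvd.mul_right (dvd_mul_right 2 k) _
      rcases (inferInstance : (Q : Subgroup P2F).Normal).eq_bot_or_eq_top with h | h
      · exact Q.ne_bot_of_dvd_card hdvd h
      · obtain ⟨g, hg⟩ := exists_prime_orderOf_dvd_card' r (G := P2F)
          (hN ▸ (hrk.trans (dvd_mul_left k 2)).mul_right _)
        obtain ⟨j, hj⟩ := IsPGroup.iff_orderOf.1 Q.2 ⟨g, h ▸ Subgroup.mem_top g⟩
        rw [Subgroup.orderOf_mk, hg] at hj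
        exact hr2 ((Nat.prime_dvd_prime_iff_eq hr Nat.prime_two).1 (hr.dvd_of_dvd_pow (dvd_of_eq hj)))
    obtain ⟨a, b, hab, ha, hb, hT, hD⟩ := torusOf x hx1 hx
    set T := st (pslF F) a ⊓ MulAction.stabilizer (PGL(2, KK)) b with hTdef
    -- every involution exchanging the two points lies in Q
    have hrefl : ∀ w : P2F, emb w • a = b → emb w • b = a → w ∈ Q := by
      intro w hwa hwb
      have hw2 : w * w = 1 := by
        apply emb_injective
        obtain ⟨z, hz⟩ := exists_fixed (emb w)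
        have hza : a ≠ z := fun e => hab (by rw [← hwa, e, hz])
        have hzb : b ≠ z := fun e => hab (by rw [← hwb, e, hz])
        rw [map_one, map_mul]
        exact eq_one_of_fix_three hab hza hzb (by rw [mul_smul, hwa, hwb]) (by rw [mul_smul, hwb, hwa])
          (by rw [mul_smul, hz, hz])
      have hinv : w * x * w⁻¹ = x⁻¹ := by
        apply emb_injective
        rw [map_mul, map_mul, map_inv, map_inv]
        exact swap_inv hab ha hb hwa hwb
      obtain ⟨j, hj⟩ := hx
      have h1 : IsPGroup 2 (Subgroup.zpowers x) := IsPGroup.of_card ((Nat.card_zpowers x).trans hj)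
      have h2 : IsPGroup 2 (Subgroup.zpowers w) := by
        obtain ⟨i, -, hi⟩ := (Nat.dvd_prime_pow Nat.prime_two).1
          (show orderOf w ∣ 2 ^ 1 from orderOf_dvd_of_pow_eq_one (by rw [pow_one, pow_two, hw2]))
        exact IsPGroup.of_card ((Nat.card_zpowers w).trans hi)
      have hle : Subgroup.zpowers w ≤ Subgroup.normalizer ((Subgroup.zpowers x : Subgroup P2F) : Set P2F) := by
        rw [Subgroup.zpowers_le, Subgroup.mem_normalizer_iff]
        intro y
        constructor
        · intro hy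
          obtain ⟨i, rfl⟩ := Subgroup.mem_zpowers_iff.1 hy
          rw [← conj_zpow, hinv]
          exact zpow_mem (inv_mem (Subgroup.mem_zpowers x)) i
        · intro hy
          obtain ⟨i, hi⟩ := Subgroup.mem_zpowers_iff.1 hy
          refine Subgroup.mem_zpowers_iff.2 ⟨-i, ?_⟩
          have hw' : w⁻¹ = w := inv_eq_of_mul_eq_one_right hw2
          have e : y = w * (w * y * w⁻¹) * w⁻¹ := by
            rw [hw', show w * (w * y * w) * w = (w * w) * y * (w * w) by group, hw2, one_mul, mul_one]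
          rw [e, ← hi, ← conj_zpow, hinv, _root_.inv_zpow, _root_.zpow_neg]
      obtain ⟨P, hP⟩ := (IsPGroup.to_sup_of_normal_right' h2 h1 hle).exists_le_sylow
      have hPQ : P = Q := by_contra fun h => hcon P h (hP (Subgroup.mem_sup_right (Subgroup.mem_zpowers x)))
      exact hPQ ▸ hP (Subgroup.mem_sup_left (Subgroup.mem_zpowers w))
    obtain ⟨w, hw, hwne⟩ : ∃ w ∈ Ambient.pairStab (pslF F) a b, w ∉ T := by
      refine SetLike.not_le_iff_exists.1 fun h => ?_
      haveI : Finite T := Finite.of_injective _ (Subgroup.inclusion_injective (inf_le_left.trans (st_le _ _)))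
      have := Nat.le_of_dvd Nat.card_pos (Subgroup.card_dvd_of_le h)
      rw [hD, hT] at this
      omega
    have hsw : w • a = b ∧ w • b = a := ((Ambient.mem_pairStab.1 hw).2.resolve_left fun h =>
      hwne (Subgroup.mem_inf.2 ⟨⟨(Ambient.mem_pairStab.1 hw).1, h.1⟩, h.2⟩))
    obtain ⟨w₀, rfl⟩ := (Ambient.mem_pairStab.1 hw).1
    haveI : Finite T := Finite.of_injective _ (Subgroup.inclusion_injective (inf_le_left.trans (st_le _ _)))
    obtain ⟨⟨t, ht⟩, hto⟩ := exists_prime_orderOf_dvd_card' r (G := T) (hT.symm ▸ hrk)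
    rw [Subgroup.orderOf_mk] at hto
    obtain ⟨t₀, rfl⟩ := ht.1.1
    have hwQ := hrefl w₀ hsw.1 hsw.2
    have hwtQ := hrefl (w₀ * t₀) (by rw [map_mul, mul_smul, ht.1.2, hsw.1]) (by rw [map_mul, mul_smul, ht.2, hsw.2])
    have htQ : t₀ ∈ Q := by simpa using mul_mem (inv_mem hwQ) hwtQ
    obtain ⟨j, hj⟩ := IsPGroup.iff_orderOf.1 Q.2 ⟨t₀, htQ⟩
    rw [Subgroup.orderOf_mk, ← orderOf_injective _ emb_injective t₀, hto] at hj
    exact hr2 ((Nat.prime_dvd_prime_iff_eq hr Nat.prime_two).1 (hr.dvd_of_dvd_pow (dvd_of_eq hj)))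

/-- The criterion. -/
theorem hasRedundant_psl_iff (p : ℕ) [hp : Fact p.Prime] :
    HasRedundant p P2F ↔ (p = 2 ∧ (¬ ∃ k : ℕ, Fintype.card F + 1 = 2 ^ k) ∧
      (¬ ∃ k : ℕ, Fintype.card F = 2 ^ k) ∧ ¬ ∃ k : ℕ, Fintype.card F = 2 ^ k + 1) := by
  haveI : Finite P2F := Finite.of_surjective _ SL2Two.proj_surjective
  obtain ⟨c, hc⟩ := CharP.exists F
  obtain ⟨n, hcp, hn⟩ := FiniteField.card F c
  haveI : Fact c.Prime := ⟨hcp⟩
  have hq := Fintype.one_lt_card (α := F)
  constructor
  · intro hR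
    by_cases hpc : p = c
    · subst hpc
      exfalso
      rcases (show Fintype.card F = 2 ∨ Fintype.card F = 3 ∨ 4 ≤ Fintype.card F by omega) with h | h | h
      all_goals try exact not_hasRedundant_char p h hR
      all_goals
        have hv : Fintype.card F = p := by
          have hple : p ≤ Fintype.card F := hn ▸ Nat.le_self_pow n.ne_zero p
          have := hcp.two_le
          by_contra hne
          have hn2 : 2 ≤ (n : ℕ) := by
            rcases (show (n : ℕ) = 1 ∨ 2 ≤ (n : ℕ) by have := n.pos; omega) with e | e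
            · rw [hn, e, pow_one] at hne; exact absurd rfl hne
            · exact e
          have : 2 ^ 2 ≤ p ^ (n : ℕ) := le_trans (Nat.pow_le_pow_left hcp.two_le 2) (Nat.pow_le_pow_right hcp.pos hn2)
          omega
        have hG := SL2.card_PSL2_mul (F := F)
        obtain ⟨P⟩ := Sylow.nonempty (p := p) (G := P2F)
        have hPc : Nat.card P = p := by
          rw [P.card_eq_multiplicity]
          rw [h] at hv
          subst hv
          rw [h] at hG
          first
          | rw [show Nat.gcd 2 (2 - 1) = 1 by decide] at hG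
          | rw [show Nat.gcd 2 (3 - 1) = 2 by decide] at hG
          first
          | (rw [show Nat.card P2F = 2 * 3 by omega, Nat.factorization_mul (by norm_num) (by norm_num),
              Finsupp.add_apply, Nat.prime_two.factorization_self,
              Nat.factorization_eq_zero_of_not_dvd (show ¬ 2 ∣ 3 by norm_num), add_zero, pow_one])
          | (rw [show Nat.card P2F = 3 * 4 by omega, Nat.factorization_mul (by norm_num) (by norm_num),
              Finsupp.add_apply, Nat.prime_three.factorization_self,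
              Nat.factorization_eq_zero_of_not_dvd (show ¬ 3 ∣ 4 by norm_num), add_zero, pow_one])
        haveI : IsCyclic P := isCyclic_of_prime_card hPc
        exact not_hasRedundant_of_cyclic P hR
    · by_cases hp2 : p = 2
      · subst hp2
        have hodd : Fintype.card F % 2 = 1 := by
          rw [hn, ← Nat.odd_iff]
          exact (hcp.eq_two_or_odd'.resolve_left fun e => hpc e.symm).pow
        refine ⟨rfl, ?_⟩
        have hno2 : ¬ ∃ k : ℕ, Fintype.card F = 2 ^ k := by
          rintro ⟨_ | k, hk⟩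
          · rw [pow_zero] at hk; omega
          · rw [pow_succ] at hk; omega
        by_cases hq5 : 5 ≤ Fintype.card F
        · refine ⟨fun ⟨j, hj⟩ => ?_, hno2, fun ⟨j, hj⟩ => ?_⟩
          · have hj3 : 3 ≤ j := by
              by_contra hlt
              interval_cases j <;> omega
            obtain ⟨i, rfl⟩ := Nat.exists_eq_add_of_le hj3
            have he : (Fintype.card F + 1) / 2 = 2 ^ (2 + i) := by rw [hj, show 3 + i = (2 + i) + 1 by omega, pow_succ, Nat.mul_div_cancel _ two_pos]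
            exact (hasRedundant_two_iff (F := F) c hodd hq5 (Or.inr ⟨rfl, rfl⟩)
              (he ▸ dvd_pow_self 2 (by omega))).1 hR ⟨_, he⟩
          · have hj3 : 2 ≤ j := by
              by_contra hlt
              interval_cases j <;> omega
            obtain ⟨i, rfl⟩ := Nat.exists_eq_add_of_le hj3
            have he : (Fintype.card F - 1) / 2 = 2 ^ (1 + i) := by
              rw [hj, Nat.add_sub_cancel, show 2 + i = (1 + i) + 1 by omega, pow_succ, Nat.mul_div_cancel _ two_pos]
            exact (hasRedundant_two_iff (F := F) c hodd hq5 (Or.inl ⟨rfl, rfl⟩)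
              (he ▸ dvd_pow_self 2 (by omega))).1 hR ⟨_, he⟩
        · exfalso
          have h3 : Fintype.card F = 3 := by omega
          have h2F : (2 : F) ≠ 0 := SL2Two.two_ne_zero' (Nat.odd_iff.2 hodd)
          have hG := SL2.card_PSL2_mul (F := F)
          rw [h3, show Nat.gcd 2 (3 - 1) = 2 by decide] at hG
          have hk := SL2Two.twelve_mul_card_klein (F := F) h2F
          obtain ⟨⟨V, hV⟩⟩ : Nonempty {V : Subgroup P2F // IsKleinFour V} := by
            by_contra hc'
            rw [not_nonempty_iff] at hc'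
            rw [Nat.card_of_isEmpty, mul_zero] at hk
            exact Nat.card_pos.ne hk
          have hN12 := Nat.le_of_dvd Nat.card_pos (SL2Two.card_normalizer_klein_dvd h2F V hV).2.1
          have hnorm : V.Normal := Subgroup.normalizer_eq_top_iff.1
            (Subgroup.eq_top_of_le_card _ (by omega))
          let P : Sylow 2 P2F := Sylow.ofCard V (by
            rw [hV.card_four, show Nat.card P2F = 2 ^ 2 * 3 by omega,
              Nat.factorization_mul (by norm_num) (by norm_num), Finsupp.add_apply,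
              Nat.Prime.factorization_pow Nat.prime_two, Nat.Prime.factorization Nat.prime_three]
            simp)
          haveI : Subsingleton (Sylow 2 P2F) := by
            haveI := Sylow.unique_of_normal P hnorm
            infer_instance
          exact not_hasRedundant_of_unique hR
      · exact absurd hR (not_hasRedundant_odd c p hp2 hpc)
  · rintro ⟨rfl, h1, h2, h3⟩
    have hodd : Fintype.card F % 2 = 1 := by
      rw [hn, ← Nat.odd_iff]
      refine (hcp.eq_two_or_odd'.resolve_left fun e => h2 ⟨n, by rw [hn, e]⟩).pow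
    have hq5 : 5 ≤ Fintype.card F := by
      by_contra hlt
      exact h1 ⟨2, by omega⟩
    rcases (show 2 ∣ (Fintype.card F - 1) / 2 ∨ 2 ∣ (Fintype.card F + 1) / 2 by omega) with he | he
    · refine (hasRedundant_two_iff c hodd hq5 (Or.inl ⟨rfl, rfl⟩) he).2 fun ⟨a, ha⟩ => h3 ⟨a + 1, ?_⟩
      rw [pow_succ]; omega
    · refine (hasRedundant_two_iff c hodd hq5 (Or.inr ⟨rfl, rfl⟩) he).2 fun ⟨a, ha⟩ => h1 ⟨a + 1, ?_⟩
      rw [pow_succ]; omega

end psl

end Cfsg.Agent.Classical.Dickson
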