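import Cfsg.Agent.Lib.Classical.DicksonSporadic
import Cfsg.Agent.Lib.Classical.DicksonDihedral

/-!
Consequences used by the tables of maximal subgroups of `PSL₂(F)` and `PGL₂(F)`.
-/

set_option autoImplicit false
set_option linter.style.haveILetI false
set_option linter.unusedSectionVars false
set_option maxRecDepth 20000

open scoped MatrixGroups Pointwise Classical commutatorElement
open Matrix OnePoint

noncomputable section

namespace Cfsg.Agent.Classical.Dickson

theorem dihedral_four_klein : ∃ a c : DihedralGroup 4, a * a = 1 ∧ a ≠ 1 ∧ c * c = 1 ∧ c ≠ 1 ∧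
    a * c = c * a ∧ a ≠ c ∧ ∀ g, g * a * g⁻¹ ∈ [a, c, a * c] ∧ g * c * g⁻¹ ∈ [a, c, a * c] :=
  ⟨DihedralGroup.r 2, DihedralGroup.sr 0, by decide⟩

theorem alt_four_squares : ∀ x : alternatingGroup (Fin 4), ∃ r s : alternatingGroup (Fin 4), x = r * r * (s * s) := by
  decide

theorem alt_five_squares : ∀ x : alternatingGroup (Fin 5), ∃ r s : alternatingGroup (Fin 5), x = r * r * (s * s) := by
  decide

theorem alt_five_inverting : ∃ a b : alternatingGroup (Fin 5), a * a = 1 ∧ a ≠ 1 ∧ b ^ 5 = 1 ∧ b ≠ 1 ∧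
    a * b * a = b⁻¹ ∧ ∃ g : alternatingGroup (Fin 5), g * b * g⁻¹ * b ≠ b * (g * b * g⁻¹) := by
  refine ⟨⟨Equiv.swap 1 4 * Equiv.swap 2 3, Equiv.Perm.mem_alternatingGroup.2 (by decide)⟩,
    ⟨Equiv.swap 0 4 * Equiv.swap 0 3 * Equiv.swap 0 2 * Equiv.swap 0 1, Equiv.Perm.mem_alternatingGroup.2 (by decide)⟩,
    by decide, by decide, by decide, by decide, by decide,
    ⟨Equiv.swap 0 1 * Equiv.swap 2 3, Equiv.Perm.mem_alternatingGroup.2 (by decide)⟩, by decide⟩

theorem perm_four_inverting : ∃ a b : Equiv.Perm (Fin 4), a * a = 1 ∧ a ≠ 1 ∧ b ^ 3 = 1 ∧ b ≠ 1 ∧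
    a * b * a = b⁻¹ ∧ ∃ g : Equiv.Perm (Fin 4), g * b * g⁻¹ * b ≠ b * (g * b * g⁻¹) :=
  ⟨Equiv.swap 1 2, Equiv.swap 0 2 * Equiv.swap 0 1, by decide, by decide, by decide, by decide, by decide,
    Equiv.swap 0 3, by decide⟩

section general

variable {G : Type*} [Group G]

/-- The normal Klein four subgroup of a subgroup with a marked pair. -/
theorem klein_of_pair {T : Type*} [Group T] {H : Subgroup G} (e : H ≃* T) {a c : T} (ha : a * a = 1) (ha1 : a ≠ 1)
    (hc : c * c = 1) (hc1 : c ≠ 1) (hac : a * c = c * a) (hne : a ≠ c)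
    (hg : ∀ g, g * a * g⁻¹ ∈ [a, c, a * c] ∧ g * c * g⁻¹ ∈ [a, c, a * c]) :
    ∃ V : Subgroup G, IsKleinFour V ∧ V ≤ H ∧ H ≤ Subgroup.normalizer (V : Set G) ∧
      ∀ v, v ∈ V → v = 1 ∨ ∃ t, (t = a ∨ t = c ∨ t = a * c) ∧ v = (e.symm t : G) := by
  let φ : T →* G := H.subtype.comp e.symm.toMonoidHom
  have hφ : Function.Injective φ := fun u v h => e.symm.injective (Subtype.ext h)
  have hmap : ∀ x : T, x ∈ [a, c, a * c] → φ x ∈ [φ a, φ c, φ a * φ c] := fun x hx => by
    simp only [List.mem_cons, List.not_mem_nil, or_false] at hx ⊢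
    rcases hx with rfl | rfl | rfl
    · exact Or.inl rfl
    · exact Or.inr (Or.inl rfl)
    · exact Or.inr (Or.inr (map_mul φ a c))
  obtain ⟨V, hV, hmem, hnorm⟩ := exists_klein (a := φ a) (c := φ c) (by rw [← map_mul, ha, map_one])
    ((map_ne_one_iff φ hφ).2 ha1) (by rw [← map_mul, hc, map_one]) ((map_ne_one_iff φ hφ).2 hc1)
    (by rw [← map_mul, hac, map_mul]) (fun h => hne (hφ h))
  refine ⟨V, hV, fun v hv => ?_, fun g hg' => ?_, fun v hv => ?_⟩
  · rcases (hmem v).1 hv with rfl | rfl | rfl | rfl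
    · exact H.one_mem
    · exact (e.symm a).2
    · exact (e.symm c).2
    · exact H.mul_mem (e.symm a).2 (e.symm c).2
  · have hgφ : φ (e ⟨g, hg'⟩) = g := by simp [φ]
    rw [← hgφ]
    refine hnorm _ ?_ ?_
    · simpa only [map_mul, map_inv] using hmap _ (hg (e ⟨g, hg'⟩)).1
    · simpa only [map_mul, map_inv] using hmap _ (hg (e ⟨g, hg'⟩)).2
  · rcases (hmem v).1 hv with rfl | rfl | rfl | rfl
    · exact Or.inl rfl
    · exact Or.inr ⟨a, Or.inl rfl, rfl⟩
    · exact Or.inr ⟨c, Or.inr (Or.inl rfl), rfl⟩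
    · exact Or.inr ⟨a * c, Or.inr (Or.inr rfl), (map_mul φ a c).symm⟩

/-- A maximal dihedral subgroup of order twice a prime cannot avoid a larger subgroup inverting an
element of that order. -/
theorem dihedral_not_max [Finite G] {k : ℕ} (hk : k.Prime) (hk2 : k ≠ 2) (hG : ¬ k ^ 2 ∣ Nat.card G)
    {M H : Subgroup G} (hM : IsCoatom M) (f : M ≃* DihedralGroup k) (hH : H ≠ ⊤)
    (hHc : Nat.card H ≠ 2 * k) {a b : H} (ha : a * a = 1) (ha1 : a ≠ 1) (hb : b ^ k = 1) (hb1 : b ≠ 1)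
    (hab : a * b * a = b⁻¹) {g : H} (hg : g * b * g⁻¹ * b ≠ b * (g * b * g⁻¹)) : False := by
  haveI : Fact k.Prime := ⟨hk⟩
  haveI : Fact (Nat.Prime 2) := ⟨Nat.prime_two⟩
  haveI : NeZero k := ⟨hk.ne_zero⟩
  have hob : orderOf b = k := orderOf_eq_prime hb hb1
  have hoa : orderOf a = 2 := orderOf_eq_prime (by rw [pow_two]; exact ha) ha1
  set r : G := ((f.symm (DihedralGroup.r 1) : M) : G) with hr
  have hor : orderOf r = k := by rw [hr, Subgroup.orderOf_coe, MulEquiv.orderOf_eq, DihedralGroup.orderOf_r_one]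
  -- both cyclic subgroups are Sylow subgroups
  have hsyl : ∀ z : G, orderOf z = k → ∃ P : Sylow k G, (P : Subgroup G) = Subgroup.zpowers z := by
    intro z hz
    obtain ⟨P, hP⟩ := (IsPGroup.of_card (p := k) (n := 1) (G := Subgroup.zpowers z)
      (by rw [Nat.card_zpowers, hz, pow_one])).exists_le_sylow
    refine ⟨P, (Subgroup.eq_of_le_of_card_ge hP ?_).symm⟩
    obtain ⟨n, hn⟩ := P.isPGroup'.exists_card_eq
    change Nat.card P = k ^ n at hn
    rw [Nat.card_zpowers, hz, hn]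
    have hn1 : n ≤ 1 := by
      by_contra h
      exact hG ((pow_dvd_pow k (show 2 ≤ n by omega)).trans (hn ▸ (P : Subgroup G).card_subgroup_dvd_card))
    calc k ^ n ≤ k ^ 1 := Nat.pow_le_pow_right hk.pos hn1
      _ = k := pow_one k
  obtain ⟨P, hP⟩ := hsyl r hor
  obtain ⟨Q, hQ⟩ := hsyl b (by rw [Subgroup.orderOf_coe, hob])
  obtain ⟨c, hc⟩ := MulAction.exists_smul_eq G P Q
  -- conjugation carries the normaliser of the rotations to the normaliser of `b`
  let κ : G ≃* G := MulAut.conj c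
  set M' := M.map κ.toMonoidHom with hM'
  have hM'max : IsCoatom M' := (MulEquiv.mapSubgroup κ).isCoatom_iff M |>.2 hM
  have hQP : Subgroup.zpowers (b : G) = (Subgroup.zpowers r).map κ.toMonoidHom := by
    rw [← hP, ← hQ, ← hc]; rfl
  have hnorm : ∀ m ∈ M, m * r * m⁻¹ ∈ Subgroup.zpowers r := by
    intro m hm
    have e : f ⟨m, hm⟩ * DihedralGroup.r 1 * (f ⟨m, hm⟩)⁻¹ = DihedralGroup.r 1 ∨
        f ⟨m, hm⟩ * DihedralGroup.r 1 * (f ⟨m, hm⟩)⁻¹ = (DihedralGroup.r 1)⁻¹ := by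
      cases f ⟨m, hm⟩ with
      | r i =>
        left; rw [DihedralGroup.r_mul_r, add_comm, ← DihedralGroup.r_mul_r, mul_inv_cancel_right]
      | sr i =>
        right
        rw [DihedralGroup.sr_mul_r, DihedralGroup.inv_sr, DihedralGroup.sr_mul_sr, DihedralGroup.inv_r]
        congr 1; ring
    have e' : (⟨m, hm⟩ : M) * f.symm (DihedralGroup.r 1) * (⟨m, hm⟩ : M)⁻¹ = f.symm (DihedralGroup.r 1) ∨
        (⟨m, hm⟩ : M) * f.symm (DihedralGroup.r 1) * (⟨m, hm⟩ : M)⁻¹ = (f.symm (DihedralGroup.r 1))⁻¹ := by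
      rcases e with e | e
      · left; apply f.injective; simpa using e
      · right; apply f.injective; simpa using e
    rcases e' with e | e
    · have := congrArg Subtype.val e
      simp only [Subgroup.coe_mul, Subgroup.coe_inv] at this
      rw [this]; exact Subgroup.mem_zpowers r
    · have := congrArg Subtype.val e
      simp only [Subgroup.coe_mul, Subgroup.coe_inv] at this
      rw [this]; exact inv_mem (Subgroup.mem_zpowers r)
  set N := Subgroup.normalizer ((Subgroup.zpowers (b : G) : Subgroup G) : Set G) with hN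
  haveI : Finite ((Subgroup.zpowers (b : G) : Subgroup G) : Set G) := inferInstanceAs (Finite (Subgroup.zpowers (b : G)))
  have hmemN : ∀ z : G, z * (b : G) * z⁻¹ ∈ Subgroup.zpowers (b : G) → z ∈ N := by
    intro z hz
    have hle : (Subgroup.zpowers (b : G)).map (MulAut.conj z).toMonoidHom ≤ Subgroup.zpowers (b : G) := by
      rw [MonoidHom.map_zpowers, Subgroup.zpowers_le]
      exact hz
    have heq := Subgroup.eq_of_le_of_card_ge hle (le_of_eq (Subgroup.card_map_of_injective (MulAut.conj z).injective).symm)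
    rw [hN, Subgroup.mem_normalizer_iff]
    refine fun v => ⟨fun hv => hle ⟨v, hv, rfl⟩, fun hv => ?_⟩
    obtain ⟨w, hw, hwe⟩ := heq.ge hv
    exact (MulAut.conj z).injective hwe ▸ hw
  have hM'N : M' ≤ N := by
    rintro _ ⟨m, hm, rfl⟩
    refine hmemN _ ?_
    have hb' : (b : G) ∈ (Subgroup.zpowers r).map κ.toMonoidHom := hQP ▸ Subgroup.mem_zpowers _
    obtain ⟨w, hw, hwe⟩ := hb'
    obtain ⟨i, rfl⟩ := Subgroup.mem_zpowers_iff.1 hw
    rw [hQP, ← hwe]
    refine ⟨m * r ^ i * m⁻¹, ?_, by simp⟩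
    rw [← conj_zpow]
    exact Subgroup.zpow_mem _ (hnorm m hm) i
  have hNtop : N ≠ ⊤ := by
    intro htop
    have hgN : (g : G) * b * (g : G)⁻¹ ∈ Subgroup.zpowers (b : G) :=
      (Subgroup.mem_normalizer_iff.1 (htop ▸ Subgroup.mem_top (g : G) : (g : G) ∈ N) _).1 (Subgroup.mem_zpowers _)
    obtain ⟨i, hi⟩ := Subgroup.mem_zpowers_iff.1 hgN
    refine hg (Subtype.ext ?_)
    simp only [Subgroup.coe_mul, Subgroup.coe_inv]
    rw [← hi, ← _root_.zpow_add_one, ← _root_.zpow_one_add, add_comm]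
  have hNM : N = M' := by
    rcases hM'N.eq_or_lt with e | e
    · exact e.symm
    · exact absurd (hM'max.2 _ e) hNtop
  have haN : (a : G) ∈ N := hmemN _ (by
    have h1 := congrArg Subtype.val hab
    simp only [Subgroup.coe_mul, Subgroup.coe_inv] at h1
    have h2 : (a : G)⁻¹ = a := inv_eq_of_mul_eq_one_right (by simpa using congrArg Subtype.val ha)
    rw [h2, h1]
    exact inv_mem (Subgroup.mem_zpowers _))
  have hbN : (b : G) ∈ N := Subgroup.le_normalizer (Subgroup.mem_zpowers _)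
  have hcard : Nat.card N = 2 * k := by
    rw [hNM, hM', Subgroup.card_map_of_injective κ.injective, Nat.card_congr f.toEquiv, DihedralGroup.nat_card]
  have hle : N ≤ H := by
    have h2k : 2 * k ∣ Nat.card ↥(N ⊓ H) := by
      refine Nat.Coprime.mul_dvd_of_dvd_of_dvd ((Nat.coprime_primes Nat.prime_two hk).2 hk2.symm) ?_ ?_
      · have := orderOf_dvd_natCard (⟨(a : G), haN, a.2⟩ : ↥(N ⊓ H))
        rw [← Subgroup.orderOf_coe] at this
        change orderOf (a : G) ∣ _ at this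
        rwa [Subgroup.orderOf_coe, hoa] at this
      · have := orderOf_dvd_natCard (⟨(b : G), hbN, b.2⟩ : ↥(N ⊓ H))
        rw [← Subgroup.orderOf_coe] at this
        change orderOf (b : G) ∣ _ at this
        rwa [Subgroup.orderOf_coe, hob] at this
    exact inf_eq_left.1 (Subgroup.eq_of_le_of_card_ge inf_le_left (by
      rw [hcard]; exact Nat.le_of_dvd Nat.card_pos h2k))
  rw [hNM] at hle
  rcases hle.eq_or_lt with e | e
  · exact hHc (by rw [← e, ← hNM, hcard])
  · exact hH (hM'max.2 _ e)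

end general

variable {F : Type*} [Field F] [Fintype F]

local notation "KK" => AlgebraicClosure F

theorem isMax_conj {G₀ M : Subgroup (PGL(2, AlgebraicClosure F))} (hM : IsMax G₀ M) {c : PGL(2, KK)}
    (hn : G₀.map (MulAut.conj c).toMonoidHom = G₀) : IsMax G₀ (M.map (MulAut.conj c).toMonoidHom) := by
  have hn' : G₀.map (MulAut.conj c⁻¹).toMonoidHom = G₀ := by
    conv_lhs => rw [← hn]
    exact map_conj_map c G₀
  refine ⟨(Subgroup.map_mono hM.1).trans hn.le, fun h => hM.2.1 ?_, fun L h1 h2 => ?_⟩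
  · rw [← map_conj_map c M, h, hn']
  · have h1' : M ≤ L.map (MulAut.conj c⁻¹).toMonoidHom := by
      have := Subgroup.map_mono (f := (MulAut.conj c⁻¹).toMonoidHom) h1
      rwa [map_conj_map] at this
    have back : (L.map (MulAut.conj c⁻¹).toMonoidHom).map (MulAut.conj c).toMonoidHom = L := by
      have := map_conj_map c⁻¹ L
      rwa [inv_inv] at this
    rcases hM.2.2 _ h1' ((Subgroup.map_mono h2).trans hn'.le) with e | e
    · left; rw [← back, e]
    · right; rw [← back, e, hn]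

theorem exists_prime_sub (p : ℕ) [Fact p.Prime] [CharP F p] :
    ∃ (L : Subfield KK) (n : ℕ), L ≤ (algebraMap F KK).fieldRange ∧ Nat.card L = p ∧
      Fintype.card F = Nat.card L ^ n ∧ 0 < n := by
  obtain ⟨n, hp, hn⟩ := FiniteField.card F p
  obtain ⟨L, hL, hLc⟩ := exists_subfield_root (F := F) p hp.two_le hn
  exact ⟨L, n, hL, hLc, by rw [hLc]; exact hn, n.pos⟩

/-- A small maximal subgroup inside a subfield subgroup forces the subfield to be everything. -/
theorem eq_one_of_small {M : Subgroup (PGL(2, AlgebraicClosure F))} (hM : IsMax (pslF F) M)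
    {L : Subfield KK} (hL : L ≤ (algebraMap F KK).fieldRange) {n : ℕ} (hn : 0 < n)
    (hq : Fintype.card F = Nat.card L ^ n) (hle : M ≤ subPGL L)
    (hsmall : 2 * Nat.card M < Nat.card L * (Nat.card L ^ 2 - 1)) : n = 1 := by
  by_contra hne
  have hM' : M ≤ subPGL L ⊓ pslF F := le_inf hle hM.1
  rcases hM.2.2 _ hM' inf_le_right with e | e
  · rw [← e] at hsmall
    exact absurd (card_psl_sub hL) (not_le.2 hsmall)
  · exact sub_ne_pslF hL (show 2 ≤ n by omega) hq e

/-- Maximal icosahedral subgroups of `PSL₂(F)` live over `F_p` or `F_{p²}`. -/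
theorem icosa_field (p : ℕ) [Fact p.Prime] [CharP F p] (hp2 : p ≠ 2) (hp5 : p ≠ 5)
    (h5 : 5 ∣ Fintype.card F ^ 2 - 1) {M : Subgroup (Matrix.ProjectiveSpecialLinearGroup (Fin 2) F)}
    (hM : IsCoatom M) (e : M ≃* alternatingGroup (Fin 5)) :
    (Fintype.card F = p ∧ (p % 10 = 1 ∨ p % 10 = 9)) ∨
      (Fintype.card F = p ^ 2 ∧ (p % 10 = 3 ∨ p % 10 = 7)) := by
  obtain ⟨n, hp, hn⟩ := FiniteField.card F p
  have hodd : p % 2 = 1 := Nat.odd_iff.1 (hp.eq_two_or_odd'.resolve_left hp2)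
  have hp5' : p % 5 ≠ 0 := fun h => hp5 ((Nat.prime_dvd_prime_iff_eq (by norm_num) hp).1 (Nat.dvd_of_mod_eq_zero h)).symm
  have h2 : (2 : F) ≠ 0 := SL2Two.two_ne_zero' (by rw [hn]; exact (Nat.odd_iff.2 hodd).pow)
  obtain ⟨L, m, hL, hm, hqL, h5L, hL7, hconcl⟩ : ∃ (L : Subfield KK) (m : ℕ),
      L ≤ (algebraMap F KK).fieldRange ∧ 0 < m ∧ Fintype.card F = Nat.card L ^ m ∧
      5 ∣ Nat.card L * (Nat.card L ^ 2 - 1) ∧ 7 ≤ Nat.card L ∧
      (m = 1 → (Fintype.card F = p ∧ (p % 10 = 1 ∨ p % 10 = 9)) ∨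
        (Fintype.card F = p ^ 2 ∧ (p % 10 = 3 ∨ p % 10 = 7))) := by
    by_cases hp1 : p % 5 = 1 ∨ p % 5 = 4
    · obtain ⟨L, k, hL, hLc, hq, hk⟩ := exists_prime_sub (F := F) p
      refine ⟨L, k, hL, hk, hq, ?_, ?_, fun hk1 => Or.inl ⟨by rw [hq, hk1, pow_one, hLc], by omega⟩⟩
      · rw [hLc]
        refine Dvd.dvd.mul_left ?_ _
        have : p ^ 2 % 5 = 1 := by rw [Nat.pow_mod]; rcases hp1 with e | e <;> rw [e]
        have : 1 ≤ p ^ 2 := Nat.one_le_pow _ _ hp.pos
        omega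
      · rw [hLc]
        have := hp.two_le
        rcases hp1 with e | e <;> omega
    · have hp23 : p % 5 = 2 ∨ p % 5 = 3 := by omega
      obtain ⟨k, hk⟩ : Even (n : ℕ) := by
        by_contra hne
        rw [Nat.not_even_iff_odd] at hne
        obtain ⟨j, hj⟩ := hne
        rw [hn, hj, ← pow_mul] at h5
        have e4 : p ^ ((2 * j + 1) * 2) % 5 = 4 := by
          rw [show (2 * j + 1) * 2 = 4 * j + 2 by ring, pow_add, pow_mul, Nat.mul_mod, Nat.pow_mod]
          have h4 : p ^ 4 % 5 = 1 := by rw [Nat.pow_mod]; rcases hp23 with e | e <;> rw [e]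
          have h2' : p ^ 2 % 5 = 4 := by rw [Nat.pow_mod]; rcases hp23 with e | e <;> rw [e]
          simp [h4, h2', one_pow]
        generalize p ^ ((2 * j + 1) * 2) = X at h5 e4
        omega
      have hq : Fintype.card F = (p ^ 2) ^ k := by rw [hn, hk, ← pow_mul]; ring
      obtain ⟨L, hL, hLc⟩ := exists_subfield_root (F := F) p (show 2 ≤ p ^ 2 from le_trans hp.two_le (Nat.le_self_pow two_ne_zero p)) hq
      refine ⟨L, k, hL, by have := n.pos; omega, by rw [hLc]; exact hq, ?_, ?_, fun hk1 => Or.inr ⟨by rw [hq, hk1, pow_one], by omega⟩⟩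
      · rw [hLc, ← pow_mul]
        refine Dvd.dvd.mul_left ?_ _
        have : p ^ (2 * 2) % 5 = 1 := by rw [Nat.pow_mod]; rcases hp23 with e | e <;> rw [e]
        have : 1 ≤ p ^ (2 * 2) := Nat.one_le_pow _ _ hp.pos
        omega
      · rw [hLc]
        have : 3 ≤ p := by have := hp.two_le; omega
        nlinarith
  obtain ⟨hmax, -, hcard, -⟩ := psl_max hM
  obtain ⟨c, hc, hle⟩ := icosa_conj h2 hL h5L M ⟨e⟩
  refine hconcl (eq_one_of_small (isMax_conj hmax (conj_pslF hc)) hL hm hqL hle ?_)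
  have hc' : Nat.card ((M.map emb).map (MulAut.conj c).toMonoidHom) = 60 := by
    rw [Subgroup.card_map_of_injective (MulAut.conj c).injective, hcard, Nat.card_congr e.toEquiv,
      nat_card_alternatingGroup, Nat.card_fin]
    rfl
  rw [hc']
  have h48 : 48 ≤ Nat.card L ^ 2 - 1 := by
    have : 7 ^ 2 ≤ Nat.card L ^ 2 := Nat.pow_le_pow_left hL7 2
    omega
  have := Nat.mul_le_mul hL7 h48
  omega

end Cfsg.Agent.Classical.Dickson
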