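import Cfsg.Agent.Lib.Classical.DicksonStab

/-!
Dickson's orbit count for finite subgroups of `PGL₂` over an algebraically closed field.
-/

set_option autoImplicit false
set_option linter.style.haveILetI false
set_option linter.unusedSectionVars false

open scoped MatrixGroups Pointwise
open Matrix OnePoint

noncomputable section

namespace Cfsg.Agent.Classical.Dickson

variable {K : Type*} [Field K] [DecidableEq K] [IsAlgClosed K]

local notation "P2" => PGL(2, K)
local notation "X2" => OnePoint K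

variable (G : Subgroup (PGL(2, K)))

/-- The points fixed by some non-identity element. -/
def special : Set (OnePoint K) := {x | ∃ g ∈ G, g ≠ 1 ∧ g • x = x}

/-- The orbit of a point. -/
def orb (x : OnePoint K) : Set (OnePoint K) := (fun g => g • x) '' (G : Set (PGL(2, K)))

theorem mem_orb {x y : X2} : y ∈ orb G x ↔ ∃ g ∈ G, g • x = y := Iff.rfl

theorem self_mem_orb (x : X2) : x ∈ orb G x := ⟨1, one_mem G, one_smul _ _⟩

theorem orb_eq_of_mem {x y : X2} (h : y ∈ orb G x) : orb G y = orb G x := by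
  obtain ⟨g, hg, rfl⟩ := h
  ext z
  constructor
  · rintro ⟨k, hk, rfl⟩; exact ⟨k * g, G.mul_mem hk hg, mul_smul _ _ _⟩
  · rintro ⟨k, hk, rfl⟩
    exact ⟨k * g⁻¹, G.mul_mem hk (G.inv_mem hg), by simp [mul_smul]⟩

theorem map_conj_self {g : P2} (hg : g ∈ G) : G.map (MulAut.conj g).toMonoidHom = G := by
  ext x
  constructor
  · rintro ⟨k, hk, rfl⟩; exact G.mul_mem (G.mul_mem hg hk) (G.inv_mem hg)
  · intro hx
    exact ⟨g⁻¹ * x * g, G.mul_mem (G.mul_mem (G.inv_mem hg) hx) hg, by
      show g * (g⁻¹ * x * g) * g⁻¹ = x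
      group⟩

theorem qOf_orb {x y : X2} (h : y ∈ orb G x) : qOf G y = qOf G x := by
  obtain ⟨g, hg, rfl⟩ := h
  unfold qOf
  have := conj_tr G g x
  rw [map_conj_self G hg] at this
  rw [this, Subgroup.card_map_of_injective (MulAut.conj g).injective]

theorem card_st_orb {x y : X2} (h : y ∈ orb G x) : Nat.card (st G y) = Nat.card (st G x) := by
  obtain ⟨g, hg, rfl⟩ := h
  have := conj_st G g x
  rw [map_conj_self G hg] at this
  rw [this, Subgroup.card_map_of_injective (MulAut.conj g).injective]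

theorem eOf_orb {x y : X2} (h : y ∈ orb G x) : eOf G y = eOf G x := by
  have h1 := qOf_orb G h
  unfold qOf at h1
  rw [eOf, eOf, card_st_orb G h, h1]

variable [Finite G]

theorem card_orb_mul (x : X2) : Nat.card (orb G x) * Nat.card (st G x) = Nat.card G := by
  have h := MulAction.index_stabilizer G x
  have h1 : MulAction.orbit G x = orb G x := by
    ext y
    simp only [MulAction.mem_orbit_iff, mem_orb, Subtype.exists]
    exact ⟨fun ⟨a, b, h⟩ => ⟨a, b, h⟩, fun ⟨a, b, h⟩ => ⟨a, b, h⟩⟩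
  have h2 : Nat.card (MulAction.stabilizer G x) = Nat.card (st G x) :=
    Nat.card_congr
      { toFun := fun g => ⟨g.1.1, g.1.2, g.2⟩
        invFun := fun g => ⟨⟨g.1, g.2.1⟩, g.2.2⟩ }
  rw [← h2, Nat.card_coe_set_eq, ← h1, ← h]
  exact Subgroup.index_mul_card _

theorem finite_orb (x : X2) : (orb G x).Finite := (Set.toFinite _).image _

theorem orb_subset_special {x : X2} (hx : x ∈ special G) : orb G x ⊆ special G := by
  rintro y ⟨g, hg, rfl⟩
  obtain ⟨k, hk, hk1, hkx⟩ := hx
  exact ⟨g * k * g⁻¹, G.mul_mem (G.mul_mem hg hk) (G.inv_mem hg), fun e => hk1 (conj_eq_one_iff.1 e),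
    by rw [mul_smul, mul_smul, inv_smul_smul, hkx]⟩

/-- A non-identity element has one fixed point, as a translation, or two. -/
theorem fixed_cases {g : P2} (hg : g ≠ 1) :
    (∃ x : X2, IsTr x g ∧ ∀ y : X2, g • y = y ↔ y = x) ∨
      ∃ x y : X2, x ≠ y ∧ ¬ IsTr x g ∧ ¬ IsTr y g ∧ ∀ z : X2, g • z = z ↔ z = x ∨ z = y := by
  obtain ⟨x, hx⟩ := exists_fixed g
  by_cases h : ∀ y : X2, g • y = y → y = x
  · exact Or.inl ⟨x, ⟨hx, fun y hy => Or.inl (h y hy)⟩, fun y => ⟨h y, fun e => e ▸ hx⟩⟩
  · push Not at h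
    obtain ⟨y, hy, hyx⟩ := h
    refine Or.inr ⟨x, y, hyx.symm, fun ht => (ht.2 y hy).elim hyx hg,
      fun ht => (ht.2 x hx).elim hyx.symm hg, fun z => ⟨fun hz => ?_, ?_⟩⟩
    · by_contra hne
      push Not at hne
      exact hg (eq_one_of_fix_three hyx.symm hne.1.symm hne.2.symm hx hy hz)
    · rintro (rfl | rfl) <;> assumption

theorem finite_fix {g : P2} (hg : g ≠ 1) : {x : X2 | g • x = x}.Finite := by
  rcases fixed_cases hg with ⟨x, -, h⟩ | ⟨x, y, -, -, -, h⟩
  · exact (Set.finite_singleton x).subset fun z hz => (h z).1 hz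
  · exact (Set.toFinite {x, y}).subset fun z hz => (h z).1 hz

theorem finite_special : (special G).Finite := by
  have : special G ⊆ ⋃ g ∈ {g : G | (g : P2) ≠ 1}, {x : X2 | (g : P2) • x = x} := by
    rintro x ⟨g, hg, hg1, hx⟩
    exact Set.mem_biUnion (x := (⟨g, hg⟩ : G)) hg1 hx
  exact (Set.Finite.biUnion (Set.toFinite _) fun g hg => finite_fix hg).subset this

/-- The weight of a point. -/
def wt (x : OnePoint K) : ℤ := (Nat.card (st G x) : ℤ) + qOf G x - 2

/-- The fundamental identity. -/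
theorem sum_wt : ∑ x ∈ (finite_special G).toFinset, wt G x = 2 * (Nat.card G : ℤ) - 2 := by
  classical
  haveI := Fintype.ofFinite G
  set Ω := (finite_special G).toFinset with hΩ
  let N := (Finset.univ : Finset G).filter fun g : G => (g : P2) ≠ 1
  have hN : (N.card : ℤ) = (Nat.card G : ℤ) - 1 := by
    have : N = (Finset.univ : Finset G).erase 1 := by
      ext g; simp [N]
    rw [this, Finset.card_erase_of_mem (Finset.mem_univ _), Finset.card_univ, Nat.card_eq_fintype_card,
      Nat.cast_sub Fintype.card_pos, Nat.cast_one]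
  let c : G → X2 → ℤ := fun g x =>
    (if (g : P2) • x = x then 1 else 0) + (if IsTr x (g : P2) then 1 else 0)
  have hg : ∀ g ∈ N, ∑ x ∈ Ω, c g x = 2 := by
    intro g hg
    have hg1 : (g : P2) ≠ 1 := (Finset.mem_filter.1 hg).2
    have hmem : ∀ x : X2, (g : P2) • x = x → x ∈ Ω := fun x hx => by
      rw [hΩ, Set.Finite.mem_toFinset]; exact ⟨g, g.2, hg1, hx⟩
    rcases fixed_cases hg1 with ⟨x, hx, h⟩ | ⟨x, y, hxy, hx, hy, h⟩
    · rw [Finset.sum_eq_single_of_mem x (hmem x hx.1) (fun z _ hzx => ?_)]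
      · simp [c, hx, hx.1]
      · have h1 : ¬ (g : P2) • z = z := fun e => hzx ((h z).1 e)
        simp [c, h1, show ¬ IsTr z (g : P2) from fun e => h1 e.1]
    · have hsub : ({x, y} : Finset X2) ⊆ Ω := by
        intro z hz
        rcases Finset.mem_insert.1 hz with rfl | hz
        · exact hmem _ ((h _).2 (Or.inl rfl))
        · rw [Finset.mem_singleton.1 hz]; exact hmem _ ((h _).2 (Or.inr rfl))
      rw [← Finset.sum_subset hsub (fun z _ hz => ?_), Finset.sum_pair hxy]
      · simp [c, hx, hy, (h x).2 (Or.inl rfl), (h y).2 (Or.inr rfl)]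
      · have h1 : ¬ (g : P2) • z = z := fun e => hz (by simpa using (h z).1 e)
        simp [c, h1, show ¬ IsTr z (g : P2) from fun e => h1 e.1]
  have hx : ∀ x ∈ Ω, ∑ g ∈ N, c g x = wt G x := by
    intro x _
    have key : ∀ (P : P2 → Prop) (H : Subgroup P2), H ≤ G → (∀ g ∈ G, g ∈ H ↔ P g) →
        ((N.filter fun g : G => P g).card : ℤ) = (Nat.card H : ℤ) - 1 := by
      intro P H hle hP
      have e : (N.filter fun g : G => P g) =
          ((Finset.univ : Finset G).filter fun g : G => P g).erase 1 := by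
        ext g; simp [N, and_comm]
      have h1 : (1 : G) ∈ (Finset.univ : Finset G).filter fun g : G => P g :=
        Finset.mem_filter.2 ⟨Finset.mem_univ _, (hP _ (one_mem G)).1 (one_mem H)⟩
      have hc : ((Finset.univ : Finset G).filter fun g : G => P g).card = Nat.card H := by
        rw [← Fintype.card_subtype, ← Nat.card_eq_fintype_card]
        exact Nat.card_congr
          { toFun := fun g => ⟨g.1.1, (hP _ g.1.2).2 g.2⟩
            invFun := fun g => ⟨⟨g.1, hle g.2⟩, (hP _ (hle g.2)).1 g.2⟩ }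
      haveI : Finite H := Finite.of_injective _ (Subgroup.inclusion_injective hle)
      rw [e, Finset.card_erase_of_mem h1, hc, Nat.cast_sub Nat.card_pos, Nat.cast_one]
    rw [Finset.sum_add_distrib, Finset.sum_boole, Finset.sum_boole,
      key (fun g => g • x = x) (st G x) (st_le G x) (fun g hg => ⟨fun h => h.2, fun h => ⟨hg, h⟩⟩),
      key (fun g => IsTr x g) (tr G x) ((tr_le_st G x).trans (st_le G x))
        (fun g hg => ⟨fun h => h.2, fun h => ⟨hg, h⟩⟩), wt, qOf]
    ring
  rw [← Finset.sum_congr rfl hx, Finset.sum_comm, Finset.sum_congr rfl hg, Finset.sum_const,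
    nsmul_eq_mul, hN]
  ring

/-- The contribution of one orbit. -/
theorem sum_orb_wt (x : X2) :
    ∑ y ∈ (finite_orb G x).toFinset, wt G y =
      (Nat.card G : ℤ) + (Nat.card (orb G x) : ℤ) * ((qOf G x : ℤ) - 2) := by
  rw [Finset.sum_congr rfl (g := fun _ => (Nat.card (st G x) : ℤ) + qOf G x - 2) (fun y hy => by
    rw [Set.Finite.mem_toFinset] at hy
    rw [wt, card_st_orb G hy, qOf_orb G hy]), Finset.sum_const, nsmul_eq_mul,
    ← Set.ncard_eq_toFinset_card _ (finite_orb G x), ← Nat.card_coe_set_eq, ← card_orb_mul G x]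
  push_cast
  ring

theorem card_orb_pos (x : X2) : 0 < Nat.card (orb G x) := by
  haveI := (finite_orb G x).to_subtype
  haveI : Nonempty (orb G x) := ⟨⟨x, self_mem_orb G x⟩⟩
  exact Nat.card_pos

theorem one_lt_card_st {x : X2} (hx : x ∈ special G) : 1 < Nat.card (st G x) := by
  obtain ⟨g, hg, hg1, hgx⟩ := hx
  haveI : Nontrivial (st G x) :=
    ⟨⟨⟨g, hg, hgx⟩, 1, fun e => hg1 (congrArg Subtype.val e)⟩⟩
  exact Finite.one_lt_card

theorem two_mul_card_orb_le {x : X2} (hx : x ∈ special G) : 2 * Nat.card (orb G x) ≤ Nat.card G := by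
  rw [← card_orb_mul G x, mul_comm]
  exact Nat.mul_le_mul_left _ (one_lt_card_st G hx)

/-- A translation group acts semiregularly on the rest of the orbit. -/
theorem card_orb_mod (x : X2) : ∃ j, Nat.card (orb G x) = 1 + qOf G x * j := by
  classical
  let Y := {y : X2 // y ∈ orb G x ∧ y ≠ x}
  letI : MulAction (tr G x) Y :=
    { smul := fun g y => ⟨(g : P2) • y.1, by
        obtain ⟨k, hk, e⟩ := y.2.1
        refine ⟨⟨(g : P2) * k, G.mul_mem g.2.1 hk, ?_⟩, fun h => y.2.2 ?_⟩
        · show ((g : P2) * k) • x = (g : P2) • y.1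
          rw [mul_smul]; exact congrArg _ e
        · exact MulAction.injective (g : P2) (h.trans g.2.2.1.symm)⟩
      one_smul := fun y => Subtype.ext (one_smul P2 y.1)
      mul_smul := fun a b y => Subtype.ext (mul_smul (a : P2) (b : P2) y.1) }
  have hst : ∀ y : Y, MulAction.stabilizer (tr G x) y = ⊥ := fun y =>
    eq_bot_iff.2 fun g hg => Subgroup.mem_bot.2 (Subtype.ext
      ((g.2.2.2 y.1 (congrArg Subtype.val hg)).resolve_left y.2.2))
  have h := Nat.card_congr (MulAction.selfEquivOrbitsQuotientProd hst)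
  rw [Nat.card_prod] at h
  refine ⟨Nat.card (Quotient (MulAction.orbitRel (tr G x) Y)), ?_⟩
  rw [mul_comm, qOf, ← h, Nat.card_coe_set_eq]
  have e : Nat.card Y = (orb G x \ {x}).ncard := Nat.card_coe_set_eq _
  rw [e, Set.ncard_sdiff_singleton_of_mem (self_mem_orb G x)]
  have := card_orb_pos G x
  rw [Nat.card_coe_set_eq] at this
  omega

/-- Summing over a stable set: one orbit and the rest. -/
theorem sum_split {S : Finset X2} (hS : ∀ y ∈ S, orb G y ⊆ ↑S) {x : X2} (hx : x ∈ S) :
    ∃ S' : Finset X2, S' ⊆ S ∧ (∀ y ∈ S', orb G y ⊆ ↑S') ∧ (∀ y ∈ S, y ∈ S' ∨ y ∈ orb G x) ∧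
      ∑ y ∈ S, wt G y =
        (Nat.card G : ℤ) + (Nat.card (orb G x) : ℤ) * ((qOf G x : ℤ) - 2) + ∑ y ∈ S', wt G y := by
  classical
  have hsub : (finite_orb G x).toFinset ⊆ S := fun y hy => hS x hx ((Set.Finite.mem_toFinset _).1 hy)
  refine ⟨S \ (finite_orb G x).toFinset, Finset.sdiff_subset, fun y hy z hz => ?_,
    fun y hy => ?_, ?_⟩
  · rw [Finset.mem_sdiff, Set.Finite.mem_toFinset] at hy
    simp only [Finset.coe_sdiff, Set.mem_sdiff, Finset.mem_coe, Set.Finite.coe_toFinset]
    refine ⟨hS y hy.1 hz, fun h => hy.2 ?_⟩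
    rw [← orb_eq_of_mem G h, orb_eq_of_mem G hz]
    exact self_mem_orb G y
  · by_cases h : y ∈ orb G x
    · exact Or.inr h
    · exact Or.inl (Finset.mem_sdiff.2 ⟨hy, fun e => h ((Set.Finite.mem_toFinset _).1 e)⟩)
  · rw [← sum_orb_wt, add_comm, Finset.sum_sdiff hsub]

theorem wt_pos {x : X2} (hx : x ∈ special G) : 0 < wt G x := by
  have h1 := one_lt_card_st G hx
  have h2 := qOf_pos G x
  unfold wt; omega

/-- The Diophantine solutions. -/
theorem platonic {h oa ob oc ea eb ec : ℕ} (ha : oa * ea = h) (hb : ob * eb = h) (hc : oc * ec = h)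
    (heq : oa + ob + oc = h + 2) (la : 2 * oa ≤ h) (lb : 2 * ob ≤ h) (lc : 2 * oc ≤ h)
    (na : oa ≠ 2) (nb : ob ≠ 2) (nc : oc ≠ 2) :
    (h = 12 ∧ (ea = 2 ∨ ea = 3) ∧ (eb = 2 ∨ eb = 3) ∧ (ec = 2 ∨ ec = 3)) ∨
    (h = 24 ∧ (ea = 2 ∨ ea = 3 ∨ ea = 4) ∧ (eb = 2 ∨ eb = 3 ∨ eb = 4) ∧ (ec = 2 ∨ ec = 3 ∨ ec = 4)) ∨
    (h = 60 ∧ (ea = 2 ∨ ea = 3 ∨ ea = 5) ∧ (eb = 2 ∨ eb = 3 ∨ eb = 5) ∧ (ec = 2 ∨ ec = 3 ∨ ec = 5)) := by
  rcases Nat.eq_zero_or_pos h with h0 | hpos
  · omega
  have bound : ∀ {o e : ℕ}, o * e = h → 2 * o ≤ h → 2 ≤ e := by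
    intro o e he l1
    by_contra hlt
    interval_cases e <;> omega
  -- some exponent is two
  have two : ea = 2 ∨ eb = 2 ∨ ec = 2 := by
    by_contra hno
    push Not at hno
    have h1 : 3 * oa ≤ h := by
      have : 3 ≤ ea := by have := bound ha la; omega
      calc 3 * oa ≤ ea * oa := Nat.mul_le_mul_right _ this
        _ = h := by rw [mul_comm, ha]
    have h2 : 3 * ob ≤ h := by
      have : 3 ≤ eb := by have := bound hb lb; omega
      calc 3 * ob ≤ eb * ob := Nat.mul_le_mul_right _ this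
        _ = h := by rw [mul_comm, hb]
    have h3 : 3 * oc ≤ h := by
      have : 3 ≤ ec := by have := bound hc lc; omega
      calc 3 * oc ≤ ec * oc := Nat.mul_le_mul_right _ this
        _ = h := by rw [mul_comm, hc]
    omega
  have main : ∀ {oa ob oc ea eb ec : ℕ}, oa * ea = h → ob * eb = h → oc * ec = h →
      oa + ob + oc = h + 2 → 2 * ob ≤ h → 2 * oc ≤ h → ob ≠ 2 → oc ≠ 2 → ea = 2 → oc ≤ ob →
      (h = 12 ∧ eb = 3 ∧ ec = 3) ∨ (h = 24 ∧ eb = 3 ∧ ec = 4) ∨ (h = 60 ∧ eb = 3 ∧ ec = 5) := by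
    intro oa ob oc ea eb ec ha hb hc heq lb lc nb nc he hle
    subst he
    have heb : eb = 3 := by
      have h2' : 2 ≤ eb := by
        by_contra hlt
        interval_cases eb <;> omega
      rcases Nat.lt_or_ge eb 4 with h4 | h4
      · interval_cases eb
        · omega
        · rfl
      · exfalso
        have : 4 * ob ≤ h := (Nat.mul_le_mul_right ob h4).trans_eq (by rw [mul_comm, hb])
        omega
    subst heb
    have hlt : ec < 6 := by
      by_contra hge
      have : 6 * oc ≤ h := (Nat.mul_le_mul_right oc (by omega : 6 ≤ ec)).trans_eq (by rw [mul_comm, hc])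
      omega
    interval_cases ec <;> omega
  rcases two with e | e | e
  · rcases le_total oc ob with hle | hle
    · rcases main ha hb hc heq lb lc nb nc e hle with ⟨r, r1, r2⟩ | ⟨r, r1, r2⟩ | ⟨r, r1, r2⟩ <;> omega
    · rcases main ha hc hb (by omega) lc lb nc nb e hle with ⟨r, r1, r2⟩ | ⟨r, r1, r2⟩ | ⟨r, r1, r2⟩ <;> omega
  · rcases le_total oc oa with hle | hle
    · rcases main hb ha hc (by omega) la lc na nc e hle with ⟨r, r1, r2⟩ | ⟨r, r1, r2⟩ | ⟨r, r1, r2⟩ <;> omega
    · rcases main hb hc ha (by omega) lc la nc na e hle with ⟨r, r1, r2⟩ | ⟨r, r1, r2⟩ | ⟨r, r1, r2⟩ <;> omega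
  · rcases le_total ob oa with hle | hle
    · rcases main hc ha hb (by omega) la lb na nb e hle with ⟨r, r1, r2⟩ | ⟨r, r1, r2⟩ | ⟨r, r1, r2⟩ <;> omega
    · rcases main hc hb ha (by omega) lb la nb na e hle with ⟨r, r1, r2⟩ | ⟨r, r1, r2⟩ | ⟨r, r1, r2⟩ <;> omega

/-- The possible shapes of a finite subgroup. -/
theorem shape (h2 : 2 ≤ Nat.card G) :
    (∃ x : X2, st G x = G) ∨
    (∃ x : X2, qOf G x = 1 ∧ Nat.card (orb G x) = 2) ∨
    (∀ g ∈ G, g ≠ 1 → ∃ x : X2, g ∈ st G x ∧ qOf G x = 1 ∧
        (eOf G x = 2 ∨ eOf G x = 3)) ∧ Nat.card G = 12 ∨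
    (∀ g ∈ G, g ≠ 1 → ∃ x : X2, g ∈ st G x ∧ qOf G x = 1 ∧
        (eOf G x = 2 ∨ eOf G x = 3 ∨ eOf G x = 4)) ∧ Nat.card G = 24 ∨
    (∀ g ∈ G, g ≠ 1 → ∃ x : X2, g ∈ st G x ∧
        (qOf G x = 1 ∧ (eOf G x = 2 ∨ eOf G x = 3 ∨ eOf G x = 5) ∨ qOf G x = 3 ∧ eOf G x = 2)) ∧
        Nat.card G = 60 ∨
    (∃ x : X2, 3 ≤ qOf G x ∧ Nat.card (orb G x) = qOf G x + 1 ∧
      (2 * eOf G x = qOf G x - 1 ∨ eOf G x = qOf G x - 1)) := by
  classical
  set h := Nat.card G with hh
  set Ω := (finite_special G).toFinset with hΩ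
  have hΩmem : ∀ y, y ∈ Ω ↔ y ∈ special G := fun y => Set.Finite.mem_toFinset _
  have hΩst : ∀ y ∈ Ω, orb G y ⊆ ↑Ω := fun y hy z hz =>
    (hΩmem z).2 (orb_subset_special G ((hΩmem y).1 hy) hz)
  have hsum := sum_wt G
  rw [← hΩ] at hsum
  have hcover : ∀ g ∈ G, g ≠ 1 → ∃ y ∈ Ω, g ∈ st G y := fun g hg hg1 => by
    obtain ⟨y, hy⟩ := exists_fixed g
    exact ⟨y, (hΩmem y).2 ⟨g, hg, hg1, hy⟩, hg, hy⟩
  have fixedPoint : ∀ x : X2, Nat.card (orb G x) = 1 → st G x = G := fun x hx => by
    refine Subgroup.eq_of_le_of_card_ge (st_le G x) (le_of_eq ?_)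
    rw [← card_orb_mul G x, hx, one_mul]
  have hstmem : ∀ {g : P2} {y z : X2}, g ∈ st G y → y ∈ orb G z →
      qOf G y = qOf G z ∧ eOf G y = eOf G z := fun _ hy => ⟨qOf_orb G hy, eOf_orb G hy⟩
  by_cases hB : ∃ x ∈ Ω, 2 ≤ qOf G x
  · obtain ⟨x, hx, hqx⟩ := hB
    obtain ⟨S', hS'sub, hS'st, hS'cov, hsum'⟩ := sum_split G hΩst hx
    have hox := card_orb_pos G x
    have hom := card_orb_mul G x
    rw [card_st G x] at hom
    set q := qOf G x with hq
    set e := eOf G x with he
    set o := Nat.card (orb G x) with ho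
    have hepos : 0 < e := eOf_pos G x
    obtain ⟨j, hj⟩ := card_orb_mod G x
    rw [← ho, ← hq] at hj
    rcases S'.eq_empty_or_nonempty with hE | ⟨y, hy⟩
    · left
      refine ⟨x, fixedPoint x ?_⟩
      rw [hE, Finset.sum_empty, add_zero] at hsum'
      rw [hsum] at hsum'
      have e1 : h = o * (q - 2) + 2 := by
        zify [hqx]; linarith
      rw [← hh] at hom
      have : o * (q * e - (q - 2)) = 2 := by
        rw [Nat.mul_sub, hom, e1]; omega
      have h3 : 2 ≤ q * e - (q - 2) := by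
        have : q ≤ q * e := Nat.le_mul_of_pos_right q hepos
        omega
      rw [← ho]
      nlinarith
    · obtain ⟨S'', hS''sub, hS''st, hS''cov, hsum''⟩ := sum_split G hS'st hy
      have hyΩ : y ∈ special G := (hΩmem y).1 (hS'sub hy)
      have hoy := card_orb_pos G y
      have hom' := card_orb_mul G y
      rw [card_st G y] at hom'
      have hle' := two_mul_card_orb_le G hyΩ
      set q' := qOf G y with hq'
      set e' := eOf G y with he'
      set o' := Nat.card (orb G y) with ho'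
      rw [hsum''] at hsum'
      rw [hsum] at hsum'
      rw [← hh] at hom hom' hle' hsum'
      have hrest : 0 ≤ ∑ z ∈ S'', wt G z :=
        Finset.sum_nonneg fun z hz => (wt_pos G ((hΩmem z).1 (hS'sub (hS''sub hz)))).le
      have hq'1 : q' = 1 := by
        have h0 := qOf_pos G y
        by_contra hne
        have h2' : (2 : ℤ) ≤ q' := by omega
        have h2'' : (2 : ℤ) ≤ q := by omega
        nlinarith [Int.natCast_nonneg o, Int.natCast_nonneg o']
      have hS''e : S'' = ∅ := by
        rw [Finset.eq_empty_iff_forall_notMem]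
        intro z hz
        obtain ⟨S3, hS3sub, -, -, hsum3⟩ := sum_split G hS''st hz
        have hz' : z ∈ special G := (hΩmem z).1 (hS'sub (hS''sub hz))
        have h3 : 0 ≤ ∑ w ∈ S3, wt G w :=
          Finset.sum_nonneg fun w hw => (wt_pos G ((hΩmem w).1 (hS'sub (hS''sub (hS3sub hw))))).le
        have hlez := two_mul_card_orb_le G hz'
        rw [← hh] at hlez
        have h2'' : (2 : ℤ) ≤ q := by omega
        rw [hsum3, ← hh, hq'1] at hsum'
        rcases Nat.lt_or_ge (qOf G z) 2 with hz2 | hz2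
        · have hz1 : qOf G z = 1 := by have := qOf_pos G z; omega
          rw [hz1] at hsum'
          have : (0 : ℤ) ≤ (o : ℤ) * ((q : ℤ) - 2) := mul_nonneg (Int.natCast_nonneg o) (by omega)
          push_cast at hsum'
          omega
        · have : (0 : ℤ) ≤ (o : ℤ) * ((q : ℤ) - 2) := mul_nonneg (Int.natCast_nonneg o) (by omega)
          have : (0 : ℤ) ≤ (Nat.card (orb G z) : ℤ) * ((qOf G z : ℤ) - 2) :=
            mul_nonneg (Int.natCast_nonneg _) (by omega)
          push_cast at hsum'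
          omega
      rw [hS''e, Finset.sum_empty, add_zero, hq'1] at hsum'
      have e1 : o' = o * (q - 2) + 2 := by
        zify [hqx]; push_cast at hsum'; linarith
      rw [hq'1, one_mul] at hom'
      rcases Nat.eq_zero_or_pos j with hj0 | hjpos
      · left
        exact ⟨x, fixedPoint x (by rw [← ho, hj, hj0, mul_zero, add_zero])⟩
      rcases Nat.lt_or_ge q 3 with hq2 | hq3
      · right; left
        refine ⟨y, hq'1, ?_⟩
        have : q = 2 := by omega
        rw [← ho', e1, this]; simp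
      have hkey : e' * (1 + j * (q - 2)) = (1 + q * j) * e := by
        have : o' = q * (1 + j * (q - 2)) := by
          rw [e1, hj, add_mul, mul_add, mul_one, one_mul, mul_assoc]
          omega
        have h2e : e' * (q * (1 + j * (q - 2))) = (1 + q * j) * (q * e) := by
          rw [← this, ← hj, mul_comm, hom', hom]
        have : q * (e' * (1 + j * (q - 2))) = q * ((1 + q * j) * e) := by
          rw [mul_left_comm, h2e]; ring
        exact Nat.eq_of_mul_eq_mul_left (by omega) this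
      have hdvd : e ∣ q - 1 := by
        rcases eOf_dvd_qOf_pred G x with h' | h'
        · exact h'
        · omega
      have hle : e ≤ q - 1 := Nat.le_of_dvd (by omega) hdvd
      obtain ⟨d, hd⟩ : ∃ d, e' = e + d := by
        refine ⟨e' - e, ?_⟩
        have : e ≤ e' := by
          by_contra hlt
          push Not at hlt
          have h1 : e' * (1 + j * (q - 2)) ≤ e * (1 + j * (q - 2)) := Nat.mul_le_mul_right _ hlt.le
          have h2 : j * (q - 2) < q * j := by
            rw [mul_comm q]; exact Nat.mul_lt_mul_of_pos_left (by omega) hjpos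
          nlinarith
        omega
      have hkey' : d * (1 + j * (q - 2)) = 2 * j * e := by
        rw [hd] at hkey
        obtain ⟨r, hr⟩ : ∃ r, q = r + 2 := ⟨q - 2, by omega⟩
        rw [hr, Nat.add_sub_cancel] at hkey
        rw [hr, Nat.add_sub_cancel]
        linarith
      by_cases hex : q = 3 ∧ d = 3
      · obtain ⟨hq3', hd3⟩ := hex
        rw [hq3', hd3] at hkey'
        norm_num at hkey'
        have he2 : e = 2 := by
          have : e ≤ 2 := by omega
          interval_cases e <;> omega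
        have hj3 : j = 3 := by rw [he2] at hkey'; omega
        have hh60 : h = 60 := by rw [← hom, hj, hq3', hj3, he2]
        have he5 : e' = 5 := by rw [hd, he2, hd3]
        right; right; right; right; left
        refine ⟨fun g hg hg1 => ?_, hh60⟩
        obtain ⟨z, hz, hgz⟩ := hcover g hg hg1
        refine ⟨z, hgz, ?_⟩
        rcases hS'cov z hz with hz' | hz'
        · rcases hS''cov z hz' with hz'' | hz''
          · rw [hS''e] at hz''; exact absurd hz'' (Finset.notMem_empty z)
          · exact Or.inl ⟨(hstmem hgz hz'').1.trans hq'1, Or.inr (Or.inr ((hstmem hgz hz'').2.trans he5))⟩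
        · exact Or.inr ⟨(hstmem hgz hz').1.trans hq3', (hstmem hgz hz').2.trans he2⟩
      right; right; right; right; right
      refine ⟨x, hq3, ?_⟩
      rw [← ho, ← hq, ← he]
      have hdlt : d < 3 := by
        by_contra hge
        push Not at hge
        obtain ⟨r, hr⟩ : ∃ r, q = r + 3 := ⟨q - 3, by omega⟩
        rw [hr, show r + 3 - 2 = r + 1 by omega] at hkey'
        have hle2 : 2 * j * e ≤ 2 * j * (r + 2) := Nat.mul_le_mul_left _ (by omega)
        have h3 : 3 * (1 + j * (r + 1)) ≤ d * (1 + j * (r + 1)) := Nat.mul_le_mul_right _ hge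
        rcases Nat.eq_zero_or_pos r with hr0 | hr0
        · subst hr0
          have : d ≠ 3 := fun e3 => hex ⟨hr, e3⟩
          have h4 : 4 * (1 + j) ≤ d * (1 + j) := Nat.mul_le_mul_right _ (by omega)
          norm_num at hkey' hle2
          nlinarith
        · nlinarith
      obtain ⟨r, hr⟩ : ∃ r, q = r + 2 := ⟨q - 2, by omega⟩
      rw [hr, Nat.add_sub_cancel] at hkey'
      interval_cases d
      · exfalso
        nlinarith
      · -- `d = 1`
        obtain ⟨s, hs⟩ : ∃ s, 2 * e = r + s := by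
          refine ⟨2 * e - r, ?_⟩
          by_contra hlt
          have : 2 * e < r := by omega
          have : j * (2 * e) ≤ j * r := Nat.mul_le_mul_left j (by omega)
          nlinarith
        have hjs : j * s = 1 := by
          have : j * (2 * e) = j * r + j * s := by rw [hs, mul_add]
          linarith
        obtain ⟨hj1, hs1⟩ := mul_eq_one.1 hjs
        refine ⟨by rw [hj, hj1, mul_one]; omega, Or.inl ?_⟩
        omega
      · -- `d = 2`
        obtain ⟨s, hs⟩ : ∃ s, e = r + s := by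
          refine ⟨e - r, ?_⟩
          by_contra hlt
          have : e < r := by omega
          have : j * e ≤ j * r := Nat.mul_le_mul_left j (by omega)
          nlinarith
        have hjs : j * s = 1 := by
          have : j * e = j * r + j * s := by rw [hs, mul_add]
          linarith
        obtain ⟨hj1, hs1⟩ := mul_eq_one.1 hjs
        refine ⟨by rw [hj, hj1, mul_one]; omega, Or.inr ?_⟩
        omega
  · push Not at hB
    have hq1 : ∀ z ∈ Ω, qOf G z = 1 := fun z hz => by
      have := qOf_pos G z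
      have := hB z hz
      omega
    have hne : Ω.Nonempty := by
      rw [Finset.nonempty_iff_ne_empty]
      intro hE
      rw [hE, Finset.sum_empty] at hsum
      omega
    obtain ⟨a, ha⟩ := hne
    obtain ⟨S1, hS1sub, hS1st, hS1cov, hs1⟩ := sum_split G hΩst ha
    rw [hsum, hq1 a ha, ← hh] at hs1
    have hla := two_mul_card_orb_le G ((hΩmem a).1 ha)
    have hoa := card_orb_pos G a
    rw [← hh] at hla
    rcases S1.eq_empty_or_nonempty with hE | ⟨b, hb⟩
    · rw [hE, Finset.sum_empty] at hs1; push_cast at hs1; omega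
    obtain ⟨S2, hS2sub, hS2st, hS2cov, hs2⟩ := sum_split G hS1st hb
    rw [hs2, hq1 b (hS1sub hb), ← hh] at hs1
    have hlb := two_mul_card_orb_le G ((hΩmem b).1 (hS1sub hb))
    have hob := card_orb_pos G b
    rw [← hh] at hlb
    rcases S2.eq_empty_or_nonempty with hE | ⟨c, hc⟩
    · left
      rw [hE, Finset.sum_empty] at hs1
      push_cast at hs1
      exact ⟨a, fixedPoint a (by omega)⟩
    obtain ⟨S3, hS3sub, hS3st, hS3cov, hs3⟩ := sum_split G hS2st hc
    rw [hs3, hq1 c (hS1sub (hS2sub hc)), ← hh] at hs1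
    have hlc := two_mul_card_orb_le G ((hΩmem c).1 (hS1sub (hS2sub hc)))
    have hoc := card_orb_pos G c
    rw [← hh] at hlc
    have hS3e : S3 = ∅ := by
      rw [Finset.eq_empty_iff_forall_notMem]
      intro d hd
      obtain ⟨S4, hS4sub, -, -, hs4⟩ := sum_split G hS3st hd
      have hdΩ := hS1sub (hS2sub (hS3sub hd))
      have hld := two_mul_card_orb_le G ((hΩmem d).1 hdΩ)
      rw [← hh] at hld
      rw [hs4, hq1 d hdΩ, ← hh] at hs1
      have h4 : 0 ≤ ∑ w ∈ S4, wt G w := Finset.sum_nonneg fun w hw =>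
        (wt_pos G ((hΩmem w).1 (hS1sub (hS2sub (hS3sub (hS4sub hw)))))).le
      push_cast at hs1
      omega
    rw [hS3e, Finset.sum_empty] at hs1
    push_cast at hs1
    have heq : Nat.card (orb G a) + Nat.card (orb G b) + Nat.card (orb G c) = h + 2 := by omega
    have hcov3 : ∀ g ∈ G, g ≠ 1 → ∃ z, g ∈ st G z ∧ qOf G z = 1 ∧
        (eOf G z = eOf G a ∨ eOf G z = eOf G b ∨ eOf G z = eOf G c) := by
      intro g hg hg1
      obtain ⟨z, hz, hgz⟩ := hcover g hg hg1
      refine ⟨z, hgz, hq1 z hz, ?_⟩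
      rcases hS1cov z hz with hz1 | hz1
      · rcases hS2cov z hz1 with hz2 | hz2
        · rcases hS3cov z hz2 with hz3 | hz3
          · rw [hS3e] at hz3; exact absurd hz3 (Finset.notMem_empty z)
          · exact Or.inr (Or.inr (eOf_orb G hz3))
        · exact Or.inr (Or.inl (eOf_orb G hz2))
      · exact Or.inl (eOf_orb G hz1)
    have heh : ∀ z, z ∈ Ω → Nat.card (orb G z) * eOf G z = h := fun z hz => by
      have := card_orb_mul G z
      rw [card_st, hq1 z hz, one_mul] at this
      exact this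
    by_cases hd : Nat.card (orb G a) = 2 ∨ Nat.card (orb G b) = 2 ∨ Nat.card (orb G c) = 2
    · right; left
      rcases hd with e | e | e
      · exact ⟨a, hq1 a ha, e⟩
      · exact ⟨b, hq1 b (hS1sub hb), e⟩
      · exact ⟨c, hq1 c (hS1sub (hS2sub hc)), e⟩
    push Not at hd
    have key := platonic (heh a ha) (heh b (hS1sub hb)) (heh c (hS1sub (hS2sub hc))) heq
      (by omega) (by omega) (by omega) hd.1 hd.2.1 hd.2.2
    rcases key with ⟨h12, k1, k2, k3⟩ | ⟨h24, k1, k2, k3⟩ | ⟨h60, k1, k2, k3⟩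
    · right; right; left
      refine ⟨fun g hg hg1 => ?_, h12⟩
      obtain ⟨z, hz, hz1, hz2⟩ := hcov3 g hg hg1
      exact ⟨z, hz, hz1, by rcases hz2 with e | e | e <;> rw [e] <;> assumption⟩
    · right; right; right; left
      refine ⟨fun g hg hg1 => ?_, h24⟩
      obtain ⟨z, hz, hz1, hz2⟩ := hcov3 g hg hg1
      exact ⟨z, hz, hz1, by rcases hz2 with e | e | e <;> rw [e] <;> assumption⟩
    · right; right; right; right; left
      refine ⟨fun g hg hg1 => ?_, h60⟩
      obtain ⟨z, hz, hz1, hz2⟩ := hcov3 g hg hg1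
      exact ⟨z, hz, Or.inl ⟨hz1, by rcases hz2 with e | e | e <;> rw [e] <;> assumption⟩⟩

end Cfsg.Agent.Classical.Dickson
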