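import Cfsg.Agent.Lib.Classical.IcosaClasses
import Cfsg.Agent.Lib.Classical.DicksonExists
import Cfsg.Agent.Lib.Char.Burnside

/-!
Solvable and insolvable subgroups of `PSL₂(F)`.
-/

set_option autoImplicit false
set_option linter.style.haveILetI false
set_option linter.unusedSectionVars false

open scoped MatrixGroups Pointwise Classical commutatorElement
open Matrix OnePoint

noncomputable section

namespace Cfsg.Agent.Classical.Dickson

theorem isSolvable_of_double_comm {G : Type*} [Group G]
    (h : ∀ a b c d : G, ⁅⁅a, b⁆, ⁅c, d⁆⁆ = 1) : Group.IsSolvable G := by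
  rw [isSolvable_def]
  refine ⟨2, ?_⟩
  rw [derivedSeries_succ, Subgroup.commutator_eq_bot_iff_le_centralizer, derivedSeries_one,
    commutator_eq_closure, Subgroup.closure_le]
  rintro _ ⟨a, b, rfl⟩
  rw [SetLike.mem_coe, Subgroup.centralizer_closure, Subgroup.mem_centralizer_iff]
  rintro _ ⟨c, d, rfl⟩
  exact (commutatorElement_eq_one_iff_mul_comm.1 (h c d a b))

theorem dihedral_commutator_rot {n : ℕ} (a b : DihedralGroup n) :
    ∃ i, ⁅a, b⁆ = DihedralGroup.r i := by
  rcases a with i | i <;> rcases b with j | j <;> simp [commutatorElement_def]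
  exact ⟨0, DihedralGroup.one_def⟩

theorem isSolvable_dihedral (n : ℕ) : Group.IsSolvable (DihedralGroup n) := by
  refine isSolvable_of_double_comm fun a b c d => ?_
  obtain ⟨i, hi⟩ := dihedral_commutator_rot a b
  obtain ⟨j, hj⟩ := dihedral_commutator_rot c d
  rw [hi, hj]
  rw [commutatorElement_eq_one_iff_mul_comm, DihedralGroup.r_mul_r, DihedralGroup.r_mul_r, add_comm]

theorem isSolvable_of_card_two_three {G : Type*} [Group G] [Finite G]
    (h : ∃ a b, Nat.card G = 2 ^ a * 3 ^ b) : Group.IsSolvable G :=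
  Cfsg.Agent.Char.solvable_of_card_prime_pow_mul 2 3 Nat.prime_two Nat.prime_three _ _ rfl h

variable {F : Type*} [Field F] [Fintype F]

local notation "KK" => AlgebraicClosure F

theorem isSolvable_fixing {K : Type*} [Field K] [DecidableEq K] (H : Subgroup (PGL(2, K))) {x : OnePoint K}
    (hH : ∀ g ∈ H, g • x = x) : Group.IsSolvable H := by
  refine isSolvable_of_double_comm fun a b c d => Subtype.ext ?_
  exact double_comm (hH _ a.2) (hH _ b.2) (hH _ c.2) (hH _ d.2)

theorem not_isSolvable_psl {L : Type*} [Field L] [Fintype L] (h : 4 ≤ Fintype.card L) :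
    ¬ Group.IsSolvable (Matrix.ProjectiveSpecialLinearGroup (Fin 2) L) := by
  intro hs
  haveI := psl_simple_of_four_le h
  haveI : Finite (Matrix.ProjectiveSpecialLinearGroup (Fin 2) L) := Finite.of_surjective _ SL2Two.proj_surjective
  letI : CommGroup (Matrix.ProjectiveSpecialLinearGroup (Fin 2) L) :=
    { (inferInstance : Group (Matrix.ProjectiveSpecialLinearGroup (Fin 2) L)) with
      mul_comm := IsSimpleGroup.comm_iff_isSolvable.2 hs }
  have hp := IsSimpleGroup.prime_card (α := Matrix.ProjectiveSpecialLinearGroup (Fin 2) L)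
  have hG := SL2.card_PSL2_mul (F := L)
  generalize Nat.card (Matrix.ProjectiveSpecialLinearGroup (Fin 2) L) = N at hp hG
  have hg : Nat.gcd 2 (Fintype.card L - 1) ∣ 2 := Nat.gcd_dvd_left _ _
  have hsq : 15 ≤ Fintype.card L ^ 2 - 1 := by
    have : 16 ≤ Fintype.card L ^ 2 := by nlinarith
    omega
  have hdvd : Fintype.card L ∣ 2 * N := (Dvd.intro _ hG.symm).trans (Nat.mul_dvd_mul_right hg N)
  have hg2 := Nat.le_of_dvd two_pos hg
  rcases Nat.coprime_or_dvd_of_prime hp (Fintype.card L) with hc | hc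
  · have := Nat.le_of_dvd two_pos ((Nat.Coprime.symm hc).dvd_of_dvd_mul_right hdvd)
    omega
  · have h15 : N * 15 ≤ Fintype.card L * (Fintype.card L ^ 2 - 1) :=
      Nat.mul_le_mul (Nat.le_of_dvd (by omega) hc) hsq
    have h2N : Nat.gcd 2 (Fintype.card L - 1) * N ≤ 2 * N := Nat.mul_le_mul_right N hg2
    have := hp.pos
    omega

/-- Proper subgroups of `PSL₂(F)` are solvable, icosahedral or of subfield type. -/
theorem solvable_cases (p : ℕ) [Fact p.Prime] [CharP F p] (hq4 : 4 ≤ Fintype.card F)
    {H : Subgroup (Matrix.ProjectiveSpecialLinearGroup (Fin 2) F)} (hH : H ≠ ⊤) :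
    Group.IsSolvable H ∨ (p ≠ 2 ∧ p ≠ 5 ∧ 5 ∣ Fintype.card F ^ 2 - 1) ∨
    (∃ K₀ : Subfield KK, K₀ ≤ (algebraMap F KK).fieldRange ∧ 4 ≤ Nat.card K₀ ∧
      Nat.card K₀ < Fintype.card F) := by
  haveI : Finite (Matrix.ProjectiveSpecialLinearGroup (Fin 2) F) := Finite.of_surjective _ SL2Two.proj_surjective
  set H' := H.map emb with hH'
  have hle : H' ≤ pslF F := by rintro _ ⟨g, -, rfl⟩; exact ⟨g, rfl⟩
  have e0 : H ≃* H' := H.equivMapOfInjective _ emb_injective
  haveI : Finite H' := Finite.of_equiv _ e0.toEquiv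
  have back : Group.IsSolvable H' → Group.IsSolvable H := fun hs =>
    haveI := hs
    solvable_of_solvable_injective (f := e0.toMonoidHom) e0.injective
  by_cases hne : H' = ⊥
  · left
    refine isSolvable_of_double_comm fun a b c d => ?_
    haveI : Subsingleton H := by
      rw [hH', Subgroup.map_eq_bot_iff_of_injective _ emb_injective] at hne
      subst hne; infer_instance
    exact Subsingleton.elim _ _
  rcases sub_cases p (pslF_le F) le_rfl (ambient_pslF (F := F)) hq4 hle hne with
    ⟨x, -, hx⟩ | ⟨D, k, -, hHD, -, -, ⟨f⟩⟩ | ⟨-, -, ⟨f⟩⟩ | ⟨-, -, ⟨f⟩⟩ | ⟨h2, h5, hd, -⟩ |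
    ⟨K₀, c, -, hK₀, h3, -, hcase⟩
  · left
    have hs : Group.IsSolvable H' := isSolvable_fixing H' (fun g hg => (hx hg).2)
    exact back hs
  · left
    haveI := isSolvable_dihedral k
    have hs : Group.IsSolvable H' :=
      solvable_of_solvable_injective (f := f.toMonoidHom.comp (Subgroup.inclusion hHD))
        (f.injective.comp (Subgroup.inclusion_injective hHD))
    exact back hs
  · left
    refine back (isSolvable_of_card_two_three ⟨2, 1, ?_⟩)
    rw [Nat.card_congr f.toEquiv, nat_card_alternatingGroup, Nat.card_fin]; decide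
  · left
    refine back (isSolvable_of_card_two_three ⟨3, 1, ?_⟩)
    rw [Nat.card_congr f.toEquiv, Nat.card_perm, Nat.card_fin]; decide
  · right; left
    refine ⟨h2, h5, ?_⟩
    have key : Fintype.card F ^ 2 - 1 = (Fintype.card F + 1) * (Fintype.card F - 1) := by
      simpa using Nat.sq_sub_sq (Fintype.card F) 1
    rw [key]
    have hkind := (ambient_pslF (F := F)).kind
    rcases hd with hd | hd
    · refine dvd_mul_of_dvd_right (hd.trans ?_) _
      exact Nat.div_dvd_of_dvd (Nat.gcd_dvd_right _ _)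
    · refine dvd_mul_of_dvd_left (hd.trans ?_) _
      rcases hkind with ⟨-, h⟩ | ⟨-, h⟩
      · exact dvd_of_eq h
      · exact ⟨2, by omega⟩
  · rcases (show Nat.card K₀ = 3 ∨ 4 ≤ Nat.card K₀ by omega) with hK | hK
    · left
      refine back (isSolvable_of_card_two_three ?_)
      rcases hcase with ⟨hc, -⟩ | ⟨-, hc, -⟩ <;> rw [hK] at hc <;> norm_num at hc
      · exact ⟨3, 1, by omega⟩
      · exact ⟨2, 1, by omega⟩
    · right; right
      refine ⟨K₀, hK₀, hK, ?_⟩
      obtain ⟨m, hm0, hm, -⟩ := card_eq_pow hK₀ le_rfl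
      rw [card_fieldRange] at hm
      rcases (show m = 1 ∨ 2 ≤ m by omega) with rfl | hm2
      · exfalso
        rw [pow_one] at hm
        have hG : Nat.card (pslF F) ≤ Nat.card H' := by
          rw [card_pslF]
          have hG := SL2.card_PSL2_mul (F := F)
          rw [← hm] at hcase
          rcases hcase with ⟨hc, -⟩ | ⟨ho, hc, -⟩
          · rw [hc, ← hG]
            exact Nat.le_mul_of_pos_left _ (Nat.gcd_pos_of_pos_left _ (by norm_num))
          · have h2g : Nat.gcd 2 (Fintype.card F - 1) = 2 :=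
              Nat.gcd_eq_left (by obtain ⟨j, hj⟩ := ho; omega)
            rw [h2g] at hG
            omega
        refine hH (Subgroup.map_injective emb_injective ?_)
        rw [← MonoidHom.range_eq_map]
        exact Subgroup.eq_of_le_of_card_ge hle hG
      · rw [hm]
        calc Nat.card K₀ = Nat.card K₀ ^ 1 := (pow_one _).symm
          _ < _ := Nat.pow_lt_pow_right (by omega) (by omega)

theorem exists_insolvable_sub {L : Subfield KK} (hL : L ≤ (algebraMap F KK).fieldRange)
    {m : ℕ} (hm : 2 ≤ m) (hq : Fintype.card F = Nat.card L ^ m) (h4 : 4 ≤ Nat.card L) :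
    ∃ H : Subgroup (Matrix.ProjectiveSpecialLinearGroup (Fin 2) F), H ≠ ⊤ ∧ ¬ Group.IsSolvable H := by
  haveI := finite_of_le hL
  haveI := Fintype.ofFinite L
  refine ⟨(subPGL L ⊓ pslF F).comap emb, fun h => sub_ne_pslF hL hm hq ?_, fun hs => ?_⟩
  · refine le_antisymm inf_le_right ?_
    rintro _ ⟨g, rfl⟩
    have : g ∈ (subPGL L ⊓ pslF F).comap emb := h ▸ Subgroup.mem_top g
    exact this
  · haveI := hs
    have e : ↥((subPGL L ⊓ pslF F).comap emb) ≃* ↥(subPGL L ⊓ pslF F) :=
      ((subPGL L ⊓ pslF F).comap emb).equivMapOfInjective emb emb_injective |>.trans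
        (MulEquiv.subgroupCongr (Subgroup.map_comap_eq_self inf_le_right))
    haveI : Group.IsSolvable ↥(subPGL L ⊓ pslF F) :=
      solvable_of_solvable_injective (f := e.symm.toMonoidHom) e.symm.injective
    refine not_isSolvable_psl (L := L) (by rwa [← Nat.card_eq_fintype_card])
      (solvable_of_solvable_injective
        (f := (Subgroup.inclusion (psl_le_sub hL)).comp (MonoidHom.rangeRestrict _)) ?_)
    intro a b h
    have h' := congrArg Subtype.val h
    exact (map_injective L.subtype).comp
      (ProjectiveSpecialLinearGroup.toPGL_injective (n := Fin 2) (R := L)) h'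

end Cfsg.Agent.Classical.Dickson
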