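import Cfsg.Agent.Lib.Classical.Icosa

/-!
Existence of icosahedral pairs and their conjugacy under `GL₂(F)`.
-/

set_option autoImplicit false
set_option linter.style.haveILetI false
set_option linter.unusedSectionVars false

open scoped MatrixGroups
open Matrix

noncomputable section

namespace Cfsg.Agent.Classical.Icosa

open SL2 SL2Two

variable {F : Type*} [Field F] [Fintype F]

local notation "M2" => Matrix (Fin 2) (Fin 2) F
local notation "S2" => SpecialLinearGroup (Fin 2) F
local notation "P2" => Matrix.ProjectiveSpecialLinearGroup (Fin 2) F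

theorem exists_root (h : 5 ∣ Fintype.card F * (Fintype.card F ^ 2 - 1)) : ∃ t : F, t * t = t + 1 := by
  haveI : Finite P2 := Finite.of_surjective _ proj_surjective
  haveI : Fact (Nat.Prime 5) := ⟨by norm_num⟩
  have hd : 5 ∣ Nat.card P2 := by
    rw [← card_PSL2_mul] at h
    rcases (Nat.Prime.dvd_mul (by norm_num)).1 h with h' | h'
    · have := Nat.le_of_dvd (Nat.gcd_pos_of_pos_left _ two_pos) h'
      have := Nat.gcd_le_left (Fintype.card F - 1) two_pos
      omega
    · exact h'
  obtain ⟨x, hx⟩ := exists_prime_orderOf_dvd_card' 5 hd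
  obtain ⟨g, rfl⟩ := proj_surjective x
  have h1 : (proj g : P2) ≠ 1 := fun e => by rw [e, orderOf_one] at hx; omega
  have h5 := pow_orderOf_eq_one (proj g : P2)
  rw [hx] at h5
  rcases (trace_five_iff h1).1 h5 with e | e
  · exact ⟨_, e⟩
  · exact ⟨-(g : M2).trace, by linear_combination e⟩

theorem exists_isPair {t : F} (ht : t * t = t + 1) : ∃ A B : S2, IsPair A B t := by
  obtain ⟨x, z, hxz⟩ : ∃ x z : F, x * (1 - x) - (z + t) * z = 1 := by
    by_cases h2 : (2 : F) = 0
    · have ht1 : 1 + t ≠ 0 := by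
        intro e
        have : t = 1 := by linear_combination e - h2
        rw [this] at ht
        exact one_ne_zero (show (1 : F) = 0 by linear_combination -ht)
      refine ⟨(1 + t)⁻¹, (1 + t)⁻¹, ?_⟩
      have h' : (1 + t) * (1 + t)⁻¹ = 1 := mul_inv_cancel₀ ht1
      generalize (1 + t)⁻¹ = w at h'
      linear_combination (1 : F) * h' + (-(w * w) - t * w) * h2
    · have hodd : Fintype.card F % 2 = 1 :=
        FiniteField.odd_card_of_char_ne_two fun e => h2 (by simpa [e] using CharP.cast_eq_zero F (ringChar F))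
      obtain ⟨x, z, h⟩ := FiniteField.exists_root_sum_quadratic
        (f := Polynomial.C (1 : F) * Polynomial.X ^ 2 + Polynomial.C (-1) * Polynomial.X + Polynomial.C 1)
        (g := Polynomial.C (1 : F) * Polynomial.X ^ 2 + Polynomial.C t * Polynomial.X + Polynomial.C 0)
        (Polynomial.degree_quadratic one_ne_zero) (Polynomial.degree_quadratic one_ne_zero) hodd
      simp only [Polynomial.eval_add, Polynomial.eval_mul, Polynomial.eval_C, Polynomial.eval_pow,
        Polynomial.eval_X] at h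
      exact ⟨x, z, by linear_combination -h⟩
  refine ⟨⟨!![0, -1; 1, 0], by simp [Matrix.det_fin_two]⟩, ⟨!![x, z + t; z, 1 - x], ?_⟩, ⟨?_, ?_, ?_, ht⟩⟩
  · rw [Matrix.det_fin_two_of]; exact hxz
  · simp [Matrix.trace, Fin.sum_univ_two]
  · simp [Matrix.trace, Fin.sum_univ_two]
  · simp [Matrix.trace, Fin.sum_univ_two, Matrix.mul_apply]

/-- The shape of a pair in a basis adapted to its first member. -/
theorem shape_of_basis {A B : SpecialLinearGroup (Fin 2) F} {t : F} (h : IsPair A B t) (P : GL (Fin 2) F)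
    (hP : (A : M2) * (P : M2) = (P : M2) * !![0, -1; 1, 0]) :
    ∃ α β : F, α * (1 - α) - (β + t) * β = 1 ∧ (B : M2) * (P : M2) = (P : M2) * !![α, β + t; β, 1 - α] := by
  set C : M2 := ((P⁻¹ : GL (Fin 2) F) : M2) * (B : M2) * (P : M2) with hC
  have hA : ((P⁻¹ : GL (Fin 2) F) : M2) * (A : M2) * (P : M2) = !![0, -1; 1, 0] := by
    rw [mul_assoc, hP, ← mul_assoc, Units.inv_mul, one_mul]
  have htC : C.trace = 1 := by
    rw [hC, Matrix.trace_mul_comm, ← mul_assoc, Units.mul_inv, one_mul, h.trB]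
  have htAC : (!![0, -1; 1, 0] * C).trace = t := by
    rw [← hA, hC,
      show ((P⁻¹ : GL (Fin 2) F) : M2) * (A : M2) * (P : M2) * (((P⁻¹ : GL (Fin 2) F) : M2) * (B : M2) * (P : M2)) =
        ((P⁻¹ : GL (Fin 2) F) : M2) * ((A : M2) * ((P : M2) * ((P⁻¹ : GL (Fin 2) F) : M2)) * (B : M2) * (P : M2)) by
        simp only [mul_assoc],
      Units.mul_inv, mul_one, Matrix.trace_mul_comm, mul_assoc, Units.mul_inv, mul_one, h.trAB]
  have hdC : C.det = 1 := by
    rw [hC, Matrix.det_mul, Matrix.det_mul, B.2, mul_one, ← Matrix.det_mul, Units.inv_mul, Matrix.det_one]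
  rw [Matrix.eta_fin_two C] at htC htAC hdC
  simp [Matrix.trace, Fin.sum_univ_two, Matrix.mul_apply] at htC htAC
  rw [Matrix.det_fin_two_of] at hdC
  have h01 : C 0 1 = C 1 0 + t := by linear_combination htAC
  have h11 : C 1 1 = 1 - C 0 0 := by linear_combination htC
  refine ⟨C 0 0, C 1 0, by rw [h01, h11] at hdC; linear_combination hdC, ?_⟩
  rw [← h01, ← h11, ← Matrix.eta_fin_two C, hC, ← mul_assoc, ← mul_assoc, Units.mul_inv, one_mul]

/-- Pairs with the same parameter are conjugate. -/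
theorem exists_conj (h2 : (2 : F) ≠ 0) {A B A' B' : SpecialLinearGroup (Fin 2) F} {t : F}
    (h : IsPair A B t) (h' : IsPair A' B' t) :
    ∃ T : GL (Fin 2) F, (T : M2) * (A : M2) = (A' : M2) * (T : M2) ∧ (T : M2) * (B : M2) = (B' : M2) * (T : M2) := by
  have basis : ∀ (X : SpecialLinearGroup (Fin 2) F) (v : Fin 2 → F), (X : M2) * (X : M2) = -1 →
      v 0 * ((X : M2) *ᵥ v) 1 - ((X : M2) *ᵥ v) 0 * v 1 ≠ 0 →
      ∃ P : GL (Fin 2) F, (P : M2) = !![v 0, ((X : M2) *ᵥ v) 0; v 1, ((X : M2) *ᵥ v) 1] ∧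
        (X : M2) * (P : M2) = (P : M2) * !![0, -1; 1, 0] := by
    intro X v hX hd
    refine ⟨GeneralLinearGroup.mkOfDetNeZero _ (by rw [Matrix.det_fin_two_of]; exact hd), rfl, ?_⟩
    have e0 : ((X : M2) * (X : M2)) *ᵥ v = -v := by rw [hX, Matrix.neg_mulVec, Matrix.one_mulVec]
    rw [← Matrix.mulVec_mulVec] at e0
    have e00 := congrFun e0 0
    have e01 := congrFun e0 1
    simp [Matrix.mulVec, dotProduct, Fin.sum_univ_two] at e00 e01
    show (X : M2) * !![v 0, ((X : M2) *ᵥ v) 0; v 1, ((X : M2) *ᵥ v) 1] =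
      !![v 0, ((X : M2) *ᵥ v) 0; v 1, ((X : M2) *ᵥ v) 1] * !![0, -1; 1, 0]
    ext i j
    fin_cases i <;> fin_cases j <;>
      simp [Matrix.mul_apply, Matrix.mulVec, dotProduct, Fin.sum_univ_two] <;>
      first | linear_combination e00 | linear_combination e01 | ring
  obtain ⟨hAA, -, -, -⟩ := h.relations
  obtain ⟨hAA', hBB', hBA', -⟩ := h'.relations
  -- a vector which is not an eigenvector of `A`
  obtain ⟨v, hv⟩ : ∃ v : Fin 2 → F, v 0 * ((A : M2) *ᵥ v) 1 - ((A : M2) *ᵥ v) 0 * v 1 ≠ 0 := by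
    by_contra hc
    push Not at hc
    have h1 := hc ![1, 0]
    have h2' := hc ![0, 1]
    have h3 := hc ![1, 1]
    simp [Matrix.mulVec, dotProduct, Fin.sum_univ_two] at h1 h2' h3
    have hd := A.2
    rw [Matrix.det_fin_two, h1, h2', mul_zero, sub_zero] at hd
    have htr := h.trA
    simp [Matrix.trace, Fin.sum_univ_two] at htr
    rw [h1, h2'] at h3
    have h00 : (2 : F) * (A : M2) 0 0 = 0 := by linear_combination htr - h3
    rw [(mul_eq_zero.1 h00).resolve_left h2, zero_mul] at hd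
    exact zero_ne_one hd
  obtain ⟨P, -, hP⟩ := basis A v hAA hv
  obtain ⟨α, β, hrel, hPB⟩ := shape_of_basis h P hP
  -- the matching vector for the second pair
  set M : M2 := (B' : M2) - α • (1 : M2) - β • (A' : M2) with hM
  have hMdet : M.det = 0 := by
    have ha := h'.trA
    have hb := h'.trB
    have hab := h'.trAB
    have hda := A'.2
    have hdb := B'.2
    rw [Matrix.det_fin_two] at hda hdb
    simp [Matrix.trace, Fin.sum_univ_two, Matrix.mul_apply] at ha hb hab
    rw [hM, Matrix.det_fin_two]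
    simp
    linear_combination hdb + β ^ 2 * hda - α * hb + β * hab - hrel + (α * β) * ha -
      β * ((B' : M2) 0 0 + (B' : M2) 1 1) * ha
  obtain ⟨w, hw0, hw⟩ := Matrix.exists_mulVec_eq_zero_iff.2 hMdet
  have hBw : (B' : M2) *ᵥ w = α • w + β • ((A' : M2) *ᵥ w) := by
    rw [hM, Matrix.sub_mulVec, Matrix.sub_mulVec, Matrix.smul_mulVec, Matrix.smul_mulVec,
      Matrix.one_mulVec] at hw
    linear_combination (norm := module) hw
  have hw' : w 0 * ((A' : M2) *ᵥ w) 1 - ((A' : M2) *ᵥ w) 0 * w 1 ≠ 0 := by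
    intro hd
    obtain ⟨c, hc⟩ : ∃ c : F, (A' : M2) *ᵥ w = c • w := by
      by_cases hz : w 0 = 0
      · have hz1 : w 1 ≠ 0 := fun e => hw0 (funext fun i => by fin_cases i <;> assumption)
        refine ⟨((A' : M2) *ᵥ w) 1 / w 1, funext fun i => ?_⟩
        fin_cases i
        · rw [hz, zero_mul, zero_sub, neg_eq_zero, mul_eq_zero] at hd
          simp [hz, hd.resolve_right hz1]
        · simp [div_mul_cancel₀ _ hz1]
      · refine ⟨((A' : M2) *ᵥ w) 0 / w 0, funext fun i => ?_⟩
        fin_cases i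
        · simp [div_mul_cancel₀ _ hz]
        · simp only [Fin.mk_one, Pi.smul_apply, smul_eq_mul]
          field_simp
          linear_combination hd
    set b := α + β * c with hb
    have hBw' : (B' : M2) *ᵥ w = b • w := by rw [hBw, hc, smul_smul, hb, add_smul]
    have scal : ∀ {x y : F}, x • w = y • w → x = y := fun e =>
      smul_left_injective F hw0 e
    have hcc : c * c = -1 := scal (by
      rw [← smul_smul, ← hc, ← Matrix.mulVec_smul, ← hc, Matrix.mulVec_mulVec, hAA',
        Matrix.neg_mulVec, Matrix.one_mulVec, neg_smul, one_smul])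
    have hbb : b * b = b - 1 := scal (by
      rw [← smul_smul, ← hBw', ← Matrix.mulVec_smul, ← hBw', Matrix.mulVec_mulVec, hBB',
        Matrix.sub_mulVec, Matrix.one_mulVec, hBw', sub_smul, one_smul])
    have hcb : c * b = c + t - b * c := scal (by
      have e := congrArg (· *ᵥ w) hBA'
      simp only [Matrix.sub_mulVec, Matrix.add_mulVec, Matrix.smul_mulVec, Matrix.one_mulVec,
        ← Matrix.mulVec_mulVec, hc, hBw', Matrix.mulVec_smul] at e
      linear_combination (norm := module) e)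
    have h3 : t * t = 3 := by
      linear_combination (-(t + (2 * b - 1) * c)) * hcb + (2 * b - 1) ^ 2 * hcc - 4 * hbb
    have ht2 : t = 2 := by linear_combination h3 - h'.ht
    rw [ht2] at h3
    exact one_ne_zero (show (1 : F) = 0 by linear_combination h3)
  obtain ⟨P', hPe, hP'⟩ := basis A' w hAA' hw'
  obtain ⟨α', β', -, hPB'⟩ := shape_of_basis h' P' hP'
  have hfirst : (B' : M2) * (P' : M2) = (P' : M2) * !![α, β + t; β, 1 - α] := by
    have hz : α' = α ∧ β' = β := by
      have e : ((P' : M2) * !![α', β' + t; β', 1 - α']) *ᵥ ![1, 0] = ((P' : M2)) *ᵥ ![α, β] := by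
        rw [← hPB', ← Matrix.mulVec_mulVec, hPe]
        have e1 : (!![w 0, ((A' : M2) *ᵥ w) 0; w 1, ((A' : M2) *ᵥ w) 1] : M2) *ᵥ ![1, 0] = w := by
          funext i; fin_cases i <;> simp [Matrix.mulVec, dotProduct, Fin.sum_univ_two]
        rw [e1, hBw]
        funext i
        fin_cases i <;> simp [Matrix.mulVec, dotProduct, Fin.sum_univ_two] <;> ring
      rw [← Matrix.mulVec_mulVec] at e
      have e2 := congrArg (((P'⁻¹ : GL (Fin 2) F) : M2) *ᵥ ·) e
      simp only [Matrix.mulVec_mulVec, Units.inv_mul, Matrix.one_mulVec] at e2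
      rw [← mul_assoc, Units.inv_mul, one_mul] at e2
      have e20 := congrFun e2 0
      have e21 := congrFun e2 1
      simp [Matrix.mulVec, dotProduct, Fin.sum_univ_two] at e20 e21
      exact ⟨e20, e21⟩
    rw [hPB', hz.1, hz.2]
  refine ⟨P' * P⁻¹, ?_, ?_⟩
  · have e : ((P⁻¹ : GL (Fin 2) F) : M2) * (A : M2) = !![0, -1; 1, 0] * ((P⁻¹ : GL (Fin 2) F) : M2) := by
      calc ((P⁻¹ : GL (Fin 2) F) : M2) * (A : M2)
          = ((P⁻¹ : GL (Fin 2) F) : M2) * ((A : M2) * (P : M2)) * ((P⁻¹ : GL (Fin 2) F) : M2) := by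
            simp only [mul_assoc, Units.mul_inv, mul_one]
        _ = _ := by rw [hP, ← mul_assoc, Units.inv_mul, one_mul]
    rw [Units.val_mul, mul_assoc, e, ← mul_assoc, ← hP', mul_assoc]
  · have e : ((P⁻¹ : GL (Fin 2) F) : M2) * (B : M2) = !![α, β + t; β, 1 - α] * ((P⁻¹ : GL (Fin 2) F) : M2) := by
      calc ((P⁻¹ : GL (Fin 2) F) : M2) * (B : M2)
          = ((P⁻¹ : GL (Fin 2) F) : M2) * ((B : M2) * (P : M2)) * ((P⁻¹ : GL (Fin 2) F) : M2) := by
            simp only [mul_assoc, Units.mul_inv, mul_one]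
        _ = _ := by rw [hPB, ← mul_assoc, Units.inv_mul, one_mul]
    rw [Units.val_mul, mul_assoc, e, ← mul_assoc, ← hfirst, mul_assoc]

end Cfsg.Agent.Classical.Icosa
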