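import Cfsg.Agent.Lib.Classical.DicksonExists
import Cfsg.Agent.Lib.Classical.IcosaConj
import Cfsg.Agent.Lib.Classical.SL2Char2

/-!
The tetrahedral, octahedral and icosahedral subgroups of `PSL₂(F)` are defined over small subfields.
-/

set_option autoImplicit false
set_option linter.style.haveILetI false
set_option linter.unusedSectionVars false
set_option maxRecDepth 20000

open scoped MatrixGroups Pointwise Classical commutatorElement
open Matrix OnePoint

noncomputable section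

namespace Cfsg.Agent.Classical.Dickson

/-- Facts about the alternating and symmetric groups of small degree. -/
theorem alt_five_gens : ∃ a b : alternatingGroup (Fin 5),
    a ^ 2 = 1 ∧ a ≠ 1 ∧ b ^ 3 = 1 ∧ b ≠ 1 ∧ (a * b) ^ 5 = 1 ∧ a * b ≠ 1 ∧ ⁅⁅a, b⁆, ⁅a, b * b⁆⁆ ≠ 1 :=
  ⟨⟨Equiv.swap 0 1 * Equiv.swap 2 3, Equiv.Perm.mem_alternatingGroup.2 (by decide)⟩,
    ⟨Equiv.swap 0 4 * Equiv.swap 0 2, Equiv.Perm.mem_alternatingGroup.2 (by decide)⟩, by decide⟩

theorem perm_four_gens : ∃ a b : Equiv.Perm (Fin 4),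
    a ^ 2 = 1 ∧ b ^ 3 = 1 ∧ b ≠ 1 ∧ (a * b) ^ 4 = 1 ∧ (a * b) ^ 2 ≠ 1 ∧ a * b ≠ b * a ∧
      ⁅⁅a, b⁆, ⁅a, (Equiv.swap 0 3 * Equiv.swap 0 1 : Equiv.Perm (Fin 4))⁆⁆ ≠ 1 :=
  ⟨Equiv.swap 0 1, Equiv.swap 1 2 * Equiv.swap 2 3, by decide⟩

theorem alt_four_gens : ∃ a b c : alternatingGroup (Fin 4),
    a ^ 2 = 1 ∧ a ≠ 1 ∧ c ^ 2 = 1 ∧ c ≠ 1 ∧ a * c = c * a ∧ a ≠ c ∧ b ^ 3 = 1 ∧ b ≠ 1 ∧
      (a * b) ^ 2 ≠ 1 ∧ a * b ≠ b * a :=
  ⟨⟨Equiv.swap 0 1 * Equiv.swap 2 3, Equiv.Perm.mem_alternatingGroup.2 (by decide)⟩,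
    ⟨Equiv.swap 0 2 * Equiv.swap 0 1, Equiv.Perm.mem_alternatingGroup.2 (by decide)⟩,
    ⟨Equiv.swap 0 2 * Equiv.swap 1 3, Equiv.Perm.mem_alternatingGroup.2 (by decide)⟩, by decide⟩

theorem perm_four_klein : ∃ a c : Equiv.Perm (Fin 4), a * a = 1 ∧ a ≠ 1 ∧ c * c = 1 ∧ c ≠ 1 ∧
    a * c = c * a ∧ a ≠ c ∧ (∃ r, a = r * r) ∧ (∃ r, c = r * r) ∧
    ∀ g, g * a * g⁻¹ ∈ [a, c, a * c] ∧ g * c * g⁻¹ ∈ [a, c, a * c] :=
  ⟨Equiv.swap 0 1 * Equiv.swap 2 3, Equiv.swap 0 2 * Equiv.swap 1 3, by decide⟩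

theorem alt_four_klein : ∃ a c : alternatingGroup (Fin 4), a * a = 1 ∧ a ≠ 1 ∧ c * c = 1 ∧ c ≠ 1 ∧
    a * c = c * a ∧ a ≠ c ∧
    ∀ g, g * a * g⁻¹ ∈ [a, c, a * c] ∧ g * c * g⁻¹ ∈ [a, c, a * c] :=
  ⟨⟨Equiv.swap 0 1 * Equiv.swap 2 3, Equiv.Perm.mem_alternatingGroup.2 (by decide)⟩,
    ⟨Equiv.swap 0 2 * Equiv.swap 1 3, Equiv.Perm.mem_alternatingGroup.2 (by decide)⟩, by decide⟩

/-- Two commuting involutions generate a Klein four group, normalised by whatever permutes them. -/
theorem exists_klein {G : Type*} [Group G] {a c : G} (ha : a * a = 1) (ha1 : a ≠ 1) (hc : c * c = 1)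
    (hc1 : c ≠ 1) (hac : a * c = c * a) (hne : a ≠ c) :
    ∃ V : Subgroup G, IsKleinFour V ∧ (∀ v, v ∈ V ↔ v = 1 ∨ v = a ∨ v = c ∨ v = a * c) ∧
      ∀ g : G, g * a * g⁻¹ ∈ [a, c, a * c] → g * c * g⁻¹ ∈ [a, c, a * c] →
        g ∈ Subgroup.normalizer (V : Set G) := by
  have hai : a⁻¹ = a := inv_eq_of_mul_eq_one_right ha
  have hci : c⁻¹ = c := inv_eq_of_mul_eq_one_right hc
  let V : Subgroup G :=
    { carrier := {v | v = 1 ∨ v = a ∨ v = c ∨ v = a * c}
      one_mem' := Or.inl rfl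
      mul_mem' := by
        have e1 : a * (a * c) = c := by rw [← mul_assoc, ha, one_mul]
        have e2 : c * (a * c) = a := by rw [hac, ← mul_assoc, hc, one_mul]
        rintro x y (rfl | rfl | rfl | rfl) (rfl | rfl | rfl | rfl) <;>
          simp [ha, hc, e1, e2, ← hac, mul_assoc]
      inv_mem' := by
        rintro x (rfl | rfl | rfl | rfl) <;> simp [hai, hci, ← hac] }
  have hmem : ∀ v, v ∈ V ↔ v = 1 ∨ v = a ∨ v = c ∨ v = a * c := fun v => Iff.rfl
  have hset : (V : Set G) = ↑({1, a, c, a * c} : Finset G) := by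
    ext v; simp [hmem v, SetLike.mem_coe]
  have h4 : Nat.card V = 4 := by
    change Nat.card (V : Set G) = 4
    rw [hset, Nat.card_coe_set_eq, Set.ncard_coe_finset]
    have n1 : a * c ≠ 1 := fun e => hne ((eq_inv_of_mul_eq_one_left e).trans hci)
    have n2 : a * c ≠ a := fun e => hc1 (mul_eq_left.1 e)
    have n3 : a * c ≠ c := fun e => ha1 (mul_eq_right.1 e)
    rw [Finset.card_insert_of_notMem, Finset.card_insert_of_notMem, Finset.card_insert_of_notMem,
      Finset.card_singleton] <;> simp [ha1.symm, hc1.symm, n1.symm, n2.symm, n3.symm, hne]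
  haveI : Finite V := Nat.finite_of_card_ne_zero (by omega)
  have hsq : ∀ v : V, v ^ 2 = 1 := by
    rintro ⟨v, hv⟩
    refine Subtype.ext ?_
    show v ^ 2 = 1
    rw [pow_two]
    rcases (hmem v).1 hv with rfl | rfl | rfl | rfl
    · exact one_mul 1
    · exact ha
    · exact hc
    · rw [mul_assoc, ← mul_assoc c, ← hac, mul_assoc, hc, mul_one, ha]
  have hexp : Monoid.exponent V = 2 := by
    haveI : Fact (Nat.Prime 2) := ⟨Nat.prime_two⟩
    haveI : Nontrivial V := Finite.one_lt_card_iff_nontrivial.1 (by omega)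
    exact (Monoid.exponent_eq_prime_iff Nat.prime_two).2 fun v hv => orderOf_eq_prime (hsq v) hv
  refine ⟨V, ⟨h4, hexp⟩, hmem, fun g h1 h2 => ?_⟩
  haveI : Finite (V : Set G) := inferInstanceAs (Finite V)
  have hm : ∀ {y}, y ∈ [a, c, a * c] → y ∈ V := fun {y} hy => by
    simp only [List.mem_cons, List.not_mem_nil, or_false] at hy
    exact (hmem y).2 (Or.inr hy)
  have hle : V.map (MulAut.conj g).toMonoidHom ≤ V := by
    rintro _ ⟨v, hv, rfl⟩
    show g * v * g⁻¹ ∈ V
    rcases (hmem v).1 hv with rfl | rfl | rfl | rfl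
    · rw [mul_one, mul_inv_cancel]; exact V.one_mem
    · exact hm h1
    · exact hm h2
    · rw [show g * (a * c) * g⁻¹ = g * a * g⁻¹ * (g * c * g⁻¹) by group]
      exact V.mul_mem (hm h1) (hm h2)
  have heq : V.map (MulAut.conj g).toMonoidHom = V := Subgroup.eq_of_le_of_card_ge hle (by
    rw [Subgroup.card_map_of_injective (MulAut.conj g).injective])
  rw [Subgroup.mem_normalizer_iff]
  intro v
  constructor
  · intro hv
    exact hle ⟨v, hv, rfl⟩
  · intro hv
    have h' : g * v * g⁻¹ ∈ V.map (MulAut.conj g).toMonoidHom := heq.symm ▸ hv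
    obtain ⟨w, hw, hwe⟩ := h'
    have : w = v := (MulAut.conj g).injective hwe
    exact this ▸ hw

variable {F : Type*} [Field F] [Fintype F]

local notation "KK" => AlgebraicClosure F

theorem emb_proj (A : SpecialLinearGroup (Fin 2) F) :
    emb (SL2Two.proj A) = ProjGenLinGroup.map (algebraMap F KK) (ProjGenLinGroup.mk
      (SpecialLinearGroup.toGL A)) := by
  show ProjGenLinGroup.map (algebraMap F KK) (ProjectiveSpecialLinearGroup.toPGL (SL2Two.proj A)) = _
  rfl

/-- Intertwining matrices conjugate the images in `PGL₂`. -/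
theorem conj_emb {A A' : SpecialLinearGroup (Fin 2) F} (T : GL (Fin 2) F)
    (h : (T : Matrix (Fin 2) (Fin 2) F) * (A : Matrix (Fin 2) (Fin 2) F) =
      (A' : Matrix (Fin 2) (Fin 2) F) * (T : Matrix (Fin 2) (Fin 2) F)) :
    MulAut.conj (ProjGenLinGroup.map (algebraMap F KK) (ProjGenLinGroup.mk T)) (emb (SL2Two.proj A)) =
      emb (SL2Two.proj A') := by
  rw [MulAut.conj_apply, mul_inv_eq_iff_eq_mul, emb_proj, emb_proj, ← map_mul, ← map_mul, ← map_mul,
    ← map_mul]
  congr 2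
  exact Units.ext h

section klein

/-- A trace zero element anticommuting with `g0`. -/
theorem shape_anti {h : SpecialLinearGroup (Fin 2) F} (h2 : (2 : F) ≠ 0)
    (hc : h * SL2Two.g0 = SL2Two.g0 * SL2Two.negOne * h) :
    ∃ a b : F, (h : Matrix (Fin 2) (Fin 2) F) = !![a, b; b, -a] ∧ a * a + b * b = -1 := by
  have e := congrArg (fun x : SpecialLinearGroup (Fin 2) F => (x : Matrix (Fin 2) (Fin 2) F)) hc
  simp only [SL2.coe_mul', SL2Two.coe_negOne, mul_neg, mul_one, neg_mul] at e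
  have hd := h.2
  rw [Matrix.det_fin_two] at hd
  have e00 := congrFun (congrFun e 0) 0
  have e01 := congrFun (congrFun e 0) 1
  simp [SL2Two.g0, Matrix.mul_apply, Fin.sum_univ_two, Matrix.vecMul, dotProduct] at e00 e01
  refine ⟨(h : Matrix (Fin 2) (Fin 2) F) 0 0, (h : Matrix (Fin 2) (Fin 2) F) 0 1, ?_, ?_⟩
  · ext i j
    fin_cases i <;> fin_cases j <;> simp <;> first | linear_combination e00 | linear_combination e01 | linear_combination -e00 | linear_combination -e01
  · have h10 : (h : Matrix (Fin 2) (Fin 2) F) 1 0 = (h : Matrix (Fin 2) (Fin 2) F) 0 1 := by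
      first | linear_combination e00 | linear_combination -e00
    have h11 : (h : Matrix (Fin 2) (Fin 2) F) 1 1 = -(h : Matrix (Fin 2) (Fin 2) F) 0 0 := by
      first | linear_combination e01 | linear_combination -e01
    rw [h10, h11] at hd
    linear_combination -hd

/-- All Klein four subgroups of `PSL₂(F)` are conjugate in `PGL₂(F)`. -/
theorem klein_conj (h2 : (2 : F) ≠ 0) (V W : Subgroup (Matrix.ProjectiveSpecialLinearGroup (Fin 2) F))
    (hV : IsKleinFour V) (hW : IsKleinFour W) :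
    ∃ c ∈ pglF F, (V.map emb).map (MulAut.conj c).toMonoidHom = W.map emb := by
  obtain ⟨g, h, hg, hh, hhg, hV'⟩ := SL2Two.exists_lift h2 V hV
  obtain ⟨g', h', hg', hh', hhg', hW'⟩ := SL2Two.exists_lift h2 W hW
  -- a matrix intertwining the two pairs
  obtain ⟨x, hx⟩ := SL2Two.conj_g0 h2 g hg
  obtain ⟨y, hy⟩ := SL2Two.conj_g0 h2 g' hg'
  have anti : ∀ (x g h : SpecialLinearGroup (Fin 2) F), x * SL2Two.g0 * x⁻¹ = g →
      h * g = g * SL2Two.negOne * h →
      x⁻¹ * h * x * SL2Two.g0 = SL2Two.g0 * SL2Two.negOne * (x⁻¹ * h * x) := by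
    intro x g h hx hh
    calc x⁻¹ * h * x * SL2Two.g0 = x⁻¹ * (h * g) * x := by rw [← hx]; group
      _ = x⁻¹ * (g * SL2Two.negOne * h) * x := by rw [hh]
      _ = SL2Two.g0 * (x⁻¹ * SL2Two.negOne * x) * (x⁻¹ * h * x) := by rw [← hx]; group
      _ = _ := by rw [mul_assoc x⁻¹ SL2Two.negOne x, SL2Two.negOne_comm h2, ← mul_assoc x⁻¹, inv_mul_cancel, one_mul]
  obtain ⟨a, b, hh₁, hab⟩ := shape_anti h2 (anti x g h hx hhg)
  obtain ⟨a', b', hh₁', hab'⟩ := shape_anti h2 (anti y g' h' hy hhg')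
  obtain ⟨u, v, huv, hi1, hi2⟩ : ∃ u v : F, u * u + v * v ≠ 0 ∧
      u * a - v * b = u * a' + v * b' ∧ v * a + u * b = u * b' - v * a' := by
    set N := a * a' + b * b' with hN
    set v := a' * b - b' * a with hv
    by_cases hd : (1 - N) * (1 - N) + v * v ≠ 0
    · refine ⟨1 - N, v, hd, ?_, ?_⟩
      · rw [hN, hv]; linear_combination (-a') * hab + a * hab'
      · rw [hN, hv]; linear_combination (-b') * hab + b * hab'
    · push Not at hd
      have e1 : N * N + v * v = 1 := by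
        rw [hN, hv]; linear_combination (a' * a' + b' * b') * hab - hab'
      have hN1 : N = 1 := mul_left_cancel₀ h2 (by linear_combination e1 - hd)
      have hv0 : v = 0 := mul_self_eq_zero.1 (by rw [hN1] at e1; linear_combination e1)
      refine ⟨0, 1, by norm_num, ?_, ?_⟩
      · rw [hN] at hN1; rw [hv] at hv0
        linear_combination (-b') * hab + b * hN1 - a * hv0
      · rw [hN] at hN1; rw [hv] at hv0
        linear_combination a' * hab - a * hN1 - b * hv0
  let T₀ : GL (Fin 2) F := GeneralLinearGroup.mkOfDetNeZero !![u, -v; v, u] (by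
    rw [Matrix.det_fin_two_of]; intro e; exact huv (by linear_combination e))
  let T : GL (Fin 2) F := SpecialLinearGroup.toGL y * T₀ * (SpecialLinearGroup.toGL x)⁻¹
  have key : ∀ (k k' : SpecialLinearGroup (Fin 2) F),
      (!![u, -v; v, u] : Matrix (Fin 2) (Fin 2) F) * ((x⁻¹ * k * x : SpecialLinearGroup (Fin 2) F) : Matrix (Fin 2) (Fin 2) F) =
        ((y⁻¹ * k' * y : SpecialLinearGroup (Fin 2) F) : Matrix (Fin 2) (Fin 2) F) * !![u, -v; v, u] →
      (T : Matrix (Fin 2) (Fin 2) F) * (k : Matrix (Fin 2) (Fin 2) F) =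
        (k' : Matrix (Fin 2) (Fin 2) F) * (T : Matrix (Fin 2) (Fin 2) F) := by
    intro k k' e
    have eu : T₀ * SpecialLinearGroup.toGL (x⁻¹ * k * x) = SpecialLinearGroup.toGL (y⁻¹ * k' * y) * T₀ :=
      Units.ext e
    have e2 : T * SpecialLinearGroup.toGL k = SpecialLinearGroup.toGL k' * T := by
      calc T * SpecialLinearGroup.toGL k
          = SpecialLinearGroup.toGL y * (T₀ * SpecialLinearGroup.toGL (x⁻¹ * k * x)) *
              (SpecialLinearGroup.toGL x)⁻¹ := by simp only [T, map_mul, map_inv]; group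
        _ = _ := by rw [eu]; simp only [T, map_mul, map_inv]; group
    exact congrArg Units.val e2
  have hTg := key g g' (by
    rw [← hx, ← hy]
    rw [show x⁻¹ * (x * SL2Two.g0 * x⁻¹) * x = SL2Two.g0 by group, show y⁻¹ * (y * SL2Two.g0 * y⁻¹) * y = SL2Two.g0 by group]
    ext i j
    fin_cases i <;> fin_cases j <;> simp [SL2Two.g0, Matrix.mul_apply, Fin.sum_univ_two])
  have hTh := key h h' (by
    rw [hh₁, hh₁']
    ext i j
    fin_cases i <;> fin_cases j <;> simp [Matrix.mul_apply, Fin.sum_univ_two] <;>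
      first | linear_combination hi1 | linear_combination hi2 | linear_combination -hi1 | linear_combination -hi2)
  refine ⟨_, ⟨ProjGenLinGroup.mk T, rfl⟩, ?_⟩
  set c := ProjGenLinGroup.map (algebraMap F KK) (ProjGenLinGroup.mk T)
  have e1 : MulAut.conj c (emb (SL2Two.proj g)) = emb (SL2Two.proj g') := conj_emb T hTg
  have e2 : MulAut.conj c (emb (SL2Two.proj h)) = emb (SL2Two.proj h') := conj_emb T hTh
  have e3 : MulAut.conj c (emb (SL2Two.proj (g * h))) = emb (SL2Two.proj (g' * h')) := by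
    rw [map_mul, map_mul, map_mul, e1, e2, map_mul, map_mul]
  ext z
  constructor
  · rintro ⟨_, ⟨w, hw, rfl⟩, rfl⟩
    rcases (hV' w).1 hw with rfl | rfl | rfl | rfl
    · exact ⟨1, W.one_mem, by simp⟩
    · exact ⟨_, (hW' _).2 (Or.inr (Or.inl rfl)), e1.symm⟩
    · exact ⟨_, (hW' _).2 (Or.inr (Or.inr (Or.inl rfl))), e2.symm⟩
    · exact ⟨_, (hW' _).2 (Or.inr (Or.inr (Or.inr rfl))), e3.symm⟩
  · rintro ⟨w, hw, rfl⟩
    rcases (hW' w).1 hw with rfl | rfl | rfl | rfl
    · exact ⟨1, (V.map emb).one_mem, by simp⟩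
    · exact ⟨_, ⟨_, (hV' _).2 (Or.inr (Or.inl rfl)), rfl⟩, e1⟩
    · exact ⟨_, ⟨_, (hV' _).2 (Or.inr (Or.inr (Or.inl rfl))), rfl⟩, e2⟩
    · exact ⟨_, ⟨_, (hV' _).2 (Or.inr (Or.inr (Or.inr rfl))), rfl⟩, e3⟩

/-- The normaliser of a subgroup inside `PSL₂(F)`. -/
theorem comap_nz {V : Subgroup (Matrix.ProjectiveSpecialLinearGroup (Fin 2) F)} :
    (pslF F ⊓ Subgroup.normalizer ((V.map emb : Subgroup (PGL(2, KK))) : Set (PGL(2, KK)))).comap emb =
      Subgroup.normalizer (V : Set (Matrix.ProjectiveSpecialLinearGroup (Fin 2) F)) := by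
  ext g
  rw [Subgroup.mem_comap, Subgroup.mem_inf, Subgroup.mem_normalizer_iff, Subgroup.mem_normalizer_iff]
  constructor
  · rintro ⟨-, h⟩ v
    rw [← Subgroup.mem_map_iff_mem emb_injective (f := emb), h, ← map_inv, ← map_mul, ← map_mul,
      Subgroup.mem_map_iff_mem emb_injective (f := emb)]
  · intro h
    refine ⟨⟨g, rfl⟩, fun z => ?_⟩
    constructor
    · rintro ⟨v, hv, rfl⟩
      exact ⟨g * v * g⁻¹, (h v).1 hv, by simp⟩
    · rintro ⟨v, hv, e⟩
      refine ⟨g⁻¹ * v * g, (h _).2 (by group; simpa using hv), ?_⟩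
      simp only [map_mul, map_inv, e]
      group

theorem card_nz {V : Subgroup (Matrix.ProjectiveSpecialLinearGroup (Fin 2) F)} :
    Nat.card ↥(pslF F ⊓ Subgroup.normalizer ((V.map emb : Subgroup (PGL(2, KK))) : Set (PGL(2, KK)))) =
      Nat.card (Subgroup.normalizer (V : Set (Matrix.ProjectiveSpecialLinearGroup (Fin 2) F))) := by
  rw [← comap_nz, ← Subgroup.card_map_of_injective emb_injective (K := Subgroup.comap _ _),
    Subgroup.map_comap_eq_self]
  exact inf_le_left

theorem card_nz_three_five (hq : Fintype.card F % 8 = 3 ∨ Fintype.card F % 8 = 5)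
    {V : Subgroup (Matrix.ProjectiveSpecialLinearGroup (Fin 2) F)} (hV : IsKleinFour V) :
    Nat.card (Subgroup.normalizer (V : Set (Matrix.ProjectiveSpecialLinearGroup (Fin 2) F))) = 12 := by
  haveI : Finite (Matrix.ProjectiveSpecialLinearGroup (Fin 2) F) := Finite.of_surjective _ SL2Two.proj_surjective
  have h2 : (2 : F) ≠ 0 := SL2Two.two_ne_zero' (Nat.odd_iff.2 (by omega))
  obtain ⟨h24, ⟨s, hs⟩, -⟩ := SL2Two.card_normalizer_klein_dvd h2 V hV
  have hs12 : s = 1 ∨ s = 2 := by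
    have := Nat.le_of_dvd (by norm_num) h24
    have := Nat.card_pos (α := Subgroup.normalizer (V : Set (Matrix.ProjectiveSpecialLinearGroup (Fin 2) F)))
    omega
  rcases hs12 with rfl | rfl
  · exact hs
  · exfalso
    have hc := SL2.card_PSL2_mul (F := F)
    rw [Nat.gcd_eq_left (show 2 ∣ Fintype.card F - 1 by omega)] at hc
    obtain ⟨w, hw⟩ := (Subgroup.normalizer (V : Set (Matrix.ProjectiveSpecialLinearGroup (Fin 2) F))).card_subgroup_dvd_card
    rw [hw, hs] at hc
    have h16 : 16 ∣ Fintype.card F * (Fintype.card F ^ 2 - 1) := ⟨3 * w, by rw [← hc]; ring⟩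
    have hcop : Nat.Coprime 16 (Fintype.card F) :=
      Nat.Coprime.pow_left 4 ((Nat.Prime.coprime_iff_not_dvd Nat.prime_two).2 (by omega))
    have h16' := hcop.dvd_of_dvd_mul_left h16
    obtain ⟨j, hj⟩ : ∃ j, Fintype.card F = 8 * j + 3 ∨ Fintype.card F = 8 * j + 5 :=
      ⟨Fintype.card F / 8, by omega⟩
    rcases hj with hj | hj <;> rw [hj] at h16' <;> ring_nf at h16' <;> omega

/-- A Klein four group over a subfield with a large normaliser there. -/
theorem exists_klein_sub (h2 : (2 : F) ≠ 0) {L : Subfield KK} (hL : L ≤ (algebraMap F KK).fieldRange) :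
    ∃ V : Subgroup (Matrix.ProjectiveSpecialLinearGroup (Fin 2) F), IsKleinFour V ∧
      12 ≤ Nat.card ↥(subPGL L ⊓ pslF F ⊓
        Subgroup.normalizer ((V.map emb : Subgroup (PGL(2, KK))) : Set (PGL(2, KK)))) ∧
      24 ≤ Nat.card ↥(subPGL L ⊓
        Subgroup.normalizer ((V.map emb : Subgroup (PGL(2, KK))) : Set (PGL(2, KK)))) ∧
      ((Nat.card L % 8 = 1 ∨ Nat.card L % 8 = 7) →
        24 ≤ Nat.card ↥(subPGL L ⊓ pslF F ⊓
          Subgroup.normalizer ((V.map emb : Subgroup (PGL(2, KK))) : Set (PGL(2, KK))))) := by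
  haveI := finite_of_le hL
  haveI := Fintype.ofFinite L
  obtain ⟨f, hf⟩ := exists_hom_of_le hL
  have h2L : (2 : L) ≠ 0 := fun e => h2 (by
    have := congrArg f e
    rwa [map_ofNat, map_zero] at this)
  have hoddL : Fintype.card L % 2 = 1 :=
    FiniteField.odd_card_of_char_ne_two fun e => h2L (SL2Two.two_eq_zero_of_char e)
  haveI : Finite (Matrix.ProjectiveSpecialLinearGroup (Fin 2) L) := Finite.of_surjective _ SL2Two.proj_surjective
  obtain ⟨⟨V₁, hV₁⟩⟩ : Nonempty {V : Subgroup (Matrix.ProjectiveSpecialLinearGroup (Fin 2) L) // IsKleinFour V} := by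
    have hk := SL2Two.twelve_mul_card_klein (F := L) h2L
    by_contra hc
    rw [not_nonempty_iff] at hc
    rw [Nat.card_of_isEmpty, mul_zero] at hk
    exact Nat.card_pos.ne hk
  let φ : Matrix.ProjectiveSpecialLinearGroup (Fin 2) L →* PGL(2, KK) :=
    (ProjGenLinGroup.map (n := Fin 2) L.subtype).comp ProjectiveSpecialLinearGroup.toPGL
  have hφ : Function.Injective φ := by
    rw [MonoidHom.coe_comp]
    exact (map_injective L.subtype).comp (ProjectiveSpecialLinearGroup.toPGL_injective (n := Fin 2) (R := L))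
  have hφrange : φ.range ≤ subPGL L ⊓ pslF F := psl_le_sub hL
  set V := (V₁.map φ).comap (emb (F := F)) with hVdef
  have hVmap : V.map emb = V₁.map φ :=
    Subgroup.map_comap_eq_self ((Subgroup.map_le_range φ V₁).trans (hφrange.trans inf_le_right))
  haveI := hV₁
  haveI : Finite ↥(V₁.map φ) := Finite.of_equiv _ (V₁.equivMapOfInjective φ hφ).toEquiv
  have hV : IsKleinFour V := by
    have e : V ≃* V₁ := ((V.equivMapOfInjective emb emb_injective).trans (MulEquiv.subgroupCongr hVmap)).trans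
      (V₁.equivMapOfInjective φ hφ).symm
    exact ⟨(Nat.card_congr e.toEquiv).trans hV₁.card_four,
      (Monoid.exponent_eq_of_mulEquiv e).trans hV₁.exponent_two⟩
  set N₁ := Subgroup.normalizer (V₁ : Set (Matrix.ProjectiveSpecialLinearGroup (Fin 2) L))
  haveI : Finite ↥(subPGL L) := by
    haveI : Finite (PGL(2, L)) := Finite.of_surjective _ ProjGenLinGroup.mk_surjective
    exact Finite.of_surjective _ (ProjGenLinGroup.map (n := Fin 2) L.subtype).rangeRestrict_surjective
  have hnz : ∀ z : PGL(2, KK), (∀ v ∈ V₁.map φ, z * v * z⁻¹ ∈ V₁.map φ) →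
      z ∈ Subgroup.normalizer ((V₁.map φ : Subgroup (PGL(2, KK))) : Set (PGL(2, KK))) := by
    intro z hz
    have hle : (V₁.map φ).map (MulAut.conj z).toMonoidHom ≤ V₁.map φ := by
      rintro _ ⟨v, hv, rfl⟩; exact hz v hv
    have heq := Subgroup.eq_of_le_of_card_ge hle (le_of_eq (Subgroup.card_map_of_injective (MulAut.conj z).injective).symm)
    rw [Subgroup.mem_normalizer_iff]
    refine fun v => ⟨hz v, fun hv => ?_⟩
    obtain ⟨w, hw, hwe⟩ := heq.ge hv
    exact (MulAut.conj z).injective hwe ▸ hw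
  have himg : N₁.map φ ≤ subPGL L ⊓ pslF F ⊓
      Subgroup.normalizer ((V.map emb : Subgroup (PGL(2, KK))) : Set (PGL(2, KK))) := by
    rintro _ ⟨n, hn, rfl⟩
    refine ⟨hφrange ⟨n, rfl⟩, ?_⟩
    rw [hVmap]
    refine hnz _ ?_
    rintro _ ⟨v, hv, rfl⟩
    exact ⟨n * v * n⁻¹, (Subgroup.mem_normalizer_iff.1 hn v).1 hv, by simp⟩
  haveI : Finite ↥(subPGL L ⊓ pslF F ⊓
      Subgroup.normalizer ((V.map emb : Subgroup (PGL(2, KK))) : Set (PGL(2, KK)))) :=
    Finite.of_injective _ (Subgroup.inclusion_injective (inf_le_left.trans inf_le_left))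
  obtain ⟨-, h12, -⟩ := SL2Two.card_normalizer_klein_dvd h2L V₁ hV₁
  have hcard : Nat.card N₁ ≤ Nat.card ↥(subPGL L ⊓ pslF F ⊓
      Subgroup.normalizer ((V.map emb : Subgroup (PGL(2, KK))) : Set (PGL(2, KK)))) := by
    rw [← Subgroup.card_map_of_injective hφ (K := N₁)]; exact Subgroup.card_le_of_le himg
  have h12' : 12 ≤ Nat.card N₁ := Nat.le_of_dvd Nat.card_pos h12
  refine ⟨V, hV, h12'.trans hcard, ?_, fun h8 => ?_⟩
  · by_cases h8 : Fintype.card L % 8 = 1 ∨ Fintype.card L % 8 = 7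
    · haveI : Finite ↥(subPGL L ⊓ Subgroup.normalizer ((V.map emb : Subgroup (PGL(2, KK))) : Set (PGL(2, KK)))) :=
        Finite.of_injective _ (Subgroup.inclusion_injective inf_le_left)
      refine le_trans ?_ (Subgroup.card_le_of_le (inf_le_inf_right _ (inf_le_left (b := pslF F))))
      rw [← SL2Two.card_normalizer_klein h2L h8 V₁ hV₁]
      exact hcard
    · -- an element outside `PSL₂` normalising the group
      obtain ⟨d, hd⟩ := FiniteField.exists_nonsquare (F := L) (fun e => h2L (SL2Two.two_eq_zero_of_char e))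
      have hd0 : d ≠ 0 := fun e => hd (e ▸ IsSquare.zero)
      set γ : PGL(2, L) := ProjGenLinGroup.mk (affGL (Units.mk0 d hd0) 0) with hγ
      have hγn : γ ∉ (ProjectiveSpecialLinearGroup.toPGL (n := Fin 2) (R := L)).range := by
        rw [hγ, mem_range_toPGL_iff]
        rintro ⟨r, hr⟩
        refine hd ⟨(r : L), ?_⟩
        have := congrArg Units.val hr
        simpa [affGL_coe, Matrix.det_fin_two] using this
      haveI : (ProjectiveSpecialLinearGroup.toPGL (n := Fin 2) (R := L)).range.Normal := by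
        refine ⟨fun x hx z => ?_⟩
        obtain ⟨z, rfl⟩ := ProjGenLinGroup.mk_surjective z
        obtain ⟨x, rfl⟩ := ProjGenLinGroup.mk_surjective x
        rw [← map_inv, ← map_mul, ← map_mul, mem_range_toPGL_iff]
        rw [mem_range_toPGL_iff] at hx
        rwa [map_mul, map_mul, map_inv, mul_inv_cancel_comm]
      set U := (V₁.map ProjectiveSpecialLinearGroup.toPGL).map (MulAut.conj γ).toMonoidHom with hU
      have hUle : U ≤ (ProjectiveSpecialLinearGroup.toPGL (n := Fin 2) (R := L)).range := by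
        rintro _ ⟨_, ⟨v, -, rfl⟩, rfl⟩
        exact Subgroup.Normal.conj_mem inferInstance _ (MonoidHom.mem_range.2 ⟨v, rfl⟩) γ
      set V₂ := U.comap ProjectiveSpecialLinearGroup.toPGL
      have hV₂map : V₂.map ProjectiveSpecialLinearGroup.toPGL = U := Subgroup.map_comap_eq_self hUle
      have hV₂ : IsKleinFour V₂ := by
        have e : V₂ ≃* V₁ := ((V₂.equivMapOfInjective _ ProjectiveSpecialLinearGroup.toPGL_injective).trans
          (MulEquiv.subgroupCongr hV₂map)).trans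
          ((Subgroup.equivMapOfInjective _ _ (MulAut.conj γ).injective).symm.trans
            (V₁.equivMapOfInjective _ ProjectiveSpecialLinearGroup.toPGL_injective).symm)
        exact ⟨(Nat.card_congr e.toEquiv).trans hV₁.card_four,
          (Monoid.exponent_eq_of_mulEquiv e).trans hV₁.exponent_two⟩
      obtain ⟨h, hh⟩ := SL2Two.klein_conj_of_three_five (by omega) V₁ V₂ hV₁ hV₂
      set δ : PGL(2, L) := (ProjectiveSpecialLinearGroup.toPGL h)⁻¹ * γ with hδ
      have hδV : ∀ v ∈ V₁, ∃ w ∈ V₁, δ * ProjectiveSpecialLinearGroup.toPGL v * δ⁻¹ =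
          ProjectiveSpecialLinearGroup.toPGL w := by
        intro v hv
        have hm : γ * ProjectiveSpecialLinearGroup.toPGL v * γ⁻¹ ∈ U := ⟨_, ⟨v, hv, rfl⟩, rfl⟩
        rw [← hV₂map] at hm
        obtain ⟨z, hz, hze⟩ := hm
        have hz' : z ∈ V₁.map (MulAut.conj h).toMonoidHom := hh ▸ hz
        obtain ⟨w, hw, rfl⟩ := hz'
        refine ⟨w, hw, ?_⟩
        calc δ * ProjectiveSpecialLinearGroup.toPGL v * δ⁻¹
            = (ProjectiveSpecialLinearGroup.toPGL h)⁻¹ * (γ * ProjectiveSpecialLinearGroup.toPGL v * γ⁻¹) *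
              ProjectiveSpecialLinearGroup.toPGL h := by rw [hδ]; group
          _ = _ := by
            rw [← hze]
            show _ * ProjectiveSpecialLinearGroup.toPGL (h * w * h⁻¹) * _ = _
            rw [map_mul, map_mul, map_inv]; group
      set S := subPGL L ⊓ Subgroup.normalizer ((V.map emb : Subgroup (PGL(2, KK))) : Set (PGL(2, KK))) with hS
      haveI : Finite S := Finite.of_injective _ (Subgroup.inclusion_injective inf_le_left)
      have hle : N₁.map φ ≤ S := le_inf (himg.trans (inf_le_left.trans inf_le_left)) (himg.trans inf_le_right)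
      have hδS : ProjGenLinGroup.map (n := Fin 2) L.subtype δ ∈ S := by
        refine ⟨⟨δ, rfl⟩, ?_⟩
        rw [hVmap]
        refine hnz _ ?_
        rintro _ ⟨v, hv, rfl⟩
        obtain ⟨w, hw, hwe⟩ := hδV v hv
        refine ⟨w, hw, ?_⟩
        show ProjGenLinGroup.map L.subtype (ProjectiveSpecialLinearGroup.toPGL w) = _ * φ v * _
        rw [← hwe, map_mul, map_mul, map_inv]
        rfl
      have hne : N₁.map φ ≠ S := fun e => by
        obtain ⟨n, -, hn⟩ := e.ge hδS
        have hn' : ProjectiveSpecialLinearGroup.toPGL n = δ := map_injective L.subtype hn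
        exact hγn ⟨h * n, by rw [map_mul, hn', hδ, mul_inv_cancel_left]⟩
      obtain ⟨k, hk⟩ := Subgroup.card_dvd_of_le hle
      rw [Subgroup.card_map_of_injective hφ] at hk
      rw [hk]
      have hk1 : k ≠ 1 := by
        rintro rfl
        exact hne (Subgroup.eq_of_le_of_card_ge hle (by rw [Subgroup.card_map_of_injective hφ, hk, mul_one]))
      have hk0 : k ≠ 0 := by
        rintro rfl
        rw [mul_zero] at hk
        exact Nat.card_pos.ne' hk
      calc 24 = 12 * 2 := rfl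
        _ ≤ _ := Nat.mul_le_mul h12' (by omega)
  · rw [Nat.card_eq_fintype_card] at h8
    rw [← SL2Two.card_normalizer_klein h2L h8 V₁ hV₁]
    exact hcard

end klein

section icosa

/-- Icosahedral subgroups are conjugate to one over a subfield containing a root of `t² = t + 1`. -/
theorem icosa_conj (h2 : (2 : F) ≠ 0) {L : Subfield KK} (hL : L ≤ (algebraMap F KK).fieldRange)
    (h5 : 5 ∣ Nat.card L * (Nat.card L ^ 2 - 1))
    (H : Subgroup (Matrix.ProjectiveSpecialLinearGroup (Fin 2) F))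
    (hH : Nonempty (H ≃* alternatingGroup (Fin 5))) :
    ∃ c ∈ pglF F, (H.map emb).map (MulAut.conj c).toMonoidHom ≤ subPGL L := by
  haveI := finite_of_le hL
  haveI := Fintype.ofFinite L
  haveI : Finite (Matrix.ProjectiveSpecialLinearGroup (Fin 2) F) := Finite.of_surjective _ SL2Two.proj_surjective
  obtain ⟨f, hf⟩ := exists_hom_of_le hL
  obtain ⟨t₀, ht₀⟩ := Icosa.exists_root (F := L) (by rwa [← Nat.card_eq_fintype_card])
  obtain ⟨A₁, B₁, hp₁⟩ := Icosa.exists_isPair ht₀
  set A₀ := SpecialLinearGroup.map f A₁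
  set B₀ := SpecialLinearGroup.map f B₁
  have hp₀ : Icosa.IsPair A₀ B₀ (f t₀) := by
    have htr : ∀ M : Matrix (Fin 2) (Fin 2) L, (M.map f).trace = f M.trace := fun M => by
      simp [Matrix.trace, Fin.sum_univ_two]
    refine ⟨?_, ?_, ?_, by rw [← map_mul, ht₀, map_add, map_one]⟩
    · show ((A₁ : Matrix (Fin 2) (Fin 2) L).map f).trace = 0
      rw [htr, hp₁.trA, map_zero]
    · show ((B₁ : Matrix (Fin 2) (Fin 2) L).map f).trace = 1
      rw [htr, hp₁.trB, map_one]
    · show ((A₁ : Matrix (Fin 2) (Fin 2) L).map f * (B₁ : Matrix (Fin 2) (Fin 2) L).map f).trace = f t₀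
      rw [← Matrix.map_mul, htr, hp₁.trAB]
  -- a pair generating the given subgroup
  obtain ⟨e⟩ := hH
  obtain ⟨a, b, ha2, ha1, hb3, hb1, hab5, hab1, -⟩ := alt_five_gens
  haveI : Fact (Nat.Prime 2) := ⟨Nat.prime_two⟩
  haveI : Fact (Nat.Prime 3) := ⟨Nat.prime_three⟩
  haveI : Fact (Nat.Prime 5) := ⟨by norm_num⟩
  have oa : orderOf ((e.symm a : H) : Matrix.ProjectiveSpecialLinearGroup (Fin 2) F) = 2 := by
    rw [Subgroup.orderOf_coe, MulEquiv.orderOf_eq, orderOf_eq_prime ha2 ha1]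
  have ob : orderOf ((e.symm b : H) : Matrix.ProjectiveSpecialLinearGroup (Fin 2) F) = 3 := by
    rw [Subgroup.orderOf_coe, MulEquiv.orderOf_eq, orderOf_eq_prime hb3 hb1]
  have oab : orderOf (((e.symm a : H) : Matrix.ProjectiveSpecialLinearGroup (Fin 2) F) * (e.symm b : H)) = 5 := by
    rw [← Subgroup.coe_mul, ← map_mul, Subgroup.orderOf_coe, MulEquiv.orderOf_eq, orderOf_eq_prime hab5 hab1]
  obtain ⟨A, B, t, hp, hA, hB⟩ := Icosa.exists_pair oa ob oab
  have hgen : ∀ {B' : SpecialLinearGroup (Fin 2) F} {t' : F}, Icosa.IsPair A B' t' →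
      SL2Two.proj B' ∈ H → Icosa.IsPair.grp A B' = H := by
    intro B' t' hp' hB'
    have hle : Icosa.IsPair.grp A B' ≤ H := by
      rw [Icosa.IsPair.grp, Subgroup.closure_le]
      rintro _ (rfl | rfl)
      · rw [hA]; exact (e.symm a).2
      · exact hB'
    refine Subgroup.eq_of_le_of_card_ge hle ?_
    rw [hp'.card_grp, Nat.card_congr e.toEquiv, nat_card_alternatingGroup, Nat.card_fin]
    decide
  have hB0 : SL2Two.proj B ∈ H := by rw [hB]; exact (e.symm b).2
  obtain ⟨B', hp', hgrp⟩ : ∃ B', Icosa.IsPair A B' (f t₀) ∧ Icosa.IsPair.grp A B' = H := by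
    have hroots : (t - f t₀) * (t + f t₀ - 1) = 0 := by linear_combination hp.ht - hp₀.ht
    rcases mul_eq_zero.1 hroots with h | h
    · rw [sub_eq_zero] at h
      exact ⟨B, h ▸ hp, hgen hp hB0⟩
    · obtain ⟨B', hp', hm⟩ := hp.exists_other
      rw [hgen hp hB0] at hm
      have h' : 1 - t = f t₀ := by linear_combination -h
      exact ⟨B', h' ▸ hp', hgen hp' hm⟩
  obtain ⟨T, hTA, hTB⟩ := Icosa.exists_conj h2 hp' hp₀
  refine ⟨_, ⟨ProjGenLinGroup.mk T, rfl⟩, ?_⟩
  rw [← hgrp, Icosa.IsPair.grp, MonoidHom.map_closure, MonoidHom.map_closure, Subgroup.closure_le]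
  rintro _ ⟨_, ⟨z, hz, rfl⟩, rfl⟩
  have hsub : ∀ C : SpecialLinearGroup (Fin 2) L, emb (SL2Two.proj (SpecialLinearGroup.map f C)) ∈ subPGL L := by
    intro C
    refine ⟨ProjGenLinGroup.mk (SpecialLinearGroup.toGL C), ?_⟩
    rw [emb_proj, ← hf, ProjGenLinGroup.map_comp, MonoidHom.comp_apply, ProjGenLinGroup.map_mk]
    congr 2
    exact Units.ext rfl
  rcases hz with rfl | rfl
  · show MulAut.conj _ (emb _) ∈ subPGL L
    rw [conj_emb T hTA]; exact hsub A₁
  · show MulAut.conj _ (emb _) ∈ subPGL L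
    rw [conj_emb T hTB]; exact hsub B₁

end icosa

end Cfsg.Agent.Classical.Dickson
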