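import Cfsg.Agent.Lib.Classical.DicksonLine

/-!
Stabilisers of points in finite subgroups of `PGL₂`.
-/

set_option autoImplicit false
set_option linter.style.haveILetI false
set_option linter.unusedSectionVars false

open scoped MatrixGroups Pointwise
open Matrix OnePoint

noncomputable section

namespace Cfsg.Agent.Classical.Dickson

variable {K : Type*} [Field K] [DecidableEq K]

local notation "P2" => PGL(2, K)
local notation "X2" => OnePoint K

/-- `g` fixes `x` and, unless trivial, nothing else. -/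
def IsTr (x : X2) (g : P2) : Prop := g • x = x ∧ ∀ y : X2, g • y = y → y = x ∨ g = 1

theorem isTr_infty_aff (s : Kˣ) (a : K) : IsTr (∞ : X2) (aff s a) ↔ s = 1 := by
  constructor
  · intro h
    by_contra hs
    have hs' : 1 - (s : K) ≠ 0 := sub_ne_zero.2 fun e => hs (Units.ext e.symm)
    rcases h.2 ((a / (1 - s) : K) : X2) (by rw [aff_smul_coe, coe_eq_coe]; field_simp; ring) with e | e
    · exact coe_ne_infty _ e
    · exact hs (aff_eq_one_iff.1 e).1
  · rintro rfl
    refine ⟨aff_smul_infty _ _, fun y hy => ?_⟩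
    cases y with
    | infty => exact Or.inl rfl
    | coe z =>
      rw [aff_smul_coe, coe_eq_coe] at hy
      exact Or.inr (aff_eq_one_iff.2 ⟨rfl, by rw [Units.val_one, one_mul] at hy; linear_combination hy⟩)

theorem isTr_conj (c : P2) {x : X2} {g : P2} (h : IsTr x g) : IsTr (c • x) (c * g * c⁻¹) := by
  refine ⟨by rw [mul_smul, mul_smul, inv_smul_smul, h.1], fun y hy => ?_⟩
  have hy' : g • (c⁻¹ • y) = c⁻¹ • y := by
    rw [mul_smul, mul_smul] at hy
    exact eq_inv_smul_iff.2 hy
  rcases h.2 _ hy' with e | e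
  · exact Or.inl (by rw [← e, smul_inv_smul])
  · exact Or.inr (by rw [e, mul_one, mul_inv_cancel])

theorem isTr_conj_iff (c : P2) {x : X2} {g : P2} : IsTr (c • x) (c * g * c⁻¹) ↔ IsTr x g := by
  refine ⟨fun h => ?_, isTr_conj c⟩
  have := isTr_conj c⁻¹ h
  rwa [inv_smul_smul, inv_inv, ← mul_assoc, ← mul_assoc, inv_mul_cancel, one_mul,
    inv_mul_cancel_right] at this

theorem isTr_one (x : X2) : IsTr x (1 : P2) := ⟨one_smul _ _, fun _ _ => Or.inr rfl⟩

/-- The translations at a point. -/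
def trSub (x : X2) : Subgroup P2 where
  carrier := {g | IsTr x g}
  one_mem' := isTr_one x
  mul_mem' := fun {g h} hg hh => by
    obtain ⟨c, hc⟩ := exists_to_infty x
    have hg' := isTr_conj c hg
    have hh' := isTr_conj c hh
    rw [hc] at hg' hh'
    obtain ⟨s, a, hs⟩ := exists_aff _ hg'.1
    obtain ⟨t, b, ht⟩ := exists_aff _ hh'.1
    rw [hs, isTr_infty_aff] at hg'
    rw [ht, isTr_infty_aff] at hh'
    show IsTr x (g * h)
    rw [← isTr_conj_iff c, hc, show c * (g * h) * c⁻¹ = (c * g * c⁻¹) * (c * h * c⁻¹) by group,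
      hs, ht, aff_mul, isTr_infty_aff, hg', hh', one_mul]
  inv_mem' := fun {g} hg => ⟨inv_smul_eq_iff.2 hg.1.symm, fun y hy => by
    rcases hg.2 y (inv_smul_eq_iff.1 hy).symm with e | e
    · exact Or.inl e
    · exact Or.inr (by rw [e, inv_one])⟩

theorem mem_trSub {x : X2} {g : P2} : g ∈ trSub x ↔ IsTr x g := Iff.rfl

variable (G : Subgroup (PGL(2, K)))

/-- The stabiliser of a point in `G`. -/
def st (x : X2) : Subgroup P2 := G ⊓ MulAction.stabilizer P2 x

/-- The translations at a point in `G`. -/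
def tr (x : X2) : Subgroup P2 := G ⊓ trSub x

theorem mem_st {x : X2} {g : P2} : g ∈ st G x ↔ g ∈ G ∧ g • x = x := Iff.rfl

theorem mem_tr {x : X2} {g : P2} : g ∈ tr G x ↔ g ∈ G ∧ IsTr x g := Iff.rfl

theorem tr_le_st (x : X2) : tr G x ≤ st G x := fun _ h => ⟨h.1, h.2.1⟩

theorem st_le (x : X2) : st G x ≤ G := inf_le_left

theorem conj_st (c : P2) (x : X2) :
    st (G.map (MulAut.conj c).toMonoidHom) (c • x) = (st G x).map (MulAut.conj c).toMonoidHom := by
  ext g
  simp only [Subgroup.mem_map, mem_st, MulEquiv.coe_toMonoidHom, MulAut.conj_apply]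
  constructor
  · rintro ⟨⟨k, hk, rfl⟩, hx⟩
    refine ⟨k, ⟨hk, ?_⟩, rfl⟩
    rw [mul_smul, mul_smul, inv_smul_smul] at hx
    exact MulAction.injective c hx
  · rintro ⟨k, ⟨hk, hx⟩, rfl⟩
    exact ⟨⟨k, hk, rfl⟩, by rw [mul_smul, mul_smul, inv_smul_smul, hx]⟩

theorem conj_tr (c : P2) (x : X2) :
    tr (G.map (MulAut.conj c).toMonoidHom) (c • x) = (tr G x).map (MulAut.conj c).toMonoidHom := by
  ext g
  simp only [Subgroup.mem_map, mem_tr, MulEquiv.coe_toMonoidHom, MulAut.conj_apply]
  constructor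
  · rintro ⟨⟨k, hk, rfl⟩, hx⟩
    exact ⟨k, ⟨hk, (isTr_conj_iff c).1 hx⟩, rfl⟩
  · rintro ⟨k, ⟨hk, hx⟩, rfl⟩
    exact ⟨⟨k, hk, rfl⟩, isTr_conj c hx⟩

/-- The translation lengths at infinity. -/
def transl : AddSubgroup K where
  carrier := {a | aff 1 a ∈ G}
  zero_mem' := show aff 1 (0 : K) ∈ G by rw [aff_one]; exact one_mem G
  add_mem' := fun {a b} ha hb => by
    show aff 1 (a + b) ∈ G
    have := G.mul_mem ha hb
    rwa [aff_mul, one_mul, Units.val_one, one_mul, add_comm] at this
  neg_mem' := fun {a} ha => by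
    show aff 1 (-a) ∈ G
    have := G.inv_mem ha
    rwa [aff_inv, inv_one, Units.val_one, one_mul] at this

theorem mem_transl {a : K} : a ∈ transl G ↔ aff 1 a ∈ G := Iff.rfl

/-- The multipliers at infinity. -/
def mult : Subgroup Kˣ where
  carrier := {s | ∃ a : K, aff s a ∈ G}
  one_mem' := ⟨0, by rw [aff_one]; exact one_mem G⟩
  mul_mem' := by
    rintro s t ⟨a, ha⟩ ⟨b, hb⟩
    refine ⟨(s : K) * b + a, ?_⟩
    rw [← aff_mul]; exact G.mul_mem ha hb
  inv_mem' := by
    rintro s ⟨a, ha⟩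
    refine ⟨-((s⁻¹ : Kˣ) * a), ?_⟩
    rw [← aff_inv]; exact G.inv_mem ha

theorem mem_mult {s : Kˣ} : s ∈ mult G ↔ ∃ a : K, aff s a ∈ G := Iff.rfl

theorem mult_smul_transl {s : Kˣ} (hs : s ∈ mult G) {a : K} (ha : a ∈ transl G) :
    (s : K) * a ∈ transl G := by
  obtain ⟨b, hb⟩ := hs
  rw [mem_transl]
  have := G.mul_mem (G.mul_mem hb ha) (G.inv_mem hb)
  rwa [show aff s b * aff 1 a * (aff s b)⁻¹ = aff 1 ((s : K) * a) by
    rw [mul_inv_eq_iff_eq_mul, aff_mul, aff_mul, mul_one, one_mul, Units.val_one, one_mul]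
    congr 1; ring] at this

theorem card_tr_infty : Nat.card (tr G (∞ : X2)) = Nat.card (transl G) := by
  refine (Nat.card_congr (Equiv.ofBijective
    (fun a : transl G => (⟨aff 1 a.1, a.2, (isTr_infty_aff 1 a.1).2 rfl⟩ : tr G (∞ : X2))) ⟨?_, ?_⟩)).symm
  · intro a b h
    exact Subtype.ext (aff_eq_iff.1 (congrArg Subtype.val h)).2
  · rintro ⟨g, hg, htr⟩
    obtain ⟨s, a, rfl⟩ := exists_aff g htr.1
    obtain rfl : s = 1 := (isTr_infty_aff s a).1 htr
    exact ⟨⟨a, hg⟩, rfl⟩

theorem card_st_infty : Nat.card (st G (∞ : X2)) = Nat.card (transl G) * Nat.card (mult G) := by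
  choose f hf using fun s : mult G => s.2
  rw [← Nat.card_prod]
  refine (Nat.card_congr (Equiv.ofBijective
    (fun p : transl G × mult G => (⟨aff 1 p.1.1 * aff p.2.1 (f p.2),
      G.mul_mem p.1.2 (hf p.2), by
        show (aff 1 p.1.1 * aff p.2.1 (f p.2)) • (∞ : X2) = ∞
        rw [mul_smul, aff_smul_infty, aff_smul_infty]⟩ : st G (∞ : X2))) ⟨?_, ?_⟩)).symm
  · rintro ⟨a, s⟩ ⟨b, t⟩ h
    have e := congrArg Subtype.val h
    simp only [aff_mul, one_mul, aff_eq_iff] at e
    obtain rfl : s = t := Subtype.ext e.1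
    simp only [Units.val_one, one_mul, add_right_inj] at e
    exact Prod.ext (Subtype.ext e.2) rfl
  · rintro ⟨g, hg, hx⟩
    obtain ⟨s, a, rfl⟩ := exists_aff g hx
    have hs : s ∈ mult G := ⟨a, hg⟩
    have hd : a - f ⟨s, hs⟩ ∈ transl G := by
      rw [mem_transl]
      have := G.mul_mem hg (G.inv_mem (hf ⟨s, hs⟩))
      rwa [show aff s a * (aff s (f ⟨s, hs⟩))⁻¹ = aff 1 (a - f ⟨s, hs⟩) by
        rw [mul_inv_eq_iff_eq_mul, aff_mul, one_mul, Units.val_one, one_mul]; congr 1; ring] at this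
    exact ⟨(⟨_, hd⟩, ⟨s, hs⟩), Subtype.ext (by
      show aff 1 (a - f ⟨s, hs⟩) * aff s (f ⟨s, hs⟩) = aff s a
      rw [aff_mul, one_mul, Units.val_one, one_mul]; congr 1; ring)⟩

variable [Finite G]

instance finite_transl : Finite (transl G) :=
  Finite.of_injective (fun a : transl G => (⟨aff 1 a.1, a.2⟩ : G))
    fun _ _ h => Subtype.ext (aff_eq_iff.1 (congrArg Subtype.val h)).2

instance finite_mult : Finite (mult G) := by
  choose f hf using fun s : mult G => s.2
  exact Finite.of_injective (fun s : mult G => (⟨aff s.1 (f s), hf s⟩ : G))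
    fun _ _ h => Subtype.ext (aff_eq_iff.1 (congrArg Subtype.val h)).1

theorem card_mult_dvd_transl_pred :
    Nat.card (mult G) ∣ Nat.card (transl G) - 1 := by
  classical
  haveI := Fintype.ofFinite (transl G)
  let Y := {a : transl G // a ≠ 0}
  letI : MulAction (mult G) Y :=
    { smul := fun s a => ⟨⟨((s : Kˣ) : K) * (a.1 : K), mult_smul_transl G s.2 a.1.2⟩, fun h => by
        have h' := congrArg Subtype.val h
        simp only [AddSubgroup.coe_zero, mul_eq_zero, Units.ne_zero, false_or] at h'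
        exact a.2 (Subtype.ext h')⟩
      one_smul := fun a => Subtype.ext (Subtype.ext (one_mul _))
      mul_smul := fun s t a => Subtype.ext (Subtype.ext (by
        show ((s * t : mult G) : Kˣ).1 * _ = _
        rw [Subgroup.coe_mul, Units.val_mul, mul_assoc]
        rfl)) }
  have hst : ∀ a : Y, MulAction.stabilizer (mult G) a = ⊥ := fun a => by
    refine eq_bot_iff.2 fun s hs => Subgroup.mem_bot.2 (Subtype.ext (Units.ext ?_))
    have h : ((s : Kˣ) : K) * (a.1 : K) = (a.1 : K) :=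
      congrArg (fun b : Y => ((b.1 : transl G) : K)) hs
    have ha : ((a.1 : transl G) : K) ≠ 0 := fun e => a.2 (Subtype.ext e)
    exact mul_right_cancel₀ ha (by rw [h, Subgroup.coe_one, Units.val_one, one_mul])
  have h := Nat.card_congr (MulAction.selfEquivOrbitsQuotientProd hst)
  rw [Nat.card_prod, Nat.card_eq_fintype_card (α := Y), Fintype.card_subtype_compl,
    Fintype.card_subtype_eq, ← Nat.card_eq_fintype_card] at h
  exact Dvd.intro_left _ h.symm

instance finite_st (x : X2) : Finite (st G x) :=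
  Finite.of_injective _ (Subgroup.inclusion_injective (st_le G x))

instance finite_tr (x : X2) : Finite (tr G x) :=
  Finite.of_injective _ (Subgroup.inclusion_injective ((tr_le_st G x).trans (st_le G x)))

instance finite_map_conj (c : P2) : Finite ↥(G.map (MulAut.conj c).toMonoidHom) :=
  Finite.of_equiv _ (G.equivMapOfInjective _ (MulAut.conj c).injective).toEquiv

/-- The order of the translation group at a point. -/
noncomputable def qOf (x : X2) : ℕ := Nat.card (tr G x)

/-- The index of the translation group in the stabiliser. -/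
noncomputable def eOf (x : X2) : ℕ := Nat.card (st G x) / Nat.card (tr G x)

/-- Moving a point to infinity preserves the invariants. -/
theorem invariants {x : X2} {c : P2} (hc : c • x = ∞) :
    qOf G x = Nat.card (transl (G.map (MulAut.conj c).toMonoidHom)) ∧
      Nat.card (st G x) = Nat.card (transl (G.map (MulAut.conj c).toMonoidHom)) *
        Nat.card (mult (G.map (MulAut.conj c).toMonoidHom)) ∧
      eOf G x = Nat.card (mult (G.map (MulAut.conj c).toMonoidHom)) := by
  have h1 : qOf G x = Nat.card (transl (G.map (MulAut.conj c).toMonoidHom)) := by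
    rw [← card_tr_infty, ← hc, conj_tr, Subgroup.card_map_of_injective (MulAut.conj c).injective, qOf]
  have h2 : Nat.card (st G x) = Nat.card (transl (G.map (MulAut.conj c).toMonoidHom)) *
      Nat.card (mult (G.map (MulAut.conj c).toMonoidHom)) := by
    rw [← card_st_infty, ← hc, conj_st, Subgroup.card_map_of_injective (MulAut.conj c).injective]
  refine ⟨h1, h2, ?_⟩
  rw [eOf, h2, ← qOf, h1, Nat.mul_div_cancel_left _ Nat.card_pos]

theorem qOf_pos (x : X2) : 0 < qOf G x := Nat.card_pos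

theorem eOf_pos (x : X2) : 0 < eOf G x := by
  obtain ⟨c, hc⟩ := exists_to_infty x
  haveI : Finite ↥(G.map (MulAut.conj c).toMonoidHom) :=
    Finite.of_equiv _ (G.equivMapOfInjective _ (MulAut.conj c).injective).toEquiv
  rw [(invariants G hc).2.2]; exact Nat.card_pos

theorem card_st (x : X2) : Nat.card (st G x) = qOf G x * eOf G x := by
  obtain ⟨c, hc⟩ := exists_to_infty x
  rw [(invariants G hc).1, (invariants G hc).2.2, (invariants G hc).2.1]

theorem eOf_dvd_qOf_pred (x : X2) : eOf G x ∣ qOf G x - 1 ∨ qOf G x = 1 := by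
  obtain ⟨c, hc⟩ := exists_to_infty x
  haveI : Finite ↥(G.map (MulAut.conj c).toMonoidHom) :=
    Finite.of_equiv _ (G.equivMapOfInjective _ (MulAut.conj c).injective).toEquiv
  rw [(invariants G hc).1, (invariants G hc).2.2]
  exact Or.inl (card_mult_dvd_transl_pred _)

theorem pow_aff (s : Kˣ) (a : K) (n : ℕ) : ∃ b, aff s a ^ n = aff (s ^ n) b := by
  induction n with
  | zero => exact ⟨0, by rw [pow_zero, pow_zero, aff_one]⟩
  | succ n ih =>
    obtain ⟨b, hb⟩ := ih
    exact ⟨_, by rw [pow_succ, hb, aff_mul, pow_succ]⟩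

theorem pow_eOf_mem_tr {x : X2} {g : P2} (hg : g ∈ st G x) : g ^ eOf G x ∈ tr G x := by
  obtain ⟨c, hc⟩ := exists_to_infty x
  haveI : Finite ↥(G.map (MulAut.conj c).toMonoidHom) :=
    Finite.of_equiv _ (G.equivMapOfInjective _ (MulAut.conj c).injective).toEquiv
  refine ⟨G.pow_mem hg.1 _, ?_⟩
  have hfix : (c * g * c⁻¹) • (∞ : X2) = ∞ := by
    rw [← hc, mul_smul, mul_smul, inv_smul_smul, show g • x = x from hg.2]
  obtain ⟨s, a, hs⟩ := exists_aff _ hfix
  have hmem : s ∈ mult (G.map (MulAut.conj c).toMonoidHom) :=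
    ⟨a, ⟨g, hg.1, hs⟩⟩
  obtain ⟨b, hb⟩ := pow_aff s a (eOf G x)
  show IsTr x (g ^ eOf G x)
  rw [← isTr_conj_iff c, hc, ← conj_pow, hs, hb, isTr_infty_aff, (invariants G hc).2.2]
  exact congrArg Subtype.val (pow_card_eq_one' (x := (⟨s, hmem⟩ : mult (G.map (MulAut.conj c).toMonoidHom))))

/-- Elements with a second fixed point have order dividing `eOf`. -/
theorem orderOf_dvd_eOf {x y : X2} {g : P2} (hg : g ∈ st G x) (hy : g • y = y) (hxy : y ≠ x) :
    orderOf g ∣ eOf G x := by
  refine orderOf_dvd_of_pow_eq_one (((pow_eOf_mem_tr G hg).2.2 y ?_).resolve_left hxy)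
  exact MulAction.mem_stabilizer_iff.1 ((MulAction.stabilizer P2 y).pow_mem hy _)

/-- Translations have order dividing the characteristic. -/
theorem pow_char_of_isTr {p : ℕ} [CharP K p] {x : X2} {g : P2} (hg : IsTr x g) : g ^ p = 1 := by
  obtain ⟨c, hc⟩ := exists_to_infty x
  have hg' := isTr_conj c hg
  rw [hc] at hg'
  obtain ⟨s, a, hs⟩ := exists_aff _ hg'.1
  rw [hs, isTr_infty_aff] at hg'
  have : (c * g * c⁻¹) ^ p = 1 := by
    rw [hs, hg', aff_pow, CharP.cast_eq_zero, zero_mul, aff_one]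
  rwa [conj_pow, conj_eq_one_iff] at this

theorem not_dvd_eOf {p : ℕ} [Fact p.Prime] [CharP K p] (x : X2) : ¬ p ∣ eOf G x := by
  obtain ⟨c, hc⟩ := exists_to_infty x
  haveI : Finite ↥(G.map (MulAut.conj c).toMonoidHom) :=
    Finite.of_equiv _ (G.equivMapOfInjective _ (MulAut.conj c).injective).toEquiv
  rw [(invariants G hc).2.2]
  intro hd
  obtain ⟨s, hs⟩ := exists_prime_orderOf_dvd_card' p hd
  have h1 : ((s : Kˣ) : K) ^ p = 1 := by
    rw [← Units.val_pow_eq_pow_val, ← Subgroup.coe_pow, ← hs, pow_orderOf_eq_one, Subgroup.coe_one,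
      Units.val_one]
  have h2 : (((s : Kˣ) : K) - 1) ^ p = 0 := by rw [sub_pow_char, h1, one_pow, sub_self]
  have : s = 1 := Subtype.ext (Units.ext (sub_eq_zero.1 (pow_eq_zero_iff (Fact.out : p.Prime).ne_zero |>.1 h2)))
  rw [this, orderOf_one] at hs
  exact (Fact.out : p.Prime).one_lt.ne hs

/-- A stabiliser without translations is cyclic. -/
theorem isCyclic_st {x : X2} (hq : qOf G x = 1) : IsCyclic (st G x) := by
  obtain ⟨c, hc⟩ := exists_to_infty x
  set G' := G.map (MulAut.conj c).toMonoidHom with hG'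
  haveI : Finite ↥G' := Finite.of_equiv _ (G.equivMapOfInjective _ (MulAut.conj c).injective).toEquiv
  have hA : Nat.card (transl G') = 1 := by rw [← (invariants G hc).1, hq]
  have hu : ∀ g : st G x, ∃! s : Kˣ, ∃ a, c * (g : P2) * c⁻¹ = aff s a := fun g => by
    obtain ⟨s, a, hs⟩ := exists_aff (c * (g : P2) * c⁻¹) (by
      rw [← hc, mul_smul, mul_smul, inv_smul_smul, show (g : P2) • x = x from g.2.2])
    exact ⟨s, ⟨a, hs⟩, fun t ⟨b, hb⟩ => (aff_eq_iff.1 (hb.symm.trans hs)).1⟩
  choose χ hχ hχu using hu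
  let φ : st G x →* Kˣ :=
    { toFun := χ
      map_one' := (hχu 1 1 ⟨0, by rw [Subgroup.coe_one, mul_one, mul_inv_cancel, aff_one]⟩).symm
      map_mul' := fun g k => (hχu (g * k) _ (by
        obtain ⟨a, ha⟩ := hχ g
        obtain ⟨b, hb⟩ := hχ k
        exact ⟨_, by
          rw [Subgroup.coe_mul, ← aff_mul, ← ha, ← hb]; group⟩)).symm }
  refine isCyclic_of_subgroup_isDomain ((Units.coeHom K).comp φ) (Units.val_injective.comp ?_)
  rw [injective_iff_map_eq_one]
  intro g hg
  obtain ⟨a, ha⟩ := hχ g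
  rw [show χ g = 1 from hg] at ha
  have hmem : a ∈ transl G' := ⟨g, g.2.1, ha⟩
  have ha0 : a = 0 := by
    haveI := (Nat.card_eq_one_iff_unique.1 hA).1
    exact congrArg Subtype.val (Subsingleton.elim (⟨a, hmem⟩ : transl G') 0)
  rw [ha0, aff_one, conj_eq_one_iff] at ha
  exact Subtype.ext ha

end Cfsg.Agent.Classical.Dickson
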