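import Cfsg.Agent.Lib.Classical.DicksonMaximal
import Cfsg.Agent.Lib.Classical.FieldFour

/-!
Element orders, obstructions for Borel and dihedral subgroups and the passage between abstract
`PSL₂(F)`, `PGL₂(F)` and their copies over the algebraic closure.
-/

set_option autoImplicit false
set_option linter.style.haveILetI false
set_option linter.unusedSectionVars false

open scoped MatrixGroups Pointwise Classical commutatorElement
open Matrix OnePoint

noncomputable section

namespace Cfsg.Agent.Classical.Dickson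

section general

/-- A finite field is isomorphic to one in the lowest universe. -/
theorem exists_type_field (L : Type*) [Field L] [Finite L] :
    ∃ (F₀ : Type) (_ : Field F₀) (_ : Fintype F₀), Nonempty (L ≃+* F₀) ∧ Fintype.card F₀ = Nat.card L := by
  haveI := Fintype.ofFinite L
  obtain ⟨r, hr⟩ := CharP.exists L
  obtain ⟨s, hrp, hs⟩ := FiniteField.card L r
  haveI : Fact r.Prime := ⟨hrp⟩
  haveI := Fintype.ofFinite (GaloisField r s)
  have hc : Fintype.card (GaloisField r s) = Fintype.card L := by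
    rw [← Nat.card_eq_fintype_card, GaloisField.card r s (by exact_mod_cast s.ne_zero), hs]
  exact ⟨GaloisField r s, inferInstance, inferInstance, ⟨FiniteField.ringEquivOfCardEq hc.symm⟩,
    by rw [hc, Nat.card_eq_fintype_card]⟩

variable {K : Type*} [Field K] [DecidableEq K]

local notation "P2" => PGL(2, K)
local notation "X2" => OnePoint K

/-- Double commutators in the stabiliser of a point vanish. -/
theorem double_comm {x : X2} {a b c d : P2} (ha : a • x = x) (hb : b • x = x) (hc : c • x = x)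
    (hd : d • x = x) : ⁅⁅a, b⁆, ⁅c, d⁆⁆ = 1 := by
  obtain ⟨m, hm⟩ := exists_to_infty x
  have key : ∀ g h : P2, g • x = x → h • x = x → ∃ t : K, m * ⁅g, h⁆ * m⁻¹ = aff 1 t := by
    intro g h hg hh
    obtain ⟨s, a, hs⟩ := exists_aff (m * g * m⁻¹) (by rw [← hm, mul_smul, mul_smul, inv_smul_smul, hg])
    obtain ⟨t, b, ht⟩ := exists_aff (m * h * m⁻¹) (by rw [← hm, mul_smul, mul_smul, inv_smul_smul, hh])
    refine ⟨(s : K) * b + a - t * a - b, ?_⟩
    have e : m * ⁅g, h⁆ * m⁻¹ = ⁅m * g * m⁻¹, m * h * m⁻¹⁆ := by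
      simp only [commutatorElement_def]; group
    rw [e, hs, ht, commutatorElement_def, mul_inv_eq_iff_eq_mul, mul_inv_eq_iff_eq_mul, aff_mul,
      aff_mul, aff_mul, one_mul, mul_comm s t, Units.val_one, one_mul, aff_eq_iff]
    exact ⟨rfl, by ring⟩
  obtain ⟨t, ht⟩ := key a b ha hb
  obtain ⟨u, hu⟩ := key c d hc hd
  have e : m * ⁅⁅a, b⁆, ⁅c, d⁆⁆ * m⁻¹ = ⁅m * ⁅a, b⁆ * m⁻¹, m * ⁅c, d⁆ * m⁻¹⁆ := by
    simp only [commutatorElement_def]; group
  rw [ht, hu, commutatorElement_eq_one_iff_commute.2 (show Commute (aff 1 t) (aff 1 u) by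
    show _ = _
    rw [aff_mul, aff_mul, one_mul, Units.val_one, one_mul, one_mul, add_comm]), conj_eq_one_iff] at e
  exact e

/-- Outside characteristic two a point stabiliser has no Klein four subgroup. -/
theorem invol_eq_of_fixed (h2 : (2 : K) ≠ 0) {x : X2} {g h : P2} (hgx : g • x = x) (hhx : h • x = x)
    (hg : g * g = 1) (hh : h * h = 1) (hc : g * h = h * g) (hg1 : g ≠ 1) (hh1 : h ≠ 1) : g = h := by
  obtain ⟨m, hm⟩ := exists_to_infty x
  obtain ⟨s, a, hs⟩ := exists_aff (m * g * m⁻¹) (by rw [← hm, mul_smul, mul_smul, inv_smul_smul, hgx])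
  obtain ⟨t, b, ht⟩ := exists_aff (m * h * m⁻¹) (by rw [← hm, mul_smul, mul_smul, inv_smul_smul, hhx])
  have key : ∀ (k : P2) (r : Kˣ) (c : K), m * k * m⁻¹ = aff r c → k * k = 1 → k ≠ 1 → (r : K) = -1 := by
    intro k r c hk hkk hk1
    have : aff r c * aff r c = 1 := by
      rw [← hk, show m * k * m⁻¹ * (m * k * m⁻¹) = m * (k * k) * m⁻¹ by group, hkk, mul_one, mul_inv_cancel]
    rw [aff_mul, aff_eq_one_iff] at this
    rcases mul_self_eq_one_iff.1 (show (r : K) * r = 1 by rw [← Units.val_mul, this.1, Units.val_one]) with e | e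
    · exfalso
      refine hk1 ((conj_eq_one_iff (a := m)).1 ?_)
      rw [hk, aff_eq_one_iff]
      refine ⟨Units.ext e, ?_⟩
      have h' := this.2
      rw [e, one_mul] at h'
      exact (mul_eq_zero.1 (show (2 : K) * c = 0 by linear_combination h')).resolve_left h2
    · exact e
  have hs1 := key g s a hs hg hg1
  have ht1 := key h t b ht hh hh1
  have hst : s = t := Units.ext (hs1.trans ht1.symm)
  have e : aff s a * aff t b = aff t b * aff s a := by
    rw [← hs, ← ht, show m * g * m⁻¹ * (m * h * m⁻¹) = m * (g * h) * m⁻¹ by group, hc]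
    group
  rw [aff_mul, aff_mul, aff_eq_iff] at e
  have h' := e.2
  rw [hs1, ht1] at h'
  have hab : a = b := mul_left_cancel₀ h2 (by linear_combination h')
  rw [hab, hst, ← ht] at hs
  exact mul_left_cancel (mul_right_cancel hs)

/-- Translations at one point commute. -/
theorem isTr_comm {x : X2} {g h : P2} (hg : IsTr x g) (hh : IsTr x h) : g * h = h * g := by
  obtain ⟨m, hm⟩ := exists_to_infty x
  have hg' := isTr_conj m hg
  have hh' := isTr_conj m hh
  rw [hm] at hg' hh'
  obtain ⟨s, a, hs⟩ := exists_aff _ hg'.1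
  obtain ⟨t, b, ht⟩ := exists_aff _ hh'.1
  rw [hs, isTr_infty_aff] at hg'
  rw [ht, isTr_infty_aff] at hh'
  have e : aff s a * aff t b = aff t b * aff s a := by
    rw [hg', hh', aff_mul, aff_mul, one_mul, Units.val_one, one_mul, one_mul, add_comm]
  rw [← hs, ← ht, show m * g * m⁻¹ * (m * h * m⁻¹) = m * (g * h) * m⁻¹ by group,
    show m * h * m⁻¹ * (m * g * m⁻¹) = m * (h * g) * m⁻¹ by group] at e
  exact mul_left_cancel (mul_right_cancel e)

/-- In a dihedral group an element of order two times one of order three has order two or they commute. -/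
theorem dihedral_two_three {n : ℕ} (a b : DihedralGroup n) (hb : orderOf b = 3) :
    (a * b) ^ 2 = 1 ∨ a * b = b * a := by
  cases b with
  | sr i => rw [DihedralGroup.orderOf_sr] at hb; omega
  | r i =>
    cases a with
    | r j => right; rw [DihedralGroup.r_mul_r, DihedralGroup.r_mul_r, add_comm]
    | sr j => left; rw [DihedralGroup.sr_mul_r, pow_two, DihedralGroup.sr_mul_self]

/-- Elements of order above two of a dihedral group commute. -/
theorem dihedral_comm {n : ℕ} (a b : DihedralGroup n) (ha : orderOf a ≠ 2) (hb : orderOf b ≠ 2) :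
    a * b = b * a := by
  cases b with
  | sr i => exact absurd (DihedralGroup.orderOf_sr i) hb
  | r i =>
    cases a with
    | r j => rw [DihedralGroup.r_mul_r, DihedralGroup.r_mul_r, add_comm]
    | sr j => exact absurd (DihedralGroup.orderOf_sr j) ha

/-- The orders above two of a dihedral group divide the order of its rotations. -/
theorem dihedral_order_dvd {n : ℕ} (a : DihedralGroup n) (ha : orderOf a ≠ 2) : orderOf a ∣ n := by
  cases a with
  | sr i => exact absurd (DihedralGroup.orderOf_sr i) ha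
  | r i =>
    refine orderOf_dvd_of_pow_eq_one ?_
    rw [DihedralGroup.r_pow, ZMod.natCast_self, mul_zero]
    rfl

end general

variable {F : Type*} [Field F] [Fintype F]

local notation "KK" => AlgebraicClosure F

variable {G₀ : Subgroup (PGL(2, AlgebraicClosure F))} [Finite G₀] {e e' : ℕ}

theorem order_cases (p : ℕ) [Fact p.Prime] [CharP F p] (A : Ambient G₀ (Fintype.card F) e e')
    {g : PGL(2, KK)} (hg : g ∈ G₀) : orderOf g ∣ p ∨ orderOf g ∣ e ∨ orderOf g ∣ e' := by
  haveI : CharP KK p := charP_of_injective_algebraMap (algebraMap F KK).injective p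
  by_cases hg1 : g = 1
  · left; rw [hg1, orderOf_one]; exact one_dvd _
  obtain ⟨x, hx⟩ := exists_fixed g
  rcases orderOf_cases G₀ (p := p) (x := x) ⟨hg, hx⟩ with ⟨h, -⟩ | h
  · exact Or.inl h
  · rcases A.split.1 x ⟨g, hg, hg1, hx⟩ with ⟨-, -, he⟩ | ⟨-, -, he⟩ <;> rw [he] at h
    · exact Or.inr (Or.inl h)
    · exact Or.inr (Or.inr h)

theorem coprime_char (p : ℕ) [Fact p.Prime] [CharP F p] (A : Ambient G₀ (Fintype.card F) e e') :
    ¬ p ∣ e ∧ ¬ p ∣ e' := by
  haveI : CharP KK p := charP_of_injective_algebraMap (algebraMap F KK).injective p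
  obtain ⟨-, -, x, hxs, hxo⟩ := A.split
  obtain ⟨-, -, he⟩ := (A.split.1 x hxs).resolve_left fun h => hxo h.1
  exact ⟨A.he ▸ not_dvd_eOf G₀ _, he ▸ not_dvd_eOf G₀ x⟩

/-- The two tori contain elements generating them. -/
theorem exists_order_e (A : Ambient G₀ (Fintype.card F) e e') : ∃ g ∈ G₀, orderOf g = e := by
  have hO : 1 < Nat.card (orb G₀ (∞ : OnePoint KK)) := by rw [A.ho]; have := A.two_le; omega
  obtain ⟨y, hy, hyx⟩ : ∃ y ∈ orb G₀ (∞ : OnePoint KK), y ≠ (∞ : OnePoint KK) := by
    haveI := (finite_orb G₀ (∞ : OnePoint KK)).to_subtype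
    rw [Nat.card_coe_set_eq, Set.one_lt_ncard_iff_nontrivial] at hO
    exact hO.exists_ne _
  set T := st G₀ (∞ : OnePoint KK) ⊓ MulAction.stabilizer (PGL(2, KK)) y with hT
  have hq : qOf T (∞ : OnePoint KK) = 1 := by
    unfold qOf
    rw [Subgroup.card_eq_one, eq_bot_iff]
    rintro h ⟨⟨-, h2⟩, htr⟩
    exact Subgroup.mem_bot.2 ((htr.2 y h2).resolve_left hyx)
  have hst : st T (∞ : OnePoint KK) = T := le_antisymm (st_le _ _) fun h hh => ⟨hh, hh.1.2⟩
  haveI : Finite T := Finite.of_injective _ (Subgroup.inclusion_injective (inf_le_left.trans (st_le G₀ _)))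
  haveI : IsCyclic T := hst ▸ isCyclic_st T hq
  obtain ⟨⟨g, hg⟩, hgo⟩ := IsCyclic.exists_ofOrder_eq_natCard (α := T)
  rw [Subgroup.orderOf_mk, (A.card_pair (self_mem_orb _ _) hy hyx).1] at hgo
  exact ⟨g, hg.1.1, hgo⟩

theorem exists_order_e' (A : Ambient G₀ (Fintype.card F) e e') : ∃ g ∈ G₀, orderOf g = e' := by
  obtain ⟨-, -, x, hxs, hxo⟩ := A.split
  obtain ⟨-, hq, he⟩ := (A.split.1 x hxs).resolve_left fun h => hxo h.1
  haveI := isCyclic_st G₀ hq
  obtain ⟨⟨g, hg⟩, hgo⟩ := IsCyclic.exists_ofOrder_eq_natCard (α := st G₀ x)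
  rw [Subgroup.orderOf_mk, card_st, hq, he, one_mul] at hgo
  exact ⟨g, hg.1, hgo⟩

theorem orderOf_le_pglF {g : PGL(2, KK)} (hg : g ∈ pglF F) : orderOf g ≤ Fintype.card F + 1 := by
  obtain ⟨p, hp⟩ := CharP.exists F
  obtain ⟨s, hpp, hs⟩ := FiniteField.card F p
  haveI : Fact p.Prime := ⟨hpp⟩
  have hq := Fintype.one_lt_card (α := F)
  rcases order_cases p (ambient_pglF (F := F)) hg with h | h | h
  · have h1 := Nat.le_of_dvd hpp.pos h
    have h2 : p ≤ p ^ (s : ℕ) := Nat.le_self_pow (by exact_mod_cast s.ne_zero) p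
    omega
  · have h1 := Nat.le_of_dvd (by omega) h
    omega
  · exact Nat.le_of_dvd (by omega) h

/-- The subgroups of prime power order in the characteristic are abelian. -/
theorem pGroup_comm (p : ℕ) [Fact p.Prime] [CharP F p] (A : Ambient G₀ (Fintype.card F) e e')
    {P : Subgroup (PGL(2, KK))} (hP : P ≤ G₀) (hp : IsPGroup p P) {a b : PGL(2, KK)} (ha : a ∈ P)
    (hb : b ∈ P) : a * b = b * a := by
  haveI : CharP KK p := charP_of_injective_algebraMap (algebraMap F KK).injective p
  haveI : Finite P := Finite.of_injective _ (Subgroup.inclusion_injective hP)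
  by_cases hnt : P = ⊥
  · rw [hnt, Subgroup.mem_bot] at ha hb
    rw [ha, hb]
  haveI : Nontrivial P := (Subgroup.nontrivial_iff_ne_bot P).2 hnt
  haveI := hp.center_nontrivial
  obtain ⟨⟨⟨z, hzP⟩, hzc⟩, hz1⟩ := exists_ne (1 : Subgroup.center P)
  have hz1' : z ≠ 1 := fun h => hz1 (Subtype.ext (Subtype.ext h))
  have htr : ∀ g ∈ P, ∀ x, g • x = x → g ∈ tr G₀ x := by
    intro g hg x hx
    by_cases hg1 : g = 1
    · rw [hg1]; exact one_mem _
    rcases orderOf_cases G₀ (p := p) (x := x) ⟨hP hg, hx⟩ with ⟨-, h⟩ | h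
    · exact h
    · exfalso
      obtain ⟨k, hk⟩ := hp ⟨g, hg⟩
      have hd : orderOf g ∣ p ^ k := orderOf_dvd_of_pow_eq_one (congrArg Subtype.val hk)
      refine hg1 (orderOf_eq_one_iff.1 (Nat.eq_one_of_dvd_coprimes ?_ hd h))
      exact Nat.Coprime.pow_left k ((Nat.Prime.coprime_iff_not_dvd Fact.out).2 (not_dvd_eOf G₀ x))
  obtain ⟨x, hx⟩ := exists_fixed z
  have hzt := (htr z hzP x hx).2
  have hfix : ∀ g ∈ P, g • x = x := by
    intro g hg
    have hc : g * z = z * g := congrArg Subtype.val (Subgroup.mem_center_iff.1 hzc ⟨g, hg⟩)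
    exact (hzt.2 (g • x) (by rw [← mul_smul, ← hc, mul_smul, hx])).resolve_right hz1'
  exact isTr_comm (htr a ha x (hfix a ha)).2 (htr b hb x (hfix b hb)).2

omit [Finite ↥G₀]

/-- A maximal subgroup of `PSL₂(F)` inside `PGL₂` of the algebraic closure. -/
theorem psl_max {M : Subgroup (Matrix.ProjectiveSpecialLinearGroup (Fin 2) F)} (hM : IsCoatom M) :
    IsMax (pslF F) (M.map emb) ∧ ¬ pslF F ≤ M.map emb ∧ Nat.card (M.map emb) = Nat.card M ∧
      Nonempty (M ≃* M.map emb) := by
  have h := isMax_map (F := F) emb emb_injective hM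
  exact ⟨h, fun hle => h.2.1 (le_antisymm h.1 hle), Subgroup.card_map_of_injective emb_injective,
    ⟨M.equivMapOfInjective _ emb_injective⟩⟩

/-- A maximal subgroup of the range of an embedding comes from a maximal subgroup. -/
theorem exists_coatom {G : Type*} [Group G] (f : G →* PGL(2, KK)) (hf : Function.Injective f)
    {M : Subgroup (PGL(2, KK))} (hM : IsMax f.range M) :
    ∃ H : Subgroup G, IsCoatom H ∧ H.map f = M ∧ Nonempty (H ≃* M) := by
  have he : (M.comap f).map f = M := Subgroup.map_comap_eq_self hM.1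
  refine ⟨M.comap f, isCoatom_of_isMax f hf (by rw [he]; exact hM), he, ?_⟩
  exact ⟨((M.comap f).equivMapOfInjective f hf).trans (MulEquiv.subgroupCongr he)⟩

/-- A proper subgroup lies in a maximal one. -/
theorem exists_isMax {H : Subgroup (PGL(2, KK))} [Finite G₀] (hH : H ≤ G₀) (hne : H ≠ G₀) :
    ∃ M, IsMax G₀ M ∧ H ≤ M := by
  rcases eq_top_or_exists_le_coatom (H.subgroupOf G₀) with h | ⟨M, hM, hle⟩
  · exact absurd (le_antisymm hH (Subgroup.subgroupOf_eq_top.1 h)) hne
  · refine ⟨M.map G₀.subtype, ?_, fun x hx => ⟨⟨x, hH hx⟩, hle hx, rfl⟩⟩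
    have := isMax_map (F := F) G₀.subtype Subtype.val_injective hM
    rwa [Subgroup.range_subtype] at this

/-- Maximality from the list of maximal overgroups. -/
theorem isMax_of_forall {H : Subgroup (PGL(2, KK))} [Finite G₀] (hH : H ≤ G₀) (hne : H ≠ G₀)
    (h : ∀ M, IsMax G₀ M → H ≤ M → Nat.card M = Nat.card H) : IsMax G₀ H := by
  obtain ⟨M, hM, hle⟩ := exists_isMax hH hne
  haveI : Finite M := Finite.of_injective _ (Subgroup.inclusion_injective hM.1)
  obtain rfl : H = M := Subgroup.eq_of_le_of_card_ge hle (h M hM hle).le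
  exact hM

theorem not_psl_le_of_isMax {M : Subgroup (PGL(2, KK))} (hM : IsMax (pslF F) M) : ¬ pslF F ≤ M :=
  fun h => hM.2.1 (le_antisymm hM.1 h)

end Cfsg.Agent.Classical.Dickson
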