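import Cfsg.Agent.Lib.Classical.WittDecomp
import Mathlib.LinearAlgebra.Matrix.SchurComplement
import Mathlib.LinearAlgebra.Matrix.SesquilinearForm

/-!
Discriminants of quadratic forms and spinor norms of products of reflections.
-/

set_option autoImplicit false
set_option linter.style.haveILetI false

open Module QuadraticMap

namespace Cfsg.Agent.Classical.Disc

section disc

variable {F V : Type*} [Field F] [AddCommGroup V] [Module F V] (Q : QuadraticForm F V)

/-- The discriminant in a family of vectors. -/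
def disc {ι : Type*} [Fintype ι] [DecidableEq ι] (b : ι → V) : F :=
  (Matrix.of fun i j : ι => polar Q (b i) (b j)).det

theorem disc_change {ι κ : Type*} [Fintype ι] [DecidableEq ι] [Fintype κ] [DecidableEq κ]
    (b : Basis ι F V) (b' : Basis κ F V) : ∃ c : F, c ≠ 0 ∧ disc Q b = c ^ 2 * disc Q b' := by
  let e : ι ≃ κ := b.indexEquiv b'
  let b'' := b.reindex e
  have h1 : disc Q b'' = disc Q b := by
    rw [disc, disc, ← Matrix.det_submatrix_equiv_self e (Matrix.of fun i j : κ => polar Q (b'' i) (b'' j))]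
    congr 1
    ext i j
    simp [b'']
  have h3 := LinearMap.toMatrix₂_mul_basis_toMatrix b' b' b'' b'' (polarBilin Q)
  refine ⟨(b'.toMatrix b'').det, ?_, ?_⟩
  · intro h
    have h4 := congrArg Matrix.det (b'.toMatrix_mul_toMatrix_flip b'')
    rw [Matrix.det_mul, h, zero_mul, Matrix.det_one] at h4
    exact zero_ne_one h4
  · rw [← h1]
    have hg : ∀ c : Basis κ F V, disc Q c = (LinearMap.toMatrix₂ c c (polarBilin Q)).det := fun c => by
      rw [disc]; congr 1; ext i j; simp [LinearMap.toMatrix₂_apply]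
    rw [hg, hg, ← h3, Matrix.det_mul, Matrix.det_mul, Matrix.det_transpose]
    ring

theorem isSquare_disc_iff {ι κ : Type*} [Fintype ι] [DecidableEq ι] [Fintype κ] [DecidableEq κ]
    (b : Basis ι F V) (b' : Basis κ F V) : IsSquare (disc Q b) ↔ IsSquare (disc Q b') := by
  obtain ⟨c, hc, e⟩ := disc_change Q b b'
  rw [e]
  constructor
  · rintro ⟨s, hs⟩
    exact ⟨s / c, by field_simp; linear_combination hs⟩
  · rintro ⟨s, hs⟩
    exact ⟨c * s, by rw [hs]; ring⟩

theorem disc_orth {ι : Type*} [Fintype ι] [DecidableEq ι] (b : ι → V) (h : ∀ i j, i ≠ j → polar Q (b i) (b j) = 0) :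
    disc Q b = 2 ^ Fintype.card ι * ∏ i, Q (b i) := by
  have e : (Matrix.of fun i j : ι => polar Q (b i) (b j)) = Matrix.diagonal fun i => 2 * Q (b i) := by
    ext i j
    by_cases hij : i = j
    · subst hij; rw [Matrix.of_apply, Matrix.diagonal_apply_eq, polar_self, two_nsmul, two_mul]
    · rw [Matrix.of_apply, Matrix.diagonal_apply_ne _ hij, h i j hij]
  rw [disc, e, Matrix.det_diagonal, Finset.prod_mul_distrib, Finset.prod_const, Finset.card_univ]

end disc

variable {F : Type*} [Field F]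

theorem disc_QP (m : ℕ) : disc (PlusMax.QP (F := F) (m := m)) (Pi.basisFun F _) = (-1) ^ m := by
  have e : (Matrix.of fun i j => polar (PlusMax.QP (F := F) (m := m)) (Pi.basisFun F _ i) (Pi.basisFun F _ j)) =
      Matrix.fromBlocks 0 1 1 0 := by
    ext i j
    rcases i with i | i <;> rcases j with j | j <;> simp [PlusMax.polar_QP, Pi.single_apply, Matrix.one_apply, eq_comm]
  rw [disc, e]
  have h : Matrix.fromBlocks (1 : Matrix (Fin m) (Fin m) F) (1 : Matrix (Fin m) (Fin m) F) (0 : Matrix (Fin m) (Fin m) F) (1 : Matrix (Fin m) (Fin m) F) * Matrix.fromBlocks (0 : Matrix (Fin m) (Fin m) F) 1 1 0 = Matrix.fromBlocks 1 1 1 0 := by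
    rw [Matrix.fromBlocks_multiply]; simp
  have h' := congrArg Matrix.det h
  rw [Matrix.det_mul, Matrix.det_fromBlocks_zero₂₁, Matrix.det_one, one_mul, one_mul, Matrix.det_fromBlocks_one₁₁,
    mul_one, zero_sub, Matrix.det_neg, Matrix.det_one, mul_one, Fintype.card_fin] at h'
  exact h'

theorem disc_QM (k : ℕ) (a b : F) :
    disc (WittDec.QM k a b) (Pi.basisFun F _) = (-1) ^ k * (4 * b - a ^ 2) := by
  have e : (Matrix.of fun i j => polar (WittDec.QM k a b) (Pi.basisFun F _ i) (Pi.basisFun F _ j)) =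
      Matrix.fromBlocks (Matrix.of fun i j => polar (PlusMax.QP (F := F) (m := k)) (Pi.basisFun F _ i) (Pi.basisFun F _ j))
        0 0 !![2, a; a, 2 * b] := by
    ext i j
    rcases i with i | i <;> rcases j with j | j <;>
      simp [polar, WittDec.QM_apply, Cfsg.quadFormMinus, PlusMax.QP_apply, Cfsg.quadFormPlus, Pi.single_apply]
    fin_cases i <;> fin_cases j <;> simp <;> ring
  rw [disc, e, Matrix.det_fromBlocks_zero₂₁, ← disc, disc_QP, Matrix.det_fin_two_of]
  ring

section parity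

variable [Fintype F]

theorem isSquare_neg_one_pow (h2 : (2 : F) ≠ 0) (m : ℕ) :
    IsSquare ((-1 : F) ^ m) ↔ (Even m ∨ Fintype.card F % 4 = 1) := by
  have hodd := FiniteField.odd_card_of_char_ne_two (Refl.ringChar_ne_two h2)
  rcases Nat.even_or_odd m with hm | hm
  · rw [hm.neg_one_pow]; exact iff_of_true IsSquare.one (Or.inl hm)
  · rw [hm.neg_one_pow, FiniteField.isSquare_neg_one_iff]
    simp only [Nat.not_even_iff_odd.2 hm, false_or]
    omega

theorem plane_nonsquare (a b : F) (h2 : (2 : F) ≠ 0)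
    (hab : ∀ z₁ z₂ : F, z₁ ^ 2 + a * z₁ * z₂ + b * z₂ ^ 2 = 0 → z₁ = 0 ∧ z₂ = 0) : ¬ IsSquare (-(4 * b - a ^ 2)) := by
  rintro ⟨s, hs⟩
  exact neg_ne_zero.2 h2 (hab (a + s) (-2) (by linear_combination -hs)).2

theorem isSquare_disc_QM (h2 : (2 : F) ≠ 0) (k : ℕ) (a b : F)
    (hab : ∀ z₁ z₂ : F, z₁ ^ 2 + a * z₁ * z₂ + b * z₂ ^ 2 = 0 → z₁ = 0 ∧ z₂ = 0) :
    IsSquare (disc (WittDec.QM k a b) (Pi.basisFun F _)) ↔ ¬ (Even (k + 1) ∨ Fintype.card F % 4 = 1) := by
  classical
  rw [disc_QM, ← isSquare_neg_one_pow h2 (k + 1)]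
  have hn := plane_nonsquare a b h2 hab
  have hd : 4 * b - a ^ 2 ≠ 0 := fun e => hn ⟨0, by rw [e, neg_zero, mul_zero]⟩
  have hp : ((-1 : F) ^ (k + 1)) ≠ 0 := pow_ne_zero _ (neg_ne_zero.2 one_ne_zero)
  have e : (-1 : F) ^ k * (4 * b - a ^ 2) = (-1) ^ (k + 1) * (-(4 * b - a ^ 2)) := by rw [pow_succ]; ring
  rw [e, ← quadraticChar_one_iff_isSquare (mul_ne_zero hp (neg_ne_zero.2 hd)), ← quadraticChar_one_iff_isSquare hp, map_mul,
    (quadraticChar_neg_one_iff_not_isSquare).2 hn]
  rcases quadraticChar_dichotomy hp with h | h <;> rw [h] <;> norm_num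

theorem even_half_iff (hodd : Odd (Fintype.card F)) (m : ℕ) :
    Even (m * (Fintype.card F - 1) / 2) ↔ (Even m ∨ Fintype.card F % 4 = 1) := by
  obtain ⟨r, hr⟩ := hodd
  rw [hr, Nat.add_sub_cancel, show m * (2 * r) / 2 = m * r by rw [mul_left_comm, Nat.mul_div_cancel_left _ two_pos], Nat.even_mul]
  constructor
  · rintro (h | ⟨s, hs⟩)
    · exact Or.inl h
    · exact Or.inr (by omega)
  · rintro (h | h)
    · exact Or.inl h
    · exact Or.inr (Nat.even_iff.2 (by omega))

theorem pow_mod_four (hodd : Odd (Fintype.card F)) (m : ℕ) :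
    (Fintype.card F ^ m % 4 = 1 ↔ (Even m ∨ Fintype.card F % 4 = 1)) ∧
    (Fintype.card F ^ m % 4 = 3 ↔ ¬ (Even m ∨ Fintype.card F % 4 = 1)) := by
  obtain ⟨r, hr⟩ := hodd
  have hmod : Fintype.card F ^ m % 4 = if Even m ∨ Fintype.card F % 4 = 1 then 1 else 3 := by
    rw [Nat.pow_mod]
    rcases (by omega : Fintype.card F % 4 = 1 ∨ Fintype.card F % 4 = 3) with h | h <;> rw [h]
    · simp
    · rcases Nat.even_or_odd' m with ⟨j, rfl | rfl⟩ <;> simp [pow_add, pow_mul, Nat.mul_mod, Nat.pow_mod]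
  rw [hmod]
  split_ifs with h <;> simp [h]

theorem two_ne_zero_of_odd (hodd : Odd (Fintype.card F)) : (2 : F) ≠ 0 := by
  intro h2
  have hch : ringChar F = 2 := CharP.ringChar_of_prime_eq_zero Nat.prime_two (by exact_mod_cast h2)
  have := FiniteField.even_card_iff_char_two.1 hch
  obtain ⟨r, hr⟩ := hodd
  omega

end parity

/-- The square-class sign. -/
noncomputable def sgn (x : F) : ℤˣ := by classical exact if IsSquare x then 1 else -1

section spinor

open Refl

variable [Fintype F] {ι : Type} [Fintype ι] [DecidableEq ι] (Q : QuadraticForm F (ι → F))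
variable (hQ : (polarBilin Q).Nondegenerate) (h2 : (2 : F) ≠ 0)

/-- The product of the reflections in a list of anisotropic vectors. -/
noncomputable def reflList : List {v : ι → F // Q v ≠ 0} → O Q
  | [] => 1
  | v :: l => refl Q v.1 v.2 * reflList l

theorem reflList_coe : ∀ l : List {v : ι → F // Q v ≠ 0},
    ((reflList Q l : GL ι F) : Matrix ι ι F) = (l.map fun v => Cfsg.reflectionMatrix ⇑Q v.1).prod
  | [] => rfl
  | v :: l => by rw [List.map_cons, List.prod_cons, ← reflList_coe l]; rfl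

include hQ h2

theorem dickson_reflList : ∀ l : List {v : ι → F // Q v ≠ 0},
    Refl.dickson Q hQ (hex' Q hQ h2) (reflList Q l) = (-1) ^ l.length
  | [] => map_one _
  | v :: l => by
    show Refl.dickson Q hQ _ (refl Q v.1 v.2 * reflList Q l) = _
    rw [map_mul, dickson_refl Q hQ _ v.1 v.2, dickson_reflList l, List.length_cons, pow_succ, mul_comm]

omit hQ in
theorem sgn_mul {x y : F} (hx : x ≠ 0) (hy : y ≠ 0) : sgn (x * y) = sgn x * sgn y := by
  classical
  have h : ∀ z : F, z ≠ 0 → ((sgn z : ℤˣ) : ℤ) = quadraticChar F z := fun z hz => by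
    unfold sgn
    by_cases hs : IsSquare z
    · rw [if_pos hs, (quadraticChar_one_iff_isSquare hz).2 hs]; rfl
    · rw [if_neg hs, (quadraticChar_neg_one_iff_not_isSquare).2 hs]; rfl
  apply Units.ext
  rw [Units.val_mul, h _ (mul_ne_zero hx hy), h _ hx, h _ hy, map_mul]

theorem chi_reflList : ∀ l : List {v : ι → F // Q v ≠ 0},
    chi Q 1 (reflList Q l) = (-1) ^ l.length * sgn ((l.map fun v => Q v.1).prod)
  | [] => by
    show chi Q 1 1 = _
    simp [sgn]
  | v :: l => by
    classical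
    show chi Q 1 (refl Q v.1 v.2 * reflList Q l) = _
    have hs : (∃ a : F, a * a * Q v.1 = 1) ↔ IsSquare (Q v.1) := by
      constructor
      · rintro ⟨a, ha⟩
        have ha0 : a ≠ 0 := fun e => zero_ne_one (by rw [← ha, e]; ring)
        exact ⟨a⁻¹, by field_simp; linear_combination ha⟩
      · rintro ⟨r, hr⟩
        have hr0 : r ≠ 0 := fun e => v.2 (by rw [hr, e, mul_zero])
        exact ⟨r⁻¹, by rw [hr]; field_simp⟩
    have hne : (l.map fun v => Q v.1).prod ≠ 0 := by
      refine List.prod_ne_zero fun h => ?_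
      obtain ⟨w, -, hw⟩ := List.mem_map.1 h
      exact w.2 hw
    rw [map_mul, chi_refl Q h2 one_ne_zero v.1 v.2, chi_reflList l, List.map_cons, List.prod_cons,
      sgn_mul h2 v.2 hne, List.length_cons, pow_succ]
    by_cases h : IsSquare (Q v.1)
    · rw [if_pos (hs.2 h)]; simp [sgn, h]; try ac_rfl
    · rw [if_neg (fun e => h (hs.1 e))]; simp [sgn, h]; try ac_rfl

theorem reflList_mem_commutator (hn : 2 ≤ Fintype.card ι) (l : List {v : ι → F // Q v ≠ 0}) :
    reflList Q l ∈ commutator (O Q) ↔ Even l.length ∧ IsSquare ((l.map fun v => Q v.1).prod) := by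
  obtain ⟨u, hu⟩ := represents Q hQ h2 hn one_ne_zero
  obtain ⟨b, hb, hb'⟩ := exists_not_cls h2 (one_ne_zero (α := F))
  obtain ⟨w, hw⟩ := represents Q hQ h2 hn hb
  have hu0 : Q u ≠ 0 := by rw [hu]; exact one_ne_zero
  have hw0 : Q w ≠ 0 := by rw [hw]; exact hb
  rw [← ker_psi Q hQ h2 hu0 hw0 (by rw [hu, hw]; exact hb'), MonoidHom.mem_ker, hu, psi, MonoidHom.prod_apply,
    Prod.mk_eq_one, dickson_reflList Q hQ h2 l, chi_reflList Q hQ h2 l]
  generalize (l.map fun v => Q v.1).prod = P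
  unfold sgn
  rcases Nat.even_or_odd l.length with h | h
  · rw [h.neg_one_pow, one_mul]
    split_ifs with hs
    · simp [h, hs]
    · simp [hs]
  · rw [h.neg_one_pow]
    simp [Nat.not_even_iff_odd.2 h]

omit h2 in
theorem exists_neg_one (h2 : (2 : F) ≠ 0) : ∃ (g : O Q) (b : Basis ι F (ι → F)) (l : List {v : ι → F // Q v ≠ 0}),
    ((g : GL ι F) : Matrix ι ι F) = -1 ∧ g = reflList Q l ∧ l.length = Fintype.card ι ∧
    (∀ i j, i ≠ j → polar Q (b i) (b j) = 0) ∧ (l.map fun v => Q v.1).prod = ∏ i, Q (b i) := by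
  haveI : Invertible (2 : F) := invertibleOfNonzero h2
  obtain ⟨b0, hb0⟩ := LinearMap.BilinForm.exists_orthogonal_basis (K := F) (B := polarBilin Q)
    ⟨fun x y => polar_comm (⇑Q) x y⟩
  let b := b0.reindex (((finCongr (finrank_pi F))).trans (Fintype.equivFin ι).symm)
  have hb : ∀ i j, i ≠ j → polar Q (b i) (b j) = 0 := fun i j hij => by
    simp only [b, Basis.reindex_apply]
    exact hb0 fun e => hij ((Equiv.injective _) e)
  have hne : ∀ i, Q (b i) ≠ 0 := fun i e => b.ne_zero i (hQ.1 _ fun y => by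
    have hz : polarBilin Q (b i) = 0 := b.ext fun j => by
      show polar Q (b i) (b j) = 0
      by_cases hij : i = j
      · subst hij; rw [WittExt.polar_self_eq, e, mul_zero]
      · exact hb i j hij
    rw [hz]; rfl)
  let L : List ι := Finset.univ.toList
  let l : List {v : ι → F // Q v ≠ 0} := L.map fun i => ⟨b i, hne i⟩
  have key : ∀ L : List ι, L.Nodup → ∀ j, act Q (reflList Q (L.map fun i => ⟨b i, hne i⟩)) (b j) =
      if j ∈ L then -b j else b j := by
    intro L
    induction L with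
    | nil => intro _ j; simp [reflList, act_one]
    | cons i L ih =>
      intro hnd j
      obtain ⟨hi, hnd'⟩ := List.nodup_cons.1 hnd
      show act Q (refl Q (b i) (hne i) * _) (b j) = _
      rw [act_mul, ih hnd' j]
      by_cases hji : j = i
      · subst hji
        rw [if_neg hi, if_pos List.mem_cons_self, act_refl, WittExt.polar_self_eq]
        have : (Q (b j))⁻¹ * (2 * Q (b j)) = 2 := by field_simp [hne j]
        rw [this, two_smul]; abel
      · have hm : (j ∈ i :: L) ↔ j ∈ L := by simp [hji]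
        by_cases hj : j ∈ L
        · rw [if_pos hj, if_pos (hm.2 hj), act_refl, polar_neg_right, hb i j (Ne.symm hji)]; simp
        · rw [if_neg hj, if_neg (fun e => hj (hm.1 e)), act_refl, hb i j (Ne.symm hji)]; simp
  refine ⟨reflList Q l, b, l, ?_, rfl, by simp [l, L], hb, ?_⟩
  · refine Matrix.toLin'.injective (b.ext fun j => ?_)
    rw [Matrix.toLin'_apply, Matrix.toLin'_apply, Matrix.neg_mulVec, Matrix.one_mulVec]
    exact (key L (Finset.nodup_toList _) j).trans (by simp [L])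
  · simp only [l, L, List.map_map]
    exact Finset.prod_map_toList _ _

theorem neg_one_mem_iff (hn : 2 ≤ Fintype.card ι) (heven : Even (Fintype.card ι)) :
    (∃ g : O Q, g ∈ commutator (O Q) ∧ ((g : GL ι F) : Matrix ι ι F) = -1) ↔
      IsSquare (disc Q (Pi.basisFun F ι)) := by
  obtain ⟨g0, b, l, hg0, hgl, hlen, hb, hprod⟩ := exists_neg_one Q hQ h2
  have hiff : (∃ g : O Q, g ∈ commutator (O Q) ∧ ((g : GL ι F) : Matrix ι ι F) = -1) ↔ g0 ∈ commutator (O Q) := by
    refine ⟨fun ⟨g, hg, he⟩ => ?_, fun h => ⟨g0, h, hg0⟩⟩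
    rwa [show g0 = g from Subtype.ext (Units.ext (hg0.trans he.symm))]
  rw [hiff, hgl, reflList_mem_commutator Q hQ h2 hn, hlen, hprod, isSquare_disc_iff Q (Pi.basisFun F ι) b,
    disc_orth Q b hb]
  obtain ⟨r, hr⟩ := heven
  have h2r : (2 : F) ^ r ≠ 0 := pow_ne_zero _ h2
  constructor
  · rintro ⟨-, s, hs⟩
    exact ⟨2 ^ r * s, by rw [hs, hr, pow_add]; ring⟩
  · rintro ⟨s, hs⟩
    refine ⟨⟨r, hr⟩, s / 2 ^ r, ?_⟩
    rw [hr, pow_add] at hs
    field_simp
    linear_combination hs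

end spinor

section witt

universe uF uV

variable {F : Type uF} [Field F] [Fintype F] {V : Type uV} [AddCommGroup V] [Module F V] [FiniteDimensional F V]

theorem disc_equiv {V' : Type*} [AddCommGroup V'] [Module F V'] (Q : QuadraticForm F V) (Q' : QuadraticForm F V')
    (φ : V' ≃ₗ[F] V) (h : ∀ v, Q (φ v) = Q' v) {ι : Type*} [Fintype ι] [DecidableEq ι] (b : Basis ι F V') :
    disc Q (b.map φ) = disc Q' b := by
  rw [disc, disc]
  congr 1
  ext i j
  simp only [Matrix.of_apply, Basis.map_apply, polar, ← map_add, h]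

theorem exists_singular_iff (Q : QuadraticForm F V) (hQ : (polarBilin Q).Nondegenerate) (h2 : (2 : F) ≠ 0)
    {m : ℕ} (hV : finrank F V = 2 * m) {ι : Type*} [Fintype ι] [DecidableEq ι] (b : Basis ι F V) :
    (∃ W : Submodule F V, finrank F W = m ∧ ∀ w ∈ W, Q w = 0) ↔ IsSquare ((-1) ^ m * disc Q b) := by
  classical
  by_cases h : ∃ W : Submodule F V, finrank F W = m ∧ ∀ w ∈ W, Q w = 0
  · obtain ⟨φ, hφ⟩ := WittDec.exists_equiv_plus Q hQ hV h
    obtain ⟨c, -, e⟩ := disc_change Q b ((Pi.basisFun F _).map φ)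
    refine iff_of_true h ⟨c * (-1) ^ m, ?_⟩
    rw [e, disc_equiv Q (PlusMax.QP (F := F) (m := m)) φ hφ, disc_QP]
    ring
  · refine iff_of_false h ?_
    obtain ⟨hm, ζ, hζ⟩ := WittDec.minus_irreducible Q hQ hV h
    have hab : ∀ z₁ z₂ : F, z₁ ^ 2 + 1 * z₁ * z₂ + ζ * z₂ ^ 2 = 0 → z₁ = 0 ∧ z₂ = 0 := by
      intro z₁ z₂ e
      by_cases hz : z₂ = 0
      · subst hz; exact ⟨by simpa using e, rfl⟩
      · exact absurd (by field_simp; linear_combination e) (hζ (z₁ / z₂))
    obtain ⟨φ, hφ⟩ := WittDec.exists_equiv_minus Q hQ hV h 1 ζ hab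
    obtain ⟨c, hc, e⟩ := disc_change Q b ((Pi.basisFun F _).map φ)
    have hφ' : ∀ v, Q (φ v) = WittDec.QM (m - 1) 1 ζ v := fun v => by rw [WittDec.QM_apply]; exact hφ v
    rw [e, disc_equiv Q (WittDec.QM (m - 1) 1 ζ) φ hφ', disc_QM]
    rintro ⟨s, hs⟩
    apply plane_nonsquare 1 ζ h2 hab
    refine ⟨s / c, ?_⟩
    have hpow : (-1 : F) ^ m * (-1) ^ (m - 1) = -1 := by
      rw [← pow_add, Odd.neg_one_pow ⟨m - 1, by omega⟩]
    field_simp
    linear_combination hs - (c ^ 2 * (4 * ζ - 1 ^ 2)) * hpow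

theorem exists_isotropic_iff (B : LinearMap.BilinForm F V) (hB : B.Nondegenerate) (hS : B.IsSymm) (h2 : (2 : F) ≠ 0)
    {m : ℕ} (hV : finrank F V = 2 * m) {ι : Type*} [Fintype ι] [DecidableEq ι] (b : Basis ι F V) :
    (∃ W : Submodule F V, finrank F W = m ∧ ∀ x ∈ W, ∀ y ∈ W, B x y = 0) ↔
      IsSquare ((-1) ^ m * (LinearMap.toMatrix₂ b b B).det) := by
  classical
  have hpol : ∀ x y, polar (LinearMap.BilinMap.toQuadraticMap B) x y = 2 * B x y := fun x y => by
    rw [LinearMap.BilinMap.polar_toQuadraticMap, hS.eq y x, two_mul]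
  have hnd : (polarBilin (LinearMap.BilinMap.toQuadraticMap B)).Nondegenerate := by
    have h1 : ∀ x, (∀ y, polar (LinearMap.BilinMap.toQuadraticMap B) x y = 0) → x = 0 := fun x hx =>
      hB.1 x fun y => (mul_eq_zero.1 ((hpol x y).symm.trans (hx y))).resolve_left h2
    exact ⟨h1, fun y hy => h1 y fun x => by rw [polar_comm]; exact hy x⟩
  have hd : disc (LinearMap.BilinMap.toQuadraticMap B) b = (2 : F) ^ Fintype.card ι * (LinearMap.toMatrix₂ b b B).det := by
    rw [← Matrix.det_smul, disc]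
    congr 1
    ext i j
    simp [hpol, LinearMap.toMatrix₂_apply]
  have hev : Fintype.card ι = 2 * m := by rw [← finrank_eq_card_basis b, hV]
  have h2m : (2 : F) ^ m ≠ 0 := pow_ne_zero _ h2
  have hiff : (∃ W : Submodule F V, finrank F W = m ∧ ∀ x ∈ W, ∀ y ∈ W, B x y = 0) ↔
      (∃ W : Submodule F V, finrank F W = m ∧ ∀ w ∈ W, (LinearMap.BilinMap.toQuadraticMap B) w = 0) := by
    constructor
    · rintro ⟨W, hW, h⟩; exact ⟨W, hW, fun w hw => h w hw w hw⟩
    · rintro ⟨W, hW, h⟩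
      refine ⟨W, hW, fun x hx y hy => (mul_eq_zero.1 ((hpol x y).symm.trans ?_)).resolve_left h2⟩
      rw [polar, h _ (W.add_mem hx hy), h _ hx, h _ hy]; ring
  rw [hiff, exists_singular_iff _ hnd h2 hV b, hd, hev, pow_mul']
  constructor
  · rintro ⟨s, hs⟩; exact ⟨s / 2 ^ m, by field_simp; linear_combination hs⟩
  · rintro ⟨s, hs⟩; exact ⟨2 ^ m * s, by linear_combination ((2 : F) ^ m) ^ 2 * hs⟩

end witt

end Cfsg.Agent.Classical.Disc
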