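import Mathlib

/-!
The field of nine elements as an explicit computable type.
-/

set_option autoImplicit false

namespace Cfsg.Agent.Classical

/-- The field of nine elements `ZMod 3 [i]`. -/
@[ext] structure F9 where
  re : ZMod 3
  im : ZMod 3
deriving DecidableEq

namespace F9

instance : Fintype F9 :=
  Fintype.ofEquiv (ZMod 3 × ZMod 3) ⟨fun p => ⟨p.1, p.2⟩, fun a => (a.re, a.im), fun _ => rfl, fun _ => rfl⟩

instance instAdd9 : Add F9 := ⟨fun a b => ⟨a.re + b.re, a.im + b.im⟩⟩
instance instMul9 : Mul F9 := ⟨fun a b => ⟨a.re * b.re - a.im * b.im, a.re * b.im + a.im * b.re⟩⟩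
instance instZero9 : Zero F9 := ⟨⟨0, 0⟩⟩
instance instOne9 : One F9 := ⟨⟨1, 0⟩⟩
instance instNeg9 : Neg F9 := ⟨fun a => ⟨-a.re, -a.im⟩⟩
instance instInv9 : Inv F9 := ⟨fun a => ⟨a.re * (a.re * a.re + a.im * a.im), -a.im * (a.re * a.re + a.im * a.im)⟩⟩

theorem add_re (a b : F9) : (a + b).re = a.re + b.re := rfl
theorem add_im (a b : F9) : (a + b).im = a.im + b.im := rfl
theorem mul_re (a b : F9) : (a * b).re = a.re * b.re - a.im * b.im := rfl
theorem mul_im (a b : F9) : (a * b).im = a.re * b.im + a.im * b.re := rfl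

instance instCommRing9 : CommRing F9 where
  add_assoc a b c := F9.ext (add_assoc _ _ _) (add_assoc _ _ _)
  zero_add a := F9.ext (zero_add _) (zero_add _)
  add_zero a := F9.ext (add_zero _) (add_zero _)
  add_comm a b := F9.ext (add_comm _ _) (add_comm _ _)
  neg_add_cancel a := F9.ext (neg_add_cancel _) (neg_add_cancel _)
  mul_assoc a b c := by ext <;> simp only [mul_re, mul_im] <;> ring
  one_mul a := by ext <;> simp [mul_re, mul_im, show (1 : F9).re = 1 from rfl, show (1 : F9).im = 0 from rfl]
  mul_one a := by ext <;> simp [mul_re, mul_im, show (1 : F9).re = 1 from rfl, show (1 : F9).im = 0 from rfl]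
  zero_mul a := by ext <;> simp [mul_re, mul_im, show (0 : F9).re = 0 from rfl, show (0 : F9).im = 0 from rfl]
  mul_zero a := by ext <;> simp [mul_re, mul_im, show (0 : F9).re = 0 from rfl, show (0 : F9).im = 0 from rfl]
  mul_comm a b := by ext <;> simp only [mul_re, mul_im] <;> ring
  left_distrib a b c := by ext <;> simp only [mul_re, mul_im, add_re, add_im] <;> ring
  right_distrib a b c := by ext <;> simp only [mul_re, mul_im, add_re, add_im] <;> ring
  nsmul := nsmulRec
  zsmul := zsmulRec

instance instField9 : Field F9 where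
  exists_pair_ne := ⟨⟨0, 0⟩, ⟨1, 0⟩, by decide⟩
  mul_inv_cancel := by decide +kernel
  inv_zero := by decide +kernel
  nnqsmul := _
  qsmul := _

theorem card_eq : Fintype.card F9 = 9 := by decide +kernel

theorem nonempty_ringEquiv {F : Type*} [Field F] [Fintype F] (hF : Fintype.card F = 9) : Nonempty (F ≃+* F9) :=
  ⟨FiniteField.ringEquivOfCardEq (hF.trans card_eq.symm)⟩

end F9

end Cfsg.Agent.Classical
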