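import Mathlib
import Cfsg.Prelude.Def_GeometricClasses

/-!
Normalisers of extension fields of composite degree lie in normalisers of smaller fields.
-/

set_option autoImplicit false
set_option linter.style.haveILetI false
set_option linter.unusedSectionVars false

open Module Matrix

namespace Cfsg.Agent.Classical.FieldNotMax

variable {F : Type*} [Field F] [Fintype F] {n r : ℕ} (K : Subalgebra F (Matrix (Fin n) (Fin n) F))

local notation "M" => Matrix (Fin n) (Fin n) F

/-- A unipotent element of small rank normalising a field of matrices centralises it. -/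
theorem comm_of_small (hK : ∀ x ∈ K, x ≠ 0 → ∃ y ∈ K, x * y = 1) (g : GL (Fin n) F)
    (hg : g ∈ Cfsg.Geo.subalgebraNormalizer K) (N : M) (hgN : (g : M) = 1 + N) {d : ℕ}
    (hd : finrank F (LinearMap.range (Matrix.toLin' N)) ≤ d) (hn : 2 * d < n) {k : M} (hk : k ∈ K) :
    N * k = k * N := by
  obtain ⟨k', hk'⟩ : ∃ k', k' = (g : M) * k * ((g⁻¹ : GL (Fin n) F) : M) := ⟨_, rfl⟩
  have hk'K : k' ∈ K := hk' ▸ (hg k).1 hk
  have h1 : k' * (g : M) = (g : M) * k := by
    rw [hk', mul_assoc, ← Units.val_mul, inv_mul_cancel, Units.val_one, mul_one]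
  rw [hgN, mul_add, mul_one, add_mul, one_mul] at h1
  have h2 : k - k' = k' * N - N * k := by
    rw [eq_sub_iff_add_eq, sub_add_eq_add_sub, sub_eq_iff_eq_add, add_comm (k' * N)]
    exact h1.symm
  by_cases he : k = k'
  · rw [← he] at h2
    rw [sub_self] at h2
    exact (sub_eq_zero.1 h2.symm).symm
  exfalso
  obtain ⟨y, -, hy⟩ := hK _ (K.sub_mem hk hk'K) (sub_ne_zero.2 he)
  have hsurj : Function.Surjective (Matrix.toLin' (k - k')) := fun v =>
    ⟨y *ᵥ v, by rw [Matrix.toLin'_apply, Matrix.mulVec_mulVec, hy, Matrix.one_mulVec]⟩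
  have hle : LinearMap.range (Matrix.toLin' (k - k')) ≤
      (LinearMap.range (Matrix.toLin' N)).map (Matrix.toLin' k') ⊔ LinearMap.range (Matrix.toLin' N) := by
    rw [h2]
    rintro _ ⟨v, rfl⟩
    rw [map_sub, LinearMap.sub_apply, Matrix.toLin'_apply (k' * N), Matrix.toLin'_apply (N * k),
      ← Matrix.mulVec_mulVec, ← Matrix.mulVec_mulVec, ← Matrix.toLin'_apply k', ← Matrix.toLin'_apply N,
      ← Matrix.toLin'_apply N (k *ᵥ v), sub_eq_add_neg]
    exact Submodule.add_mem _ (Submodule.mem_sup_left ⟨_, ⟨v, rfl⟩, rfl⟩)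
      (Submodule.mem_sup_right (neg_mem ⟨_, rfl⟩))
  rw [LinearMap.range_eq_top.2 hsurj] at hle
  have h3 := Submodule.finrank_mono hle
  rw [finrank_top, Module.finrank_fin_fun] at h3
  have h4 := Submodule.finrank_add_le_finrank_add_finrank
    ((LinearMap.range (Matrix.toLin' N)).map (Matrix.toLin' k')) (LinearMap.range (Matrix.toLin' N))
  have h5 := Submodule.finrank_map_le (Matrix.toLin' k') (LinearMap.range (Matrix.toLin' N))
  omega

/-- The determinant of a unipotent element of exponent two steps. -/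
theorem det_one_add (N : M) (hN : N * N = 0) : (1 + N).det = 1 := by
  obtain ⟨e, hp, -⟩ := FiniteField.card F (ringChar F)
  haveI : Fact (ringChar F).Prime := ⟨hp⟩
  have hpow : ∀ k : ℕ, (1 + N) ^ k = 1 + (k : F) • N := by
    intro k
    induction k with
    | zero => simp
    | succ k ih =>
      rw [pow_succ, ih, mul_add, mul_one, add_mul, one_mul, smul_mul_assoc, hN, smul_zero, add_zero,
        Nat.cast_succ, add_smul, one_smul]
      abel
  have h : (1 + N).det ^ ringChar F = 1 := by
    rw [← Matrix.det_pow, hpow, ringChar.Nat.cast_ringChar, zero_smul, add_zero, Matrix.det_one]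
  haveI : CharP F (ringChar F) := ringChar.charP F
  exact frobenius_inj F (ringChar F) (h.trans (one_pow _).symm)

/-- A unipotent element as an element of the general linear group. -/
noncomputable def unip (N : M) (hN : N * N = 0) : GL (Fin n) F :=
  Matrix.GeneralLinearGroup.mkOfDetNeZero (1 + N) (by rw [det_one_add N hN]; exact one_ne_zero)

theorem unip_coe (N : M) (hN : N * N = 0) : ((unip N hN : GL (Fin n) F) : M) = 1 + N := rfl

theorem unip_mem (N : M) (hN : N * N = 0) : unip N hN ∈ Cfsg.Geo.specialLinear (Fin n) F :=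
  MonoidHom.mem_ker.2 (Units.ext (det_one_add N hN))

/-- A field of matrices normalised by every transvection is scalar. -/
theorem not_all_normalize (hK : Cfsg.Geo.IsFieldSubalgebra r K) (hr : 1 < r) (hn : 3 ≤ n) :
    ∃ g ∈ Cfsg.Geo.specialLinear (Fin n) F, g ∉ Cfsg.Geo.subalgebraNormalizer K := by
  by_contra hcon
  push Not at hcon
  have hsc : K ≤ ⊥ := by
    intro k hk
    have hcomm : Pairwise fun i j => Commute (Matrix.single i j (1 : F)) k := by
      intro i j hij
      set N : M := Matrix.single i j 1 with hN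
      have hN2 : N * N = 0 := by rw [hN]; simp [hij.symm]
      refine comm_of_small K hK.inv (unip N hN2) (hcon _ (unip_mem N hN2)) N rfl (d := 1) ?_ (by omega) hk
      let S : F →ₗ[F] (Fin n → F) := LinearMap.toSpanSingleton F (Fin n → F) (Pi.single i 1)
      have hS : LinearMap.range (Matrix.toLin' N) ≤ LinearMap.range S := by
        rintro _ ⟨v, rfl⟩
        refine ⟨v j, ?_⟩
        rw [Matrix.toLin'_apply, hN, Matrix.single_mulVec]
        funext x
        simp [S, Pi.single_apply, Function.update_apply]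
      exact (Submodule.finrank_mono hS).trans ((LinearMap.finrank_range_le S).trans (Module.finrank_self F).le)
    obtain ⟨c, hc⟩ := Matrix.mem_range_scalar_of_commute_single hcomm
    exact ⟨c, hc⟩
  have h1 := Submodule.finrank_mono (show Subalgebra.toSubmodule K ≤ Subalgebra.toSubmodule ⊥ from hsc)
  have h2 : finrank F (Subalgebra.toSubmodule K) = r := hK.finrank_eq
  have h3 : finrank F (Subalgebra.toSubmodule (⊥ : Subalgebra F M)) ≤ 1 := by
    haveI : Nonempty (Fin n) := ⟨⟨0, by omega⟩⟩
    exact (Subalgebra.finrank_bot (F := F) (E := M)).le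
  omega

/-- The subfield of prime degree dividing the degree. -/
theorem exists_subfield (hK : Cfsg.Geo.IsFieldSubalgebra r K) (hn : 1 ≤ n) {p : ℕ} (hp : p ≠ 0) (hpr : p ∣ r) :
    ∃ L : Subalgebra F M, Cfsg.Geo.IsFieldSubalgebra p L ∧ L ≤ K ∧
      Cfsg.Geo.subalgebraNormalizer K ≤ Cfsg.Geo.subalgebraNormalizer L := by
  classical
  haveI : Nonempty (Fin n) := ⟨⟨0, hn⟩⟩
  haveI : Nontrivial K := ⟨⟨1, 0, fun e => one_ne_zero (α := M) (congrArg Subtype.val e)⟩⟩
  have hF : IsField K :=
    { exists_pair_ne := ⟨1, 0, one_ne_zero⟩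
      mul_comm := fun x y => Subtype.ext (hK.comm x x.2 y y.2)
      mul_inv_cancel := fun {x} hx => by
        obtain ⟨y, hy, e⟩ := hK.inv x x.2 (fun e => hx (Subtype.ext e))
        exact ⟨⟨y, hy⟩, Subtype.ext e⟩ }
  letI := hF.toField
  obtain ⟨e, hch, -⟩ := FiniteField.card F (ringChar F)
  haveI : Fact (ringChar F).Prime := ⟨hch⟩
  haveI : CharP F (ringChar F) := ringChar.charP F
  haveI : NeZero p := ⟨hp⟩
  let E := FiniteField.Extension F (ringChar F) p
  haveI : Finite K := inferInstance
  obtain ⟨ι⟩ := FiniteField.nonempty_algHom_of_finrank_dvd (F := F) (K := E) (L := K) (by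
    rw [FiniteField.finrank_extension, hK.finrank_eq]; exact hpr)
  set L : Subalgebra F M := ι.range.map K.val with hL
  have hLK : L ≤ K := by rintro _ ⟨x, -, rfl⟩; exact x.2
  have hinj : Function.Injective (K.val.comp ι) := Subtype.val_injective.comp ι.injective
  have hLr : L = (K.val.comp ι).range := (AlgHom.range_comp ι K.val).symm
  have hdim : finrank F L = p := by
    rw [hLr, ← (AlgEquiv.ofInjective _ hinj).toLinearEquiv.finrank_eq, FiniteField.finrank_extension]
  refine ⟨L, ⟨fun x hx y hy => hK.comm x (hLK hx) y (hLK hy), fun x hx hx0 => ?_, hdim⟩, hLK, fun g hg => ?_⟩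
  · rw [hLr] at hx ⊢
    obtain ⟨a, rfl⟩ := hx
    refine ⟨K.val (ι a⁻¹), ⟨a⁻¹, rfl⟩, ?_⟩
    have ha : a ≠ 0 := fun e => hx0 (by rw [e]; exact map_zero _)
    show K.val (ι a) * K.val (ι a⁻¹) = 1
    rw [← map_mul, ← map_mul, mul_inv_cancel₀ ha, map_one, map_one]
  · haveI : Fintype E := Fintype.ofFinite E
    haveI : Fintype K := Fintype.ofFinite K
    set Q := Fintype.card E with hQ
    have hQ1 : 1 < Q := Fintype.one_lt_card
    -- `L` is the set of fixed points of the `Q`-power map
    have key : ∀ x : M, x ∈ L ↔ x ∈ K ∧ x ^ Q = x := by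
      intro x
      constructor
      · intro hx
        rw [hLr] at hx
        obtain ⟨a, rfl⟩ := hx
        refine ⟨(ι a).2, ?_⟩
        show (K.val (ι a)) ^ Q = K.val (ι a)
        rw [← map_pow, ← map_pow, FiniteField.pow_card]
      · rintro ⟨hxK, hxQ⟩
        have hne : (Polynomial.X ^ Q - Polynomial.X : Polynomial K) ≠ 0 := FiniteField.X_pow_card_sub_X_ne_zero K hQ1
        let R := (Polynomial.X ^ Q - Polynomial.X : Polynomial K).roots.toFinset
        have hR : ∀ y : K, y ∈ R ↔ y ^ Q = y := fun y => by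
          simp [R, Polynomial.mem_roots hne, sub_eq_zero]
        have hle : R.card ≤ Q := by
          refine (Multiset.toFinset_card_le _).trans ((Polynomial.card_roots' _).trans ?_)
          rw [FiniteField.X_pow_card_sub_X_natDegree_eq K hQ1]
        have hsub : Finset.univ.image ι ⊆ R := fun y hy => by
          obtain ⟨a, -, rfl⟩ := Finset.mem_image.1 hy
          rw [hR, ← map_pow, FiniteField.pow_card]
        have heq := Finset.eq_of_subset_of_card_le hsub (by
          exact hle.trans (by rw [Finset.card_image_of_injective _ (show Function.Injective ι from ι.injective), Finset.card_univ]))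
        have hm := (hR ⟨x, hxK⟩).2 (Subtype.ext hxQ)
        rw [← heq] at hm
        obtain ⟨a, -, ha⟩ := Finset.mem_image.1 hm
        rw [hLr]
        exact ⟨a, congrArg Subtype.val ha⟩
    intro k
    rw [key, key, ← hg k, Units.conj_pow]
    refine and_congr_right fun _ => ⟨fun h => by rw [h], fun h => ?_⟩
    have h' := congrArg (fun z => ((g⁻¹ : GL (Fin n) F) : M) * z * (g : M)) h
    simpa [mul_assoc] using h'

/-- A transvection over the smaller field moving the larger one. -/
theorem exists_between_elt (hK : Cfsg.Geo.IsFieldSubalgebra r K) (L : Subalgebra F M) {p : ℕ}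
    (hL : Cfsg.Geo.IsFieldSubalgebra p L) (hLK : L ≤ K) (hpr : p < r) (hn : 2 * p < n) :
    ∃ g ∈ Cfsg.Geo.specialLinear (Fin n) F, g ∈ Cfsg.Geo.subalgebraNormalizer L ∧
      g ∉ Cfsg.Geo.subalgebraNormalizer K := by
  classical
  obtain ⟨k, hk, hkL⟩ : ∃ k ∈ K, k ∉ L := by
    by_contra hcon
    push Not at hcon
    have h1 := Submodule.finrank_mono (show Subalgebra.toSubmodule K ≤ Subalgebra.toSubmodule L from hcon)
    have h2 : finrank F (Subalgebra.toSubmodule K) = r := hK.finrank_eq
    have h3 : finrank F (Subalgebra.toSubmodule L) = p := hL.finrank_eq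
    omega
  haveI : Nonempty (Fin n) := ⟨⟨0, by omega⟩⟩
  haveI : Nontrivial L := ⟨⟨1, 0, fun e => one_ne_zero (α := M) (congrArg Subtype.val e)⟩⟩
  have hLF : IsField L :=
    { exists_pair_ne := ⟨1, 0, one_ne_zero⟩
      mul_comm := fun x y => Subtype.ext (hL.comm x x.2 y y.2)
      mul_inv_cancel := fun {x} hx => by
        obtain ⟨y, hy, e⟩ := hL.inv x x.2 (fun e => hx (Subtype.ext e))
        exact ⟨⟨y, hy⟩, Subtype.ext e⟩ }
  letI := hLF.toField
  letI : Module L (Fin n → F) :=
    { smul := fun l v => (l : M) *ᵥ v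
      one_smul := fun v => Matrix.one_mulVec v
      mul_smul := fun a b v => (Matrix.mulVec_mulVec v (a : M) (b : M)).symm
      smul_zero := fun a => Matrix.mulVec_zero _
      smul_add := fun a u v => Matrix.mulVec_add _ _ _
      add_smul := fun a b v => Matrix.add_mulVec _ _ _
      zero_smul := fun v => Matrix.zero_mulVec v }
  set u : Fin n → F := Pi.single ⟨0, by omega⟩ 1 with hu
  have hu0 : u ≠ 0 := fun e => by simpa [hu] using congrFun e ⟨0, by omega⟩
  have hku : k *ᵥ u ∉ Submodule.span L {u} := by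
    intro h
    obtain ⟨l, hl⟩ := Submodule.mem_span_singleton.1 h
    have hl' : (l : M) *ᵥ u = k *ᵥ u := hl
    obtain ⟨y, -, hy⟩ := hK.inv ((l : M) - k) (K.sub_mem (hLK l.2) hk) (sub_ne_zero.2 fun e => hkL (e ▸ l.2))
    have hy' : y * ((l : M) - k) = 1 := mul_eq_one_comm.1 hy
    refine hu0 ?_
    calc u = (y * ((l : M) - k)) *ᵥ u := by rw [hy', Matrix.one_mulVec]
      _ = 0 := by rw [← Matrix.mulVec_mulVec, Matrix.sub_mulVec, hl', sub_self, Matrix.mulVec_zero]
  obtain ⟨φ, hφk, hφu⟩ := Submodule.exists_dual_map_eq_bot_of_notMem hku inferInstance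
  have hφ0 : φ u = 0 := by
    have h : φ u ∈ (Submodule.span L {u}).map φ := ⟨u, Submodule.mem_span_singleton_self u, rfl⟩
    rw [hφu] at h; exact h
  have hsm : ∀ (c : F) (v : Fin n → F), c • v = (algebraMap F L c) • v := fun c v => by
    show c • v = ((algebraMap F L c : L) : M) *ᵥ v
    rw [Subalgebra.coe_algebraMap, Algebra.algebraMap_eq_smul_one, Matrix.smul_mulVec, Matrix.one_mulVec]
  let T : (Fin n → F) →ₗ[F] (Fin n → F) :=
    { toFun := fun v => φ v • u
      map_add' := fun a b => by rw [map_add, add_smul]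
      map_smul' := fun c v => by rw [RingHom.id_apply, hsm c v, hsm c (φ v • u), map_smul, smul_eq_mul, mul_smul] }
  set N : M := LinearMap.toMatrix' T with hN
  have hNv : ∀ v, N *ᵥ v = φ v • u := fun v => LinearMap.toMatrix'_mulVec T v
  have hN2 : N * N = 0 := by
    refine Matrix.toLin'.injective (LinearMap.ext fun v => ?_)
    rw [Matrix.toLin'_apply, ← Matrix.mulVec_mulVec, hNv, hNv, map_smul, hφ0, smul_zero, zero_smul, map_zero,
      LinearMap.zero_apply]
  have hcomm : ∀ l : M, l ∈ L → N * l = l * N := by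
    intro l hl
    refine Matrix.toLin'.injective (LinearMap.ext fun v => ?_)
    rw [Matrix.toLin'_apply, Matrix.toLin'_apply, ← Matrix.mulVec_mulVec, ← Matrix.mulVec_mulVec, hNv, hNv]
    show φ ((⟨l, hl⟩ : L) • v) • u = (⟨l, hl⟩ : L) • φ v • u
    rw [map_smul, smul_eq_mul, mul_smul]
  have hg : (((unip N hN2)⁻¹ : GL (Fin n) F) : M) = 1 - N := by
    refine Units.inv_eq_of_mul_eq_one_right ?_
    rw [unip_coe, add_mul, one_mul, mul_sub, mul_one, hN2, sub_zero, sub_add_cancel]
  refine ⟨unip N hN2, unip_mem N hN2, fun x => ?_, fun hgK => ?_⟩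
  · rw [unip_coe, hg]
    constructor
    · intro hx
      have e : (1 + N) * x * (1 - N) = x := by
        rw [add_mul, one_mul, hcomm x hx, mul_sub, mul_one, add_mul, mul_assoc x N N, hN2, mul_zero, add_zero]
        abel
      rw [e]; exact hx
    · intro hx
      have e : (1 + N) * x * (1 - N) = x := by
        set y := (1 + N) * x * (1 - N) with hy
        have h1 : (1 - N) * y * (1 + N) = x := by
          have e1 : (1 - N) * (1 + N) = 1 := by
            rw [sub_mul, one_mul, mul_add, mul_one, hN2, add_zero, add_sub_cancel_right]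
          rw [hy, show (1 - N) * ((1 + N) * x * (1 - N)) * (1 + N) =
            ((1 - N) * (1 + N)) * x * ((1 - N) * (1 + N)) by simp only [mul_assoc], e1, one_mul, mul_one]
        rw [← h1, sub_mul, one_mul, hcomm y hx, mul_add, mul_one, sub_mul, mul_assoc y N N, hN2, mul_zero, sub_zero]
        abel
      rw [e] at hx; exact hx
  · have h := comm_of_small K hK.inv _ hgK N rfl (d := p) ?_ hn hk
    · have h1 := congrArg (fun A : M => A *ᵥ u) h
      simp only [← Matrix.mulVec_mulVec, hNv, hφ0, zero_smul, Matrix.mulVec_zero] at h1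
      rcases smul_eq_zero.1 h1 with e | e
      · exact hφk e
      · exact hu0 e
    · let S : L →ₗ[F] (Fin n → F) :=
        { toFun := fun l => (l : M) *ᵥ u
          map_add' := fun a b => Matrix.add_mulVec _ _ _
          map_smul' := fun c a => Matrix.smul_mulVec _ _ _ }
      refine (Submodule.finrank_mono (?_ : _ ≤ LinearMap.range S)).trans
        ((LinearMap.finrank_range_le S).trans hL.finrank_eq.le)
      rintro _ ⟨v, rfl⟩
      exact ⟨φ v, ((Matrix.toLin'_apply N v).trans (hNv v)).symm⟩

end Cfsg.Agent.Classical.FieldNotMax
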