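import Cfsg.Agent.Lib.Classical.Transvec
import Mathlib

/-!
Witt extension for hermitian forms over finite fields.
-/

set_option autoImplicit false
set_option linter.style.haveILetI false

open Module

namespace Cfsg.Agent.Classical.WittHerm

variable {F V : Type*} [Field F] [Finite F] [AddCommGroup V] [Module F V] [FiniteDimensional F V]
variable {σ : F →+* F} (hσ : σ ≠ RingHom.id F) (hσ2 : ∀ a : F, σ (σ a) = a)
variable (B : V →ₛₗ[σ] V →ₗ[F] F) (hS : B.IsSymm) (hB : B.Nondegenerate)

omit [Finite F] [FiniteDimensional F V] in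
include hσ hσ2 in
theorem exists_trace {c : F} (hc : σ c = c) : ∃ t : F, t + σ t = c := by
  obtain ⟨a, ha⟩ : ∃ a, a + σ a ≠ 0 := by
    by_contra h
    push Not at h
    apply hσ
    have h2 : (1 : F) + 1 = 0 := by simpa using h 1
    exact RingHom.ext fun a => by
      rw [RingHom.id_apply]; linear_combination h a - a * h2
  refine ⟨c * a / (a + σ a), ?_⟩
  rw [map_div₀, map_mul, hc, map_add, hσ2, add_comm (σ a) a, ← add_div, div_eq_iff ha]
  ring

include hB in
theorem exists_herm_eq (f : Module.Dual F V) : ∃ z : V, ∀ x, B z x = f x := by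
  haveI : Finite V := Module.finite_of_finite F
  haveI : Finite (Module.Dual F V) := Module.finite_of_finite F
  have hinj : Function.Injective B := fun x y e => sub_eq_zero.1 (hB.1 _ fun z => by
    rw [map_sub, LinearMap.sub_apply, e, sub_self])
  have hcard : Nat.card V = Nat.card (Module.Dual F V) := by
    rw [Module.natCard_eq_pow_finrank (K := F), Module.natCard_eq_pow_finrank (K := F) (V := Module.Dual F V),
      Subspace.dual_finrank_eq]
  obtain ⟨z, hz⟩ := ((Nat.bijective_iff_injective_and_card _).2 ⟨hinj, hcard⟩).2 f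
  exact ⟨z, fun x => by rw [hz]⟩

include hB in
/-- An isometric linear map as an automorphism. -/
noncomputable def isoOf (g : V →ₗ[F] V) (hg : ∀ x y, B (g x) (g y) = B x y) : V ≃ₗ[F] V :=
  LinearEquiv.ofInjectiveEndo g (by
    rw [← LinearMap.ker_eq_bot, Submodule.eq_bot_iff]
    intro x hx
    rw [LinearMap.mem_ker] at hx
    refine hB.1 x fun y => ?_
    rw [← hg x y, hx, map_zero, LinearMap.zero_apply])

include hσ hσ2 hS hB

theorem exists_step (H : Submodule F V) {x y : V} (hx : x ∉ H) (hy : y ∉ H) (hxy : B y y = B x x)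
    (hH : ∀ h ∈ H, B h y = B h x) :
    ∃ g : V ≃ₗ[F] V, (∀ u v, B (g u) (g v) = B u v) ∧ g x = y ∧ ∀ h ∈ H, g h = h := by
  set d := y - x with hd
  have hHd : ∀ h ∈ H, B h d = 0 := fun h hh => by rw [hd, map_sub, hH h hh, sub_self]
  have hdH' : ∀ h ∈ H, B d h = 0 := fun h hh => by rw [← hS.eq h d, hHd h hh, map_zero]
  have hyxd : y = x + d := by rw [hd, add_sub_cancel]
  have hdd : B d d = -σ (B d x) - B d x := by
    have h1 : B (x + d) (x + d) = B x x := by rw [← hyxd, hxy]
    simp only [map_add, LinearMap.add_apply, ← hS.eq d x] at h1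
    linear_combination h1
  rcases eq_or_ne d 0 with h0 | h0
  · exact ⟨LinearEquiv.refl F V, fun u v => rfl, by simp [hyxd, h0], fun h _ => rfl⟩
  by_cases he : B d x ≠ 0
  · set k := (B d x)⁻¹ with hk
    have hke : k * B d x = 1 := inv_mul_cancel₀ he
    have hke' : σ k * σ (B d x) = 1 := by rw [← map_mul, hke, map_one]
    let g : V →ₗ[F] V := LinearMap.id + k • (B d).smulRight d
    have hg : ∀ v, g v = v + (k * B d v) • d := fun v => by simp [g, smul_smul]
    have hiso : ∀ u v, B (g u) (g v) = B u v := fun u v => by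
      simp only [hg, map_add, map_smul, LinearMap.map_smulₛₗ, LinearMap.add_apply, LinearMap.smul_apply,
        smul_eq_mul, RingHom.id_apply, map_mul, ← hS.eq d u, hdd]
      linear_combination (-(B d v) * σ (B d u) * k) * hke' + (-(B d v) * σ (B d u) * σ k) * hke
    refine ⟨isoOf B hB g hiso, hiso, ?_, fun h hh => ?_⟩
    · show g x = y
      rw [hg, hke, one_smul, hyxd]
    · show g h = h
      rw [hg, hdH' h hh]; simp
  push Not at he
  rw [he, map_zero, neg_zero, sub_zero] at hdd
  have hxd : B x d = 0 := by rw [← hS.eq d x, he, map_zero]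
  by_cases hxin : x ∈ H ⊔ Submodule.span F {d}
  · obtain ⟨h1, hh1, e, he', hxe⟩ := Submodule.mem_sup.1 hxin
    obtain ⟨c, rfl⟩ := Submodule.mem_span_singleton.1 he'
    have hc : c ≠ 0 := fun e => hx (by rw [← hxe, e, zero_smul, add_zero]; exact hh1)
    have hc1 : c + 1 ≠ 0 := fun e => hy (by
      rw [hyxd, ← hxe, add_assoc, show c • d + d = (c + 1) • d by rw [add_smul, one_smul], e, zero_smul, add_zero]; exact hh1)
    have hdH : d ∉ H := fun hdH => hx (hxe ▸ H.add_mem hh1 (H.smul_mem c hdH))
    obtain ⟨f, hfd, hf⟩ := exists_dual_one hdH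
    obtain ⟨z0, hz0⟩ := exists_herm_eq B hB f
    obtain ⟨t, ht⟩ := exists_trace hσ hσ2 (c := -B z0 z0) (by rw [map_neg, hS.eq z0 z0])
    set z := z0 + t • d with hz
    have hz0d : B z0 d = 1 := by rw [hz0, hfd]
    have hdz0 : B d z0 = 1 := by rw [← hS.eq z0 d, hz0d, map_one]
    have hzd : B z d = 1 := by
      simp only [hz, map_add, LinearMap.map_smulₛₗ, LinearMap.add_apply, LinearMap.smul_apply, hz0d, hdd,
        smul_zero, add_zero]
    have hdz : B d z = 1 := by rw [← hS.eq z d, hzd, map_one]
    have hzH : ∀ h ∈ H, B z h = 0 := fun h hh => by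
      simp only [hz, map_add, LinearMap.map_smulₛₗ, LinearMap.add_apply, LinearMap.smul_apply, hdH' h hh,
        smul_zero, add_zero, hz0, hf h hh]
    have hzz : B z z = 0 := by
      simp only [hz, map_add, map_smul, LinearMap.map_smulₛₗ, LinearMap.add_apply, LinearMap.smul_apply,
        smul_eq_mul, RingHom.id_apply, hz0d, hdz0, hdd]
      linear_combination ht
    clear_value z
    set l := (c + 1) / c with hl
    have hl0 : l ≠ 0 := div_ne_zero hc1 hc
    set m := σ l⁻¹ with hm
    have hlm : σ m * l = 1 := by rw [hm, hσ2, inv_mul_cancel₀ hl0]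
    have hlm' : σ l * m = 1 := by rw [hm, ← map_mul, mul_inv_cancel₀ hl0, map_one]
    let g : V →ₗ[F] V := LinearMap.id + (l - 1) • ((B z).smulRight d) + (m - 1) • ((B d).smulRight z)
    have hg : ∀ v, g v = v + ((l - 1) * B z v) • d + ((m - 1) * B d v) • z := fun v => by
      simp [g, smul_smul]
    have hiso : ∀ u v, B (g u) (g v) = B u v := fun u v => by
      simp only [hg, map_add, map_smul, LinearMap.map_smulₛₗ, LinearMap.add_apply, LinearMap.smul_apply,
        smul_eq_mul, RingHom.id_apply, map_mul, map_sub, map_one, ← hS.eq d u, ← hS.eq z u, hdd, hzz, hzd, hdz]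
      linear_combination (σ (B d u) * B z v) * hlm + (σ (B z u) * B d v) * hlm'
    have hfix : ∀ h ∈ H, g h = h := fun h hh => by
      rw [hg, hzH h hh, hdH' h hh]; simp
    refine ⟨isoOf B hB g hiso, hiso, ?_, hfix⟩
    show g x = y
    rw [← hxe, map_add, map_smul, hfix h1 hh1, hyxd, ← hxe, hg d, hzd, hdd]
    simp only [mul_zero, zero_smul, add_zero, mul_one]
    rw [add_assoc, smul_add, smul_smul]
    congr 1
    congr 1
    rw [← one_smul F d, smul_smul]
    congr 1
    rw [hl]; field_simp; ring
  · obtain ⟨f, hfx, hf⟩ := exists_dual_one hxin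
    obtain ⟨z, hz⟩ := exists_herm_eq B hB f
    have hzd : B z d = 0 := by
      rw [hz]; exact hf d (Submodule.mem_sup_right (Submodule.mem_span_singleton_self d))
    have hdz : B d z = 0 := by rw [← hS.eq z d, hzd, map_zero]
    have hzH : ∀ h ∈ H, B z h = 0 := fun h hh => by rw [hz]; exact hf h (Submodule.mem_sup_left hh)
    have hzx : B z x = 1 := by rw [hz, hfx]
    obtain ⟨c, hc⟩ := exists_trace hσ hσ2 (c := -B z z) (by rw [map_neg, hS.eq z z])
    let g : V →ₗ[F] V := LinearMap.id + (B z).smulRight d + c • (B d).smulRight d - (B d).smulRight z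
    have hg : ∀ v, g v = v + (B z v + c * B d v) • d + (-B d v) • z := fun v => by
      simp [g, smul_smul, add_smul, neg_smul]; abel
    have hiso : ∀ u v, B (g u) (g v) = B u v := fun u v => by
      simp only [hg, map_add, map_smul, LinearMap.map_smulₛₗ, LinearMap.add_apply, LinearMap.smul_apply,
        smul_eq_mul, RingHom.id_apply, map_mul, map_neg, ← hS.eq d u, ← hS.eq z u, hdd, hzd, hdz]
      linear_combination (σ (B d u) * B d v) * hc
    refine ⟨isoOf B hB g hiso, hiso, ?_, fun h hh => ?_⟩
    · show g x = y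
      rw [hg, hzx, he, hyxd]; simp
    · show g h = h
      rw [hg, hzH h hh, hdH' h hh]; simp

/-- Witt extension. -/
theorem extend : ∀ (k : ℕ) (X : Submodule F V) (f : X →ₗ[F] V), finrank F X = k → Function.Injective f →
    (∀ x x' : X, B (f x) (f x') = B (x : V) (x' : V)) →
    ∃ g : V ≃ₗ[F] V, (∀ u v, B (g u) (g v) = B u v) ∧ ∀ x : X, g (x : V) = f x := by
  intro k
  induction k with
  | zero =>
    intro X f hX _ _
    refine ⟨LinearEquiv.refl F V, fun u v => rfl, fun x => ?_⟩
    haveI : Subsingleton X := Module.finrank_zero_iff.1 hX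
    rw [Subsingleton.elim x 0]; simp
  | succ k ih =>
    intro X f hX hinj hf
    haveI : Nontrivial X := Module.nontrivial_of_finrank_pos (R := F) (by omega)
    obtain ⟨x, hx0⟩ := exists_ne (0 : X)
    obtain ⟨φ, hφx, -⟩ := exists_dual_one (p := (⊥ : Submodule F X)) (x := x) (by simpa using hx0)
    set H' : Submodule F X := LinearMap.ker φ with hH'
    set H : Submodule F V := H'.map X.subtype with hH
    have hdim : finrank F H = k := by
      rw [hH, Submodule.finrank_map_subtype_eq]
      have h := LinearMap.finrank_range_add_finrank_ker φ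
      rw [LinearMap.range_eq_top.2 (fun a => ⟨a • x, by rw [map_smul, hφx, smul_eq_mul, mul_one]⟩),
        finrank_top, finrank_self, hX, ← hH'] at h
      omega
    have hHX : H ≤ X := Submodule.map_subtype_le _ _
    obtain ⟨g, hg, hgH⟩ := ih H (f.comp (Submodule.inclusion hHX)) hdim
      (hinj.comp (Submodule.inclusion_injective hHX)) (fun h h' => hf _ _)
    set y := g.symm (f x) with hy
    have hxH : (x : V) ∉ H := by
      rintro ⟨h, hh, he⟩
      have : h = x := Subtype.ext he
      rw [this] at hh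
      exact one_ne_zero (hφx.symm.trans hh)
    have hgsymm : ∀ u v, B (g.symm u) (g.symm v) = B u v := fun u v => by
      rw [← hg (g.symm u), LinearEquiv.apply_symm_apply, LinearEquiv.apply_symm_apply]
    have hgfix : ∀ (h : V) (hh : h ∈ H), g.symm (f ⟨h, hHX hh⟩) = h := fun h hh => by
      rw [LinearEquiv.symm_apply_eq]; exact (hgH ⟨h, hh⟩).symm
    have hyH : y ∉ H := fun hyH => hxH (by
      have h1 : f x = f ⟨y, hHX hyH⟩ := g.symm.injective (by rw [hgfix y hyH])
      have h2 : x = ⟨y, hHX hyH⟩ := hinj h1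
      rw [h2]; exact hyH)
    have hpol : ∀ h ∈ H, B h y = B h x := fun h hh => by
      conv_lhs => rw [← hgfix h hh]
      rw [hy, hgsymm, hf]
    obtain ⟨s, hs, hsx, hsH⟩ := exists_step hσ hσ2 B hS hB H hxH hyH (by rw [hy, hgsymm, hf]) hpol
    refine ⟨s.trans g, fun u v => by rw [LinearEquiv.trans_apply, LinearEquiv.trans_apply, hg, hs], fun v => ?_⟩
    have hv : (v : V) - φ v • (x : V) ∈ H := ⟨v - φ v • x, by
      show φ (v - φ v • x) = 0
      rw [map_sub, map_smul, hφx, smul_eq_mul, mul_one, sub_self], by simp⟩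
    have e := hgH ⟨_, hv⟩
    rw [LinearEquiv.trans_apply, show (v : V) = ((v : V) - φ v • (x : V)) + φ v • (x : V) by abel, map_add, map_smul,
      hsH _ hv, hsx, map_add, map_smul, hy, LinearEquiv.apply_symm_apply, e]
    show f _ + φ v • f x = f v
    rw [← map_smul, ← map_add]
    exact congrArg f (Subtype.ext (by simp))

end Cfsg.Agent.Classical.WittHerm
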