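import Cfsg.Agent.Lib.Classical.Transvec
import Cfsg.Agent.Lib.Classical.WittHerm
import Cfsg.Prelude.Def_GeometricClasses

/-!
Isotropic vectors with prescribed orthogonality for hermitian forms given as functions.
-/

set_option autoImplicit false
set_option linter.unusedSectionVars false

open Module

namespace Cfsg.Agent.Classical.HermSep

variable {F : Type*} [Field F] [Fintype F] {ι : Type} [Fintype ι] [DecidableEq ι]
variable {σ : F ≃+* F} {f : (ι → F) → (ι → F) → F}

theorem exists_norm (hne : σ ≠ RingEquiv.refl F) (h2 : ∀ a : F, σ (σ a) = a) {r : F} (hr : σ r = r) :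
    ∃ t : F, t * σ t = r := by
  classical
  rcases eq_or_ne r 0 with rfl | hr0
  · exact ⟨0, zero_mul _⟩
  let N : Fˣ →* Fˣ :=
    { toFun := fun t => t * Units.map (σ : F →+* F).toMonoidHom t
      map_one' := by simp
      map_mul' := fun a b => by rw [map_mul]; exact mul_mul_mul_comm a b _ _ }
  let K : Fˣ →* Fˣ :=
    { toFun := fun a => a / Units.map (σ : F →+* F).toMonoidHom a
      map_one' := by simp
      map_mul' := fun a b => by rw [map_mul]; exact mul_div_mul_comm a b _ _ }
  obtain ⟨δ, hδ0, hδ⟩ : ∃ δ : F, δ ≠ 0 ∧ σ δ = -δ := by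
    obtain ⟨a, ha⟩ : ∃ a, a ≠ σ a := by
      by_contra hc; push Not at hc; exact hne (RingEquiv.ext fun a => (hc a).symm)
    exact ⟨a - σ a, sub_ne_zero.2 ha, by rw [map_sub, h2]; ring⟩
  have hsub : (N.ker : Set Fˣ) ⊆ K.range := by
    intro t ht
    have ht' : (t : F) * σ t = 1 := congrArg Units.val (MonoidHom.mem_ker.1 ht)
    have key : ∀ a : F, a ≠ 0 → (t : F) * σ a = a → t ∈ (K.range : Set Fˣ) := fun a ha he =>
      ⟨Units.mk0 a ha, Units.ext (by
        show ((Units.mk0 a ha / Units.map (σ : F →+* F).toMonoidHom (Units.mk0 a ha) : Fˣ) : F) = t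
        rw [Units.val_div_eq_div_val]
        show a / σ a = t
        rw [div_eq_iff ((map_ne_zero σ).2 ha), he])⟩
    by_cases h1 : (t : F) = -1
    · exact key δ hδ0 (by rw [h1, hδ]; ring)
    · refine key (1 + t) (fun e => h1 (by linear_combination e)) ?_
      rw [map_add, map_one, mul_add, mul_one, ht', add_comm]
  have hfix : K.ker.carrier = {a : Fˣ | σ a = a} := by
    ext a
    show a / Units.map (σ : F →+* F).toMonoidHom a = 1 ↔ _
    rw [div_eq_one, Units.ext_iff]
    exact eq_comm
  have hrange : (N.range : Set Fˣ) ⊆ K.ker.carrier := by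
    rintro _ ⟨t, rfl⟩
    rw [hfix]
    show σ ((t : F) * σ t) = t * σ t
    rw [map_mul, h2, mul_comm]
  have c1 : Nat.card N.ker ≤ Nat.card K.range := Nat.card_mono (Set.toFinite _) hsub
  have c2 := Subgroup.index_ker N
  have c3 := Subgroup.index_ker K
  have c4 := N.ker.card_mul_index
  have c5 := K.ker.card_mul_index
  rw [c2] at c4; rw [c3] at c5
  have c6 : Nat.card K.ker ≤ Nat.card N.range := by
    have hpos : 0 < Nat.card K.range := Nat.card_pos
    by_contra hlt
    push Not at hlt
    have : Nat.card N.ker * Nat.card N.range < Nat.card K.ker * Nat.card K.range :=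
      calc Nat.card N.ker * Nat.card N.range ≤ Nat.card K.range * Nat.card N.range := Nat.mul_le_mul_right _ c1
        _ < Nat.card K.range * Nat.card K.ker := Nat.mul_lt_mul_of_pos_left hlt hpos
        _ = _ := mul_comm _ _
    omega
  have heq : (N.range : Set Fˣ) = K.ker.carrier :=
    Set.Finite.eq_of_subset_of_card_le (Set.toFinite _) hrange c6
  have hmem : Units.mk0 r hr0 ∈ (N.range : Set Fˣ) := by rw [heq, hfix]; exact hr
  obtain ⟨t, ht⟩ := hmem
  exact ⟨t, congrArg Units.val ht⟩

variable (hf : Cfsg.Geo.IsUnitaryForm σ f)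
include hf

theorem add_right (v x y : ι → F) : f v (x + y) = f v x + f v y := by
  rw [hf.herm, hf.add_left, map_add, ← hf.herm, ← hf.herm]

theorem smul_right (c : F) (v x : ι → F) : f v (c • x) = σ c * f v x := by
  rw [hf.herm, hf.smul_left, map_mul, ← hf.herm]

theorem zero_left (v : ι → F) : f 0 v = 0 := by simpa using hf.smul_left 0 0 v

theorem zero_right (v : ι → F) : f v 0 = 0 := by rw [hf.herm, zero_left hf, map_zero]

theorem sub_left (x y v : ι → F) : f (x - y) v = f x v - f y v := by
  rw [eq_sub_iff_add_eq, ← hf.add_left, sub_add_cancel]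

theorem swap_zero {x y : ι → F} (h : f x y = 0) : f y x = 0 := by rw [hf.herm, h, map_zero]

/-- The functional `x ↦ f x u`. -/
def fn (u : ι → F) : Dual F (ι → F) where
  toFun x := f x u
  map_add' x y := hf.add_left x y u
  map_smul' c x := hf.smul_left c x u

theorem fn_apply (u x : ι → F) : fn hf u x = f x u := rfl

theorem exists_rep (φ : Dual F (ι → F)) : ∃ u, fn hf u = φ := by
  haveI : Finite (Dual F (ι → F)) := Module.finite_of_finite F
  have hinj : Function.Injective (fn hf) := fun a b e => by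
    by_contra hab
    obtain ⟨x, hx⟩ := (hf.nondegenerate (a - b) (sub_ne_zero.2 hab)).1
    apply hx
    rw [hf.herm, sub_left hf, map_sub, ← hf.herm, ← hf.herm, sub_eq_zero]
    exact LinearMap.congr_fun e x
  have hcard : Nat.card (ι → F) = Nat.card (Dual F (ι → F)) := by
    rw [Module.natCard_eq_pow_finrank (K := F), Module.natCard_eq_pow_finrank (K := F) (V := Dual F (ι → F)),
      Subspace.dual_finrank_eq]
  exact ((Nat.bijective_iff_injective_and_card _).2 ⟨hinj, hcard⟩).2 φ

/-- A vector orthogonal to a subspace and not to a given vector outside it. -/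
theorem exists_sep {S : Submodule F (ι → F)} {u : ι → F} (hu : u ∉ S) : ∃ y, f u y = 1 ∧ ∀ s ∈ S, f s y = 0 := by
  obtain ⟨φ, h1, h0⟩ := Cfsg.Agent.Classical.exists_dual_one hu
  obtain ⟨y, rfl⟩ := exists_rep hf φ
  exact ⟨y, h1, h0⟩

/-- The common orthogonal of a finite family. -/
def perp {k : ℕ} (c : Fin k → ι → F) : Submodule F (ι → F) := LinearMap.ker (LinearMap.pi fun i => fn hf (c i))

theorem mem_perp {k : ℕ} {c : Fin k → ι → F} {x : ι → F} : x ∈ perp hf c ↔ ∀ i, f x (c i) = 0 := by
  rw [perp, LinearMap.mem_ker, funext_iff]; rfl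

theorem finrank_perp {k : ℕ} (c : Fin k → ι → F) : Fintype.card ι ≤ finrank F (perp hf c) + k := by
  have h := (LinearMap.pi fun i => fn hf (c i)).finrank_range_add_finrank_ker
  have h1 := Submodule.finrank_le (LinearMap.range (LinearMap.pi fun i => fn hf (c i)))
  rw [Module.finrank_pi, Fintype.card_fin] at h1
  rw [Module.finrank_pi] at h
  unfold perp
  omega

theorem exists_nonisotropic {k : ℕ} (c : Fin k → ι → F) (hk : 2 * k < Fintype.card ι) :
    ∃ z ∈ perp hf c, f z z ≠ 0 := by
  by_contra hcon
  push Not at hcon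
  set Z := perp hf c
  have hzero : ∀ a ∈ Z, ∀ b ∈ Z, f a b = 0 := by
    intro a ha b hb
    by_contra hab
    have key : ∀ s : F, σ s * f a b + σ (σ s * f a b) = 0 := fun s => by
      have h := hcon _ (Z.add_mem ha (Z.smul_mem s hb))
      rw [hf.add_left, add_right hf, add_right hf, hf.smul_left, hf.smul_left, smul_right hf, smul_right hf,
        hcon a ha, hcon b hb, hf.herm b a] at h
      rw [map_mul, hf.involutive]
      linear_combination h
    apply hf.ne_refl
    have h2 : ∀ x : F, σ x = -x := fun x => by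
      have := key (σ (x / f a b))
      rw [hf.involutive, div_mul_cancel₀ _ hab] at this
      linear_combination this
    have h11 : (1 : F) = -1 := by simpa using h2 1
    exact RingEquiv.ext fun x => by rw [RingEquiv.refl_apply, h2]; linear_combination (-x) * h11
  haveI : Finite (Dual F ((ι → F) ⧸ Z)) := Module.finite_of_finite F
  let ψ : Z → Dual F ((ι → F) ⧸ Z) := fun z =>
    Z.liftQ (fn hf z) fun x hx => hzero x hx z z.2
  have hinj : Function.Injective ψ := fun a b e => by
    by_contra hab
    obtain ⟨x, hx⟩ := (hf.nondegenerate ((a : ι → F) - b) (sub_ne_zero.2 fun h => hab (Subtype.ext h))).1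
    apply hx
    rw [hf.herm, sub_left hf, map_sub, ← hf.herm, ← hf.herm, sub_eq_zero]
    exact LinearMap.congr_fun e (Submodule.Quotient.mk x)
  have h := Nat.card_le_card_of_injective ψ hinj
  rw [Module.natCard_eq_pow_finrank (K := F), Module.natCard_eq_pow_finrank (K := F) (V := Dual F ((ι → F) ⧸ Z)),
    Subspace.dual_finrank_eq] at h
  rw [Nat.pow_le_pow_iff_right (Finite.one_lt_card)] at h
  have h2 := Submodule.finrank_quotient_add_finrank Z
  have h3 : Fintype.card ι ≤ finrank F Z + k := finrank_perp hf c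
  rw [Module.finrank_pi] at h2
  omega

/-- An isotropic vector orthogonal to a family and not to a vector outside its span. -/
theorem exists_isotropic {k : ℕ} (c : Fin k → ι → F) (hk : 2 * (k + 2) < Fintype.card ι) {u : ι → F}
    (hu : u ∉ Submodule.span F (Set.range c)) :
    ∃ e, f e e = 0 ∧ (∀ i, f e (c i) = 0) ∧ f e u ≠ 0 := by
  obtain ⟨y, hyu, hy⟩ := exists_sep hf hu
  have hyu' : f y u = 1 := by rw [hf.herm, hyu, map_one]
  have hyc : ∀ i, f y (c i) = 0 := fun i => swap_zero hf (hy _ (Submodule.subset_span ⟨i, rfl⟩))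
  by_cases hyy : f y y = 0
  · exact ⟨y, hyy, hyc, hyu' ▸ one_ne_zero⟩
  obtain ⟨z, hz, hzz⟩ := exists_nonisotropic hf (Fin.cons u (Fin.cons y c)) hk
  rw [mem_perp] at hz
  have hzu : f z u = 0 := hz 0
  have hzy : f z y = 0 := hz 1
  have hzc : ∀ i, f z (c i) = 0 := fun i => by simpa using hz i.succ.succ
  have hfix : ∀ x, σ (f x x) = f x x := fun x => (hf.herm x x).symm
  obtain ⟨t, ht⟩ := exists_norm hf.ne_refl hf.involutive (r := -(f y y / f z z))
    (by rw [map_neg, map_div₀, hfix, hfix])
  refine ⟨y + t • z, ?_, fun i => ?_, ?_⟩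
  · rw [hf.add_left, add_right hf, add_right hf, hf.smul_left, hf.smul_left, smul_right hf, smul_right hf, hzy,
      swap_zero hf hzy, mul_zero, mul_zero, zero_add, add_zero, ← mul_assoc, ht]
    field_simp; ring
  · rw [hf.add_left, hf.smul_left, hyc, hzc, mul_zero, add_zero]
  · rw [hf.add_left, hf.smul_left, hzu, mul_zero, add_zero, hyu']; exact one_ne_zero

/-- An isotropic vector orthogonal to a family and to neither of two vectors outside its span. -/
theorem exists_isotropic_two {k : ℕ} (c : Fin k → ι → F) (hk : 2 * (k + 2) < Fintype.card ι) {u x : ι → F}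
    (hu : u ∉ Submodule.span F (Set.range c)) (hx : x ∉ Submodule.span F (Set.range c)) :
    ∃ e, f e e = 0 ∧ (∀ i, f e (c i) = 0) ∧ f e u ≠ 0 ∧ f e x ≠ 0 := by
  obtain ⟨a, haa, hac, hau⟩ := exists_isotropic hf c hk hu
  obtain ⟨b, hbb, hbc, hbx⟩ := exists_isotropic hf c hk hx
  by_cases hax : f a x = 0
  · by_cases hbu : f b u = 0
    · obtain ⟨t, ht0, ht⟩ : ∃ t : F, t ≠ 0 ∧ t * f b a + σ (t * f b a) = 0 := by
        by_cases hba : f b a = 0
        · exact ⟨1, one_ne_zero, by simp [hba]⟩
        obtain ⟨d, hd⟩ : ∃ d, d ≠ σ d := by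
          by_contra hc; push Not at hc; exact hf.ne_refl (RingEquiv.ext fun d => (hc d).symm)
        refine ⟨(d - σ d) / f b a, div_ne_zero (sub_ne_zero.2 hd) hba, ?_⟩
        rw [div_mul_cancel₀ _ hba, map_sub, hf.involutive]; ring
      refine ⟨a + t • b, ?_, fun i => ?_, ?_, ?_⟩
      · rw [hf.add_left, add_right hf, add_right hf, hf.smul_left, hf.smul_left, smul_right hf, smul_right hf,
          haa, hbb, hf.herm a b]
        rw [map_mul] at ht
        linear_combination ht
      · rw [hf.add_left, hf.smul_left, hac, hbc, mul_zero, add_zero]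
      · rw [hf.add_left, hf.smul_left, hbu, mul_zero, add_zero]; exact hau
      · rw [hf.add_left, hf.smul_left, hax, zero_add]; exact mul_ne_zero ht0 hbx
    · exact ⟨b, hbb, hbc, hbu, hbx⟩
  · exact ⟨a, haa, hac, hau, hax⟩

end Cfsg.Agent.Classical.HermSep
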