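import Cfsg.Agent.Lib.Classical.MaxLinTransv
import Cfsg.Agent.Lib.Classical.HermSep

/-!
Special unitary groups in dimension at least four are generated by unitary transvections.
-/

set_option autoImplicit false
set_option linter.unusedSectionVars false

open Module Matrix

namespace Cfsg.Agent.Classical.HermGen

open HermSep MaxLin

variable {F : Type*} [Field F] [Fintype F] {ι : Type} [Fintype ι] [DecidableEq ι]
variable {σ : F ≃+* F} {f : (ι → F) → (ι → F) → F} (hf : Cfsg.Geo.IsUnitaryForm σ f)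

local notation "Mat" => Matrix ι ι F

/-- The isometries of determinant one. -/
def Pres (f : (ι → F) → (ι → F) → F) (g : GL ι F) : Prop :=
  (∀ x y, f ((g : Matrix ι ι F) *ᵥ x) ((g : Matrix ι ι F) *ᵥ y) = f x y) ∧ (g : Matrix ι ι F).det = 1

/-- The fixer of a family of vectors. -/
def fixGrp {j : ℕ} (c : Fin j → ι → F) : Subgroup (GL ι F) where
  carrier := {g | ∀ i, (g : Mat) *ᵥ c i = c i}
  mul_mem' {a b} ha hb i := by rw [Units.val_mul, ← Matrix.mulVec_mulVec, hb, ha]
  one_mem' i := by simp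
  inv_mem' {a} ha i := by
    have := gl_inv_mulVec' a (c i)
    rwa [ha i] at this

/-- The group generated by unitary transvections. -/
def tgrp : Subgroup (GL ι F) :=
  Subgroup.closure {g | ∃ (w : ι → F) (a : F) (h : ((a • fn hf w) : Dual F _) w = 0),
    f w w = 0 ∧ σ a = -a ∧ g = transGL (a • fn hf w) w h}

/-- Moving by transvections fixing a family. -/
def Rel {j : ℕ} (c : Fin j → ι → F) (u v : ι → F) : Prop := ∃ g ∈ tgrp hf ⊓ fixGrp c, (g : Mat) *ᵥ u = v

/-- Orthonormal families. -/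
def ON {j : ℕ} (c : Fin j → ι → F) : Prop := ∀ i l, f (c i) (c l) = if i = l then 1 else 0

theorem Rel.trans' {j : ℕ} {c : Fin j → ι → F} {u v w : ι → F} (h : Rel hf c u v) (h' : Rel hf c v w) :
    Rel hf c u w := by
  obtain ⟨g, hg, e⟩ := h
  obtain ⟨g', hg', e'⟩ := h'
  exact ⟨g' * g, mul_mem hg' hg, by rw [Units.val_mul, ← Matrix.mulVec_mulVec, e, e']⟩

theorem Rel.symm' {j : ℕ} {c : Fin j → ι → F} {u v : ι → F} (h : Rel hf c u v) : Rel hf c v u := by
  obtain ⟨g, hg, e⟩ := h
  exact ⟨g⁻¹, inv_mem hg, by rw [← e, gl_inv_mulVec']⟩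

include hf

theorem pres_tgrp {g : GL ι F} (hg : g ∈ tgrp hf) : Pres f g := by
  induction hg using Subgroup.closure_induction with
  | mem g hg =>
    obtain ⟨w, a, h, hw, ha, rfl⟩ := hg
    refine ⟨fun x y => ?_, congrArg Units.val (det_transGL _ w h)⟩
    simp only [transGL_apply, LinearMap.smul_apply, fn_apply, smul_eq_mul]
    rw [hf.add_left, add_right hf, add_right hf, hf.smul_left, hf.smul_left, smul_right hf, smul_right hf, hw,
      map_mul, ha, ← hf.herm w y]
    ring
  | one => exact ⟨fun x y => by simp, by simp⟩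
  | mul a b _ _ ha hb =>
    refine ⟨fun x y => ?_, by rw [Units.val_mul, Matrix.det_mul, ha.2, hb.2, one_mul]⟩
    rw [Units.val_mul, ← Matrix.mulVec_mulVec, ← Matrix.mulVec_mulVec, ha.1, hb.1]
  | inv a _ ha =>
    refine ⟨fun x y => ?_, ?_⟩
    · conv_rhs => rw [← gl_inv_mulVec a x, ← gl_inv_mulVec a y, ha.1]
    · have : ((a⁻¹ : GL ι F) : Mat).det * (a : Mat).det = 1 := by
        rw [← Matrix.det_mul, ← Units.val_mul, inv_mul_cancel, Units.val_one, Matrix.det_one]
      rwa [ha.2, mul_one] at this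

theorem tg {j : ℕ} {c : Fin j → ι → F} {w : ι → F} (hwc : ∀ i, f w (c i) = 0) (hw : f w w = 0) {a : F}
    (ha : σ a = -a) : ∃ g ∈ tgrp hf ⊓ fixGrp c, ∀ x, (g : Mat) *ᵥ x = x + (a * f x w) • w := by
  have h : ((a • fn hf w) : Dual F _) w = 0 := by simp [fn_apply, hw]
  have hval : ∀ x, (transGL (a • fn hf w) w h : Mat) *ᵥ x = x + (a * f x w) • w := fun x => by
    rw [transGL_apply, LinearMap.smul_apply, fn_apply, smul_eq_mul]
  refine ⟨_, Subgroup.mem_inf.2 ⟨Subgroup.subset_closure ⟨w, a, h, hw, ha, rfl⟩, fun i => ?_⟩, hval⟩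
  rw [hval, swap_zero hf (hwc i), mul_zero, zero_smul, add_zero]

theorem rel_tg {j : ℕ} {c : Fin j → ι → F} {u v w : ι → F} (hwc : ∀ i, f w (c i) = 0) (hw : f w w = 0) {a : F}
    (ha : σ a = -a) (h : v = u + (a * f u w) • w) : Rel hf c u v := by
  obtain ⟨g, hg, hval⟩ := tg hf hwc hw ha
  exact ⟨g, hg, by rw [hval, h]⟩

theorem rel_mem {j : ℕ} {c : Fin j → ι → F} {u v : ι → F} (hu : ∀ i, f u (c i) = 0) (h : Rel hf c u v) :
    (∀ i, f v (c i) = 0) ∧ f v v = f u u := by
  obtain ⟨g, hg, rfl⟩ := h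
  obtain ⟨hg1, hg2⟩ := Subgroup.mem_inf.1 hg
  have hp := (pres_tgrp hf hg1).1
  refine ⟨fun i => ?_, hp u u⟩
  conv_lhs => rw [← hg2 i, hp]
  exact hu i

theorem exists_skew : ∃ d : F, d ≠ 0 ∧ σ d = -d := by
  obtain ⟨a, ha⟩ : ∃ a, a ≠ σ a := by
    by_contra hc; push Not at hc; exact hf.ne_refl (RingEquiv.ext fun a => (hc a).symm)
  exact ⟨a - σ a, sub_ne_zero.2 ha, by rw [map_sub, hf.involutive]; ring⟩

theorem sum_left {j : ℕ} (a : Fin j → F) (c : Fin j → ι → F) (y : ι → F) :
    f (∑ i, a i • c i) y = ∑ i, a i * f (c i) y := by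
  rw [← fn_apply hf y, map_sum]
  simp [fn_apply]

theorem on_sum {j : ℕ} {c : Fin j → ι → F} (hc : ON (f := f) c) (a : Fin j → F) (l : Fin j) :
    f (∑ i, a i • c i) (c l) = a l := by
  rw [sum_left hf, Finset.sum_eq_single l]
  · rw [hc, if_pos rfl, mul_one]
  · intro i _ hi; rw [hc, if_neg hi, mul_zero]
  · simp

theorem exists_proj {j : ℕ} {c : Fin j → ι → F} (hc : ON (f := f) c) (y : ι → F) :
    ∃ z, (∀ i, f z (c i) = 0) ∧ ∀ x, (∀ i, f x (c i) = 0) → f x z = f x y ∧ f z x = f y x := by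
  refine ⟨y - ∑ i, f y (c i) • c i, fun l => ?_, fun x hx => ?_⟩
  · rw [sub_left hf, on_sum hf hc, sub_self]
  · have h1 : f (y - ∑ i, f y (c i) • c i) x = f y x := by
      rw [sub_left hf, sum_left hf, Finset.sum_eq_zero fun i _ => by rw [swap_zero hf (hx i), mul_zero], sub_zero]
    exact ⟨by rw [hf.herm, h1, ← hf.herm], h1⟩

theorem on_independent {j : ℕ} {c : Fin j → ι → F} (hc : ON (f := f) c) : LinearIndependent F c := by
  rw [Fintype.linearIndependent_iff]
  intro a ha l
  rw [← on_sum hf hc a l, ha, zero_left hf]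

theorem perp_dim {j : ℕ} {c : Fin j → ι → F} (hc : ON (f := f) c) : finrank F (perp hf c) + j = Fintype.card ι := by
  refine le_antisymm ?_ (finrank_perp hf c)
  have h1 := finrank_span_eq_card (on_independent hf hc)
  rw [Fintype.card_fin] at h1
  have h2 : perp hf c ⊓ Submodule.span F (Set.range c) = ⊥ := by
    rw [Submodule.eq_bot_iff]
    rintro x ⟨hx, hx'⟩
    obtain ⟨a, rfl⟩ := (Submodule.mem_span_range_iff_exists_fun F).1 hx'
    have hx0 := (mem_perp hf).1 hx
    exact Finset.sum_eq_zero fun i _ => by rw [← on_sum hf hc a i, hx0 i, zero_smul]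
  have h3 := Submodule.finrank_sup_add_finrank_inf_eq (perp hf c) (Submodule.span F (Set.range c))
  rw [h2, finrank_bot, h1] at h3
  have h4 := Submodule.finrank_le (perp hf c ⊔ Submodule.span F (Set.range c))
  rw [Module.finrank_pi] at h4
  omega

theorem polar_zero {Z : Submodule F (ι → F)} (hcon : ∀ z ∈ Z, f z z = 0) : ∀ a ∈ Z, ∀ b ∈ Z, f a b = 0 := by
  intro a ha b hb
  by_contra hab
  obtain ⟨d, hd0, hd⟩ := exists_skew hf
  have key : ∀ s : F, σ s * f a b + σ (σ s * f a b) = 0 := fun s => by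
    have h := hcon _ (Z.add_mem ha (Z.smul_mem s hb))
    rw [hf.add_left, add_right hf, add_right hf, hf.smul_left, hf.smul_left, smul_right hf, smul_right hf,
      hcon a ha, hcon b hb, hf.herm b a] at h
    rw [map_mul, hf.involutive]
    linear_combination h
  apply hf.ne_refl
  have h2 : ∀ x : F, σ x = -x := fun x => by
    have := key (σ (x / f a b))
    rw [hf.involutive, div_mul_cancel₀ _ hab] at this
    linear_combination this
  have h11 : (1 : F) = -1 := by simpa using h2 1
  exact RingEquiv.ext fun x => by rw [RingEquiv.refl_apply, h2]; linear_combination (-x) * h11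

theorem exists_anis {j : ℕ} {c : Fin j → ι → F} (hc : ON (f := f) c) (hj : j < Fintype.card ι) :
    ∃ v, (∀ i, f v (c i) = 0) ∧ f v v = 1 := by
  obtain ⟨z, hz, hzz⟩ : ∃ z ∈ perp hf c, f z z ≠ 0 := by
    by_contra hcon
    push Not at hcon
    have hd := perp_dim hf hc
    obtain ⟨x, hx, hx0⟩ := Submodule.exists_mem_ne_zero_of_ne_bot
      (fun e => by rw [e, finrank_bot] at hd; omega : perp hf c ≠ ⊥)
    obtain ⟨y, hy⟩ := (hf.nondegenerate x hx0).2
    obtain ⟨z, hz, hzx⟩ := exists_proj hf hc y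
    exact hy ((hzx x ((mem_perp hf).1 hx)).1 ▸ polar_zero hf hcon x hx z ((mem_perp hf).2 hz))
  rw [mem_perp] at hz
  obtain ⟨t, ht⟩ := exists_norm hf.ne_refl hf.involutive (r := (f z z)⁻¹) (by rw [map_inv₀, ← hf.herm z z])
  refine ⟨t • z, fun i => by rw [hf.smul_left, hz i, mul_zero], ?_⟩
  rw [hf.smul_left, smul_right hf, ← mul_assoc, ht, inv_mul_cancel₀ hzz]

theorem on_cons {j : ℕ} {c : Fin j → ι → F} (hc : ON (f := f) c) {v : ι → F} (hv : ∀ i, f v (c i) = 0)
    (hvv : f v v = 1) : ON (f := f) (Fin.cons v c : Fin (j + 1) → ι → F) := by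
  intro i l
  induction i using Fin.cases with
  | zero =>
    induction l using Fin.cases with
    | zero => simpa using hvv
    | succ l => simp [hv l, (Fin.succ_ne_zero l).symm]
  | succ i =>
    induction l using Fin.cases with
    | zero => simp [swap_zero hf (hv i), Fin.succ_ne_zero i]
    | succ l => simpa [Fin.succ_inj] using hc i l

theorem exists_iso_both {j : ℕ} {c : Fin j → ι → F} (hc : ON (f := f) c) (hj : j + 2 ≤ Fintype.card ι) {u v : ι → F}
    (hu : ∀ i, f u (c i) = 0) (hv : ∀ i, f v (c i) = 0) (huu : f u u = 1) (hvv : f v v = 1) :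
    ∃ w, (∀ i, f w (c i) = 0) ∧ f w w = 0 ∧ f v w ≠ 0 ∧ f w u ≠ 0 := by
  obtain ⟨t, ht⟩ := exists_norm hf.ne_refl hf.involutive (r := (-1 : F)) (by simp)
  have ht0 : t ≠ 0 := fun e => by rw [e, zero_mul] at ht; simpa using ht.symm
  obtain ⟨y, hy, hyy, hyv, hvu⟩ : ∃ y, (∀ i, f y (c i) = 0) ∧ f y y = 1 ∧ f y v = 0 ∧ (f v u = 0 → y = u) := by
    by_cases h : f v u = 0
    · exact ⟨u, hu, huu, swap_zero hf h, fun _ => rfl⟩
    · obtain ⟨y, hy, hyy⟩ := exists_anis hf (on_cons hf hc hv hvv) (by omega)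
      exact ⟨y, fun i => by simpa using hy i.succ, hyy, by simpa using hy 0, fun e => absurd e h⟩
  have main : ∀ t', t' * σ t' = -1 → f (v + t' • y) u ≠ 0 →
      ∃ w, (∀ i, f w (c i) = 0) ∧ f w w = 0 ∧ f v w ≠ 0 ∧ f w u ≠ 0 := fun t' ht' hne => by
    refine ⟨v + t' • y, fun i => by rw [hf.add_left, hf.smul_left, hv i, hy i, mul_zero, add_zero], ?_, ?_, hne⟩
    · rw [hf.add_left, add_right hf, add_right hf, hf.smul_left, hf.smul_left, smul_right hf, smul_right hf, hvv, hyy,
        hyv, swap_zero hf hyv]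
      linear_combination ht'
    · rw [add_right hf, smul_right hf, swap_zero hf hyv, hvv, mul_zero, add_zero]; exact one_ne_zero
  by_cases h1 : f (v + t • y) u = 0
  · obtain ⟨a, ha⟩ : ∃ a, a ≠ σ a := by
      by_contra hc; push Not at hc; exact hf.ne_refl (RingEquiv.ext fun a => (hc a).symm)
    have ha0 : a ≠ 0 := fun e => ha (by rw [e, map_zero])
    have hz1 : a / σ a ≠ 1 := fun e => ha ((div_eq_one_iff_eq ((map_ne_zero σ).2 ha0)).1 e)
    refine main (t * (a / σ a)) ?_ ?_
    · rw [map_mul, map_div₀, hf.involutive, ← ht]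
      have := (map_ne_zero σ).2 ha0
      field_simp
    · intro h2
      rw [hf.add_left, hf.smul_left] at h1 h2
      have h3 : (a / σ a - 1) * (t * f y u) = 0 := by linear_combination h2 - h1
      have h4 : f v u = 0 := by
        have := (mul_eq_zero.1 h3).resolve_left (sub_ne_zero.2 hz1)
        linear_combination h1 - this
      rw [h4, hvu h4, huu] at h1
      exact ht0 (by linear_combination h1)
  · exact main t ht h1

theorem one_step {j : ℕ} {c : Fin j → ι → F} {u v : ι → F}
    (hu : ∀ i, f u (c i) = 0) (hv : ∀ i, f v (c i) = 0) (huu : f u u = 1) (hvv : f v v = 1)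
    (htr : f u v + σ (f u v) = 2) (hne : f u v ≠ 1) : Rel hf c u v := by
  have hne' : f u v - 1 ≠ 0 := sub_ne_zero.2 hne
  refine rel_tg hf (w := v - u) (a := (f u v - 1)⁻¹) (fun i => by rw [sub_left hf, hu i, hv i, sub_zero]) ?_ ?_ ?_
  · have e : ∀ x, f x (v - u) = f x v - f x u := fun x => by
      rw [eq_sub_iff_add_eq, ← add_right hf, sub_add_cancel]
    rw [sub_left hf, e, e, huu, hvv, hf.herm v u]
    linear_combination (-1 : F) * htr
  · rw [map_inv₀, map_sub, map_one, ← inv_neg]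
    congr 1
    linear_combination htr
  · have e : f u (v - u) = f u v - f u u := by rw [eq_sub_iff_add_eq, ← add_right hf, sub_add_cancel]
    rw [e, huu, inv_mul_cancel₀ hne', one_smul, add_sub_cancel]

theorem two_step {j : ℕ} {c : Fin j → ι → F} (hc : ON (f := f) c) {u v s : ι → F}
    (hu : ∀ i, f u (c i) = 0) (hv : ∀ i, f v (c i) = 0) (huu : f u u = 1) (hvv : f v v = 1)
    (huv : v ∉ Submodule.span F {u}) (hs : ∀ i, f s (c i) = 0) (hsu : f s u = 0) (hsv : f s v = 0) (hss : f s s ≠ 0) :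
    Rel hf c u v := by
  obtain ⟨d, hd0, hd⟩ := exists_skew hf
  have huv' : u ∉ Submodule.span F {v} := fun h => by
    obtain ⟨r, rfl⟩ := Submodule.mem_span_singleton.1 h
    rcases eq_or_ne r 0 with rfl | hr
    · rw [zero_smul, zero_left hf] at huu; exact zero_ne_one huu
    · exact huv (Submodule.mem_span_singleton.2 ⟨r⁻¹, inv_smul_smul₀ hr v⟩)
  obtain ⟨yu₀, hyu1, hyu0⟩ := exists_sep hf huv'
  obtain ⟨yv₀, hyv1, hyv0⟩ := exists_sep hf huv
  obtain ⟨yu, hyuc, hyu⟩ := exists_proj hf hc yu₀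
  obtain ⟨yv, hyvc, hyv⟩ := exists_proj hf hc yv₀
  have a1 : f yu u = 1 := by rw [(hyu u hu).2, hf.herm, hyu1, map_one]
  have a2 : f yu v = 0 := by
    rw [(hyu v hv).2]; exact swap_zero hf (hyu0 v (Submodule.mem_span_singleton_self v))
  have b1 : f yv v = 1 := by rw [(hyv v hv).2, hf.herm, hyv1, map_one]
  have b2 : f yv u = 0 := by
    rw [(hyv u hu).2]; exact swap_zero hf (hyv0 u (Submodule.mem_span_singleton_self u))
  set z₁ := (1 - d) • yu + (1 + d) • yv with hz₁
  set z₀ := z₁ - (f z₁ s / f s s) • s with hz₀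
  have hz₀u : f z₀ u = 1 - d := by
    rw [hz₀, sub_left hf, hf.smul_left, hsu, hz₁, hf.add_left, hf.smul_left, hf.smul_left, a1, b2]; ring
  have hz₀v : f z₀ v = 1 + d := by
    rw [hz₀, sub_left hf, hf.smul_left, hsv, hz₁, hf.add_left, hf.smul_left, hf.smul_left, a2, b1]; ring
  have hz₀c : ∀ i, f z₀ (c i) = 0 := fun i => by
    rw [hz₀, sub_left hf, hf.smul_left, hs i, hz₁, hf.add_left, hf.smul_left, hf.smul_left, hyuc i, hyvc i]; ring
  have hz₀s : f z₀ s = 0 := by rw [hz₀, sub_left hf, hf.smul_left, div_mul_cancel₀ _ hss, sub_self]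
  obtain ⟨t, ht⟩ := exists_norm hf.ne_refl hf.involutive (r := (1 - f z₀ z₀) / f s s)
    (by rw [map_div₀, map_sub, map_one, ← hf.herm z₀ z₀, ← hf.herm s s])
  set z := z₀ + t • s with hz
  have hzc : ∀ i, f z (c i) = 0 := fun i => by rw [hz, hf.add_left, hf.smul_left, hz₀c i, hs i]; ring
  have hzz : f z z = 1 := by
    rw [hz, hf.add_left, add_right hf, add_right hf, hf.smul_left, hf.smul_left, smul_right hf, smul_right hf, hz₀s,
      swap_zero hf hz₀s, ← mul_assoc, ht, div_mul_cancel₀ _ hss]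
    ring
  have hzu : f z u = 1 - d := by rw [hz, hf.add_left, hf.smul_left, hz₀u, hsu]; ring
  have hzv : f z v = 1 + d := by rw [hz, hf.add_left, hf.smul_left, hz₀v, hsv]; ring
  have huz : f u z = 1 + d := by rw [hf.herm, hzu, map_sub, map_one, hd]; ring
  have htwo : (1 + d) + σ (1 + d) = 2 := by rw [map_add, map_one, hd]; ring
  have hne : (1 : F) + d ≠ 1 := fun e => hd0 (by linear_combination e)
  exact Rel.trans' hf (one_step hf hu hzc huu hzz (by rw [huz]; exact htwo) (by rw [huz]; exact hne))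
    (one_step hf hzc hv hzz hvv (by rw [hzv]; exact htwo) (by rw [hzv]; exact hne))

theorem move_four {j : ℕ} {c : Fin j → ι → F} (hc : ON (f := f) c) (hj : j + 4 ≤ Fintype.card ι) {u v : ι → F}
    (hu : ∀ i, f u (c i) = 0) (hv : ∀ i, f v (c i) = 0) (huu : f u u = 1) (hvv : f v v = 1) : Rel hf c u v := by
  suffices H : ∀ v, (∀ i, f v (c i) = 0) → f v v = 1 → v ∉ Submodule.span F {u} → Rel hf c u v by
    by_cases h : v ∈ Submodule.span F {u}
    · obtain ⟨w, hwc, hw, hvw, -⟩ := exists_iso_both hf hc (by omega) hu hv huu hvv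
      obtain ⟨d, hd0, hd⟩ := exists_skew hf
      have h1 : Rel hf c v (v + (d * f v w) • w) := rel_tg hf hwc hw hd rfl
      obtain ⟨hv', hvv'⟩ := rel_mem hf hv h1
      refine Rel.trans' hf (H _ hv' (hvv'.trans hvv) fun hm => ?_) (Rel.symm' hf h1)
      obtain ⟨r, hr⟩ := Submodule.mem_span_singleton.1 ((Submodule.add_mem_iff_right _ h).1 hm)
      have : f ((d * f v w) • w) ((d * f v w) • w) = 0 := by rw [hf.smul_left, smul_right hf, hw]; ring
      rw [← hr, hf.smul_left, smul_right hf, huu, mul_one] at this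
      rcases mul_eq_zero.1 this with e | e
      · rw [e, zero_smul] at hr
        rcases smul_eq_zero.1 hr.symm with e' | e'
        · exact mul_ne_zero hd0 hvw e'
        · exact hvw (by rw [e', zero_right hf])
      · rw [(map_eq_zero σ).1 e, zero_smul] at hr
        rcases smul_eq_zero.1 hr.symm with e' | e'
        · exact mul_ne_zero hd0 hvw e'
        · exact hvw (by rw [e', zero_right hf])
    · exact H v hv hvv h
  intro v hv hvv huv
  obtain ⟨s, hs, hss⟩ : ∃ s ∈ perp hf (Fin.cons u (Fin.cons v c) : Fin (j + 1 + 1) → ι → F), f s s ≠ 0 := by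
    by_contra hcon
    push Not at hcon
    set S := perp hf (Fin.cons u (Fin.cons v c) : Fin (j + 1 + 1) → ι → F) with hS
    have hzero := polar_zero hf hcon
    have hSdim := finrank_perp hf (Fin.cons u (Fin.cons v c) : Fin (j + 1 + 1) → ι → F)
    rw [← hS] at hSdim
    have hcu := on_cons hf hc hu huu
    set U := Submodule.span F (Set.range (Fin.cons u c : Fin (j + 1) → ι → F)) with hU
    have hSU : ∀ x ∈ S, ∀ y ∈ U, f x y = 0 := by
      intro x hx y hy
      rw [hS, mem_perp] at hx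
      obtain ⟨a, rfl⟩ := (Submodule.mem_span_range_iff_exists_fun F).1 hy
      rw [hf.herm, sum_left hf, Finset.sum_eq_zero, map_zero]
      intro i _
      induction i using Fin.cases with
      | zero => rw [Fin.cons_zero, swap_zero hf (by simpa using hx 0 : f x u = 0), mul_zero]
      | succ i => rw [Fin.cons_succ, swap_zero hf (by simpa using hx i.succ.succ : f x (c i) = 0), mul_zero]
    have hinf : S ⊓ U = ⊥ := by
      rw [Submodule.eq_bot_iff]
      rintro x ⟨hx, hx'⟩
      obtain ⟨a, rfl⟩ := (Submodule.mem_span_range_iff_exists_fun F).1 hx'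
      refine Finset.sum_eq_zero fun i _ => ?_
      rw [← on_sum hf hcu a i, hSU _ hx _ (Submodule.subset_span ⟨i, rfl⟩), zero_smul]
    have hUdim : finrank F U = j + 1 := by
      rw [hU, finrank_span_eq_card (on_independent hf hcu), Fintype.card_fin]
    have hsup := Submodule.finrank_sup_add_finrank_inf_eq S U
    rw [hinf, finrank_bot, hUdim] at hsup
    haveI : Finite (Dual F ((ι → F) ⧸ (S ⊔ U))) := Module.finite_of_finite F
    let ψ : S → Dual F ((ι → F) ⧸ (S ⊔ U)) := fun z => (S ⊔ U).liftQ (fn hf z) fun x hx => by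
      obtain ⟨a, ha, b, hb, rfl⟩ := Submodule.mem_sup.1 hx
      show f (a + b) z = 0
      rw [hf.add_left, hzero a ha z z.2, swap_zero hf (hSU z z.2 b hb), add_zero]
    have hinj : Function.Injective ψ := fun a b e => by
      by_contra hab
      obtain ⟨x, hx⟩ := (hf.nondegenerate ((a : ι → F) - b) (sub_ne_zero.2 fun h => hab (Subtype.ext h))).1
      apply hx
      rw [hf.herm, sub_left hf, map_sub, ← hf.herm, ← hf.herm, sub_eq_zero]
      exact LinearMap.congr_fun e (Submodule.Quotient.mk x)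
    have h := Nat.card_le_card_of_injective ψ hinj
    rw [Module.natCard_eq_pow_finrank (K := F), Module.natCard_eq_pow_finrank (K := F) (V := Dual F ((ι → F) ⧸ (S ⊔ U))),
      Subspace.dual_finrank_eq] at h
    rw [Nat.pow_le_pow_iff_right (Finite.one_lt_card)] at h
    have h2 := Submodule.finrank_quotient_add_finrank (S ⊔ U)
    rw [Module.finrank_pi] at h2
    omega
  rw [mem_perp] at hs
  exact two_step hf hc hu hv huu hvv huv (fun i => by simpa using hs i.succ.succ) (by simpa using hs 0)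
    (by simpa using hs 1) hss

theorem move_three {j : ℕ} {c : Fin j → ι → F} (hc : ON (f := f) c) (hj : j + 3 ≤ Fintype.card ι)
    {κ : F} (hκ : σ κ = κ) (hκ0 : κ ≠ 0) (hκ1 : κ ≠ 1) {u v : ι → F}
    (hu : ∀ i, f u (c i) = 0) (hv : ∀ i, f v (c i) = 0) (huu : f u u = 1) (hvv : f v v = 1) : Rel hf c u v := by
  suffices H : ∀ v, (∀ i, f v (c i) = 0) → f v v = 1 → f v u * f u v ≠ 1 → Rel hf c u v by
    by_cases h : f v u * f u v = 1
    · obtain ⟨w, hwc, hw, hvw, hwu⟩ := exists_iso_both hf hc (by omega) hu hv huu hvv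
      obtain ⟨d, hd0, hd⟩ := exists_skew hf
      set b := f v u with hb
      have hb' : f u v = σ b := by rw [hb]; exact hf.herm u v
      set τ := f v w * f w u with hτ
      have hτ0 : τ ≠ 0 := mul_ne_zero hvw hwu
      have key : ∀ e, σ e = -e → f (v + (e * f v w) • w) u * f u (v + (e * f v w) • w) = 1 →
          e * ((τ * σ b - b * σ τ) - e * (τ * σ τ)) = 0 := by
        intro e he heq
        have hL : f (v + (e * f v w) • w) u = b + e * τ := by rw [hf.add_left, hf.smul_left, ← hb, hτ]; ring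
        rw [hf.herm u (v + (e * f v w) • w), hL, map_add, map_mul, he] at heq
        rw [hb'] at h
        linear_combination heq - h
      obtain ⟨e, he, hne⟩ : ∃ e, σ e = -e ∧ f (v + (e * f v w) • w) u * f u (v + (e * f v w) • w) ≠ 1 := by
        by_contra hc'
        push Not at hc'
        have hd' : σ (κ * d) = -(κ * d) := by rw [map_mul, hκ, hd]; ring
        have k1 := (mul_eq_zero.1 (key d hd (hc' d hd))).resolve_left hd0
        have k2 := (mul_eq_zero.1 (key _ hd' (hc' _ hd'))).resolve_left (mul_ne_zero hκ0 hd0)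
        have : (κ - 1) * (d * (τ * σ τ)) = 0 := by linear_combination k1 - k2
        exact mul_ne_zero (sub_ne_zero.2 hκ1) (mul_ne_zero hd0 (mul_ne_zero hτ0 ((map_ne_zero σ).2 hτ0))) this
      have h1 : Rel hf c v (v + (e * f v w) • w) := rel_tg hf hwc hw he rfl
      obtain ⟨hv', hvv'⟩ := rel_mem hf hv h1
      exact Rel.trans' hf (H _ hv' (hvv'.trans hvv) hne) (Rel.symm' hf h1)
    · exact H v hv hvv h
  intro v hv hvv hN
  have huv : v ∉ Submodule.span F {u} := fun h => by
    obtain ⟨r, rfl⟩ := Submodule.mem_span_singleton.1 h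
    apply hN
    rw [hf.smul_left, smul_right hf, huu] at hvv ⊢
    linear_combination hvv
  set S := perp hf (Fin.cons u (Fin.cons v c) : Fin (j + 1 + 1) → ι → F) with hS
  obtain ⟨s, hs, hss⟩ : ∃ s ∈ S, f s s ≠ 0 := by
    by_contra hcon
    push Not at hcon
    have hzero := polar_zero hf hcon
    have hSdim := finrank_perp hf (Fin.cons u (Fin.cons v c) : Fin (j + 1 + 1) → ι → F)
    obtain ⟨s, hs, hs0⟩ := Submodule.exists_mem_ne_zero_of_ne_bot
      (fun e => by rw [← hS, e, finrank_bot] at hSdim; omega : S ≠ ⊥)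
    obtain ⟨y₀, hy₀⟩ := (hf.nondegenerate s hs0).2
    have hs' := (mem_perp hf).1 hs
    have hsu : f s u = 0 := by simpa using hs' 0
    have hsv : f s v = 0 := by simpa using hs' 1
    obtain ⟨y, hyc, hy⟩ := exists_proj hf hc y₀
    rw [← (hy s (fun i => by simpa using hs' i.succ.succ)).1] at hy₀
    set den := f v u * f u v - 1 with hden
    have hden0 : den ≠ 0 := sub_ne_zero.2 hN
    set q := (f y u * f u v - f y v) / den with hq
    set p := f y u - q * f v u with hp
    have hr : y - (p • u + q • v) ∈ S := by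
      rw [hS, mem_perp]
      intro i
      induction i using Fin.cases with
      | zero =>
        rw [Fin.cons_zero, sub_left hf, hf.add_left, hf.smul_left, hf.smul_left, huu, hp]; ring
      | succ i =>
        induction i using Fin.cases with
        | zero =>
          rw [Fin.cons_succ, Fin.cons_zero, sub_left hf, hf.add_left, hf.smul_left, hf.smul_left, hvv, hp, hq]
          field_simp
          rw [hden]; ring
        | succ i =>
          rw [Fin.cons_succ, Fin.cons_succ, sub_left hf, hf.add_left, hf.smul_left, hf.smul_left, hu i, hv i, hyc i]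
          ring
    apply hy₀
    have := hzero _ hs _ hr
    rw [hf.herm, sub_left hf, hf.add_left, hf.smul_left, hf.smul_left, swap_zero hf hsu, swap_zero hf hsv, mul_zero,
      mul_zero, add_zero, sub_zero, ← hf.herm] at this
    exact this
  rw [hS, mem_perp] at hs
  exact two_step hf hc hu hv huu hvv huv (fun i => by simpa using hs i.succ.succ) (by simpa using hs 0)
    (by simpa using hs 1) hss

theorem move_three_two {j : ℕ} {c : Fin j → ι → F} (hc : ON (f := f) c) (hj : j + 3 = Fintype.card ι) (hj0 : 0 < j)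
    (hK : ∀ a : F, σ a = a → a = 0 ∨ a = 1) {u v : ι → F}
    (hu : ∀ i, f u (c i) = 0) (hv : ∀ i, f v (c i) = 0) (huu : f u u = 1) (hvv : f v v = 1) : Rel hf c u v := by
  have h2 : (2 : F) = 0 := by
    rcases hK (-1) (by simp) with h | h
    · exact absurd h (by simp)
    · linear_combination (-1 : F) * h
  obtain ⟨a, ha⟩ : ∃ a, a ≠ σ a := by
    by_contra hc'; push Not at hc'; exact hf.ne_refl (RingEquiv.ext fun a => (hc' a).symm)
  have ha0 : a ≠ 0 := fun e => ha (by rw [e, map_zero])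
  have htr : a + σ a = 1 := by
    rcases hK (a + σ a) (by rw [map_add, hf.involutive, add_comm]) with h | h
    · exact absurd (by linear_combination h - σ a * h2 : a = σ a) ha
    · exact h
  have hnm : a * σ a = 1 := by
    rcases hK (a * σ a) (by rw [map_mul, hf.involutive, mul_comm]) with h | h
    · exact absurd h (mul_ne_zero ha0 ((map_ne_zero σ).2 ha0))
    · exact h
  have hsa : σ a = a + 1 := by linear_combination htr - a * h2
  have haa : a * a = a + 1 := by rw [hsa] at hnm; linear_combination hnm - a * h2 - h2 + h2 * 1 - h2 * 0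
  have hone : σ (1 : F) = -1 := by rw [map_one]; linear_combination h2
  have hunit : ∀ r : F, r ≠ 0 → r * σ r = 1 := fun r hr => by
    rcases hK (r * σ r) (by rw [map_mul, hf.involutive, mul_comm]) with h | h
    · exact absurd h (mul_ne_zero hr ((map_ne_zero σ).2 hr))
    · exact h
  obtain ⟨e₂, he₂c', he₂⟩ := exists_anis hf (on_cons hf hc hv hvv) (by omega)
  have hc2 := on_cons hf (on_cons hf hc hv hvv) he₂c' he₂
  obtain ⟨e₃, he₃c', he₃⟩ := exists_anis hf hc2 (by omega)
  have he₂c : ∀ i, f e₂ (c i) = 0 := fun i => by simpa using he₂c' i.succ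
  have he₃c : ∀ i, f e₃ (c i) = 0 := fun i => by simpa using he₃c' i.succ.succ
  have h21 : f e₂ v = 0 := by simpa using he₂c' 0
  have h31 : f e₃ v = 0 := by simpa using he₃c' 1
  have h32 : f e₃ e₂ = 0 := by simpa using he₃c' 0
  -- one coordinate
  have swap : ∀ x y : ι → F, (∀ i, f x (c i) = 0) → (∀ i, f y (c i) = 0) → f x x = 1 → f y y = 1 → f x y = 0 →
      Rel hf c x y := by
    intro x y hx hy hxx hyy hxy
    refine rel_tg hf (w := x + y) (a := 1) (fun i => by rw [hf.add_left, hx i, hy i, add_zero]) ?_ hone ?_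
    · rw [hf.add_left, add_right hf, add_right hf, hxx, hyy, hxy, swap_zero hf hxy]; linear_combination h2
    · rw [add_right hf, hxx, hxy, add_zero, one_mul, one_smul, ← add_assoc,
        show x + x = (2 : F) • x from (two_smul F x).symm, h2, zero_smul, zero_add]
  have hsmul : ∀ (r : F) (x : ι → F), r ≠ 0 → (∀ i, f x (c i) = 0) → f x x = 1 →
      (∀ i, f (r • x) (c i) = 0) ∧ f (r • x) (r • x) = 1 := fun r x hr hx hxx =>
    ⟨fun i => by rw [hf.smul_left, hx i, mul_zero], by rw [hf.smul_left, smul_right hf, hxx, mul_one, hunit r hr]⟩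
  have toV : ∀ (r : F), r ≠ 0 → Rel hf c (r • v) v ∧ Rel hf c (r • e₂) v ∧ Rel hf c (r • e₃) v := by
    intro r hr
    obtain ⟨c1, n1⟩ := hsmul r v hr hv hvv
    obtain ⟨c2, n2⟩ := hsmul r e₂ hr he₂c he₂
    obtain ⟨c3, n3⟩ := hsmul r e₃ hr he₃c he₃
    refine ⟨Rel.trans' hf (swap _ e₂ c1 he₂c n1 he₂ (by rw [hf.smul_left, swap_zero hf h21, mul_zero]))
      (swap _ _ he₂c hv he₂ hvv h21), ?_, ?_⟩
    · exact swap _ v c2 hv n2 hvv (by rw [hf.smul_left, h21, mul_zero])
    · exact swap _ v c3 hv n3 hvv (by rw [hf.smul_left, h31, mul_zero])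
  -- coordinates of `u`
  set p := f u v with hp
  set q := f u e₂ with hq
  set r := f u e₃ with hr
  have hu_eq : u = p • v + q • e₂ + r • e₃ := by
    have hc3 := on_cons hf hc2 he₃c' he₃
    have hd : u - (p • v + q • e₂ + r • e₃) ∈ perp hf (Fin.cons e₃ (Fin.cons e₂ (Fin.cons v c)) : Fin (j + 1 + 1 + 1) → ι → F) := by
      rw [mem_perp]
      intro i
      simp only [sub_left hf, hf.add_left, hf.smul_left]
      induction i using Fin.cases with
      | zero => simp [he₃, swap_zero hf h31, swap_zero hf h32, ← hr]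
      | succ i =>
        induction i using Fin.cases with
        | zero => simp [he₂, swap_zero hf h21, h32, ← hq]
        | succ i =>
          induction i using Fin.cases with
          | zero => rw [Fin.cons_succ, Fin.cons_succ, Fin.cons_zero]; simp [hvv, h21, h31, ← hp]
          | succ i => simp [hu i, hv i, he₂c i, he₃c i]
    have hdim := perp_dim hf hc3
    have hbot : perp hf (Fin.cons e₃ (Fin.cons e₂ (Fin.cons v c)) : Fin (j + 1 + 1 + 1) → ι → F) = ⊥ :=
      Submodule.finrank_eq_zero.1 (by omega)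
    rw [hbot, Submodule.mem_bot, sub_eq_zero] at hd
    exact hd
  have hnorm : p * σ p + q * σ q + r * σ r = 1 := by
    rw [← huu]
    conv_rhs => rw [hu_eq]
    simp only [hf.add_left, add_right hf, hf.smul_left, smul_right hf, hvv, he₂, he₃, h21, h31, h32, swap_zero hf h21,
      swap_zero hf h31, swap_zero hf h32]
    ring
  by_cases hp0 : p = 0
  · by_cases hq0 : q = 0
    · by_cases hr0 : r = 0
      · rw [hp0, hq0, hr0] at hnorm; simp at hnorm
      · rw [hu_eq, hp0, hq0, zero_smul, zero_smul, zero_add, zero_add]; exact (toV r hr0).2.2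
    · by_cases hr0 : r = 0
      · rw [hu_eq, hp0, hr0, zero_smul, zero_smul, zero_add, add_zero]; exact (toV q hq0).2.1
      · rw [hp0, hunit q hq0, hunit r hr0] at hnorm
        exact absurd (by linear_combination h2 - hnorm : (1 : F) = 0) one_ne_zero
  by_cases hq0 : q = 0
  · by_cases hr0 : r = 0
    · rw [hu_eq, hq0, hr0, zero_smul, zero_smul, add_zero, add_zero]; exact (toV p hp0).1
    · rw [hq0, hunit p hp0, hunit r hr0] at hnorm
      exact absurd (by linear_combination h2 - hnorm : (1 : F) = 0) one_ne_zero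
  by_cases hr0 : r = 0
  · rw [hr0, hunit p hp0, hunit q hq0] at hnorm
    exact absurd (by linear_combination h2 - hnorm : (1 : F) = 0) one_ne_zero
  obtain ⟨g1c, g1⟩ := hsmul p v hp0 hv hvv
  obtain ⟨g2c, g2⟩ := hsmul q e₂ hq0 he₂c he₂
  obtain ⟨g3c, g3⟩ := hsmul r e₃ hr0 he₃c he₃
  set E₁ := p • v
  set E₂ := q • e₂ with hE₂
  set E₃ := r • e₃ with hE₃
  have o12 : f E₁ E₂ = 0 := by simp [E₁, hE₂, hf.smul_left, smul_right hf, swap_zero hf h21]
  have o13 : f E₁ E₃ = 0 := by simp [E₁, hE₃, hf.smul_left, smul_right hf, swap_zero hf h31]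
  have o23 : f E₂ E₃ = 0 := by simp [hE₂, hE₃, hf.smul_left, smul_right hf, swap_zero hf h32]
  set i₀ : Fin j := ⟨0, hj0⟩
  set E₄ := c i₀ with hE₄
  have o44 : f E₄ E₄ = 1 := by rw [hE₄, hc, if_pos rfl]
  -- the word of four transvections
  have hw : ∀ (x₁ x₂ x₃ x₄ : F), x₁ * σ x₁ + x₂ * σ x₂ + x₃ * σ x₃ + x₄ * σ x₄ = 0 →
      ∀ i, i ≠ i₀ → f (x₁ • E₁ + x₂ • E₂ + x₃ • E₃ + x₄ • E₄) (x₁ • E₁ + x₂ • E₂ + x₃ • E₃ + x₄ • E₄) = 0 ∧
        f (x₁ • E₁ + x₂ • E₂ + x₃ • E₃ + x₄ • E₄) (c i) = 0 := by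
    intro x₁ x₂ x₃ x₄ hx i hi
    refine ⟨?_, ?_⟩
    · simp only [hf.add_left, add_right hf, hf.smul_left, smul_right hf, g1, g2, g3, o12, o13, o23, o44,
        swap_zero hf o12, swap_zero hf o13, swap_zero hf o23, g1c i₀, g2c i₀, g3c i₀, hE₄,
        swap_zero hf (g1c i₀), swap_zero hf (g2c i₀), swap_zero hf (g3c i₀), hc i₀ i₀, if_pos]
      linear_combination hx
    · simp only [hf.add_left, hf.smul_left, g1c i, g2c i, g3c i, hE₄, hc i₀ i, if_neg (Ne.symm hi)]
      ring
  have hTr : ∀ (x₁ x₂ x₃ x₄ : F), x₁ * σ x₁ + x₂ * σ x₂ + x₃ * σ x₃ + x₄ * σ x₄ = 0 →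
      ∃ g : GL ι F, g ∈ tgrp hf ∧ (∀ i, i ≠ i₀ → (g : Mat) *ᵥ c i = c i) ∧
        ∀ y₁ y₂ y₃ y₄ : F, (g : Mat) *ᵥ (y₁ • E₁ + y₂ • E₂ + y₃ • E₃ + y₄ • E₄) =
          (y₁ + (y₁ * σ x₁ + y₂ * σ x₂ + y₃ * σ x₃ + y₄ * σ x₄) * x₁) • E₁ +
          (y₂ + (y₁ * σ x₁ + y₂ * σ x₂ + y₃ * σ x₃ + y₄ * σ x₄) * x₂) • E₂ +
          (y₃ + (y₁ * σ x₁ + y₂ * σ x₂ + y₃ * σ x₃ + y₄ * σ x₄) * x₃) • E₃ +
          (y₄ + (y₁ * σ x₁ + y₂ * σ x₂ + y₃ * σ x₃ + y₄ * σ x₄) * x₄) • E₄ := by
    intro x₁ x₂ x₃ x₄ hx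
    set w := x₁ • E₁ + x₂ • E₂ + x₃ • E₃ + x₄ • E₄ with hwdef
    have hww : f w w = 0 := by
      rw [hwdef]
      simp only [hf.add_left, add_right hf, hf.smul_left, smul_right hf, g1, g2, g3, o12, o13, o23, o44,
        swap_zero hf o12, swap_zero hf o13, swap_zero hf o23, g1c i₀, g2c i₀, g3c i₀, hE₄,
        swap_zero hf (g1c i₀), swap_zero hf (g2c i₀), swap_zero hf (g3c i₀), hc i₀ i₀, if_pos]
      linear_combination hx
    obtain ⟨g, hg, hval⟩ := tg hf (c := (![] : Fin 0 → ι → F)) (fun i => i.elim0) hww hone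
    refine ⟨g, hg.1, fun i hi => ?_, fun y₁ y₂ y₃ y₄ => ?_⟩
    · rw [hval, swap_zero hf (hw x₁ x₂ x₃ x₄ hx i hi).2, mul_zero, zero_smul, add_zero]
    · rw [hval, hwdef]
      simp only [hf.add_left, add_right hf, hf.smul_left, smul_right hf, g1, g2, g3, o12, o13, o23, o44,
        swap_zero hf o12, swap_zero hf o13, swap_zero hf o23, g1c i₀, g2c i₀, g3c i₀, hE₄,
        swap_zero hf (g1c i₀), swap_zero hf (g2c i₀), swap_zero hf (g3c i₀), hc i₀ i₀, if_pos]
      module
  have n1 : σ (1 : F) = 1 := map_one σ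
  have n0 : σ (0 : F) = 0 := map_zero σ
  have nb : σ (a + 1) = a := by rw [map_add, hsa, map_one]; linear_combination h2
  obtain ⟨T₁, hT₁, hT₁c, v₁⟩ := hTr a a 1 a (by rw [hsa, n1]; linear_combination 3 * haa + (3 * a + 2) * h2)
  obtain ⟨T₂, hT₂, hT₂c, v₂⟩ := hTr 1 1 a a (by rw [hsa, n1]; linear_combination 2 * haa + (2 * a + 2) * h2)
  obtain ⟨T₃, hT₃, hT₃c, v₃⟩ := hTr 1 1 1 1 (by rw [n1]; linear_combination 2 * h2)
  obtain ⟨T₄, hT₄, hT₄c, v₄⟩ := hTr 0 0 (a + 1) 1 (by rw [n0, n1, nb]; linear_combination haa + (a + 1) * h2)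
  set T := T₄ * T₃ * T₂ * T₁ with hT
  have hu0 : (T : Mat) *ᵥ u = E₃ := by
    have hu' : u = (1 : F) • E₁ + (1 : F) • E₂ + (1 : F) • E₃ + (0 : F) • E₄ := by
      rw [one_smul, one_smul, one_smul, zero_smul, add_zero]; exact hu_eq
    rw [hT, Units.val_mul, Units.val_mul, Units.val_mul, ← Matrix.mulVec_mulVec, ← Matrix.mulVec_mulVec,
      ← Matrix.mulVec_mulVec, hu', v₁, v₂, v₃, v₄, hsa, nb, n1, n0]
    match_scalars <;> grind
  have hE40 : (T : Mat) *ᵥ E₄ = E₄ := by
    have he' : E₄ = (0 : F) • E₁ + (0 : F) • E₂ + (0 : F) • E₃ + (1 : F) • E₄ := by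
      simp
    conv_lhs => rw [he']
    rw [hT, Units.val_mul, Units.val_mul, Units.val_mul, ← Matrix.mulVec_mulVec, ← Matrix.mulVec_mulVec,
      ← Matrix.mulVec_mulVec, v₁, v₂, v₃, v₄, hsa, nb, n1, n0]
    match_scalars <;> grind
  have hTfix : T ∈ fixGrp c := fun i => by
    rcases eq_or_ne i i₀ with rfl | hi
    · exact hE40
    · rw [hT, Units.val_mul, Units.val_mul, Units.val_mul, ← Matrix.mulVec_mulVec, ← Matrix.mulVec_mulVec,
        ← Matrix.mulVec_mulVec, hT₁c i hi, hT₂c i hi, hT₃c i hi, hT₄c i hi]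
  exact Rel.trans' hf ⟨T, ⟨mul_mem (mul_mem (mul_mem hT₄ hT₃) hT₂) hT₁, hTfix⟩, hu0⟩ (toV r hr0).2.2

theorem mem_tgrp_two {j : ℕ} {c : Fin j → ι → F} (hc : ON (f := f) c) (hj : j + 2 = Fintype.card ι) {g : GL ι F}
    (hg : Pres f g) (hgc : g ∈ fixGrp c) : g ∈ tgrp hf := by
  obtain ⟨v, hv, hvv⟩ := exists_anis hf hc (by omega)
  obtain ⟨e, hec, hee, hve, -⟩ := exists_iso_both hf hc (by omega) hv hv hvv hvv
  -- a partner
  set s := (σ (f v e))⁻¹ with hs
  have hev : f e v ≠ 0 := by rw [hf.herm]; exact (map_ne_zero σ).2 hve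
  obtain ⟨t, ht⟩ := WittHerm.exists_trace (σ := (σ : F →+* F))
    (fun h => hf.ne_refl (RingEquiv.ext fun a => RingHom.congr_fun h a)) hf.involutive
    (c := -((σ (f v e))⁻¹ * (f v e)⁻¹)) (by
      show σ _ = _
      rw [map_neg, map_mul, map_inv₀, map_inv₀, hf.involutive, mul_comm])
  set e' := (f v e)⁻¹ • v + t • e with he'
  have ht' : t + σ t = -((σ (f v e))⁻¹ * (f v e)⁻¹) := ht
  have he'c : ∀ i, f e' (c i) = 0 := fun i => by rw [he', hf.add_left, hf.smul_left, hf.smul_left, hv i, hec i]; ring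
  have hee' : f e e' = 1 := by
    rw [he', add_right hf, smul_right hf, smul_right hf, hee, mul_zero, add_zero, map_inv₀, hf.herm e v,
      inv_mul_cancel₀ ((map_ne_zero σ).2 hve)]
  have he'e : f e' e = 1 := by rw [hf.herm, hee', map_one]
  have he'e' : f e' e' = 0 := by
    rw [he', hf.add_left, add_right hf, add_right hf, hf.smul_left, hf.smul_left, hf.smul_left, hf.smul_left,
      smul_right hf, smul_right hf, smul_right hf, smul_right hf, hvv, hee, map_inv₀, hf.herm e v]
    have h0 : σ (f v e) ≠ 0 := (map_ne_zero σ).2 hve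
    field_simp
    field_simp at ht'
    linear_combination ht'
  clear_value e'
  -- decomposition
  have hdec : ∀ x, (∀ i, f x (c i) = 0) → x = f x e' • e + f x e • e' := by
    intro x hx
    by_contra hne
    obtain ⟨y, hy⟩ := (hf.nondegenerate _ (sub_ne_zero.2 hne)).2
    obtain ⟨z, hz, hzy⟩ := exists_proj hf hc y
    set d := x - (f x e' • e + f x e • e') with hd
    have hdc : ∀ i, f d (c i) = 0 := fun i => by
      rw [hd, sub_left hf, hf.add_left, hf.smul_left, hf.smul_left, hx i, hec i, he'c i]; ring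
    rw [← (hzy d hdc).1] at hy
    have hde : f d e = 0 := by rw [hd, sub_left hf, hf.add_left, hf.smul_left, hf.smul_left, hee, he'e]; ring
    have hde' : f d e' = 0 := by rw [hd, sub_left hf, hf.add_left, hf.smul_left, hf.smul_left, hee', he'e']; ring
    apply hy
    have hzs : z ∈ Submodule.span F ({e, e'} : Set (ι → F)) := by
      have hle : Submodule.span F ({e, e'} : Set (ι → F)) ≤ perp hf c := Submodule.span_le.2 (by
        rintro y (rfl | rfl)
        · exact (mem_perp hf).2 hec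
        · exact (mem_perp hf).2 he'c)
      have hli : LinearIndependent F ![e, e'] := by
        rw [LinearIndependent.pair_iff]
        intro a b hab
        have h1 := congrArg (fun y => f y e) hab
        have h3 := congrArg (fun y => f y e') hab
        simp only [hf.add_left, hf.smul_left, hee, he'e, hee', he'e', zero_left hf] at h1 h3
        exact ⟨by simpa using h3, by simpa using h1⟩
      have h2 : finrank F (Submodule.span F ({e, e'} : Set (ι → F))) = 2 := by
        have := finrank_span_eq_card hli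
        rw [Matrix.range_cons_cons_empty, Fintype.card_fin] at this
        exact this
      rw [Submodule.eq_of_le_of_finrank_eq hle (by have := perp_dim hf hc; omega)]
      exact (mem_perp hf).2 hz
    obtain ⟨p, q, rfl⟩ := Submodule.mem_span_pair.1 hzs
    rw [add_right hf, smul_right hf, smul_right hf, hde, hde']; ring
  obtain ⟨d, hd0, hd⟩ := exists_skew hf
  have hN : ∀ {h : GL ι F}, h ∈ fixGrp c → Pres f h → ∀ x, (∀ i, f x (c i) = 0) →
      (∀ i, f ((h : Mat) *ᵥ x) (c i) = 0) := fun {h} hh hp x hx i => by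
    conv_lhs => rw [← hh i, hp.1]
    exact hx i
  have hPmul : ∀ {h k : GL ι F}, Pres f h → Pres f k → Pres f (h * k) := fun {h k} hh hk =>
    ⟨fun x y => by rw [Units.val_mul, ← Matrix.mulVec_mulVec, ← Matrix.mulVec_mulVec, hh.1, hk.1],
      by rw [Units.val_mul, Matrix.det_mul, hh.2, hk.2, one_mul]⟩
  -- reduce to a diagonal element
  suffices H : ∀ h : GL ι F, Pres f h → h ∈ fixGrp c → ∀ α, (h : Mat) *ᵥ e = α • e → h ∈ tgrp hf by
    have goal : ∀ h : GL ι F, Pres f h → h ∈ fixGrp c → f ((h : Mat) *ᵥ e) e' ≠ 0 → h ∈ tgrp hf := by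
      intro h hh hhc hα
      set α := f ((h : Mat) *ᵥ e) e'
      set β := f ((h : Mat) *ᵥ e) e
      have hev' := hdec _ (hN hhc hh e hec)
      have hiso : α * σ β + β * σ α = 0 := by
        have := hh.1 e e
        rw [hev', hee] at this
        simp only [hf.add_left, add_right hf, hf.smul_left, smul_right hf, hee, he'e', hee', he'e] at this
        linear_combination this
      obtain ⟨T, hT, hTv⟩ := tg hf he'c he'e' (a := -(β / α)) (by
        rw [map_neg, map_div₀, neg_neg, neg_eq_iff_eq_neg, ← neg_div,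
          div_eq_div_iff ((map_ne_zero σ).2 hα) hα]
        linear_combination hiso)
      obtain ⟨hT1, hT2⟩ := Subgroup.mem_inf.1 hT
      have := H (T * h) (hPmul (pres_tgrp hf hT1) hh) (mul_mem hT2 hhc) α (by
        rw [Units.val_mul, ← Matrix.mulVec_mulVec, hTv]
        show (h : Mat) *ᵥ e + (-(β / α) * α) • e' = α • e
        conv_lhs => rw [hev']
        rw [neg_mul, div_mul_cancel₀ _ hα]
        module)
      simpa using mul_mem (inv_mem hT1) this
    by_cases hα : f ((g : Mat) *ᵥ e) e' = 0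
    · obtain ⟨T, hT, hTv⟩ := tg hf hec hee hd
      obtain ⟨hT1, hT2⟩ := Subgroup.mem_inf.1 hT
      have hge := hdec _ (hN hgc hg e hec)
      have hβ : f ((g : Mat) *ᵥ e) e ≠ 0 := fun h0 => by
        rw [hα, h0, zero_smul, zero_smul, add_zero] at hge
        have := gl_inv_mulVec' g e
        rw [hge, Matrix.mulVec_zero] at this
        rw [← this, zero_left hf] at hee'
        exact zero_ne_one hee'
      have hne : f (((T * g : GL ι F) : Mat) *ᵥ e) e' ≠ 0 := by
        rw [Units.val_mul, ← Matrix.mulVec_mulVec, hTv, hf.add_left, hf.smul_left, hα, hee', zero_add, mul_one]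
        exact mul_ne_zero hd0 hβ
      simpa using mul_mem (inv_mem hT1) (goal (T * g) (hPmul (pres_tgrp hf hT1) hg) (mul_mem hT2 hgc) hne)
    · exact goal g hg hgc hα
  intro h hh hhc α hα
  set γ := f ((h : Mat) *ᵥ e') e'
  set ε := f ((h : Mat) *ᵥ e') e
  have he'v := hdec _ (hN hhc hh e' he'c)
  have hαε : α * σ ε = 1 := by
    have := hh.1 e e'
    rw [hα, he'v, hee'] at this
    simp only [add_right hf, hf.smul_left, smul_right hf, hee, hee'] at this
    linear_combination this
  have hα0 : α ≠ 0 := fun h0 => by rw [h0, zero_mul] at hαε; exact zero_ne_one hαε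
  have hε0 : ε ≠ 0 := fun h0 => by rw [h0, map_zero, mul_zero] at hαε; exact zero_ne_one hαε
  have hiso : γ * σ ε + ε * σ γ = 0 := by
    have := hh.1 e' e'
    rw [he'v, he'e'] at this
    simp only [hf.add_left, add_right hf, hf.smul_left, smul_right hf, hee, he'e', hee', he'e] at this
    linear_combination this
  obtain ⟨T, hT, hTv⟩ := tg hf hec hee (a := -(γ / ε)) (by
    rw [map_neg, map_div₀, neg_neg, neg_eq_iff_eq_neg, ← neg_div, div_eq_div_iff ((map_ne_zero σ).2 hε0) hε0]
    linear_combination hiso)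
  obtain ⟨hT1, hT2⟩ := Subgroup.mem_inf.1 hT
  suffices T * h ∈ tgrp hf by simpa using mul_mem (inv_mem hT1) this
  set D := T * h with hD
  have hDp : Pres f D := hPmul (pres_tgrp hf hT1) hh
  have hDc : D ∈ fixGrp c := mul_mem hT2 hhc
  have hDe : (D : Mat) *ᵥ e = α • e := by
    rw [hD, Units.val_mul, ← Matrix.mulVec_mulVec, hα, hTv, hf.smul_left, hee, mul_zero, mul_zero, zero_smul, add_zero]
  have hDe' : (D : Mat) *ᵥ e' = ε • e' := by
    rw [hD, Units.val_mul, ← Matrix.mulVec_mulVec, hTv]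
    show (h : Mat) *ᵥ e' + (-(γ / ε) * ε) • e = ε • e'
    conv_lhs => rw [he'v]
    rw [neg_mul, div_mul_cancel₀ _ hε0]
    module
  -- the determinant
  let A := LinearMap.transvection ((α - 1) • fn hf e') e
  let B := LinearMap.transvection ((ε - 1) • fn hf e) e'
  have hA : ∀ x, A x = x + ((α - 1) * f x e') • e := fun x => rfl
  have hB : ∀ x, B x = x + ((ε - 1) * f x e) • e' := fun x => rfl
  have hDAB : Matrix.toLin' (D : Mat) = A ∘ₗ B := by
    refine LinearMap.ext fun x => ?_
    obtain ⟨y, hy, -⟩ := exists_proj hf hc x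
    have hxy : x = (f x e' • e + f x e • e') + ∑ i, f x (c i) • c i := by
      have h1 : ∀ i, f (x - ∑ i, f x (c i) • c i) (c i) = 0 := fun i => by rw [sub_left hf, on_sum hf hc, sub_self]
      have h2 := hdec _ h1
      have h3 : ∀ z, (∀ i, f z (c i) = 0) → f (x - ∑ i, f x (c i) • c i) z = f x z := fun z hz => by
        rw [sub_left hf, sum_left hf, Finset.sum_eq_zero fun i _ => by rw [swap_zero hf (hz i), mul_zero], sub_zero]
      rw [h3 e' he'c, h3 e hec, sub_eq_iff_eq_add] at h2
      exact h2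
    rw [LinearMap.comp_apply, Matrix.toLin'_apply]
    have hS : (D : Mat) *ᵥ (∑ i, f x (c i) • c i) = ∑ i, f x (c i) • c i := by
      rw [← Matrix.toLin'_apply, map_sum]
      exact Finset.sum_congr rfl fun i _ => by rw [map_smul, Matrix.toLin'_apply, hDc i]
    conv_lhs => rw [hxy, Matrix.mulVec_add, Matrix.mulVec_add, Matrix.mulVec_smul, Matrix.mulVec_smul, hDe, hDe', hS]
    rw [hB, hA, hf.add_left, hf.smul_left, he'e']
    generalize (∑ i, f x (c i) • c i) = S₀ at *
    generalize f x e' = a at *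
    generalize f x e = b at *
    rw [hxy]
    module
  have hdet : α * ε = 1 := by
    have := congrArg LinearMap.det hDAB
    rw [LinearMap.det_toLin', hDp.2, LinearMap.det_comp, LinearMap.transvection.det, LinearMap.transvection.det,
      LinearMap.smul_apply, LinearMap.smul_apply, fn_apply, fn_apply, hee', he'e] at this
    linear_combination -this
  have hαfix : σ α = α := by
    have h1 : σ α * ε = 1 := by
      have := congrArg σ hαε
      rwa [map_mul, hf.involutive, map_one] at this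
    exact mul_right_cancel₀ hε0 (h1.trans hdet.symm)
  -- express the diagonal element
  obtain ⟨U₁, hU₁, u₁⟩ := tg hf he'c he'e' hd
  have hcsk : σ ((1 - α) / (d * α)) = -((1 - α) / (d * α)) := by
    rw [map_div₀, map_sub, map_one, map_mul, hαfix, hd, neg_mul, div_neg]
  obtain ⟨U₂, hU₂, u₂⟩ := tg hf hec hee hcsk
  have hcsk₃ : σ (-(d * α)) = -(-(d * α)) := by rw [map_neg, map_mul, hd, hαfix]; ring
  obtain ⟨U₃, hU₃, u₃⟩ := tg hf he'c he'e' hcsk₃
  set W := U₃ * (U₂ * (U₁ * D)) with hW
  have hWmem : U₃ * (U₂ * U₁) ∈ tgrp hf ⊓ fixGrp c := mul_mem hU₃ (mul_mem hU₂ hU₁)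
  suffices W ∈ tgrp hf by
    have h2' := mul_mem (inv_mem (Subgroup.mem_inf.1 hWmem).1) this
    have e2 : (U₃ * (U₂ * U₁))⁻¹ * W = D := by rw [hW]; group
    rwa [e2] at h2'
  have hWc : W ∈ fixGrp c := by
    rw [hW, ← mul_assoc U₂, ← mul_assoc U₃]; exact mul_mem (Subgroup.mem_inf.1 hWmem).2 hDc
  have hWp : Pres f W := by
    rw [hW, ← mul_assoc U₂, ← mul_assoc U₃]; exact hPmul (pres_tgrp hf (Subgroup.mem_inf.1 hWmem).1) hDp
  have hWe : (W : Mat) *ᵥ e = e := by
    rw [hW, Units.val_mul, ← Matrix.mulVec_mulVec, Units.val_mul, ← Matrix.mulVec_mulVec, Units.val_mul,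
      ← Matrix.mulVec_mulVec, hDe, u₁, u₂, u₃]
    simp only [hf.add_left, hf.smul_left, hee, hee', he'e, he'e', mul_zero, mul_one, add_zero, zero_add]
    match_scalars
    · field_simp; ring
    · field_simp; ring
  -- now `W` is a transvection
  set γ' := f ((W : Mat) *ᵥ e') e'
  have hW'v := hdec _ (hN hWc hWp e' he'c)
  have hε' : f ((W : Mat) *ᵥ e') e = 1 := by
    have := hWp.1 e' e
    rw [hWe, he'e] at this
    exact this
  rw [hε', one_smul] at hW'v
  have hγ : σ γ' = -γ' := by
    have := hWp.1 e' e'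
    rw [hW'v, he'e'] at this
    simp only [hf.add_left, add_right hf, hf.smul_left, smul_right hf, hee, he'e', hee', he'e] at this
    linear_combination this
  obtain ⟨U₄, hU₄, u₄⟩ := tg hf hec hee hγ
  suffices W = U₄ by rw [this]; exact hU₄.1
  refine gl_ext fun x => ?_
  have hxy : x = (f x e' • e + f x e • e') + ∑ i, f x (c i) • c i := by
    have h1 : ∀ i, f (x - ∑ i, f x (c i) • c i) (c i) = 0 := fun i => by rw [sub_left hf, on_sum hf hc, sub_self]
    have h2 := hdec _ h1
    have h3 : ∀ z, (∀ i, f z (c i) = 0) → f (x - ∑ i, f x (c i) • c i) z = f x z := fun z hz => by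
      rw [sub_left hf, sum_left hf, Finset.sum_eq_zero fun i _ => by rw [swap_zero hf (hz i), mul_zero], sub_zero]
    rw [h3 e' he'c, h3 e hec, sub_eq_iff_eq_add] at h2
    exact h2
  have hS : (W : Mat) *ᵥ (∑ i, f x (c i) • c i) = ∑ i, f x (c i) • c i := by
    rw [← Matrix.toLin'_apply, map_sum]
    exact Finset.sum_congr rfl fun i _ => by rw [map_smul, Matrix.toLin'_apply, hWc i]
  rw [u₄]
  conv_lhs => rw [hxy, Matrix.mulVec_add, Matrix.mulVec_add, Matrix.mulVec_smul, Matrix.mulVec_smul, hWe, hW'v, hS]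
  conv_rhs => arg 1; rw [hxy]
  module

/-- Generation. -/
theorem mem_tgrp (hn : 4 ≤ Fintype.card ι ∨ ¬ ∀ a : F, σ a = a → a = 0 ∨ a = 1) : ∀ (k : ℕ) {j : ℕ} (c : Fin j → ι → F), ON (f := f) c →
    j + k = Fintype.card ι → ∀ g : GL ι F, Pres f g → g ∈ fixGrp c → g ∈ tgrp hf := by
  intro k
  induction k using Nat.strong_induction_on with
  | _ k ih =>
    intro j c hc hjk g hg hgc
    rcases k with _ | _ | _ | k
    · suffices g = 1 by rw [this]; exact one_mem _
      refine gl_ext fun x => ?_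
      have hbot : perp hf c = ⊥ := Submodule.finrank_eq_zero.1 (by have := perp_dim hf hc; omega)
      have hx : x - ∑ i, f x (c i) • c i ∈ perp hf c :=
        (mem_perp hf).2 fun i => by rw [sub_left hf, on_sum hf hc, sub_self]
      rw [hbot, Submodule.mem_bot, sub_eq_zero] at hx
      rw [Units.val_one, Matrix.one_mulVec, hx, ← Matrix.toLin'_apply, map_sum]
      exact Finset.sum_congr rfl fun i _ => by rw [map_smul, Matrix.toLin'_apply, hgc i]
    · obtain ⟨v, hv, hvv⟩ := exists_anis hf hc (by omega)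
      have hc1 := on_cons hf hc hv hvv
      refine ih 0 (by omega) _ hc1 (by omega) g hg fun i => ?_
      induction i using Fin.cases with
      | succ i => simpa using hgc i
      | zero =>
        rw [Fin.cons_zero]
        have hbot : perp hf (Fin.cons v c : Fin (j + 1) → ι → F) = ⊥ :=
          Submodule.finrank_eq_zero.1 (by have := perp_dim hf hc1; omega)
        have hdec : ∀ x, x = ∑ i, f x ((Fin.cons v c : Fin (j + 1) → ι → F) i) • (Fin.cons v c : Fin (j + 1) → ι → F) i := by
          intro x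
          have hx : x - ∑ i, f x ((Fin.cons v c : Fin (j + 1) → ι → F) i) • (Fin.cons v c : Fin (j + 1) → ι → F) i
              ∈ perp hf (Fin.cons v c : Fin (j + 1) → ι → F) :=
            (mem_perp hf).2 fun i => by rw [sub_left hf, on_sum hf hc1, sub_self]
          rw [hbot, Submodule.mem_bot, sub_eq_zero] at hx
          exact hx
        have hgv : ∀ i, f ((g : Mat) *ᵥ v) (c i) = 0 := fun i => by
          conv_lhs => rw [← hgc i, hg.1]
          exact hv i
        set l := f ((g : Mat) *ᵥ v) v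
        have hgl : (g : Mat) *ᵥ v = l • v := by
          conv_lhs => rw [hdec ((g : Mat) *ᵥ v), Fin.sum_univ_succ]
          simp [hgv, l]
        have hgT : Matrix.toLin' (g : Mat) = LinearMap.transvection ((l - 1) • fn hf v) v := by
          refine LinearMap.ext fun x => ?_
          show (g : Mat) *ᵥ x = x + ((l - 1) * f x v) • v
          conv_lhs => rw [hdec x, Fin.sum_univ_succ]
          conv_rhs => arg 1; rw [hdec x, Fin.sum_univ_succ]
          simp only [Fin.cons_zero, Fin.cons_succ, Matrix.mulVec_add, Matrix.mulVec_smul, hgl]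
          rw [show (g : Mat) *ᵥ (∑ i, f x (c i) • c i) = ∑ i, f x (c i) • c i by
            rw [← Matrix.toLin'_apply, map_sum]
            exact Finset.sum_congr rfl fun i _ => by rw [map_smul, Matrix.toLin'_apply, hgc i]]
          module
        have := congrArg LinearMap.det hgT
        rw [LinearMap.det_toLin', hg.2, LinearMap.transvection.det, LinearMap.smul_apply, fn_apply, hvv] at this
        rw [hgl, show l = 1 by linear_combination -this, one_smul]
    · exact mem_tgrp_two hf hc (by omega) hg hgc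
    · obtain ⟨v, hv, hvv⟩ := exists_anis hf hc (by omega)
      have hgv : ∀ i, f ((g : Mat) *ᵥ v) (c i) = 0 := fun i => by
        conv_lhs => rw [← hgc i, hg.1]
        exact hv i
      have hgvv : f ((g : Mat) *ᵥ v) ((g : Mat) *ᵥ v) = 1 := (hg.1 v v).trans hvv
      have hrel : Rel hf c ((g : Mat) *ᵥ v) v := by
        rcases Nat.lt_or_ge k 1 with hk | hk
        · by_cases hK : ∀ a : F, σ a = a → a = 0 ∨ a = 1
          · exact move_three_two hf hc (by omega) (by have := hn.resolve_right (fun h => h hK); omega) hK hgv hv hgvv hvv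
          · push Not at hK
            obtain ⟨κ, hκ, hκ0, hκ1⟩ := hK
            exact move_three hf hc (by omega) hκ hκ0 hκ1 hgv hv hgvv hvv
        · exact move_four hf hc (by omega) hgv hv hgvv hvv
      obtain ⟨T, hT, hTv⟩ := hrel
      obtain ⟨hT1, hT2⟩ := Subgroup.mem_inf.1 hT
      have hmem : T * g ∈ tgrp hf := by
        refine ih (k + 2) (by omega) _ (on_cons hf hc hv hvv) (by omega) _ ?_ fun i => ?_
        · exact ⟨fun x y => by rw [Units.val_mul, ← Matrix.mulVec_mulVec, ← Matrix.mulVec_mulVec,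
            (pres_tgrp hf hT1).1, hg.1], by rw [Units.val_mul, Matrix.det_mul, (pres_tgrp hf hT1).2, hg.2, one_mul]⟩
        · induction i using Fin.cases with
          | zero => rw [Fin.cons_zero, Units.val_mul, ← Matrix.mulVec_mulVec, hTv]
          | succ i => rw [Fin.cons_succ]; exact mul_mem hT2 hgc i
      simpa using mul_mem (inv_mem hT1) hmem

theorem mem_tgrp_of_pres (hn : 4 ≤ Fintype.card ι) {g : GL ι F} (hg : Pres f g) : g ∈ tgrp hf :=
  mem_tgrp hf (Or.inl hn) _ (![] : Fin 0 → ι → F) (fun i => i.elim0) (zero_add _) g hg fun i => i.elim0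

theorem mem_tgrp_of_pres' (hn : 4 ≤ Fintype.card ι ∨ ¬ ∀ a : F, σ a = a → a = 0 ∨ a = 1) {g : GL ι F} (hg : Pres f g) :
    g ∈ tgrp hf :=
  mem_tgrp hf hn _ (![] : Fin 0 → ι → F) (fun i => i.elim0) (zero_add _) g hg fun i => i.elim0

end Cfsg.Agent.Classical.HermGen
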