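import Mathlib

/-!
Recognition of alternating groups of small degree: an index two image in a symmetric group, and
simple groups of order sixty.
-/

set_option autoImplicit false
set_option linter.style.haveILetI false

namespace Cfsg.Agent.Classical.SmallAlt

variable {G : Type*} [Group G] [Finite G]

/-- A subgroup of index two of a symmetric group is the alternating group. -/
theorem equiv_alternating {n : ℕ} (f : G →* Equiv.Perm (Fin n)) (hf : Function.Injective f)
    (hcard : 2 * Nat.card G = n.factorial) : Nonempty (G ≃* alternatingGroup (Fin n)) := by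
  have h := Subgroup.index_mul_card f.range
  rw [← Nat.card_congr (MonoidHom.ofInjective hf).toEquiv, Nat.card_perm, Nat.card_fin,
    ← hcard] at h
  have hidx : f.range.index = 2 := Nat.eq_of_mul_eq_mul_right Nat.card_pos h
  exact ⟨(MonoidHom.ofInjective hf).trans
    (MulEquiv.subgroupCongr (Equiv.Perm.eq_alternatingGroup_of_index_eq_two hidx))⟩

variable [IsSimpleGroup G]

/-- A proper subgroup of index `n` of a simple group gives an embedding in degree `n`. -/
theorem exists_embedding (H : Subgroup G) (hH : H ≠ ⊤) :
    ∃ f : G →* Equiv.Perm (Fin H.index), Function.Injective f := by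
  let e : G ⧸ H ≃ Fin H.index := Finite.equivFin (G ⧸ H)
  refine ⟨e.permCongrHom.toMonoidHom.comp (MulAction.toPermHom G (G ⧸ H)),
    e.permCongrHom.injective.comp ?_⟩
  rw [← MonoidHom.ker_eq_bot_iff, ← Subgroup.normalCore_eq_ker]
  rcases H.normalCore_normal.eq_bot_or_eq_top with h | h
  · exact h
  · exact absurd (top_le_iff.1 (h ▸ H.normalCore_le)) hH

theorem dvd_factorial_index (H : Subgroup G) (hH : H ≠ ⊤) : Nat.card G ∣ H.index.factorial := by
  obtain ⟨f, hf⟩ := exists_embedding H hH
  rw [← Nat.card_fin H.index, ← Nat.card_perm]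
  exact Subgroup.card_dvd_of_injective f hf

/-- A simple group of order sixty is alternating of degree five. -/
theorem simple_sixty (h60 : Nat.card G = 60) : Nonempty (G ≃* alternatingGroup (Fin 5)) := by
  classical
  haveI : Fintype G := Fintype.ofFinite G
  haveI : Fact (Nat.Prime 2) := ⟨Nat.prime_two⟩
  haveI : Fact (Nat.Prime 5) := ⟨by norm_num⟩
  haveI : Nontrivial G := Finite.one_lt_card_iff_nontrivial.1 (by omega)
  have hnc : ∀ z : G, z ∈ Subgroup.center G → z = 1 := by
    intro z hz
    rcases (inferInstance : (Subgroup.center G).Normal).eq_bot_or_eq_top with h | h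
    · rw [h] at hz; simpa using hz
    · exfalso
      obtain ⟨x, hx⟩ := exists_prime_orderOf_dvd_card' (G := G) 2 (by rw [h60]; norm_num)
      have hxc : x ∈ Subgroup.center G := h ▸ Subgroup.mem_top x
      have hn : (Subgroup.zpowers x).Normal := ⟨fun y hy g => by
        have hyc : y ∈ Subgroup.center G := Subgroup.zpowers_le.2 hxc hy
        rwa [Subgroup.mem_center_iff.1 hyc g, mul_inv_cancel_right]⟩
      have hcard : Nat.card (Subgroup.zpowers x) = 2 := by rw [Nat.card_zpowers, hx]
      rcases hn.eq_bot_or_eq_top with h' | h'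
      · rw [h', Subgroup.card_bot] at hcard; omega
      · rw [h', Subgroup.card_top, h60] at hcard; omega
  -- a subgroup of index five suffices
  suffices H : ∃ H : Subgroup G, H.index = 5 by
    obtain ⟨H, hH⟩ := H
    obtain ⟨f, hf⟩ := exists_embedding H (fun h => by simp [h] at hH)
    rw [hH] at f
    obtain ⟨f, hf⟩ : ∃ f : G →* Equiv.Perm (Fin 5), Function.Injective f := by
      rw [← hH]; exact exists_embedding H (fun h => by simp [h] at hH)
    exact equiv_alternating f hf (by rw [h60]; decide)
  by_contra hno
  push Not at hno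
  have hbig : ∀ H : Subgroup G, H ≠ ⊤ → 6 ≤ H.index := by
    intro H hH
    by_contra hlt
    push Not at hlt
    have hd := dvd_factorial_index H hH
    have h0 : H.index ≠ 0 := Subgroup.index_ne_zero_of_finite
    have h5 := hno H
    rw [h60] at hd
    interval_cases hi : H.index <;> simp_all [Nat.factorial]
  have hfac : (60 : ℕ).factorization 2 = 2 ∧ (60 : ℕ).factorization 5 = 1 := by
    have key : ∀ p k : ℕ, p.Prime → p ^ k ∣ 60 → ¬ p ^ (k + 1) ∣ 60 →
        (60 : ℕ).factorization p = k := by
      intro p k hp h1 h2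
      rw [hp.pow_dvd_iff_le_factorization (by norm_num)] at h1 h2
      omega
    exact ⟨key 2 2 (by norm_num) (by norm_num) (by norm_num),
      key 5 1 (by norm_num) (by norm_num) (by norm_num)⟩
  have hc2 : ∀ P : Sylow 2 G, Nat.card P = 4 := fun P => by
    rw [P.card_eq_multiplicity, h60, hfac.1]; norm_num
  have hc5 : ∀ P : Sylow 5 G, Nat.card P = 5 := fun P => by
    rw [P.card_eq_multiplicity, h60, hfac.2]; norm_num
  have hn2 : Nat.card (Sylow 2 G) = 15 := by
    obtain ⟨P⟩ : Nonempty (Sylow 2 G) := inferInstance
    rw [P.card_eq_index_normalizer]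
    have hle := hbig (Subgroup.normalizer (P : Set G)) fun h => by
      rcases (Subgroup.normalizer_eq_top_iff.1 h).eq_bot_or_eq_top with h' | h'
      · have := hc2 P
        rw [h', Subgroup.card_bot] at this
        omega
      · have := hc2 P
        rw [h', Subgroup.card_top, h60] at this
        omega
    have hd : (Subgroup.normalizer (P : Set G)).index ∣ 15 := by
      have h4 : 4 ∣ Nat.card (Subgroup.normalizer (P : Set G)) :=
        hc2 P ▸ Subgroup.card_dvd_of_le Subgroup.le_normalizer
      obtain ⟨c, hc⟩ := h4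
      have := Subgroup.index_mul_card (Subgroup.normalizer (P : Set G))
      rw [hc, h60] at this
      exact ⟨c, by linarith⟩
    have := Nat.le_of_dvd (by norm_num) hd
    interval_cases hi : (Subgroup.normalizer (P : Set G)).index <;> simp_all
  have hn5 : Nat.card (Sylow 5 G) = 6 := by
    obtain ⟨P⟩ : Nonempty (Sylow 5 G) := inferInstance
    rw [P.card_eq_index_normalizer]
    have hle := hbig (Subgroup.normalizer (P : Set G)) fun h => by
      rcases (Subgroup.normalizer_eq_top_iff.1 h).eq_bot_or_eq_top with h' | h'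
      · have := hc5 P
        rw [h', Subgroup.card_bot] at this
        omega
      · have := hc5 P
        rw [h', Subgroup.card_top, h60] at this
        omega
    have hd : (Subgroup.normalizer (P : Set G)).index ∣ 12 := by
      have h5 : 5 ∣ Nat.card (Subgroup.normalizer (P : Set G)) := by
        exact (dvd_of_eq (hc5 P).symm).trans (Subgroup.card_dvd_of_le Subgroup.le_normalizer)
      obtain ⟨c, hc⟩ := h5
      have := Subgroup.index_mul_card (Subgroup.normalizer (P : Set G))
      rw [hc, h60] at this
      exact ⟨c, by linarith⟩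
    have h1 : (Subgroup.normalizer (P : Set G)).index % 5 = 1 := by
      rw [← P.card_eq_index_normalizer]
      exact card_sylow_modEq_one 5 G
    have := Nat.le_of_dvd (by norm_num) hd
    interval_cases hi : (Subgroup.normalizer (P : Set G)).index <;> simp_all
  -- two Sylow 2-subgroups meet trivially
  have hti : ∀ P Q : Sylow 2 G, P ≠ Q → ∀ x : G, x ∈ (P : Subgroup G) → x ∈ (Q : Subgroup G) →
      x = 1 := by
    intro P Q hPQ x hxP hxQ
    by_contra hx
    have hcomm : ∀ R : Sylow 2 G, x ∈ (R : Subgroup G) →
        (R : Subgroup G) ≤ Subgroup.centralizer {x} := by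
      intro R hxR y hy
      haveI : IsMulCommutative (R : Subgroup G) :=
        IsPGroup.isMulCommutative_of_card_eq_prime_sq (p := 2) (by rw [hc2 R]; norm_num)
      rw [Subgroup.mem_centralizer_singleton_iff]
      have h' := (IsMulCommutative.is_comm (M := (R : Subgroup G))).comm
        (⟨y, hy⟩ : (R : Subgroup G)) ⟨x, hxR⟩
      exact congrArg Subtype.val h'
    have hne : Subgroup.centralizer ({x} : Set G) ≠ ⊤ := by
      intro h
      exact hx (hnc x (Subgroup.mem_center_iff.2 fun g =>
        Subgroup.mem_centralizer_singleton_iff.1 (h ▸ Subgroup.mem_top g : g ∈ _)))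
    have hle := hbig _ hne
    have hlt : 4 < Nat.card (Subgroup.centralizer ({x} : Set G)) := by
      rcases Nat.lt_or_ge 4 (Nat.card (Subgroup.centralizer ({x} : Set G))) with h | h
      · exact h
      · exfalso
        have e1 : (P : Subgroup G) = Subgroup.centralizer {x} :=
          Subgroup.eq_of_le_of_card_ge (hcomm P hxP) (by rw [hc2 P]; exact h)
        have e2 : (Q : Subgroup G) = Subgroup.centralizer {x} :=
          Subgroup.eq_of_le_of_card_ge (hcomm Q hxQ) (by rw [hc2 Q]; exact h)
        exact hPQ (Sylow.ext (e1.trans e2.symm))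
    have h4 : 4 ∣ Nat.card (Subgroup.centralizer ({x} : Set G)) :=
      hc2 P ▸ Subgroup.card_dvd_of_le (hcomm P hxP)
    obtain ⟨c, hc⟩ := h4
    have := Subgroup.index_mul_card (Subgroup.centralizer ({x} : Set G))
    rw [hc, h60] at this
    have hd : (Subgroup.centralizer ({x} : Set G)).index ∣ 15 := ⟨c, by linarith⟩
    have := Nat.le_of_dvd (by norm_num) hd
    interval_cases hi : (Subgroup.centralizer ({x} : Set G)).index <;> simp_all <;> omega
  have hti5 : ∀ P Q : Sylow 5 G, P ≠ Q → ∀ x : G, x ∈ (P : Subgroup G) → x ∈ (Q : Subgroup G) →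
      x = 1 := by
    intro P Q hPQ x hxP hxQ
    by_contra hx
    have hgen : ∀ R : Sylow 5 G, x ∈ (R : Subgroup G) → (R : Subgroup G) = Subgroup.zpowers x := by
      intro R hR
      refine (Subgroup.eq_of_le_of_card_ge (Subgroup.zpowers_le.2 hR) ?_).symm
      have hd : Nat.card (Subgroup.zpowers x) ∣ 5 :=
        hc5 R ▸ Subgroup.card_dvd_of_le (Subgroup.zpowers_le.2 hR)
      rcases (Nat.dvd_prime (by norm_num)).1 hd with h | h
      · exact absurd (by rwa [Nat.card_zpowers, orderOf_eq_one_iff] at h) hx
      · rw [hc5 R, h]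
    exact hPQ (Sylow.ext ((hgen P hxP).trans (hgen Q hxQ).symm))
  -- count elements
  let S : Finset G := Finset.univ.filter fun x => x ≠ 1 ∧ ∃ P : Sylow 2 G, x ∈ (P : Subgroup G)
  let T : Finset G := Finset.univ.filter fun x => x ≠ 1 ∧ ∃ P : Sylow 5 G, x ∈ (P : Subgroup G)
  have hS : S.card = 45 := by
    have hbU : S = Finset.univ.biUnion fun P : Sylow 2 G =>
        Finset.univ.filter fun x => x ≠ 1 ∧ x ∈ (P : Subgroup G) := by
      ext x; simp [S]
    rw [hbU, Finset.card_biUnion]
    · rw [Finset.sum_const_nat (m := 3)]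
      · rw [Finset.card_univ, ← Nat.card_eq_fintype_card, hn2]
      · intro P _
        rw [show (Finset.univ.filter fun x => x ≠ 1 ∧ x ∈ (P : Subgroup G)) =
          (Finset.univ.filter fun x => x ∈ (P : Subgroup G)).erase 1 by ext x; simp,
          Finset.card_erase_of_mem (by simp [one_mem])]
        rw [← Fintype.card_subtype, ← Nat.card_eq_fintype_card]
        exact congrArg (· - 1) (hc2 P)
    · intro P _ Q _ hPQ
      rw [Function.onFun, Finset.disjoint_left]
      intro x hx hx'
      simp at hx hx'
      exact hx.1 (hti P Q hPQ x hx.2 hx'.2)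
  have hT : T.card = 24 := by
    have hbU : T = Finset.univ.biUnion fun P : Sylow 5 G =>
        Finset.univ.filter fun x => x ≠ 1 ∧ x ∈ (P : Subgroup G) := by
      ext x; simp [T]
    rw [hbU, Finset.card_biUnion]
    · rw [Finset.sum_const_nat (m := 4)]
      · rw [Finset.card_univ, ← Nat.card_eq_fintype_card, hn5]
      · intro P _
        rw [show (Finset.univ.filter fun x => x ≠ 1 ∧ x ∈ (P : Subgroup G)) =
          (Finset.univ.filter fun x => x ∈ (P : Subgroup G)).erase 1 by ext x; simp,
          Finset.card_erase_of_mem (by simp [one_mem])]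
        rw [← Fintype.card_subtype, ← Nat.card_eq_fintype_card]
        exact congrArg (· - 1) (hc5 P)
    · intro P _ Q _ hPQ
      rw [Function.onFun, Finset.disjoint_left]
      intro x hx hx'
      simp at hx hx'
      exact hx.1 (hti5 P Q hPQ x hx.2 hx'.2)
  have hdisj : Disjoint S T := by
    rw [Finset.disjoint_left]
    intro x hx hx'
    simp [S, T] at hx hx'
    obtain ⟨hx1, P, hP⟩ := hx
    obtain ⟨-, Q, hQ⟩ := hx'
    have h1 := orderOf_dvd_natCard (⟨x, hP⟩ : (P : Subgroup G))
    have h2 := orderOf_dvd_natCard (⟨x, hQ⟩ : (Q : Subgroup G))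
    rw [Subgroup.orderOf_mk] at h1 h2
    have h3 := Nat.dvd_gcd h1 h2
    rw [hc2 P, hc5 Q] at h3
    exact hx1 (orderOf_eq_one_iff.1 (Nat.dvd_one.1 (by simpa using h3)))
  have := Finset.card_le_univ (S ∪ T)
  rw [Finset.card_union_of_disjoint hdisj, hS, hT, ← Nat.card_eq_fintype_card, h60] at this
  omega

end Cfsg.Agent.Classical.SmallAlt
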