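import Cfsg.Agent.Lib.Classical.SL2Two
import Cfsg.Agent.Lib.Classical.SmallAlt
import Cfsg.Agent.Lib.Classical.DicksonSmall
import Cfsg.Agent.Lib.Inv.CyclicSylow

/-!
Pairs of elements of `SL₂(F)` with traces `(0, 1, t)`, `t² = t + 1`: they generate icosahedral groups
in `PSL₂(F)` and are conjugate under `GL₂(F)`.
-/

set_option autoImplicit false
set_option linter.style.haveILetI false
set_option linter.unusedSectionVars false
set_option maxRecDepth 20000
set_option synthInstance.maxSize 4096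

open scoped MatrixGroups
open Matrix

noncomputable section

namespace Cfsg.Agent.Classical.Icosa

open SL2 SL2Two

/-- Coordinates on `1, A, B, AB` with coefficients `a + b t`. -/
abbrev V8 : Type := ℤ × ℤ × ℤ × ℤ × ℤ × ℤ × ℤ × ℤ

def one8 : V8 := (1, 0, 0, 0, 0, 0, 0, 0)

def actA : V8 → V8
  | (a0, b0, a1, b1, a2, b2, a3, b3) => (-a1, -b1, a0, b0, -a3, -b3, a2, b2)

def actB : V8 → V8
  | (a0, b0, a1, b1, a2, b2, a3, b3) =>
    (b1 - a2, a1 + b1 - b2, a1 + a3, b1 + b3, a0 + a2 + b3, b0 + b2 + a3 + b3, -a1, -b1)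

def tr8 : V8 → ℤ × ℤ
  | (a0, b0, _, _, a2, b2, a3, b3) => (2 * a0 + a2 + b3, 2 * b0 + b2 + a3 + b3)

def neg8 : V8 → V8
  | (a0, b0, a1, b1, a2, b2, a3, b3) => (-a0, -b0, -a1, -b1, -a2, -b2, -a3, -b3)

def elems : List V8 := [
  (1, 0, 0, 0, 0, 0, 0, 0),
  (0, 0, 1, 0, 0, 0, 0, 0),
  (0, 0, 0, 0, 1, 0, 0, 0),
  (0, 1, 1, 0, 0, 0, -1, 0),
  (0, 0, 0, 0, 0, 0, 1, 0),
  (-1, 0, 0, 0, 1, 0, 0, 0),
  (-1, 0, 0, 1, 1, 0, 0, 0),
  (0, 1, 0, 0, 0, 0, -1, 0),
  (0, 0, 1, 0, 0, 1, 0, 0),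
  (0, 0, -1, 0, 0, 0, 1, 0),
  (0, 1, 0, 1, 0, 0, 0, -1),
  (0, 0, 0, 1, 1, 0, 0, 0),
  (-1, 0, 0, 0, 0, 0, 0, 1),
  (0, 0, 1, 0, 0, 1, -1, 0),
  (0, -1, 0, 0, 0, 1, 1, 0),
  (0, -1, 0, 1, 0, 1, 0, 0),
  (1, 1, 0, 0, -1, 0, 0, -1),
  (0, 1, 0, 1, 1, 0, 0, -1),
  (0, 0, 0, 1, 0, 1, 0, 0),
  (-1, 0, 0, 0, 1, 0, 0, 1),
  (0, 0, 0, -1, -1, 0, 0, 1),
  (0, -1, 1, 0, 0, 1, 0, 0),
  (1, 0, 0, 1, 0, 0, 0, -1),
  (0, 0, 1, 1, 0, 1, -1, 0),
  (0, -1, 0, 1, 0, 1, 1, 0),
  (0, 1, 0, 0, 0, 0, 0, -1),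
  (1, 0, 0, 1, 0, 1, 0, -1),
  (-1, 0, 0, 1, 1, 1, 0, 0),
  (0, -1, 0, 0, 0, 1, 0, 1),
  (1, 1, 0, 0, 0, -1, 0, -1),
  (1, 1, 0, 1, 0, 0, -1, -1),
  (1, 0, 1, 1, 0, 1, 0, -1),
  (0, -1, 1, 0, 0, 1, 0, 1),
  (0, -1, -1, 0, 0, 0, 1, 1),
  (0, 0, 0, 1, 0, 1, 0, -1),
  (0, -1, 0, 1, 1, 1, 0, 0),
  (0, 0, 1, 1, 0, 1, 0, -1),
  (0, -1, 1, 1, 1, 1, 0, 0),
  (1, 1, -1, 0, 0, -1, 0, -1),
  (1, 1, 1, 0, 0, 0, -1, -1),
  (0, 0, 1, 1, 1, 1, -1, 0),
  (0, -1, 0, 1, 1, 1, 1, 0),
  (0, -1, 0, -1, 0, 0, 1, 1),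
  (1, 1, 1, 0, -1, 0, -1, -1),
  (0, 1, 1, 1, 1, 0, -1, -1),
  (-1, 0, 1, 1, 1, 1, 0, 0),
  (-1, -1, 0, 0, 1, 0, 1, 1),
  (0, 1, 0, 1, 1, 0, -1, -1),
  (0, 0, 1, 1, 1, 1, 0, -1),
  (-1, -1, 1, 0, 1, 1, 0, 1),
  (-1, 0, 1, 1, 1, 1, -1, 0),
  (1, 1, 0, -1, -1, -1, -1, 0),
  (0, 2, 0, 0, 0, -1, -1, -1),
  (0, 1, 1, 1, 0, 1, -1, -1),
  (-1, -1, 0, 0, 0, 1, 1, 1),
  (-1, 0, -1, -1, 0, -1, 1, 1),
  (0, 0, 0, 2, 1, 1, 0, -1),
  (-1, -1, 0, 1, 1, 1, 0, 1),
  (0, -1, 1, 1, 0, 2, 0, 0),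
  (1, 1, 0, 1, 0, 0, 0, -2)]

theorem elems_closed : ∀ v ∈ elems,
    (actA v ∈ elems ∨ neg8 (actA v) ∈ elems) ∧ (actB v ∈ elems ∨ neg8 (actB v) ∈ elems) := by
  decide

theorem elems_length : elems.length = 60 := rfl

theorem elems_tr : ∀ v ∈ elems,
    v = one8 ∨ tr8 v ∈ [(0, 0), (1, 0), (-1, 0), (0, 1), (0, -1), (1, -1), (-1, 1)] := by
  decide

variable {F : Type*} [Field F] [Fintype F]

local notation "M2" => Matrix (Fin 2) (Fin 2) F
local notation "S2" => SpecialLinearGroup (Fin 2) F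
local notation "P2" => Matrix.ProjectiveSpecialLinearGroup (Fin 2) F

/-- The defining relations. -/
structure IsPair (A B : S2) (t : F) : Prop where
  trA : (A : M2).trace = 0
  trB : (B : M2).trace = 1
  trAB : ((A : M2) * (B : M2)).trace = t
  ht : t * t = t + 1

/-- Evaluation of coordinates. -/
def ev (A B : M2) (t : F) : V8 → M2
  | (a0, b0, a1, b1, a2, b2, a3, b3) =>
    ((a0 : F) + b0 * t) • 1 + ((a1 : F) + b1 * t) • A + ((a2 : F) + b2 * t) • B +
      ((a3 : F) + b3 * t) • (A * B)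

theorem ev_neg (A B : M2) (t : F) (v : V8) : ev A B t (neg8 v) = -ev A B t v := by
  obtain ⟨a0, b0, a1, b1, a2, b2, a3, b3⟩ := v
  simp only [neg8, ev]
  push_cast
  module

theorem ev_one (A B : M2) (t : F) : ev A B t one8 = 1 := by
  simp [one8, ev]

theorem ch (g : S2) : (g : M2) * (g : M2) = (g : M2).trace • (g : M2) - 1 := by
  have hd := (g : S2).2
  rw [Matrix.det_fin_two] at hd
  ext i j
  fin_cases i <;> fin_cases j <;>
    simp [Matrix.mul_apply, Matrix.trace, Fin.sum_univ_two] <;> first | linear_combination hd | linear_combination -hd | ring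

variable {A B : SpecialLinearGroup (Fin 2) F} {t : F}

namespace IsPair

theorem relations (h : IsPair A B t) : (A : M2) * A = -1 ∧ (B : M2) * B = (B : M2) - 1 ∧
    (B : M2) * A = (A : M2) + t • (1 : M2) - (A : M2) * B ∧ (B : M2) * (A * B) = (A : M2) + t • (B : M2) := by
  have hAA : (A : M2) * A = -1 := by rw [ch, h.trA, zero_smul, zero_sub]
  have hBB : (B : M2) * B = (B : M2) - 1 := by rw [ch, h.trB, one_smul]
  have hBAB : (B : M2) * ((A : M2) * B) = (A : M2) + t • (B : M2) := by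
    have h1 := ch (A * B)
    rw [coe_mul', h.trAB] at h1
    calc (B : M2) * ((A : M2) * B) = -(((A : M2) * A) * ((B : M2) * ((A : M2) * B))) := by
          rw [hAA, neg_mul, one_mul, neg_neg]
      _ = -((A : M2) * ((A : M2) * B * ((A : M2) * B))) := by simp only [mul_assoc]
      _ = (A : M2) + t • (B : M2) := by
          rw [h1, mul_sub, mul_smul_comm, ← mul_assoc, hAA, neg_mul, one_mul, mul_one]
          module
  refine ⟨hAA, hBB, ?_, hBAB⟩
  calc (B : M2) * A = (B : M2) * A * ((B : M2) * (1 - (B : M2))) := by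
        rw [mul_sub, mul_one, hBB, sub_sub_cancel, mul_one]
    _ = (B : M2) * ((A : M2) * B) * (1 - (B : M2)) := by simp only [mul_assoc]
    _ = _ := by
        rw [hBAB, add_mul, smul_mul_assoc, mul_sub, mul_sub, mul_one, mul_one, hBB]
        module

theorem mul_evA (h : IsPair A B t) (v : V8) : (A : M2) * ev A B t v = ev A B t (actA v) := by
  obtain ⟨hAA, -, -, -⟩ := h.relations
  obtain ⟨a0, b0, a1, b1, a2, b2, a3, b3⟩ := v
  simp only [actA, ev, mul_add, mul_smul_comm, mul_one, hAA, ← mul_assoc, neg_mul, one_mul]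
  push_cast
  module

theorem mul_evB (h : IsPair A B t) (v : V8) : (B : M2) * ev A B t v = ev A B t (actB v) := by
  obtain ⟨-, hBB, hBA, hBAB⟩ := h.relations
  obtain ⟨a0, b0, a1, b1, a2, b2, a3, b3⟩ := v
  simp only [actB, ev, mul_add, mul_smul_comm, mul_one, hBB, hBA, hBAB]
  push_cast
  linear_combination (norm := module) (b1 : F) • (congrArg (fun s : F => s • (1 : M2)) h.ht) +
    (b3 : F) • (congrArg (fun s : F => s • (B : M2)) h.ht)

theorem trace_ev (h : IsPair A B t) (v : V8) :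
    (ev A B t v).trace = ((tr8 v).1 : F) + (tr8 v).2 * t := by
  obtain ⟨a0, b0, a1, b1, a2, b2, a3, b3⟩ := v
  simp only [ev, tr8, Matrix.trace_add, Matrix.trace_smul, Matrix.trace_one, Fintype.card_fin, h.trA, h.trB,
    h.trAB, smul_eq_mul]
  push_cast
  linear_combination (b3 : F) * h.ht

end IsPair

/-- A central element. -/
theorem scalar_mem_center (g : S2) (c : F) (hg : (g : M2) = c • 1) : g = 1 ∨ g = negOne := by
  have hd := g.2
  rw [hg, Matrix.det_smul, Matrix.det_one, mul_one, Fintype.card_fin, sq] at hd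
  rcases mul_self_eq_one_iff.1 hd with e | e
  · left; apply sl_ext; rw [hg, e, one_smul]; rfl
  · right; apply sl_ext; rw [hg, e, neg_smul, one_smul, coe_negOne]

/-- A relation `c g + d = 0` for an element outside the centre. -/
theorem coeff_eq_zero {g : S2} (hg : proj g ≠ 1) {c d : F} (h : c • (g : M2) = d • 1) : c = 0 := by
  by_contra hc
  refine hg ((proj_eq_one_iff g).2 (scalar_mem_center g (c⁻¹ * d) ?_))
  rw [← smul_smul, ← h, smul_smul, inv_mul_cancel₀ hc, one_smul]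

theorem proj_neg (g : S2) : (proj (negOne * g) : P2) = proj g := by
  rw [map_mul, (proj_eq_one_iff negOne).2 (Or.inr rfl), one_mul]

theorem pow_two' (g : S2) : ((g : M2) ^ 2) = (g : M2).trace • (g : M2) - 1 := by rw [pow_two, ch]

theorem pow_three' (g : S2) :
    (g : M2) ^ 3 = ((g : M2).trace ^ 2 - 1) • (g : M2) - (g : M2).trace • 1 := by
  rw [pow_succ, pow_two', sub_mul, smul_mul_assoc, ch, one_mul]
  module

theorem pow_five' (g : S2) : (g : M2) ^ 5 =
    ((g : M2).trace ^ 4 - 3 * (g : M2).trace ^ 2 + 1) • (g : M2) -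
      ((g : M2).trace ^ 3 - 2 * (g : M2).trace) • 1 := by
  rw [pow_succ, pow_succ, pow_three', sub_mul, smul_mul_assoc, smul_mul_assoc, ch, one_mul, sub_mul,
    smul_mul_assoc, smul_mul_assoc, sub_mul, smul_mul_assoc, ch, one_mul]
  module

theorem proj_pow_of_scalar (g : S2) (n : ℕ) (c : F) (h : (g : M2) ^ n = c • 1) : proj g ^ n = 1 := by
  rw [← map_pow, proj_eq_one_iff]
  exact scalar_mem_center _ c ((Matrix.SpecialLinearGroup.coe_pow g n).trans h)

theorem scalar_of_proj_pow (g : S2) (n : ℕ) (h : proj g ^ n = 1) : ∃ c : F, (g : M2) ^ n = c • 1 := by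
  rw [← map_pow, proj_eq_one_iff] at h
  rcases h with e | e
  · exact ⟨1, by rw [one_smul]; exact (Matrix.SpecialLinearGroup.coe_pow g n).symm.trans (congrArg Subtype.val e)⟩
  · exact ⟨-1, by
      rw [neg_smul, one_smul]; exact (Matrix.SpecialLinearGroup.coe_pow g n).symm.trans (congrArg Subtype.val e)⟩

theorem trace_two_iff {g : S2} (hg : proj g ≠ 1) : proj g ^ 2 = 1 ↔ (g : M2).trace = 0 := by
  constructor
  · intro h
    obtain ⟨c, hc⟩ := scalar_of_proj_pow g 2 h
    rw [pow_two'] at hc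
    exact coeff_eq_zero hg (d := c + 1) (by rw [sub_eq_iff_eq_add] at hc; rw [hc]; module)
  · intro h
    exact proj_pow_of_scalar g 2 (-1) (by rw [pow_two', h, zero_smul, zero_sub, neg_smul, one_smul])

theorem trace_three_iff {g : S2} (hg : proj g ≠ 1) :
    proj g ^ 3 = 1 ↔ (g : M2).trace = 1 ∨ (g : M2).trace = -1 := by
  rw [← mul_self_eq_one_iff]
  constructor
  · intro h
    obtain ⟨c, hc⟩ := scalar_of_proj_pow g 3 h
    rw [pow_three'] at hc
    have := coeff_eq_zero hg (d := c + (g : M2).trace) (by rw [sub_eq_iff_eq_add] at hc; rw [hc]; module)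
    linear_combination this
  · intro h
    refine proj_pow_of_scalar g 3 (-(g : M2).trace) ?_
    rw [pow_three', show (g : M2).trace ^ 2 - 1 = 0 by linear_combination h, zero_smul, zero_sub, neg_smul]

theorem trace_five_iff {g : S2} (hg : proj g ≠ 1) :
    proj g ^ 5 = 1 ↔ (g : M2).trace * (g : M2).trace = (g : M2).trace + 1 ∨
      (g : M2).trace * (g : M2).trace = -(g : M2).trace + 1 := by
  set s := (g : M2).trace with hs
  have hfac : s ^ 4 - 3 * s ^ 2 + 1 = (s * s - (s + 1)) * (s * s - (-s + 1)) := by ring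
  constructor
  · intro h
    obtain ⟨c, hc⟩ := scalar_of_proj_pow g 5 h
    rw [pow_five'] at hc
    have := coeff_eq_zero hg (d := c + (s ^ 3 - 2 * s)) (by rw [sub_eq_iff_eq_add] at hc; rw [hc]; module)
    rw [← hs, hfac, mul_eq_zero, sub_eq_zero, sub_eq_zero] at this
    exact this
  · intro h
    refine proj_pow_of_scalar g 5 (-(s ^ 3 - 2 * s)) ?_
    rw [pow_five', ← hs, hfac]
    rcases h with e | e <;> rw [e] <;> simp <;> module

namespace IsPair

theorem proj_ne_one (h : IsPair A B t) : (proj A : P2) ≠ 1 ∧ (proj B : P2) ≠ 1 ∧ (proj (A * B) : P2) ≠ 1 := by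
  have hsc : ∀ g : S2, proj g = 1 → ∃ c : F, (g : M2) = c • 1 ∧ c * c = 1 := by
    intro g hg
    rcases (proj_eq_one_iff g).1 hg with e | e
    · exact ⟨1, by rw [e, one_smul, coe_one'], one_mul _⟩
    · exact ⟨-1, by rw [e, coe_negOne, neg_smul, one_smul], by ring⟩
  refine ⟨fun e => ?_, fun e => ?_, fun e => ?_⟩
  · obtain ⟨c, hc, hcc⟩ := hsc A e
    have h2 := h.trAB
    rw [hc, smul_mul_assoc, one_mul, Matrix.trace_smul, h.trB, smul_eq_mul, mul_one] at h2
    have h3 := h.ht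
    rw [← h2] at h3
    have hc0 : c = 0 := by linear_combination hcc - h3
    rw [hc0, zero_mul] at hcc
    exact zero_ne_one hcc
  · obtain ⟨c, hc, hcc⟩ := hsc B e
    have h2 := h.trAB
    rw [hc] at h2
    simp only [mul_smul_comm, mul_one, Matrix.trace_smul, h.trA, smul_eq_mul, mul_zero] at h2
    have := h.ht
    rw [← h2] at this
    simp at this
  · obtain ⟨c, hc, hcc⟩ := hsc (A * B) e
    rw [coe_mul'] at hc
    have h1 : (A : M2) * ((A : M2) * B) = c • (A : M2) := by rw [hc, mul_smul_comm, mul_one]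
    rw [← mul_assoc, h.relations.1, neg_mul, one_mul] at h1
    have h3 := congrArg Matrix.trace h1
    simp [h.trA, h.trB] at h3

theorem orders (h : IsPair A B t) :
    orderOf (proj A) = 2 ∧ orderOf (proj B) = 3 ∧ orderOf (proj A * proj B) = 5 := by
  obtain ⟨ha, hb, hab⟩ := h.proj_ne_one
  haveI : Fact (Nat.Prime 2) := ⟨Nat.prime_two⟩
  haveI : Fact (Nat.Prime 3) := ⟨Nat.prime_three⟩
  haveI : Fact (Nat.Prime 5) := ⟨by norm_num⟩
  refine ⟨orderOf_eq_prime ((trace_two_iff ha).2 h.trA) ha,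
    orderOf_eq_prime ((trace_three_iff hb).2 (Or.inl h.trB)) hb, ?_⟩
  rw [← map_mul]
  refine orderOf_eq_prime ((trace_five_iff hab).2 (Or.inl ?_)) hab
  rw [coe_mul', h.trAB, h.ht]

/-- The group generated by a pair. -/
def grp (A B : S2) : Subgroup P2 := Subgroup.closure {proj A, proj B}

theorem mem_elems (h : IsPair A B t) {x : P2} (hx : x ∈ grp A B) :
    ∃ v ∈ elems, ∃ g : S2, proj g = x ∧ (g : M2) = ev A B t v := by
  have step : ∀ (g₀ : S2) (act : V8 → V8), (∀ v, (g₀ : M2) * ev A B t v = ev A B t (act v)) →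
      (∀ v ∈ elems, act v ∈ elems ∨ neg8 (act v) ∈ elems) → ∀ y : P2,
      (∃ v ∈ elems, ∃ g : S2, proj g = y ∧ (g : M2) = ev A B t v) →
      ∃ v ∈ elems, ∃ g : S2, proj g = proj g₀ * y ∧ (g : M2) = ev A B t v := by
    rintro g₀ act hev hcl _ ⟨v, hv, g, rfl, hg⟩
    rcases hcl v hv with h1 | h1
    · exact ⟨_, h1, g₀ * g, map_mul _ _ _, by rw [coe_mul', hg, hev]⟩
    · exact ⟨_, h1, negOne * (g₀ * g), (proj_neg _).trans (map_mul _ _ _), by
        rw [coe_mul', coe_negOne, coe_mul', hg, hev, ev_neg, neg_mul, one_mul]⟩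
  have hA := step A actA h.mul_evA fun v hv => (elems_closed v hv).1
  have hB := step B actB h.mul_evB fun v hv => (elems_closed v hv).2
  obtain ⟨oa, ob, -⟩ := h.orders
  have oa' := pow_orderOf_eq_one (proj A : P2)
  have ob' := pow_orderOf_eq_one (proj B : P2)
  rw [oa, pow_two] at oa'
  rw [ob, pow_succ, pow_two, mul_assoc] at ob'
  have hinvA : (proj A : P2)⁻¹ = proj A := inv_eq_of_mul_eq_one_right oa'
  have hinvB : (proj B : P2)⁻¹ = proj B * proj B := inv_eq_of_mul_eq_one_right ob'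
  induction hx using Subgroup.closure_induction_left with
  | one => exact ⟨one8, by decide, 1, map_one _, by rw [ev_one]; rfl⟩
  | mul_left y hy z _ ih =>
    rcases hy with rfl | rfl
    · exact hA z ih
    · exact hB z ih
  | inv_mul_cancel y hy z _ ih =>
    rcases hy with rfl | rfl
    · rw [hinvA]; exact hA z ih
    · rw [hinvB, mul_assoc]; exact hB _ (hB z ih)

theorem card_grp (h : IsPair A B t) : Nat.card (grp A B) = 60 := by
  classical
  haveI : Finite P2 := Finite.of_surjective _ proj_surjective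
  obtain ⟨oa, ob, oab⟩ := h.orders
  have hle : Nat.card (grp A B) ≤ 60 := by
    choose v hv g hg hgv using fun x : grp A B => h.mem_elems x.2
    have hinj : Function.Injective fun x : grp A B => (⟨v x, hv x⟩ : {w // w ∈ elems}) := by
      intro x y e
      have e' : v x = v y := congrArg Subtype.val e
      refine Subtype.ext ?_
      rw [← hg x, ← hg y, sl_ext ((hgv x).trans (e'.symm ▸ (hgv y).symm))]
    haveI : Finite {w // w ∈ elems} :=
      Finite.of_equiv _ (Equiv.subtypeEquivRight fun w => List.mem_toFinset (l := elems))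
    refine (Nat.card_le_card_of_injective _ hinj).trans ?_
    rw [← elems_length, Nat.card_congr (Equiv.subtypeEquivRight fun w => (List.mem_toFinset (l := elems)).symm),
      Nat.card_eq_finsetCard]
    exact List.toFinset_card_le _
  have hma : proj A ∈ grp A B := Subgroup.subset_closure (Or.inl rfl)
  have hmb : proj B ∈ grp A B := Subgroup.subset_closure (Or.inr rfl)
  have h30 : 30 ∣ Nat.card (grp A B) := by
    have d2 := orderOf_dvd_natCard (⟨_, hma⟩ : grp A B)
    rw [Subgroup.orderOf_mk, oa] at d2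
    have d3 := orderOf_dvd_natCard (⟨_, hmb⟩ : grp A B)
    rw [Subgroup.orderOf_mk, ob] at d3
    have d5 := orderOf_dvd_natCard (⟨_, (grp A B).mul_mem hma hmb⟩ : grp A B)
    rw [Subgroup.orderOf_mk, oab] at d5
    omega
  have hne : Nat.card (grp A B) ≠ 30 := by
    intro h30'
    haveI : Fact (Nat.Prime 2) := ⟨Nat.prime_two⟩
    have heven : Even (Nat.card (grp A B)) := ⟨15, h30'⟩
    obtain ⟨T⟩ := (inferInstance : Nonempty (Sylow 2 (grp A B)))
    have hT : Nat.card T = 2 := by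
      have h1 : 2 ^ 1 ∣ Nat.card T := T.pow_dvd_card_of_pow_dvd_card (n := 1) (by rw [h30']; norm_num)
      have h2 : Nat.card T ∣ 30 := h30' ▸ (T : Subgroup (grp A B)).card_subgroup_dvd_card
      obtain ⟨k, hk⟩ := T.isPGroup'.exists_card_eq
      change Nat.card T = 2 ^ k at hk
      rw [hk] at h1 h2 ⊢
      rcases (show k = 0 ∨ k = 1 ∨ 2 ≤ k by omega) with rfl | rfl | h3
      · norm_num at h1
      · rfl
      · exfalso
        have := (pow_dvd_pow 2 h3).trans h2
        norm_num at this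
    obtain ⟨H, hH⟩ := Inv.exists_index_two_of_cyclic_sylow heven T (isCyclic_of_prime_card hT)
    haveI := Subgroup.normal_of_index_eq_two hH
    have hodd : ∀ x : grp A B, Odd (orderOf x) → x ∈ H := by
      intro x hx
      obtain ⟨k, hk⟩ := hx
      have h1 : x ^ (orderOf x + 1) ∈ H := by
        rw [show orderOf x + 1 = 2 * (k + 1) by omega, pow_mul, pow_two]
        exact H.pow_mem (Subgroup.mul_self_mem_of_index_two hH x) _
      rwa [pow_succ, pow_orderOf_eq_one, one_mul] at h1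
    have hb : (⟨_, hmb⟩ : grp A B) ∈ H := hodd _ (by rw [Subgroup.orderOf_mk, ob]; exact ⟨1, rfl⟩)
    have hab : (⟨_, hma⟩ : grp A B) * ⟨_, hmb⟩ ∈ H := hodd _ (by
      rw [← Subgroup.orderOf_coe, Subgroup.coe_mul, oab]; exact ⟨2, rfl⟩)
    have ha : (⟨_, hma⟩ : grp A B) ∈ H := (H.mul_mem_cancel_right hb).1 hab
    have htop : H = ⊤ := by
      rw [eq_top_iff]
      rintro ⟨x, hx⟩ -
      induction hx using Subgroup.closure_induction with
      | mem y hy =>
        rcases hy with rfl | rfl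
        · exact ha
        · exact hb
      | one => exact H.one_mem
      | mul _ _ _ _ h1 h2 => exact H.mul_mem h1 h2
      | inv _ _ h1 => exact H.inv_mem h1
    rw [htop, Subgroup.index_top] at hH
    omega
  have := Nat.card_pos (α := grp A B)
  omega

theorem nonempty_grp (h : IsPair A B t) : Nonempty (grp A B ≃* alternatingGroup (Fin 5)) := by
  haveI : Finite P2 := Finite.of_surjective _ proj_surjective
  have key : ∀ x : grp A B, x = 1 ∨ x ^ 2 = 1 ∨ x ^ 3 = 1 ∨ x ^ 5 = 1 := by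
    rintro ⟨x, hx⟩
    obtain ⟨v, hv, g, rfl, hg⟩ := h.mem_elems hx
    by_cases h1 : proj g = 1
    · exact Or.inl (Subtype.ext h1)
    right
    have hcast : ∀ n, proj g ^ n = 1 → (⟨proj g, hx⟩ : grp A B) ^ n = 1 := fun n e => Subtype.ext e
    have htr : (g : M2).trace = ((tr8 v).1 : F) + (tr8 v).2 * t := by rw [hg, h.trace_ev]
    rcases elems_tr v hv with rfl | hmem
    · exfalso
      rw [ev_one] at hg
      exact h1 (by rw [sl_ext (hg.trans coe_one'.symm), map_one])
    · simp only [List.mem_cons, List.not_mem_nil, or_false] at hmem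
      rcases hmem with e | e | e | e | e | e | e <;> rw [e] at htr <;> push_cast at htr
      · exact Or.inl (hcast 2 ((trace_two_iff h1).2 (by rw [htr]; ring)))
      · exact Or.inr (Or.inl (hcast 3 ((trace_three_iff h1).2 (Or.inl (by rw [htr]; ring)))))
      · exact Or.inr (Or.inl (hcast 3 ((trace_three_iff h1).2 (Or.inr (by rw [htr]; ring)))))
      · exact Or.inr (Or.inr (hcast 5 ((trace_five_iff h1).2 (Or.inl (by rw [htr]; linear_combination h.ht)))))
      · exact Or.inr (Or.inr (hcast 5 ((trace_five_iff h1).2 (Or.inr (by rw [htr]; linear_combination h.ht)))))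
      · exact Or.inr (Or.inr (hcast 5 ((trace_five_iff h1).2 (Or.inl (by rw [htr]; linear_combination h.ht)))))
      · exact Or.inr (Or.inr (hcast 5 ((trace_five_iff h1).2 (Or.inr (by rw [htr]; linear_combination h.ht)))))
  haveI := Dickson.simple_of_sixty h.card_grp (fun x hx => ?_) (fun x hx => ?_)
  · exact SmallAlt.simple_sixty h.card_grp
  all_goals
    rcases key x with e | e | e | e
    · rw [e, orderOf_one] at hx; omega
    all_goals
      have hd := orderOf_dvd_of_pow_eq_one e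
      rw [hx] at hd
      omega

/-- A second pair in the same group with the other root. -/
theorem exists_other (h : IsPair A B t) :
    ∃ B' : S2, IsPair A B' (1 - t) ∧ proj B' ∈ grp A B := by
  refine ⟨B * A * B * B * A * B * A, ⟨h.trA, ?_, ?_, by linear_combination h.ht⟩, ?_⟩
  · have e : ((B * A * B * B * A * B * A : S2) : M2) =
        ev A B t (actB (actA (actB (actB (actA (actB (actA one8))))))) := by
      simp only [← h.mul_evA, ← h.mul_evB, ev_one, coe_mul', mul_one, mul_assoc]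
    rw [e, h.trace_ev]
    norm_num [actA, actB, one8, tr8]
  · have e : (A : M2) * ((B * A * B * B * A * B * A : S2) : M2) =
        ev A B t (actA (actB (actA (actB (actB (actA (actB (actA one8)))))))) := by
      simp only [← h.mul_evA, ← h.mul_evB, ev_one, coe_mul', mul_one, mul_assoc]
    rw [e, h.trace_ev]
    norm_num [actA, actB, one8, tr8]
    ring
  · simp only [map_mul]
    have ha : proj A ∈ grp A B := Subgroup.subset_closure (Or.inl rfl)
    have hb : proj B ∈ grp A B := Subgroup.subset_closure (Or.inr rfl)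
    exact mul_mem (mul_mem (mul_mem (mul_mem (mul_mem (mul_mem hb ha) hb) hb) ha) hb) ha

end IsPair

/-- A pair from elements of orders two, three and five. -/
theorem exists_pair {a b : P2} (ha : orderOf a = 2) (hb : orderOf b = 3) (hab : orderOf (a * b) = 5) :
    ∃ A B t, IsPair A B t ∧ proj A = a ∧ proj B = b := by
  obtain ⟨A, rfl⟩ := proj_surjective a
  obtain ⟨B, rfl⟩ := proj_surjective b
  have hne : ∀ {x : P2} {n : ℕ}, orderOf x = n → 1 < n → x ≠ 1 := by
    rintro x n h h1 rfl; rw [orderOf_one] at h; omega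
  have ha2 := pow_orderOf_eq_one (proj A : P2)
  rw [ha] at ha2
  have hb3 := pow_orderOf_eq_one (proj B : P2)
  rw [hb] at hb3
  have hA := (trace_two_iff (hne ha (by norm_num))).1 ha2
  obtain ⟨B', hB', hBt⟩ : ∃ B', proj B' = proj B ∧ (B' : M2).trace = 1 := by
    rcases (trace_three_iff (hne hb (by norm_num))).1 hb3 with e | e
    · exact ⟨B, rfl, e⟩
    · exact ⟨negOne * B, proj_neg B, by
        rw [coe_mul', coe_negOne, neg_mul, one_mul, Matrix.trace_neg, e, neg_neg]⟩
  rw [← hB', ← map_mul] at hab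
  have hab5 := pow_orderOf_eq_one (proj (A * B') : P2)
  rw [hab] at hab5
  have h5 := (trace_five_iff (hne hab (by norm_num))).1 hab5
  rw [coe_mul'] at h5
  rcases h5 with e | e
  · exact ⟨A, B', _, ⟨hA, hBt, rfl, e⟩, rfl, hB'⟩
  · refine ⟨negOne * A, B', -((A : M2) * B').trace, ⟨?_, hBt, ?_, by linear_combination e⟩, proj_neg A, hB'⟩
    · rw [coe_mul', coe_negOne, neg_mul, one_mul, Matrix.trace_neg, hA, neg_zero]
    · rw [coe_mul', coe_negOne, neg_mul, one_mul, neg_mul, Matrix.trace_neg]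

end Cfsg.Agent.Classical.Icosa
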