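import Mathlib

/-!
Partitions into equal chunks permuted by an involution.
-/

set_option autoImplicit false

namespace Cfsg.Agent.Classical.InvolChunks

variable {ι : Type*} [DecidableEq ι] {π : ι → ι}

theorem stable_subset (hπ : ∀ i, π (π i) = i) :
    ∀ (k : ℕ) (s : Finset ι), (∀ i ∈ s, π i ∈ s) → k ≤ s.card → (Even k ∨ ∃ i ∈ s, π i = i) →
      ∃ T ⊆ s, (∀ i ∈ T, π i ∈ T) ∧ T.card = k := by
  intro k
  induction k using Nat.strong_induction_on with
  | _ k ih =>
    intro s hs hk hc
    rcases Nat.lt_or_ge k 2 with hk2 | hk2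
    · rcases Nat.eq_zero_or_pos k with rfl | hk0
      · exact ⟨∅, by simp, by simp, rfl⟩
      · obtain ⟨i, hi, hfix⟩ := hc.resolve_left (by rw [show k = 1 by omega]; simp)
        exact ⟨{i}, by simpa using hi, by simp [hfix], by simp; omega⟩
    by_cases h : ∃ i ∈ s, π i ≠ i
    · obtain ⟨i, hi, hne⟩ := h
      have hmem : ∀ j, j ∈ (s.erase i).erase (π i) ↔ j ≠ π i ∧ j ≠ i ∧ j ∈ s := fun j => by simp
      obtain ⟨T, hT, hTs, hTc⟩ := ih (k - 2) (by omega) ((s.erase i).erase (π i))
        (fun j hj => by
          obtain ⟨h1, h2, h3⟩ := (hmem j).1 hj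
          refine (hmem _).2 ⟨fun e => h2 ?_, fun e => h1 ?_, hs j h3⟩
          · rw [← hπ j, e, hπ]
          · rw [← hπ j, e])
        (by
          rw [Finset.card_erase_of_mem (by simp [hne, hs i hi]), Finset.card_erase_of_mem hi]
          omega)
        (hc.imp (fun e => by rw [Nat.even_sub hk2]; simp [e])
          (fun ⟨j, hj, hfix⟩ => ⟨j, (hmem j).2 ⟨fun e => hne (by rw [e, hπ] at hfix; exact hfix.symm), fun e => hne (e ▸ hfix), hj⟩, hfix⟩))
      · have h1 : i ∉ T := fun e => ((hmem i).1 (hT e)).2.1 rfl
        have h2 : π i ∉ T := fun e => ((hmem _).1 (hT e)).1 rfl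
        refine ⟨insert i (insert (π i) T), ?_, ?_, ?_⟩
        · intro j hj
          simp only [Finset.mem_insert] at hj
          rcases hj with rfl | rfl | hj
          exacts [hi, hs i hi, ((hmem j).1 (hT hj)).2.2]
        · intro j hj
          simp only [Finset.mem_insert] at hj ⊢
          rcases hj with rfl | rfl | hj
          · exact Or.inr (Or.inl rfl)
          · exact Or.inl (hπ i)
          · exact Or.inr (Or.inr (hTs j hj))
        · rw [Finset.card_insert_of_notMem (by simp [h1, Ne.symm hne]), Finset.card_insert_of_notMem h2, hTc]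
          omega
    · push Not at h
      obtain ⟨T, hT, hTc⟩ := Finset.exists_subset_card_eq hk
      exact ⟨T, hT, fun i hi => by rw [h i (hT hi)]; exact hi, hTc⟩

theorem half_subset (hπ : ∀ i, π (π i) = i) :
    ∀ (k : ℕ) (s : Finset ι), (∀ i ∈ s, π i ∈ s) → 2 * k ≤ s.card → (∀ i ∈ s, π i ≠ i) →
      ∃ A ⊆ s, A.card = k ∧ Disjoint A (A.image π) := by
  intro k
  induction k with
  | zero => intro s _ _ _; exact ⟨∅, by simp, rfl, by simp⟩
  | succ k ih =>
    intro s hs hk hfix
    obtain ⟨i, hi⟩ := Finset.card_pos.1 (by omega : 0 < s.card)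
    have hmem : ∀ j, j ∈ (s.erase i).erase (π i) ↔ j ≠ π i ∧ j ≠ i ∧ j ∈ s := fun j => by simp
    obtain ⟨A, hA, hAc, hAd⟩ := ih ((s.erase i).erase (π i))
      (fun j hj => by
        obtain ⟨h1, h2, h3⟩ := (hmem j).1 hj
        refine (hmem _).2 ⟨fun e => h2 ?_, fun e => h1 ?_, hs j h3⟩
        · rw [← hπ j, e, hπ]
        · rw [← hπ j, e])
      (by
        rw [Finset.card_erase_of_mem (by simp [hfix i hi, hs i hi]), Finset.card_erase_of_mem hi]
        omega)
      (fun j hj => hfix j ((hmem j).1 hj).2.2)
    have h1 : i ∉ A := fun e => ((hmem i).1 (hA e)).2.1 rfl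
    have h2 : π i ∉ A := fun e => ((hmem _).1 (hA e)).1 rfl
    refine ⟨insert i A, ?_, by rw [Finset.card_insert_of_notMem h1, hAc], ?_⟩
    · exact Finset.insert_subset hi fun j hj => ((hmem j).1 (hA hj)).2.2
    · rw [Finset.image_insert, Finset.disjoint_insert_left, Finset.disjoint_insert_right]
      refine ⟨?_, h2, hAd⟩
      simp only [Finset.mem_insert, Finset.mem_image, not_or, not_exists, not_and]
      exact ⟨fun e => hfix i hi e.symm, fun j hj e => h2 (by rw [← e, hπ]; exact hj)⟩

/-- Chunks labelled by numbers. -/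
theorem chunks_nat (hπ : ∀ i, π (π i) = i) {b : ℕ} :
    ∀ (t : ℕ) (s : Finset ι), (∀ i ∈ s, π i ∈ s) → s.card = b * t →
      ∃ (f : ι → ℕ) (g : ℕ → ℕ), (∀ i ∈ s, f i < t ∧ g (f i) = f (π i)) ∧
        (∀ j < t, (s.filter fun i => f i = j).card = b) ∧ (∀ j < t, g j < t ∧ g (g j) = j) := by
  intro t
  induction t using Nat.strong_induction_on with
  | _ t ih =>
    intro s hs hc
    rcases Nat.eq_zero_or_pos t with rfl | ht
    · exact ⟨fun _ => 0, id, fun i hi => absurd (Finset.card_pos.2 ⟨i, hi⟩) (by omega), by simp, by simp⟩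
    have hbt : b ≤ b * t := Nat.le_mul_of_pos_right b ht
    by_cases hcase : Even b ∨ ∃ i ∈ s, π i = i
    · obtain ⟨T, hT, hTs, hTc⟩ := stable_subset hπ b s hs (by omega) hcase
      have hTm : ∀ i, π i ∈ T ↔ i ∈ T := fun i => ⟨fun h => by have := hTs _ h; rwa [hπ] at this, hTs i⟩
      obtain ⟨f, g, hf, hcard, hg⟩ := ih (t - 1) (by omega) (s \ T)
        (fun i hi => by
          rw [Finset.mem_sdiff] at hi ⊢
          exact ⟨hs i hi.1, fun h => hi.2 ((hTm i).1 h)⟩)
        (by rw [Finset.card_sdiff_of_subset hT, hc, hTc, Nat.mul_sub_one])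
      refine ⟨fun i => if i ∈ T then t - 1 else f i, fun j => if j = t - 1 then t - 1 else g j, ?_, ?_, ?_⟩
      · intro i hi
        by_cases hiT : i ∈ T
        · simp only [hiT, if_true, hTs i hiT]
          exact ⟨by omega, trivial⟩
        · obtain ⟨h1, h2⟩ := hf i (Finset.mem_sdiff.2 ⟨hi, hiT⟩)
          show (if i ∈ T then t - 1 else f i) < t ∧ _
          simp only [hiT, if_false]
          rw [if_neg (by omega), if_neg fun h => hiT ((hTm i).1 h)]
          exact ⟨by omega, h2⟩
      · intro j hj
        rcases eq_or_ne j (t - 1) with rfl | hne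
        · rw [← hTc]
          congr 1
          ext i
          simp only [Finset.mem_filter]
          constructor
          · rintro ⟨hi, h⟩
            by_contra hiT
            rw [if_neg hiT] at h
            have := (hf i (Finset.mem_sdiff.2 ⟨hi, hiT⟩)).1
            omega
          · exact fun h => ⟨hT h, if_pos h⟩
        · rw [← hcard j (by omega)]
          congr 1
          ext i
          simp only [Finset.mem_filter, Finset.mem_sdiff]
          by_cases hiT : i ∈ T
          · simp [hiT, Ne.symm hne]
          · simp [hiT]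
      · intro j hj
        rcases eq_or_ne j (t - 1) with rfl | hne
        · simp; omega
        · obtain ⟨h1, h2⟩ := hg j (by omega)
          simp only [hne, if_false]
          rw [if_neg (by omega)]
          exact ⟨by omega, h2⟩
    · push Not at hcase
      obtain ⟨hb, hfix⟩ := hcase
      have ht2 : 2 ≤ t := by
        by_contra h
        -- a fixed-point-free involution forces an even cardinality
        have hev : Even s.card := by
          rw [← ZMod.natCast_eq_zero_iff_even]
          have : ∑ _i ∈ s, (1 : ZMod 2) = 0 :=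
            Finset.sum_involution (fun i _ => π i) (fun _ _ => by decide) (fun i hi _ => hfix i hi)
              (fun i hi => hs i hi) (fun i _ => hπ i)
          simpa using this
        rw [hc, show t = 1 by omega, mul_one] at hev
        exact hb hev
      have hbt2 : 2 * b ≤ b * t := by rw [mul_comm 2 b]; exact Nat.mul_le_mul_left b ht2
      obtain ⟨A, hA, hAc, hAd⟩ := half_subset hπ b s hs (by omega) hfix
      have hinj : Function.Injective π := Function.Involutive.injective hπ
      have hBs : A.image π ⊆ s := Finset.image_subset_iff.2 fun i hi => hs i (hA hi)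
      have hmB : ∀ i, π i ∈ A.image π ↔ i ∈ A := fun i => by
        rw [Finset.mem_image]
        exact ⟨fun ⟨j, hj, e⟩ => hinj e ▸ hj, fun h => ⟨i, h, rfl⟩⟩
      have hmA : ∀ i, π i ∈ A ↔ i ∈ A.image π := fun i => by rw [← hmB, hπ]
      obtain ⟨f, g, hf, hcard, hg⟩ := ih (t - 2) (by omega) (s \ (A ∪ A.image π))
        (fun i hi => by
          simp only [Finset.mem_sdiff, Finset.mem_union, not_or] at hi ⊢
          exact ⟨hs i hi.1, fun h => hi.2.2 ((hmA i).1 h), fun h => hi.2.1 ((hmB i).1 h)⟩)
        (by
          rw [Finset.card_sdiff_of_subset (Finset.union_subset hA hBs), Finset.card_union_of_disjoint hAd,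
            Finset.card_image_of_injective _ hinj, hc, hAc, Nat.mul_sub, mul_two])
      have hnot : ∀ i, i ∈ A → i ∉ A.image π := fun i h h' => Finset.disjoint_left.1 hAd h h'
      refine ⟨fun i => if i ∈ A then t - 1 else if i ∈ A.image π then t - 2 else f i,
        fun j => if j = t - 1 then t - 2 else if j = t - 2 then t - 1 else g j, ?_, ?_, ?_⟩
      · intro i hi
        by_cases hiA : i ∈ A
        · simp only [hiA, if_true]
          rw [if_neg fun h => hnot i hiA ((hmA i).1 h), if_pos ((hmB i).2 hiA)]
          exact ⟨by omega, rfl⟩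
        by_cases hiB : i ∈ A.image π
        · simp only [hiA, if_false, hiB, if_true, (hmA i).2 hiB]
          rw [if_neg (by omega)]
          exact ⟨by omega, rfl⟩
        · obtain ⟨h1, h2⟩ := hf i (by simp only [Finset.mem_sdiff, Finset.mem_union]; exact ⟨hi, by tauto⟩)
          simp only [hiA, hiB, if_false]
          rw [if_neg (by omega), if_neg (by omega), if_neg fun h => hiB ((hmA i).1 h),
            if_neg fun h => hiA ((hmB i).1 h)]
          exact ⟨by omega, h2⟩
      · intro j hj
        have key : ∀ i, i ∈ s → i ∉ A → i ∉ A.image π → f i < t - 2 := fun i hi h1 h2 =>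
          (hf i (by simp only [Finset.mem_sdiff, Finset.mem_union]; exact ⟨hi, by tauto⟩)).1
        rcases eq_or_ne j (t - 1) with rfl | hne1
        · rw [← hAc]
          congr 1
          ext i
          simp only [Finset.mem_filter]
          refine ⟨fun ⟨hi, h⟩ => ?_, fun h => ⟨hA h, if_pos h⟩⟩
          by_contra hiA
          rw [if_neg hiA] at h
          split_ifs at h with hiB
          · omega
          · have := key i hi hiA hiB; omega
        rcases eq_or_ne j (t - 2) with rfl | hne2
        · rw [← hAc, ← Finset.card_image_of_injective A hinj]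
          congr 1
          ext i
          simp only [Finset.mem_filter]
          refine ⟨fun ⟨hi, h⟩ => ?_, fun h => ⟨hBs h, by rw [if_neg fun h' => hnot i h' h, if_pos h]⟩⟩
          by_contra hiB
          rw [if_neg hiB] at h
          split_ifs at h with hiA
          · omega
          · have := key i hi hiA hiB; omega
        · rw [← hcard j (by omega)]
          congr 1
          ext i
          simp only [Finset.mem_filter, Finset.mem_sdiff, Finset.mem_union]
          by_cases hiA : i ∈ A
          · simp [hiA, Ne.symm hne1]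
          by_cases hiB : i ∈ A.image π
          · simp [hiA, hiB, Ne.symm hne2]
          · simp [hiA, hiB]
      · intro j hj
        rcases eq_or_ne j (t - 1) with rfl | hne1
        · simp only [if_true]
          rw [if_neg (by omega)]
          simp only [if_true]
          exact ⟨by omega, trivial⟩
        rcases eq_or_ne j (t - 2) with rfl | hne2
        · simp only [hne1, if_false, if_true]
          exact ⟨by omega, trivial⟩
        · obtain ⟨h1, h2⟩ := hg j (by omega)
          simp only [hne1, hne2, if_false]
          rw [if_neg (by omega), if_neg (by omega)]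
          exact ⟨by omega, h2⟩

/-- An involution respects some partition into equal chunks. -/
theorem chunks [Fintype ι] (hπ : ∀ i, π (π i) = i) {b t : ℕ} (hc : Fintype.card ι = b * t) :
    ∃ (f : ι → Fin t) (σ : Equiv.Perm (Fin t)), (∀ i, σ (f i) = f (π i)) ∧
      ∀ j, (Finset.univ.filter fun i => f i = j).card = b := by
  obtain ⟨f, g, hf, hcard, hg⟩ := chunks_nat hπ t Finset.univ (fun i _ => Finset.mem_univ _) hc
  refine ⟨fun i => ⟨f i, (hf i (Finset.mem_univ i)).1⟩,
    Function.Involutive.toPerm (fun j => ⟨g j, (hg j j.2).1⟩) (fun j => Fin.ext (hg j j.2).2),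
    fun i => Fin.ext (hf i (Finset.mem_univ i)).2, fun j => ?_⟩
  rw [← hcard j j.2]
  congr 1
  ext i
  simp [Fin.ext_iff]

end Cfsg.Agent.Classical.InvolChunks
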