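import Mathlib

/-!
Isometry groups of two-argument functions on a vector space and orthogonal decompositions.
The two-argument function covers bilinear, sesquilinear and (ignoring the second argument)
quadratic forms.
-/

set_option autoImplicit false
set_option linter.style.haveILetI false

namespace Cfsg.Agent.Classical

variable {F V : Type*} [Field F] [AddCommGroup V] [Module F V]

/-- The linear automorphisms preserving `f`. -/
def isom (F : Type*) [Field F] {V : Type*} [AddCommGroup V] [Module F V] (f : V → V → F) :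
    Subgroup (V ≃ₗ[F] V) where
  carrier := {g | ∀ x y, f (g x) (g y) = f x y}
  one_mem' := fun _ _ => rfl
  mul_mem' := fun {g h} hg hh x y => by
    show f (g (h x)) (g (h y)) = f x y
    rw [hg, hh]
  inv_mem' := fun {g} hg x y => by
    show f (g.symm x) (g.symm y) = f x y
    rw [← hg (g.symm x) (g.symm y), g.apply_symm_apply, g.apply_symm_apply]

theorem mem_isom {f : V → V → F} {g : V ≃ₗ[F] V} : g ∈ isom F f ↔ ∀ x y, f (g x) (g y) = f x y :=
  Iff.rfl

theorem isom_apply {f : V → V → F} (g : isom F f) (x y : V) :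
    f ((g : V ≃ₗ[F] V) x) ((g : V ≃ₗ[F] V) y) = f x y :=
  g.2 x y

theorem isom_finite (f : V → V → F) [Finite V] : Finite (isom F f) :=
  Finite.of_injective (fun g : isom F f => ((g : V ≃ₗ[F] V) : V → V)) fun a b h =>
    Subtype.ext (LinearEquiv.ext fun x => congrFun h x)

/-- Transport of isometry groups along a linear equivalence. -/
def isomCongr {W : Type*} [AddCommGroup W] [Module F W] (e : V ≃ₗ[F] W) (f : V → V → F)
    (f' : W → W → F) (h : ∀ x y, f' (e x) (e y) = f x y) : isom F f ≃* isom F f' where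
  toFun g := ⟨e.symm.trans ((g : V ≃ₗ[F] V).trans e), fun x y => by
    show f' (e ((g : V ≃ₗ[F] V) (e.symm x))) (e ((g : V ≃ₗ[F] V) (e.symm y))) = f' x y
    rw [h, g.2, ← h, e.apply_symm_apply, e.apply_symm_apply]⟩
  invFun g := ⟨e.trans ((g : W ≃ₗ[F] W).trans e.symm), fun x y => by
    show f (e.symm ((g : W ≃ₗ[F] W) (e x))) (e.symm ((g : W ≃ₗ[F] W) (e y))) = f x y
    rw [← h, e.apply_symm_apply, e.apply_symm_apply, g.2, h]⟩
  left_inv g := Subtype.ext (LinearEquiv.ext fun x => by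
    show e.symm (e ((g : V ≃ₗ[F] V) (e.symm (e x)))) = (g : V ≃ₗ[F] V) x
    rw [e.symm_apply_apply, e.symm_apply_apply])
  right_inv g := Subtype.ext (LinearEquiv.ext fun x => by
    show e (e.symm ((g : W ≃ₗ[F] W) (e (e.symm x)))) = (g : W ≃ₗ[F] W) x
    rw [e.apply_symm_apply, e.apply_symm_apply])
  map_mul' g g' := Subtype.ext (LinearEquiv.ext fun x => by
    show e ((g : V ≃ₗ[F] V) ((g' : V ≃ₗ[F] V) (e.symm x))) =
      e ((g : V ≃ₗ[F] V) (e.symm (e ((g' : V ≃ₗ[F] V) (e.symm x)))))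
    rw [e.symm_apply_apply])

/-- An orthogonal decomposition `V = P ⊕ W`, with `W` the whole orthogonal of `P`. -/
structure OrthDecomp (f : V → V → F) (P W : Submodule F V) : Prop where
  add_left : ∀ a b c, f (a + b) c = f a c + f b c
  add_right : ∀ a b c, f a (b + c) = f a b + f a c
  isCompl : IsCompl P W
  orth_left : ∀ p ∈ P, ∀ w ∈ W, f p w = 0
  orth_right : ∀ p ∈ P, ∀ w ∈ W, f w p = 0
  orth_mem : ∀ x, (∀ p ∈ P, f x p = 0) → x ∈ W

variable {f : V → V → F} {P W : Submodule F V}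

theorem OrthDecomp.exists_add (h : OrthDecomp f P W) (x : V) :
    ∃ p ∈ P, ∃ w ∈ W, p + w = x := by
  have : x ∈ P ⊔ W := by rw [h.isCompl.sup_eq_top]; exact Submodule.mem_top
  obtain ⟨p, hp, w, hw, he⟩ := Submodule.mem_sup.1 this
  exact ⟨p, hp, w, hw, he⟩

theorem OrthDecomp.apply_add (h : OrthDecomp f P W) {p p' w w' : V} (hp : p ∈ P) (hp' : p' ∈ P)
    (hw : w ∈ W) (hw' : w' ∈ W) : f (p + w) (p' + w') = f p p' + f w w' := by
  rw [h.add_left, h.add_right, h.add_right, h.orth_left p hp w' hw', h.orth_right p' hp' w hw,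
    add_zero, zero_add]

/-- Extension of an isometry of `W` by the identity on `P`. -/
noncomputable def OrthDecomp.ext (h : OrthDecomp f P W) :
    isom F (fun a b : W => f a b) →* isom F f where
  toFun g :=
    ⟨(Submodule.prodEquivOfIsCompl P W h.isCompl).symm.trans
      (((LinearEquiv.refl F P).prodCongr (g : W ≃ₗ[F] W)).trans
        (Submodule.prodEquivOfIsCompl P W h.isCompl)), fun x y => by
      obtain ⟨⟨a, w⟩, rfl⟩ := (Submodule.prodEquivOfIsCompl P W h.isCompl).surjective x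
      obtain ⟨⟨b, u⟩, rfl⟩ := (Submodule.prodEquivOfIsCompl P W h.isCompl).surjective y
      simp only [LinearEquiv.trans_apply, LinearEquiv.symm_apply_apply]
      simp only [LinearEquiv.prodCongr_apply, LinearEquiv.refl_apply,
        Submodule.coe_prodEquivOfIsCompl']
      rw [h.apply_add a.2 b.2 ((g : W ≃ₗ[F] W) w).2 ((g : W ≃ₗ[F] W) u).2,
        h.apply_add a.2 b.2 w.2 u.2]
      exact congrArg _ (g.2 w u)⟩
  map_one' := Subtype.ext (LinearEquiv.ext fun x => by
    obtain ⟨⟨a, w⟩, rfl⟩ := (Submodule.prodEquivOfIsCompl P W h.isCompl).surjective x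
    simp)
  map_mul' g g' := Subtype.ext (LinearEquiv.ext fun x => by
    obtain ⟨⟨a, w⟩, rfl⟩ := (Submodule.prodEquivOfIsCompl P W h.isCompl).surjective x
    simp)

theorem OrthDecomp.ext_apply (h : OrthDecomp f P W) (g : isom F (fun a b : W => f a b))
    {p : V} (hp : p ∈ P) (w : W) :
    (h.ext g : V ≃ₗ[F] V) (p + w) = p + ((g : W ≃ₗ[F] W) w : V) := by
  have e : p + (w : V) = Submodule.prodEquivOfIsCompl P W h.isCompl (⟨p, hp⟩, w) := by simp
  rw [e]
  show Submodule.prodEquivOfIsCompl P W h.isCompl (((LinearEquiv.refl F P).prodCongr (g : W ≃ₗ[F] W))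
    ((Submodule.prodEquivOfIsCompl P W h.isCompl).symm
      (Submodule.prodEquivOfIsCompl P W h.isCompl (⟨p, hp⟩, w)))) = _
  rw [LinearEquiv.symm_apply_apply]
  simp only [LinearEquiv.prodCongr_apply, LinearEquiv.refl_apply,
    Submodule.coe_prodEquivOfIsCompl']

theorem OrthDecomp.ext_apply_left (h : OrthDecomp f P W) (g : isom F (fun a b : W => f a b))
    {p : V} (hp : p ∈ P) : (h.ext g : V ≃ₗ[F] V) p = p := by
  simpa using h.ext_apply g hp 0

theorem OrthDecomp.ext_apply_right (h : OrthDecomp f P W) (g : isom F (fun a b : W => f a b))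
    (w : W) : (h.ext g : V ≃ₗ[F] V) w = ((g : W ≃ₗ[F] W) w : V) := by
  simpa using h.ext_apply g P.zero_mem w

theorem OrthDecomp.ext_injective (h : OrthDecomp f P W) : Function.Injective h.ext := by
  intro a b hab
  refine Subtype.ext (LinearEquiv.ext fun w => Subtype.ext ?_)
  rw [← h.ext_apply_right, ← h.ext_apply_right, hab]

/-- The isometries fixing `P` pointwise are the extensions of isometries of `W`. -/
theorem OrthDecomp.exists_ext (h : OrthDecomp f P W) (g : isom F f)
    (hg : ∀ p ∈ P, (g : V ≃ₗ[F] V) p = p) : ∃ g₀, h.ext g₀ = g := by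
  have hW : ∀ w ∈ W, (g : V ≃ₗ[F] V) w ∈ W := fun w hw =>
    h.orth_mem _ fun p hp => by rw [← hg p hp, g.2, h.orth_right p hp w hw]
  have hg' : ∀ p ∈ P, (g⁻¹ : isom F f).1 p = p := fun p hp => by
    show (g : V ≃ₗ[F] V).symm p = p
    exact (LinearEquiv.symm_apply_eq _).2 (hg p hp).symm
  have hW' : ∀ w ∈ W, (g⁻¹ : isom F f).1 w ∈ W := fun w hw =>
    h.orth_mem _ fun p hp => by rw [← hg' p hp, (g⁻¹).2, h.orth_right p hp w hw]
  refine ⟨⟨LinearEquiv.ofLinearMap ((g : V ≃ₗ[F] V).toLinearMap.restrict hW)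
      ((g⁻¹ : isom F f).1.toLinearMap.restrict hW') ?_ ?_, fun a b => g.2 a b⟩, ?_⟩
  · exact LinearMap.ext fun w => Subtype.ext ((g : V ≃ₗ[F] V).apply_symm_apply w)
  · exact LinearMap.ext fun w => Subtype.ext ((g : V ≃ₗ[F] V).symm_apply_apply w)
  · refine Subtype.ext (LinearEquiv.ext fun x => ?_)
    obtain ⟨p, hp, w, hw, rfl⟩ := h.exists_add x
    rw [h.ext_apply _ hp ⟨w, hw⟩, map_add, hg p hp]
    rfl

theorem OrthDecomp.card_fixing (h : OrthDecomp f P W) :
    Nat.card {g : isom F f // ∀ p ∈ P, (g : V ≃ₗ[F] V) p = p} =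
      Nat.card (isom F (fun a b : W => f a b)) := by
  refine (Nat.card_congr (Equiv.ofBijective
    (fun g₀ => (⟨h.ext g₀, fun p hp => h.ext_apply_left g₀ hp⟩ :
      {g : isom F f // ∀ p ∈ P, (g : V ≃ₗ[F] V) p = p})) ⟨?_, ?_⟩)).symm
  · intro a b hab
    exact h.ext_injective (congrArg Subtype.val hab)
  · rintro ⟨g, hg⟩
    obtain ⟨g₀, rfl⟩ := h.exists_ext g hg
    exact ⟨g₀, rfl⟩

end Cfsg.Agent.Classical
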