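import Mathlib

/-!
Invariant complementary subspaces of nilpotent endomorphisms, semisimple complements, and counts of complements.
-/

set_option autoImplicit false
set_option linter.style.haveILetI false

open Module Polynomial

namespace Cfsg.Agent.Classical.JordanSplit

theorem lift_sub {α : Type*} [DecidableEq α] (k : α → ℕ) : ∀ (s : Finset α) (ν : Multiset ℕ), ν ≤ s.val.map k →
    ∃ t ⊆ s, ∑ i ∈ t, k i = ν.sum := by
  intro s
  induction s using Finset.induction_on with
  | empty =>
    intro ν hν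
    refine ⟨∅, Finset.Subset.refl _, ?_⟩
    rw [Finset.empty_val, Multiset.map_zero, Multiset.le_zero] at hν
    simp [hν]
  | @insert a s ha ih =>
    intro ν hν
    rw [Finset.insert_val_of_notMem ha, Multiset.map_cons] at hν
    by_cases h : k a ∈ ν
    · obtain ⟨ν', rfl⟩ := Multiset.exists_cons_of_mem h
      obtain ⟨t, hts, ht⟩ := ih ν' ((Multiset.cons_le_cons_iff _).1 hν)
      refine ⟨insert a t, Finset.insert_subset_insert _ hts, ?_⟩
      rw [Finset.sum_insert (fun e => ha (hts e)), ht, Multiset.sum_cons]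
    · obtain ⟨t, hts, ht⟩ := ih ν ((Multiset.le_cons_of_notMem h).1 hν)
      exact ⟨t, hts.trans (Finset.subset_insert _ _), ht⟩

/-- A nilpotent endomorphism splits along every common part of the partitions. -/
theorem exists_split {F V : Type*} [Field F] [AddCommGroup V] [Module F V] [FiniteDimensional F V]
    (N : V →ₗ[F] V) {p m : ℕ} (hN : N ^ p = 0)
    (h : ∀ μ : Multiset ℕ, (∀ b ∈ μ, 0 < b ∧ b ≤ p) → μ.sum = finrank F V → ∃ ν : Multiset ℕ, ν ≤ μ ∧ ν.sum = m) :
    ∃ U W : Submodule F V, IsCompl U W ∧ finrank F U = m ∧ (∀ v ∈ U, N v ∈ U) ∧ ∀ v ∈ W, N v ∈ W := by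
  classical
  let M := Module.AEval' N
  have hsm : ∀ (j : ℕ) (v : V), (X ^ j : F[X]) • (Module.AEval'.of N v) = Module.AEval'.of N ((N ^ j) v) := fun j v => by
    rw [Module.AEval.X_pow_smul_of]; rfl
  have hkill : ∀ z : M, (X ^ p : F[X]) • z = 0 := fun z => by
    obtain ⟨v, rfl⟩ := (Module.AEval'.of N).surjective z
    rw [hsm, hN, LinearMap.zero_apply, map_zero]
  have htors : Module.IsTorsion' M (Submonoid.powers (X : F[X])) := fun {z} => ⟨⟨X ^ p, p, rfl⟩, hkill z⟩
  obtain ⟨d, k, ⟨e⟩⟩ := Module.torsion_by_prime_power_decomposition (Polynomial.irreducible_X (R := F)) htors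
  let Q : Fin d → Type _ := fun i => F[X] ⧸ Submodule.span F[X] ({X ^ k i} : Set F[X])
  have hQd : ∀ i, finrank F (Q i) = k i := fun i => by
    have h1 := (AdjoinRoot.powerBasis (pow_ne_zero (k i) (X_ne_zero (R := F)))).finrank
    rw [AdjoinRoot.powerBasis_dim, natDegree_X_pow] at h1
    exact h1
  haveI hQf : ∀ i, Module.Finite F (Q i) := fun i =>
    (monic_X_pow (k i)).finite_adjoinRoot
  let e' : M ≃ₗ[F[X]] ((i : Fin d) → Q i) := e.trans (DirectSum.linearEquivFunOnFintype F[X] (Fin d) fun i => Q i)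
  let φ : V ≃ₗ[F] ((i : Fin d) → Q i) := (Module.AEval'.of N).trans (e'.restrictScalars F)
  have hφ : ∀ v, φ (N v) = (X : F[X]) • φ v := fun v => by
    show e' (Module.AEval'.of N (N v)) = (X : F[X]) • e' (Module.AEval'.of N v)
    rw [← map_smul, Module.AEval.X_smul_of]; rfl
  have hsum : ∑ i, k i = finrank F V := by
    rw [φ.finrank_eq, Module.finrank_pi_fintype]
    exact Finset.sum_congr rfl fun i _ => (hQd i).symm
  have hkp : ∀ i, k i ≤ p := fun i => by
    let g : (j : Fin d) → Q j := Pi.single i (Submodule.Quotient.mk 1)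
    have h1 : (X ^ p : F[X]) • g = 0 := by
      rw [← e'.apply_symm_apply g, ← map_smul, hkill, map_zero]
    have h2 : (X ^ p : F[X]) • (Submodule.Quotient.mk 1 : Q i) = 0 := by
      have := congrFun h1 i
      simpa [g] using this
    rw [← Submodule.Quotient.mk_smul, Submodule.Quotient.mk_eq_zero, smul_eq_mul, mul_one,
      Submodule.mem_span_singleton] at h2
    obtain ⟨a, ha⟩ := h2
    have h3 : (X : F[X]) ^ k i ∣ X ^ p := ⟨a, by rw [← ha, smul_eq_mul, mul_comm]⟩
    exact (pow_dvd_pow_iff X_ne_zero not_isUnit_X).1 h3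
  let s : Finset (Fin d) := Finset.univ.filter fun i => 0 < k i
  obtain ⟨ν, hν, hνm⟩ := h (s.val.map k) (fun b hb => by
      obtain ⟨i, hi, rfl⟩ := Multiset.mem_map.1 hb
      exact ⟨(Finset.mem_filter.1 (show i ∈ Finset.univ.filter (fun i => 0 < k i) from hi)).2, hkp i⟩) (by
      rw [← hsum]
      show ∑ i ∈ s, k i = _
      exact Finset.sum_filter_of_ne fun i _ hi => Nat.pos_of_ne_zero hi)
  obtain ⟨t, -, ht⟩ := lift_sub k s ν hν
  let π : ((i : Fin d) → Q i) →ₗ[F] ((i : { i // i ∈ t }) → Q i.1) := LinearMap.pi fun i => LinearMap.proj i.1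
  let π' : ((i : Fin d) → Q i) →ₗ[F] ((i : { i // i ∉ t }) → Q i.1) := LinearMap.pi fun i => LinearMap.proj i.1
  refine ⟨(LinearMap.ker π').comap φ.toLinearMap, (LinearMap.ker π).comap φ.toLinearMap, ?_, ?_, ?_, ?_⟩
  · refine IsCompl.of_eq ?_ ?_
    · refine (Submodule.eq_bot_iff _).2 fun v hv => φ.injective ?_
      rw [map_zero]
      funext i
      by_cases hi : i ∈ t
      · exact congrFun (LinearMap.mem_ker.1 hv.2) ⟨i, hi⟩
      · exact congrFun (LinearMap.mem_ker.1 hv.1) ⟨i, hi⟩
    · refine Submodule.eq_top_iff'.2 fun v => Submodule.mem_sup.2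
        ⟨φ.symm fun i => if i ∈ t then φ v i else 0, ?_, φ.symm fun i => if i ∈ t then 0 else φ v i, ?_, ?_⟩
      · simp only [Submodule.mem_comap, LinearEquiv.coe_coe, LinearEquiv.apply_symm_apply, LinearMap.mem_ker]
        funext i; exact if_neg i.2
      · simp only [Submodule.mem_comap, LinearEquiv.coe_coe, LinearEquiv.apply_symm_apply, LinearMap.mem_ker]
        funext i; exact if_pos i.2
      · rw [← map_add, LinearEquiv.symm_apply_eq]
        funext i; simp only [Pi.add_apply]; split_ifs <;> simp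
  · have hsurj : Function.Surjective π' := fun w => ⟨fun i => if hi : i ∈ t then 0 else w ⟨i, hi⟩, funext fun i => dif_neg i.2⟩
    have h1 := LinearMap.finrank_range_add_finrank_ker π'
    rw [LinearMap.range_eq_top.2 hsurj, finrank_top, Module.finrank_pi_fintype, Module.finrank_pi_fintype] at h1
    simp only [hQd] at h1
    have h2 : ∑ x : { i // i ∉ t }, k x.1 = ∑ i ∈ tᶜ, k i :=
      (Finset.sum_subtype tᶜ (fun _ => Finset.mem_compl) k).symm
    have h3 := Finset.sum_compl_add_sum t k
    have h4 : (LinearMap.ker π').comap φ.toLinearMap = (LinearMap.ker π').map φ.symm.toLinearMap :=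
      Submodule.comap_equiv_eq_map_symm _ _
    rw [h4, LinearEquiv.finrank_map_eq, ← hνm, ← ht]
    omega
  · intro v hv
    simp only [Submodule.mem_comap, LinearEquiv.coe_coe, LinearMap.mem_ker] at hv ⊢
    funext i
    show φ (N v) i.1 = 0
    rw [hφ, Pi.smul_apply, show φ v i.1 = 0 from congrFun hv i, smul_zero]
  · intro v hv
    simp only [Submodule.mem_comap, LinearEquiv.coe_coe, LinearMap.mem_ker] at hv ⊢
    funext i
    show φ (N v) i.1 = 0
    rw [hφ, Pi.smul_apply, show φ v i.1 = 0 from congrFun hv i, smul_zero]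

/-- Invariant complements when the order is prime to the characteristic. -/
theorem exists_compl {F V : Type*} [Field F] [AddCommGroup V] [Module F V] [FiniteDimensional F V]
    (T : V →ₗ[F] V) {r : ℕ} (hr : (r : F) ≠ 0) {c : F} (hc : c ≠ 0) (hT : T ^ r = c • 1)
    (W : Submodule F V) (hW : ∀ v ∈ W, T v ∈ W) : ∃ E : Submodule F V, IsCompl W E ∧ ∀ v ∈ E, T v ∈ E := by
  obtain ⟨W', hW'⟩ := W.exists_isCompl
  let π : Module.End F V := W.subtype ∘ₗ Submodule.projectionOnto W W' hW'
  have hπ : ∀ v, π v ∈ W := fun v => (Submodule.projectionOnto W W' hW' v).2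
  have hπ1 : ∀ v ∈ W, π v = v := fun v hv => congrArg Subtype.val (Submodule.projectionOnto_apply_left hW' ⟨v, hv⟩)
  have hpow : ∀ (j : ℕ) v, v ∈ W → (T ^ j) v ∈ W := by
    intro j
    induction j with
    | zero => intro v hv; simpa using hv
    | succ j ih => intro v hv; rw [pow_succ', Module.End.mul_apply]; exact hW _ (ih v hv)
  let S : Module.End F V := ((r : F) * c)⁻¹ • ∑ j ∈ Finset.range r, T ^ j * π * T ^ (r - j)
  have hS : ∀ v, S v ∈ W := fun v => by
    simp only [S, LinearMap.smul_apply, LinearMap.sum_apply, Module.End.mul_apply]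
    exact W.smul_mem _ (W.sum_mem fun j _ => hpow j _ (hπ _))
  have hS1 : ∀ v ∈ W, S v = v := fun v hv => by
    simp only [S, LinearMap.smul_apply, LinearMap.sum_apply, Module.End.mul_apply]
    rw [Finset.sum_congr rfl (fun j hj => by
      rw [hπ1 _ (hpow _ v hv), ← Module.End.mul_apply, ← pow_add,
        Nat.add_sub_cancel' (Finset.mem_range.1 hj).le, hT, LinearMap.smul_apply, Module.End.one_apply]),
      Finset.sum_const, Finset.card_range, ← Nat.cast_smul_eq_nsmul F, smul_smul, smul_smul, mul_assoc,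
      inv_mul_cancel₀ (mul_ne_zero hr hc), one_smul]
  have hcom : T * S = S * T := by
    simp only [S, mul_smul_comm, smul_mul_assoc, Finset.mul_sum, Finset.sum_mul]
    congr 1
    let g : ℕ → Module.End F V := fun j => T ^ j * π * T ^ (r + 1 - j)
    have e1 : ∑ j ∈ Finset.range r, T * (T ^ j * π * T ^ (r - j)) = ∑ j ∈ Finset.range r, g (j + 1) :=
      Finset.sum_congr rfl fun j _ => by
        simp only [g]; rw [show r + 1 - (j + 1) = r - j by omega, pow_succ', mul_assoc, mul_assoc, mul_assoc]
    have e2 : ∑ j ∈ Finset.range r, T ^ j * π * T ^ (r - j) * T = ∑ j ∈ Finset.range r, g j :=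
      Finset.sum_congr rfl fun j hj => by
        simp only [g]; rw [mul_assoc _ _ T, ← pow_succ, show r - j + 1 = r + 1 - j by
          have := Finset.mem_range.1 hj; omega]
    have e3 : g r = g 0 := by
      simp only [g, Nat.add_sub_cancel_left, Nat.sub_zero, pow_zero, pow_one, one_mul]
      rw [hT, pow_succ, hT, smul_one_mul, smul_one_mul, smul_mul_assoc, mul_smul_comm]
    rw [e1, e2]
    have h1 := Finset.sum_range_succ' g r
    rw [Finset.sum_range_succ, e3] at h1
    exact (add_right_cancel h1).symm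
  refine ⟨LinearMap.ker (S.codRestrict W hS),
    LinearMap.isCompl_of_proj (f := S.codRestrict W hS) fun x => Subtype.ext (hS1 x x.2), fun v hv => ?_⟩
  simp only [LinearMap.ker_codRestrict, LinearMap.mem_ker] at hv ⊢
  rw [← Module.End.mul_apply, ← hcom, Module.End.mul_apply, hv, map_zero]

/-- The number of complements of a subspace divides a power of the field order. -/
theorem card_compl_dvd {F V : Type*} [Field F] [Fintype F] [AddCommGroup V] [Module F V] [FiniteDimensional F V]
    (U : Submodule F V) : Nat.card {W : Submodule F V // IsCompl U W} ∣ Fintype.card F ^ (finrank F V * finrank F U) := by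
  classical
  obtain ⟨W', hW'⟩ := U.exists_isCompl
  rw [Nat.card_congr U.isComplEquivProj]
  let res : (V →ₗ[F] U) →ₗ[F] (U →ₗ[F] U) := LinearMap.lcomp F U U.subtype
  let f₀ := Submodule.projectionOnto U W' hW'
  let E : {f : V →ₗ[F] U // ∀ x : U, f x = x} ≃ LinearMap.ker res :=
    { toFun := fun f => ⟨f.1 - f₀, by
        refine LinearMap.mem_ker.2 (LinearMap.ext fun x => ?_)
        simp [res, f₀, f.2 x]⟩
      invFun := fun g => ⟨g.1 + f₀, fun x => by
        have h0 : g.1 x.1 = 0 := LinearMap.congr_fun (LinearMap.mem_ker.1 g.2) x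
        rw [LinearMap.add_apply, h0, zero_add]
        exact Submodule.projectionOnto_apply_left hW' x⟩
      left_inv := fun f => Subtype.ext (by simp)
      right_inv := fun g => Subtype.ext (by simp) }
  haveI : Finite V := Module.finite_of_finite F
  rw [Nat.card_congr E, Module.natCard_eq_pow_finrank (K := F), Nat.card_eq_fintype_card]
  refine pow_dvd_pow _ ((Submodule.finrank_le _).trans ?_)
  rw [Module.finrank_linearMap]

end Cfsg.Agent.Classical.JordanSplit
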