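import Mathlib

/-!
Nilpotent endomorphisms of a given type, and the types of invariant direct summands.
-/

set_option autoImplicit false
set_option linter.unusedSectionVars false

open Module

namespace Cfsg.Agent.Classical.JordanType

variable {F V : Type*} [Field F] [AddCommGroup V] [Module F V] [FiniteDimensional F V]

/-- The rank of a power on a subspace. -/
noncomputable def rk (N : V →ₗ[F] V) (S : Submodule F V) (k : ℕ) : ℕ := finrank F (S.map (N ^ k))

/-- The number of blocks of size above `k`. -/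
noncomputable def drop (N : V →ₗ[F] V) (S : Submodule F V) (k : ℕ) : ℕ :=
  finrank F ↥(S.map (N ^ k) ⊓ LinearMap.ker N)

theorem rk_zero (N : V →ₗ[F] V) (S : Submodule F V) : rk N S 0 = finrank F S := by
  rw [rk, pow_zero, Module.End.one_eq_id, Submodule.map_id]

theorem rk_eq_zero {N : V →ₗ[F] V} {p : ℕ} (hN : N ^ p = 0) (S : Submodule F V) : rk N S p = 0 := by
  rw [rk, hN, Submodule.map_zero, finrank_bot]

theorem rk_succ (N : V →ₗ[F] V) (S : Submodule F V) (k : ℕ) : rk N S k = rk N S (k + 1) + drop N S k := by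
  rw [rk, rk, drop, pow_succ', Module.End.mul_eq_comp, Submodule.map_comp]
  have h := LinearMap.finrank_range_add_finrank_ker (N.domRestrict (S.map (N ^ k)))
  rw [LinearMap.range_domRestrict, LinearMap.ker_domRestrict] at h
  rw [← h]
  congr 1
  exact (Submodule.comapSubtypeEquivOfLe (inf_le_left : S.map (N ^ k) ⊓ LinearMap.ker N ≤ _)).finrank_eq.symm.trans
    (congrArg (fun T : Submodule F ↥(S.map (N ^ k)) => finrank F T) (by ext; simp)) |>.symm

theorem drop_anti (N : V →ₗ[F] V) (S : Submodule F V) (hS : ∀ v ∈ S, N v ∈ S) (k : ℕ) :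
    drop N S (k + 1) ≤ drop N S k := by
  refine Submodule.finrank_mono (inf_le_inf_right _ ?_)
  rw [pow_succ, Module.End.mul_eq_comp, Submodule.map_comp]
  exact Submodule.map_mono (Submodule.map_le_iff_le_comap.2 hS)

theorem drop_eq_zero {N : V →ₗ[F] V} {p : ℕ} (hN : N ^ p = 0) (S : Submodule F V) : drop N S p = 0 := by
  rw [drop, hN, Submodule.map_zero, bot_inf_eq, finrank_bot]

theorem rk_sup (N : V →ₗ[F] V) (S E : Submodule F V) (hS : ∀ v ∈ S, N v ∈ S) (hE : ∀ v ∈ E, N v ∈ E)
    (hd : Disjoint S E) (k : ℕ) : rk N (S ⊔ E) k = rk N S k + rk N E k := by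
  have hle : ∀ X : Submodule F V, (∀ v ∈ X, N v ∈ X) → X.map (N ^ k) ≤ X := by
    intro X hX
    induction k with
    | zero => rw [pow_zero, Module.End.one_eq_id, Submodule.map_id]
    | succ k ih =>
      rw [pow_succ', Module.End.mul_eq_comp, Submodule.map_comp]
      exact (Submodule.map_mono ih).trans (Submodule.map_le_iff_le_comap.2 hX)
  have h := Submodule.finrank_sup_add_finrank_inf_eq (S.map (N ^ k)) (E.map (N ^ k))
  rw [rk, rk, rk, Submodule.map_sup, ← h,
    disjoint_iff.1 (hd.mono (hle S hS) (hle E hE)), finrank_bot, add_zero]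

/-- The partition of a summand is part of the partition of the whole. -/
theorem sub_partition {N : V →ₗ[F] V} {p : ℕ} (hN : N ^ p = 0) (μ : Multiset ℕ)
    (hμ : ∀ k < p, μ.count (k + 1) + drop N ⊤ (k + 1) = drop N ⊤ k)
    (S E : Submodule F V) (hS : ∀ v ∈ S, N v ∈ S) (hE : ∀ v ∈ E, N v ∈ E) (hc : IsCompl S E) :
    ∃ ν ≤ μ, ν.sum = finrank F S := by
  have hadd : ∀ k, drop N ⊤ k = drop N S k + drop N E k := fun k => by
    have h1 := rk_sup N S E hS hE hc.disjoint k
    have h2 := rk_sup N S E hS hE hc.disjoint (k + 1)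
    rw [hc.sup_eq_top] at h1 h2
    have := rk_succ N ⊤ k; have := rk_succ N S k; have := rk_succ N E k
    omega
  let ν : Multiset ℕ := ∑ k ∈ Finset.range p, Multiset.replicate (drop N S k - drop N S (k + 1)) (k + 1)
  refine ⟨ν, Multiset.le_iff_count.2 fun b => ?_, ?_⟩
  · rw [Multiset.count_sum']
    simp only [Multiset.count_replicate]
    rcases Nat.lt_or_ge (b - 1) p with hb | hb
    · rcases Nat.eq_zero_or_pos b with rfl | hb0
      · simp
      rw [Finset.sum_eq_single (b - 1) (fun k _ hk => if_neg (by omega)) (by simp [hb]), if_pos (by omega)]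
      have := hμ (b - 1) hb
      have := hadd (b - 1); have := hadd (b - 1 + 1)
      have := drop_anti N E hE (b - 1)
      have := drop_anti N S hS (b - 1)
      rw [show b - 1 + 1 = b by omega] at *
      omega
    · rw [Finset.sum_eq_zero fun k hk => if_neg (by simp only [Finset.mem_range] at hk; omega)]
      exact Nat.zero_le _
  · have key : ∀ m, (∑ k ∈ Finset.range m, (drop N S k - drop N S (k + 1)) * (k + 1)) + m * drop N S m +
        rk N S m = rk N S 0 := by
      intro m
      induction m with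
      | zero => simp
      | succ m ih =>
        obtain ⟨c, hc'⟩ := Nat.exists_eq_add_of_le (drop_anti N S hS m)
        rw [Finset.sum_range_succ]
        have := rk_succ N S m
        rw [hc', Nat.add_sub_cancel_left]
        rw [this, hc'] at ih
        nlinarith [ih]
    have := key p
    rw [drop_eq_zero hN, rk_eq_zero hN, rk_zero, mul_zero, add_zero, add_zero] at this
    rw [← this]
    simp [ν, Multiset.sum_sum, Multiset.sum_replicate]

/-- A nilpotent endomorphism with given block sizes. -/
theorem exists_nilpotent {n p : ℕ} (μ : Multiset ℕ) (hμ : ∀ b ∈ μ, b ≤ p) (hsum : μ.sum = n) :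
    ∃ N : (Fin n → F) →ₗ[F] (Fin n → F), N ^ p = 0 ∧
      ∀ k, finrank F (LinearMap.range (N ^ k)) = (μ.map fun b => b - k).sum := by
  obtain ⟨l, rfl⟩ : ∃ l : List ℕ, μ = (l : Multiset ℕ) := ⟨μ.toList, μ.coe_toList.symm⟩
  rw [Multiset.sum_coe] at hsum
  have hsig : ∀ f : ℕ → ℕ, Fintype.card (Σ i : Fin l.length, Fin (f l[i])) = (l.map f).sum := fun f => by
    rw [Fintype.card_sigma]
    simp only [Fintype.card_fin]
    rw [← Fin.sum_univ_getElem (l.map f)]
    exact Fintype.sum_equiv (finCongr (by simp)) _ _ fun i => by simp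
  let e : (Σ i : Fin l.length, Fin (l[i])) ≃ Fin n :=
    Fintype.equivFinOfCardEq ((hsig id).trans (by rw [List.map_id, hsum]))
  let sh : ℕ → ((Fin n → F) →ₗ[F] (Fin n → F)) := fun k => LinearMap.pi fun m =>
    if h : ((e.symm m).2 : ℕ) + k < l[(e.symm m).1] then LinearMap.proj (e ⟨(e.symm m).1, ⟨_, h⟩⟩) else 0
  have hsh : ∀ k v i (j : Fin (l[i])), sh k v (e ⟨i, j⟩) = if h : (j : ℕ) + k < l[i] then v (e ⟨i, ⟨_, h⟩⟩) else 0 := by
    intro k v i j
    have hgen : ∀ s : (Σ i : Fin l.length, Fin (l[i])), e.symm (e ⟨i, j⟩) = s →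
        sh k v (e ⟨i, j⟩) = if h : (s.2 : ℕ) + k < l[s.1] then v (e ⟨s.1, ⟨_, h⟩⟩) else 0 := by
      rintro s rfl
      simp only [sh, LinearMap.pi_apply]
      split_ifs <;> rfl
    exact hgen ⟨i, j⟩ (e.symm_apply_apply _)
  have hpow : ∀ k, sh 1 ^ k = sh k := by
    intro k
    induction k with
    | zero =>
      refine LinearMap.ext fun v => funext fun m => ?_
      obtain ⟨⟨i, j⟩, rfl⟩ := e.surjective m
      rw [hsh, dif_pos (by simp), pow_zero, Module.End.one_apply]
      rfl
    | succ k ih =>
      refine LinearMap.ext fun v => funext fun m => ?_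
      obtain ⟨⟨i, j⟩, rfl⟩ := e.surjective m
      rw [pow_succ', Module.End.mul_apply, ih, hsh, hsh]
      by_cases h : (j : ℕ) + 1 < l[i]
      · rw [dif_pos h, hsh]
        simp only [add_assoc, add_comm 1 k]
      · rw [dif_neg h, dif_neg (by omega)]
  refine ⟨sh 1, ?_, fun k => ?_⟩
  · rw [hpow]
    refine LinearMap.ext fun v => funext fun m => ?_
    obtain ⟨⟨i, j⟩, rfl⟩ := e.surjective m
    rw [hsh, dif_neg]
    · rfl
    · have := hμ _ (Multiset.mem_coe.2 (List.getElem_mem i.2))
      simp only [Fin.getElem_fin] at *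
      omega
  · let P : (Fin n → F) →ₗ[F] ((Σ i : Fin l.length, Fin (l[i] - k)) → F) := LinearMap.pi fun s =>
      LinearMap.proj (e ⟨s.1, ⟨(s.2 : ℕ) + k, by have := s.2.2; omega⟩⟩)
    have hP : Function.Surjective P := by
      intro w
      refine ⟨fun m => if h : k ≤ (e.symm m).2 then
        w ⟨(e.symm m).1, ⟨(e.symm m).2 - k, by have := (e.symm m).2.2; omega⟩⟩ else 0, funext fun s => ?_⟩
      obtain ⟨i, j⟩ := s
      have hgen : ∀ s' : (Σ i : Fin l.length, Fin (l[i])), s' = ⟨i, ⟨(j : ℕ) + k, by have := j.2; omega⟩⟩ →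
          (if h : k ≤ (s'.2 : ℕ) then w ⟨s'.1, ⟨s'.2 - k, by have := s'.2.2; omega⟩⟩ else 0) = w ⟨i, j⟩ := by
        rintro _ rfl
        rw [dif_pos (Nat.le_add_left _ _)]
        simp
      exact hgen _ (e.symm_apply_apply _)
    have hker : LinearMap.ker (sh 1 ^ k) = LinearMap.ker P := by
      rw [hpow]
      ext v
      simp only [LinearMap.mem_ker]
      constructor
      · intro h
        funext s
        obtain ⟨i, j⟩ := s
        have := congrFun h (e ⟨i, ⟨j, by have := j.2; omega⟩⟩)
        rw [hsh, dif_pos (show (j : ℕ) + k < l[i] by have := j.2; omega)] at this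
        exact this
      · intro h
        funext m
        obtain ⟨⟨i, j⟩, rfl⟩ := e.surjective m
        rw [hsh]
        split_ifs with hj
        · exact congrFun h ⟨i, ⟨j, by omega⟩⟩
        · rfl
    have h1 := LinearMap.finrank_range_add_finrank_ker (sh 1 ^ k)
    have h2 := LinearMap.finrank_range_add_finrank_ker P
    rw [hker] at h1
    rw [LinearMap.range_eq_top.2 hP, finrank_top, Module.finrank_fintype_fun_eq_card,
      hsig fun b => b - k] at h2
    rw [Multiset.map_coe, Multiset.sum_coe]
    omega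

/-- Counting parts. -/
theorem sum_sub_succ (μ : Multiset ℕ) (k : ℕ) :
    (μ.map fun b => b - k).sum = (μ.map fun b => b - (k + 1)).sum + μ.countP (k < ·) := by
  induction μ using Multiset.induction_on with
  | empty => simp
  | cons b μ ih =>
    simp only [Multiset.map_cons, Multiset.sum_cons, Multiset.countP_cons, ih]
    split_ifs <;> omega

theorem countP_lt_succ (μ : Multiset ℕ) (k : ℕ) : μ.count (k + 1) + μ.countP (k + 1 < ·) = μ.countP (k < ·) := by
  induction μ using Multiset.induction_on with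
  | empty => simp
  | cons b μ ih =>
    simp only [Multiset.count_cons, Multiset.countP_cons, ← ih]
    split_ifs <;> omega

end Cfsg.Agent.Classical.JordanType
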