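import Cfsg.Agent.Lib.Classical.OrthOrder
import Cfsg.Agent.Lib.Classical.Disc

/-!
The centre of the commutator subgroup of an orthogonal group.
-/

set_option autoImplicit false
set_option linter.style.haveILetI false

open Module QuadraticMap
open scoped commutatorElement

namespace Cfsg.Agent.Classical.Refl

variable {F : Type*} [Field F] [Fintype F] {ι : Type} [Fintype ι] [DecidableEq ι] (Q : QuadraticForm F (ι → F))
variable (hQ : (polarBilin Q).Nondegenerate)

include hQ

theorem exists_map_eq {v v' : ι → F} (hv : Q v ≠ 0) (hv' : Q v' = Q v) : ∃ g : O Q, act Q g v = v' := by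
  have hne : ∀ x, Q x ≠ 0 → x ∉ (⊥ : Submodule F (ι → F)) := fun x hx h =>
    hx (by rw [(Submodule.mem_bot F).1 h, QuadraticMap.map_zero])
  obtain ⟨g, hg, hgx, -⟩ := WittExt.exists_step Q hQ ⊥ (hne v hv) (hne v' (hv' ▸ hv)) hv'
    (fun h hh => by rw [(Submodule.mem_bot F).1 hh, polar_zero_left, polar_zero_left])
  exact ⟨ofLin Q g hg, by rw [act_ofLin]; exact hgx⟩

theorem refl_pair_mem_commutator {v v' : ι → F} (hv : Q v ≠ 0) (hv' : Q v' = Q v) :
    refl Q v hv * refl Q v' (hv' ▸ hv) ∈ commutator (O Q) := by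
  obtain ⟨g, hg⟩ := exists_map_eq Q hQ hv hv'
  have h := refl_conj Q g v hv
  simp only [hg] at h
  rw [← h]
  have e : refl Q v hv * (g * refl Q v hv * g⁻¹) = ⁅refl Q v hv, g⁆ := by
    rw [commutatorElement_def, refl_inv]; group
  rw [e]
  exact Subgroup.commutator_mem_commutator (Subgroup.mem_top _) (Subgroup.mem_top _)

theorem finrank_perp (v : ι → F) (hv : v ≠ 0) :
    finrank F (LinearMap.ker (polarBilin Q v)) + 1 = Fintype.card ι := by
  obtain ⟨z, hz⟩ : ∃ z, polar Q v z ≠ 0 := by
    by_contra hc
    simp only [not_exists, not_not] at hc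
    exact hv (hQ.1 v hc)
  have h := LinearMap.finrank_range_add_finrank_ker (polarBilin Q v)
  rw [LinearMap.range_eq_top.2 (fun a => ⟨(a / polar Q v z) • z, by
    rw [map_smul]; show (a / polar Q v z) • polar Q v z = a; rw [smul_eq_mul, div_mul_cancel₀ _ hz]⟩),
    finrank_top, finrank_self, finrank_pi] at h
  omega

theorem exists_singular_pair (hn : 5 ≤ Fintype.card ι) {v : ι → F} (hv : Q v ≠ 0) :
    ∃ u u', Q u = 0 ∧ Q u' = 0 ∧ polar Q v u = 0 ∧ polar Q v u' = 0 ∧
      ∀ a b c : F, a • v + b • u + c • u' = 0 → a = 0 ∧ b = 0 ∧ c = 0 := by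
  have hv0 : v ≠ 0 := fun e => hv (by rw [e, QuadraticMap.map_zero])
  have hK := finrank_perp Q hQ v hv0
  set K := LinearMap.ker (polarBilin Q v)
  obtain ⟨u, hu, hu0, hQu⟩ := WittDec.exists_singular_mem Q K (by omega)
  obtain ⟨f, hfu, -⟩ := exists_dual_one (p := (⊥ : Submodule F (ι → F))) (x := u) (by simpa using hu0)
  have hC : 3 ≤ finrank F ↥(K ⊓ LinearMap.ker f) := by
    have h1 := Submodule.finrank_sup_add_finrank_inf_eq K (LinearMap.ker f)
    have h2 := Submodule.finrank_le (K ⊔ LinearMap.ker f)
    have h3 := le_finrank_ker f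
    rw [finrank_pi] at h2
    omega
  obtain ⟨u', hu', hu0', hQu'⟩ := WittDec.exists_singular_mem Q _ hC
  have e1 : polar Q v u = 0 := hu
  have e2 : polar Q v u' = 0 := (Submodule.mem_inf.1 hu').1
  have e3 : f u' = 0 := (Submodule.mem_inf.1 hu').2
  have huu : ∀ b c : F, b • u + c • u' = 0 → b = 0 ∧ c = 0 := fun b c h => by
    have hb := congrArg f h
    rw [map_add, map_smul, map_smul, hfu, e3, map_zero] at hb
    have hb' : b = 0 := by simpa using hb
    rw [hb', zero_smul, zero_add, smul_eq_zero] at h
    exact ⟨hb', h.resolve_right hu0'⟩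
  refine ⟨u, u', hQu, hQu', e1, e2, fun a b c h => ?_⟩
  have ha : a = 0 := by
    by_contra ha
    -- `v` would be a combination of `u` and `u'`, hence singular
    apply hv
    have hv' : v = (-(b / a)) • u + (-(c / a)) • u' := by
      have h' : a⁻¹ • (a • v + b • u + c • u') = 0 := by rw [h, smul_zero]
      rw [smul_add, smul_add, smul_smul, smul_smul, smul_smul, inv_mul_cancel₀ ha, one_smul] at h'
      rw [← sub_eq_zero, ← h']
      simp only [div_eq_inv_mul, neg_smul]
      abel
    have hvv : polar Q v v = 0 := by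
      nth_rewrite 2 [hv']
      rw [polar_add_right, polar_smul_right, polar_smul_right, e1, e2]; simp
    have hQv : Q v = (-(b / a)) * (-(c / a)) * polar Q u u' := by
      rw [hv', QuadraticMap.map_add (⇑Q), QuadraticMap.map_smul, QuadraticMap.map_smul, hQu, hQu',
        polar_smul_left, polar_smul_right]
      simp only [smul_eq_mul]; ring
    have h1 : (-(b / a)) * polar Q u u = -((-(c / a)) * polar Q u' u) := by
      have h' := congrArg (fun x => polar Q x u) hv'
      simp only [e1, polar_add_left, polar_smul_left, smul_eq_mul] at h'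
      linear_combination -h'
    rw [WittExt.polar_self_eq, hQu, polar_comm (⇑Q) u' u] at h1
    rw [hQv]; linear_combination (-(b / a)) * h1
  rw [ha, zero_smul, zero_add] at h
  exact ⟨ha, huu b c h⟩

theorem exists_aniso_perp (hn : 3 ≤ Fintype.card ι) {x : ι → F} (hx : x ≠ 0) :
    ∃ v, Q v ≠ 0 ∧ polar Q x v = 0 := by
  by_contra hc
  simp only [not_exists, not_and'] at hc
  set K := LinearMap.ker (polarBilin Q x) with hKdef
  have hK : ∀ k ∈ K, Q k = 0 := fun k hk => not_not.1 (hc k hk)
  have hle : K ≤ LinearMap.BilinForm.orthogonal (polarBilin Q) K := fun a ha b hb => by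
    show polar Q b a = 0
    rw [polar, hK _ (K.add_mem hb ha), hK _ hb, hK _ ha]; ring
  have h1 := LinearMap.BilinForm.finrank_orthogonal hQ K
  have h2 := Submodule.finrank_mono hle
  have h3 := finrank_perp Q hQ x hx
  rw [finrank_pi] at h1
  rw [← hKdef] at h3
  omega

theorem center_scalar (hn : 5 ≤ Fintype.card ι) (z : O Q)
    (hz : ∀ g ∈ commutator (O Q), g * z = z * g) : (∀ x, act Q z x = x) ∨ (∀ x, act Q z x = -x) := by
  have key : ∀ v, Q v ≠ 0 → ∀ u, Q u = 0 → polar Q v u = 0 → u ≠ 0 → ∃ a b : F, act Q z v = a • v + b • (v + u) := by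
    intro v hv u hu hvu hu0
    have hw : Q (v + u) = Q v := by rw [QuadraticMap.map_add (⇑Q), hu, hvu, add_zero, add_zero]
    have hw0 : Q (v + u) ≠ 0 := hw ▸ hv
    set g := refl Q v hv * refl Q (v + u) hw0 with hg
    have hgx : ∀ x, ∃ a b : F, act Q g x - x = a • v + b • (v + u) := fun x => by
      refine ⟨-((Q v)⁻¹ * polar Q v (act Q (refl Q (v + u) hw0) x)), -((Q (v + u))⁻¹ * polar Q (v + u) x), ?_⟩
      rw [hg, act_mul, act_refl Q v hv, act_refl Q (v + u) hw0]
      simp only [neg_smul]
      abel
    obtain ⟨s, hs⟩ : ∃ s : F, s ≠ 0 ∧ ∃ x, act Q g x - x = s • v := by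
      obtain ⟨y, hy1, hy2⟩ : ∃ y, polar Q (v + u) y = 0 ∧ polar Q v y ≠ 0 := by
        by_contra hc
        simp only [not_exists, not_and, not_not] at hc
        obtain ⟨t, ht⟩ : ∃ t, polar Q u t ≠ 0 := by
          by_contra hc'
          simp only [not_exists, not_not] at hc'
          exact hu0 (hQ.1 u hc')
        have huu : polar Q u u = 0 := by rw [WittExt.polar_self_eq, hu, mul_zero]
        have h2 : polar Q v v = 0 := by
          have h' := hc (v + (-(polar Q (v + u) v / polar Q (v + u) (t + (0 : ι → F)))) • (t + 0))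
          by_cases ht' : polar Q (v + u) t = 0
          · exact absurd (hc t ht') (fun e => ht (by rw [polar_add_left, e, zero_add] at ht'; exact ht'))
          · rw [add_zero] at h'
            have h1 := h' (by
              rw [polar_add_right, polar_smul_right, smul_eq_mul]
              field_simp; ring)
            rw [polar_add_right, polar_smul_right, smul_eq_mul, polar_add_left, WittExt.polar_self_eq, polar_comm (⇑Q) u v,
              hvu, add_zero] at h1
            have hz2 : polar Q v v * polar Q u t = 0 := by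
              rw [WittExt.polar_self_eq]
              have hd := ht'
              rw [polar_add_left] at hd h1
              field_simp at h1
              linear_combination h1
            exact (mul_eq_zero.1 hz2).resolve_right ht
        -- now `v` is orthogonal to everything
        have hker : LinearMap.ker (polarBilin Q (v + u)) ≤ LinearMap.ker (polarBilin Q v) := fun k hk => hc k hk
        have hv0 : v ≠ 0 := fun e => hv (by rw [e, QuadraticMap.map_zero])
        have hvu0 : v + u ≠ 0 := fun e => hw0 (by rw [e, QuadraticMap.map_zero])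
        have he := Submodule.eq_of_le_of_finrank_le hker (by
          have := finrank_perp Q hQ v hv0; have := finrank_perp Q hQ (v + u) hvu0; omega)
        -- so `v + u` and `v` are proportional
        obtain ⟨r, hr⟩ : ∃ r : F, ∀ y, polar Q v y = r * polar Q (v + u) y := by
          by_cases ht' : polar Q (v + u) t = 0
          · exact absurd (hc t ht') (fun e => ht (by rw [polar_add_left, e, zero_add] at ht'; exact ht'))
          · refine ⟨polar Q v t / polar Q (v + u) t, fun y => ?_⟩
            have h' := hc (y + (-(polar Q (v + u) y / polar Q (v + u) t)) • t) (by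
              rw [polar_add_right, polar_smul_right, smul_eq_mul]; field_simp; ring)
            rw [polar_add_right, polar_smul_right, smul_eq_mul] at h'
            field_simp at h' ⊢
            linear_combination h'
        have e0 : v - r • (v + u) = 0 := hQ.1 _ fun y => by
          show polar Q _ y = 0
          rw [polar_sub_left, polar_smul_left, hr y, smul_eq_mul, sub_self]
        rw [sub_eq_zero] at e0
        have h' : (1 - r) • v = r • u := by
          rw [sub_smul, one_smul]; nth_rewrite 1 [e0]; rw [smul_add]; abel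
        by_cases hr1 : 1 - r = 0
        · have : r = 1 := (sub_eq_zero.1 hr1).symm
          rw [hr1, zero_smul, this, one_smul] at h'
          exact hu0 h'.symm
        · apply hv
          have : v = (r / (1 - r)) • u := by
            rw [div_eq_inv_mul, mul_smul, ← h', smul_smul, inv_mul_cancel₀ hr1, one_smul]
          rw [this, QuadraticMap.map_smul, hu, smul_zero]
      refine ⟨-((Q v)⁻¹ * polar Q v y), neg_ne_zero.2 (mul_ne_zero (inv_ne_zero hv) hy2), y, ?_⟩
      rw [hg, act_mul, act_refl Q (v + u) hw0, hy1, mul_zero, zero_smul, sub_zero, act_refl Q v hv, neg_smul]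
      abel
    obtain ⟨hs0, x, hx⟩ := hs
    obtain ⟨a, b, hab⟩ := hgx (act Q z x)
    have hc : act Q g (act Q z x) = act Q z (act Q g x) := by
      rw [← act_mul, ← act_mul, hz g (refl_pair_mem_commutator Q hQ hv hw)]
    have hsub : ∀ p q, act Q z (p - q) = act Q z p - act Q z q := fun p q => Matrix.mulVec_sub _ _ _
    have hsm : ∀ (t : F) p, act Q z (t • p) = t • act Q z p := fun t p => Matrix.mulVec_smul _ _ _
    rw [hc, ← hsub, hx, hsm] at hab
    refine ⟨s⁻¹ * a, s⁻¹ * b, ?_⟩
    rw [mul_smul, mul_smul, ← smul_add, ← hab, smul_smul, inv_mul_cancel₀ hs0, one_smul]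
  have hline : ∀ v, Q v ≠ 0 → act Q z v = v ∨ act Q z v = -v := by
    intro v hv
    obtain ⟨u, u', hu, hu', e1, e2, hind⟩ := exists_singular_pair Q hQ hn hv
    have hu0 : u ≠ 0 := fun e => one_ne_zero (hind 0 1 0 (by rw [e]; simp)).2.1
    have hu0' : u' ≠ 0 := fun e => one_ne_zero (hind 0 0 1 (by rw [e]; simp)).2.2
    obtain ⟨a, b, h1⟩ := key v hv u hu e1 hu0
    obtain ⟨a', b', h3⟩ := key v hv u' hu' e2 hu0'
    obtain ⟨ha, hb, hb'⟩ := hind (a + b - a' - b') b (-b') (by
      have h := h1.symm.trans h3
      rw [← sub_eq_zero] at h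
      rw [← h]; module)
    rw [hb, zero_smul, add_zero] at h1
    have hQz := Q_act Q z v
    rw [h1, QuadraticMap.map_smul, smul_eq_mul] at hQz
    have : a * a = 1 := mul_right_cancel₀ hv (hQz.trans (one_mul _).symm)
    rcases mul_self_eq_one_iff.1 this with h | h
    · left; rw [h1, h, one_smul]
    · right; rw [h1, h, neg_smul, one_smul]
  have hall : ∀ ε : F, (∀ v, Q v ≠ 0 → act Q z v = ε • v) → ∀ x, act Q z x = ε • x := by
    intro ε h x
    by_cases hx : Q x = 0
    · by_cases hx0 : x = 0
      · subst hx0; rw [smul_zero]; exact Matrix.mulVec_zero _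
      obtain ⟨v, hv, hxv⟩ := exists_aniso_perp Q hQ (by omega) hx0
      have h' := h (x + v) (by rw [QuadraticMap.map_add (⇑Q), hx, hxv, zero_add, add_zero]; exact hv)
      rw [act_add, h v hv, smul_add] at h'
      exact add_right_cancel h'
    · exact h x hx
  by_cases hplus : ∀ v, Q v ≠ 0 → act Q z v = v
  · exact Or.inl fun x => (hall 1 (fun v hv => by rw [one_smul]; exact hplus v hv) x).trans (one_smul _ _)
  by_cases hminus : ∀ v, Q v ≠ 0 → act Q z v = -v
  · exact Or.inr fun x => (hall (-1) (fun v hv => by rw [neg_smul, one_smul]; exact hminus v hv) x).trans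
      (by rw [neg_smul, one_smul])
  exfalso
  simp only [not_forall] at hplus hminus
  obtain ⟨w, hw, hw'⟩ := hplus
  obtain ⟨v, hv, hv'⟩ := hminus
  have hzw : act Q z w = -w := (hline w hw).resolve_left hw'
  have hzv : act Q z v = v := (hline v hv).resolve_right hv'
  have hw0 : w ≠ 0 := fun e => hw (by rw [e, QuadraticMap.map_zero])
  have hv0 : v ≠ 0 := fun e => hv (by rw [e, QuadraticMap.map_zero])
  have h2 : (2 : F) ≠ 0 := fun h2 => hw' (by
    rw [hzw, ← sub_eq_zero, show -w - w = -((2 : F) • w) by rw [two_smul]; abel, h2, zero_smul, neg_zero])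
  have hdim : 3 ≤ finrank F ↥(LinearMap.ker (polarBilin Q v) ⊓ LinearMap.ker (polarBilin Q w)) := by
    have h1 := Submodule.finrank_sup_add_finrank_inf_eq (LinearMap.ker (polarBilin Q v)) (LinearMap.ker (polarBilin Q w))
    have h3 := Submodule.finrank_le (LinearMap.ker (polarBilin Q v) ⊔ LinearMap.ker (polarBilin Q w))
    have := finrank_perp Q hQ v hv0
    have := finrank_perp Q hQ w hw0
    rw [finrank_pi] at h3
    omega
  obtain ⟨u, hu, hu0, hQu⟩ := WittDec.exists_singular_mem Q _ hdim
  have side : ∀ (t : ι → F) (ε : F), Q t ≠ 0 → polar Q t u = 0 → ε * ε = 1 → act Q z t = ε • t →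
      act Q z u = ε • u := by
    intro t ε ht htu hε hzt
    have h' := hline (t + u) (by rw [QuadraticMap.map_add (⇑Q), hQu, htu, add_zero, add_zero]; exact ht)
    rw [act_add, hzt] at h'
    have hp := polar_act Q z t u
    rw [hzt, htu] at hp
    have hmain : ∀ δ : F, ε • t + act Q z u = δ • (t + u) → act Q z u = ε • u := by
      intro δ hδ
      have e : act Q z u = (δ - ε) • t + δ • u := by
        rw [eq_sub_of_add_eq' hδ]; module
      rw [e, polar_smul_left, polar_add_right, polar_smul_right, polar_smul_right, htu, WittExt.polar_self_eq] at hp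
      have hde : δ = ε := by
        have h0 : (2 * ε * Q t) * (δ - ε) = 0 := by
          simp only [smul_eq_mul] at hp; linear_combination hp
        exact sub_eq_zero.1 ((mul_eq_zero.1 h0).resolve_left
          (mul_ne_zero (mul_ne_zero h2 (fun e => zero_ne_one (by rw [← hε, e, mul_zero]))) ht))
      rw [e, hde, sub_self, zero_smul, zero_add]
    rcases h' with h' | h'
    · exact hmain 1 (by rw [one_smul]; exact h')
    · exact hmain (-1) (by rw [neg_smul, one_smul]; exact h')
  have h1 := side v 1 hv (Submodule.mem_inf.1 hu).1 (one_mul 1) (by rw [hzv, one_smul])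
  have h3 := side w (-1) hw (Submodule.mem_inf.1 hu).2 (by ring) (by rw [hzw, neg_smul, one_smul])
  rw [h1, ← sub_eq_zero, ← sub_smul, sub_neg_eq_add, one_add_one_eq_two, smul_eq_zero] at h3
  exact h3.elim h2 hu0

theorem card_center_eq_one (hn : 5 ≤ Fintype.card ι)
    (hneg : ∀ g ∈ commutator (O Q), ((g : GL ι F) : Matrix ι ι F) = -1 → g = 1) :
    Nat.card (Subgroup.center (commutator (O Q))) = 1 := by
  have : Subgroup.center (commutator (O Q)) = ⊥ := by
    rw [eq_bot_iff]
    intro z hz
    rw [Subgroup.mem_bot]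
    have hc : ∀ g ∈ commutator (O Q), g * (z : O Q) = (z : O Q) * g := fun g hg =>
      congrArg Subtype.val (Subgroup.mem_center_iff.1 hz ⟨g, hg⟩)
    rcases center_scalar Q hQ hn z hc with h | h
    · exact Subtype.ext (act_ext Q fun y => by rw [h, Subgroup.coe_one, act_one])
    · refine Subtype.ext (hneg z z.2 (Matrix.toLin'.injective (LinearMap.ext fun y => ?_)))
      rw [Matrix.toLin'_apply, Matrix.toLin'_apply, Matrix.neg_mulVec, Matrix.one_mulVec]
      exact h y
  rw [this]; exact Subgroup.card_bot

theorem card_center_eq_two (hn : 5 ≤ Fintype.card ι) (h2 : (2 : F) ≠ 0) (g0 : O Q) (hg0 : g0 ∈ commutator (O Q))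
    (he : ((g0 : GL ι F) : Matrix ι ι F) = -1) : Nat.card (Subgroup.center (commutator (O Q))) = 2 := by
  have hact : ∀ y, act Q g0 y = -y := fun y => by
    show ((g0 : GL ι F) : Matrix ι ι F).mulVec y = -y
    rw [he, Matrix.neg_mulVec, Matrix.one_mulVec]
  have hcen : (⟨g0, hg0⟩ : commutator (O Q)) ∈ Subgroup.center (commutator (O Q)) :=
    Subgroup.mem_center_iff.2 fun g => Subtype.ext (act_ext Q fun y => by
      show act Q ((g : O Q) * g0) y = act Q (g0 * (g : O Q)) y
      rw [act_mul, act_mul, hact, hact]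
      exact Matrix.mulVec_neg _ _)
  rw [Nat.card_eq_two_iff]
  refine ⟨1, ⟨_, hcen⟩, fun e => ?_, Set.eq_univ_of_forall fun ⟨z, hz⟩ => ?_⟩
  · have e' : (1 : O Q) = g0 := congrArg (fun c : Subgroup.center (commutator (O Q)) => ((c : commutator (O Q)) : O Q)) e
    haveI : Nonempty ι := Fintype.card_pos_iff.1 (by omega)
    obtain ⟨i⟩ := ‹Nonempty ι›
    have := congrFun (hact (Pi.single i 1)) i
    rw [← e', act_one] at this
    simp at this
    exact h2 (by linear_combination this)
  · have hc : ∀ g ∈ commutator (O Q), g * (z : O Q) = (z : O Q) * g := fun g hg =>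
      congrArg Subtype.val (Subgroup.mem_center_iff.1 hz ⟨g, hg⟩)
    rcases center_scalar Q hQ hn z hc with h | h
    · exact Or.inl (Subtype.ext (Subtype.ext (act_ext Q fun y => by rw [h]; exact (act_one Q y).symm)))
    · exact Or.inr (Subtype.ext (Subtype.ext (act_ext Q fun y => by rw [h]; exact (hact y).symm)))

theorem card_POmega_mul : Nat.card (commutator (O Q) ⧸ Subgroup.center (commutator (O Q))) *
    Nat.card (Subgroup.center (commutator (O Q))) * (commutator (O Q)).index = Nat.card (O Q) := by
  rw [← Subgroup.card_eq_card_quotient_mul_card_subgroup, Subgroup.card_mul_index]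

theorem card_POmega_odd_dim (hn : 5 ≤ Fintype.card ι) (h2 : (2 : F) ≠ 0) (hodd : Odd (Fintype.card ι)) :
    Nat.card (commutator (O Q) ⧸ Subgroup.center (commutator (O Q))) * 4 = Nat.card (O Q) := by
  have h := card_POmega_mul Q hQ
  rwa [index_commutator Q hQ h2 (by omega), card_center_eq_one Q hQ hn (fun g hg he => ?_), mul_one] at h
  obtain ⟨g0, b, l, hg0, hgl, hlen, -, -⟩ := Disc.exists_neg_one Q hQ h2
  have e : g = Disc.reflList Q l := hgl ▸ Subtype.ext (Units.ext (he.trans hg0.symm))
  rw [e, Disc.reflList_mem_commutator Q hQ h2 (by omega), hlen] at hg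
  exact absurd hg.1 (Nat.not_even_iff_odd.2 hodd)

theorem card_POmega_even_dim (hn : 5 ≤ Fintype.card ι) (h2 : (2 : F) ≠ 0) (heven : Even (Fintype.card ι)) :
    (IsSquare (Disc.disc Q (Pi.basisFun F ι)) →
      Nat.card (commutator (O Q) ⧸ Subgroup.center (commutator (O Q))) * 8 = Nat.card (O Q)) ∧
    (¬ IsSquare (Disc.disc Q (Pi.basisFun F ι)) →
      Nat.card (commutator (O Q) ⧸ Subgroup.center (commutator (O Q))) * 4 = Nat.card (O Q)) := by
  have h := card_POmega_mul Q hQ
  have hiff := Disc.neg_one_mem_iff Q hQ h2 (by omega) heven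
  rw [index_commutator Q hQ h2 (by omega)] at h
  refine ⟨fun hs => ?_, fun hs => ?_⟩
  · obtain ⟨g0, hg0, he⟩ := hiff.2 hs
    rw [card_center_eq_two Q hQ hn h2 g0 hg0 he] at h
    linarith
  · rw [card_center_eq_one Q hQ hn (fun g hg he => absurd (hiff.1 ⟨g, hg, he⟩) hs), mul_one] at h
    exact h

theorem card_POmega_char_two [CharP F 2] (hn : 5 ≤ Fintype.card ι) :
    Nat.card (commutator (O Q) ⧸ Subgroup.center (commutator (O Q))) * 2 = Nat.card (O Q) := by
  have h := card_POmega_mul Q hQ
  rwa [index_commutator_char_two Q hQ (by omega) (Or.inr (by omega)),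
    card_center_eq_one Q hQ hn (fun g _ he => Subtype.ext (Units.ext (by
      rw [he]
      ext i j
      show -(1 : Matrix ι ι F) i j = (1 : Matrix ι ι F) i j
      exact CharTwo.neg_eq _))), mul_one] at h

omit [Fintype F] [Fintype ι] [DecidableEq ι] hQ in
theorem nondeg_congr {V V' : Type*} [AddCommGroup V] [Module F V] [AddCommGroup V'] [Module F V']
    (Q : QuadraticForm F V) (Q' : QuadraticForm F V') (φ : V' ≃ₗ[F] V) (h : ∀ v, Q (φ v) = Q' v)
    (hnd : (polarBilin Q').Nondegenerate) : (polarBilin Q).Nondegenerate := by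
  have h1 : ∀ x, (∀ y, polar Q x y = 0) → x = 0 := fun x hx => by
    obtain ⟨a, rfl⟩ := φ.surjective x
    rw [hnd.1 a fun b => ?_, map_zero]
    show polar Q' a b = 0
    rw [← hx (φ b)]
    simp only [polar, ← map_add, h]
  exact ⟨h1, fun y hy => h1 y fun x => by rw [polar_comm]; exact hy x⟩

end Cfsg.Agent.Classical.Refl
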