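import Cfsg.Prelude.Def_Classical

/-!
Zero counts for forms with hyperbolic summands.
-/

set_option autoImplicit false

namespace Cfsg.Agent.Classical.QuadZeros

variable {F : Type*} [Field F] [Fintype F] {D : Type*} [Finite D] (G : D → F)

/-- The zero set with `m` hyperbolic planes added. -/
abbrev T (m : ℕ) : Type _ := {p : D × (Fin m → F × F) // G p.1 + ∑ i, (p.2 i).1 * (p.2 i).2 = 0}

theorem card_succ (m : ℕ) : (Nat.card (T G (m + 1)) : ℤ) =
    Fintype.card F * Nat.card (T G m) + ((Fintype.card F : ℤ) - 1) * (Nat.card D * Fintype.card F ^ (2 * m)) := by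
  classical
  let e : T G (m + 1) ≃ (T G m × F) ⊕ (Fˣ × D × (Fin m → F × F)) :=
    { toFun := fun p => if h : (p.1.2 0).1 = 0 then
        Sum.inl (⟨(p.1.1, Fin.tail p.1.2), by
          have := p.2
          rw [Fin.sum_univ_succ, h, zero_mul, zero_add] at this
          exact this⟩, (p.1.2 0).2)
        else Sum.inr (Units.mk0 _ h, p.1.1, Fin.tail p.1.2)
      invFun := fun s => match s with
        | Sum.inl (p, y) => ⟨(p.1.1, Fin.cons (0, y) p.1.2), by
            rw [Fin.sum_univ_succ]; simpa using p.2⟩
        | Sum.inr (u, d, r) => ⟨(d, Fin.cons ((u : F), -(G d + ∑ i, (r i).1 * (r i).2) / u) r), by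
            rw [Fin.sum_univ_succ]; simp only [Fin.cons_zero, Fin.cons_succ]; field_simp; ring⟩
      left_inv := fun p => by
        have hp := p.2
        rw [Fin.sum_univ_succ] at hp
        dsimp only
        by_cases h : (p.1.2 0).1 = 0
        · rw [dif_pos h]
          refine Subtype.ext (Prod.ext rfl ?_)
          refine funext (Fin.cases ?_ fun i => ?_)
          · simp only [Fin.cons_zero]; exact Prod.ext h.symm rfl
          · simp [Fin.tail]
        · rw [dif_neg h]
          refine Subtype.ext (Prod.ext rfl ?_)
          refine funext (Fin.cases ?_ fun i => ?_)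
          · simp only [Fin.cons_zero]
            refine Prod.ext rfl ?_
            simp only [Units.val_mk0, Fin.tail]
            rw [div_eq_iff h]
            linear_combination -hp
          · simp [Fin.tail]
      right_inv := fun s => by
        rcases s with ⟨p, y⟩ | ⟨u, d, r⟩
        · simp
        · simp [u.ne_zero] }
  rw [Nat.card_congr e, Nat.card_sum, Nat.card_prod, Nat.card_prod, Nat.card_prod, Nat.card_units,
    Nat.card_fun, Nat.card_prod, Nat.card_eq_fintype_card (α := F), Nat.card_fin, ← sq, ← pow_mul,
    Nat.cast_add, Nat.cast_mul, Nat.cast_mul, Nat.cast_mul, Nat.cast_sub Fintype.card_pos]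
  push_cast
  ring

theorem card_eq (m : ℕ) : (Fintype.card F : ℤ) * Nat.card (T G m) =
    Nat.card D * Fintype.card F ^ (2 * m) +
      Fintype.card F ^ m * (Fintype.card F * Nat.card {d // G d = 0} - Nat.card D) := by
  induction m with
  | zero =>
    have e : T G 0 ≃ {d // G d = 0} :=
      { toFun := fun p => ⟨p.1.1, by simpa using p.2⟩
        invFun := fun d => ⟨(d.1, Fin.elim0), by simpa using d.2⟩
        left_inv := fun p => Subtype.ext (Prod.ext rfl (funext fun i => i.elim0))
        right_inv := fun d => rfl }
    rw [Nat.card_congr e]; ring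
  | succ m ih =>
    rw [card_succ, show 2 * (m + 1) = 2 * m + 2 by ring, pow_add, pow_succ (Fintype.card F : ℤ) m]
    linear_combination (Fintype.card F : ℤ) * ih

end Cfsg.Agent.Classical.QuadZeros
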