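import Cfsg.Agent.Lib.Classical.WittDecomp
import Cfsg.Agent.Lib.Classical.QuadZeros
import Cfsg.Agent.Lib.Classical.OrthCommutator

/-!
Orders of orthogonal groups over finite fields.
-/

set_option autoImplicit false
set_option linter.style.haveILetI false

open Module QuadraticMap

namespace Cfsg.Agent.Classical.OrthOrder

theorem card_fibres {A P : Type*} [Finite A] [Finite P] (π : A → P) (p0 : P)
    (h : ∀ p, Nonempty ({a // π a = p} ≃ {a // π a = p0})) : Nat.card A = Nat.card P * Nat.card {a // π a = p0} := by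
  rw [← Nat.card_prod]
  exact Nat.card_congr ((Equiv.sigmaFiberEquiv π).symm.trans
    ((Equiv.sigmaCongrRight fun p => (h p).some).trans (Equiv.sigmaEquivProd _ _)))

section general

variable {F : Type*} [Field F] [Fintype F] {V : Type*} [AddCommGroup V] [Module F V] [FiniteDimensional F V]

/-- Linear isometries of a quadratic form. -/
abbrev Iso (Q : QuadraticForm F V) : Type _ := {g : V ≃ₗ[F] V // ∀ v, Q (g v) = Q v}

instance (Q : QuadraticForm F V) : Finite (Iso Q) := by
  haveI : Finite V := Module.finite_of_finite F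
  exact Finite.of_injective (fun g : Iso Q => (g.1 : V → V)) fun g h e => Subtype.ext (LinearEquiv.ext (congrFun e))

theorem card_iso_congr {V' : Type*} [AddCommGroup V'] [Module F V'] (Q : QuadraticForm F V) (Q' : QuadraticForm F V')
    (φ : V' ≃ₗ[F] V) (h : ∀ v, Q (φ v) = Q' v) : Nat.card (Iso Q) = Nat.card {g : V' ≃ₗ[F] V' // ∀ v, Q' (g v) = Q' v} := by
  refine Nat.card_congr
    { toFun := fun g => ⟨φ.trans (g.1.trans φ.symm), fun v => by
        rw [← h, LinearEquiv.trans_apply, LinearEquiv.trans_apply, LinearEquiv.apply_symm_apply, g.2, h]⟩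
      invFun := fun g => ⟨φ.symm.trans (g.1.trans φ), fun v => by
        rw [LinearEquiv.trans_apply, LinearEquiv.trans_apply, h, g.2, ← h, LinearEquiv.apply_symm_apply]⟩
      left_inv := fun g => Subtype.ext (LinearEquiv.ext fun v => by simp)
      right_inv := fun g => Subtype.ext (LinearEquiv.ext fun v => by simp) }

variable (Q : QuadraticForm F V)

/-- Hyperbolic pairs. -/
abbrev Pairs : Type _ := {p : V × V // Q p.1 = 0 ∧ Q p.2 = 0 ∧ polar Q p.1 p.2 = 1}

variable (hQ : (polarBilin Q).Nondegenerate)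

include hQ

theorem card_pairs : Fintype.card F ^ 2 * Nat.card (Pairs Q) =
    (Nat.card {v : V // Q v = 0} - 1) * Fintype.card F ^ finrank F V := by
  classical
  haveI : Finite V := Module.finite_of_finite F
  letI := Fintype.ofFinite V
  have e : Pairs Q ≃ Σ u : {u : V // Q u = 0 ∧ u ≠ 0}, {w : V // Q w = 0 ∧ polar Q u.1 w = 1} :=
    { toFun := fun p => ⟨⟨p.1.1, p.2.1, fun e => by
        have := p.2.2.2
        rw [e, polar_zero_left] at this
        exact zero_ne_one this⟩, ⟨p.1.2, p.2.2.1, p.2.2.2⟩⟩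
      invFun := fun s => ⟨(s.1.1, s.2.1), s.1.2.1, s.2.2.1, s.2.2.2⟩
      left_inv := fun _ => rfl
      right_inv := fun _ => rfl }
  have hfib : ∀ u : {u : V // Q u = 0 ∧ u ≠ 0},
      Fintype.card F ^ 2 * Nat.card {w : V // Q w = 0 ∧ polar Q u.1 w = 1} = Fintype.card F ^ finrank F V := by
    intro u
    obtain ⟨z, hz⟩ : ∃ z, polar Q u.1 z ≠ 0 := by
      by_contra hc
      simp only [not_exists, not_not] at hc
      exact u.2.2 (hQ.1 u.1 hc)
    set w0 := (polar Q u.1 z)⁻¹ • z with hw0def
    have hw0 : polar Q u.1 w0 = 1 := by rw [hw0def, polar_smul_right, smul_eq_mul, inv_mul_cancel₀ hz]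
    have huu : polar Q u.1 u.1 = 0 := by rw [WittExt.polar_self_eq, u.2.1, mul_zero]
    have hq : ∀ (w : V) (t : F), polar Q u.1 w = 1 → Q (w + t • u.1) = Q w + t := fun w t hw => by
      rw [QuadraticMap.map_add (⇑Q), QuadraticMap.map_smul, u.2.1, polar_smul_right, polar_comm, hw]
      simp
    have hp : ∀ (w : V) (t : F), polar Q u.1 (w + t • u.1) = polar Q u.1 w := fun w t => by
      rw [polar_add_right, polar_smul_right, huu, smul_zero, add_zero]
    let e1 : LinearMap.ker (polarBilin Q u.1) ≃ {w : V // polar Q u.1 w = 1} :=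
      { toFun := fun k => ⟨k.1 + w0, by rw [polar_add_right, show polar Q u.1 k.1 = 0 from k.2, hw0, zero_add]⟩
        invFun := fun w => ⟨w.1 - w0, show polar Q u.1 _ = 0 by rw [polar_sub_right, w.2, hw0, sub_self]⟩
        left_inv := fun k => Subtype.ext (add_sub_cancel_right _ _)
        right_inv := fun w => Subtype.ext (sub_add_cancel _ _) }
    let e2 : {w : V // polar Q u.1 w = 1} ≃ {w : V // Q w = 0 ∧ polar Q u.1 w = 1} × F :=
      { toFun := fun w => (⟨w.1 + (-Q w.1) • u.1, by rw [hq _ _ w.2, add_neg_cancel], by rw [hp, w.2]⟩, Q w.1)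
        invFun := fun p => ⟨p.1.1 + p.2 • u.1, by rw [hp, p.1.2.2]⟩
        left_inv := fun w => Subtype.ext (by simp)
        right_inv := fun p => by
          have h0 : Q (p.1.1 + p.2 • u.1) = p.2 := by rw [hq _ _ p.1.2.2, p.1.2.1, zero_add]
          refine Prod.ext (Subtype.ext ?_) h0
          show p.1.1 + p.2 • u.1 + (-Q (p.1.1 + p.2 • u.1)) • u.1 = p.1.1
          rw [h0]; simp }
    have h1 := Nat.card_congr (e1.trans e2)
    rw [Nat.card_prod, Module.natCard_eq_pow_finrank (K := F), Nat.card_eq_fintype_card (α := F)] at h1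
    have hd := LinearMap.finrank_range_add_finrank_ker (polarBilin Q u.1)
    rw [LinearMap.range_eq_top.2 (fun a => ⟨a • w0, by rw [map_smul]; show a • polar Q u.1 w0 = a; rw [hw0, smul_eq_mul, mul_one]⟩),
      finrank_top, finrank_self] at hd
    rw [← hd, pow_add, pow_one, h1]; ring
  rw [Nat.card_congr e, Nat.card_sigma, Finset.mul_sum, Finset.sum_congr rfl fun u _ => hfib u, Finset.sum_const,
    smul_eq_mul, Finset.card_univ]
  congr 1
  rw [← Nat.card_eq_fintype_card]
  have e3 : {u : V // Q u = 0} ≃ Option {u : V // Q u = 0 ∧ u ≠ 0} :=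
    { toFun := fun u => if h : u.1 = 0 then none else some ⟨u.1, u.2, h⟩
      invFun := fun o => o.elim ⟨0, QuadraticMap.map_zero Q⟩ fun u => ⟨u.1, u.2.1⟩
      left_inv := fun u => by
        by_cases h : u.1 = 0
        · simp [h]; exact Subtype.ext h.symm
        · simp [h]
      right_inv := fun o => by rcases o with - | u <;> simp [*]; exact u.2.2 }
  rw [Nat.card_congr e3, Finite.card_option, Nat.add_sub_cancel]

theorem card_iso_split {V' : Type*} [AddCommGroup V'] [Module F V'] [FiniteDimensional F V'] (Q' : QuadraticForm F V')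
    (ψ : ((F × F) × V') ≃ₗ[F] V) (hψ : ∀ p, Q (ψ p) = p.1.1 * p.1.2 + Q' p.2) :
    Nat.card (Iso Q) = Nat.card (Pairs Q) * Nat.card (Iso Q') := by
  classical
  haveI : Finite V := Module.finite_of_finite F
  set u := ψ ((1, 0), 0) with hudef
  set w := ψ ((0, 1), 0) with hwdef
  have hpol : ∀ p p', polar Q (ψ p) (ψ p') = p.1.1 * p'.1.2 + p'.1.1 * p.1.2 + polar Q' p.2 p'.2 := fun p p' => by
    simp only [polar, ← map_add, hψ, Prod.fst_add, Prod.snd_add]
    ring
  let p0 : Pairs Q := ⟨(u, w), by simp [hudef, hψ], by simp [hwdef, hψ], by simp [hudef, hwdef, hpol]⟩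
  let π : Iso Q → Pairs Q := fun g => ⟨(g.1 u, g.1 w), (g.2 u).trans p0.2.1, (g.2 w).trans p0.2.2.1, by
    rw [WittExt.polar_map Q (fun x y => map_add g.1 x y) g.2]; exact p0.2.2.2⟩
  have htrans : ∀ p : Pairs Q, ∃ g : Iso Q, π g = p := fun p => by
    let j : V × V → ((F × F) →ₗ[F] V) := fun p =>
      (LinearMap.fst F F F).smulRight p.1 + (LinearMap.snd F F F).smulRight p.2
    have hj : ∀ (p : Pairs Q) (a b : F), Q (j p.1 (a, b)) = a * b := fun p a b => by
      show Q (a • p.1.1 + b • p.1.2) = _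
      rw [QuadraticMap.map_add (⇑Q), QuadraticMap.map_smul, QuadraticMap.map_smul, polar_smul_left, polar_smul_right,
        p.2.1, p.2.2.1, p.2.2.2]
      simp
    have hinj : ∀ p : Pairs Q, Function.Injective (j p.1) := fun p => by
      rw [← LinearMap.ker_eq_bot, LinearMap.ker_eq_bot']
      rintro ⟨a, b⟩ h
      change a • p.1.1 + b • p.1.2 = 0 at h
      have h1 := congrArg (fun x => polar Q p.1.1 x) h
      have h2 := congrArg (fun x => polar Q p.1.2 x) h
      have := p.2.2.2
      simp [polar_add_right, polar_smul_right, WittExt.polar_self_eq, p.2.1, p.2.2.1, polar_comm (⇑Q) p.1.2 p.1.1, this] at h1 h2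
      exact Prod.ext h2 h1
    let eX := LinearEquiv.ofInjective (j p0.1) (hinj p0)
    obtain ⟨g, hg, hgx⟩ := WittExt.extend Q hQ _ (LinearMap.range (j p0.1)) ((j p.1).comp eX.symm.toLinearMap) rfl
      ((hinj p).comp eX.symm.injective) (fun x => by
        obtain ⟨⟨a, b⟩, hab⟩ := eX.surjective x
        subst hab
        show Q (j p.1 (eX.symm (eX (a, b)))) = Q (j p0.1 (a, b))
        rw [eX.symm_apply_apply, hj, hj])
    refine ⟨⟨g, hg⟩, Subtype.ext (Prod.ext ?_ ?_)⟩
    · have h := hgx (eX (1, 0))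
      simp [eX, j] at h
      simpa [π, p0] using h
    · have h := hgx (eX (0, 1))
      simp [eX, j] at h
      simpa [π, p0] using h
  rw [card_fibres π p0 fun p => by
    obtain ⟨t, ht⟩ := htrans p
    refine ⟨{ toFun := fun g => ⟨⟨g.1.1.trans t.1.symm, fun v => by
                rw [LinearEquiv.trans_apply, ← t.2, LinearEquiv.apply_symm_apply, g.1.2]⟩, ?_⟩
              invFun := fun g => ⟨⟨g.1.1.trans t.1, fun v => by rw [LinearEquiv.trans_apply, t.2, g.1.2]⟩, ?_⟩
              left_inv := fun g => Subtype.ext (Subtype.ext (LinearEquiv.ext fun v => by simp))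
              right_inv := fun g => Subtype.ext (Subtype.ext (LinearEquiv.ext fun v => by simp)) }⟩
    · have hg := g.2
      simp only [π, ← ht, Subtype.ext_iff, Prod.ext_iff] at hg
      refine Subtype.ext (Prod.ext ?_ ?_) <;> simp [π, p0, hg.1, hg.2]
    · have hg := g.2
      simp only [π, p0, Subtype.ext_iff, Prod.ext_iff] at hg
      rw [← ht]
      refine Subtype.ext (Prod.ext ?_ ?_) <;> simp [π, hg.1, hg.2]]
  congr 1
  let i : V' →ₗ[F] V := ψ.toLinearMap.comp (LinearMap.inr F (F × F) V')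
  have hi : ∀ x, Q (i x) = Q' x := fun x => by show Q (ψ (0, x)) = _; rw [hψ]; simp
  have hfix : ∀ g : Iso Q, π g = p0 → g.1 u = u ∧ g.1 w = w := fun g h => by
    simp only [π, p0, Subtype.ext_iff, Prod.ext_iff] at h; exact h
  have hkeep : ∀ g : Iso Q, π g = p0 → ∀ x, (ψ.symm (g.1 (i x))).1 = 0 := fun g hg x => by
    obtain ⟨h1, h3⟩ := hfix g hg
    have e1 := WittExt.polar_map Q (fun x y => map_add g.1 x y) g.2 u (i x)
    have e2 := WittExt.polar_map Q (fun x y => map_add g.1 x y) g.2 w (i x)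
    rw [h1] at e1
    rw [h3] at e2
    obtain ⟨q, hq⟩ := ψ.surjective (g.1 (i x))
    rw [← hq, ψ.symm_apply_apply]
    rw [← hq, hudef, show i x = ψ (0, x) from rfl, hpol, hpol] at e1
    rw [← hq, hwdef, show i x = ψ (0, x) from rfl, hpol, hpol] at e2
    simp at e1 e2
    exact Prod.ext e2 e1
  have hback : ∀ g : Iso Q, π g = p0 → ∀ x, i (ψ.symm (g.1 (i x))).2 = g.1 (i x) := fun g hg x => by
    show ψ ((0 : F × F), (ψ.symm (g.1 (i x))).2) = _
    rw [← hkeep g hg x]
    exact ψ.apply_symm_apply _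
  let down : {g : Iso Q // π g = p0} → (V' →ₗ[F] V') := fun g =>
    (LinearMap.snd F (F × F) V').comp (ψ.symm.toLinearMap.comp (g.1.1.toLinearMap.comp i))
  have hdown : ∀ g x, Q' (down g x) = Q' x := fun g x => by
    rw [← hi (down g x), show i (down g x) = g.1.1 (i x) from hback g.1 g.2 x, g.1.2, hi]
  have hdinj : ∀ g, Function.Injective (down g) := fun g x y e => by
    have : i (down g x) = i (down g y) := by rw [e]
    rw [show i (down g x) = g.1.1 (i x) from hback g.1 g.2 x, show i (down g y) = g.1.1 (i y) from hback g.1 g.2 y] at this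
    simpa [i] using g.1.1.injective this
  refine Nat.card_congr
    { toFun := fun g => ⟨LinearEquiv.ofBijective (down g) ⟨hdinj g, LinearMap.injective_iff_surjective.1 (hdinj g)⟩,
        fun x => hdown g x⟩
      invFun := fun g => ⟨⟨ψ.symm.trans ((LinearEquiv.prodCongr (LinearEquiv.refl F _) g.1).trans ψ), fun v => by
        conv_rhs => rw [← ψ.apply_symm_apply v]
        simp only [LinearEquiv.trans_apply, hψ, LinearEquiv.prodCongr_apply, LinearEquiv.refl_apply, g.2]⟩,
        Subtype.ext (Prod.ext (by simp [π, p0, hudef]) (by simp [π, p0, hwdef]))⟩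
      left_inv := fun g => Subtype.ext (Subtype.ext (LinearEquiv.ext fun v => ?_))
      right_inv := fun g => Subtype.ext (LinearEquiv.ext fun x => by
        show (ψ.symm (ψ (LinearEquiv.prodCongr (LinearEquiv.refl F (F × F)) g.1 (ψ.symm (ψ (0, x)))))).2 = g.1 x
        simp) }
  obtain ⟨⟨⟨a, b⟩, x⟩, rfl⟩ := ψ.surjective v
  show ψ (LinearEquiv.prodCongr (LinearEquiv.refl F (F × F)) (LinearEquiv.ofBijective (down g) ⟨hdinj g, LinearMap.injective_iff_surjective.1 (hdinj g)⟩) (ψ.symm (ψ ((a, b), x)))) = _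
  rw [ψ.symm_apply_apply]
  obtain ⟨h1, h3⟩ := hfix g.1 g.2
  have hsplit : ((a, b), x) = a • (((1 : F), (0 : F)), (0 : V')) + b • (((0 : F), (1 : F)), (0 : V')) + (0, x) := by
    simp
  conv_rhs => rw [hsplit, map_add ψ, map_add ψ, map_smul ψ, map_smul ψ, map_add g.1.1, map_add g.1.1, map_smul g.1.1,
    map_smul g.1.1, ← hudef, ← hwdef, h1, h3, show ψ (0, x) = i x from rfl, ← hback g.1 g.2 x]
  show ψ ((a, b), down g x) = _
  rw [show ((a, b), down g x) = a • (((1 : F), (0 : F)), (0 : V')) + b • (((0 : F), (1 : F)), (0 : V')) + (0, down g x) by simp,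
    map_add ψ, map_add ψ, map_smul ψ, map_smul ψ, ← hudef, ← hwdef]
  rfl

end general

section matrix

variable {F : Type*} [Field F] [Fintype F] {ι : Type} [Fintype ι] [DecidableEq ι] (Q : QuadraticForm F (ι → F))

theorem card_isometryGroup : Nat.card (Cfsg.isometryGroup F ⇑Q) = Nat.card (Iso Q) :=
  Nat.card_congr
    { toFun := fun g => ⟨{ Refl.lin Q g with
        invFun := Refl.act Q g⁻¹
        left_inv := fun x => by
          show Refl.act Q g⁻¹ (Refl.lin Q g x) = x
          rw [Refl.lin_apply, ← Refl.act_mul, inv_mul_cancel, Refl.act_one]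
        right_inv := fun x => by
          show Refl.lin Q g (Refl.act Q g⁻¹ x) = x
          rw [Refl.lin_apply, ← Refl.act_mul, mul_inv_cancel, Refl.act_one] },
        fun v => by show Q (Refl.lin Q g v) = Q v; rw [Refl.lin_apply, Refl.Q_act]⟩
      invFun := fun g => Refl.ofLin Q g.1 g.2
      left_inv := fun g => Refl.act_ext Q fun y => by
        rw [Refl.act_ofLin]; exact Refl.lin_apply Q g y
      right_inv := fun g => Subtype.ext (LinearEquiv.ext fun v => by
        show Refl.lin Q (Refl.ofLin Q g.1 g.2) v = _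
        rw [Refl.lin_apply, Refl.act_ofLin]) }

end matrix

section family

variable {F : Type*} [Field F] [Fintype F] {d : ℕ} (G : QuadraticForm F (Fin d → F))

/-- `k` hyperbolic planes and `G`. -/
def Qk (k : ℕ) : QuadraticForm F ((Fin k ⊕ Fin k → F) × (Fin d → F)) :=
  (PlusMax.QP (F := F) (m := k)).comp (LinearMap.fst F _ _) + G.comp (LinearMap.snd F _ _)

omit [Fintype F] in
theorem Qk_apply (k : ℕ) (p : (Fin k ⊕ Fin k → F) × (Fin d → F)) :
    Qk G k p = Cfsg.quadFormPlus k F p.1 + G p.2 := rfl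

omit [Fintype F] in
theorem Qk_nondeg (hG : (polarBilin G).Nondegenerate) (k : ℕ) : (polarBilin (Qk G k)).Nondegenerate := by
  have hpol : ∀ p p', polar (Qk G k) p p' = polar PlusMax.QP p.1 p'.1 + polar G p.2 p'.2 := fun p p' => by
    simp only [polar, Qk_apply, PlusMax.QP_apply, Prod.fst_add, Prod.snd_add]; ring
  have h1 : ∀ p, (∀ p', polar (Qk G k) p p' = 0) → p = 0 := fun p hp => by
    refine Prod.ext (PlusMax.nondeg.1 _ fun y => ?_) (hG.1 _ fun y => ?_)
    · have h := hp (y, 0); rw [hpol, polar_zero_right, add_zero] at h; exact h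
    · have h := hp (0, y); rw [hpol, polar_zero_right, zero_add] at h; exact h
  exact ⟨h1, fun y hy => h1 y fun x => by rw [polar_comm]; exact hy x⟩

/-- Peel off a hyperbolic plane. -/
def peel (k : ℕ) : ((F × F) × ((Fin k ⊕ Fin k → F) × (Fin d → F))) ≃ₗ[F] ((Fin (k + 1) ⊕ Fin (k + 1) → F) × (Fin d → F)) where
  toFun p := (Sum.elim (Fin.cons p.1.1 fun i => p.2.1 (.inl i)) (Fin.cons p.1.2 fun i => p.2.1 (.inr i)), p.2.2)
  map_add' p p' := by
    refine Prod.ext (funext fun s => ?_) rfl
    rcases s with i | i <;> refine Fin.cases ?_ (fun j => ?_) i <;> simp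
  map_smul' c p := by
    refine Prod.ext (funext fun s => ?_) rfl
    rcases s with i | i <;> refine Fin.cases ?_ (fun j => ?_) i <;> simp
  invFun p := ((p.1 (.inl 0), p.1 (.inr 0)), (fun s => p.1 (Sum.map Fin.succ Fin.succ s), p.2))
  left_inv p := by
    refine Prod.ext rfl (Prod.ext (funext fun s => ?_) rfl)
    rcases s with i | i <;> simp
  right_inv p := by
    refine Prod.ext (funext fun s => ?_) rfl
    rcases s with i | i <;> refine Fin.cases ?_ (fun j => ?_) i <;> simp

theorem card_succ (hG : (polarBilin G).Nondegenerate) (k : ℕ) :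
    Nat.card (Iso (Qk G (k + 1))) =
      (Nat.card (QuadZeros.T (⇑G) (k + 1)) - 1) * Fintype.card F ^ (2 * k + d) * Nat.card (Iso (Qk G k)) := by
  rw [card_iso_split (Qk G (k + 1)) (Qk_nondeg G hG _) (Qk G k) (peel k) fun p => by
    simp [Qk_apply, peel, Cfsg.quadFormPlus, Fin.sum_univ_succ]; ring]
  have hpos : 0 < Fintype.card F ^ 2 := pow_pos Fintype.card_pos _
  have h := card_pairs (Qk G (k + 1)) (Qk_nondeg G hG _)
  rw [finrank_prod, finrank_pi, finrank_pi, Fintype.card_sum, Fintype.card_fin, Fintype.card_fin,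
    show k + 1 + (k + 1) + d = 2 + (2 * k + d) by omega, pow_add] at h
  have hz : Nat.card {v // Qk G (k + 1) v = 0} = Nat.card (QuadZeros.T (⇑G) (k + 1)) :=
    Nat.card_congr
      { toFun := fun v => ⟨(v.1.2, fun i => (v.1.1 (.inl i), v.1.1 (.inr i))), by
          have := v.2; rw [Qk_apply, Cfsg.quadFormPlus] at this; linear_combination this⟩
        invFun := fun p => ⟨(Sum.elim (fun i => (p.1.2 i).1) (fun i => (p.1.2 i).2), p.1.1), by
          rw [Qk_apply, Cfsg.quadFormPlus]; simp only [Sum.elim_inl, Sum.elim_inr]; linear_combination p.2⟩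
        left_inv := fun v => by
          refine Subtype.ext (Prod.ext (funext fun s => ?_) rfl)
          rcases s with i | i <;> rfl
        right_inv := fun p => rfl }
  rw [hz] at h
  congr 1
  refine Nat.eq_of_mul_eq_mul_left hpos ?_
  rw [h]; ring

theorem card_zero (G : QuadraticForm F (Fin d → F)) :
    Nat.card (Iso (Qk G 0)) = Nat.card (Iso G) := by
  let φ : (Fin d → F) ≃ₗ[F] ((Fin 0 ⊕ Fin 0 → F) × (Fin d → F)) :=
    { toFun := fun v => (0, v)
      map_add' := fun a b => Prod.ext (add_zero 0).symm rfl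
      map_smul' := fun c a => Prod.ext (smul_zero c).symm rfl
      invFun := fun p => p.2
      left_inv := fun v => rfl
      right_inv := fun p => Prod.ext (funext fun s => s.elim (fun i => i.elim0) fun i => i.elim0) rfl }
  exact card_iso_congr (Qk G 0) G φ fun v => by simp [Qk_apply, φ, Cfsg.quadFormPlus]

end family

section plane

variable {F : Type*} [Field F] [Fintype F]

theorem card_iso_plane (a b : F) (hab : ∀ z₁ z₂ : F, z₁ ^ 2 + a * z₁ * z₂ + b * z₂ ^ 2 = 0 → z₁ = 0 ∧ z₂ = 0) :
    Nat.card (Iso (WittDec.plane a b)) = 2 * (Fintype.card F + 1) := by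
  classical
  set G := WittDec.plane a b with hGdef
  have hG := WittDec.plane_nondeg a b hab
  have hA := WittDec.plane_aniso a b hab
  have hd := WittDec.plane_disc_ne a b hab
  -- sphere counts
  have hsim : ∀ c : F, c ≠ 0 → ∃ g : (Fin 2 → F) ≃ₗ[F] (Fin 2 → F), ∀ v, G (g v) = c * G v := by
    intro c hc
    have hcn : (polarBilin (c • G)).Nondegenerate := by
      have e : ∀ x y, polar (c • G : QuadraticForm F _) x y = c * polar G x y := fun x y => by simp [polar]; ring
      have h1 : ∀ x, (∀ y, polar (c • G : QuadraticForm F _) x y = 0) → x = 0 := fun x hx =>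
        hG.1 x fun y => (mul_eq_zero.1 ((e x y).symm.trans (hx y))).resolve_left hc
      exact ⟨h1, fun y hy => h1 y fun x => by rw [polar_comm]; exact hy x⟩
    have hcA : WittDec.Aniso (c • G) := fun x hx => hA x ((mul_eq_zero.1 (show c * G x = 0 from hx)).resolve_left hc)
    obtain ⟨⟨ζ, hζ⟩, h1⟩ := WittDec.exists_plane_equiv G hG hA
    obtain ⟨ψ, hψ⟩ := h1 ζ hζ
    obtain ⟨χ, hχ⟩ := (WittDec.exists_plane_equiv (c • G) hcn hcA).2 ζ hζ
    refine ⟨χ.symm.trans ψ, fun v => ?_⟩
    show G (ψ (χ.symm v)) = _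
    rw [hψ, ← hχ, χ.apply_symm_apply]; rfl
  let S := {v : Fin 2 → F // G v = 1}
  have hN : Nat.card S = Fintype.card F + 1 := by
    have e : {v : Fin 2 → F // v ≠ 0} ≃ Σ c : Fˣ, {v : Fin 2 → F // G v = c} :=
      { toFun := fun v => ⟨Units.mk0 (G v.1) fun e => v.2 (hA _ e), v.1, rfl⟩
        invFun := fun s => ⟨s.2.1, fun e => s.1.ne_zero (by rw [← s.2.2, e, QuadraticMap.map_zero])⟩
        left_inv := fun v => rfl
        right_inv := fun ⟨c, v, hv⟩ => by
          refine Sigma.subtype_ext (Units.ext hv) rfl }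
    have hfib : ∀ c : Fˣ, Nat.card {v : Fin 2 → F // G v = c} = Nat.card S := fun c => by
      obtain ⟨g, hg⟩ := hsim c c.ne_zero
      exact (Nat.card_congr (g.toEquiv.subtypeEquiv fun v => by
        show G v = 1 ↔ G (g v) = c
        rw [hg]; constructor
        · intro h; rw [h, mul_one]
        · intro h; exact mul_left_cancel₀ c.ne_zero (h.trans (mul_one _).symm))).symm
    have h := Nat.card_congr e
    rw [Nat.card_sigma, Finset.sum_congr rfl fun c _ => hfib c, Finset.sum_const, Finset.card_univ, smul_eq_mul,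
      Fintype.card_units, Nat.card_eq_fintype_card, Fintype.card_subtype_compl, Fintype.card_subtype_eq,
      Fintype.card_fun, Fintype.card_fin] at h
    have h2 : 2 ≤ Fintype.card F := Fintype.one_lt_card
    refine Nat.eq_of_mul_eq_mul_left (by omega : 0 < Fintype.card F - 1) ?_
    rw [← h, ← one_pow 2, Nat.sq_sub_sq, one_pow, mul_comm]
  let e0 : S := ⟨Pi.single 0 1, by simp [hGdef, WittDec.plane_apply]⟩
  let π : Iso G → S := fun g => ⟨g.1 e0.1, (g.2 _).trans e0.2⟩
  have htrans : ∀ p : S, ∃ g : Iso G, π g = p := fun p => by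
    have hne : ∀ p : S, (p.1 : Fin 2 → F) ≠ 0 := fun p e => zero_ne_one (α := F) (by rw [← p.2, e, QuadraticMap.map_zero])
    let eX := LinearEquiv.toSpanNonzeroSingleton F (Fin 2 → F) e0.1 (hne e0)
    obtain ⟨g, hg, hgx⟩ := WittExt.extend G hG _ (F ∙ e0.1) ((LinearMap.toSpanSingleton F _ p.1).comp eX.symm.toLinearMap) rfl
      ((smul_left_injective F (hne p)).comp eX.symm.injective) (fun x => by
        obtain ⟨r, rfl⟩ := eX.surjective x
        show G ((eX.symm (eX r)) • p.1) = G (r • e0.1)
        rw [eX.symm_apply_apply, QuadraticMap.map_smul, QuadraticMap.map_smul, p.2, e0.2])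
    refine ⟨⟨g, hg⟩, Subtype.ext ?_⟩
    have h := hgx (eX 1)
    rw [LinearMap.comp_apply, LinearEquiv.coe_coe, eX.symm_apply_apply] at h
    simpa [eX, π] using h
  rw [card_fibres π e0 fun p => by
    obtain ⟨t, ht⟩ := htrans p
    refine ⟨{ toFun := fun g => ⟨⟨g.1.1.trans t.1.symm, fun v => by
                rw [LinearEquiv.trans_apply, ← t.2, LinearEquiv.apply_symm_apply, g.1.2]⟩, ?_⟩
              invFun := fun g => ⟨⟨g.1.1.trans t.1, fun v => by rw [LinearEquiv.trans_apply, t.2, g.1.2]⟩, ?_⟩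
              left_inv := fun g => Subtype.ext (Subtype.ext (LinearEquiv.ext fun v => by simp))
              right_inv := fun g => Subtype.ext (Subtype.ext (LinearEquiv.ext fun v => by simp)) }⟩
    · have hg := congrArg Subtype.val (g.2.trans ht.symm)
      refine Subtype.ext ?_
      show t.1.symm (g.1.1 e0.1) = e0.1
      rw [show g.1.1 e0.1 = t.1 e0.1 from hg, LinearEquiv.symm_apply_apply]
    · have hg := congrArg Subtype.val g.2
      rw [← ht]
      refine Subtype.ext ?_
      show t.1 (g.1.1 e0.1) = t.1 e0.1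
      rw [show g.1.1 e0.1 = e0.1 from hg], hN, mul_comm]
  congr 1
  -- the stabiliser has two elements
  let L : (Fin 2 → F) →ₗ[F] (Fin 2 → F) :=
    { toFun := fun z => ![z 0 + a * z 1, -z 1]
      map_add' := fun x y => by funext i; fin_cases i <;> simp <;> ring
      map_smul' := fun c x => by funext i; fin_cases i <;> simp; ring }
  have hLL : ∀ z, L (L z) = z := fun z => by funext i; fin_cases i <;> simp [L]
  let σ : Iso G := ⟨{ L with invFun := L, left_inv := hLL, right_inv := hLL }, fun z => by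
    show G (L z) = G z
    simp [L, hGdef, WittDec.plane_apply]; ring⟩
  have hdet : ∀ g : Iso G, π g = e0 → g.1 (Pi.single 1 1) = Pi.single 1 1 ∨ g.1 (Pi.single 1 1) = ![a, -1] := by
    intro g hg
    have h0 : g.1 e0.1 = e0.1 := congrArg Subtype.val hg
    set z := g.1 (Pi.single 1 1) with hz
    have e1 := WittExt.polar_map G (fun x y => map_add g.1 x y) g.2 e0.1 (Pi.single 1 1)
    rw [h0, ← hz] at e1
    have e2 := g.2 (Pi.single 1 1)
    rw [← hz] at e2
    simp [e0, hGdef, WittDec.polar_plane, WittDec.plane_apply] at e1 e2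
    have hz' : (z 0 = 0 ∧ z 1 = 1) ∨ (z 0 = a ∧ z 1 = -1) := by
      by_cases h2 : (2 : F) = 0
      · have ha : a ≠ 0 := fun ha => hd (by rw [ha]; linear_combination (2 * b) * h2)
        have h1 : z 1 = 1 := mul_left_cancel₀ ha (by linear_combination e1 - (z 0) * h2)
        rw [h1] at e2 ⊢
        rcases mul_eq_zero.1 (show z 0 * (z 0 + a) = 0 by linear_combination e2) with h | h
        · exact Or.inl ⟨h, rfl⟩
        · exact Or.inr ⟨by linear_combination h - a * h2, by linear_combination h2⟩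
      · have hq : (4 * b - a ^ 2) * ((z 1 - 1) * (z 1 + 1)) = 0 := by
          linear_combination (4 : F) * e2 - (2 * z 0 + a * z 1 + a) * e1
        rcases mul_eq_zero.1 ((mul_eq_zero.1 hq).resolve_left hd) with h | h
        · exact Or.inl ⟨mul_left_cancel₀ h2 (by linear_combination e1 - a * h), sub_eq_zero.1 h⟩
        · exact Or.inr ⟨mul_left_cancel₀ h2 (by linear_combination e1 - a * h), eq_neg_of_add_eq_zero_left h⟩
    rcases hz' with ⟨h0', h1'⟩ | ⟨h0', h1'⟩
    · left; funext i; fin_cases i <;> simp [h0', h1']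
    · right; funext i; fin_cases i <;> simp [h0', h1']
  have hext : ∀ g g' : Iso G, π g = e0 → π g' = e0 → g.1 (Pi.single 1 1) = g'.1 (Pi.single 1 1) → g = g' := by
    intro g g' h h' h1
    refine Subtype.ext (LinearEquiv.toLinearMap_injective ((Pi.basisFun F (Fin 2)).ext fun i => ?_))
    rw [Pi.basisFun_apply]
    fin_cases i
    · exact (congrArg Subtype.val h).trans (congrArg Subtype.val h').symm
    · exact h1
  let one : Iso G := ⟨LinearEquiv.refl F _, fun v => rfl⟩
  have hσ0 : π σ = e0 := Subtype.ext (by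
    show L e0.1 = e0.1
    funext i; fin_cases i <;> simp [L, e0])
  have hσ1 : σ.1 (Pi.single 1 1) = ![a, -1] := by
    show L (Pi.single 1 1) = _
    funext i; fin_cases i <;> simp [L]
  rw [Nat.card_eq_two_iff]
  refine ⟨⟨one, rfl⟩, ⟨σ, hσ0⟩, fun e => ?_, Set.eq_univ_of_forall fun ⟨g, hg⟩ => ?_⟩
  · have h : (Pi.single 1 1 : Fin 2 → F) = ![a, -1] :=
      (congrArg (fun g : {g : Iso G // π g = e0} => g.1.1 (Pi.single 1 1)) e).trans hσ1
    have ha : (0 : F) = a := by simpa using congrFun h 0
    have h1 : (1 : F) = -1 := by simpa using congrFun h 1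
    exact hd (by rw [← ha]; linear_combination (2 * b) * h1)
  · rcases hdet g hg with h | h
    · exact Or.inl (Subtype.ext (hext g one hg rfl h))
    · exact Or.inr (Subtype.ext (hext g σ hg hσ0 (h.trans hσ1.symm)))

theorem card_iso_line (c : F) (hc : c ≠ 0) (h2 : (2 : F) ≠ 0) (G : QuadraticForm F (Fin 1 → F))
    (hG : ∀ v, G v = c * v 0 ^ 2) : Nat.card (Iso G) = 2 := by
  classical
  let e : (Fin 1 → F) := fun _ => 1
  have hv : ∀ v : Fin 1 → F, v = v 0 • e := fun v => funext fun i => by fin_cases i; simp [e]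
  have hval : ∀ g : Iso G, g.1 e 0 = 1 ∨ g.1 e 0 = -1 := fun g => by
    have h := g.2 e
    rw [hG, hG] at h
    have h' : g.1 e 0 ^ 2 = 1 := by simpa [e] using mul_left_cancel₀ hc h
    exact sq_eq_one_iff.1 h'
  have hext : ∀ g g' : Iso G, g.1 e 0 = g'.1 e 0 → g = g' := fun g g' h => by
    refine Subtype.ext (LinearEquiv.ext fun v => ?_)
    rw [hv v, map_smul, map_smul, hv (g.1 e), hv (g'.1 e), h]
  let one : Iso G := ⟨LinearEquiv.refl F _, fun v => rfl⟩
  let neg : Iso G := ⟨LinearEquiv.neg F, fun v => by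
    show G (-v) = G v
    exact QuadraticMap.map_neg G v⟩
  rw [Nat.card_eq_two_iff]
  refine ⟨one, neg, fun h => ?_, Set.eq_univ_of_forall fun g => ?_⟩
  · have h1 : (1 : F) = -1 := congrArg (fun g : Iso G => g.1 e 0) h
    exact h2 (by linear_combination h1)
  · rcases hval g with h | h
    · exact Or.inl (hext g one h)
    · exact Or.inr (hext g neg h)

end plane

end Cfsg.Agent.Classical.OrthOrder
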