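import Cfsg.Agent.S0256
import Cfsg.Agent.S0287
import Cfsg.Agent.Lib.Classical.OmegaCenter

/-!
# The Klein correspondence: the exterior square of a four-dimensional space

Tools for `PΩ⁺₆(q) ≅ PSL₄(q)` and `PΩ₅(q) ≅ PSp₄(q)`.
-/

set_option autoImplicit false

open Cfsg
open Matrix

namespace Cfsg.Agent.Classical.Klein

variable {F : Type*} [Field F]

/-- A perfect group with simple central quotient, mapped non-trivially into an isometry group with
scalar image of the center, has that quotient as `PΩ` when the orders agree. -/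
theorem pomega_equiv_of {G : Type*} [Group G] {ι : Type} [Fintype ι] [DecidableEq ι] [Finite F]
    (Q : (ι → F) → F) (r : G →* Cfsg.isometryGroup F Q) (hperf : commutator G = ⊤)
    (hsimple : IsSimpleGroup (G ⧸ Subgroup.center G))
    (hc : ∀ z ∈ Subgroup.center G, ∃ c : F, ((r z : GL ι F) : Matrix ι ι F) = c • 1)
    (hne : ∃ g, r g ≠ 1)
    (hcard : Nat.card (G ⧸ Subgroup.center G) = Nat.card (Cfsg.POmega F Q)) :
    Nonempty (Cfsg.POmega F Q ≃* G ⧸ Subgroup.center G) := by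
  have hmem : ∀ g, r g ∈ commutator (Cfsg.isometryGroup F Q) := fun g => by
    have h1 : Subgroup.map r (commutator G) ≤ commutator (Cfsg.isometryGroup F Q) := by
      rw [commutator_def, Subgroup.map_commutator, commutator_def]
      exact Subgroup.commutator_mono le_top le_top
    exact h1 ⟨g, by rw [hperf]; exact Subgroup.mem_top g, rfl⟩
  let r' : G →* Cfsg.Omega F Q := r.codRestrict (commutator (Cfsg.isometryGroup F Q)) hmem
  let f : G →* Cfsg.POmega F Q := (QuotientGroup.mk' (Subgroup.center (Cfsg.Omega F Q))).comp r'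
  have hf : ∀ g, f g = 1 ↔ r' g ∈ Subgroup.center (Cfsg.Omega F Q) := fun g => QuotientGroup.eq_one_iff _
  have hker : Subgroup.center G ≤ f.ker := fun z hz => by
    rw [MonoidHom.mem_ker, hf, Subgroup.mem_center_iff]
    intro y
    obtain ⟨c, h⟩ := hc z hz
    apply Subtype.ext
    apply Subtype.ext
    apply Units.ext
    show (((y : Cfsg.isometryGroup F Q) : GL ι F) : Matrix ι ι F) * ((r z : GL ι F) : Matrix ι ι F) =
      ((r z : GL ι F) : Matrix ι ι F) * (((y : Cfsg.isometryGroup F Q) : GL ι F) : Matrix ι ι F)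
    rw [h, Matrix.mul_smul, Matrix.smul_mul, Matrix.mul_one, Matrix.one_mul]
  let fb : G ⧸ Subgroup.center G →* Cfsg.POmega F Q := QuotientGroup.lift _ f hker
  have hinj : Function.Injective fb := by
    rw [← MonoidHom.ker_eq_bot_iff]
    haveI := hsimple
    rcases (MonoidHom.normal_ker fb).eq_bot_or_eq_top with h | h
    · exact h
    · exfalso
      obtain ⟨g, hg⟩ := hne
      apply hg
      have hall : ∀ x, r' x ∈ Subgroup.center (Cfsg.Omega F Q) := fun x => by
        rw [← hf]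
        have : (x : G ⧸ Subgroup.center G) ∈ fb.ker := by rw [h]; exact Subgroup.mem_top _
        exact MonoidHom.mem_ker.1 this
      have hle : commutator G ≤ r'.ker := by
        rw [commutator_def, Subgroup.commutator_le]
        intro a _ b _
        rw [MonoidHom.mem_ker, map_commutatorElement, commutatorElement_eq_one_iff_mul_comm]
        exact (Subgroup.mem_center_iff.1 (hall b) (r' a))
      have h1 : r' g = 1 := hle (by rw [hperf]; exact Subgroup.mem_top g)
      exact congrArg Subtype.val h1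
  exact ⟨(MulEquiv.ofBijective fb ((Nat.bijective_iff_injective_and_card fb).2 ⟨hinj, hcard⟩)).symm⟩

/-- The order of `PΩ⁺_{2m}(q)`, also for `m = 3`. -/
theorem card_POmega_plus [Fintype F] (m : ℕ) (hm : 3 ≤ m) :
    Nat.gcd 4 (Fintype.card F ^ m - 1) * Nat.card (Cfsg.POmega F (Cfsg.quadFormPlus m F)) =
      Fintype.card F ^ (m * (m - 1)) * (Fintype.card F ^ m - 1) *
        ∏ i ∈ Finset.range (m - 1), (Fintype.card F ^ (2 * (i + 1)) - 1) := by
  classical
  have hO := Cfsg.Agent.S0287.result (F := F) rfl m (by omega)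
  change Nat.card (Cfsg.isometryGroup F ⇑(PlusMax.QP (F := F) (m := m))) = _ at hO
  have hn : 5 ≤ Fintype.card (Fin m ⊕ Fin m) := by simp; omega
  change Nat.gcd 4 _ * Nat.card (commutator (Refl.O (PlusMax.QP (F := F) (m := m))) ⧸ Subgroup.center _) = _
  have hq2 : 2 ≤ Fintype.card F := Fintype.one_lt_card
  have hpm : 1 ≤ Fintype.card F ^ m := Nat.one_le_pow _ _ (by omega)
  by_cases h2 : (2 : F) = 0
  · have hch : ringChar F = 2 := CharP.ringChar_of_prime_eq_zero Nat.prime_two (by exact_mod_cast h2)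
    haveI : CharP F 2 := ringChar.of_eq hch
    have he := FiniteField.even_card_iff_char_two.1 hch
    have hg : Nat.gcd 4 (Fintype.card F ^ m - 1) = 1 := by
      have hem : Even (Fintype.card F ^ m) := (Nat.even_iff.2 he).pow_of_ne_zero (by omega)
      rw [Nat.gcd_rec]
      have := Nat.even_iff.1 hem
      rcases (by omega : (Fintype.card F ^ m - 1) % 4 = 1 ∨ (Fintype.card F ^ m - 1) % 4 = 3) with h | h <;> rw [h] <;> rfl
    have h := Refl.card_POmega_char_two (PlusMax.QP (F := F) (m := m)) PlusMax.nondeg hn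
    rw [hO] at h
    rw [hg, one_mul]
    linarith
  · have hodd : Odd (Fintype.card F) := Nat.odd_iff.2 (FiniteField.odd_card_of_char_ne_two (Refl.ringChar_ne_two h2))
    obtain ⟨hsq, hns⟩ := Refl.card_POmega_even_dim (PlusMax.QP (F := F) (m := m)) PlusMax.nondeg hn h2 (by simp)
    rw [Disc.disc_QP, Disc.isSquare_neg_one_pow h2, ← (Disc.pow_mod_four hodd m).1] at hsq hns
    rw [Nat.gcd_rec]
    by_cases h4 : Fintype.card F ^ m % 4 = 1
    · have h := hsq h4
      rw [hO] at h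
      rw [show (Fintype.card F ^ m - 1) % 4 = 0 by omega, Nat.gcd_zero_left]
      linarith
    · have h := hns h4
      rw [hO] at h
      have := Nat.odd_iff.1 (hodd.pow : Odd (Fintype.card F ^ m))
      rw [show (Fintype.card F ^ m - 1) % 4 = 2 by omega, show Nat.gcd 2 4 = 2 from rfl]
      linarith

/-- The sign matrix at the index `inr 1`. -/
def sgn : Matrix (Fin 3 ⊕ Fin 3) (Fin 3 ⊕ Fin 3) F :=
  Matrix.diagonal fun i => if i = Sum.inr 1 then -1 else 1

theorem sgn_mul_sgn : (sgn : Matrix (Fin 3 ⊕ Fin 3) (Fin 3 ⊕ Fin 3) F) * sgn = 1 := by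
  rw [sgn, Matrix.diagonal_mul_diagonal, ← Matrix.diagonal_one]
  congr 1
  funext i
  split_ifs <;> simp

theorem quadFormPlus_sgn (v : Fin 3 ⊕ Fin 3 → F) :
    Cfsg.quadFormPlus 3 F (sgn *ᵥ v) = Cfsg.Agent.S0256.pf v := by
  simp [Cfsg.quadFormPlus, Cfsg.Agent.S0256.pf, sgn, Fin.sum_univ_three, Matrix.mulVec_diagonal]
  ring

theorem pf_sgn (v : Fin 3 ⊕ Fin 3 → F) :
    Cfsg.Agent.S0256.pf (sgn *ᵥ v) = Cfsg.quadFormPlus 3 F v := by
  rw [← quadFormPlus_sgn, Matrix.mulVec_mulVec, sgn_mul_sgn, Matrix.one_mulVec]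

/-- The exterior square with signs, as matrices. -/
def wsgn : Matrix.SpecialLinearGroup (Fin 4) F →* Matrix (Fin 3 ⊕ Fin 3) (Fin 3 ⊕ Fin 3) F where
  toFun g := sgn * Cfsg.Agent.S0256.wedge (g : Matrix (Fin 4) (Fin 4) F) * sgn
  map_one' := by rw [Matrix.SpecialLinearGroup.coe_one, Cfsg.Agent.S0256.wedge_one, Matrix.mul_one, sgn_mul_sgn]
  map_mul' g h := by
    rw [Matrix.SpecialLinearGroup.coe_mul, Cfsg.Agent.S0256.wedge_mul]
    simp only [Matrix.mul_assoc]
    rw [← Matrix.mul_assoc sgn sgn, sgn_mul_sgn, Matrix.one_mul]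

theorem mem_isometryGroup_of {ι : Type} [Fintype ι] [DecidableEq ι] (Q : (ι → F) → F) (g : GL ι F)
    (h : ∀ u, Q ((g : Matrix ι ι F) *ᵥ u) = Q u) : g ∈ Cfsg.isometryGroup F Q := fun u _ => h u

theorem wsgn_pres (g : Matrix.SpecialLinearGroup (Fin 4) F) (u : Fin 3 ⊕ Fin 3 → F) :
    Cfsg.quadFormPlus 3 F (wsgn g *ᵥ u) = Cfsg.quadFormPlus 3 F u := by
  have e : wsgn g = sgn * Cfsg.Agent.S0256.wedge (g : Matrix (Fin 4) (Fin 4) F) * sgn := by
    unfold wsgn
    rw [MonoidHom.coe_mk, OneHom.coe_mk]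
  rw [e, ← Matrix.mulVec_mulVec, ← Matrix.mulVec_mulVec, quadFormPlus_sgn, Cfsg.Agent.S0256.pf_wedge, g.2, one_mul,
    pf_sgn]

/-- The map `SL₄ → O⁺₆`. -/
def toO : Matrix.SpecialLinearGroup (Fin 4) F →* Cfsg.isometryGroup F (Cfsg.quadFormPlus 3 F) :=
  (wsgn (F := F)).toHomUnits.codRestrict _ fun g => mem_isometryGroup_of _ _ fun u => by
    rw [MonoidHom.coe_toHomUnits]
    exact wsgn_pres g u

theorem coe_toO (g : Matrix.SpecialLinearGroup (Fin 4) F) :
    ((toO g : GL (Fin 3 ⊕ Fin 3) F) : Matrix (Fin 3 ⊕ Fin 3) (Fin 3 ⊕ Fin 3) F) =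
      sgn * Cfsg.Agent.S0256.wedge (g : Matrix (Fin 4) (Fin 4) F) * sgn := by
  unfold toO
  rw [MonoidHom.codRestrict_apply, MonoidHom.coe_toHomUnits]
  unfold wsgn
  rw [MonoidHom.coe_mk, OneHom.coe_mk]

theorem wedge_smul (c : F) (A : Matrix (Fin 4) (Fin 4) F) :
    Cfsg.Agent.S0256.wedge (c • A) = (c * c) • Cfsg.Agent.S0256.wedge A := by
  ext a b
  simp [Cfsg.Agent.S0256.wedge]
  ring

theorem toO_center (z : Matrix.SpecialLinearGroup (Fin 4) F) (hz : z ∈ Subgroup.center _) :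
    ∃ c : F, ((toO z : GL (Fin 3 ⊕ Fin 3) F) : Matrix (Fin 3 ⊕ Fin 3) (Fin 3 ⊕ Fin 3) F) = c • 1 := by
  obtain ⟨c, -, e⟩ := Matrix.SpecialLinearGroup.mem_center_iff.1 hz
  refine ⟨c * c, ?_⟩
  rw [coe_toO]
  rw [← e, Matrix.scalar_apply, ← Matrix.smul_one_eq_diagonal, wedge_smul, Cfsg.Agent.S0256.wedge_one,
    Matrix.mul_smul, Matrix.smul_mul, Matrix.mul_one, sgn_mul_sgn]

theorem wedge_eq_one_of_toO {g : Matrix.SpecialLinearGroup (Fin 4) F} (h : toO g = 1) :
    Cfsg.Agent.S0256.wedge (g : Matrix (Fin 4) (Fin 4) F) = 1 := by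
  have h' : sgn * Cfsg.Agent.S0256.wedge (g : Matrix (Fin 4) (Fin 4) F) * sgn = 1 := by
    rw [← coe_toO, h, OneMemClass.coe_one, Units.val_one]
  have h'' := congrArg (fun X => (sgn : Matrix (Fin 3 ⊕ Fin 3) (Fin 3 ⊕ Fin 3) F) * X * sgn) h'
  simp only [Matrix.mul_assoc, sgn_mul_sgn, Matrix.mul_one] at h''
  rwa [← Matrix.mul_assoc, sgn_mul_sgn, Matrix.one_mul] at h''

theorem exists_wedge_ne_one : ∃ g : Matrix.SpecialLinearGroup (Fin 4) F, toO g ≠ 1 := by
  refine ⟨⟨!![1, 1, 0, 0; 0, 1, 0, 0; 0, 0, 1, 0; 0, 0, 0, 1], by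
    simp [Matrix.det_succ_row_zero, Fin.sum_univ_succ]⟩, fun h => ?_⟩
  have := congrFun (congrFun (wedge_eq_one_of_toO h) (.inl 1)) (.inr 2)
  simp [Cfsg.Agent.S0256.wedge, Cfsg.Agent.S0256.pr] at this

end Cfsg.Agent.Classical.Klein
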