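import Cfsg.Agent.Lib.Classical.PGOPlus

/-!
The similitude quotients of `PΩ⁻`.
-/

set_option autoImplicit false
set_option linter.style.haveILetI false
set_option linter.unusedSectionVars false

open Matrix QuadraticMap Module

namespace Cfsg.Agent.PGOMinus

open Cfsg.Agent.Classical Cfsg.Agent.Classical.Refl

universe u

variable {F : Type u} [Field F] {m : ℕ}

local notation "II" => (Fin m ⊕ Fin m) ⊕ Fin 2

/-- The minus form with the frozen function as its coercion. -/
def QMc (m : ℕ) (a b : F) : QuadraticForm F ((Fin m ⊕ Fin m) ⊕ Fin 2 → F) :=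
  (WittDec.QM m a b).copy (Cfsg.quadFormMinus m F a b) (funext fun v => (WittDec.QM_apply m a b v).symm)

theorem QMc_eq (a b : F) : QMc m a b = WittDec.QM m a b := QuadraticMap.copy_eq _ _ _

theorem QMc_apply (a b : F) (v : II → F) : QMc m a b v =
    (∑ i : Fin m, v (.inl (.inl i)) * v (.inl (.inr i))) +
      (v (.inr 0) ^ 2 + a * v (.inr 0) * v (.inr 1) + b * v (.inr 1) ^ 2) := rfl

/-- A plane vector. -/
def pv (p : Fin 2 → F) : II → F := Sum.elim 0 p

theorem polar_pv (a b : F) (p : Fin 2 → F) (v : II → F) : polar (QMc m a b) (pv p) v =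
    2 * (p 0 * v (.inr 0)) + a * (p 0 * v (.inr 1) + p 1 * v (.inr 0)) + 2 * (b * (p 1 * v (.inr 1))) := by
  simp only [polar, QMc_apply, pv, Pi.add_apply, Sum.elim_inl, Sum.elim_inr, Pi.zero_apply, zero_add, zero_mul,
    Finset.sum_const_zero]
  ring

theorem Q_pv (a b : F) (p : Fin 2 → F) : QMc m a b (pv p) = p 0 ^ 2 + a * p 0 * p 1 + b * p 1 ^ 2 := by
  simp [QMc_apply, pv]

/-- Multiplication by `x + y ω` on the plane. -/
def cmat (a b x y : F) : Matrix (Fin 2) (Fin 2) F := !![x, -(b * y); y, x + a * y]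

/-- The matrix of a similitude. -/
def tauMat (a b μ x y : F) : Matrix II II F := fromBlocks (PGOClasses.tmat μ) 0 0 (cmat a b x y)

theorem det_tauMat (a b μ x y : F) : (tauMat (m := m) a b μ x y).det = μ ^ m * (x ^ 2 + a * x * y + b * y ^ 2) := by
  rw [tauMat, det_fromBlocks_zero₂₁, cmat, Matrix.det_fin_two_of, PGOClasses.tmat, det_diagonal,
    Fintype.prod_sum_type]
  simp
  left
  ring

theorem tauMat_inl (a b μ x y : F) (v : II → F) (i : Fin m ⊕ Fin m) :
    (tauMat a b μ x y *ᵥ v) (.inl i) = Sum.elim (fun _ => μ) (fun _ => 1) i * v (.inl i) := by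
  rw [tauMat, fromBlocks_mulVec, Sum.elim_inl, zero_mulVec, add_zero, PGOClasses.tmat, mulVec_diagonal]
  rfl

theorem tauMat_inr (a b μ x y : F) (v : II → F) (i : Fin 2) :
    (tauMat a b μ x y *ᵥ v) (.inr i) = ![x * v (.inr 0) - b * y * v (.inr 1), y * v (.inr 0) + (x + a * y) * v (.inr 1)] i := by
  rw [tauMat, fromBlocks_mulVec, Sum.elim_inr, zero_mulVec, zero_add]
  fin_cases i <;> simp [cmat, Matrix.mulVec, dotProduct, Fin.sum_univ_two] <;> ring

theorem Q_tauMat {a b μ x y : F} (hN : x ^ 2 + a * x * y + b * y ^ 2 = μ) (v : II → F) :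
    QMc m a b (tauMat a b μ x y *ᵥ v) = μ * QMc m a b v := by
  simp only [QMc_apply, tauMat_inl, tauMat_inr, Sum.elim_inl, Sum.elim_inr, one_mul, Matrix.cons_val_zero,
    Matrix.cons_val_one, mul_assoc, ← Finset.mul_sum]
  linear_combination (v (.inr 0) ^ 2 + a * v (.inr 0) * v (.inr 1) + b * v (.inr 1) ^ 2) * hN

/-- The similitude of multiplier `μ`. -/
noncomputable def tau (a b : F) (μ : Fˣ) (x y : F) (hN : x ^ 2 + a * x * y + b * y ^ 2 = μ) :
    PGOQuot.Sim (QMc m a b) :=
  ⟨Matrix.GeneralLinearGroup.mkOfDetNeZero (tauMat a b (μ : F) x y)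
    (by rw [det_tauMat, hN]; exact mul_ne_zero (pow_ne_zero _ μ.ne_zero) μ.ne_zero), μ, Q_tauMat hN⟩

variable [Fintype F] {a b : F} (h2 : (2 : F) ≠ 0) (hm : 3 ≤ m)
  (hab : ∀ z₁ z₂ : F, z₁ ^ 2 + a * z₁ * z₂ + b * z₂ ^ 2 = 0 → z₁ = 0 ∧ z₂ = 0)

include hab in
theorem nondeg : (polarBilin (QMc m a b)).Nondegenerate := by
  rw [QMc_eq]; exact WittDec.QM_nondeg m a b hab

theorem card_II : Fintype.card ((Fin m ⊕ Fin m) ⊕ Fin 2) = 2 * (m + 1) := by
  rw [Fintype.card_sum, Fintype.card_sum, Fintype.card_fin, Fintype.card_fin]; omega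

include hm in
theorem four_le : 4 ≤ m + 1 := by omega

local notation "MU" => PGOQuot.mu (QMc m a b) (nondeg hab) h2 card_II (four_le hm)
local notation "EPS" => PGOQuot.eps (QMc m a b) (nondeg hab) h2 card_II (four_le hm)
local notation "PP" => PGOQuot.P (QMc m a b) (nondeg hab) h2 card_II (four_le hm)

theorem mu_tau (μ : Fˣ) (x y : F) (hN : x ^ 2 + a * x * y + b * y ^ 2 = μ) : MU (tau a b μ x y hN) = μ :=
  PGOQuot.mu_eq (QMc m a b) (nondeg hab) h2 card_II (four_le hm) _ (Q_tauMat hN)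

theorem eps_tau (μ : Fˣ) (x y : F) (hN : x ^ 2 + a * x * y + b * y ^ 2 = μ) : EPS (tau a b μ x y hN) = 1 := by
  rw [PGOQuot.eps_eq_one_iff, mu_tau h2 hm hab]
  refine (det_tauMat a b (μ : F) x y).trans ?_
  rw [hN, pow_succ]

theorem tau_notMem {μ : Fˣ} (hμ : ¬ IsSquare (μ : F)) (x y : F) (hN : x ^ 2 + a * x * y + b * y ^ 2 = μ) :
    tau a b μ x y hN ∉ PP := fun h => by
  obtain ⟨c, hc⟩ := Subgroup.mem_comap.1 h
  rw [mu_tau h2 hm hab] at hc
  exact hμ ⟨c, by rw [← hc]; simp [pow_two]⟩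

include h2 hab in
theorem exists_norm (μ : Fˣ) : ∃ x y : F, x ^ 2 + a * x * y + b * y ^ 2 = μ := by
  obtain ⟨v, hv⟩ := Refl.represents (WittDec.plane a b) (WittDec.plane_nondeg a b hab) h2 (by simp) μ.ne_zero
  exact ⟨v 0, v 1, by rw [← WittDec.plane_apply]; exact hv⟩

include h2 hab in
theorem kappa_iff : IsSquare (Disc.disc (QMc m a b) (Pi.basisFun F ((Fin m ⊕ Fin m) ⊕ Fin 2))) ↔
    (Even m ∧ Fintype.card F % 4 = 3) := by
  rw [QMc_eq, Disc.isSquare_disc_QM h2 m a b hab, Nat.even_add_one]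
  have := FiniteField.odd_card_of_char_ne_two (Refl.ringChar_ne_two h2)
  rcases Nat.even_or_odd m with h | h
  · simp only [h, not_true, false_or, true_and]
    omega
  · simp [Nat.not_even_iff_odd.2 h]

include h2 hm hab in
theorem tau_sq (x y : F) (hN : x ^ 2 + a * x * y + b * y ^ 2 = ((-1 : Fˣ) : F))
    (hκ : IsSquare (Disc.disc (QMc m a b) (Pi.basisFun F ((Fin m ⊕ Fin m) ⊕ Fin 2)))) :
    tau a b (-1) x y hN * tau a b (-1) x y hN ∉ PGOQuot.N (QMc m a b) := by
  have hN' : x ^ 2 + a * x * y + b * y ^ 2 = -1 := by rw [hN]; simp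
  set u : II → F := pv ![-a * x - 2 * b * y, 2 * x + a * y]
  set e : II → F := pv ![1, 0]
  have hQu : QMc m a b u = -(4 * b - a ^ 2) := by
    rw [Q_pv]; simp only [Matrix.cons_val_zero, Matrix.cons_val_one]; linear_combination (4 * b - a ^ 2) * hN'
  have hQe : QMc m a b e = 1 := by simp [e, Q_pv]
  have hns := Disc.plane_nonsquare a b h2 hab
  have hu : QMc m a b u ≠ 0 := by rw [hQu]; exact fun h => hns (h ▸ IsSquare.zero)
  have he : QMc m a b e ≠ 0 := by rw [hQe]; exact one_ne_zero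
  set k := Disc.reflList (QMc m a b) [⟨u, hu⟩, ⟨e, he⟩] with hk
  have heq : tau a b (-1) x y hN * tau a b (-1) x y hN = PGOQuot.sc (QMc m a b) 1 * PGOQuot.ofO (QMc m a b) k := by
    rw [map_one, one_mul]
    refine PGOQuot.matS_inj _ (Matrix.toLin'.injective (LinearMap.ext fun v => funext fun i => ?_))
    rw [Matrix.toLin'_apply, Matrix.toLin'_apply]
    show ((tauMat a b ((-1 : Fˣ) : F) x y * tauMat a b ((-1 : Fˣ) : F) x y) *ᵥ v) i =
      act (QMc m a b) (refl (QMc m a b) u hu * (refl (QMc m a b) e he * 1)) v i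
    rw [mul_one, act_mul, act_refl, act_refl, hQu, hQe, ← mulVec_mulVec, inv_one, one_mul]
    have hd : 4 * b - a ^ 2 ≠ 0 := fun h => hns (by rw [h, neg_zero]; exact IsSquare.zero)
    have hp : polar (QMc m a b) u (v - polar (QMc m a b) e v • e) =
        (4 * b - a ^ 2) * (y * v (.inr 0) + (x + a * y) * v (.inr 1)) := by
      simp only [u, e, polar_pv, Pi.sub_apply, Pi.smul_apply, smul_eq_mul]
      simp only [pv, Sum.elim_inr, Matrix.cons_val_zero, Matrix.cons_val_one]
      ring
    rw [hp, inv_neg, neg_mul, inv_mul_cancel_left₀ hd, Pi.sub_apply, Pi.sub_apply, Pi.smul_apply, Pi.smul_apply,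
      smul_eq_mul, smul_eq_mul]
    simp only [u, e, polar_pv, Matrix.cons_val_zero, Matrix.cons_val_one, Units.val_neg, Units.val_one]
    simp only [pv]
    rcases i with i | i
    · rw [tauMat_inl, tauMat_inl]
      rcases i with i | i <;> simp
    · rw [tauMat_inr, tauMat_inr, tauMat_inr]
      fin_cases i
      · simp only [Fin.zero_eta, Matrix.cons_val_zero, Matrix.cons_val_one, Sum.elim_inr]
        linear_combination (v (.inr 0) + a * v (.inr 1)) * hN'
      · simp only [Fin.mk_one, Matrix.cons_val_zero, Matrix.cons_val_one, Sum.elim_inr]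
        linear_combination -(v (.inr 1)) * hN'
  rw [heq, PGOQuot.mem_N_iff (QMc m a b) (nondeg hab) h2 card_II (four_le hm)]
  rintro ⟨-, h | h⟩
  · rw [hk, Disc.chi_reflList (QMc m a b) (nondeg hab) h2] at h
    simp only [List.length_cons, List.length_nil, List.map_cons, List.map_nil, List.prod_cons, List.prod_nil, hQu,
      hQe, mul_one, Disc.sgn] at h
    rw [if_neg] at h
    · exact absurd h (by decide)
    · simpa [hQu, hQe, mul_comm] using hns
  · exact h hκ

section ext

variable {K : Type u} [Field K] [Algebra F K]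

omit [Fintype F] in
theorem QM_map (v : II → F) : WittDec.QM m (algebraMap F K a) (algebraMap F K b) (algebraMap F K ∘ v) =
    algebraMap F K (QMc m a b v) := by
  rw [WittDec.QM_apply, QMc_apply]
  simp [Cfsg.quadFormMinus]

include h2 hm hab in
theorem crit (hK : finrank F K = 2) (g : PGOQuot.Sim (QMc m a b)) :
    Cfsg.PreservesSingularClasses (Cfsg.quadFormMinus m K (algebraMap F K a) (algebraMap F K b))
      ((PGOQuot.matS (QMc m a b) g).map (algebraMap F K)) ↔ EPS g = 1 := by
  classical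
  set ι := algebraMap F K
  have hinj : Function.Injective ι := ι.injective
  have h2K : (2 : K) ≠ 0 := fun h => h2 (hinj (by rw [map_ofNat, map_zero, h]))
  haveI : FiniteDimensional F K := Module.finite_of_finrank_eq_succ hK
  haveI : Finite K := Module.finite_of_finite F
  letI := Fintype.ofFinite K
  have hd : a ^ 2 - 4 * b ≠ 0 := fun h => Disc.plane_nonsquare a b h2 hab ⟨0, by linear_combination h⟩
  obtain ⟨w, hw⟩ : IsSquare (ι (a ^ 2 - 4 * b)) := by
    have hne : ι (a ^ 2 - 4 * b) ≠ 0 := fun h => hd (hinj (by rw [h, map_zero]))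
    have hodd : Odd (Fintype.card F) := Nat.odd_iff.2 (FiniteField.odd_card_of_char_ne_two (Refl.ringChar_ne_two h2))
    obtain ⟨r, hr⟩ := hodd
    rw [FiniteField.isSquare_iff (Refl.ringChar_ne_two h2K) hne, Module.card_eq_pow_finrank (K := F) (V := K), hK,
      show Fintype.card F ^ 2 / 2 = (Fintype.card F - 1) * (r + 1) by
        rw [hr, Nat.add_sub_cancel, show (2 * r + 1) ^ 2 = 2 * (2 * r * (r + 1)) + 1 by ring]; omega,
      pow_mul, ← map_pow, FiniteField.pow_card_sub_one_eq_one _ hd, map_one, one_pow]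
  have hw0 : w ≠ 0 := fun h => hd (hinj (by rw [hw, h, mul_zero, map_zero]))
  set r := (ι a + w) / 2
  set s := (ι a - w) / 2
  have hrs : r + s = ι a := by simp only [r, s]; field_simp; ring
  have hrs' : r * s = ι b := by
    simp only [r, s]; rw [map_sub, map_mul, map_pow, map_ofNat] at hw; field_simp; linear_combination hw
  let L : (II → K) →ₗ[K] PlusMax.V K (m + 1) :=
    { toFun := fun v => Sum.elim (Fin.snoc (fun i => v (.inl (.inl i))) (v (.inr 0) + r * v (.inr 1)))
        (Fin.snoc (fun i => v (.inl (.inr i))) (v (.inr 0) + s * v (.inr 1)))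
      map_add' := fun u v => funext fun k => by
        rcases k with k | k <;> induction k using Fin.lastCases <;> simp <;> ring
      map_smul' := fun c v => funext fun k => by
        rcases k with k | k <;> induction k using Fin.lastCases <;> simp <;> ring }
  have hLinj : Function.Injective L := by
    rw [← LinearMap.ker_eq_bot, Submodule.eq_bot_iff]
    intro v hv
    have hv' : L v = 0 := hv
    have e1 : ∀ i : Fin m, v (.inl (.inl i)) = 0 := fun i => by
      have := congrFun hv' (.inl i.castSucc); simpa [L] using this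
    have e2 : ∀ i : Fin m, v (.inl (.inr i)) = 0 := fun i => by
      have := congrFun hv' (.inr i.castSucc); simpa [L] using this
    have e3 : v (.inr 0) + r * v (.inr 1) = 0 := by have := congrFun hv' (.inl (Fin.last m)); simpa [L] using this
    have e4 : v (.inr 0) + s * v (.inr 1) = 0 := by have := congrFun hv' (.inr (Fin.last m)); simpa [L] using this
    have h1 : v (.inr 1) = 0 := by
      have : w * v (.inr 1) = 0 := by
        rw [show w = r - s by simp only [r, s]; field_simp; ring]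
        linear_combination e3 - e4
      exact (mul_eq_zero.1 this).resolve_left hw0
    have h0 : v (.inr 0) = 0 := by simpa [h1] using e3
    funext k
    rcases k with (k | k) | k
    · exact e1 k
    · exact e2 k
    · fin_cases k
      · exact h0
      · exact h1
  let Ψ := LinearEquiv.ofBijective L ⟨hLinj, (LinearMap.injective_iff_surjective_of_finrank_eq_finrank
    (by rw [PlusMax.finrank_V, finrank_pi, card_II])).1 hLinj⟩
  have hΨ : ∀ v, PlusMax.QP (Ψ v) = Cfsg.quadFormMinus m K (ι a) (ι b) v := fun v => by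
    show Cfsg.quadFormPlus (m + 1) K (L v) = _
    rw [Cfsg.quadFormPlus, Fin.sum_univ_castSucc, Cfsg.quadFormMinus]
    simp [L]
    linear_combination (v (.inr 0) * v (.inr 1)) * hrs + (v (.inr 1)) ^ 2 * hrs'
  set G : GL II K := Matrix.GeneralLinearGroup.map ι (g : GL II F)
  have hG : (G : Matrix II II K) = (PGOQuot.matS (QMc m a b) g).map ι := rfl
  set μ := ι ((MU g : Fˣ) : F)
  have hμ : μ ≠ 0 := fun h => (MU g).ne_zero (hinj (by rw [map_zero]; exact h))
  have hgv : ∀ v, Cfsg.quadFormMinus m K (ι a) (ι b) ((G : Matrix II II K) *ᵥ v) =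
      μ * Cfsg.quadFormMinus m K (ι a) (ι b) v := by
    have hb : polarBilin ((WittDec.QM m (ι a) (ι b)).comp (Matrix.mulVecLin (G : Matrix II II K))) =
        polarBilin (μ • WittDec.QM m (ι a) (ι b)) := by
      refine (Pi.basisFun K _).ext fun i => (Pi.basisFun K _).ext fun j => ?_
      have hs : ∀ k : II, (Pi.basisFun K _ k : II → K) = ι ∘ (Pi.single k 1 : II → F) := fun k => by
        funext l; by_cases h : l = k <;> simp [Pi.basisFun_apply, Pi.single_apply, h]
      have hGs : ∀ x : II → F, (G : Matrix II II K) *ᵥ (ι ∘ x) = ι ∘ (PGOQuot.matS (QMc m a b) g *ᵥ x) := fun x => by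
        funext l; exact (RingHom.map_mulVec ι _ x l).symm
      have hadd : ∀ x y : II → F, ι ∘ x + ι ∘ y = ι ∘ (x + y) := fun x y => by funext l; simp
      have hQ' : ∀ x : II → F, WittDec.QM m (ι a) (ι b) (ι ∘ x) = ι (QMc m a b x) := QM_map
      show polar _ _ _ = polar _ _ _
      simp only [polar, QuadraticMap.comp_apply, _root_.smul_apply, Matrix.mulVecLin_apply, hs, hadd, hGs,
        hQ', PGOQuot.mu_spec (QMc m a b) (nondeg hab) h2 card_II (four_le hm), map_mul, smul_eq_mul, μ]
    intro v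
    have h := LinearMap.congr_fun₂ hb v v
    simp only [polarBilin_apply_apply, WittExt.polar_self_eq, QuadraticMap.comp_apply, _root_.smul_apply,
      Matrix.mulVecLin_apply, smul_eq_mul, WittDec.QM_apply] at h
    exact mul_left_cancel₀ h2K h
  rw [← hG, PGOClasses.pres_iff h2K _ Ψ hΨ G hμ hgv, PGOQuot.eps_eq_one_iff, hG]
  show ((ι.mapMatrix) (PGOQuot.matS (QMc m a b) g)).det = μ ^ (m + 1) ↔ _
  rw [← RingHom.map_det, ← map_pow, hinj.eq_iff]

end ext

include h2 hm hab in
theorem inndiag_eq : Cfsg.inndiagPOmegaMinus m F a b = (EPS).ker.map (PGOQuot.D (QMc m a b)) := by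
  classical
  obtain ⟨c, hc⟩ := FiniteField.exists_nonsquare (Refl.ringChar_ne_two h2)
  have hirr : Irreducible (Polynomial.X ^ 2 - Polynomial.C c) :=
    X_pow_sub_C_irreducible_of_prime Nat.prime_two fun s hs => hc ⟨s, by rw [← hs, pow_two]⟩
  haveI := Fact.mk hirr
  have hdeg : finrank F (AdjoinRoot (Polynomial.X ^ 2 - Polynomial.C c)) = 2 := by
    rw [(AdjoinRoot.powerBasis hirr.ne_zero).finrank, AdjoinRoot.powerBasis_dim, Polynomial.natDegree_X_pow_sub_C]
  exact PGOQuot.aut_eq (QMc m a b) (Cfsg.IsInnerDiagonalAutPOmegaMinus m a b) _ fun β =>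
    ⟨fun ⟨g, hg, ⟨K, iK, iA, hK, hp⟩, e⟩ => ⟨⟨g, hg⟩, MonoidHom.mem_ker.2 ((@crit F _ m _ a b h2 hm hab K iK iA hK ⟨g, hg⟩).1 hp), e⟩,
      fun ⟨g, hg, e⟩ => ⟨g.1, g.2, ⟨_, inferInstance, inferInstance, hdeg,
        (crit h2 hm hab hdeg g).2 (MonoidHom.mem_ker.1 hg)⟩, e⟩⟩

end Cfsg.Agent.PGOMinus
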