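import Cfsg.Agent.Lib.Classical.Linear

/-!
Two dimensional linear groups: the action on the projective line, unipotent Sylow subgroups,
Cayley-Hamilton and semisimple elements.
-/

set_option autoImplicit false
set_option linter.style.haveILetI false

open scoped LinearAlgebra.Projectivization MatrixGroups
open Matrix

namespace Cfsg.Agent.Classical.SL2

variable {F : Type*} [Field F]

local notation "M2" => Matrix (Fin 2) (Fin 2) F

theorem coord {g h : M2} (h00 : g 0 0 = h 0 0) (h01 : g 0 1 = h 0 1) (h10 : g 1 0 = h 1 0)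
    (h11 : g 1 1 = h 1 1) : g = h := by
  ext i j; fin_cases i <;> fin_cases j <;> assumption

/-- Cayley-Hamilton in dimension two. -/
theorem sq_eq (g : M2) : g * g = g.trace • g - g.det • 1 := by
  apply coord <;> simp [Matrix.mul_apply, Fin.sum_univ_two, Matrix.trace, Matrix.det_fin_two] <;>
    ring

theorem coe_mul' (a b : SpecialLinearGroup (Fin 2) F) :
    ((a * b : SpecialLinearGroup (Fin 2) F) : M2) = (a : M2) * (b : M2) := rfl

theorem coe_pow' (a : SpecialLinearGroup (Fin 2) F) (k : ℕ) :
    ((a ^ k : SpecialLinearGroup (Fin 2) F) : M2) = (a : M2) ^ k := by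
  induction k with
  | zero => rfl
  | succ k ih => rw [pow_succ, coe_mul', ih, ← pow_succ]

theorem inv_eq (g : SpecialLinearGroup (Fin 2) F) :
    ((g⁻¹ : SpecialLinearGroup (Fin 2) F) : M2) = (g : M2).trace • 1 - (g : M2) := by
  show Matrix.adjugate (g : M2) = _
  apply coord <;> simp [Matrix.adjugate_fin_two, Matrix.trace, Fin.sum_univ_two]

/-- A non-scalar matrix is independent of the identity. -/
theorem eq_of_nonscalar {g : M2} (hg : ¬ ∃ a : F, g = a • 1) {x y x' y' : F}
    (h : x • (1 : M2) + y • g = x' • (1 : M2) + y' • g) : x = x' ∧ y = y' := by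
  have h' : (y - y') • g = (x' - x) • (1 : M2) := by
    rw [sub_smul, sub_smul]
    linear_combination (norm := module) h
  have hy : y = y' := by
    by_contra hne
    exact hg ⟨(y - y')⁻¹ * (x' - x), by
      rw [mul_smul, ← h', inv_smul_smul₀ (sub_ne_zero.2 hne)]⟩
  refine ⟨?_, hy⟩
  subst hy
  rw [sub_self, zero_smul] at h'
  have := congrFun (congrFun h'.symm 0) 0
  simp at this
  exact (sub_eq_zero.1 this).symm

/-- Commuting with a non-scalar matrix means being affine in it. -/
theorem exists_affine {g h : M2} (hg : ¬ ∃ a : F, g = a • 1) (hc : g * h = h * g) :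
    ∃ x y : F, h = x • (1 : M2) + y • g := by
  have e00 := congrFun (congrFun hc 0) 0
  have e01 := congrFun (congrFun hc 0) 1
  have e10 := congrFun (congrFun hc 1) 0
  simp only [Matrix.mul_apply, Fin.sum_univ_two] at e00 e01 e10
  by_cases hb : g 0 1 = 0
  · by_cases hcc : g 1 0 = 0
    · have hne : g 0 0 ≠ g 1 1 := fun h0 => hg ⟨g 0 0, by
        apply coord <;> simp [hb, hcc, h0]⟩
      have h01 : h 0 1 = 0 := by
        have : (g 0 0 - g 1 1) * h 0 1 = 0 := by rw [hb] at e01; linear_combination e01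
        simpa [sub_ne_zero.2 hne] using this
      have h10 : h 1 0 = 0 := by
        have : (g 1 1 - g 0 0) * h 1 0 = 0 := by rw [hcc] at e10; linear_combination e10
        simpa [sub_ne_zero.2 hne.symm] using this
      refine ⟨h 0 0 - (h 0 0 - h 1 1) / (g 0 0 - g 1 1) * g 0 0,
        (h 0 0 - h 1 1) / (g 0 0 - g 1 1), ?_⟩
      have := sub_ne_zero.2 hne
      apply coord <;> simp [h01, h10, hb, hcc]
      field_simp
      ring
    · refine ⟨h 0 0 - h 1 0 / g 1 0 * g 0 0, h 1 0 / g 1 0, ?_⟩
      apply coord <;> simp <;> field_simp <;> first | linear_combination e00 | linear_combination e10 | linear_combination -e10 | linear_combination -e00 | ring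
  · refine ⟨h 0 0 - h 0 1 / g 0 1 * g 0 0, h 0 1 / g 0 1, ?_⟩
    apply coord <;> simp <;> field_simp <;> first | linear_combination e00 | linear_combination e01 | linear_combination -e01 | linear_combination -e00 | ring

/-- The action on the projective line as permutations. -/
noncomputable def pointsHom [Fintype F] {n : ℕ} (hn : Fintype.card F + 1 = n) :
    Matrix.ProjectiveSpecialLinearGroup (Fin 2) F →* Equiv.Perm (Fin n) :=
  (Finite.equivFinOfCardEq (α := ℙ F (Fin 2 → F))
    (by rw [Projectivization.card_of_finrank_two F (Fin 2 → F) (by simp),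
      Nat.card_eq_fintype_card, hn])).permCongrHom.toMonoidHom.comp
    (MulAction.toPermHom _ _)

theorem pointsHom_injective [Fintype F] {n : ℕ} (hn : Fintype.card F + 1 = n) :
    Function.Injective (pointsHom (F := F) hn) :=
  (Equiv.permCongrHom _).injective.comp MulAction.toPerm_injective

theorem card_SL2 [Fintype F] :
    Nat.card (SpecialLinearGroup (Fin 2) F) =
      Fintype.card F * (Fintype.card F ^ 2 - 1) := by
  have h := card_GL_eq_mul_card_SL (F := F) (ι := Fin 2)
  rw [Matrix.card_GL_field] at h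
  simp only [Fin.prod_univ_two, Fin.val_zero, Fin.val_one, pow_zero, pow_one] at h
  have hq := Fintype.one_lt_card (α := F)
  refine Nat.eq_of_mul_eq_mul_left (show 0 < Fintype.card F - 1 by omega) ?_
  rw [← h]
  have : Fintype.card F ^ 2 - Fintype.card F = (Fintype.card F - 1) * Fintype.card F := by
    rw [Nat.sub_mul, one_mul, pow_two]
  rw [this]
  ring

theorem card_PSL2_mul [Fintype F] :
    Nat.gcd 2 (Fintype.card F - 1) * Nat.card (Matrix.ProjectiveSpecialLinearGroup (Fin 2) F) =
      Fintype.card F * (Fintype.card F ^ 2 - 1) := by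
  rw [← card_SL2]
  simpa using card_PSL_mul (F := F) (ι := Fin 2)

/-- Upper unitriangular elements. -/
def uT : Multiplicative F →* GL (Fin 2) F where
  toFun c := ⟨!![1, c.toAdd; 0, 1], !![1, -c.toAdd; 0, 1],
    by apply coord <;> simp [Matrix.mul_apply, Fin.sum_univ_two],
    by apply coord <;> simp [Matrix.mul_apply, Fin.sum_univ_two]⟩
  map_one' := Units.ext (by apply coord <;> simp)
  map_mul' a b := Units.ext (by
    apply coord <;> simp [Matrix.mul_apply, Fin.sum_univ_two, add_comm])

theorem uT_apply (c : F) :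
    ((uT (Multiplicative.ofAdd c) : GL (Fin 2) F) : M2) = !![1, c; 0, 1] := rfl

theorem uT_injective : Function.Injective (uT (F := F)) := fun a b h => by
  have := congrArg (fun u : GL (Fin 2) F => (u : M2) 0 1) h
  simpa [uT] using this

variable (F) in
/-- The unitriangular subgroup. -/
def U : Subgroup (GL (Fin 2) F) := (uT (F := F)).range

theorem mem_U_iff (g : GL (Fin 2) F) :
    g ∈ U F ↔ (g : M2) 0 0 = 1 ∧ (g : M2) 1 0 = 0 ∧ (g : M2) 1 1 = 1 := by
  constructor
  · rintro ⟨c, rfl⟩
    simp [uT]
  · rintro ⟨h1, h2, h3⟩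
    exact ⟨Multiplicative.ofAdd ((g : M2) 0 1),
      Units.ext (by apply coord <;> simp [uT, h1, h2, h3])⟩

theorem card_U [Fintype F] : Nat.card (U F) = Fintype.card F := by
  rw [U, ← Nat.card_congr (MonoidHom.ofInjective uT_injective).toEquiv,
    Nat.card_congr Multiplicative.toAdd, Nat.card_eq_fintype_card]

theorem mul_apply_GL (a b : GL (Fin 2) F) (i j : Fin 2) :
    ((a * b : GL (Fin 2) F) : M2) i j = (a : M2) i 0 * (b : M2) 0 j + (a : M2) i 1 * (b : M2) 1 j := by
  rw [GeneralLinearGroup.coe_mul, Matrix.mul_apply, Fin.sum_univ_two]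

/-- Conjugating a non-trivial unitriangular element into the unitriangular subgroup is done by
triangular matrices only. -/
theorem lower_eq_zero {g : GL (Fin 2) F} {u : GL (Fin 2) F} (hu : u ∈ U F) (hu1 : u ≠ 1)
    (h : g * u * g⁻¹ ∈ U F) : (g : M2) 1 0 = 0 := by
  obtain ⟨c, rfl⟩ := hu
  obtain ⟨d, hd⟩ := h
  have hc : c.toAdd ≠ 0 := fun h0 => hu1 (by
    have : c = 1 := by simpa using h0
    rw [this, map_one])
  have he : g * uT c = uT d * g := by rw [hd]; group
  have := congrArg (fun u : GL (Fin 2) F => (u : M2) 1 1) he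
  rw [mul_apply_GL, mul_apply_GL] at this
  simp [uT] at this
  exact this.resolve_right fun h => hc (by simp [h])

theorem mem_normalizer_U_iff (g : GL (Fin 2) F) :
    g ∈ Subgroup.normalizer (U F : Set (GL (Fin 2) F)) ↔ (g : M2) 1 0 = 0 := by
  have hd : ∀ g : GL (Fin 2) F, (g : M2) 1 0 = 0 → (g : M2) 0 0 ≠ 0 ∧ (g : M2) 1 1 ≠ 0 := by
    intro g hg
    have hdet : (g : M2).det ≠ 0 := ((Matrix.isUnit_iff_isUnit_det _).1 g.isUnit).ne_zero
    rw [Matrix.det_fin_two, hg, mul_zero, sub_zero] at hdet
    exact mul_ne_zero_iff.1 hdet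
  have hconj : ∀ g : GL (Fin 2) F, (g : M2) 1 0 = 0 → ∀ u ∈ U F, g * u * g⁻¹ ∈ U F := by
    intro g hg u hu
    obtain ⟨h0, h1⟩ := hd g hg
    obtain ⟨c, rfl⟩ := hu
    refine ⟨Multiplicative.ofAdd ((g : M2) 0 0 * c.toAdd / (g : M2) 1 1), ?_⟩
    rw [eq_mul_inv_iff_mul_eq]
    apply Units.ext
    apply coord <;> simp [mul_apply_GL, uT, hg]
    field_simp
    ring
  constructor
  · intro h
    have h1 : uT (Multiplicative.ofAdd (1 : F)) ∈ U F := ⟨_, rfl⟩
    refine lower_eq_zero h1 (fun h0 => ?_) ((Subgroup.mem_normalizer_iff.1 h _).1 h1)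
    simpa [uT] using congrArg (fun u : GL (Fin 2) F => (u : M2) 0 1) h0
  · intro h
    refine Subgroup.mem_normalizer_iff.2 fun u => ⟨hconj g h u, fun hu => ?_⟩
    have hi : ((g⁻¹ : GL (Fin 2) F) : M2) 1 0 = 0 := by
      rw [Matrix.coe_units_inv, Matrix.inv_def]
      simp [Matrix.adjugate_fin_two, h]
    have := hconj g⁻¹ hi _ hu
    rwa [inv_inv, ← mul_assoc, ← mul_assoc, inv_mul_cancel, one_mul, mul_assoc, inv_mul_cancel,
      mul_one] at this

/-- Coordinates of the triangular group. -/
noncomputable def borelEquiv : {g : GL (Fin 2) F // (g : M2) 1 0 = 0} ≃ Fˣ × Fˣ × F where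
  toFun g :=
    (Units.mk0 ((g.1 : M2) 0 0) (by
        intro h
        have := ((Matrix.isUnit_iff_isUnit_det _).1 g.1.isUnit).ne_zero
        simp [Matrix.det_fin_two, g.2, h] at this),
      Units.mk0 ((g.1 : M2) 1 1) (by
        intro h
        have := ((Matrix.isUnit_iff_isUnit_det _).1 g.1.isUnit).ne_zero
        simp [Matrix.det_fin_two, g.2, h] at this),
      (g.1 : M2) 0 1)
  invFun x := ⟨GeneralLinearGroup.mkOfDetNeZero !![(x.1 : F), x.2.2; 0, (x.2.1 : F)]
    (by simp [Matrix.det_fin_two]), by simp [GeneralLinearGroup.mkOfDetNeZero]⟩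
  left_inv g := Subtype.ext (Units.ext (by
    apply coord <;> simp [GeneralLinearGroup.mkOfDetNeZero, g.2]))
  right_inv x := by
    refine Prod.ext (Units.ext ?_) (Prod.ext (Units.ext ?_) ?_) <;>
      simp [GeneralLinearGroup.mkOfDetNeZero]

theorem card_normalizer_U [Fintype F] :
    Nat.card (Subgroup.normalizer (U F : Set (GL (Fin 2) F))) =
      Fintype.card F * (Fintype.card F - 1) ^ 2 := by
  rw [Nat.card_congr ((Equiv.subtypeEquivRight mem_normalizer_U_iff).trans borelEquiv),
    Nat.card_prod, Nat.card_prod, card_units_eq, Nat.card_eq_fintype_card]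
  ring

theorem card_GL2 [Fintype F] : Nat.card (GL (Fin 2) F) =
    Fintype.card F * ((Fintype.card F + 1) * (Fintype.card F - 1) ^ 2) := by
  rw [card_GL_eq_mul_card_SL, card_SL2]
  have : Fintype.card F ^ 2 - 1 = (Fintype.card F + 1) * (Fintype.card F - 1) := by
    simpa using Nat.sq_sub_sq (Fintype.card F) 1
  rw [this]
  ring

variable [Fintype F] (p : ℕ) [Fact p.Prime] [CharP F p]

theorem exists_card_eq : ∃ n : ℕ, 0 < n ∧ Fintype.card F = p ^ n := by
  obtain ⟨n, -, hn⟩ := FiniteField.card F p
  exact ⟨n, n.pos, hn⟩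

theorem not_dvd_cofactor :
    ¬ p ∣ (Fintype.card F + 1) * (Fintype.card F - 1) ^ 2 := by
  obtain ⟨n, hn, hq⟩ := exists_card_eq (F := F) p
  have hp : p.Prime := Fact.out
  have hpq : p ∣ Fintype.card F := hq ▸ dvd_pow_self p hn.ne'
  intro h
  rcases hp.dvd_mul.1 h with h | h
  · exact hp.one_lt.ne' (Nat.dvd_one.1 ((Nat.dvd_add_right hpq).1 h))
  · have h' := hp.dvd_of_dvd_pow h
    have := Nat.dvd_sub hpq h'
    rw [Nat.sub_sub_self (Fintype.card_pos)] at this
    exact hp.one_lt.ne' (Nat.dvd_one.1 this)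

/-- The unitriangular subgroup as a Sylow subgroup. -/
noncomputable def sylowU : Sylow p (GL (Fin 2) F) :=
  Sylow.ofCard (U F) (by
    obtain ⟨n, hn, hq⟩ := exists_card_eq (F := F) p
    have hp : p.Prime := Fact.out
    rw [card_U, card_GL2, hq, Nat.factorization_mul, Finsupp.add_apply, hp.factorization_pow,
      Finsupp.single_eq_same, Nat.factorization_eq_zero_of_not_dvd, add_zero]
    · exact hq ▸ not_dvd_cofactor p
    · exact pow_ne_zero _ hp.ne_zero
    · intro h
      exact not_dvd_cofactor (F := F) p (by rw [hq, h]; exact dvd_zero p))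

theorem sylowU_coe : ((sylowU (F := F) p : Sylow p (GL (Fin 2) F)) : Subgroup (GL (Fin 2) F)) = U F := rfl

/-- Every Sylow `p`-subgroup of `GL₂` is a conjugate of the unitriangular one. -/
theorem exists_conj_sylow (P : Sylow p (GL (Fin 2) F)) :
    ∃ g : GL (Fin 2) F, (P : Subgroup (GL (Fin 2) F)) = (U F).map (MulAut.conj g).toMonoidHom := by
  obtain ⟨g, rfl⟩ := MulAction.exists_smul_eq (GL (Fin 2) F) (sylowU p) P
  exact ⟨g, by rw [Sylow.coe_subgroup_smul, sylowU_coe]; rfl⟩

theorem card_sylow : Nat.card (Sylow p (GL (Fin 2) F)) = Fintype.card F + 1 := by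
  rw [(sylowU p).card_eq_index_normalizer]
  have h := Subgroup.index_mul_card (Subgroup.normalizer (U F : Set (GL (Fin 2) F)))
  rw [card_normalizer_U, card_GL2] at h
  have hq := Fintype.one_lt_card (α := F)
  refine Nat.eq_of_mul_eq_mul_right (m := Fintype.card F * (Fintype.card F - 1) ^ 2) ?_ ?_
  · have : 0 < Fintype.card F - 1 := by omega
    positivity
  · show (Subgroup.normalizer (U F : Set (GL (Fin 2) F))).index * _ = _
    rw [h]; ring

omit [Fact p.Prime] [CharP F p] in
/-- The centraliser of a non-trivial unitriangular element. -/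
theorem card_centralizer_U {u : GL (Fin 2) F} (hu : u ∈ U F) (hu1 : u ≠ 1) :
    Nat.card (Subgroup.centralizer ({u} : Set (GL (Fin 2) F))) =
      Fintype.card F * (Fintype.card F - 1) := by
  obtain ⟨c, rfl⟩ := hu
  have hc : c.toAdd ≠ 0 := fun h0 => hu1 (by
    have : c = 1 := by simpa using h0
    rw [this, map_one])
  have hiff : ∀ g : GL (Fin 2) F, g ∈ Subgroup.centralizer ({uT c} : Set (GL (Fin 2) F)) ↔
      (g : M2) 1 0 = 0 ∧ (g : M2) 0 0 = (g : M2) 1 1 := by
    intro g
    rw [Subgroup.mem_centralizer_singleton_iff, Units.ext_iff]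
    constructor
    · intro h
      have e0 := congrFun (congrFun h 0) 0
      have e1 := congrFun (congrFun h 0) 1
      simp only [mul_apply_GL] at e0 e1
      simp [uT, hc] at e0 e1
      refine ⟨e0, mul_right_cancel₀ hc ?_⟩
      linear_combination e1
    · rintro ⟨h0, h1⟩
      apply coord <;> simp [mul_apply_GL, uT, h0, h1] <;> ring
  let e : Subgroup.centralizer ({uT c} : Set (GL (Fin 2) F)) ≃ Fˣ × F :=
    { toFun := fun g => (Units.mk0 ((g.1 : M2) 0 0) (by
        intro h
        have := ((Matrix.isUnit_iff_isUnit_det _).1 g.1.isUnit).ne_zero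
        obtain ⟨h0, h1⟩ := (hiff g.1).1 g.2
        simp [Matrix.det_fin_two, h0, h] at this), (g.1 : M2) 0 1)
      invFun := fun x => ⟨GeneralLinearGroup.mkOfDetNeZero !![(x.1 : F), x.2; 0, (x.1 : F)]
        (by simp [Matrix.det_fin_two]), (hiff _).2 (by simp [GeneralLinearGroup.mkOfDetNeZero])⟩
      left_inv := fun g => Subtype.ext (Units.ext (by
        obtain ⟨h0, h1⟩ := (hiff g.1).1 g.2
        apply coord <;> simp [GeneralLinearGroup.mkOfDetNeZero, h0, h1]))
      right_inv := fun x => by
        refine Prod.ext (Units.ext ?_) ?_ <;> simp [GeneralLinearGroup.mkOfDetNeZero] }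
  rw [Nat.card_congr e, Nat.card_prod, card_units_eq, Nat.card_eq_fintype_card, mul_comm]

set_option maxHeartbeats 1000000 in
/-- An element of order prime to `p` is killed by `q - 1` or `q + 1`. -/
theorem pow_pred_or_succ (g : SpecialLinearGroup (Fin 2) F) (hg : (orderOf g).Coprime p) :
    g ^ (Fintype.card F - 1) = 1 ∨ g ^ (Fintype.card F + 1) = 1 := by
  obtain ⟨n, hn, hq⟩ := exists_card_eq (F := F) p
  set q := Fintype.card F with hqdef
  have hq1 : 1 ≤ q := Fintype.card_pos
  obtain ⟨k, hk⟩ := exists_pow_eq_self_of_coprime (n := q) (x := g) (by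
    rw [hq]; exact (Nat.Coprime.pow_left n hg.symm).symm.symm)
  by_cases hsc : ∃ a : F, (g : M2) = a • 1
  · left
    obtain ⟨a, ha⟩ := hsc
    have hdet := g.2
    rw [ha, Matrix.det_smul, Matrix.det_one, mul_one, Fintype.card_fin] at hdet
    have ha0 : a ≠ 0 := fun h => by simp [h] at hdet
    refine Subtype.ext ?_
    rw [coe_pow', ha, smul_pow, one_pow,
      FiniteField.pow_card_sub_one_eq_one a ha0, one_smul]
    rfl
  -- the q-th power is affine in `g`
  set t := (g : M2).trace with ht
  have hsq : (g : M2) * (g : M2) = t • (g : M2) - 1 := by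
    have := sq_eq (g : M2)
    rwa [g.2, one_smul] at this
  obtain ⟨x, y, hxy⟩ := exists_affine (h := ((g ^ q : SpecialLinearGroup (Fin 2) F) : M2)) hsc
    (by rw [← coe_mul', ← coe_mul', ← pow_succ',
      ← pow_succ])
  have hnsc : y ≠ 0 := fun hy => hsc ⟨x ^ k, by
    rw [hy, zero_smul, add_zero] at hxy
    conv_lhs => rw [← hk]
    rw [coe_pow', hxy, smul_pow, one_pow]⟩
  -- apply Frobenius to the characteristic equation
  haveI : CharP M2 p := inferInstance
  have hfrob : ((g ^ q : SpecialLinearGroup (Fin 2) F) : M2) *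
      ((g ^ q : SpecialLinearGroup (Fin 2) F) : M2) =
      t • ((g ^ q : SpecialLinearGroup (Fin 2) F) : M2) - 1 := by
    rw [coe_pow', ← (Commute.refl (g : M2)).mul_pow, hsq]
    have hc : Commute (t • (g : M2)) (1 : M2) := Commute.one_right _
    rw [hq, sub_pow_char_pow_of_commute p n hc, ← hq, smul_pow, one_pow, FiniteField.pow_card]
  rw [hxy] at hfrob
  have hexp : (x • (1 : M2) + y • (g : M2)) * (x • (1 : M2) + y • (g : M2)) =
      (x * x - y * y) • (1 : M2) + (2 * x * y + y * y * t) • (g : M2) := by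
    simp only [mul_add, add_mul, smul_mul_smul_comm, one_mul, mul_one, hsq, smul_sub, smul_smul]
    module
  have hrhs : t • (x • (1 : M2) + y • (g : M2)) - 1 =
      (t * x - 1) • (1 : M2) + (t * y) • (g : M2) := by module
  rw [hexp, hrhs] at hfrob
  obtain ⟨e1, e2⟩ := eq_of_nonscalar hsc hfrob
  have e2' : 2 * x + y * t = t := mul_right_cancel₀ hnsc (by linear_combination e2)
  have hy : y = 1 ∨ (y = -1 ∧ (2 : F) ≠ 0) ∨ (t ^ 2 = 4 ∧ (2 : F) ≠ 0) ∨ ((2 : F) = 0 ∧ t = 0) := by
    by_cases h2 : (2 : F) = 0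
    · rw [h2, zero_mul, zero_add] at e2'
      by_cases ht0 : t = 0
      · exact Or.inr (Or.inr (Or.inr ⟨h2, ht0⟩))
      · exact Or.inl (mul_right_cancel₀ ht0 (by rw [e2', one_mul]))
    · have : (y ^ 2 - 1) * (t ^ 2 - 4) = 0 := by
        have hx : 2 * x = t * (1 - y) := by linear_combination e2'
        linear_combination 4 * e1 - (2 * x + t * (1 - y) - 2 * t) * hx
      rcases mul_eq_zero.1 this with h | h
      · rcases sq_eq_one_iff.1 (sub_eq_zero.1 h) with h | h
        · exact Or.inl h
        · exact Or.inr (Or.inl ⟨h, h2⟩)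
      · exact Or.inr (Or.inr (Or.inl ⟨sub_eq_zero.1 h, h2⟩))
  rcases hy with rfl | ⟨rfl, h2⟩ | ⟨ht4, h2⟩ | ⟨h2, ht0⟩
  · have hx : x * (x - t) = 0 := by linear_combination e1
    have h2x : (2 : F) * x = 0 := by linear_combination e2'
    by_cases hx0 : x = 0
    · left
      have hgq : g ^ q = g := Subtype.ext (by rw [hxy, hx0, zero_smul, zero_add, one_smul])
      have : g ^ (q - 1) * g = g := by rw [← pow_succ, Nat.sub_add_cancel hq1, hgq]
      simpa using this
    · right
      have hxt : x = t := sub_eq_zero.1 ((mul_eq_zero.1 hx).resolve_left hx0)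
      have h2 : (2 : F) = 0 := (mul_eq_zero.1 h2x).resolve_right hx0
      have hgq : g ^ q = g⁻¹ := Subtype.ext (by
        have hneg : -(g : M2) = (g : M2) := by
          rw [neg_eq_iff_add_eq_zero, ← two_smul F (g : M2), h2, zero_smul]
        rw [hxy, inv_eq, one_smul, ← ht, hxt, sub_eq_add_neg, hneg])
      rw [pow_succ, hgq, inv_mul_cancel]
  · right
    have hx : x = t := mul_left_cancel₀ h2 (by linear_combination e2')
    subst hx
    have hgq : g ^ q = g⁻¹ := Subtype.ext (by rw [hxy, inv_eq, neg_smul, one_smul, ← sub_eq_add_neg])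
    rw [pow_succ, hgq, inv_mul_cancel]
  all_goals exfalso
  · -- trace `±2`: unipotent up to sign
    obtain ⟨e, he, he'⟩ : ∃ e : F, e * e = 1 ∧ t = 2 * e := by
      refine ⟨t / 2, ?_, by field_simp⟩
      field_simp
      linear_combination ht4
    have hN : ((g : M2) - e • 1) * ((g : M2) - e • 1) = 0 := by
      have hx : ((g : M2) - e • 1) * ((g : M2) - e • 1) =
          (g : M2) * (g : M2) - (2 * e) • (g : M2) + (e * e) • (1 : M2) := by
        simp only [sub_mul, mul_sub, smul_mul_assoc, mul_smul_comm, one_mul, mul_one]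
        module
      rw [hx, hsq, he, ← he']
      module
    have hpow : ((g : M2)) ^ p = (e ^ p) • (1 : M2) := by
      have hz : ((g : M2) - e • 1) ^ p = 0 := by
        obtain ⟨j, hj⟩ := Nat.exists_eq_add_of_le (Fact.out : p.Prime).two_le
        rw [hj, pow_add, pow_two, hN, zero_mul]
      rw [sub_pow_char_of_commute p ((Commute.one_right _).smul_right e), sub_eq_zero] at hz
      rw [hz, smul_pow, one_pow]
    obtain ⟨j, hj⟩ := exists_pow_eq_self_of_coprime (n := p) (x := g) hg.symm
    apply hsc
    refine ⟨(e ^ p) ^ j, ?_⟩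
    conv_lhs => rw [← hj]
    rw [coe_pow', coe_pow', hpow, smul_pow, one_pow]
  · apply hsc
    refine ⟨1, ?_⟩
    have hg2 : g ^ 2 = 1 := Subtype.ext (by
      rw [coe_pow', pow_two, hsq, ht0, zero_smul, zero_sub]
      show (-1 : M2) = 1
      apply coord <;> simp <;> linear_combination -h2)
    have hp2 : p = 2 := by
      have h' := (CharP.cast_eq_zero_iff F p 2).1 (by exact_mod_cast h2)
      exact (Nat.prime_dvd_prime_iff_eq Fact.out Nat.prime_two).1 h'
    have : orderOf g = 1 := by
      refine Nat.eq_one_of_dvd_coprimes hg dvd_rfl ?_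
      exact hp2 ▸ orderOf_dvd_of_pow_eq_one hg2
    rw [orderOf_eq_one_iff.1 this]
    simp

/-- A subgroup of order prime to `p` with a non-scalar central element is cyclic. -/
theorem isCyclic_of_central (H : Subgroup (SpecialLinearGroup (Fin 2) F)) (hH : (Nat.card H).Coprime p)
    (z : SpecialLinearGroup (Fin 2) F) (hzs : ¬ ∃ a : F, (z : M2) = a • 1)
    (hz : ∀ h ∈ H, z * h = h * z) : IsCyclic H := by
  classical
  haveI : IsAlgClosed (AlgebraicClosure F) := inferInstance
  let φ := algebraMap F (AlgebraicClosure F)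
  obtain ⟨l, hl⟩ := IsAlgClosed.exists_root
    ((Polynomial.X ^ 2 - Polynomial.C (φ (z : M2).trace) * Polynomial.X + 1 :
      Polynomial (AlgebraicClosure F))) (by
    rw [show (Polynomial.X ^ 2 - Polynomial.C (φ (z : M2).trace) * Polynomial.X + 1 :
      Polynomial (AlgebraicClosure F)) = Polynomial.C 1 * Polynomial.X ^ 2 +
        Polynomial.C (-(φ (z : M2).trace)) * Polynomial.X + Polynomial.C 1 by
          simp; ring, Polynomial.degree_quadratic one_ne_zero]
    decide)
  simp at hl
  have hz2 : (z : M2) * (z : M2) = (z : M2).trace • (z : M2) - 1 := by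
    have := sq_eq (z : M2)
    rwa [z.2, one_smul] at this
  choose x y hxy using fun h : H => exists_affine hzs
    (h := ((h : SpecialLinearGroup (Fin 2) F) : M2))
    (by rw [← coe_mul', hz h h.2, coe_mul'])
  have hf1 : ∀ a, a = (1 : H) → x a = 1 ∧ y a = 0 := by
    rintro a rfl
    refine eq_of_nonscalar hzs ?_
    rw [← hxy, zero_smul, add_zero, one_smul]
    rfl
  let f : H →* AlgebraicClosure F :=
    { toFun := fun h => φ (x h) + φ (y h) * l
      map_one' := by simp [(hf1 1 rfl).1, (hf1 1 rfl).2]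
      map_mul' := fun a b => by
        have hprod : ((a * b : H) : SpecialLinearGroup (Fin 2) F) = (a : SpecialLinearGroup (Fin 2) F) * b := rfl
        have e := hxy (a * b)
        rw [hprod, coe_mul', hxy a, hxy b] at e
        have hexp : (x a • (1 : M2) + y a • (z : M2)) * (x b • (1 : M2) + y b • (z : M2)) =
            (x a * x b - y a * y b) • (1 : M2) +
              (x a * y b + y a * x b + y a * y b * (z : M2).trace) • (z : M2) := by
          simp only [mul_add, add_mul, smul_mul_smul_comm, one_mul, mul_one, hz2, smul_sub,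
            smul_smul]
          module
        rw [hexp] at e
        obtain ⟨e1, e2⟩ := eq_of_nonscalar hzs e
        show φ (x (a * b)) + φ (y (a * b)) * l = _
        rw [← e1, ← e2]
        simp only [map_sub, map_add, map_mul]
        linear_combination (-(φ (y a)) * φ (y b)) * hl }
  refine isCyclic_of_subgroup_isDomain f ((injective_iff_map_eq_one f).2 fun a ha => ?_)
  -- eigenvalue one means unipotent
  have hd := (a : SpecialLinearGroup (Fin 2) F).2
  have htr : ((a : SpecialLinearGroup (Fin 2) F) : M2).trace = 2 * x a + y a * (z : M2).trace := by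
    rw [hxy a, Matrix.trace_add, Matrix.trace_smul, Matrix.trace_smul, Matrix.trace_one]
    simp; ring
  have hdet : x a * x a + x a * y a * (z : M2).trace + y a * y a = 1 := by
    have hzd := z.2
    rw [Matrix.det_fin_two] at hd hzd
    rw [hxy a] at hd
    simp at hd
    rw [Matrix.trace_fin_two]
    linear_combination hd - (y a * y a) * hzd
  change φ (x a) + φ (y a) * l = 1 at ha
  have ht2 : ((a : SpecialLinearGroup (Fin 2) F) : M2).trace = 2 := by
    apply φ.injective
    rw [htr, map_add, map_mul, map_mul, map_ofNat]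
    have hd' := congrArg φ hdet
    simp only [map_add, map_mul, map_one] at hd'
    -- the other eigenvalue is also one
    have : (φ (x a) + φ (y a) * l) * (φ (x a) + φ (y a) * (φ (z : M2).trace - l)) = 1 := by
      linear_combination hd' - (φ (y a) * φ (y a)) * hl
    rw [ha, one_mul] at this
    linear_combination ha + this
  have hu : (((a : SpecialLinearGroup (Fin 2) F) : M2) - 1) *
      (((a : SpecialLinearGroup (Fin 2) F) : M2) - 1) = 0 := by
    have := sq_eq ((a : SpecialLinearGroup (Fin 2) F) : M2)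
    rw [(a : SpecialLinearGroup (Fin 2) F).2, ht2, one_smul] at this
    simp only [sub_mul, mul_sub, one_mul, mul_one, this]
    module
  have hpow : (a : SpecialLinearGroup (Fin 2) F) ^ p = 1 := Subtype.ext (by
    have hz0 : (((a : SpecialLinearGroup (Fin 2) F) : M2) - 1) ^ p = 0 := by
      obtain ⟨j, hj⟩ := Nat.exists_eq_add_of_le (Fact.out : p.Prime).two_le
      rw [hj, pow_add, pow_two, hu, zero_mul]
    rw [sub_pow_char_of_commute p (Commute.one_right _), sub_eq_zero, one_pow] at hz0
    rw [coe_pow', hz0]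
    rfl)
  rw [← orderOf_eq_one_iff]
  refine Nat.eq_one_of_dvd_coprimes hH (orderOf_dvd_natCard a) ?_
  exact orderOf_dvd_of_pow_eq_one (Subtype.ext (by simpa using hpow))

end Cfsg.Agent.Classical.SL2
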