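import Cfsg.Agent.Lib.Classical.Reflections

/-!
The Dickson invariant and, in odd characteristic, spinor characters of finite orthogonal groups.
-/

set_option autoImplicit false
set_option linter.style.haveILetI false

open Matrix QuadraticMap Module

namespace Cfsg.Agent.Classical.Refl

variable {F : Type*} [Field F] [Fintype F] {ι : Type} [Fintype ι] [DecidableEq ι] (Q : QuadraticForm F (ι → F))

theorem act_one (y : ι → F) : act Q 1 y = y := Matrix.one_mulVec y

theorem act_ext {g h : O Q} (e : ∀ y, act Q g y = act Q h y) : g = h :=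
  Subtype.ext (Units.ext (Matrix.toLin'.injective (LinearMap.ext fun y => by
    simpa [act] using e y)))

theorem refl_refl (v : ι → F) (hv : Q v ≠ 0) (y : ι → F) :
    act Q (refl Q v hv) (act Q (refl Q v hv) y) = y := by
  rw [act_refl, act_refl, polar_sub_right, polar_smul_right, polar_self, nsmul_eq_mul, smul_eq_mul,
    sub_sub, ← add_smul]
  have : (Q v)⁻¹ * polar Q v y + (Q v)⁻¹ * (polar Q v y -
      (Q v)⁻¹ * polar Q v y * (((2 : ℕ) : F) * Q v)) = 0 := by
    field_simp; push_cast; ring
  rw [this, zero_smul, sub_zero]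

theorem refl_inv (v : ι → F) (hv : Q v ≠ 0) : (refl Q v hv)⁻¹ = refl Q v hv :=
  inv_eq_of_mul_eq_one_right (act_ext Q fun y => by rw [act_mul, refl_refl, act_one])

theorem refl_mul_self (v : ι → F) (hv : Q v ≠ 0) : refl Q v hv * refl Q v hv = 1 :=
  act_ext Q fun y => by rw [act_mul, refl_refl, act_one]

theorem refl_conj (g : O Q) (v : ι → F) (hv : Q v ≠ 0) :
    g * refl Q v hv * g⁻¹ = refl Q (act Q g v) (by rwa [Q_act]) := by
  refine act_ext Q fun y => ?_
  rw [act_mul, act_mul, act_refl, act_refl, Q_act]
  conv_rhs => rw [← act_inv Q g y]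
  rw [polar_act, act_inv]
  show ((g : GL ι F) : Matrix ι ι F) *ᵥ (_ - _ • v) = _
  rw [Matrix.mulVec_sub, Matrix.mulVec_smul]
  show act Q g (act Q g⁻¹ y) - _ = _
  rw [act_inv]
  rfl

theorem refl_smul (v : ι → F) (hv : Q v ≠ 0) {t : F} (ht : t ≠ 0) :
    refl Q (t • v) (by rw [QuadraticMap.map_smul, smul_eq_mul]; exact mul_ne_zero (mul_ne_zero ht ht) hv) =
      refl Q v hv := by
  refine act_ext Q fun y => ?_
  rw [act_refl, act_refl, QuadraticMap.map_smul, polar_smul_left, smul_smul, smul_eq_mul, smul_eq_mul]
  congr 2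
  field_simp

variable (hQ : (polarBilin Q).Nondegenerate)

section dickson

include hQ

theorem fix_refl_mul (g : O Q) (v : ι → F) (hv : Q v ≠ 0) :
    finrank F (Fix Q (refl Q v hv * g)) = finrank F (Fix Q g) + 1 ∨
      finrank F (Fix Q g) = finrank F (Fix Q (refl Q v hv * g)) + 1 := by
  have hmem : ∀ h : O Q, ∀ y, y ∈ Fix Q h → polar Q v y = 0 → y ∈ Fix Q (refl Q v hv * h) := by
    intro h y hy h0
    rw [mem_Fix] at hy ⊢
    rw [act_mul, hy, act_refl, h0, mul_zero, zero_smul, sub_zero]
  have hback : ∀ y, act Q (refl Q v hv * g) y = y → act Q g y = y - ((Q v)⁻¹ * polar Q v y) • v := by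
    intro y hy
    conv_rhs => rw [← act_refl Q v hv y]
    rw [← congrArg (act Q (refl Q v hv)) hy, act_mul, refl_refl]
  have hcod : ∀ S : Submodule F (ι → F), finrank F S ≤ finrank F ↥(S ⊓ LinearMap.ker (polarBilin Q v)) + 1 := by
    intro S
    have h1 := Submodule.finrank_sup_add_finrank_inf_eq S (LinearMap.ker (polarBilin Q v))
    have h2 := le_finrank_ker (polarBilin Q v)
    have h3 := Submodule.finrank_le (S ⊔ LinearMap.ker (polarBilin Q v))
    rw [finrank_pi] at h3
    omega
  by_cases hv' : v ∈ LinearMap.range (lin Q g - LinearMap.id)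
  · left
    obtain ⟨x, hx⟩ := hv'
    rw [LinearMap.sub_apply, LinearMap.id_apply, lin_apply] at hx
    subst hx
    have hxmem : x ∈ Fix Q (refl Q _ hv * g) := by
      rw [mem_Fix, act_mul, act_refl_back Q (Q_act Q g x)]
    have hle : Fix Q g ≤ Fix Q (refl Q _ hv * g) := fun y hy => hmem g y hy (by
      rw [mem_Fix] at hy
      rw [polar_sub_left]
      conv_lhs => arg 1; rw [← hy, polar_act]
      rw [sub_self])
    have hlt : Fix Q g < Fix Q (refl Q _ hv * g) := lt_of_le_of_ne hle fun e => hv (by
      rw [← e, mem_Fix] at hxmem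
      rw [hxmem, sub_self, QuadraticMap.map_zero])
    have h1 := Submodule.finrank_lt_finrank_of_lt hlt
    have h2 := hcod (Fix Q (refl Q _ hv * g))
    have h3 : finrank F ↥(Fix Q (refl Q _ hv * g) ⊓ LinearMap.ker (polarBilin Q (act Q g x - x))) ≤ finrank F (Fix Q g) := by
      refine Submodule.finrank_mono fun y hy => ?_
      obtain ⟨hy1, hy2⟩ := Submodule.mem_inf.1 hy
      rw [mem_Fix] at hy1 ⊢
      have h0 : polar Q (act Q g x - x) y = 0 := hy2
      rw [hback y hy1, h0, mul_zero, zero_smul, sub_zero]
    omega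
  · right
    have heq : Fix Q (refl Q v hv * g) = Fix Q g ⊓ LinearMap.ker (polarBilin Q v) := by
      apply le_antisymm
      · intro y hy
        have hy' := hback y ((mem_Fix Q _ y).1 hy)
        have h0 : polar Q v y = 0 := by
          by_contra h0
          apply hv'
          refine ⟨(-((Q v)⁻¹ * polar Q v y))⁻¹ • y, ?_⟩
          rw [LinearMap.map_smul, LinearMap.sub_apply, LinearMap.id_apply, lin_apply, hy', sub_sub_cancel_left,
            ← neg_smul, inv_smul_smul₀ (neg_ne_zero.2 (mul_ne_zero (inv_ne_zero hv) h0))]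
        refine ⟨?_, h0⟩
        rw [SetLike.mem_coe, mem_Fix, hy', h0, mul_zero, zero_smul, sub_zero]
      · intro y hy
        exact hmem g y hy.1 hy.2
    have hrange : LinearMap.range (lin Q g - LinearMap.id) =
        LinearMap.BilinForm.orthogonal (polarBilin Q) (Fix Q g) := by
      refine Submodule.eq_of_le_of_finrank_le ?_ ?_
      · rintro _ ⟨x, rfl⟩ k hk
        show polar Q k ((lin Q g - LinearMap.id : (ι → F) →ₗ[F] _) x) = 0
        rw [LinearMap.sub_apply, LinearMap.id_apply, lin_apply, polar_sub_right]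
        conv_lhs => arg 1; rw [← (mem_Fix Q g k).1 hk, polar_act]
        rw [sub_self]
      · have h1 := LinearMap.finrank_range_add_finrank_ker (lin Q g - LinearMap.id)
        have h2 := LinearMap.BilinForm.finrank_orthogonal hQ (Fix Q g)
        have h3 := Submodule.finrank_le (Fix Q g)
        rw [finrank_pi] at h1 h2 h3
        change finrank F _ + finrank F (Fix Q g) = _ at h1
        omega
    have hlt : Fix Q (refl Q v hv * g) < Fix Q g := by
      refine lt_of_le_of_ne (heq ▸ inf_le_left) fun e => hv' ?_
      rw [hrange]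
      intro k hk
      show polar Q k v = 0
      rw [← e, heq] at hk
      rw [polar_comm]; exact hk.2
    have h1 := Submodule.finrank_lt_finrank_of_lt hlt
    have h2 := hcod (Fix Q g)
    rw [← heq] at h2
    omega

end dickson

/-- The Dickson sign. -/
noncomputable def dsign (g : O Q) : ℤˣ := (-1) ^ (Fintype.card ι + finrank F (Fix Q g))

theorem dsign_one : dsign Q 1 = 1 := by
  have h : Fix Q 1 = ⊤ := eq_top_iff.2 fun y _ => (mem_Fix Q 1 y).2 (act_one Q y)
  rw [dsign, h, finrank_top, finrank_pi, ← two_mul, pow_mul, Int.units_sq, one_pow]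

include hQ in
theorem dsign_refl_mul (g : O Q) (v : ι → F) (hv : Q v ≠ 0) : dsign Q (refl Q v hv * g) = -dsign Q g := by
  rcases fix_refl_mul Q hQ g v hv with h | h
  · rw [dsign, dsign, h, ← add_assoc, pow_succ, mul_neg, mul_one]
  · rw [dsign, dsign, h, ← add_assoc, pow_succ, mul_neg, mul_one, neg_neg]

include hQ in
theorem dsign_mul (hex : Fintype.card F ≠ 2 ∨ Fintype.card ι ≠ 4) (g h : O Q) :
    dsign Q (g * h) = dsign Q g * dsign Q h := by
  have key : ∀ g ∈ R Q, ∀ h, dsign Q (g * h) = dsign Q g * dsign Q h := by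
    intro g hg
    induction hg using Subgroup.closure_induction_left with
    | one => intro h; rw [one_mul, dsign_one, one_mul]
    | mul_left x hx y _ ih =>
      obtain ⟨v, hv, he⟩ := hx
      obtain rfl : x = refl Q v hv := Subtype.ext (Units.ext he)
      intro h
      rw [mul_assoc, dsign_refl_mul Q hQ, dsign_refl_mul Q hQ, ih, neg_mul]
    | inv_mul_cancel x hx y _ ih =>
      obtain ⟨v, hv, he⟩ := hx
      obtain rfl : x = refl Q v hv := Subtype.ext (Units.ext he)
      intro h
      rw [refl_inv, mul_assoc, dsign_refl_mul Q hQ, dsign_refl_mul Q hQ, ih, neg_mul]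
  exact key g (eq_top Q hQ hex ▸ Subgroup.mem_top g) h

/-- The Dickson homomorphism. -/
noncomputable def dickson (hQ : (polarBilin Q).Nondegenerate)
    (hex : Fintype.card F ≠ 2 ∨ Fintype.card ι ≠ 4) : O Q →* ℤˣ :=
  MonoidHom.mk' (dsign Q) (dsign_mul Q hQ hex)

theorem dickson_refl (hex : Fintype.card F ≠ 2 ∨ Fintype.card ι ≠ 4) (v : ι → F) (hv : Q v ≠ 0) :
    dickson Q hQ hex (refl Q v hv) = -1 := by
  show dsign Q _ = _
  rw [← mul_one (refl Q v hv), dsign_refl_mul Q hQ, dsign_one]

/-! ### Spinor characters -/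

/-- The action on a sphere. -/
noncomputable def spherePerm (c : F) : O Q →* Equiv.Perm {x : ι → F // Q x = c} where
  toFun g :=
    { toFun := fun x => ⟨act Q g x, by rw [Q_act]; exact x.2⟩
      invFun := fun x => ⟨act Q g⁻¹ x, by rw [Q_act]; exact x.2⟩
      left_inv := fun x => Subtype.ext (by
        show act Q g⁻¹ (act Q g x) = x
        rw [← act_mul, inv_mul_cancel, act_one])
      right_inv := fun x => Subtype.ext (act_inv Q g x) }
  map_one' := Equiv.ext fun x => Subtype.ext (act_one Q x)
  map_mul' g h := Equiv.ext fun x => Subtype.ext (act_mul Q g h x)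

/-- Spheres are finite. -/
noncomputable instance sphereFintype (c : F) : Fintype {x : ι → F // Q x = c} := Fintype.ofFinite _

/-- Equality on spheres is decidable. -/
noncomputable instance sphereDecEq (c : F) : DecidableEq {x : ι → F // Q x = c} := Classical.decEq _

/-- The spinor character of the class of `c`. -/
noncomputable def chi (c : F) : O Q →* ℤˣ := Equiv.Perm.sign.comp (spherePerm Q c)

theorem spherePerm_apply (c : F) (g : O Q) (x : {x : ι → F // Q x = c}) :
    ((spherePerm Q c g x : {x : ι → F // Q x = c}) : ι → F) = act Q g x := rfl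

theorem chi_refl (h2 : (2 : F) ≠ 0) {c : F} (hc : c ≠ 0) (v : ι → F) (hv : Q v ≠ 0) [Decidable (∃ a : F, a * a * Q v = c)] :
    chi Q c (refl Q v hv) = if ∃ a : F, a * a * Q v = c then -1 else 1 := by
  classical
  set r := refl Q v hv with hr
  let S := {x : ι → F // Q x = c}
  set σ := spherePerm Q c r with hσ
  have hfix : ∀ x : S, σ x = x ↔ polar Q v x = 0 := fun x => by
    rw [Subtype.ext_iff, hσ, spherePerm_apply, hr, act_refl, sub_eq_self, smul_eq_zero]
    have hv0 : v ≠ 0 := fun e => hv (by rw [e, QuadraticMap.map_zero])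
    simp [hv, hv0]
  let supp := Finset.univ.filter fun x : S => polar Q v x ≠ 0
  let π : S → (ι → F) := fun x => x.1 + act Q r x.1
  have hπ : ∀ x : S, π x = (2 : F) • x.1 - ((Q v)⁻¹ * polar Q v x) • v := fun x => by
    show x.1 + act Q r x.1 = _
    rw [hr, act_refl, two_smul]; abel
  have hvπ : ∀ x : S, polar Q v (π x) = 0 := fun x => by
    rw [hπ, polar_sub_right, polar_smul_right, polar_smul_right, polar_self, nsmul_eq_mul, smul_eq_mul,
      smul_eq_mul]
    field_simp; push_cast; ring
  let T := supp.image π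
  have hfibre : ∀ y ∈ T, (supp.filter fun x => π x = y).card = 2 := by
    intro y hy
    obtain ⟨x, hx, rfl⟩ := Finset.mem_image.1 hy
    have hxs : polar Q v x ≠ 0 := (Finset.mem_filter.1 hx).2
    have hset : (supp.filter fun x' => π x' = π x) = {x, σ x} := by
      ext x'
      simp only [supp, Finset.mem_filter, Finset.mem_univ, true_and, Finset.mem_insert, Finset.mem_singleton]
      constructor
      · rintro ⟨-, he⟩
        rw [hπ, hπ] at he
        set d := (x' : ι → F) - x with hd
        set s := ((Q v)⁻¹ * polar Q v x' - (Q v)⁻¹ * polar Q v x) / 2 with hs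
        have hd' : d = s • v := by
          refine smul_right_injective (ι → F) h2 ?_
          show (2 : F) • d = (2 : F) • s • v
          rw [smul_smul, hs, mul_div_cancel₀ _ h2, sub_smul, hd, smul_sub]
          linear_combination (norm := module) he
        have hx' : (x' : ι → F) = x + s • v := by rw [← hd', hd]; abel
        have hq : Q x' = Q x := x'.2.trans x.2.symm
        rw [hx', QuadraticMap.map_add (⇑Q), QuadraticMap.map_smul, polar_smul_right, polar_comm, smul_eq_mul,
          smul_eq_mul] at hq
        have h0 : s * (s * Q v + polar Q v x) = 0 := by linear_combination hq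
        rcases mul_eq_zero.1 h0 with h | h
        · exact Or.inl (Subtype.ext (by rw [hx', h, zero_smul, add_zero]))
        · refine Or.inr (Subtype.ext ?_)
          rw [hσ, spherePerm_apply, hr, act_refl, hx', sub_eq_add_neg, ← neg_smul]
          congr 2
          field_simp
          linear_combination h
      · rintro (rfl | rfl)
        · exact ⟨hxs, rfl⟩
        · refine ⟨fun h => hxs ?_, ?_⟩
          · rw [hσ, spherePerm_apply, hr, act_refl, polar_sub_right, polar_smul_right, polar_self, nsmul_eq_mul,
              smul_eq_mul] at h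
            field_simp at h
            push_cast at h
            linear_combination -h
          · show (σ x).1 + act Q r (σ x).1 = x.1 + act Q r x.1
            rw [hσ, spherePerm_apply, hr, refl_refl, add_comm]
    rw [hset, Finset.card_pair fun e => hxs ((hfix x).1 e.symm)]
  have hcard : supp.card = 2 * T.card := by
    rw [Finset.card_eq_sum_card_image π supp, Finset.sum_congr rfl hfibre, Finset.sum_const, smul_eq_mul, mul_comm]
  have hneg : ∀ y ∈ T, -y ∈ T := by
    intro y hy
    obtain ⟨x, hx, rfl⟩ := Finset.mem_image.1 hy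
    refine Finset.mem_image.2 ⟨⟨-x.1, by rw [QuadraticMap.map_neg]; exact x.2⟩, ?_, ?_⟩
    · simp only [supp, Finset.mem_filter, Finset.mem_univ, true_and, polar_neg_right, neg_ne_zero]
      exact (Finset.mem_filter.1 hx).2
    · rw [hπ, hπ, polar_neg_right, smul_neg, mul_neg, neg_smul]; abel
  have heven : Even (T.erase 0).card := by
    rw [← ZMod.natCast_eq_zero_iff_even, Finset.card_eq_sum_ones, Nat.cast_sum]
    refine Finset.sum_involution (fun y _ => -y) (fun _ _ => by decide) (fun y hy _ => ?_) (fun y hy => ?_)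
      (fun y _ => neg_neg y)
    · intro e
      refine (Finset.mem_erase.1 hy).1 ?_
      have : (2 : F) • y = 0 := by rw [two_smul]; exact eq_neg_iff_add_eq_zero.1 e.symm
      exact (smul_eq_zero.1 this).resolve_left h2
    · exact Finset.mem_erase.2 ⟨neg_ne_zero.2 (Finset.mem_erase.1 hy).1, hneg y (Finset.mem_erase.1 hy).2⟩
  have hzero : (0 : ι → F) ∈ T ↔ ∃ a : F, a * a * Q v = c := by
    constructor
    · intro h
      obtain ⟨x, hx, he⟩ := Finset.mem_image.1 h
      rw [hπ] at he
      refine ⟨(Q v)⁻¹ * polar Q v x / 2, ?_⟩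
      have hxv : (x : ι → F) = ((Q v)⁻¹ * polar Q v x / 2) • v := by
        refine smul_right_injective (ι → F) h2 ?_
        show (2 : F) • x.1 = (2 : F) • _ • v
        rw [smul_smul, mul_div_cancel₀ _ h2]
        exact sub_eq_zero.1 he
      have := x.2
      rw [hxv, QuadraticMap.map_smul, smul_eq_mul] at this
      exact this
    · rintro ⟨a, ha⟩
      have ha0 : a ≠ 0 := fun e => hc (by rw [← ha, e]; ring)
      refine Finset.mem_image.2 ⟨⟨a • v, by rw [QuadraticMap.map_smul, smul_eq_mul]; exact ha⟩, ?_, ?_⟩
      · simp only [supp, Finset.mem_filter, Finset.mem_univ, true_and, polar_smul_right, polar_self, nsmul_eq_mul,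
          smul_eq_mul]
        exact mul_ne_zero ha0 (mul_ne_zero (by simpa using h2) hv)
      · rw [hπ]
        show (2 : F) • a • v - ((Q v)⁻¹ * polar Q v (a • v)) • v = 0
        rw [polar_smul_right, polar_self, nsmul_eq_mul, smul_eq_mul, smul_smul, ← sub_smul,
          show (2 : F) * a - (Q v)⁻¹ * (a * (((2 : ℕ) : F) * Q v)) = 0 by field_simp; push_cast; ring, zero_smul]
  have hsq : σ ^ 2 = 1 := by rw [hσ, ← map_pow, pow_two, hr, refl_mul_self, map_one]
  show Equiv.Perm.sign σ = _
  rw [Equiv.Perm.sign_of_pow_two_eq_one hsq]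
  have hsupp : Fintype.card S - Fintype.card (Function.fixedPoints σ) = supp.card := by
    rw [← Fintype.card_subtype_compl, Fintype.card_subtype]
    congr 1
    ext x
    simp only [supp, Finset.mem_filter, Finset.mem_univ, true_and]
    exact not_congr (hfix x)
  rw [hsupp, hcard, Nat.mul_div_cancel_left _ two_pos]
  split_ifs with h
  · obtain ⟨k, hk⟩ := heven
    rw [← Finset.card_erase_add_one (hzero.2 h), hk, pow_succ, ← two_mul, pow_mul, Int.units_sq, one_pow, one_mul]
  · rw [Finset.erase_eq_of_notMem (fun h' => h (hzero.1 h'))] at heven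
    exact heven.neg_one_pow

end Cfsg.Agent.Classical.Refl
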