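import Cfsg.Agent.Lib.Classical.OrthCommutator
import Cfsg.Agent.Lib.Classical.Spinor
import Cfsg.Agent.Lib.Classical.PGOMinus
import Cfsg.Agent.Lib.Classical.SL2
import Cfsg.Agent.S0288
import Cfsg.Agent.Lib.Classical.Unitary

/-!
The four-dimensional orthogonal groups of minus type and matrices over the quadratic extension.
-/

set_option autoImplicit false
set_option linter.unusedSectionVars false
set_option maxHeartbeats 1000000

open Matrix QuadraticMap
open scoped commutatorElement

namespace Cfsg.Agent.Classical.MinusFour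

variable {F K : Type*} [Field F] [Fintype F] [Field K] [Fintype K]

local notation "M2" => Matrix (Fin 2) (Fin 2) K
local notation "S2" => Matrix.SpecialLinearGroup (Fin 2) K
local notation "V4" => ((Fin 1 ⊕ Fin 1) ⊕ Fin 2 → F)

/-- A quadratic extension carrying the anisotropic plane. -/
structure Ext (F K : Type*) [Field F] [Field K] (a b : F) where
  emb : F →+* K
  sig : K →+* K
  w : K
  sig_sig : ∀ z, sig (sig z) = z
  sig_emb : ∀ x, sig (emb x) = emb x
  fixed : ∀ z, sig z = z → ∃ x, emb x = z
  w_add : w + sig w = emb a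
  w_mul : w * sig w = emb b
  w_ne : sig w ≠ w

theorem exists_ext {q : ℕ} (hF : Fintype.card F = q) (hK : Fintype.card K = q ^ 2) (a b : F)
    (hab : ∀ z₁ z₂ : F, z₁ ^ 2 + a * z₁ * z₂ + b * z₂ ^ 2 = 0 → z₁ = 0 ∧ z₂ = 0) : Nonempty (Ext F K a b) := by
  classical
  let f : Polynomial F := Polynomial.C 1 * Polynomial.X ^ 2 + Polynomial.C (-a) * Polynomial.X + Polynomial.C b
  have hdeg : f.natDegree = 2 := Polynomial.natDegree_quadratic one_ne_zero
  have hroot : ∀ x : F, ¬ f.IsRoot x := fun x hx => by
    simp only [f, Polynomial.IsRoot, Polynomial.eval_add, Polynomial.eval_mul, Polynomial.eval_C, Polynomial.eval_pow,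
      Polynomial.eval_X, one_mul] at hx
    exact one_ne_zero (neg_eq_zero.1 (hab x (-1) (by linear_combination hx)).2)
  have hirr : Irreducible f := by
    refine (Polynomial.irreducible_iff_roots_eq_zero_of_degree_le_three (by omega) (by omega)).2 ?_
    refine Multiset.eq_zero_of_forall_notMem fun x hx => hroot x ?_
    exact (Polynomial.mem_roots'.1 hx).2
  haveI : Fact (Irreducible f) := ⟨hirr⟩
  have hf0 : f ≠ 0 := hirr.ne_zero
  haveI : Module.Finite F (AdjoinRoot f) := (AdjoinRoot.powerBasis hf0).finite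
  haveI : Finite (AdjoinRoot f) := Module.finite_of_finite F
  haveI : Fintype (AdjoinRoot f) := Fintype.ofFinite _
  have hc : Fintype.card (AdjoinRoot f) = Fintype.card K := by
    rw [Module.card_eq_pow_finrank (K := F), (AdjoinRoot.powerBasis hf0).finrank, AdjoinRoot.powerBasis_dim, hdeg, hF, hK]
  let e := FiniteField.ringEquivOfCardEq hc
  let ι : F →+* K := e.toRingHom.comp (AdjoinRoot.of f)
  let w : K := e (AdjoinRoot.root f)
  obtain ⟨σ, hσ, hσ1, hσ2⟩ := Unitary.exists_frob hK
  have hσι : ∀ x, σ (ι x) = ι x := fun x => by rw [hσ, ← map_pow, ← hF, FiniteField.pow_card]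
  have hfix : ∀ z, σ z = z → ∃ x, ι x = z := by
    intro z hz
    by_contra hne
    push Not at hne
    have hP : (Polynomial.X ^ q - Polynomial.X : Polynomial K) ≠ 0 := by
      refine FiniteField.X_pow_card_sub_X_ne_zero K (?_ : 1 < q)
      rw [← hF]; exact Fintype.one_lt_card
    have hle : (insert z (Finset.univ.image ι)).card ≤ q := by
      have h1 : (insert z (Finset.univ.image ι)) ⊆ (Polynomial.X ^ q - Polynomial.X : Polynomial K).roots.toFinset := by
        intro u hu
        rw [Multiset.mem_toFinset, Polynomial.mem_roots hP]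
        simp only [Polynomial.IsRoot, Polynomial.eval_sub, Polynomial.eval_pow, Polynomial.eval_X, sub_eq_zero]
        rcases Finset.mem_insert.1 hu with rfl | hu
        · rw [← hσ]; exact hz
        · obtain ⟨x, -, rfl⟩ := Finset.mem_image.1 hu
          rw [← hσ]; exact hσι x
      refine (Finset.card_le_card h1).trans ((Multiset.toFinset_card_le _).trans ((Polynomial.card_roots' _).trans ?_))
      rw [FiniteField.X_pow_card_sub_X_natDegree_eq K (by rw [← hF]; exact Fintype.one_lt_card)]
    rw [Finset.card_insert_of_notMem (by simp [hne]), Finset.card_image_of_injective _ ι.injective, Finset.card_univ, hF] at hle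
    omega
  have hw : w ^ 2 - ι a * w + ι b = 0 := by
    have h0 := AdjoinRoot.eval₂_root f
    simp only [f, Polynomial.eval₂_add, Polynomial.eval₂_mul, Polynomial.eval₂_C, Polynomial.eval₂_X_pow, Polynomial.eval₂_X] at h0
    have h1 := congrArg e h0
    simp only [map_add, map_mul, map_pow, map_zero, map_neg, map_one] at h1
    show e (AdjoinRoot.root f) ^ 2 - e (AdjoinRoot.of f a) * e (AdjoinRoot.root f) + e (AdjoinRoot.of f b) = 0
    linear_combination h1
  have hne : σ w ≠ w := fun e' => by
    obtain ⟨x, hx⟩ := hfix w e'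
    refine hroot x ?_
    simp only [f, Polynomial.IsRoot, Polynomial.eval_add, Polynomial.eval_mul, Polynomial.eval_C, Polynomial.eval_pow,
      Polynomial.eval_X, one_mul]
    refine ι.injective ?_
    rw [map_add, map_add, map_mul, map_neg, map_pow, map_zero, hx]
    linear_combination hw
  have hw' : σ w ^ 2 - ι a * σ w + ι b = 0 := by
    have := congrArg σ hw
    simpa [hσι] using this
  have hsum : w + σ w = ι a := by
    refine mul_left_cancel₀ (sub_ne_zero.2 hne) ?_
    linear_combination hw' - hw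
  exact ⟨⟨ι, σ, w, hσ2, hσι, hfix, hsum, by linear_combination w * hsum - hw, hne⟩⟩

variable {a b : F} (E : Ext F K a b)

/-- The adjoint for the hermitian structure. -/
def star2 (X : M2) : M2 := !![E.sig (X 0 0), -E.sig (X 1 0); -E.sig (X 0 1), E.sig (X 1 1)]

theorem star2_mul (X Y : M2) : star2 E (X * Y) = star2 E Y * star2 E X := by
  ext i j; fin_cases i <;> fin_cases j <;> simp [star2, mul_apply, Fin.sum_univ_two] <;> ring

theorem star2_star2 (X : M2) : star2 E (star2 E X) = X := by
  ext i j; fin_cases i <;> fin_cases j <;> simp [star2, E.sig_sig]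

theorem star2_adj (X : M2) : star2 E X.adjugate = (star2 E X).adjugate := by
  ext i j; fin_cases i <;> fin_cases j <;> simp [star2, adjugate_fin_two]

theorem star2_det (X : M2) : (star2 E X).det = E.sig X.det := by
  simp [star2, det_fin_two]; ring

theorem star2_smul (c : K) (X : M2) : star2 E (c • X) = E.sig c • star2 E X := by
  ext i j; fin_cases i <;> fin_cases j <;> simp [star2]

theorem star2_one : star2 E (1 : M2) = 1 := by
  ext i j; fin_cases i <;> fin_cases j <;> simp [star2]

theorem adj_adj (X : M2) : X.adjugate.adjugate = X := by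
  ext i j; fin_cases i <;> fin_cases j <;> simp [adjugate_fin_two]

/-- A vector as a matrix. -/
def toM (v : V4) : M2 :=
  !![E.emb (v (.inl (.inl 0))), E.emb (v (.inr 0)) + E.emb (v (.inr 1)) * E.w;
     -(E.emb (v (.inr 0)) + E.emb (v (.inr 1)) * E.sig E.w), E.emb (v (.inl (.inr 0)))]

theorem toM_add (u v : V4) : toM E (u + v) = toM E u + toM E v := by
  ext i j; fin_cases i <;> fin_cases j <;> simp [toM] <;> ring

theorem toM_smul (c : F) (v : V4) : toM E (c • v) = E.emb c • toM E v := by
  ext i j; fin_cases i <;> fin_cases j <;> simp [toM] <;> ring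

theorem star_toM (v : V4) : star2 E (toM E v) = toM E v := by
  ext i j; fin_cases i <;> fin_cases j <;> simp [star2, toM, E.sig_emb, E.sig_sig]

theorem toM_injective : Function.Injective (toM E) := by
  intro u v h
  have h00 : E.emb (u (.inl (.inl 0))) = E.emb (v (.inl (.inl 0))) := congrFun (congrFun h 0) 0
  have h11 : E.emb (u (.inl (.inr 0))) = E.emb (v (.inl (.inr 0))) := congrFun (congrFun h 1) 1
  have h01 : E.emb (u (.inr 0)) + E.emb (u (.inr 1)) * E.w = E.emb (v (.inr 0)) + E.emb (v (.inr 1)) * E.w := congrFun (congrFun h 0) 1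
  have h10 := congrArg E.sig h01
  simp only [map_add, map_mul, E.sig_emb] at h10
  have h1 : E.emb (u (.inr 1)) = E.emb (v (.inr 1)) :=
    mul_right_cancel₀ (sub_ne_zero.2 E.w_ne) (by linear_combination h10 - h01)
  have h0 : E.emb (u (.inr 0)) = E.emb (v (.inr 0)) := by rw [h1] at h01; linear_combination h01
  funext s
  rcases s with (i | i) | i
  · fin_cases i; exact E.emb.injective h00
  · fin_cases i; exact E.emb.injective h11
  · fin_cases i
    · exact E.emb.injective h0
    · exact E.emb.injective h1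

theorem exists_toM {X : M2} (hX : star2 E X = X) : ∃ v, toM E v = X := by
  have h00 : E.sig (X 0 0) = X 0 0 := congrFun (congrFun hX 0) 0
  have h11 : E.sig (X 1 1) = X 1 1 := congrFun (congrFun hX 1) 1
  have h10 : -E.sig (X 0 1) = X 1 0 := congrFun (congrFun hX 1) 0
  obtain ⟨x, hx⟩ := E.fixed _ h00
  obtain ⟨y, hy⟩ := E.fixed _ h11
  have hd : E.sig E.w - E.w ≠ 0 := sub_ne_zero.2 E.w_ne
  have hd' : E.w - E.sig E.w ≠ 0 := sub_ne_zero.2 (Ne.symm E.w_ne)
  obtain ⟨t, ht⟩ := E.fixed ((E.sig (X 0 1) - X 0 1) / (E.sig E.w - E.w)) (by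
    rw [map_div₀, map_sub, map_sub, E.sig_sig, E.sig_sig]
    field_simp
    ring)
  obtain ⟨s, hs⟩ := E.fixed (X 0 1 - E.emb t * E.w) (by
    rw [map_sub, map_mul, E.sig_emb]
    have := ht
    field_simp at this
    linear_combination -this)
  refine ⟨Sum.elim (Sum.elim ![x] ![y]) ![s, t], ?_⟩
  have hs' := congrArg E.sig hs
  rw [E.sig_emb, map_sub, map_mul, E.sig_emb] at hs'
  ext i j
  fin_cases i <;> fin_cases j <;> simp [toM, hx, hy]
  · linear_combination hs
  · linear_combination h10 - hs'

local notation "Q4" => (PGOMinus.QMc 1 a b)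
local notation "O4" => Refl.O (PGOMinus.QMc 1 a b)

theorem det_toM (v : V4) : (toM E v).det = E.emb (Q4 v) := by
  rw [PGOMinus.QMc_apply, det_fin_two]
  simp [toM, Fin.sum_univ_one]
  linear_combination (E.emb (v (.inr 0)) * E.emb (v (.inr 1))) * E.w_add + E.emb (v (.inr 1)) ^ 2 * E.w_mul

/-- Transport of a preimage. -/
noncomputable def lft (g : S2) (v : V4) : V4 :=
  (exists_toM E (X := (g : M2) * toM E v * star2 E (g : M2)) (by
    rw [star2_mul, star2_mul, star2_star2, star_toM, Matrix.mul_assoc])).choose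

theorem toM_lft (g : S2) (v : V4) : toM E (lft E g v) = (g : M2) * toM E v * star2 E (g : M2) :=
  (exists_toM E (X := (g : M2) * toM E v * star2 E (g : M2)) (by
    rw [star2_mul, star2_mul, star2_star2, star_toM, Matrix.mul_assoc])).choose_spec

/-- The linear map of an element. -/
noncomputable def lftL (g : S2) : V4 →ₗ[F] V4 where
  toFun := lft E g
  map_add' u v := toM_injective E (by rw [toM_add, toM_lft, toM_lft, toM_lft, toM_add, Matrix.mul_add, Matrix.add_mul])
  map_smul' c v := toM_injective E (by rw [RingHom.id_apply, toM_smul, toM_lft, toM_lft, toM_smul, mul_smul_comm, smul_mul_assoc])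

theorem lftL_inj (g : S2) : Function.Injective (lftL E g) := by
  intro u v h
  have h1 := congrArg (toM E) h
  change toM E (lft E g u) = toM E (lft E g v) at h1
  rw [toM_lft, toM_lft] at h1
  refine toM_injective E ?_
  have hgu : IsUnit (g : M2).det := by rw [g.2]; exact isUnit_one
  have hsu : IsUnit (star2 E (g : M2)).det := by rw [star2_det, g.2, map_one]; exact isUnit_one
  have h2 := congrArg (fun X => (g : M2)⁻¹ * X * (star2 E (g : M2))⁻¹) h1
  simpa [← Matrix.mul_assoc, nonsing_inv_mul _ hgu, Matrix.mul_assoc _ (star2 E (g : M2)) (star2 E (g : M2))⁻¹,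
    mul_nonsing_inv _ hsu] using h2

/-- The isometry of an element. -/
noncomputable def el (g : S2) : O4 :=
  Refl.ofLin Q4 (LinearEquiv.ofInjectiveEndo (lftL E g) (lftL_inj E g)) (fun v => E.emb.injective (by
    show E.emb (Q4 (lft E g v)) = _
    rw [← det_toM, toM_lft, det_mul, det_mul, star2_det, g.2, map_one, one_mul, mul_one, det_toM]))

theorem toM_el (g : S2) (v : V4) : toM E (Refl.act Q4 (el E g) v) = (g : M2) * toM E v * star2 E (g : M2) := by
  rw [el, Refl.act_ofLin]; exact toM_lft E g v

theorem ext_toM {x y : O4} (h : ∀ v, toM E (Refl.act Q4 x v) = toM E (Refl.act Q4 y v)) : x = y :=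
  Refl.act_ext Q4 fun v => toM_injective E (h v)

/-- The homomorphism. -/
noncomputable def rho : S2 →* O4 :=
  MonoidHom.mk' (el E) (fun g h => ext_toM E fun v => by
    rw [Refl.act_mul, toM_el, toM_el, toM_el]
    show ((g : M2) * (h : M2)) * toM E v * star2 E ((g : M2) * (h : M2)) = _
    rw [star2_mul]
    simp only [Matrix.mul_assoc])

theorem toM_rho (g : S2) (v : V4) : toM E (Refl.act Q4 (rho E g) v) = (g : M2) * toM E v * star2 E (g : M2) := toM_el E g v

theorem toM_refl (u : V4) (hu : Q4 u ≠ 0) (v : V4) :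
    toM E (Refl.act Q4 (Refl.refl Q4 u hu) v) = (-(toM E u).det⁻¹) • (toM E u * (toM E v).adjugate * toM E u) := by
  have hd : (toM E u).det ≠ 0 := by rw [det_toM]; exact (map_ne_zero E.emb).2 hu
  rw [Refl.act_refl, sub_eq_add_neg, toM_add, ← neg_smul, toM_smul, map_neg, map_mul, map_inv₀, polar, map_sub, map_sub,
    ← det_toM, ← det_toM, ← det_toM, toM_add]
  generalize toM E u = U at hd ⊢
  generalize toM E v = X
  rw [adjugate_fin_two]
  ext i j
  simp only [det_fin_two] at hd ⊢
  fin_cases i <;> fin_cases j <;> simp [mul_apply, Fin.sum_univ_two] <;> field_simp <;> ring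

theorem conj_mem (u : V4) (hu : Q4 u ≠ 0) (g : S2) :
    Refl.refl Q4 u hu * rho E g * Refl.refl Q4 u hu ∈ (rho E).range := by
  have hd : (toM E u).det ≠ 0 := by rw [det_toM]; exact (map_ne_zero E.emb).2 hu
  set U := toM E u with hU
  have hdσ : E.sig U.det⁻¹ = U.det⁻¹ := by rw [hU, det_toM, ← map_inv₀, E.sig_emb]
  have hg : ((U.det)⁻¹ • (U * (star2 E (g : M2)).adjugate * U.adjugate)).det = 1 := by
    rw [det_smul, det_mul, det_mul, det_adjugate, det_adjugate, star2_det, g.2, map_one, Fintype.card_fin]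
    field_simp
    ring
  obtain ⟨A, hA⟩ : ∃ A : S2, (A : M2) = (U.det)⁻¹ • (U * (star2 E (g : M2)).adjugate * U.adjugate) := ⟨⟨_, hg⟩, rfl⟩
  refine ⟨A, ext_toM E fun v => ?_⟩
  rw [toM_rho, Refl.act_mul, Refl.act_mul, toM_refl, toM_rho, toM_refl, hA, star2_smul, hdσ, star2_mul, star2_mul,
    star2_adj, star2_adj, star2_star2, hU, star_toM, ← hU]
  simp only [adjugate_smul, adjugate_mul_distrib, adj_adj, Fintype.card_fin, pow_one, smul_mul_assoc, mul_smul_comm,
    smul_smul, Matrix.mul_assoc]
  congr 1
  ring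

theorem comm_refl_mem (u : V4) (hu : Q4 u ≠ 0) (w : V4) (hw : Q4 w ≠ 0) :
    ⁅Refl.refl Q4 u hu, Refl.refl Q4 w hw⁆ ∈ (rho E).range := by
  have hd : (toM E u).det ≠ 0 := by rw [det_toM]; exact (map_ne_zero E.emb).2 hu
  have he : (toM E w).det ≠ 0 := by rw [det_toM]; exact (map_ne_zero E.emb).2 hw
  set U := toM E u with hU
  set W := toM E w with hW
  have hdσ : E.sig (U.det * W.det)⁻¹ = (U.det * W.det)⁻¹ := by rw [hU, hW, det_toM, det_toM, ← map_mul, ← map_inv₀, E.sig_emb]
  have hg : ((U.det * W.det)⁻¹ • (U * W.adjugate * (U * W.adjugate))).det = 1 := by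
    rw [det_smul, det_mul, det_mul, det_adjugate, Fintype.card_fin]
    field_simp
    ring
  obtain ⟨A, hA⟩ : ∃ A : S2, (A : M2) = (U.det * W.det)⁻¹ • (U * W.adjugate * (U * W.adjugate)) := ⟨⟨_, hg⟩, rfl⟩
  refine ⟨A, ext_toM E fun v => ?_⟩
  rw [toM_rho, hA, star2_smul, hdσ, star2_mul, star2_mul, star2_adj, hU, hW, star_toM, star_toM, ← hU, ← hW,
    commutatorElement_def, Refl.refl_inv, Refl.refl_inv, Refl.act_mul, Refl.act_mul, Refl.act_mul,
    toM_refl, toM_refl, toM_refl, toM_refl]
  simp only [adjugate_smul, adjugate_mul_distrib, Fintype.card_fin, pow_one,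
    smul_mul_assoc, mul_smul_comm, smul_smul, Matrix.mul_assoc]
  simp only [adj_adj]
  congr 1
  ring

theorem eq_scalar {g : S2} (h : rho E g = 1) : g ∈ Subgroup.center S2 := by
  have key : ∀ X : M2, star2 E X = X → (g : M2) * X * star2 E (g : M2) = X := by
    intro X hX
    obtain ⟨v, rfl⟩ := exists_toM E hX
    rw [← toM_rho, h, Refl.act_one]
  have h1 := key 1 (star2_one E)
  rw [Matrix.mul_one] at h1
  have hcomm : ∀ X : M2, star2 E X = X → (g : M2) * X = X * (g : M2) := fun X hX => by
    conv_rhs => rw [← key X hX]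
    rw [Matrix.mul_assoc ((g : M2) * X), mul_eq_one_comm.1 h1, Matrix.mul_one]
  have e1 := hcomm !![1, 0; 0, 0] (by ext i j; fin_cases i <;> fin_cases j <;> simp [star2])
  have e2 := hcomm !![0, 1; -1, 0] (by ext i j; fin_cases i <;> fin_cases j <;> simp [star2])
  have a01 : (g : M2) 0 1 = 0 := by simpa [mul_apply, Fin.sum_univ_two] using (congrFun (congrFun e1 0) 1).symm
  have a10 : (g : M2) 1 0 = 0 := by simpa [mul_apply, Fin.sum_univ_two] using congrFun (congrFun e1 1) 0
  have a00 : (g : M2) 0 0 = (g : M2) 1 1 := by simpa [mul_apply, Fin.sum_univ_two] using congrFun (congrFun e2 0) 1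
  refine Subgroup.mem_center_iff.2 fun s => Subtype.ext ?_
  show (s : M2) * (g : M2) = (g : M2) * (s : M2)
  ext i j
  fin_cases i <;> fin_cases j <;> simp [mul_apply, Fin.sum_univ_two, a01, a10, a00, mul_comm]

theorem exists_sq_ne_one (hK : 4 ≤ Fintype.card K) : ∃ z : K, z ≠ 0 ∧ z ^ 2 ≠ 1 := by
  classical
  obtain ⟨z, -, hz⟩ := Finset.exists_mem_notMem_of_card_lt_card (s := ({0, 1, -1} : Finset K)) (t := Finset.univ)
    (by rw [Finset.card_univ]; exact lt_of_le_of_lt Finset.card_le_three (by omega))
  simp only [Finset.mem_insert, Finset.mem_singleton, not_or] at hz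
  exact ⟨z, hz.1, fun h => (sq_eq_one_iff.1 h).elim hz.2.1 hz.2.2⟩

theorem range_le (hK : 4 ≤ Fintype.card K) : (rho E).range ≤ commutator O4 := by
  obtain ⟨z, hz0, hz1⟩ := exists_sq_ne_one hK
  rw [MonoidHom.range_eq_map, ← Matrix.SL2.commutator_eq_top hz0 hz1, commutator_def, Subgroup.map_commutator]
  exact Subgroup.commutator_mono le_top le_top

theorem commutator_le_of_gen (hab : ∀ z₁ z₂ : F, z₁ ^ 2 + a * z₁ * z₂ + b * z₂ ^ 2 = 0 → z₁ = 0 ∧ z₂ = 0)
    (hq : Fintype.card F ≠ 2) : commutator O4 ≤ (rho E).range := by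
  set S := (rho E).range
  have hR : ∀ g : O4, g ∈ Refl.R Q4 := fun g =>
    Refl.eq_top Q4 (PGOMinus.nondeg hab) (Or.inl hq) ▸ Subgroup.mem_top g
  have hconj : ∀ g : O4, ∀ x ∈ S, g * x * g⁻¹ ∈ S := by
    intro g
    induction hR g using Subgroup.closure_induction'' with
    | mem y hy =>
      obtain ⟨u, hu, he⟩ := hy
      obtain rfl : y = Refl.refl Q4 u hu := Subtype.ext (Units.ext he)
      rintro x ⟨p, rfl⟩
      rw [Refl.refl_inv]
      exact conj_mem E u hu p
    | inv_mem y hy =>
      obtain ⟨u, hu, he⟩ := hy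
      obtain rfl : y = Refl.refl Q4 u hu := Subtype.ext (Units.ext he)
      rintro x ⟨p, rfl⟩
      rw [inv_inv, Refl.refl_inv]
      exact conj_mem E u hu p
    | one => intro x hx; simpa using hx
    | mul c d _ _ hc hd =>
      intro x hx
      rw [show c * d * x * (c * d)⁻¹ = c * (d * x * d⁻¹) * c⁻¹ by group]
      exact hc _ (hd _ hx)
  haveI : S.Normal := ⟨fun x hx g => hconj g x hx⟩
  have key : ∀ g h : O4, Commute (QuotientGroup.mk' S g) (QuotientGroup.mk' S h) := by
    intro g h
    induction hR g using Subgroup.closure_induction with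
    | mem y hy =>
      obtain ⟨u, hu, he⟩ := hy
      obtain rfl : y = Refl.refl Q4 u hu := Subtype.ext (Units.ext he)
      induction hR h using Subgroup.closure_induction with
      | mem z hz =>
        obtain ⟨w, hw, he⟩ := hz
        obtain rfl : z = Refl.refl Q4 w hw := Subtype.ext (Units.ext he)
        rw [Commute, SemiconjBy, ← commutatorElement_eq_one_iff_mul_comm, ← map_commutatorElement, QuotientGroup.mk'_apply,
          QuotientGroup.eq_one_iff]
        exact comm_refl_mem E u hu w hw
      | one => rw [map_one]; exact Commute.one_right _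
      | mul c d _ _ hc hd => rw [map_mul]; exact hc.mul_right hd
      | inv c _ hc => rw [map_inv]; exact hc.inv_right
    | one => rw [map_one]; exact Commute.one_left _
    | mul c d _ _ hc hd => rw [map_mul]; exact hc.mul_left hd
    | inv c _ hc => rw [map_inv]; exact hc.inv_left
  rw [commutator_def, Subgroup.commutator_le]
  intro g _ h _
  rw [← QuotientGroup.eq_one_iff, ← QuotientGroup.mk'_apply, map_commutatorElement, commutatorElement_eq_one_iff_mul_comm]
  exact key g h

theorem commutator_le_two (hab : ∀ z₁ z₂ : F, z₁ ^ 2 + a * z₁ * z₂ + b * z₂ ^ 2 = 0 → z₁ = 0 ∧ z₂ = 0)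
    (hF : Fintype.card F = 2) (hK : Fintype.card K = 4) : commutator O4 ≤ (rho E).range := by
  have hO : Nat.card O4 = 120 := by
    have h := Cfsg.Agent.S0288.result (F := F) hF 2 (by norm_num) a b hab
    norm_num [Finset.prod_range_succ] at h
    exact h
  have hinj : Function.Injective (rho E) := by
    refine (injective_iff_map_eq_one _).2 fun g hg => ?_
    have hc := eq_scalar E hg
    obtain ⟨r, hr, hrg⟩ := Matrix.SpecialLinearGroup.mem_center_iff.1 hc
    have h2 : (2 : K) = 0 := by
      have := FiniteField.cast_card_eq_zero K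
      rw [hK] at this
      push_cast at this
      have h4 : (2 : K) * 2 = 0 := by linear_combination this
      exact mul_self_eq_zero.1 h4
    have : r = 1 := by
      rw [Fintype.card_fin] at hr
      have h1 : (r - 1) * (r - 1) = 0 := by linear_combination hr + (1 - r) * h2
      exact sub_eq_zero.1 (mul_self_eq_zero.1 h1)
    refine Subtype.ext ?_
    rw [← hrg, this]; simp
  have hcard : Nat.card (rho E).range = 60 := by
    rw [← Nat.card_congr (MonoidHom.ofInjective hinj).toEquiv, SL2.card_SL2, hK]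
    norm_num
  have hidx : (rho E).range.index = 2 := by
    have h := (rho E).range.index_mul_card
    rw [hcard, hO] at h; omega
  haveI : (rho E).range.Normal := Subgroup.normal_of_index_eq_two hidx
  have hc : Nat.card (O4 ⧸ (rho E).range) = 2 := by rw [← Subgroup.index_eq_card, hidx]
  haveI : Fact (Nat.Prime 2) := ⟨Nat.prime_two⟩
  haveI := isCyclic_of_prime_card hc
  rw [commutator_def, Subgroup.commutator_le]
  intro g _ h _
  rw [← QuotientGroup.eq_one_iff, ← QuotientGroup.mk'_apply, map_commutatorElement, commutatorElement_eq_one_iff_mul_comm]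
  exact IsCyclic.commGroup.mul_comm _ _

end Cfsg.Agent.Classical.MinusFour
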