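import Cfsg.Agent.Lib.Classical.MaxLinTransv

/-!
Subspace stabilisers are maximal in the special linear group.
-/

set_option autoImplicit false
set_option linter.unusedSectionVars false

open Module Matrix

namespace Cfsg.Agent.Classical.MaxLin

variable {F : Type*} [Field F] {ι : Type} [Fintype ι] [DecidableEq ι]

theorem mem_stabilizer_of_mapsTo {W : Submodule F (ι → F)} {g : GL ι F}
    (h : ∀ x ∈ W, (g : Matrix ι ι F) *ᵥ x ∈ W) : g ∈ Cfsg.Geo.subspaceStabilizer W := by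
  have hinj : Function.Injective (Matrix.toLin' (g : Matrix ι ι F)) :=
    Function.LeftInverse.injective (g := fun x => ((g⁻¹ : GL ι F) : Matrix ι ι F) *ᵥ x) fun x => by
      simpa using gl_inv_mulVec' g x
  have he : W.map (Matrix.toLin' (g : Matrix ι ι F)) = W :=
    Submodule.eq_of_le_of_finrank_eq (by rintro _ ⟨x, hx, rfl⟩; simpa using h x hx)
      (Submodule.equivMapOfInjective _ hinj W).finrank_eq.symm
  intro v
  refine ⟨h v, fun hv => ?_⟩
  have hv' : Matrix.toLin' (g : Matrix ι ι F) v ∈ W.map (Matrix.toLin' (g : Matrix ι ι F)) := by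
    rw [he, Matrix.toLin'_apply]; exact hv
  obtain ⟨y, hy, e⟩ := hv'
  exact hinj e ▸ hy

theorem transGL_mem_stab {W : Submodule F (ι → F)} {f : Dual F (ι → F)} {v : ι → F} (h : f v = 0)
    (hW : v ∈ W ∨ ∀ w ∈ W, f w = 0) :
    transGL f v h ∈ Cfsg.Geo.subspaceStabilizer W ⊓ Cfsg.Geo.specialLinear ι F := by
  refine Subgroup.mem_inf.2 ⟨mem_stabilizer_of_mapsTo fun x hx => ?_, transGL_mem_sl _ _ h⟩
  rw [transGL_apply]
  rcases hW with hv | hf
  · exact W.add_mem hx (W.smul_mem _ hv)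
  · rw [hf x hx, zero_smul, add_zero]; exact hx

theorem subspace_not_top {W : Submodule F (ι → F)} (hW0 : W ≠ ⊥) (hW1 : W ≠ ⊤) :
    ¬ Cfsg.Geo.specialLinear ι F ≤ Cfsg.Geo.subspaceStabilizer W := by
  intro h
  obtain ⟨w, hw, hw0⟩ := Submodule.exists_mem_ne_zero_of_ne_bot hW0
  obtain ⟨u, -, hu⟩ := SetLike.exists_of_lt (lt_top_iff_ne_top.2 hW1)
  have hwu : w ∉ Submodule.span F {u} := fun hm => by
    obtain ⟨a, rfl⟩ := Submodule.mem_span_singleton.1 hm
    have ha : a ≠ 0 := fun e => hw0 (by rw [e, zero_smul])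
    exact hu (by simpa [ha] using W.smul_mem a⁻¹ hw)
  obtain ⟨f, hfw, hfu⟩ := exists_dual_one hwu
  have h0 := hfu u (Submodule.mem_span_singleton_self u)
  have := (h (transGL_mem_sl f u h0) w).1 hw
  rw [show glToMat ι F (transGL f u h0) = (transGL f u h0 : Matrix ι ι F) from rfl, transGL_apply, hfw, one_smul] at this
  exact hu (by simpa using W.sub_mem this hw)

theorem subspace_max [Nontrivial ι] {W : Submodule F (ι → F)} {M : Subgroup (GL ι F)}
    (hle : Cfsg.Geo.subspaceStabilizer W ⊓ Cfsg.Geo.specialLinear ι F ≤ M)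
    (hg : ∃ g ∈ M, g ∉ Cfsg.Geo.subspaceStabilizer W) : Cfsg.Geo.specialLinear ι F ≤ M := by
  obtain ⟨g, hg, hgW⟩ := hg
  obtain ⟨w₀, hw₀, hgw₀⟩ : ∃ w ∈ W, (g : Matrix ι ι F) *ᵥ w ∉ W := by
    by_contra hc; push Not at hc; exact hgW (mem_stabilizer_of_mapsTo hc)
  have hconj : ∀ (h : GL ι F), h ∈ M → ∀ v, (∀ f : Dual F (ι → F), f v = 0 → Tm M f v) →
      ∀ f : Dual F (ι → F), f ((h : Matrix ι ι F) *ᵥ v) = 0 → Tm M f ((h : Matrix ι ι F) *ᵥ v) := by
    intro h hh v hv f hf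
    have h1 := (hv (f ∘ₗ Matrix.toLin' (h : Matrix ι ι F)) (by simpa using hf)).conj hh
    have he : (f ∘ₗ Matrix.toLin' (h : Matrix ι ι F)) ∘ₗ Matrix.toLin' ((h⁻¹ : GL ι F) : Matrix ι ι F) = f :=
      LinearMap.ext fun x => by
        rw [LinearMap.comp_apply, LinearMap.comp_apply, Matrix.toLin'_apply, Matrix.toLin'_apply, gl_inv_mulVec]
    rwa [he] at h1
  have hW : ∀ w ∈ W, ∀ f : Dual F (ι → F), f w = 0 → Tm M f w := fun w hw f hf =>
    ⟨hf, hle (transGL_mem_stab hf (Or.inl hw))⟩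
  have hu := hconj g hg w₀ (hW w₀ hw₀)
  set u := (g : Matrix ι ι F) *ᵥ w₀ with hudef
  refine specialLinear_le fun f v hf => ?_
  by_cases hv : v ∈ W
  · exact hW v hv f hf
  have main : ∀ v', u ∉ W ⊔ Submodule.span F {v' - u} → ∀ f : Dual F (ι → F), f v' = 0 → Tm M f v' := by
    intro v' hnot
    obtain ⟨φ, hφu, hφ⟩ := exists_dual_one hnot
    have hz : φ (v' - u) = 0 := hφ _ (Submodule.mem_sup_right (Submodule.mem_span_singleton_self _))
    have := hconj _ (hle (transGL_mem_stab (W := W) hz (Or.inr fun w hw => hφ w (Submodule.mem_sup_left hw)))) u hu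
    rwa [transGL_apply, hφu, one_smul, add_sub_cancel] at this
  by_cases hdep : u ∈ W ⊔ Submodule.span F {v - u}
  · obtain ⟨w, hw, z, hz, he⟩ := Submodule.mem_sup.1 hdep
    obtain ⟨a, rfl⟩ := Submodule.mem_span_singleton.1 hz
    have ha : a ≠ 0 := fun e => hgw₀ (by rw [← he, e, zero_smul, add_zero]; exact hw)
    have hv' : a • v = (1 + a) • u - w := by linear_combination (norm := module) he
    have h1a : 1 + a ≠ 0 := fun e => hv (by
      have : a⁻¹ • (a • v) ∈ W := W.smul_mem _ (by rw [hv', e, zero_smul, zero_sub]; exact W.neg_mem hw)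
      rwa [inv_smul_smul₀ ha] at this)
    have hb : v = ((1 + a) / a) • (u - (1 + a)⁻¹ • w) := by
      rw [smul_sub, smul_smul, div_eq_inv_mul, mul_assoc, mul_inv_cancel₀ h1a, mul_one, mul_smul, ← smul_sub,
        ← hv', inv_smul_smul₀ ha]
    have hne : (1 + a) / a ≠ 0 := div_ne_zero h1a ha
    rw [hb] at hf ⊢
    rw [map_smul, smul_eq_mul, mul_eq_zero, or_iff_right hne] at hf
    refine Tm.smul_centre _ hf (main _ ?_ _ (by simp [hf]))
    rw [sub_sub_cancel_left]
    intro hmem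
    have hle' : W ⊔ Submodule.span F {-((1 + a)⁻¹ • w)} ≤ W :=
      sup_le le_rfl (by rw [Submodule.span_singleton_le_iff_mem]; exact W.neg_mem (W.smul_mem _ hw))
    exact hgw₀ (hle' hmem)
  · exact main v hdep f hf

end Cfsg.Agent.Classical.MaxLin
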