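import Cfsg.Agent.Lib.Classical.HermGen
import Cfsg.Agent.Lib.Classical.MaxLinSubspace
import Cfsg.Agent.Lib.Classical.Unitary

/-!
Centres of unitary transvections in overgroups, and transfer of maximality to special unitary groups.
-/

set_option autoImplicit false
set_option linter.unusedSectionVars false

open Module Matrix

namespace Cfsg.Agent.Classical.MaxSU

open HermSep MaxLin HermGen

theorem hermForm_unitary {F : Type*} [Field F] [Fintype F] {n q : ℕ} (hF : Fintype.card F = q ^ 2) :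
    ∃ σ : F ≃+* F, Cfsg.Geo.IsUnitaryForm σ (Cfsg.hermForm n F q) := by
  obtain ⟨s, hs, hne, h2⟩ := Cfsg.Agent.Classical.Unitary.exists_frob hF
  let σ : F ≃+* F := RingEquiv.ofBijective s (Function.Involutive.bijective h2)
  have hσ : ∀ a, σ a = a ^ q := hs
  refine ⟨σ, fun e => hne (RingHom.ext fun a => RingEquiv.congr_fun e a), h2,
    fun x y v => by simp [Cfsg.hermForm, add_mul, Finset.sum_add_distrib],
    fun c x v => by simp [Cfsg.hermForm, Finset.mul_sum, mul_assoc],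
    fun v w => by
      simp only [Cfsg.hermForm, map_sum, map_mul, ← hσ]
      refine Finset.sum_congr rfl fun i _ => ?_
      rw [show σ (σ (v i)) = v i from h2 _, mul_comm], fun v hv => ?_⟩
  obtain ⟨i, hi⟩ := Function.ne_iff.1 hv
  have hq0 : q ≠ 0 := by have := Cfsg.Agent.Classical.Unitary.one_lt_q hF; omega
  refine ⟨⟨Pi.single i 1, ?_⟩, ⟨Pi.single i 1, ?_⟩⟩
  · rw [Cfsg.hermForm, Finset.sum_eq_single i (fun l _ hl => by simp [Pi.single_eq_of_ne hl]) (by simp)]
    simpa [hq0] using hi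
  · rw [Cfsg.hermForm, Finset.sum_eq_single i (fun l _ hl => by simp [Pi.single_eq_of_ne hl, hq0]) (by simp)]
    simpa using hi

theorem mem_su_iff {F : Type*} [Field F] {n q : ℕ} {g : GL (Fin n) F} :
    g ∈ Cfsg.GU n F q ⊓ Cfsg.Geo.specialLinear (Fin n) F ↔ Pres (Cfsg.hermForm n F q) g := by
  constructor
  · rintro ⟨h1, h2⟩
    exact ⟨h1, congrArg Units.val (MonoidHom.mem_ker.1 h2)⟩
  · rintro ⟨h1, h2⟩
    exact Subgroup.mem_inf.2 ⟨h1, MonoidHom.mem_ker.2 (Units.ext h2)⟩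

variable {F : Type*} [Field F] [Fintype F] {ι : Type} [Fintype ι] [DecidableEq ι]
variable {σ : F ≃+* F} {f : (ι → F) → (ι → F) → F} (hf : Cfsg.Geo.IsUnitaryForm σ f)

/-- `v` is an isotropic vector all whose unitary transvections lie in `M`. -/
def Cen (M : Subgroup (GL ι F)) (v : ι → F) : Prop :=
  f v v = 0 ∧ ∀ a, σ a = -a → Tm M (a • fn hf v) v

theorem cen_of_mem {M : Subgroup (GL ι F)} {v : ι → F} (hv : f v v = 0)
    (h : ∀ a, σ a = -a → ∀ h : ((a • fn hf v) : Dual F _) v = 0, transGL (a • fn hf v) v h ∈ M) : Cen hf M v := by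
  refine ⟨hv, fun a ha => ?_⟩
  have h0 : ((a • fn hf v) : Dual F _) v = 0 := by simp [fn_apply, hv]
  exact ⟨h0, h a ha h0⟩

include hf

theorem pres_T {v : ι → F} {a : F} (hv : f v v = 0) (ha : σ a = -a) (h : ((a • fn hf v) : Dual F _) v = 0) :
    Pres f (transGL (a • fn hf v) v h) :=
  pres_tgrp hf (Subgroup.subset_closure ⟨v, a, h, hv, ha, rfl⟩)

theorem Cen.smul {M : Subgroup (GL ι F)} {v : ι → F} (hv : Cen hf M v) (r : F) : Cen hf M (r • v) := by
  refine ⟨by rw [hf.smul_left, smul_right hf, hv.1, mul_zero, mul_zero], fun a ha => ?_⟩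
  have h0 : ((a • fn hf (r • v)) : Dual F _) v = 0 := by simp [fn_apply, smul_right hf, hv.1]
  refine Tm.smul_centre r h0 ?_
  have he : r • (a • fn hf (r • v)) = (a * (r * σ r)) • fn hf v := LinearMap.ext fun x => by
    simp [fn_apply, smul_right hf]; ring
  rw [he]
  exact hv.2 _ (by rw [map_mul, map_mul, hf.involutive, ha]; ring)

theorem Cen.map {M : Subgroup (GL ι F)} {v : ι → F} (hv : Cen hf M v) {g : GL ι F} (hg : g ∈ M) (hp : Pres f g) :
    Cen hf M ((g : Matrix ι ι F) *ᵥ v) := by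
  refine ⟨(hp.1 v v).trans hv.1, fun a ha => ?_⟩
  have := (hv.2 a ha).conj hg
  convert this using 1
  refine LinearMap.ext fun x => ?_
  rw [LinearMap.comp_apply, Matrix.toLin'_apply, LinearMap.smul_apply, LinearMap.smul_apply, fn_apply, fn_apply]
  conv_lhs => rw [← gl_inv_mulVec g x, hp.1]

theorem Cen.line {M : Subgroup (GL ι F)} {u v : ι → F} (hu : Cen hf M u) (hv : Cen hf M v) {a : F} (ha : σ a = -a) :
    Cen hf M (u + (a * f u v) • v) := by
  obtain ⟨h, hm⟩ := hv.2 a ha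
  have := hu.map hf hm (pres_T hf hv.1 ha h)
  rwa [transGL_apply, LinearMap.smul_apply, fn_apply, smul_eq_mul] at this

theorem Cen.unline {M : Subgroup (GL ι F)} {u v : ι → F} (hv : Cen hf M v) {a : F} (ha : σ a = -a)
    (h : Cen hf M (u + (a * f u v) • v)) : Cen hf M u := by
  have h1 := h.line hf hv (a := -a) (by rw [map_neg, ha])
  rw [hf.add_left, hf.smul_left, hv.1, mul_zero, add_zero, neg_mul, neg_smul, add_neg_cancel_right] at h1
  exact h1

theorem tgrp_le {M : Subgroup (GL ι F)} (h : ∀ v, f v v = 0 → Cen hf M v) : tgrp hf ≤ M := by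
  rw [tgrp, Subgroup.closure_le]
  rintro _ ⟨w, a, h0, hw, ha, rfl⟩
  exact ((h w hw).2 a ha).2

end Cfsg.Agent.Classical.MaxSU

namespace Cfsg.Agent.Classical.MaxSU

open HermSep MaxLin HermGen

variable {F : Type*} [Field F] [Fintype F] {n q : ℕ} {σ : F ≃+* F}

theorem su_isMaximalIn (hf : Cfsg.Geo.IsUnitaryForm σ (Cfsg.hermForm n F q)) (hn : 4 ≤ n)
    {K : Subgroup (GL (Fin n) F)} (hne : ∃ g, Pres (Cfsg.hermForm n F q) g ∧ g ∉ K)
    (hmax : ∀ M : Subgroup (GL (Fin n) F), (∀ g, Pres (Cfsg.hermForm n F q) g → g ∈ K → g ∈ M) →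
      (∀ g ∈ M, Pres (Cfsg.hermForm n F q) g) → (∃ g ∈ M, g ∉ K) →
      ∀ v, Cfsg.hermForm n F q v v = 0 → Cen hf M v) :
    Cfsg.Geo.IsMaximalIn (Cfsg.GU n F q ⊓ Cfsg.Geo.specialLinear (Fin n) F)
      (K ⊓ (Cfsg.GU n F q ⊓ Cfsg.Geo.specialLinear (Fin n) F)) := by
  refine ⟨lt_of_le_of_ne inf_le_right fun e => ?_, fun M h1 h2 => ?_⟩
  · obtain ⟨g, hg, hgK⟩ := hne
    exact hgK (Subgroup.mem_inf.1 (e.ge (mem_su_iff.2 hg))).1
  by_cases h : ∃ g ∈ M, g ∉ K
  · refine Or.inr (le_antisymm h2 fun g hg => ?_)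
    exact tgrp_le hf (hmax M (fun x hx hxK => h1 (Subgroup.mem_inf.2 ⟨hxK, mem_su_iff.2 hx⟩))
      (fun x hx => mem_su_iff.1 (h2 hx)) h) (mem_tgrp_of_pres hf (by simpa using hn) (mem_su_iff.1 hg))
  · push Not at h
    exact Or.inl (le_antisymm (le_inf h h2) h1)

end Cfsg.Agent.Classical.MaxSU
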