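import Cfsg.Agent.Lib.Classical.UnitaryChart

/-!
The chart of an automorphism of `PSU_n(q)` is given by a semilinear similitude.
-/

set_option autoImplicit false
set_option linter.style.haveILetI false
set_option linter.unusedSectionVars false

open Matrix

namespace Cfsg.Agent.PSUAut

variable {F : Type*} [Field F] [Fintype F] {n q : ℕ} (C : Ctx F n q)

local notation "hm" => Cfsg.hermForm n F q

include C

theorem exists_trace_one : ∃ t : F, t + t ^ q = 1 := exists_trace C (one_pow q)

/-- A combination with an anisotropic vector is anisotropic for some parameter, unless it is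
orthogonal to it and the norm is trivial. -/
theorem aniso_or {w w₀ : Fin n → F} (h0 : hm w₀ w₀ ≠ 0) :
    (∃ ν : F, ν ≠ 0 ∧ hm (w + ν • w₀) (w + ν • w₀) ≠ 0) ∨
      (hm w₀ w = 0 ∧ ∀ ν : F, ν ≠ 0 → hm w w + ν * ν ^ q * hm w₀ w₀ = 0) := by
  by_cases hex : ∃ ν : F, ν ≠ 0 ∧ hm (w + ν • w₀) (w + ν • w₀) ≠ 0
  · exact Or.inl hex
  push Not at hex
  have hf : ∀ ν : F, ν ≠ 0 → hm w w + (ν * hm w₀ w + (ν * hm w₀ w) ^ q) + ν * ν ^ q * hm w₀ w₀ = 0 := by
    intro ν hν
    have := hex ν hν
    simp only [add_left, add_right C, smul_left, smul_right] at this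
    rw [mul_pow, pow_symm C]
    linear_combination this
  obtain ⟨a, ha⟩ := exists_not_fixed C
  have ha0 : a ≠ 0 := fun e => ha (by rw [e, zero_pow_q C])
  have hm1 : a ^ q / a ≠ 1 := fun e => ha ((div_eq_one_iff_eq ha0).1 e)
  have hb : hm w₀ w = 0 := by
    by_contra hb
    obtain ⟨t, ht⟩ := exists_trace_one C
    set ν := t / ((a ^ q / a - 1) * hm w₀ w) with hνdef
    have ht0 : t ≠ 0 := fun e => by rw [e, zero_pow_q C, add_zero] at ht; exact zero_ne_one ht
    have hν : ν ≠ 0 := div_ne_zero ht0 (mul_ne_zero (sub_ne_zero.2 hm1) hb)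
    have hmν : a ^ q / a * ν ≠ 0 := mul_ne_zero (div_ne_zero (pow_ne_zero _ ha0) ha0) hν
    have hN : (a ^ q / a * ν) * (a ^ q / a * ν) ^ q = ν * ν ^ q := by
      rw [mul_pow, div_pow, pow_q_q C]
      field_simp
    have e1 := hf ν hν
    have e2 := hf _ hmν
    rw [hN] at e2
    have e3 : t = (a ^ q / a * ν) * hm w₀ w - ν * hm w₀ w := by
      have : t = (a ^ q / a - 1) * hm w₀ w * ν := by
        rw [hνdef, mul_div_cancel₀ _ (mul_ne_zero (sub_ne_zero.2 hm1) hb)]
      linear_combination this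
    rw [e3, sub_pow_q C] at ht
    exact one_ne_zero (α := F) (by linear_combination -ht + e2 - e1)
  refine Or.inr ⟨hb, fun ν hν => ?_⟩
  have := hf ν hν
  rw [hb, mul_zero, zero_pow_q C, add_zero, add_zero] at this
  exact this

variable {α : MulAut (Cfsg.PSU n F q)} {P P' : Frame F n q} (D : Chart α P P')

include D

omit C D in
theorem inW_smul {w : Fin n → F} (h : P.InW w) (a : F) : P.InW (a • w) :=
  ⟨by rw [smul_left, h.1, mul_zero], by rw [smul_left, h.2, mul_zero]⟩

omit C D in
theorem inW_add {v w : Fin n → F} (hv : P.InW v) (h : P.InW w) : P.InW (v + w) :=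
  ⟨by rw [add_left, hv.1, h.1, add_zero], by rw [add_left, hv.2, h.2, add_zero]⟩

omit D in
theorem exists_aniso (P : Frame F n q) : ∃ w, P.InW w ∧ hm w w ≠ 0 := by
  obtain ⟨x, hx, hxe, hxf⟩ := exists_orth_two C P.e P.f
  have hxW : P.InW x := ⟨hxe, hxf⟩
  by_cases hd : hm x x = 0
  swap
  · exact ⟨x, hxW, hd⟩
  obtain ⟨y₀, hy₀⟩ := exists_dual C hx
  have hy : hm (P.pr y₀) x = 1 := by rw [P.hm_pr C hxW, hy₀]
  obtain ⟨t, ht⟩ := exists_trace C (c := 1 - hm (P.pr y₀) (P.pr y₀))
    (by rw [sub_pow_q C, one_pow, self_fixed C])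
  refine ⟨P.pr y₀ + t • x, inW_add (P.pr_mem _) (inW_smul hxW t), ?_⟩
  simp only [add_left, add_right C, smul_left, smul_right, hd, hy, one_symm C hy]
  intro h
  exact one_ne_zero (α := F) (by linear_combination h - ht)

/-- Lines through anisotropic vectors go to lines. -/
theorem line_of_not_fixed {w : Fin n → F} (hw : P.InW w) (hd : hm w w ≠ 0) {μ : F} (hμ : μ ^ q ≠ μ) :
    ∃ m : F, D.A (μ • w) = m • D.A w := by
  have hμ0 : μ ≠ 0 := fun e => hμ (by rw [e, zero_pow_q C])
  set x := μ⁻¹ - 1 with hx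
  have hxne : x ^ q - x ≠ 0 := fun e => hμ (by
    have h2 : μ⁻¹ ^ q = μ⁻¹ := by
      rw [hx, sub_pow_q C, one_pow] at e
      linear_combination e
    rw [inv_pow] at h2
    exact inv_injective h2)
  set d := (x ^ q - x) / hm w w with hddef
  have hd0 : d ≠ 0 := div_ne_zero hxne hd
  have sd : d + d ^ q = 0 := by
    rw [hddef, div_pow, sub_pow_q C (x ^ q) x, pow_q_q C, self_fixed C]; field_simp; ring
  have hAd : Ad P w (x / d) := by
    refine ⟨hw, ?_⟩
    rw [div_pow, show d ^ q = -d by linear_combination sd, hddef]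
    field_simp
    ring
  have e1 : 1 + d * (x / d) = μ⁻¹ := by rw [mul_div_cancel₀ _ hd0, hx]; ring
  have hne : 1 + d * (x / d) ≠ 0 := by rw [e1]; exact inv_ne_zero hμ0
  obtain ⟨hiff, hline⟩ := flip C D hAd sd
  have := hline hne
  rw [e1, inv_inv] at this
  refine ⟨(1 + D.ψ d * D.B w (x / d))⁻¹, ?_⟩
  conv_rhs => rw [this]
  rw [inv_smul_smul₀ (fun h => hne (hiff.2 h))]

/-- The coefficient along an anisotropic vector. -/
theorem exists_coeff {w : Fin n → F} (hw : P.InW w) (hd : hm w w ≠ 0) (μ : F) :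
    ∃ m : F, D.A (μ • w) = m • D.A w := by
  by_cases hμ : μ ^ q = μ
  swap
  · exact line_of_not_fixed C D hw hd hμ
  rcases eq_or_ne μ 0 with rfl | hμ0
  · exact ⟨0, by rw [zero_smul, zero_smul]; exact (B_zero C D (show (0 : F) + 0 ^ q = 0 by
      rw [zero_pow_q C, add_zero])).1⟩
  obtain ⟨k, hk0, hk⟩ := exists_skew C
  exact ⟨_, A_fixed C D hk0 hk hμ0 hμ hw⟩

omit D in
/-- Elements of `F` satisfy their quadratic equation over the fixed field. -/
theorem quad (x : F) : x * x = (x + x ^ q) * x - x * x ^ q := by ring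

/-- The field automorphism along an anisotropic vector. -/
theorem exists_aut {w : Fin n → F} (hw : P.InW w) (hd : hm w w ≠ 0) :
    ∃ σ : F ≃+* F, (∀ μ, D.A (μ • w) = σ μ • D.A w) := by
  obtain ⟨k, hk0, hk⟩ := exists_skew C
  have hAw : D.A w ≠ 0 := fun h => by rw [A_injective C D hw h, zero_left] at hd; exact hd rfl
  choose g hg using exists_coeff C D hw hd
  have uniq : ∀ {μ m : F}, D.A (μ • w) = m • D.A w → g μ = m := fun h =>
    smul_left_injective F hAw ((hg _).symm.trans h)
  have gadd : ∀ x y, g (x + y) = g x + g y := fun x y => uniq (by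
    rw [add_smul, A_add' C D (inW_smul hw _) (inW_smul hw _), hg, hg, add_smul])
  have g1 : g 1 = 1 := uniq (by rw [one_smul, one_smul])
  have g0 : g 0 = 0 := by have := gadd 0 0; rwa [add_zero, left_eq_add] at this
  have gneg : ∀ x, g (-x) = -g x := fun x =>
    eq_neg_of_add_eq_zero_left (by rw [← gadd, neg_add_cancel, g0])
  have ginj : Function.Injective g := fun x y e => by
    have h1 : D.A ((x - y) • w) = 0 := by
      rw [hg, show g (x - y) = g x + g (-y) by rw [← gadd, sub_eq_add_neg], gneg, e, add_neg_cancel, zero_smul]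
    exact sub_eq_zero.1 ((smul_eq_zero.1 (A_injective C D (inW_smul hw _) h1)).resolve_right
      (fun h => hd (by rw [h, zero_left])))
  have gfix : ∀ r : F, r ≠ 0 → r ^ q = r → g r = D.ψ (r / k) * D.φ k := fun r hr0 hr =>
    uniq (A_fixed C D hk0 hk hr0 hr hw)
  have grx : ∀ r : F, r ^ q = r → ∀ x, g (r * x) = g r * g x := by
    intro r hr x
    rcases eq_or_ne r 0 with rfl | hr0
    · rw [zero_mul, g0, zero_mul]
    refine uniq ?_
    rw [mul_smul, A_fixed C D hk0 hk hr0 hr (inW_smul hw x), ← gfix r hr0 hr, hg, mul_smul]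
  have gψ : ∀ r d : F, r ^ q = r → d + d ^ q = 0 → r ≠ 0 → d ≠ 0 → D.ψ (r * d) = g r * D.ψ d := by
    intro r d hr hd' hr0 hd0
    have hφk : D.φ k ≠ 0 := by
      intro h
      have := gfix 1 one_ne_zero (one_pow q)
      rw [g1, h, mul_zero] at this
      exact one_ne_zero this
    have hs : (d * k) ^ q = d * k := by
      rw [mul_pow]; linear_combination (d ^ q) * hk - k * hd'
    have hs0 : d * k ≠ 0 := mul_ne_zero hd0 hk0
    have e1 := gfix (r * (d * k)) (mul_ne_zero hr0 hs0) (by rw [mul_pow, hr, hs])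
    rw [grx r hr, gfix (d * k) hs0 hs, show r * (d * k) / k = r * d by field_simp,
      show d * k / k = d by field_simp] at e1
    exact mul_right_cancel₀ hφk (by linear_combination -e1)
  have key : ∀ x : F, x ^ q ≠ x → g x * g x = g (x + x ^ q) * g x - g (x * x ^ q) := by
    intro x hx
    have hsum : g (x ^ q) = g (x + x ^ q) - g x := by rw [gadd]; ring
    by_cases hq2 : ∀ r : F, r ≠ 0 → r ^ q = r → r = 1
    · -- the field with four elements
      have hcard : Nat.card {a : F // a ≠ 0 ∧ a ^ q = a} = 1 :=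
        Nat.card_eq_one_iff_exists.2 ⟨⟨1, one_ne_zero, one_pow q⟩, fun a => Subtype.ext (hq2 a a.2.1 a.2.2)⟩
      rw [Classical.Unitary.card_fixed_nonzero C.hF] at hcard
      obtain rfl : q = 2 := by omega
      have h4 : Fintype.card F = 4 := C.hF
      have h2 : (2 : F) = 0 := by
        have : ((4 : ℕ) : F) = 0 := h4 ▸ Nat.cast_card_eq_zero F
        exact mul_self_eq_zero.1 (by rw [← this]; norm_num)
      have hroot : ∀ y : F, y ^ 2 ≠ y → y ^ 2 + y + 1 = 0 := by
        intro y hy
        have hpow : y ^ 4 = y := h4 ▸ FiniteField.pow_card y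
        refine (mul_eq_zero.1 (show (y ^ 2 - y) * (y ^ 2 + y + 1) = 0 by linear_combination hpow)).resolve_left
          (sub_ne_zero.2 hy)
      have hgx : g x ^ 2 ≠ g x := by
        intro e
        rcases mul_eq_zero.1 (show g x * (g x - 1) = 0 by linear_combination e) with e' | e'
        · exact hx (by rw [ginj (e'.trans g0.symm)]; ring)
        · exact hx (by rw [ginj ((sub_eq_zero.1 e').trans g1.symm), one_pow])
      have hr := hroot x hx
      rw [show x + x ^ 2 = 1 by linear_combination hr - h2, show x * x ^ 2 = 1 by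
        linear_combination (x - 1) * hr, g1]
      linear_combination hroot _ hgx - h2 * g x
    push Not at hq2
    obtain ⟨r₀, hr₀0, hr₀, hr₀1⟩ := hq2
    set d := (x ^ q - x) / hm w w with hddef
    have hd0 : d ≠ 0 := div_ne_zero (sub_ne_zero.2 hx) hd
    have sd : d + d ^ q = 0 := by
      rw [hddef, div_pow, sub_pow_q C, pow_q_q C, self_fixed C]; field_simp; ring
    have hAd : Ad P w (x / d) := by
      refine ⟨hw, ?_⟩
      rw [div_pow, show d ^ q = -d by linear_combination sd, hddef]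
      field_simp
      ring
    set X := D.ψ d * D.B w (x / d) with hX
    have eqn : ∀ r : F, r ≠ 0 → r ^ q = r →
        g r * (g (x ^ q) + X - g (x + x ^ q)) + g r ^ 2 * (g (x ^ q) * X - g (x * x ^ q)) = 0 := by
      intro r hr0 hr
      have srd : r * d + (r * d) ^ q = 0 := by rw [mul_pow, hr]; linear_combination r * sd
      have e1 : 1 + r * d * (x / d) = 1 + r * x := by field_simp
      have hne : 1 + r * x ≠ 0 := fun h => hx (by
        have h' := congrArg (· ^ q) h
        simp only [add_pow_q C, one_pow, mul_pow, hr, zero_pow_q C] at h'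
        exact mul_left_cancel₀ hr0 (by linear_combination h' - h))
      have := (flip C D hAd srd).2 (by rw [e1]; exact hne)
      rw [e1, hg, smul_smul, gψ r d hr sd hr0 hd0] at this
      have hone : (1 + g r * X) * g (1 + r * x)⁻¹ = 1 := by
        refine smul_left_injective F hAw ?_
        show _ • D.A w = (1 : F) • D.A w
        rw [one_smul]
        conv_rhs => rw [this]
        rw [hX]; congr 1; ring
      have hN : (1 + r * (x + x ^ q) + r * r * (x * x ^ q)) ^ q =
          1 + r * (x + x ^ q) + r * r * (x * x ^ q) := by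
        simp only [add_pow_q C, mul_pow, one_pow, hr, pow_q_q C]; ring
      have hgN := grx _ hN ((1 + r * x)⁻¹)
      rw [show (1 + r * (x + x ^ q) + r * r * (x * x ^ q)) * (1 + r * x)⁻¹ = 1 + r * x ^ q by
        field_simp; ring, gadd, g1, grx r hr, gadd, gadd, g1, grx r hr,
        show r * r * (x * x ^ q) = r * (r * (x * x ^ q)) by ring, grx r hr, grx r hr] at hgN
      linear_combination (1 + g r * X) * hgN +
        (1 + g r * g (x + x ^ q) + g r ^ 2 * g (x * x ^ q)) * hone
    have E1 := eqn 1 one_ne_zero (one_pow q)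
    have E2 := eqn r₀ hr₀0 hr₀
    rw [g1] at E1
    have ht0 : g r₀ ≠ 0 := fun h => hr₀0 (ginj (h.trans g0.symm))
    have ht1 : g r₀ - 1 ≠ 0 := sub_ne_zero.2 fun h => hr₀1 (ginj (h.trans g1.symm))
    have hM : g (x ^ q) * X - g (x * x ^ q) = 0 :=
      (mul_eq_zero.1 (show g r₀ * (g r₀ - 1) * (g (x ^ q) * X - g (x * x ^ q)) = 0 by
        linear_combination E2 - g r₀ * E1)).resolve_left (mul_ne_zero ht0 ht1)
    have hXx : X = g x := by linear_combination E1 - hM - hsum
    rw [hXx] at hM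
    linear_combination -hM + g x * hsum
  obtain ⟨z, hz⟩ := exists_not_fixed C
  have gT : (z + z ^ q) ^ q = z + z ^ q := by rw [add_pow_q C, pow_q_q C, add_comm]
  have gM : (z * z ^ q) ^ q = z * z ^ q := by rw [mul_pow, pow_q_q C, mul_comm]
  have coord : ∀ μ : F, ∃ a b : F, a ^ q = a ∧ b ^ q = b ∧ μ = a + b * z := by
    intro μ
    have hz0 : z - z ^ q ≠ 0 := sub_ne_zero.2 (Ne.symm hz)
    have hb : ((μ - μ ^ q) / (z - z ^ q)) ^ q = (μ - μ ^ q) / (z - z ^ q) := by
      rw [div_pow, sub_pow_q C, sub_pow_q C, pow_q_q C, pow_q_q C, ← neg_sub μ, ← neg_sub z, neg_div_neg_eq]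
    refine ⟨μ - (μ - μ ^ q) / (z - z ^ q) * z, _, ?_, hb, by ring⟩
    rw [sub_pow_q C, mul_pow, hb]
    field_simp
    ring
  have gsq : ∀ c : F, c ^ q = c → g (c * (z * z)) = g c * (g z * g z) := by
    intro c hc
    rw [grx c hc, key z hz, quad C z, sub_eq_add_neg (G := F), gadd, gneg, grx _ gT]
    ring
  have gmul : ∀ x y, g (x * y) = g x * g y := by
    intro x y
    obtain ⟨a, b, ha, hb, rfl⟩ := coord x
    obtain ⟨c, d', hc, hd', rfl⟩ := coord y
    have e1 : (a * c) ^ q = a * c := by rw [mul_pow, ha, hc]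
    have e2 : (a * d' + b * c) ^ q = a * d' + b * c := by rw [add_pow_q C, mul_pow, mul_pow, ha, hb, hc, hd']
    have e3 : (b * d') ^ q = b * d' := by rw [mul_pow, hb, hd']
    rw [show (a + b * z) * (c + d' * z) = a * c + (a * d' + b * c) * z + b * d' * (z * z) by ring,
      gadd, gadd, grx _ e2, gsq _ e3, gadd, gadd, gadd, grx _ hb, grx _ hd', grx _ ha, grx _ ha, grx _ hb,
      grx _ hb]
    ring
  refine ⟨{ Equiv.ofBijective g (Finite.injective_iff_bijective.1 ginj) with
    map_mul' := gmul, map_add' := gadd }, hg⟩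

theorem A_indep {w w' : Fin n → F} (hw : P.InW w) (hd : hm w w ≠ 0) (hw' : P.InW w') (hd' : hm w' w' ≠ 0)
    {σ σ' : F ≃+* F} (hσ : ∀ μ, D.A (μ • w) = σ μ • D.A w) (hσ' : ∀ μ, D.A (μ • w') = σ' μ • D.A w') :
    σ = σ' := by
  have hw0 : w ≠ 0 := fun h => hd (by rw [h, zero_left])
  have hAw : D.A w ≠ 0 := fun h => hw0 (A_injective C D hw h)
  have hw'0 : w' ≠ 0 := fun h => hd' (by rw [h, zero_left])
  have hAw' : D.A w' ≠ 0 := fun h => hw'0 (A_injective C D hw' h)
  by_cases hpar : ∃ ν : F, w' = ν • w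
  · obtain ⟨ν, rfl⟩ := hpar
    refine RingEquiv.ext fun μ => smul_left_injective F hAw' ?_
    show σ μ • D.A (ν • w) = σ' μ • D.A (ν • w)
    rw [← hσ', smul_smul, hσ, hσ, smul_smul, map_mul]
  rcases aniso_or C (w := w') hd with ⟨ν, hν, hu⟩ | ⟨horth, hN⟩
  · obtain ⟨τ, hτ⟩ := exists_aut C D (inW_add hw' (inW_smul hw ν)) hu
    refine RingEquiv.ext fun μ => ?_
    have e := hτ μ
    rw [smul_add, smul_smul, A_add' C D (inW_smul hw' μ) (inW_smul hw _),
      A_add' C D hw' (inW_smul hw ν), hσ', hσ, hσ, map_mul, smul_add, smul_smul] at e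
    have e1 : (σ' μ - τ μ) • D.A w' = ((τ μ - σ μ) * σ ν) • D.A w := by
      linear_combination (norm := module) e
    have h1 : σ' μ = τ μ := by
      by_contra hne
      refine hpar ⟨σ.symm ((σ' μ - τ μ)⁻¹ * ((τ μ - σ μ) * σ ν)), ?_⟩
      have hz : D.A (w' + (-1 : F) • (σ.symm ((σ' μ - τ μ)⁻¹ * ((τ μ - σ μ) * σ ν)) • w)) = 0 := by
        rw [A_add' C D hw' (inW_smul (inW_smul hw _) _), smul_smul, hσ, map_mul, map_neg, map_one,
          RingEquiv.apply_symm_apply, neg_one_mul, neg_smul, mul_smul, ← e1,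
          inv_smul_smul₀ (sub_ne_zero.2 hne), add_neg_cancel]
      have := A_injective C D (inW_add hw' (inW_smul (inW_smul hw _) _)) hz
      rwa [neg_one_smul, add_neg_eq_zero] at this
    rw [h1, sub_self, zero_smul, eq_comm, smul_eq_zero] at e1
    have h2 := (mul_eq_zero.1 (e1.resolve_right hAw)).resolve_right
      (fun h => hν (σ.injective (h.trans (map_zero σ).symm)))
    rw [h1]; exact (sub_eq_zero.1 h2).symm
  · -- the norm is trivial: a transvection interchanges the two vectors
    have hsq : hm w w = 1 := by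
      obtain ⟨c, hc⟩ := Classical.Unitary.exists_scale C.hF hd (self_fixed C w)
      have hc0 : c ≠ 0 := fun e => hd (by rw [← hc, e, zero_mul])
      have e1 := hN c hc0
      have e2 := hN 1 one_ne_zero
      rw [hc] at e1
      rw [one_pow, one_mul, one_mul] at e2
      exact mul_right_cancel₀ hd (by linear_combination e1 - e2)
    obtain ⟨c, hc⟩ := Classical.Unitary.exists_scale C.hF (a := (-1 : F))
      (neg_ne_zero.2 one_ne_zero) (by rw [neg_pow_q C, one_pow])
    have hneg : (-1 : F) = 1 := by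
      have hc0 : c ≠ 0 := fun e => by rw [e, zero_mul] at hc; exact one_ne_zero (neg_eq_zero.1 hc.symm)
      have e1 := hN c hc0
      have e2 := hN 1 one_ne_zero
      rw [hc, hsq] at e1
      rw [hsq, one_pow, one_mul, one_mul] at e2
      linear_combination e1 - e2
    have h2 : (2 : F) = 0 := by linear_combination -hneg
    have hw'w' : hm w' w' = 1 := by
      have := hN 1 one_ne_zero
      rw [hsq, one_pow, one_mul, one_mul] at this
      linear_combination this - h2
    set u := w' + w with hu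
    have huW : P.InW u := inW_add hw' hw
    have hui : Iso q u := ⟨fun h => hpar ⟨-1, by rw [neg_one_smul]; exact eq_neg_of_add_eq_zero_left h⟩, by
      simp only [hu, add_left, add_right C, hw'w', hsq, horth, orth_symm C horth]
      linear_combination h2⟩
    obtain ⟨u', hu'i, hTu⟩ := image_T C α hui
    have hu'e : hm u' P'.e = 0 := (orth_e_iff C D hui hu'i hTu).1 huW.1
    have hu'f : hm u' P'.f = 0 := by
      rw [← comm_iff C hu'i P'.f_iso, ← hTu, ← D.hTf]
      rintro _ ⟨x, hx, rfl⟩ _ ⟨y, hy, rfl⟩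
      rw [← map_mul, ← map_mul, (comm_iff C hui P.f_iso).2 huW.2 x hx y hy]
    have hc1 : (1 : F) + 1 ^ q = 0 := by rw [one_pow]; linear_combination h2
    obtain ⟨c', hc', ec⟩ : ∃ c', c' + c' ^ q = 0 ∧ α (cls q (EM q u 0 1)) = cls q (EM q u' 0 c') := by
      obtain ⟨d, hd, e⟩ := (hTu ▸ ⟨_, T_mem C hc1, rfl⟩ : α (cls q (EM q u 0 1)) ∈ T q u')
      exact ⟨d, hd, e⟩
    -- the transvection acts linearly in both charts
    have hlin : ∀ v, P.InW v → D.A (v + hm v u • u) = D.A v + (c' * hm (D.A v) u') • u' := by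
      intro v hv
      obtain ⟨a, ha⟩ := exists_ad C hv
      obtain ⟨h1, -⟩ := D.hQ _ _ ha
      have e3 : EM q u 0 1 *ᵥ pt P v a = pt P (v + hm v u • u) a := by
        rw [EM_apply, pt, pt, zero_right C, add_left, add_left, smul_left, orth_symm C huW.1,
          orth_symm C huW.2]
        module
      have e4 : EM q u' 0 c' *ᵥ pt P' (D.A v) (D.B v a) =
          pt P' (D.A v + (c' * hm (D.A v) u') • u') (D.B v a) := by
        rw [EM_apply, pt, pt, zero_right C, add_left, add_left, smul_left, orth_symm C hu'e,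
          orth_symm C hu'f]
        module
      have hAd : Ad P (v + hm v u • u) a := by
        refine ⟨inW_add hv (inW_smul huW _), ha.2.trans ?_⟩
        simp only [add_left, add_right C, smul_left, smul_right, hui.2]
        rw [pow_symm C]
        linear_combination hm v u * hm u v * h2
      have hiso : Iso q (EM q u' 0 c' *ᵥ pt P' (D.A v) (D.B v a)) := by
        rw [← EM_f C P' h1, ← mat_el C (Ad.val C h1), ← mat_el C (val_zero C hu'i.2 hc')]
        exact ⟨mat_ne_zero _ (mat_ne_zero _ P'.f_iso.1), by rw [mat_pres, mat_pres, P'.hff]⟩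
      have himg := step C α (pt_iso C D ha).2 (by
        rw [← EM_f C P' h1, ← mat_el C (Ad.val C h1), mat_pres, P'.hff]) (pt_image C D ha)
        (val_zero C hui.2 hc1) (val_zero C hu'i.2 hc') ec
      rw [e3] at himg
      rw [e4] at hiso himg
      have hp := congrArg P'.pr (compare C D (pt_iso C D hAd).2 hAd hiso (Par.refl _) himg)
      have hu'W : P'.InW u' := ⟨hu'e, hu'f⟩
      have hAd' : P'.InW (D.A v + (c' * hm (D.A v) u') • u') := inW_add h1.1 (inW_smul hu'W _)
      rw [P'.pr_smul, pt_pr C P' (D.hQ _ _ hAd).1] at hp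
      simp only [Frame.pr, pt, add_left, smul_left, P'.hee, P'.hef, P'.hfe, P'.hff, hu'W.1, hu'W.2,
        h1.1.1, h1.1.2, mul_zero, mul_one, zero_add, add_zero] at hp
      linear_combination (norm := module) -hp
    refine RingEquiv.ext fun μ => smul_left_injective F hAw' ?_
    show σ μ • D.A w' = σ' μ • D.A w'
    have e5 : w + hm w u • u = w' := by
      rw [hu, add_right C, horth, hsq, zero_add, one_smul]
      have : w + w = 0 := by rw [← two_smul F w, h2, zero_smul]
      linear_combination (norm := module) this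
    have e6 : μ • w' = μ • w + hm (μ • w) u • u := by rw [← e5, smul_add, smul_smul, smul_left]
    rw [← hσ', e6, hlin _ (inW_smul hw μ), hσ]
    conv_lhs => rw [← e5, hlin _ hw]
    rw [smul_left, smul_add, smul_smul]
    congr 2
    ring

/-- The chart is semilinear. -/
theorem exists_semilinear : ∃ σ : F ≃+* F, ∀ (μ : F) w, P.InW w → D.A (μ • w) = σ μ • D.A w := by
  obtain ⟨w₀, hw₀, hd₀⟩ := exists_aniso C P
  obtain ⟨σ, hσ⟩ := exists_aut C D hw₀ hd₀
  have han : ∀ v, P.InW v → hm v v ≠ 0 → ∀ μ, D.A (μ • v) = σ μ • D.A v := by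
    intro v hv hd μ
    obtain ⟨σ', hσ'⟩ := exists_aut C D hv hd
    rw [hσ', A_indep C D hw₀ hd₀ hv hd hσ hσ']
  refine ⟨σ, fun μ w hw => ?_⟩
  by_cases hd : hm w w = 0
  swap
  · exact han w hw hd μ
  rcases aniso_or C (w := w) hd₀ with ⟨ν, hν, hu⟩ | ⟨-, hN⟩
  swap
  · have := hN 1 one_ne_zero
    rw [hd, zero_add, one_pow, one_mul, one_mul] at this
    exact absurd this hd₀
  have e1 : w = (w + ν • w₀) + (-ν) • w₀ := by module
  have hu' : hm ((-ν) • w₀) ((-ν) • w₀) ≠ 0 := by
    rw [smul_left, smul_right]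
    exact mul_ne_zero (neg_ne_zero.2 hν) (mul_ne_zero (pow_ne_zero _ (neg_ne_zero.2 hν)) hd₀)
  have hW1 := inW_add hw (inW_smul hw₀ ν)
  have hW2 := inW_smul (P := P) hw₀ (-ν)
  conv_lhs => rw [e1, smul_add, A_add' C D (inW_smul hW1 μ) (inW_smul hW2 μ), han _ hW1 hu, han _ hW2 hu',
    ← smul_add, ← A_add' C D hW1 hW2, ← e1]

/-- The chart is a semilinear similitude. -/
theorem exists_similitude : ∃ (σ : F ≃+* F) (κ : F), κ ≠ 0 ∧ κ ^ q = κ ∧
    (∀ (μ : F) w, P.InW w → D.A (μ • w) = σ μ • D.A w) ∧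
    (∀ w w', P.InW w → P.InW w' → hm (D.A w) (D.A w') = κ * σ (hm w w')) ∧
    (∀ w a, Ad P w a → D.B w a = κ * σ a) ∧ (∀ d, d + d ^ q = 0 → D.ψ d = σ d / κ) := by
  obtain ⟨σ, hσ⟩ := exists_semilinear C D
  obtain ⟨w₀, hw₀, hd₀⟩ := exists_aniso C P
  have hrel : ∀ w w', P.InW w → P.InW w' →
      D.φ (hm w w' - hm w' w) = hm (D.A w) (D.A w') - hm (D.A w') (D.A w) := by
    intro w w' hw hw'
    obtain ⟨a, h⟩ := exists_ad C hw
    obtain ⟨a', h'⟩ := exists_ad C hw'
    have e1 := (A_add C D h h').2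
    have e2 := (A_add C D h' h).2
    have hk : (hm w w' - hm w' w) + (hm w w' - hm w' w) ^ q = 0 := by
      rw [sub_pow_q C, pow_symm C, pow_symm C]; ring
    have h3 := ad_add C h' h
    have e3 := (A_add C D h3 (ad_skew C P hk)).2
    rw [add_zero, (B_zero C D hk).1, zero_left, zero_left, sub_zero, sub_zero, (B_zero C D hk).2, add_comm w' w,
      show a' + a - hm w w' + (hm w w' - hm w' w) = a + a' - hm w' w by ring] at e3
    rw [e1, add_comm w w', e2] at e3
    linear_combination -e3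
  have hσq : ∀ x, σ (x ^ q) = σ x ^ q := fun x => map_pow σ x q
  set κ := hm (D.A w₀) (D.A w₀) / σ (hm w₀ w₀) with hκdef
  have hs0 : σ (hm w₀ w₀) ≠ 0 := fun h => hd₀ (σ.injective (h.trans (map_zero σ).symm))
  have hsfix : σ (hm w₀ w₀) ^ q = σ (hm w₀ w₀) := by rw [← hσq, self_fixed C]
  have hκq : κ ^ q = κ := by rw [hκdef, div_pow, self_fixed C, hsfix]
  have hφ : ∀ c : F, c + c ^ q = 0 → D.φ c = κ * σ c := by
    intro c hc
    obtain ⟨t, ht⟩ := exists_trace_one C
    set μ := -t * (c / hm w₀ w₀) with hμdef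
    have e := hrel w₀ (μ • w₀) hw₀ (inW_smul hw₀ μ)
    have hμ : μ ^ q - μ = c / hm w₀ w₀ := by
      rw [hμdef, mul_pow, neg_pow_q C, div_pow, self_fixed C, show c ^ q = -c by linear_combination hc]
      linear_combination (c / hm w₀ w₀) * ht
    have hc' : c = (μ ^ q - μ) * hm w₀ w₀ := by rw [hμ, div_mul_cancel₀ _ hd₀]
    rw [hσ μ w₀ hw₀, smul_right, smul_left, smul_left, smul_right, ← sub_mul, ← hc', ← sub_mul, ← hσq,
      ← map_sub] at e
    rw [e, hc', map_mul, hκdef]
    field_simp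
  have hκ : κ ≠ 0 := by
    intro h
    obtain ⟨k, hk0, hk⟩ := exists_skew C
    have := ψφ C D (show k⁻¹ + k⁻¹ ^ q = 0 by
      rw [inv_pow, show k ^ q = -k by linear_combination hk, inv_neg, add_neg_cancel]) (inv_ne_zero hk0)
    rw [inv_inv, hφ k hk, h, zero_mul, mul_zero] at this
    exact zero_ne_one this
  have hH : ∀ w w', P.InW w → P.InW w' → hm (D.A w) (D.A w') = κ * σ (hm w w') := by
    intro w w' hw hw'
    set E := hm (D.A w) (D.A w') - κ * σ (hm w w') with hE
    have hEq : ∀ μ : F, σ μ ^ q * E = σ μ * E ^ q := by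
      intro μ
      have e := hrel w (μ • w') hw (inW_smul hw' μ)
      have hk : (hm w (μ • w') - hm (μ • w') w) + (hm w (μ • w') - hm (μ • w') w) ^ q = 0 := by
        rw [sub_pow_q C, pow_symm C, pow_symm C]; ring
      rw [hφ _ hk, hσ μ w' hw', smul_right, smul_left, smul_right, smul_left, ← pow_symm C w w',
        ← pow_symm C (D.A w) (D.A w'), map_sub, map_mul, map_mul, hσq, hσq] at e
      rw [hE, sub_pow_q C, mul_pow, hκq]
      linear_combination -e
    have h1 := hEq 1
    rw [map_one, one_pow, one_mul, one_mul] at h1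
    obtain ⟨a, ha⟩ := exists_not_fixed C
    have h2 := hEq a
    rw [← h1] at h2
    have : E = 0 := (mul_eq_zero.1 (show (σ a ^ q - σ a) * E = 0 by linear_combination h2)).resolve_left
      (sub_ne_zero.2 fun h => ha (σ.injective (by rw [hσq, h])))
    exact sub_eq_zero.1 this
  have hψ : ∀ d, d + d ^ q = 0 → D.ψ d = σ d / κ := by
    intro d hd
    rcases eq_or_ne d 0 with rfl | hd0
    · have := ψ_add C D hd hd
      rw [add_zero, left_eq_add] at this
      rw [this, map_zero, zero_div]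
    have hi : d⁻¹ + d⁻¹ ^ q = 0 := by
      rw [inv_pow, show d ^ q = -d by linear_combination hd, inv_neg, add_neg_cancel]
    have := ψφ C D hd hd0
    rw [hφ _ hi, map_inv₀] at this
    have hsd : σ d ≠ 0 := fun h => hd0 (σ.injective (h.trans (map_zero σ).symm))
    field_simp at this ⊢
    linear_combination this
  have hBan : ∀ w a, Ad P w a → hm w w ≠ 0 → D.B w a = κ * σ a := by
    intro w a h hd
    obtain ⟨k, hk0, hk⟩ := exists_skew C
    have hne : 1 + k * a ≠ 0 := fun e => hd (by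
      have ha : a = -k⁻¹ := by field_simp; linear_combination e
      have h2 := h.2
      rw [ha, neg_pow_q C, inv_pow, show k ^ q = -k by linear_combination hk, inv_neg] at h2
      linear_combination h2)
    have := (flip C D h hk).2 hne
    rw [hσ _ w h.1, smul_smul, hψ k hk, map_inv₀, map_add, map_one, map_mul] at this
    have hAw : D.A w ≠ 0 := fun e => hd (by rw [A_injective C D h.1 e, zero_left])
    have h1 : (1 + σ k / κ * D.B w a) * (1 + σ k * σ a)⁻¹ = 1 :=
      smul_left_injective F hAw (by show _ • D.A w = (1 : F) • D.A w; rw [one_smul, ← this])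
    have hne' : 1 + σ k * σ a ≠ 0 := fun e => hne (σ.injective (by rw [map_zero, map_add, map_one, map_mul, e]))
    have hsk : σ k ≠ 0 := fun e => hk0 (σ.injective (e.trans (map_zero σ).symm))
    field_simp at h1
    exact mul_left_cancel₀ hsk (by linear_combination h1)
  refine ⟨σ, κ, hκ, hκq, hσ, hH, fun w a h => ?_, hψ⟩
  by_cases hd : hm w w = 0
  swap
  · exact hBan w a h hd
  rcases aniso_or C (w := w) hd₀ with ⟨ν, hν, hu⟩ | ⟨-, hN⟩
  swap
  · have := hN 1 one_ne_zero
    rw [hd, zero_add, one_pow, one_mul, one_mul] at this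
    exact absurd this hd₀
  obtain ⟨a₁, h₁⟩ := exists_ad C (inW_add h.1 (inW_smul hw₀ ν))
  set w₂ := (-ν) • w₀ with hw₂
  have hW2 : P.InW w₂ := inW_smul hw₀ (-ν)
  have hadd : w + ν • w₀ + w₂ = w := by rw [hw₂]; module
  have h₂ : Ad P w₂ (a - a₁ + hm w₂ (w + ν • w₀)) := by
    refine ⟨hW2, ?_⟩
    have h2 := h.2
    have key : ∀ u v : Fin n → F, hm (u + v) (u + v) = hm u u + hm u v + hm v u + hm v v := fun u v => by
      rw [add_left, add_right C, add_right C]; ring
    have e := key (w + ν • w₀) w₂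
    rw [hadd] at e
    rw [add_pow_q C, sub_pow_q C, pow_symm C]
    linear_combination h2 - h₁.2 - e
  have hu' : hm w₂ w₂ ≠ 0 := by
    rw [hw₂, smul_left, smul_right]
    exact mul_ne_zero (neg_ne_zero.2 hν) (mul_ne_zero (pow_ne_zero _ (neg_ne_zero.2 hν)) hd₀)
  have e := (A_add C D h₁ h₂).2
  rw [hadd, show a₁ + (a - a₁ + hm w₂ (w + ν • w₀)) - hm w₂ (w + ν • w₀) = a by ring,
    hBan _ _ h₁ hu, hBan _ _ h₂ hu', hH _ _ hW2 h₁.1, map_add, map_sub] at e
  linear_combination e

end Cfsg.Agent.PSUAut
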