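import Cfsg.Prelude.Def_LieTypeDatum
import Cfsg.Agent.Lib.Classical.UnitarySemi

/-!
The automorphism theorem for `PSU_n(q)`: semilinear automorphisms, lifting, uniqueness.
-/

set_option autoImplicit false
set_option linter.style.haveILetI false
set_option linter.unusedSectionVars false

open Matrix

namespace Cfsg.Agent.PSUAut

variable {F : Type*} [Field F] [Fintype F] {n q : ℕ}

local notation "hm" => Cfsg.hermForm n F q

/-- A semilinear unitary map. -/
def act (g : GL (Fin n) F) (σ : F ≃+* F) (x : Fin n → F) : Fin n → F :=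
  (g : Matrix (Fin n) (Fin n) F) *ᵥ (σ ∘ x)

theorem hm_comp (σ : F ≃+* F) (u v : Fin n → F) : hm (σ ∘ u) (σ ∘ v) = σ (hm u v) := by
  simp [Cfsg.hermForm, map_sum, map_mul, map_pow]

theorem mem_GU {g : GL (Fin n) F} (hg : g ∈ Cfsg.GU n F q) (u v : Fin n → F) :
    hm ((g : Matrix (Fin n) (Fin n) F) *ᵥ u) ((g : Matrix (Fin n) (Fin n) F) *ᵥ v) = hm u v := hg u v

theorem map_mulVec' (σ : F ≃+* F) (M : Matrix (Fin n) (Fin n) F) (x : Fin n → F) :
    M.map σ *ᵥ (σ ∘ x) = σ ∘ (M *ᵥ x) :=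
  funext fun i => (RingHom.map_mulVec σ.toRingHom M x i).symm

/-- A field automorphism on `SU`. -/
def fieldSU (σ : F ≃+* F) : Cfsg.SU n F q ≃* Cfsg.SU n F q where
  toFun s := ⟨⟨(mat s).map σ, by
    rw [show (mat s).map σ = σ.toRingHom.mapMatrix (mat s) from rfl, ← RingHom.map_det, mat,
      (s : SpecialLinearGroup (Fin n) F).det_coe, map_one]⟩, fun u v => by
    show hm ((mat s).map σ *ᵥ u) ((mat s).map σ *ᵥ v) = hm u v
    obtain ⟨u, rfl⟩ : ∃ u', u = σ ∘ u' := ⟨σ.symm ∘ u, funext fun i => (σ.apply_symm_apply _).symm⟩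
    obtain ⟨v, rfl⟩ : ∃ v', v = σ ∘ v' := ⟨σ.symm ∘ v, funext fun i => (σ.apply_symm_apply _).symm⟩
    rw [map_mulVec', map_mulVec', hm_comp, hm_comp, mat_pres]⟩
  invFun s := ⟨⟨(mat s).map σ.symm, by
    rw [show (mat s).map σ.symm = σ.symm.toRingHom.mapMatrix (mat s) from rfl, ← RingHom.map_det, mat,
      (s : SpecialLinearGroup (Fin n) F).det_coe, map_one]⟩, fun u v => by
    show hm ((mat s).map σ.symm *ᵥ u) ((mat s).map σ.symm *ᵥ v) = hm u v
    obtain ⟨u, rfl⟩ : ∃ u', u = σ.symm ∘ u' := ⟨σ ∘ u, funext fun i => (σ.symm_apply_apply _).symm⟩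
    obtain ⟨v, rfl⟩ : ∃ v', v = σ.symm ∘ v' := ⟨σ ∘ v, funext fun i => (σ.symm_apply_apply _).symm⟩
    rw [map_mulVec', map_mulVec', hm_comp, hm_comp, mat_pres]⟩
  left_inv s := mat_inj (Matrix.ext fun i j => σ.symm_apply_apply _)
  right_inv s := mat_inj (Matrix.ext fun i j => σ.apply_symm_apply _)
  map_mul' s t := mat_inj (map_mul σ.toRingHom.mapMatrix (mat s) (mat t))

/-- Conjugation by a unitary matrix on `SU`. -/
def conjSU (g : Cfsg.GU n F q) : Cfsg.SU n F q ≃* Cfsg.SU n F q where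
  toFun s := ⟨⟨((g : GL (Fin n) F) : Matrix (Fin n) (Fin n) F) * mat s *
      (((g : GL (Fin n) F)⁻¹ : GL (Fin n) F) : Matrix (Fin n) (Fin n) F), by
    rw [det_units_conj, mat, (s : SpecialLinearGroup (Fin n) F).det_coe]⟩, fun u v => by
    show hm ((_ * _ * _) *ᵥ u) ((_ * _ * _) *ᵥ v) = hm u v
    rw [← mulVec_mulVec, ← mulVec_mulVec, ← mulVec_mulVec, ← mulVec_mulVec, mem_GU g.2, mat_pres,
      mem_GU (inv_mem g.2)]⟩
  invFun s := ⟨⟨(((g : GL (Fin n) F)⁻¹ : GL (Fin n) F) : Matrix (Fin n) (Fin n) F) * mat s *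
      ((g : GL (Fin n) F) : Matrix (Fin n) (Fin n) F), by
    rw [det_units_conj', mat, (s : SpecialLinearGroup (Fin n) F).det_coe]⟩, fun u v => by
    show hm ((_ * _ * _) *ᵥ u) ((_ * _ * _) *ᵥ v) = hm u v
    rw [← mulVec_mulVec, ← mulVec_mulVec, ← mulVec_mulVec, ← mulVec_mulVec, mem_GU (inv_mem g.2), mat_pres,
      mem_GU g.2]⟩
  left_inv s := mat_inj <| by simp [mat, mul_assoc]
  right_inv s := mat_inj <| by simp [mat, mul_assoc]
  map_mul' s t := mat_inj <| by
    show ((g : GL (Fin n) F) : Matrix (Fin n) (Fin n) F) * (mat s * mat t) *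
        (((g : GL (Fin n) F)⁻¹ : GL (Fin n) F) : Matrix (Fin n) (Fin n) F) =
      (((g : GL (Fin n) F) : Matrix (Fin n) (Fin n) F) * mat s *
        (((g : GL (Fin n) F)⁻¹ : GL (Fin n) F) : Matrix (Fin n) (Fin n) F)) *
      (((g : GL (Fin n) F) : Matrix (Fin n) (Fin n) F) * mat t *
        (((g : GL (Fin n) F)⁻¹ : GL (Fin n) F) : Matrix (Fin n) (Fin n) F))
    simp [mul_assoc]

/-- The automorphism of `PSU` induced by a semilinear map. -/
noncomputable def semi (g : Cfsg.GU n F q) (σ : F ≃+* F) : MulAut (Cfsg.PSU n F q) :=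
  QuotientGroup.congr _ _ ((fieldSU σ).trans (conjSU g))
    (Subgroup.characteristic_iff_map_eq.1 inferInstance _)

theorem semi_mk (g : Cfsg.GU n F q) (σ : F ≃+* F) (s s' : Cfsg.SU n F q)
    (h : mat s' = ((g : GL (Fin n) F) : Matrix (Fin n) (Fin n) F) * (mat s).map σ *
      (((g : GL (Fin n) F)⁻¹ : GL (Fin n) F) : Matrix (Fin n) (Fin n) F)) :
    semi g σ (QuotientGroup.mk s) = QuotientGroup.mk s' := by
  show QuotientGroup.mk (conjSU g (fieldSU σ s)) = _
  exact congrArg _ (mat_inj h.symm)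

theorem semi_mk' (g : Cfsg.GU n F q) (σ : F ≃+* F) (s : Cfsg.SU n F q) :
    ∃ s' : Cfsg.SU n F q, mat s' = ((g : GL (Fin n) F) : Matrix (Fin n) (Fin n) F) * (mat s).map σ *
      (((g : GL (Fin n) F)⁻¹ : GL (Fin n) F) : Matrix (Fin n) (Fin n) F) ∧
      semi g σ (QuotientGroup.mk s) = QuotientGroup.mk s' :=
  ⟨conjSU g (fieldSU σ s), rfl, rfl⟩

theorem semi_ext (β : MulAut (Cfsg.PSU n F q)) (g : Cfsg.GU n F q) (σ : F ≃+* F)
    (h : ∀ s s' : Cfsg.SU n F q, mat s' = ((g : GL (Fin n) F) : Matrix (Fin n) (Fin n) F) * (mat s).map σ *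
      (((g : GL (Fin n) F)⁻¹ : GL (Fin n) F) : Matrix (Fin n) (Fin n) F) →
        β (QuotientGroup.mk s) = QuotientGroup.mk s') : β = semi g σ := by
  refine MulEquiv.ext fun x => ?_
  obtain ⟨s, rfl⟩ := QuotientGroup.mk_surjective x
  obtain ⟨s', hs', he⟩ := semi_mk' g σ s
  rw [he, h s s' hs']

theorem map_GU (σ : F ≃+* F) (h : Cfsg.GU n F q) :
    GeneralLinearGroup.map σ.toRingHom (h : GL (Fin n) F) ∈ Cfsg.GU n F q := fun u v => by
  show hm (((h : GL (Fin n) F) : Matrix (Fin n) (Fin n) F).map σ *ᵥ u)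
    (((h : GL (Fin n) F) : Matrix (Fin n) (Fin n) F).map σ *ᵥ v) = hm u v
  obtain ⟨u, rfl⟩ : ∃ u', u = σ ∘ u' := ⟨σ.symm ∘ u, funext fun i => (σ.apply_symm_apply _).symm⟩
  obtain ⟨v, rfl⟩ : ∃ v', v = σ ∘ v' := ⟨σ.symm ∘ v, funext fun i => (σ.apply_symm_apply _).symm⟩
  rw [map_mulVec', map_mulVec', hm_comp, hm_comp, mem_GU h.2]

/-- A field automorphism on `GU`. -/
def fieldGU (σ : F ≃+* F) : Cfsg.GU n F q →* Cfsg.GU n F q where
  toFun h := ⟨GeneralLinearGroup.map σ.toRingHom (h : GL (Fin n) F), map_GU σ h⟩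
  map_one' := Subtype.ext (map_one _)
  map_mul' _ _ := Subtype.ext (map_mul _ _ _)

theorem fieldGU_one (h : Cfsg.GU n F q) : fieldGU (1 : F ≃+* F) h = h := Subtype.ext (Units.ext rfl)

theorem semi_mul (g h : Cfsg.GU n F q) (σ τ : F ≃+* F) :
    semi g σ * semi h τ = semi (g * fieldGU σ h) (σ * τ) := by
  refine semi_ext _ _ _ fun s s' hs' => ?_
  obtain ⟨t, ht, he⟩ := semi_mk' h τ s
  rw [MulAut.mul_apply, he]
  refine semi_mk g σ t s' ?_
  rw [hs', ht, show (((h : GL (Fin n) F) : Matrix (Fin n) (Fin n) F) * (mat s).map τ *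
    (((h : GL (Fin n) F)⁻¹ : GL (Fin n) F) : Matrix (Fin n) (Fin n) F)).map σ = σ.toRingHom.mapMatrix _ from rfl,
    map_mul, map_mul, Subgroup.coe_mul, _root_.mul_inv_rev, Units.val_mul, Units.val_mul, fieldGU]
  simp only [MonoidHom.coe_mk, OneHom.coe_mk, ← map_inv, mul_assoc]
  rfl

theorem semi_one : semi (1 : Cfsg.GU n F q) (1 : F ≃+* F) = 1 := by
  refine (semi_ext _ _ _ fun s s' hs' => ?_).symm
  rw [MulAut.one_apply]
  congr 1
  refine mat_inj ?_
  rw [hs']
  simp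

variable (C : Ctx F n q)

include C

theorem act_pres (g : Cfsg.GU n F q) (σ : F ≃+* F) (x y : Fin n → F) :
    hm (act (g : GL (Fin n) F) σ x) (act (g : GL (Fin n) F) σ y) = σ (hm x y) := by
  rw [act, act, mem_GU g.2, hm_comp]

omit C in
theorem act_smul (g : GL (Fin n) F) (σ : F ≃+* F) (a : F) (x : Fin n → F) :
    act g σ (a • x) = σ a • act g σ x := by
  rw [act, act, show σ ∘ (a • x) = σ a • (σ ∘ x) from funext fun i => by simp, mulVec_smul]

omit C in
theorem act_add (g : GL (Fin n) F) (σ : F ≃+* F) (x y : Fin n → F) :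
    act g σ (x + y) = act g σ x + act g σ y := by
  rw [act, act, act, show σ ∘ (x + y) = (σ ∘ x) + (σ ∘ y) from funext fun i => by simp, mulVec_add]

omit C in
theorem act_surj (g : GL (Fin n) F) (σ : F ≃+* F) (y : Fin n → F) : ∃ x, act g σ x = y := by
  refine ⟨σ.symm ∘ (((g⁻¹ : GL (Fin n) F) : Matrix (Fin n) (Fin n) F) *ᵥ y), ?_⟩
  rw [act, show σ ∘ (σ.symm ∘ (((g⁻¹ : GL (Fin n) F) : Matrix (Fin n) (Fin n) F) *ᵥ y)) = _ from
    funext fun i => σ.apply_symm_apply _, mulVec_mulVec, Units.mul_inv, one_mulVec]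

theorem val_act (g : Cfsg.GU n F q) (σ : F ≃+* F) {v w : Fin n → F} {c : F} (h : Val q v w c) :
    Val q (act (g : GL (Fin n) F) σ v) (act (g : GL (Fin n) F) σ w) (σ c) := by
  refine ⟨?_, ?_, ?_⟩
  · rw [act_pres C, h.1, map_zero]
  · rw [act_pres C, h.2.1, map_zero]
  · rw [act_pres C, ← map_pow, ← map_neg, ← map_add, h.2.2]

theorem semi_cls (g : Cfsg.GU n F q) (σ : F ≃+* F) {v w : Fin n → F} {c : F} (h : Val q v w c) :
    semi g σ (cls q (EM q v w c)) =
      cls q (EM q (act (g : GL (Fin n) F) σ v) (act (g : GL (Fin n) F) σ w) (σ c)) := by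
  rw [cls_EM C h, cls_EM C (val_act C g σ h)]
  refine semi_mk g σ _ _ (mat_ext fun y => ?_)
  obtain ⟨x, rfl⟩ := act_surj (g : GL (Fin n) F) σ y
  rw [mat_el, mat_el, EM_apply, act_pres C, act_pres C, ← mulVec_mulVec, ← mulVec_mulVec]
  conv_rhs => rw [act, mulVec_mulVec _ (((g : GL (Fin n) F)⁻¹ : GL (Fin n) F) : Matrix (Fin n) (Fin n) F),
    Units.inv_mul, one_mulVec, map_mulVec', EM_apply]
  show _ = act (g : GL (Fin n) F) σ _
  rw [act_add, act_add, act_smul, act_smul, map_sub, map_mul]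

theorem semi_T (g : Cfsg.GU n F q) (σ : F ≃+* F) {v : Fin n → F} (hv : hm v v = 0) :
    semi g σ '' T q v = T q (act (g : GL (Fin n) F) σ v) := by
  have h0 : act (g : GL (Fin n) F) σ 0 = 0 := by
    rw [act, show σ ∘ (0 : Fin n → F) = 0 from funext fun i => map_zero σ, mulVec_zero]
  refine Set.Subset.antisymm ?_ ?_
  · rintro _ ⟨_, ⟨c, hc, rfl⟩, rfl⟩
    exact ⟨σ c, by rw [← map_pow, ← map_add, hc, map_zero], by rw [semi_cls C g σ (val_zero C hv hc), h0]⟩
  · rintro _ ⟨c, hc, rfl⟩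
    have hc' : σ.symm c + σ.symm c ^ q = 0 := by rw [← map_pow, ← map_add, hc, map_zero]
    exact ⟨_, T_mem C hc', by rw [semi_cls C g σ (val_zero C hv hc'), h0, σ.apply_symm_apply]⟩

/-- An element fixing every isotropic point is trivial. -/
theorem eq_one_of_stab {s : Cfsg.SU n F q} (h : ∀ v, Iso q v → Par v (mat s *ᵥ v)) :
    (QuotientGroup.mk s : Cfsg.PSU n F q) = 1 := by
  obtain ⟨e, he⟩ : ∃ e : Fin n → F, Iso q e := by
    obtain ⟨p, _⟩ := CharP.exists F
    haveI : Fact p.Prime := ⟨CharP.char_is_prime F p⟩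
    obtain ⟨v, hv, -⟩ := exists_iso_fixed C (p := p) (R := (⊥ : Subgroup (Cfsg.SU n F q))) IsPGroup.of_bot
    exact ⟨v, hv⟩
  obtain ⟨P, rfl⟩ := exists_frame C he
  obtain ⟨l, -, hl⟩ := h _ P.e_iso
  obtain ⟨m, hm0, hm'⟩ := h _ P.f_iso
  have key : ∀ w a, Ad P w a → l * a = m * a ∧ mat s *ᵥ w = m • w := by
    intro w a hA
    obtain ⟨x, -, hx⟩ := h (pt P w a) (by
      rw [← EM_f C P hA, ← mat_el C (Ad.val C hA)]
      exact ⟨mat_ne_zero _ P.f_iso.1, by rw [mat_pres, P.hff]⟩)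
    rw [pt, mulVec_add, mulVec_add, mulVec_smul, hl, hm', smul_smul] at hx
    have hse : hm (mat s *ᵥ w) P.e = 0 := by
      have := mat_pres s w P.e
      rw [hl, smul_right, hA.1.1] at this
      exact (mul_eq_zero.1 this).resolve_left (pow_ne_zero _ (fun e0 => P.e_iso.1 (by
        have h0 : mat s *ᵥ P.e = 0 := by rw [hl, e0, zero_smul]
        exact absurd h0 (mat_ne_zero s P.e_iso.1))))
    have hsf : hm (mat s *ᵥ w) P.f = 0 := by
      have := mat_pres s w P.f
      rw [hm', smul_right, hA.1.2] at this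
      exact (mul_eq_zero.1 this).resolve_left (pow_ne_zero _ hm0)
    have e1 := congrArg (fun y => hm y P.e) hx
    have e2 := congrArg (fun y => hm y P.f) hx
    simp only [add_left, smul_left, P.hee, P.hef, P.hfe, P.hff, hse, hsf, hA.1.1, hA.1.2] at e1 e2
    have hxm : x = m := by linear_combination -e1
    subst hxm
    refine ⟨by linear_combination e2, ?_⟩
    have e3 := congrArg P.pr hx
    simp only [P.pr_add, P.pr_smul, P.pr_of_mem ⟨hse, hsf⟩, P.pr_of_mem hA.1,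
      show P.pr P.e = 0 by simp [Frame.pr, P.hef, P.hee],
      show P.pr P.f = 0 by simp [Frame.pr, P.hfe, P.hff], smul_zero, zero_add] at e3
    exact e3
  obtain ⟨k, hk0, hk⟩ := exists_skew C
  have hlm : l = m := mul_right_cancel₀ hk0 (key 0 k (ad_skew C P hk)).1
  rw [← QuotientGroup.mk_one, mk_eq_iff C]
  refine ⟨m⁻¹, mat_ext fun x => ?_⟩
  obtain ⟨a, ha⟩ := exists_ad C (P.pr_mem x)
  have hx : mat s *ᵥ x = m • x := by
    conv_lhs => rw [P.decomp x, mulVec_add, mulVec_add, mulVec_smul, mulVec_smul, hl, hm', hlm,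
      (key _ a ha).2]
    conv_rhs => rw [P.decomp x]
    module
  rw [mat_one, one_mulVec, smul_mulVec, hx, inv_smul_smul₀ hm0]

theorem eq_one_of_conj {z : Cfsg.PSU n F q} (h : ∀ v, Iso q v → MulAut.conj z '' T q v = T q v) : z = 1 := by
  obtain ⟨s, rfl⟩ := QuotientGroup.mk_surjective z
  refine eq_one_of_stab C fun v hv => ?_
  have := h v hv
  rw [conj_T C s hv.2, T_eq_iff C ⟨mat_ne_zero s hv.1, by rw [mat_pres, hv.2]⟩ hv] at this
  exact this.symm

/-- The automorphisms of `PSU_n(q)`. -/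
theorem aut_eq (α : MulAut (Cfsg.PSU n F q)) : ∃ (g : Cfsg.GU n F q) (σ : F ≃+* F), α = semi g σ := by
  obtain ⟨e, he⟩ : ∃ e : Fin n → F, Iso q e := by
    obtain ⟨p, _⟩ := CharP.exists F
    haveI : Fact p.Prime := ⟨CharP.char_is_prime F p⟩
    obtain ⟨v, hv, -⟩ := exists_iso_fixed C (p := p) (R := (⊥ : Subgroup (Cfsg.SU n F q))) IsPGroup.of_bot
    exact ⟨v, hv⟩
  obtain ⟨P, rfl⟩ := exists_frame C he
  obtain ⟨P', ⟨D⟩⟩ := exists_chart C α P
  obtain ⟨σ, κ, hκ, hκq, hσ, hH, hB, hψ⟩ := exists_similitude C D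
  obtain ⟨ρ, hρ⟩ := Classical.Unitary.exists_scale C.hF hκ hκq
  have hρ0 : ρ ≠ 0 := fun h => hκ (by rw [← hρ, h, zero_mul])
  have hρq : ρ ^ q ≠ 0 := pow_ne_zero _ hρ0
  let L : (Fin n → F) → (Fin n → F) := fun x =>
    ρ⁻¹ • ((κ * σ (hm x P.f)) • P'.e + σ (hm x P.e) • P'.f + D.A (P.pr x))
  have hA0 : D.A 0 = 0 := by
    have := A_add' C D (P.pr_mem 0) (P.pr_mem 0)
    have hz : P.pr (0 : Fin n → F) = 0 := by simp [Frame.pr, zero_left]
    rwa [hz, add_zero, left_eq_add] at this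
  have hLadd : ∀ x y, L (x + y) = L x + L y := fun x y => by
    simp only [L, add_left, map_add, P.pr_add, A_add' C D (P.pr_mem x) (P.pr_mem y)]
    module
  have hLsmul : ∀ a x, L (a • x) = σ a • L x := fun a x => by
    simp only [L, smul_left, map_mul, P.pr_smul, hσ a _ (P.pr_mem x)]
    module
  have hLh : ∀ x y, hm (L x) (L y) = σ (hm x y) := by
    intro x y
    have hmx := A_mem C D (P.pr_mem x)
    have hmy := A_mem C D (P.pr_mem y)
    have hxy : hm x y = hm x P.f * hm y P.e ^ q + hm x P.e * hm y P.f ^ q + hm (P.pr x) (P.pr y) := by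
      conv_lhs => rw [P.decomp x, P.decomp y]
      simp only [add_left, add_right C, smul_left, smul_right, P.hee, P.hef, P.hfe, P.hff, (P.pr_mem x).1,
        (P.pr_mem x).2, orth_symm C (P.pr_mem y).1, orth_symm C (P.pr_mem y).2]
      ring
    simp only [L, smul_left, smul_right, add_left, add_right C, P'.hee, P'.hef, P'.hfe, P'.hff, hmx.1, hmx.2,
      orth_symm C hmy.1, orth_symm C hmy.2, hH _ _ (P.pr_mem x) (P.pr_mem y), mul_pow, hκq, inv_pow]
    rw [hxy, map_add, map_add, map_mul, map_mul, map_pow, map_pow]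
    field_simp
    rw [← hρ]
    ring
  let ℓ : (Fin n → F) →ₗ[F] (Fin n → F) :=
    { toFun := fun u => L (σ.symm ∘ u)
      map_add' := fun u v => by
        rw [← hLadd]; congr 1; funext i; simp
      map_smul' := fun a u => by
        rw [show σ.symm ∘ (a • u) = σ.symm a • (σ.symm ∘ u) from funext fun i => by simp, hLsmul,
          σ.apply_symm_apply]
        rfl }
  have hℓ : ∀ u v, hm (ℓ u) (ℓ v) = hm u v := by
    intro u v
    show hm (L _) (L _) = _
    rw [hLh, ← hm_comp]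
    congr 1 <;> funext i <;> simp
  have hinj : Function.Injective (LinearMap.toMatrix' ℓ).mulVec := by
    intro u v h
    rw [LinearMap.toMatrix'_mulVec, LinearMap.toMatrix'_mulVec] at h
    refine sub_eq_zero.1 (eq_zero_of_orth C fun x => orth_symm C ?_)
    rw [← hℓ (u - v) x, map_sub, h, sub_self, zero_left]
  obtain ⟨g₀, hg₀⟩ := Matrix.mulVec_injective_iff_isUnit.1 hinj
  have hgGU : g₀ ∈ Cfsg.GU n F q := fun u v => by
    show hm ((g₀ : Matrix (Fin n) (Fin n) F) *ᵥ u) ((g₀ : Matrix (Fin n) (Fin n) F) *ᵥ v) = hm u v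
    rw [hg₀, LinearMap.toMatrix'_mulVec, LinearMap.toMatrix'_mulVec, hℓ]
  refine ⟨⟨g₀, hgGU⟩, σ, ?_⟩
  have hact : ∀ x, act g₀ σ x = L x := fun x => by
    rw [act, hg₀, LinearMap.toMatrix'_mulVec]
    show L _ = L x
    congr 1; funext i; simp
  let K : Subgroup (Cfsg.PSU n F q) := MonoidHom.eqLocus α.toMonoidHom (semi ⟨g₀, hgGU⟩ σ).toMonoidHom
  have hQK : ∀ w a, Ad P w a → cls q (EM q P.e w a) ∈ K := by
    intro w a h
    show α _ = semi _ σ _
    rw [(D.hQ w a h).2, semi_cls C _ σ (Ad.val C h), hB w a h]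
    congr 1
    have e1 : act g₀ σ P.e = (ρ⁻¹ * κ) • P'.e := by
      rw [hact]
      simp only [L, P.hef, P.hee, map_one, map_zero,
        show P.pr P.e = 0 by simp [Frame.pr, P.hef, P.hee], hA0]
      module
    have e2 : act g₀ σ w = ρ⁻¹ • D.A w := by
      rw [hact]
      simp only [L, h.1.1, h.1.2, map_zero, P.pr_of_mem h.1]
      module
    refine mat_ext fun x => ?_
    rw [e1, e2, EM_apply, EM_apply]
    simp only [smul_right, mul_pow, inv_pow, hκq, smul_smul]
    match_scalars <;> (field_simp; try (rw [← hρ]; ring))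
  have hfK : ∀ d, d + d ^ q = 0 → cls q (EM q P.f 0 d) ∈ K := by
    intro d hd
    show α _ = semi _ σ _
    rw [(D.hψ d hd).2, semi_cls C _ σ (val_zero C P.hff hd), hψ d hd]
    congr 1
    have e1 : act g₀ σ P.f = ρ⁻¹ • P'.f := by
      rw [hact]
      simp only [L, P.hff, P.hfe, map_one, map_zero,
        show P.pr P.f = 0 by simp [Frame.pr, P.hfe, P.hff], hA0]
      module
    have e2 : act g₀ σ 0 = 0 := by
      rw [act, show σ ∘ (0 : Fin n → F) = 0 from funext fun i => map_zero σ, mulVec_zero]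
    refine mat_ext fun x => ?_
    rw [e1, e2, EM_apply, EM_apply]
    simp only [smul_right, zero_right C, inv_pow, smul_smul]
    match_scalars <;> (field_simp; try (rw [← hρ]; ring))
  have hconj : ∀ {a b : Fin n → F} {c : F} (hM : Val q a b c) {v : Fin n → F}, hm v v = 0 →
      cls q (EM q a b c) ∈ K → (∀ x ∈ T q v, x ∈ K) → ∀ x ∈ T q (EM q a b c *ᵥ v), x ∈ K := by
    intro a b c hM v hv hK hT x hx
    rw [← mat_el C hM, ← conj_T C _ hv, ← cls_EM C hM] at hx
    obtain ⟨y, hy, rfl⟩ := hx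
    exact mul_mem (mul_mem hK (hT y hy)) (inv_mem hK)
  have hTf : ∀ x ∈ T q P.f, x ∈ K := by rintro _ ⟨c, hc, rfl⟩; exact hfK c hc
  have hpt : ∀ w a, Ad P w a → ∀ x ∈ T q (pt P w a), x ∈ K := by
    intro w a h
    rw [← EM_f C P h]
    exact hconj (Ad.val C h) P.hff (hQK w a h) hTf
  have hptiso : ∀ w a, Ad P w a → Iso q (pt P w a) := fun w a h => by
    rw [← EM_f C P h, ← mat_el C (Ad.val C h)]
    exact ⟨mat_ne_zero _ P.f_iso.1, by rw [mat_pres, P.hff]⟩
  have hoff : ∀ v, Iso q v → hm v P.e ≠ 0 → ∀ x ∈ T q v, x ∈ K := by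
    intro v hv hne
    set b := hm v P.e with hb
    have hv' : v = b • pt P (b⁻¹ • P.pr v) (b⁻¹ * hm v P.f) := by
      rw [pt, smul_add, smul_add, smul_smul, smul_smul, ← mul_assoc, mul_inv_cancel₀ hne, one_mul, one_smul]
      exact P.decomp v
    have hA : Ad P (b⁻¹ • P.pr v) (b⁻¹ * hm v P.f) := by
      refine ⟨inW_smul (P.pr_mem v) _, ?_⟩
      have h0 := hv.2
      rw [hv', smul_left, smul_right] at h0
      have h00 := (mul_eq_zero.1 ((mul_eq_zero.1 h0).resolve_left hne)).resolve_left (pow_ne_zero _ hne)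
      simp only [pt, add_left, add_right C, smul_left, smul_right, P.hee, P.hef, P.hfe, P.hff,
        (P.pr_mem v).1, (P.pr_mem v).2, orth_symm C (P.pr_mem v).1, orth_symm C (P.pr_mem v).2] at h00
      rw [smul_left, smul_right]
      linear_combination h00
    rw [hv', ← T_par C (v := pt P (b⁻¹ • P.pr v) (b⁻¹ * hm v P.f)) ⟨b, hne, rfl⟩]
    exact hpt _ _ hA
  have hall : ∀ v, Iso q v → ∀ x ∈ T q v, x ∈ K := by
    intro v hv
    by_cases hne : hm v P.e = 0
    swap
    · exact hoff v hv hne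
    by_cases hpar : ∃ b : F, v = b • P.e
    · obtain ⟨b, rfl⟩ := hpar
      rw [← T_par C (v := P.e) ⟨b, fun h => hv.1 (by rw [h, zero_smul]), rfl⟩]
      rintro _ ⟨c, hc, rfl⟩
      exact hQK 0 c (ad_skew C P hc)
    obtain ⟨w, a, hA, hu⟩ : ∃ w a, Ad P w a ∧ hm v (pt P w a) ≠ 0 := by
      by_cases hb : hm v P.f = 0
      · have hvW : P.InW v := ⟨hne, hb⟩
        obtain ⟨y, hy⟩ := exists_dual C hv.1
        obtain ⟨a, ha⟩ := exists_ad C (P.pr_mem y)
        refine ⟨_, a, ha, fun h => ?_⟩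
        rw [pt, add_right C, add_right C, smul_right, hne, hb, ← pow_symm C, P.hm_pr C hvW, hy, one_pow] at h
        exact one_ne_zero (α := F) (by linear_combination h)
      · have h0 : Ad P 0 0 := ad_skew C P (by rw [zero_pow_q C, add_zero])
        refine ⟨0, 0, h0, ?_⟩
        rw [pt, zero_smul, zero_add, add_zero]
        exact hb
    obtain ⟨k, hk0, hk⟩ := exists_skew C
    have hu' : hm (pt P w a) P.e = 1 := pt_e C P hA
    have hk' : -k + (-k) ^ q = 0 := by rw [neg_pow_q C]; linear_combination -hk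
    have hval := val_zero C (hptiso w a hA).2 hk
    have hv' : Iso q (EM q (pt P w a) 0 k *ᵥ v) := by
      rw [← mat_el C hval]
      exact ⟨mat_ne_zero _ hv.1, by rw [mat_pres, hv.2]⟩
    have hne' : hm (EM q (pt P w a) 0 k *ᵥ v) P.e ≠ 0 := by
      rw [EM_apply, zero_right C, smul_zero, add_zero, sub_zero, add_left, smul_left, hne, hu', zero_add, mul_one]
      exact mul_ne_zero hk0 hu
    have hback : EM q (pt P w a) 0 (-k) *ᵥ (EM q (pt P w a) 0 k *ᵥ v) = v := by
      rw [mulVec_mulVec, EM_comp C (val_zero C (hptiso w a hA).2 hk') hval, zero_left, sub_zero, add_zero,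
        neg_add_cancel, EM_one C, one_mulVec]
    rw [← hback]
    exact hconj (val_zero C (hptiso w a hA).2 hk') hv'.2 (hpt w a hA _ (T_mem C hk')) (hoff _ hv' hne')
  refine MulEquiv.ext fun x => ?_
  rw [← inv_mul_eq_one]
  refine eq_one_of_conj C fun u hu => ?_
  obtain ⟨v, rfl⟩ := act_surj g₀ σ u
  have hv : Iso q v := ⟨fun h => hu.1 (by
    rw [h, act, show σ ∘ (0 : Fin n → F) = 0 from funext fun i => map_zero σ, mulVec_zero]),
    σ.injective (by rw [map_zero, ← act_pres C ⟨g₀, hgGU⟩ σ v v, hu.2])⟩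
  obtain ⟨s, rfl⟩ := QuotientGroup.mk_surjective x
  have hsv : Iso q (mat s *ᵥ v) := ⟨mat_ne_zero s hv.1, by rw [mat_pres, hv.2]⟩
  have e1 : α '' T q (mat s *ᵥ v) = semi ⟨g₀, hgGU⟩ σ '' T q (mat s *ᵥ v) :=
    Set.image_congr fun x hx => hall _ hsv x hx
  have e2 : α '' T q v = semi ⟨g₀, hgGU⟩ σ '' T q v := Set.image_congr fun x hx => hall _ hv x hx
  rw [← conj_T C s hv.2, Set.image_image, Set.image_image] at e1
  simp only [MulAut.conj_apply, map_mul, map_inv] at e1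
  have key : ∀ (β : MulAut (Cfsg.PSU n F q)) (y : Cfsg.PSU n F q),
      (fun z => β y * β z * (β y)⁻¹) '' T q v = MulAut.conj (β y) '' (β '' T q v) := fun β y => by
    rw [Set.image_image]; rfl
  rw [key, key, e2, semi_T C _ σ hv.2] at e1
  rw [map_mul, MulAut.coe_mul, Set.image_comp, map_inv]
  rw [← e1, ← Set.image_comp, ← MulAut.coe_mul, inv_mul_cancel, MulAut.coe_one, Set.image_id]

/-- Uniqueness of the semilinear representative. -/
theorem eq_one_of_semi_eq_one {g : Cfsg.GU n F q} {σ : F ≃+* F} (h : semi g σ = 1) :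
    σ = 1 ∧ ∃ c : F, ((g : GL (Fin n) F) : Matrix (Fin n) (Fin n) F) = c • 1 := by
  obtain ⟨e, he⟩ : ∃ e : Fin n → F, Iso q e := by
    obtain ⟨p, _⟩ := CharP.exists F
    haveI : Fact p.Prime := ⟨CharP.char_is_prime F p⟩
    obtain ⟨v, hv, -⟩ := exists_iso_fixed C (p := p) (R := (⊥ : Subgroup (Cfsg.SU n F q))) IsPGroup.of_bot
    exact ⟨v, hv⟩
  obtain ⟨P, rfl⟩ := exists_frame C he
  have hfix : ∀ v, Iso q v → Par v (act (g : GL (Fin n) F) σ v) := fun v hv => by
    have hv' : Iso q (act (g : GL (Fin n) F) σ v) := by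
      refine ⟨fun h0 => hv.1 ?_, by rw [act_pres C, hv.2, map_zero]⟩
      refine eq_zero_of_orth C fun x => σ.injective ?_
      rw [map_zero, ← act_pres C g σ x v, h0, zero_right C]
    have := semi_T C g σ hv.2
    rw [h, MulAut.coe_one, Set.image_id, T_eq_iff C hv hv'] at this
    exact this
  obtain ⟨l, hl0, hl⟩ := hfix _ P.e_iso
  obtain ⟨m, hm0, hm'⟩ := hfix _ P.f_iso
  have key : ∀ w a, Ad P w a → l * σ a = m * a ∧ act (g : GL (Fin n) F) σ w = m • w := by
    intro w a hA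
    obtain ⟨x, -, hx⟩ := hfix (pt P w a) (by
      rw [← EM_f C P hA, ← mat_el C (Ad.val C hA)]
      exact ⟨mat_ne_zero _ P.f_iso.1, by rw [mat_pres, P.hff]⟩)
    rw [pt, act_add, act_add, act_smul, hl, hm', smul_smul] at hx
    have hse : hm (act (g : GL (Fin n) F) σ w) P.e = 0 := by
      have := act_pres C g σ w P.e
      rw [hl, smul_right, hA.1.1, map_zero] at this
      exact (mul_eq_zero.1 this).resolve_left (pow_ne_zero _ hl0)
    have hsf : hm (act (g : GL (Fin n) F) σ w) P.f = 0 := by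
      have := act_pres C g σ w P.f
      rw [hm', smul_right, hA.1.2, map_zero] at this
      exact (mul_eq_zero.1 this).resolve_left (pow_ne_zero _ hm0)
    have e1 := congrArg (fun y => hm y P.e) hx
    have e2 := congrArg (fun y => hm y P.f) hx
    simp only [add_left, smul_left, P.hee, P.hef, P.hfe, P.hff, hse, hsf, hA.1.1, hA.1.2] at e1 e2
    have hxm : x = m := by linear_combination -e1
    subst hxm
    refine ⟨by linear_combination e2, ?_⟩
    have e3 := congrArg P.pr hx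
    simp only [P.pr_add, P.pr_smul, P.pr_of_mem ⟨hse, hsf⟩, P.pr_of_mem hA.1,
      show P.pr P.e = 0 by simp [Frame.pr, P.hef, P.hee],
      show P.pr P.f = 0 by simp [Frame.pr, P.hfe, P.hff], smul_zero, zero_add] at e3
    exact e3
  have hσ : σ = 1 := by
    obtain ⟨w, hw, hd⟩ := exists_aniso C P
    refine RingEquiv.ext fun ν => ?_
    obtain ⟨a, ha⟩ := exists_ad C hw
    obtain ⟨b, hb⟩ := exists_ad C (inW_smul (P := P) hw ν)
    have e1 := (key _ _ hb).2
    rw [act_smul, (key _ _ ha).2, smul_smul, smul_smul] at e1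
    have hw0 : w ≠ 0 := fun e => hd (by rw [e, zero_left])
    exact mul_right_cancel₀ hm0 ((smul_left_injective F hw0 e1).trans (mul_comm m ν))
  subst hσ
  obtain ⟨k, hk0, hk⟩ := exists_skew C
  have hlm : l = m := mul_right_cancel₀ hk0 (key 0 k (ad_skew C P hk)).1
  refine ⟨rfl, m, mat_ext fun x => ?_⟩
  obtain ⟨a, ha⟩ := exists_ad C (P.pr_mem x)
  have hx : act (g : GL (Fin n) F) 1 x = m • x := by
    conv_lhs => rw [P.decomp x, act_add, act_add, act_smul, act_smul, hl, hm', hlm, (key _ a ha).2]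
    conv_rhs => rw [P.decomp x]
    simp only [RingAut.one_apply]
    module
  rw [smul_mulVec, one_mulVec, ← hx]
  rfl

end Cfsg.Agent.PSUAut
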