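import Mathlib
import Cfsg.Prelude.Def_ClassicalGeometry
import Cfsg.Agent.Lib.Classical.Unitary
import Cfsg.Agent.Lib.Classical.WittHerm

/-!
`PSU_n(q)`: transvection groups are the centres of the Sylow subgroups, and the unipotent radical
of a point stabiliser is the intersection of the Sylow subgroups with a given centre.
-/

set_option autoImplicit false
set_option linter.style.haveILetI false
set_option linter.unusedSectionVars false

open Matrix

namespace Cfsg.Agent.PSUAut

variable {F : Type*} [Field F] {n q : ℕ}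

local notation "hm" => Cfsg.hermForm n F q

/-- The standing hypotheses. -/
structure Ctx (F : Type*) [Field F] [Fintype F] (n q : ℕ) : Prop where
  hF : Fintype.card F = q ^ 2
  hn : 3 ≤ n

/-! ### The form -/

theorem add_left (u u' v : Fin n → F) : hm (u + u') v = hm u v + hm u' v := by
  simp [Cfsg.hermForm, add_mul, Finset.sum_add_distrib]

theorem smul_left (a : F) (u v : Fin n → F) : hm (a • u) v = a * hm u v := by
  simp [Cfsg.hermForm, Finset.mul_sum, mul_assoc]

theorem zero_left (v : Fin n → F) : hm 0 v = 0 := by simp [Cfsg.hermForm]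

theorem smul_right (a : F) (u v : Fin n → F) : hm u (a • v) = a ^ q * hm u v := by
  simp [Cfsg.hermForm, Finset.mul_sum, mul_pow, mul_left_comm]

theorem neg_left (u v : Fin n → F) : hm (-u) v = -hm u v := by
  rw [← neg_one_smul F u, smul_left]; ring

theorem sub_left (u u' v : Fin n → F) : hm (u - u') v = hm u v - hm u' v := by
  rw [sub_eq_add_neg, add_left, neg_left]; ring

/-- Isotropic non-zero vectors. -/
def Iso (q : ℕ) (v : Fin n → F) : Prop := v ≠ 0 ∧ Cfsg.hermForm n F q v v = 0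

/-- Two vectors span the same line. -/
def Par (v w : Fin n → F) : Prop := ∃ c : F, c ≠ 0 ∧ w = c • v

theorem Par.symm {v w : Fin n → F} (h : Par v w) : Par w v := by
  obtain ⟨c, hc, rfl⟩ := h
  exact ⟨c⁻¹, inv_ne_zero hc, (inv_smul_smul₀ hc v).symm⟩

theorem Par.refl (v : Fin n → F) : Par v v := ⟨1, one_ne_zero, (one_smul F v).symm⟩

theorem Par.trans {u v w : Fin n → F} (h : Par u v) (h' : Par v w) : Par u w := by
  obtain ⟨c, hc, rfl⟩ := h
  obtain ⟨d, hd, rfl⟩ := h'
  exact ⟨d * c, mul_ne_zero hd hc, (mul_smul d c u).symm⟩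

theorem par_of_smul {v w : Fin n → F} (hw : w ≠ 0) {c : F} (h : w = c • v) : Par v w :=
  ⟨c, fun hc => hw (by rw [h, hc, zero_smul]), h⟩

theorem mat_ext {M N : Matrix (Fin n) (Fin n) F} (h : ∀ x, M *ᵥ x = N *ᵥ x) : M = N :=
  Matrix.toLin'.injective (LinearMap.ext h)

variable [Fintype F] (C : Ctx F n q)

include C

theorem q_gt : 1 < q := Classical.Unitary.one_lt_q C.hF

theorem q_ne : q ≠ 0 := by have := q_gt C; omega

theorem pow_q_q (a : F) : (a ^ q) ^ q = a := by
  obtain ⟨σ, hσ, -, hσ2⟩ := Classical.Unitary.exists_frob C.hF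
  rw [← hσ, ← hσ, hσ2]

theorem add_pow_q (a b : F) : (a + b) ^ q = a ^ q + b ^ q := by
  obtain ⟨σ, hσ, -, -⟩ := Classical.Unitary.exists_frob C.hF
  rw [← hσ, ← hσ, ← hσ, map_add]

theorem sub_pow_q (a b : F) : (a - b) ^ q = a ^ q - b ^ q := by
  obtain ⟨σ, hσ, -, -⟩ := Classical.Unitary.exists_frob C.hF
  rw [← hσ, ← hσ, ← hσ, map_sub]

theorem neg_pow_q (a : F) : (-a) ^ q = -a ^ q := by
  obtain ⟨σ, hσ, -, -⟩ := Classical.Unitary.exists_frob C.hF
  rw [← hσ, ← hσ, map_neg]

theorem zero_pow_q : (0 : F) ^ q = 0 := zero_pow (q_ne C)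

theorem exists_not_fixed : ∃ a : F, a ^ q ≠ a := by
  obtain ⟨σ, hσ, hσ1, -⟩ := Classical.Unitary.exists_frob C.hF
  by_contra hc
  push Not at hc
  exact hσ1 (RingHom.ext fun a => (hσ a).trans (hc a))

theorem exists_skew : ∃ c : F, c ≠ 0 ∧ c + c ^ q = 0 := by
  obtain ⟨a, ha⟩ := exists_not_fixed C
  exact ⟨a - a ^ q, sub_ne_zero.2 (Ne.symm ha), by rw [sub_pow_q C, pow_q_q C]; ring⟩

theorem exists_trace {c : F} (hc : c ^ q = c) : ∃ t : F, t + t ^ q = c := by
  obtain ⟨σ, hσ, hσ1, hσ2⟩ := Classical.Unitary.exists_frob C.hF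
  obtain ⟨t, ht⟩ := Classical.WittHerm.exists_trace hσ1 hσ2 (c := c) (by rw [hσ, hc])
  exact ⟨t, by rw [← hσ, ht]⟩

theorem add_right (u v v' : Fin n → F) : hm u (v + v') = hm u v + hm u v' := by
  simp [Cfsg.hermForm, add_pow_q C, mul_add, Finset.sum_add_distrib]

theorem zero_right (u : Fin n → F) : hm u 0 = 0 := by simp [Cfsg.hermForm, zero_pow_q C]

theorem neg_right (u v : Fin n → F) : hm u (-v) = -hm u v := by
  rw [← neg_one_smul F v, smul_right, neg_pow_q C, one_pow]; ring

theorem sub_right (u v v' : Fin n → F) : hm u (v - v') = hm u v - hm u v' := by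
  rw [sub_eq_add_neg, add_right C, neg_right C]; ring

theorem pow_symm (u v : Fin n → F) : hm u v ^ q = hm v u := by
  obtain ⟨σ, hσ, -, hσ2⟩ := Classical.Unitary.exists_frob C.hF
  rw [Cfsg.hermForm, Cfsg.hermForm, ← hσ, map_sum]
  exact Finset.sum_congr rfl fun i _ => by rw [map_mul, ← hσ (v i), hσ2, hσ, mul_comm]

theorem orth_symm {u v : Fin n → F} (h : hm u v = 0) : hm v u = 0 := by
  rw [← pow_symm C u v, h, zero_pow_q C]

theorem one_symm {u v : Fin n → F} (h : hm u v = 1) : hm v u = 1 := by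
  rw [← pow_symm C u v, h, one_pow]

theorem self_fixed (v : Fin n → F) : hm v v ^ q = hm v v := pow_symm C v v

theorem exists_dual {v : Fin n → F} (hv : v ≠ 0) : ∃ y, hm y v = 1 := by
  obtain ⟨i, hi⟩ := Function.ne_iff.1 hv
  refine ⟨(v i ^ q)⁻¹ • Pi.single i 1, ?_⟩
  rw [smul_left, Cfsg.hermForm]
  simp [Pi.single_apply, q_ne C]
  exact inv_mul_cancel₀ (pow_ne_zero _ (by simpa using hi))

theorem eq_zero_of_orth {v : Fin n → F} (h : ∀ x, hm x v = 0) : v = 0 := by
  by_contra hv
  obtain ⟨y, hy⟩ := exists_dual C hv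
  exact one_ne_zero (hy.symm.trans (h y))

theorem exists_orth_two (u v : Fin n → F) : ∃ x, x ≠ 0 ∧ hm x u = 0 ∧ hm x v = 0 := by
  let L : (Fin n → F) →ₗ[F] F × F :=
    { toFun := fun x => (hm x u, hm x v)
      map_add' := fun x y => by simp [add_left]
      map_smul' := fun c x => by simp [smul_left] }
  have hni : ¬Function.Injective L := fun hi => by
    have := LinearMap.finrank_le_finrank_of_injective hi
    rw [Module.finrank_prod, Module.finrank_self, Module.finrank_pi, Fintype.card_fin] at this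
    have := C.hn
    omega
  rw [← LinearMap.ker_eq_bot, Submodule.eq_bot_iff] at hni
  push Not at hni
  obtain ⟨x, hx, hx0⟩ := hni
  have := LinearMap.mem_ker.1 hx
  exact ⟨x, hx0, congrArg Prod.fst this, congrArg Prod.snd this⟩

omit C in
/-- The maps `x ↦ x + h(x,v) w + (c h(x,v) - h(x,w)) v`. -/
def EM (q : ℕ) (v w : Fin n → F) (c : F) : Matrix (Fin n) (Fin n) F :=
  1 + vecMulVec w (fun i => v i ^ q) + vecMulVec v (fun i => c * v i ^ q - w i ^ q)

omit C in
theorem EM_apply (v w : Fin n → F) (c : F) (x : Fin n → F) :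
    EM q v w c *ᵥ x = x + hm x v • w + (c * hm x v - hm x w) • v := by
  rw [EM, add_mulVec, add_mulVec, one_mulVec, vecMulVec_mulVec, vecMulVec_mulVec, op_smul_eq_smul,
    op_smul_eq_smul]
  congr 2
  · congr 1
    simp [dotProduct, Cfsg.hermForm, mul_comm]
  · simp only [dotProduct, Cfsg.hermForm, Finset.mul_sum, ← Finset.sum_sub_distrib]
    exact Finset.sum_congr rfl fun i _ => by ring

omit C in
/-- Parameters giving isometries. -/
def Val (q : ℕ) (v w : Fin n → F) (c : F) : Prop :=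
  Cfsg.hermForm n F q v v = 0 ∧ Cfsg.hermForm n F q w v = 0 ∧ c + c ^ q = -Cfsg.hermForm n F q w w

theorem val_zero {v : Fin n → F} (hv : hm v v = 0) {c : F} (hc : c + c ^ q = 0) : Val q v 0 c :=
  ⟨hv, zero_left v, by rw [zero_left, hc, neg_zero]⟩

theorem EM_one (v : Fin n → F) : EM q v 0 (0 : F) = 1 :=
  mat_ext fun x => by rw [EM_apply, one_mulVec, zero_right C]; simp

theorem exists_val {v w : Fin n → F} (hv : hm v v = 0) (hw : hm w v = 0) : ∃ c, Val q v w c := by
  obtain ⟨t, ht⟩ := exists_trace C (c := -hm w w) (by rw [neg_pow_q C, self_fixed C])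
  exact ⟨t, hv, hw, ht⟩

theorem EM_preserves {v w : Fin n → F} {c : F} (h : Val q v w c) (x y : Fin n → F) :
    hm (EM q v w c *ᵥ x) (EM q v w c *ᵥ y) = hm x y := by
  obtain ⟨hv, hw, hc⟩ := h
  simp only [EM_apply, add_left, add_right C, smul_left, smul_right, hv, hw, orth_symm C hw,
    sub_pow_q C, mul_pow, pow_symm C]
  linear_combination (hm x v * hm v y) * hc

theorem EM_comp {v w w' : Fin n → F} {c c' : F} (h : Val q v w c) (h' : Val q v w' c') :
    EM q v w c * EM q v w' c' = EM q v (w + w') (c + c' - hm w' w) := by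
  obtain ⟨hv, hw, -⟩ := h
  obtain ⟨-, hw', -⟩ := h'
  refine mat_ext fun x => ?_
  rw [← mulVec_mulVec, EM_apply (v := v) (w := w), EM_apply, EM_apply]
  simp only [add_left, add_right C, smul_left, hv, hw', orth_symm C hw, mul_zero, add_zero]
  module

theorem val_mul {v w w' : Fin n → F} {c c' : F} (h : Val q v w c) (h' : Val q v w' c') :
    Val q v (w + w') (c + c' - hm w' w) := by
  obtain ⟨hv, hw, hc⟩ := h
  obtain ⟨-, hw', hc'⟩ := h'
  refine ⟨hv, by rw [add_left, hw, hw', add_zero], ?_⟩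
  rw [sub_pow_q C, add_pow_q C, pow_symm C, add_left, add_right C, add_right C]
  linear_combination hc + hc'

theorem val_inv {v w : Fin n → F} {c : F} (h : Val q v w c) : Val q v (-w) (c ^ q) :=
  ⟨h.1, by rw [neg_left, h.2.1, neg_zero], by
    rw [pow_q_q C, neg_left, neg_right C, neg_neg, add_comm]; exact h.2.2⟩

theorem EM_inv {v w : Fin n → F} {c : F} (h : Val q v w c) :
    EM q v w c * EM q v (-w) (c ^ q) = 1 := by
  rw [EM_comp C h (val_inv C h), add_neg_cancel, neg_left,
    show c + c ^ q - -hm w w = 0 by linear_combination h.2.2, EM_one C]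

theorem nil_three {v w : Fin n → F} {c : F} (h : Val q v w c) :
    (EM q v w c - 1) ^ 3 = 0 := by
  refine mat_ext fun x => ?_
  rw [pow_three, ← mulVec_mulVec, ← mulVec_mulVec, zero_mulVec]
  simp only [sub_mulVec, one_mulVec, EM_apply, add_left, sub_left, smul_left, h.1, h.2.1,
    orth_symm C h.2.1]
  module

theorem pow_sq {p : ℕ} [Fact p.Prime] [CharP F p] {v w : Fin n → F} {c : F} (h : Val q v w c) :
    EM q v w c ^ p ^ 2 = 1 := by
  haveI : Nonempty (Fin n) := ⟨⟨0, by have := C.hn; omega⟩⟩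
  have e : EM q v w c = (EM q v w c - 1) + 1 := (sub_add_cancel _ _).symm
  have hp : 3 ≤ p ^ 2 := by nlinarith [(Fact.out : p.Prime).two_le]
  rw [e, add_pow_char_pow_of_commute _ _ (Commute.one_right _), one_pow,
    pow_eq_zero_of_le hp (nil_three C h), zero_add]

theorem EM_det {v w : Fin n → F} {c : F} (h : Val q v w c) : (EM q v w c).det = 1 := by
  obtain ⟨p, _⟩ := CharP.exists F
  haveI : Fact p.Prime := ⟨CharP.char_is_prime F p⟩
  have := congrArg Matrix.det (pow_sq C (p := p) h)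
  rw [det_pow, det_one] at this
  have h2 : ((EM q v w c).det - 1) ^ p ^ 2 = 0 := by rw [sub_pow_char_pow, this, one_pow, sub_self]
  exact sub_eq_zero.1 ((pow_eq_zero_iff (by
    have := (Fact.out : p.Prime).pos; positivity)).1 h2)

omit C in
/-- The matrix of an element. -/
def mat (s : Cfsg.SU n F q) : Matrix (Fin n) (Fin n) F := (s : SpecialLinearGroup (Fin n) F)

omit C in
theorem mat_mul (s t : Cfsg.SU n F q) : mat (s * t) = mat s * mat t := rfl

omit C in
theorem mat_one : mat (1 : Cfsg.SU n F q) = 1 := rfl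

omit C in
theorem mat_inj {s t : Cfsg.SU n F q} (h : mat s = mat t) : s = t := Subtype.ext (Subtype.ext h)

omit C in
theorem mat_pres (s : Cfsg.SU n F q) (x y : Fin n → F) : hm (mat s *ᵥ x) (mat s *ᵥ y) = hm x y :=
  s.2 x y

omit C in
theorem mat_inv_mul (s : Cfsg.SU n F q) : mat s⁻¹ * mat s = 1 := by
  rw [← mat_mul, inv_mul_cancel, mat_one]

omit C in
theorem mat_mul_inv (s : Cfsg.SU n F q) : mat s * mat s⁻¹ = 1 := by
  rw [← mat_mul, mul_inv_cancel, mat_one]

omit C in
theorem mat_ne_zero (s : Cfsg.SU n F q) {x : Fin n → F} (hx : x ≠ 0) : mat s *ᵥ x ≠ 0 := fun h =>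
  hx (by
    have := congrArg (fun y => mat s⁻¹ *ᵥ y) h
    simpa [mulVec_mulVec, mat_inv_mul] using this)

/-- The element of a parameter. -/
def el {v w : Fin n → F} {c : F} (h : Val q v w c) : Cfsg.SU n F q :=
  ⟨⟨EM q v w c, EM_det C h⟩, EM_preserves C h⟩

theorem mat_el {v w : Fin n → F} {c : F} (h : Val q v w c) : mat (el C h) = EM q v w c := rfl

/-- Equality modulo the centre. -/
theorem mk_eq_iff {s t : Cfsg.SU n F q} :
    (QuotientGroup.mk s : Cfsg.PSU n F q) = QuotientGroup.mk t ↔ ∃ r : F, mat t = r • mat s := by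
  rw [QuotientGroup.eq]
  constructor
  · intro hc
    obtain ⟨r, hr⟩ := Classical.Unitary.scalar_of_comm C.hF (by have := C.hn; omega)
      (mat (s⁻¹ * t)) fun g => congrArg mat (Subgroup.mem_center_iff.1 hc g)
    exact ⟨r, by rw [← mul_inv_cancel_left s t, mat_mul, hr, mul_smul_comm, mul_one]⟩
  · rintro ⟨r, hr⟩
    refine Subgroup.mem_center_iff.2 fun g => mat_inj ?_
    simp only [mat_mul, hr, mul_smul_comm, mat_inv_mul, smul_mul_assoc, one_mul, mul_one]

omit C in
open scoped _root_.Classical in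
/-- The class of a matrix. -/
noncomputable def cls (q : ℕ) (M : Matrix (Fin n) (Fin n) F) : Cfsg.PSU n F q :=
  if h : ∃ s : Cfsg.SU n F q, mat s = M then QuotientGroup.mk h.choose else 1

omit C in
theorem cls_mat (s : Cfsg.SU n F q) : cls q (mat s) = QuotientGroup.mk s := by
  have h : ∃ t : Cfsg.SU n F q, mat t = mat s := ⟨s, rfl⟩
  rw [cls, dif_pos h, mat_inj h.choose_spec]

theorem cls_EM {v w : Fin n → F} {c : F} (h : Val q v w c) :
    cls q (EM q v w c) = QuotientGroup.mk (el C h) := by rw [← mat_el C h, cls_mat]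

theorem cls_EM_mul {v w w' : Fin n → F} {c c' : F} (h : Val q v w c) (h' : Val q v w' c') :
    cls q (EM q v w c) * cls q (EM q v w' c') = cls q (EM q v (w + w') (c + c' - hm w' w)) := by
  rw [← EM_comp C h h', cls_EM C h, cls_EM C h', ← QuotientGroup.mk_mul, ← cls_mat, mat_mul,
    mat_el, mat_el]

theorem conj_EM (s : Cfsg.SU n F q) (v w : Fin n → F) (c : F) :
    mat s * EM q v w c = EM q (mat s *ᵥ v) (mat s *ᵥ w) c * mat s := by
  refine mat_ext fun x => ?_
  rw [← mulVec_mulVec, ← mulVec_mulVec, EM_apply, EM_apply, mulVec_add, mulVec_add, mulVec_smul,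
    mulVec_smul, mat_pres, mat_pres]

theorem val_conj (s : Cfsg.SU n F q) {v w : Fin n → F} {c : F} (h : Val q v w c) :
    Val q (mat s *ᵥ v) (mat s *ᵥ w) c := by
  simpa [Val, mat_pres] using h

theorem el_conj (s : Cfsg.SU n F q) {v w : Fin n → F} {c : F} (h : Val q v w c) :
    s * el C h * s⁻¹ = el C (val_conj C s h) := by
  refine mat_inj ?_
  rw [mat_mul, mat_mul, mat_el, mat_el, conj_EM C, mul_assoc, mat_mul_inv, mul_one]

theorem conj_cls (s : Cfsg.SU n F q) {v w : Fin n → F} {c : F} (h : Val q v w c) :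
    MulAut.conj (QuotientGroup.mk s : Cfsg.PSU n F q) (cls q (EM q v w c)) =
      cls q (EM q (mat s *ᵥ v) (mat s *ᵥ w) c) := by
  rw [cls_EM C h, cls_EM C (val_conj C s h), MulAut.conj_apply, ← QuotientGroup.mk_inv,
    ← QuotientGroup.mk_mul, ← QuotientGroup.mk_mul, el_conj C]

/-! ### Transvection groups -/

omit C in
/-- The transvection group at a point. -/
def T (q : ℕ) (v : Fin n → F) : Set (Cfsg.PSU n F q) :=
  {x | ∃ c : F, c + c ^ q = 0 ∧ x = cls q (EM q v 0 c)}

theorem T_mem {v : Fin n → F} {c : F} (hc : c + c ^ q = 0) : cls q (EM q v 0 c) ∈ T q v :=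
  ⟨c, hc, rfl⟩

theorem conj_T (s : Cfsg.SU n F q) {v : Fin n → F} (hv : hm v v = 0) :
    MulAut.conj (QuotientGroup.mk s : Cfsg.PSU n F q) '' T q v = T q (mat s *ᵥ v) := by
  refine Set.Subset.antisymm ?_ ?_
  · rintro _ ⟨_, ⟨c, hc, rfl⟩, rfl⟩
    exact ⟨c, hc, by rw [conj_cls C s (val_zero C hv hc), mulVec_zero]⟩
  · rintro _ ⟨c, hc, rfl⟩
    exact ⟨_, T_mem C hc, by rw [conj_cls C s (val_zero C hv hc), mulVec_zero]⟩

theorem EM_smul {a : F} (v : Fin n → F) (c : F) :
    EM q (a • v) 0 c = EM q v 0 (a * a ^ q * c) := by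
  refine mat_ext fun x => ?_
  rw [EM_apply, EM_apply, zero_right C, smul_right]
  module

theorem T_par {v v' : Fin n → F} (h : Par v v') : T q v = T q v' := by
  obtain ⟨a, ha, rfl⟩ := h
  have hN : (a * a ^ q) ^ q = a * a ^ q := by rw [mul_pow, pow_q_q C, mul_comm]
  have hN0 : a * a ^ q ≠ 0 := mul_ne_zero ha (pow_ne_zero _ ha)
  ext x
  constructor
  · rintro ⟨c, hc, rfl⟩
    refine ⟨c / (a * a ^ q), ?_, by rw [EM_smul C, mul_div_cancel₀ _ hN0]⟩
    rw [div_pow, hN, ← add_div, hc, zero_div]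
  · rintro ⟨c, hc, rfl⟩
    refine ⟨a * a ^ q * c, ?_, by rw [EM_smul C]⟩
    rw [mul_pow (a * a ^ q) c, hN, ← mul_add, hc, mul_zero]

theorem EM_inj_zero {v : Fin n → F} (hv : Iso q v) {c d : F} (hc : c + c ^ q = 0)
    (hd : d + d ^ q = 0) (h : cls q (EM q v 0 c) = cls q (EM q v 0 d)) : c = d := by
  rw [cls_EM C (val_zero C hv.2 hc), cls_EM C (val_zero C hv.2 hd)] at h
  obtain ⟨r, hr⟩ := (mk_eq_iff C).1 h
  rw [mat_el, mat_el] at hr
  have h1 := congrArg (fun M => M *ᵥ v) hr
  simp only [smul_mulVec, EM_apply, hv.2, zero_right C, zero_smul, mul_zero, sub_zero, add_zero] at h1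
  have hr1 : r = 1 := smul_left_injective F hv.1 (show r • v = (1 : F) • v by rw [one_smul, ← h1])
  obtain ⟨y, hy⟩ := exists_dual C hv.1
  have h2 := congrArg (fun M => M *ᵥ y) hr
  simp only [hr1, one_smul, EM_apply, hy, zero_right C, mul_one, sub_zero, smul_zero,
    add_zero, add_right_inj] at h2
  exact (smul_left_injective F hv.1 h2).symm

theorem par_of_T_subset {u v : Fin n → F} (hu : Iso q u) (hv : Iso q v) (h : T q u ⊆ T q v) :
    Par u v := by
  obtain ⟨c, hc0, hc⟩ := exists_skew C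
  obtain ⟨d, hd, e⟩ := h (T_mem C hc)
  rw [cls_EM C (val_zero C hu.2 hc), cls_EM C (val_zero C hv.2 hd)] at e
  obtain ⟨r, hr⟩ := (mk_eq_iff C).1 e
  rw [mat_el, mat_el] at hr
  obtain ⟨x, hx, hxu, hxv⟩ := exists_orth_two C u v
  have h1 := congrArg (fun M => M *ᵥ x) hr
  simp only [smul_mulVec, EM_apply, zero_right C, hxu, hxv, zero_smul, mul_zero, sub_zero, add_zero] at h1
  have hr1 : r = 1 := smul_left_injective F hx (show r • x = (1 : F) • x by rw [one_smul, ← h1])
  obtain ⟨y, hy⟩ := exists_dual C hu.1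
  have h2 := congrArg (fun M => M *ᵥ y) hr
  simp only [hr1, one_smul, EM_apply, hy, zero_right C, mul_one, sub_zero, smul_zero,
    add_zero, add_right_inj] at h2
  refine Par.symm (par_of_smul hu.1 (c := c⁻¹ * (d * hm y v)) ?_)
  rw [mul_smul, h2, inv_smul_smul₀ hc0]

theorem T_eq_iff {u v : Fin n → F} (hu : Iso q u) (hv : Iso q v) : T q u = T q v ↔ Par u v :=
  ⟨fun h => par_of_T_subset C hu hv h.le, T_par C⟩

/-- Non-orthogonal transvection groups do not commute. -/
theorem comm_iff {u v : Fin n → F} (hu : Iso q u) (hv : Iso q v) :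
    (∀ x ∈ T q u, ∀ y ∈ T q v, x * y = y * x) ↔ hm u v = 0 := by
  constructor
  · intro h
    obtain ⟨c, hc0, hc⟩ := exists_skew C
    have e := h _ (T_mem C hc) _ (T_mem C hc)
    rw [cls_EM C (val_zero C hu.2 hc), cls_EM C (val_zero C hv.2 hc), ← QuotientGroup.mk_mul,
      ← QuotientGroup.mk_mul] at e
    obtain ⟨r, hr⟩ := (mk_eq_iff C).1 e
    rw [mat_mul, mat_mul, mat_el, mat_el] at hr
    obtain ⟨x, hx, hxu, hxv⟩ := exists_orth_two C u v
    have h1 := congrArg (fun M => M *ᵥ x) hr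
    simp only [smul_mulVec, ← mulVec_mulVec, EM_apply, zero_right C, hxu, hxv, zero_smul, mul_zero,
      sub_zero, add_zero] at h1
    have hr1 : r = 1 := smul_left_injective F hx (show r • x = (1 : F) • x by rw [one_smul, ← h1])
    obtain ⟨y, hy⟩ := exists_dual C hv.1
    have h2 := congrArg (fun M => M *ᵥ y) hr
    simp only [hr1, one_smul, ← mulVec_mulVec, EM_apply, zero_right C, smul_zero, add_zero,
      sub_zero, add_left, smul_left, hy, mul_one] at h2
    by_contra hne
    have hne' : hm v u ≠ 0 := fun e0 => hne (orth_symm C e0)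
    have h3 : (hm v u) • u = (hm y u * hm u v) • v := by
      have h4 : (c * c) • ((hm v u) • u) = (c * c) • ((hm y u * hm u v) • v) := by
        linear_combination (norm := module) -h2
      exact smul_right_injective _ (mul_ne_zero hc0 hc0) h4
    have hu' : u = ((hm v u)⁻¹ * (hm y u * hm u v)) • v := by
      rw [mul_smul, ← h3, inv_smul_smul₀ hne']
    apply hne
    rw [hu', smul_left, hv.2, mul_zero]
  · rintro h _ ⟨c, hc, rfl⟩ _ ⟨d, hd, rfl⟩
    rw [cls_EM C (val_zero C hu.2 hc), cls_EM C (val_zero C hv.2 hd), ← QuotientGroup.mk_mul,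
      ← QuotientGroup.mk_mul]
    congr 1
    refine mat_inj (mat_ext fun x => ?_)
    simp only [mat_mul, mat_el, ← mulVec_mulVec, EM_apply, zero_right C, zero_left, add_left, smul_left, h,
      orth_symm C h]
    module

/-! ### Frames -/

omit C in
/-- A hyperbolic pair. -/
structure Frame (F : Type*) [Field F] (n q : ℕ) where
  e : Fin n → F
  f : Fin n → F
  hee : Cfsg.hermForm n F q e e = 0
  hff : Cfsg.hermForm n F q f f = 0
  hef : Cfsg.hermForm n F q e f = 1
  hfe : Cfsg.hermForm n F q f e = 1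

omit C in
theorem Frame.e_iso (P : Frame F n q) : Iso q P.e :=
  ⟨fun h => by have := P.hef; rw [h, zero_left] at this; exact zero_ne_one this, P.hee⟩

omit C in
theorem Frame.f_iso (P : Frame F n q) : Iso q P.f :=
  ⟨fun h => by have := P.hfe; rw [h, zero_left] at this; exact zero_ne_one this, P.hff⟩

omit C in
/-- The projection to the complement of the pair. -/
def Frame.pr (P : Frame F n q) (x : Fin n → F) : Fin n → F :=
  x - Cfsg.hermForm n F q x P.f • P.e - Cfsg.hermForm n F q x P.e • P.f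

omit C in
/-- Orthogonality to the pair. -/
def Frame.InW (P : Frame F n q) (w : Fin n → F) : Prop :=
  Cfsg.hermForm n F q w P.e = 0 ∧ Cfsg.hermForm n F q w P.f = 0

omit C in
theorem Frame.pr_mem (P : Frame F n q) (x : Fin n → F) : P.InW (P.pr x) := by
  constructor <;> simp [Frame.pr, sub_left, smul_left, P.hee, P.hef, P.hfe, P.hff]

omit C in
theorem Frame.decomp (P : Frame F n q) (x : Fin n → F) :
    x = hm x P.f • P.e + hm x P.e • P.f + P.pr x := by rw [Frame.pr]; abel

omit C in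
theorem Frame.pr_of_mem (P : Frame F n q) {w : Fin n → F} (h : P.InW w) : P.pr w = w := by
  rw [Frame.pr, h.1, h.2]; simp

omit C in
theorem Frame.pr_add (P : Frame F n q) (x y : Fin n → F) : P.pr (x + y) = P.pr x + P.pr y := by
  simp only [Frame.pr, add_left]; module

omit C in
theorem Frame.pr_smul (P : Frame F n q) (a : F) (x : Fin n → F) : P.pr (a • x) = a • P.pr x := by
  simp only [Frame.pr, smul_left]; module

theorem Frame.hm_pr (P : Frame F n q) {w : Fin n → F} (hw : P.InW w) (x : Fin n → F) :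
    hm (P.pr x) w = hm x w := by
  simp [Frame.pr, sub_left, smul_left, orth_symm C hw.1, orth_symm C hw.2]

theorem exists_frame {e : Fin n → F} (he : Iso q e) : ∃ P : Frame F n q, P.e = e := by
  obtain ⟨y, hy⟩ := exists_dual C he.1
  obtain ⟨t, ht⟩ := exists_trace C (c := -hm y y) (by rw [neg_pow_q C, self_fixed C])
  have hfe : hm (y + t • e) e = 1 := by rw [add_left, smul_left, he.2, hy, mul_zero, add_zero]
  refine ⟨⟨e, y + t • e, he.2, ?_, one_symm C hfe, hfe⟩, rfl⟩
  simp only [add_left, add_right C, smul_left, smul_right, he.2, hy, one_symm C hy]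
  linear_combination ht

/-! ### Sylow subgroups -/

omit C in
/-- The stabiliser of a vector. -/
def stab (q : ℕ) (v : Fin n → F) : Subgroup (Cfsg.SU n F q) where
  carrier := {s | mat s *ᵥ v = v}
  one_mem' := by simp [mat_one]
  mul_mem' {a b} ha hb := by
    show mat (a * b) *ᵥ v = v
    rw [mat_mul, ← mulVec_mulVec, hb, ha]
  inv_mem' {a} ha := by
    show mat a⁻¹ *ᵥ v = v
    conv_lhs => rw [← (ha : mat a *ᵥ v = v), mulVec_mulVec, mat_inv_mul, one_mulVec]

omit C in
theorem mem_stab {v : Fin n → F} {s : Cfsg.SU n F q} : s ∈ stab q v ↔ mat s *ᵥ v = v := Iff.rfl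

omit C in
theorem stab_par {u v : Fin n → F} (h : Par u v) : stab q u = stab q v := by
  have key : ∀ {a b : Fin n → F}, Par a b → stab q a ≤ stab q b := by
    rintro a _ ⟨c, -, rfl⟩ s hs
    rw [mem_stab] at hs ⊢
    rw [mulVec_smul, hs]
  exact le_antisymm (key h) (key h.symm)

/-- The unipotent radical of the stabiliser of an isotropic vector. -/
def radSub {v : Fin n → F} (hv : hm v v = 0) : Subgroup (Cfsg.SU n F q) where
  carrier := {s | ∃ w c, Val q v w c ∧ mat s = EM q v w c}
  one_mem' := ⟨0, 0, val_zero C hv (by rw [zero_pow_q C, add_zero]), by rw [mat_one, EM_one C]⟩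
  mul_mem' := by
    rintro a b ⟨w, c, h, ha⟩ ⟨w', c', h', hb⟩
    exact ⟨_, _, val_mul C h h', by rw [mat_mul, ha, hb, EM_comp C h h']⟩
  inv_mem' := by
    rintro a ⟨w, c, h, ha⟩
    refine ⟨_, _, val_inv C h, ?_⟩
    have : a⁻¹ = el C (val_inv C h) := inv_eq_of_mul_eq_one_right (mat_inj (by
      rw [mat_mul, ha, mat_el, mat_one, EM_inv C h]))
    rw [this, mat_el]

theorem el_mem_rad {v w : Fin n → F} {c : F} (h : Val q v w c) : el C h ∈ radSub C h.1 :=
  ⟨w, c, h, rfl⟩

theorem rad_le_stab {v : Fin n → F} (hv : hm v v = 0) : radSub C hv ≤ stab q v := by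
  rintro s ⟨w, c, h, hs⟩
  rw [mem_stab, hs, EM_apply, hv, orth_symm C h.2.1]
  simp

theorem stab_le_normalizer {v : Fin n → F} (hv : hm v v = 0) :
    stab q v ≤ Subgroup.normalizer (radSub C hv : Set (Cfsg.SU n F q)) := by
  have key : ∀ g ∈ stab q v, ∀ x ∈ radSub C hv, g * x * g⁻¹ ∈ radSub C hv := by
    rintro g hg x ⟨w, c, h, hx⟩
    have : x = el C h := mat_inj hx
    subst this
    rw [el_conj C]
    refine ⟨mat g *ᵥ w, c, ?_, ?_⟩
    · have := val_conj C g h; rwa [mem_stab.1 hg] at this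
    · rw [mat_el, mem_stab.1 hg]
  intro g hg
  refine Subgroup.mem_normalizer_iff.2 fun x => ⟨key g hg x, fun hx => ?_⟩
  have := key g⁻¹ (inv_mem hg) _ hx
  simpa [mul_assoc] using this

variable {p : ℕ} [Fact p.Prime] [CharP F p]

theorem rad_pGroup {v : Fin n → F} (hv : hm v v = 0) : IsPGroup p (radSub C hv) := by
  rintro ⟨s, w, c, h, hs⟩
  refine ⟨2, Subtype.ext (mat_inj ?_)⟩
  have hpow : ∀ k : ℕ, mat (s ^ k) = mat s ^ k := fun k => by
    induction k with
    | zero => simp [mat_one]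
    | succ k ih => rw [pow_succ, mat_mul, ih, pow_succ]
  rw [SubmonoidClass.coe_pow, hpow, hs, pow_sq C h]
  rfl

/-- A `p`-group acting linearly on a non-zero subspace fixes a non-zero vector of it. -/
theorem exists_fixed {R : Subgroup (Cfsg.SU n F q)} (hR : IsPGroup p R)
    (W : Submodule F (Fin n → F)) (hW : W ≠ ⊥) (a : R → (Fin n → F) → (Fin n → F))
    (hmem : ∀ g x, x ∈ W → a g x ∈ W) (h1 : ∀ x ∈ W, a 1 x = x)
    (hmul : ∀ g g' x, x ∈ W → a (g * g') x = a g (a g' x)) (h0 : ∀ g, a g 0 = 0) :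
    ∃ u ∈ W, u ≠ 0 ∧ ∀ g, a g u = u := by
  let _ : MulAction R W :=
    { smul := fun g x => ⟨a g x, hmem g x x.2⟩
      one_smul := fun x => Subtype.ext (h1 x x.2)
      mul_smul := fun g g' x => Subtype.ext (hmul g g' x x.2) }
  haveI : Nontrivial W := Submodule.nontrivial_iff_ne_bot.2 hW
  haveI : Finite W := inferInstance
  have hd : p ∣ Nat.card W := by
    rw [Module.natCard_eq_pow_finrank (K := F), Nat.card_eq_fintype_card]
    obtain ⟨m, -, hm'⟩ := FiniteField.card F p
    rw [hm', ← pow_mul]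
    exact dvd_pow_self p (mul_ne_zero m.ne_zero Module.finrank_pos.ne')
  obtain ⟨b, hb, hb0⟩ := hR.exists_fixed_point_of_prime_dvd_card_of_fixed_point W hd
    (a := 0) (fun g => Subtype.ext (h0 g))
  exact ⟨b, b.2, fun e => hb0 (Subtype.ext e.symm), fun g => congrArg Subtype.val (hb g)⟩

/-- A `p`-group fixes an isotropic vector. -/
theorem exists_iso_fixed {R : Subgroup (Cfsg.SU n F q)} (hR : IsPGroup p R) :
    ∃ v, Iso q v ∧ R ≤ stab q v := by
  have step : ∀ W : Submodule F (Fin n → F), W ≠ ⊥ → (∀ g : R, ∀ x ∈ W, mat (g : Cfsg.SU n F q) *ᵥ x ∈ W) →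
      ∃ u ∈ W, u ≠ 0 ∧ R ≤ stab q u := fun W hW hinv => by
    obtain ⟨u, hu, hu0, hfix⟩ := exists_fixed C hR W hW (fun g x => mat (g : Cfsg.SU n F q) *ᵥ x) hinv
      (fun x _ => by simp [mat_one]) (fun g g' x _ => by simp [mat_mul, mulVec_mulVec])
      (fun g => mulVec_zero _)
    exact ⟨u, hu, hu0, fun g hg => hfix ⟨g, hg⟩⟩
  haveI : Nontrivial (Fin n → F) := by
    haveI : Nonempty (Fin n) := ⟨⟨0, by have := C.hn; omega⟩⟩
    infer_instance
  obtain ⟨v, -, hv0, hv⟩ := step ⊤ top_ne_bot fun g x _ => Submodule.mem_top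
  by_cases hvv : hm v v = 0
  · exact ⟨v, ⟨hv0, hvv⟩, hv⟩
  let W : Submodule F (Fin n → F) :=
    { carrier := {x | hm x v = 0}
      zero_mem' := zero_left v
      add_mem' := fun {x y} hx hy => by simp_all [add_left]
      smul_mem' := fun a x hx => by simp_all [smul_left] }
  have hWb : W ≠ ⊥ := by
    obtain ⟨x, hx, hxv, -⟩ := exists_orth_two C v v
    exact fun hb => hx ((Submodule.mem_bot F).1 (hb ▸ (show x ∈ W from hxv)))
  obtain ⟨u, hu, hu0, hfix⟩ := step W hWb fun g x hx => by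
    show hm _ v = 0
    rw [show hm (mat (g : Cfsg.SU n F q) *ᵥ x) v = hm (mat (g : Cfsg.SU n F q) *ᵥ x) (mat (g : Cfsg.SU n F q) *ᵥ v) by
      rw [mem_stab.1 (hv g.2)], mat_pres]
    exact hx
  by_cases huu : hm u u = 0
  · exact ⟨u, ⟨hu0, huu⟩, hfix⟩
  have huv : hm u v = 0 := hu
  obtain ⟨l, hl⟩ := Classical.Unitary.exists_scale C.hF (a := -hm u u / hm v v)
    (div_ne_zero (neg_ne_zero.2 huu) hvv) (by rw [div_pow, neg_pow_q C, self_fixed C, self_fixed C])
  refine ⟨u + l • v, ⟨fun h0 => huu ?_, ?_⟩, fun g hg => ?_⟩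
  · have := congrArg (fun x => hm x u) h0
    simpa [add_left, smul_left, zero_left, orth_symm C huv] using this
  · simp only [add_left, add_right C, smul_left, smul_right, huv, orth_symm C huv]
    rw [show hm u u = -(l * l ^ q) * hm v v by rw [hl]; field_simp]
    ring
  · rw [mem_stab, mulVec_add, mulVec_smul, mem_stab.1 (hfix hg), mem_stab.1 (hv hg)]

theorem par_of_rad_fix {u v : Fin n → F} (hv : hm v v = 0) (hv0 : v ≠ 0) (hu : u ≠ 0)
    (h : radSub C hv ≤ stab q u) : Par v u := by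
  obtain ⟨c, hc0, hc⟩ := exists_skew C
  have huv : hm u v = 0 := by
    have := mem_stab.1 (h (el_mem_rad C (val_zero C hv hc)))
    rw [mat_el, EM_apply, zero_right C, smul_zero, add_zero, sub_zero, add_eq_left,
      smul_eq_zero] at this
    exact (mul_eq_zero.1 (this.resolve_right hv0)).resolve_left hc0
  have hw : ∀ w, hm w v = 0 → hm w u = 0 := fun w hw => by
    obtain ⟨d, hd⟩ := exists_val C hv hw
    have := mem_stab.1 (h (el_mem_rad C hd))
    rw [mat_el, EM_apply, huv, zero_smul, add_zero, add_eq_left, smul_eq_zero] at this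
    have := this.resolve_right hv0
    exact orth_symm C (by linear_combination -this)
  obtain ⟨y, hy⟩ := exists_dual C hv0
  refine par_of_smul hu (c := hm y u ^ q) (sub_eq_zero.1 (eq_zero_of_orth C fun x => ?_))
  have := hw (x - hm x v • y) (by rw [sub_left, smul_left, hy, mul_one, sub_self])
  rw [sub_left, smul_left] at this
  rw [sub_right C, smul_right, pow_q_q C]
  linear_combination this

/-- A Sylow subgroup fixing an isotropic vector contains the radical. -/
theorem rad_le_sylow {v : Fin n → F} (hv : hm v v = 0) (R : Sylow p (Cfsg.SU n F q))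
    (h : (R : Subgroup (Cfsg.SU n F q)) ≤ stab q v) : radSub C hv ≤ R :=
  sup_eq_right.mp <| R.is_maximal'
    ((rad_pGroup C hv).to_sup_of_normal_left' R.isPGroup' (h.trans (stab_le_normalizer C hv))) le_sup_right

theorem exists_sylow_fix {v : Fin n → F} (hv : Iso q v) :
    ∃ R : Sylow p (Cfsg.SU n F q), (R : Subgroup (Cfsg.SU n F q)) ≤ stab q v := by
  obtain ⟨R, hR⟩ := (rad_pGroup C hv.2).exists_le_sylow (p := p)
  obtain ⟨v₁, hv₁, h₁⟩ := exists_iso_fixed C (p := p) R.isPGroup'
  refine ⟨R, h₁.trans ?_⟩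
  rw [stab_par (par_of_rad_fix C hv.2 hv.1 hv₁.1 (hR.trans h₁))]

omit C in
/-- The central elements of a subgroup, as a set. -/
def zset {G : Type*} [Group G] (H : Subgroup G) : Set G :=
  {x | x ∈ H ∧ ∀ y ∈ H, x * y = y * x}

omit C in
theorem image_zset {G : Type*} [Group G] (H : Subgroup G) (α : MulAut G) :
    α '' zset H = zset (H.map α.toMonoidHom) := by
  refine Set.Subset.antisymm ?_ ?_
  · rintro _ ⟨x, ⟨hx, hc⟩, rfl⟩
    refine ⟨Subgroup.mem_map_of_mem _ hx, ?_⟩
    rintro _ ⟨y, hy, rfl⟩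
    show α x * α y = α y * α x
    rw [← map_mul, ← map_mul, hc y hy]
  · rintro _ ⟨⟨x, hx, rfl⟩, hc⟩
    refine ⟨x, ⟨hx, fun y hy => α.injective ?_⟩, rfl⟩
    rw [map_mul, map_mul]
    exact hc _ (Subgroup.mem_map_of_mem _ hy)

/-- A matrix fixing `v` and trivial on `v⊥/v` is in the radical. -/
theorem mem_rad_of {v : Fin n → F} (hv : hm v v = 0) (hv0 : v ≠ 0) {s : Cfsg.SU n F q}
    (hfix : mat s *ᵥ v = v)
    (hw : ∀ w, hm w v = 0 → ∃ l : F, mat s *ᵥ w = w + l • v) :
    ∃ w₀ c, Val q v w₀ c ∧ mat s = EM q v w₀ c := by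
  obtain ⟨y, hy⟩ := exists_dual C hv0
  have hyv : hm (mat s *ᵥ y) v = 1 := by
    rw [show hm (mat s *ᵥ y) v = hm (mat s *ᵥ y) (mat s *ᵥ v) by rw [hfix], mat_pres, hy]
  obtain ⟨w₀, hw₀⟩ : ∃ w₀, mat s *ᵥ y = y + w₀ := ⟨mat s *ᵥ y - y, by abel⟩
  have hw₀v : hm w₀ v = 0 := by rw [hw₀, add_left, hy] at hyv; linear_combination hyv
  have hlin : ∀ w, hm w v = 0 → mat s *ᵥ w = w + (-hm w w₀) • v := fun w hwv => by
    obtain ⟨l, hl⟩ := hw w hwv
    have e := mat_pres s w y
    rw [hl, hw₀] at e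
    simp only [add_left, add_right C, smul_left, one_symm C hy, orth_symm C hw₀v] at e
    rw [hl, show l = -hm w w₀ by linear_combination e]
  refine ⟨w₀, hm y w₀, ⟨hv, hw₀v, ?_⟩, mat_ext fun x => ?_⟩
  · have e := mat_pres s y y
    rw [hw₀] at e
    simp only [add_left, add_right C] at e
    rw [pow_symm C]
    linear_combination e
  · have hx : hm (x - hm x v • y) v = 0 := by rw [sub_left, smul_left, hy, mul_one, sub_self]
    rw [EM_apply]
    calc mat s *ᵥ x = mat s *ᵥ (x - hm x v • y) + hm x v • (mat s *ᵥ y) := by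
          rw [← mulVec_smul, ← mulVec_add, sub_add_cancel]
      _ = _ := by rw [hlin _ hx, hw₀, sub_left, smul_left]; module

/-- The centre of a Sylow subgroup of the stabiliser. -/
theorem zset_map {v : Fin n → F} (hv : Iso q v) (R : Sylow p (Cfsg.SU n F q))
    (hR : (R : Subgroup (Cfsg.SU n F q)) ≤ stab q v) :
    zset ((R : Subgroup (Cfsg.SU n F q)).map (QuotientGroup.mk' (Subgroup.center (Cfsg.SU n F q)))) = T q v := by
  have hQ := rad_le_sylow C hv.2 R hR
  refine Set.Subset.antisymm ?_ ?_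
  · rintro _ ⟨⟨z, hz, rfl⟩, hc⟩
    have hcomm : ∀ {w : Fin n → F} {c : F} (h : Val q v w c),
        mat z * EM q v w c = EM q v w c * mat z := fun {w c} h => by
      have e := hc _ (Subgroup.mem_map_of_mem _ (hQ (el_mem_rad C h)))
      rw [← map_mul, ← map_mul] at e
      obtain ⟨r, hr⟩ := (mk_eq_iff C).1 e
      rw [mat_mul, mat_mul, mat_el] at hr
      have h1 := congrArg (fun M => M *ᵥ v) hr
      have hzv : mat z *ᵥ v = v := hR hz
      have hEv : EM q v w c *ᵥ v = v := rad_le_stab C h.1 (el_mem_rad C h)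
      simp only [smul_mulVec, ← mulVec_mulVec, hzv, hEv] at h1
      rw [show r = 1 from smul_left_injective F hv.1 (show r • v = (1 : F) • v by rw [one_smul, ← h1]),
        one_smul] at hr
      exact hr.symm
    obtain ⟨y, hy⟩ := exists_dual C hv.1
    have hzv : mat z *ᵥ v = v := hR hz
    have hmove : ∀ w, hm w v = 0 → ∃ l : F, mat z *ᵥ w = w + l • v := fun w hw => by
      obtain ⟨c, h⟩ := exists_val C hv.2 hw
      have e := hcomm h
      rw [conj_EM C, hzv] at e
      have e' : EM q v (mat z *ᵥ w) c = EM q v w c := by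
        have := congrArg (fun M => M * mat z⁻¹) e
        simpa [mul_assoc, mat_mul_inv] using this
      have h2 := congrArg (fun M => M *ᵥ y) e'
      simp only [EM_apply, hy, one_smul] at h2
      exact ⟨hm y (mat z *ᵥ w) - hm y w, by linear_combination (norm := module) h2⟩
    obtain ⟨w₀, c₀, h₀, hz₀⟩ := mem_rad_of C hv.2 hv.1 hzv hmove
    have horth : ∀ w, hm w v = 0 → hm w w₀ = 0 := by
      intro w hw
      have hsym : ∀ w, hm w v = 0 → hm w w₀ = hm w₀ w := fun w hw => by
        obtain ⟨c, h⟩ := exists_val C hv.2 hw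
        have e := congrArg (fun M => M *ᵥ y) (hcomm h)
        rw [hz₀, EM_comp C h₀ h, EM_comp C h h₀] at e
        simp only [EM_apply, hy, one_smul, mul_one, add_comm w w₀, add_right_inj] at e
        linear_combination -(smul_left_injective F hv.1 e)
      obtain ⟨a, ha⟩ := exists_not_fixed C
      have h1 := hsym _ (show hm (a • w) v = 0 by rw [smul_left, hw, mul_zero])
      rw [smul_left, smul_right, ← hsym w hw] at h1
      exact (mul_eq_zero.1 (show (a - a ^ q) * hm w w₀ = 0 by linear_combination h1)).resolve_left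
        (sub_ne_zero.2 (Ne.symm ha))
    have hw₀ : w₀ = hm y w₀ ^ q • v := sub_eq_zero.1 (eq_zero_of_orth C fun x => by
      have := horth (x - hm x v • y) (by rw [sub_left, smul_left, hy, mul_one, sub_self])
      rw [sub_left, smul_left] at this
      rw [sub_right C, smul_right, pow_q_q C]
      linear_combination this)
    refine ⟨c₀ + hm y w₀ ^ q - hm y w₀, ?_, ?_⟩
    · rw [sub_pow_q C, add_pow_q C, pow_q_q C]
      have := h₀.2.2
      rw [hw₀, smul_left, smul_right, hv.2] at this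
      linear_combination this
    · rw [QuotientGroup.mk'_apply, ← cls_mat, hz₀]
      congr 1
      refine mat_ext fun x => ?_
      rw [EM_apply, EM_apply, zero_right C]
      conv_lhs => rw [hw₀]
      rw [smul_right, pow_q_q C]
      module
  · rintro _ ⟨c, hc, rfl⟩
    have h := val_zero C hv.2 hc
    rw [cls_EM C h]
    refine ⟨Subgroup.mem_map_of_mem _ (hQ (el_mem_rad C h)), ?_⟩
    rintro _ ⟨g, hg, rfl⟩
    rw [QuotientGroup.mk'_apply, ← QuotientGroup.mk_mul, ← QuotientGroup.mk_mul]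
    congr 1
    refine mat_inj ?_
    rw [mat_mul, mat_mul, mat_el, conj_EM C, mulVec_zero, mem_stab.1 (hR hg)]

/-- The Sylow subgroups of the quotient. -/
theorem sylow_form (S : Sylow p (Cfsg.PSU n F q)) :
    ∃ (v : Fin n → F) (R : Sylow p (Cfsg.SU n F q)), Iso q v ∧ (R : Subgroup (Cfsg.SU n F q)) ≤ stab q v ∧
      (R : Subgroup (Cfsg.SU n F q)).map (QuotientGroup.mk' (Subgroup.center (Cfsg.SU n F q))) = S := by
  obtain ⟨R, rfl⟩ := Sylow.mapSurjective_surjective
    (QuotientGroup.mk'_surjective (Subgroup.center (Cfsg.SU n F q))) p S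
  obtain ⟨v, hv, h⟩ := exists_iso_fixed C (p := p) R.isPGroup'
  exact ⟨v, R, hv, h, rfl⟩

omit C in
/-- The radical in the quotient. -/
def QP (q : ℕ) (v : Fin n → F) : Set (Cfsg.PSU n F q) :=
  {x | ∃ w c, Val q v w c ∧ x = cls q (EM q v w c)}

/-- The radical is the intersection of the Sylow subgroups with the given centre. -/
theorem QP_char {v : Fin n → F} (hv : Iso q v) (x : Cfsg.PSU n F q) :
    x ∈ QP q v ↔ ∀ S : Sylow p (Cfsg.PSU n F q), zset (S : Subgroup (Cfsg.PSU n F q)) = T q v → x ∈ S := by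
  constructor
  · rintro ⟨w, c, h, rfl⟩ S hS
    obtain ⟨u, R, hu, hR, hRS⟩ := sylow_form C S
    rw [← hRS, zset_map C hu R hR, T_eq_iff C hu hv] at hS
    rw [stab_par hS] at hR
    show _ ∈ (S : Subgroup (Cfsg.PSU n F q))
    rw [← hRS, cls_EM C h]
    exact Subgroup.mem_map_of_mem _ (rad_le_sylow C hv.2 R hR (el_mem_rad C h))
  intro h
  obtain ⟨P, rfl⟩ := exists_frame C hv
  have hsur := QuotientGroup.mk'_surjective (Subgroup.center (Cfsg.SU n F q))
  have hin : ∀ R : Sylow p (Cfsg.SU n F q), (R : Subgroup (Cfsg.SU n F q)) ≤ stab q P.e →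
      ∃ r ∈ (R : Subgroup (Cfsg.SU n F q)), x = QuotientGroup.mk r := fun R hR => by
    obtain ⟨r, hr, e⟩ := h (R.mapSurjective hsur) (zset_map C hv R hR)
    exact ⟨r, hr, e.symm⟩
  obtain ⟨R₀, hR₀⟩ := exists_sylow_fix C (p := p) hv
  obtain ⟨s, hs₀, rfl⟩ := hin R₀ hR₀
  have hse : mat s *ᵥ P.e = P.e := hR₀ hs₀
  have hsin : ∀ R : Sylow p (Cfsg.SU n F q), (R : Subgroup (Cfsg.SU n F q)) ≤ stab q P.e → s ∈ (R : Subgroup (Cfsg.SU n F q)) := by
    intro R hR
    obtain ⟨r, hr, e⟩ := hin R hR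
    obtain ⟨a, ha⟩ := (mk_eq_iff C).1 e
    have h1 := congrArg (fun M => M *ᵥ P.e) ha
    have hre : mat r *ᵥ P.e = P.e := hR hr
    simp only [smul_mulVec, hse, hre] at h1
    rw [show a = 1 from smul_left_injective F P.e_iso.1 (show a • P.e = (1 : F) • P.e by rw [one_smul, ← h1]),
      one_smul] at ha
    exact mat_inj ha ▸ hr
  -- the action of the stabiliser of `e` on the complement
  let W : Submodule F (Fin n → F) :=
    { carrier := {x | P.InW x}
      zero_mem' := ⟨zero_left _, zero_left _⟩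
      add_mem' := fun {x y} hx hy => ⟨by rw [add_left, hx.1, hy.1, add_zero], by rw [add_left, hx.2, hy.2, add_zero]⟩
      smul_mem' := fun a x hx => ⟨by rw [smul_left, hx.1, mul_zero], by rw [smul_left, hx.2, mul_zero]⟩ }
  have hWb : W ≠ ⊥ := by
    obtain ⟨x, hx, hxe, hxf⟩ := exists_orth_two C P.e P.f
    exact fun hb => hx ((Submodule.mem_bot F).1 (hb ▸ (show x ∈ W from ⟨hxe, hxf⟩)))
  have hfixW : ∀ R : Sylow p (Cfsg.SU n F q), (R : Subgroup (Cfsg.SU n F q)) ≤ stab q P.e →
      ∃ u, P.InW u ∧ u ≠ 0 ∧ ∀ g ∈ (R : Subgroup (Cfsg.SU n F q)), P.pr (mat g *ᵥ u) = u := by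
    intro R hR
    obtain ⟨u, hu, hu0, hfix⟩ := exists_fixed C (p := p) R.isPGroup' W hWb
      (fun g x => P.pr (mat (g : Cfsg.SU n F q) *ᵥ x)) (fun g x _ => P.pr_mem _)
      (fun x hx => by simp [mat_one, P.pr_of_mem (show P.InW x from hx)])
      (fun g g' x hx => by
        have hge : mat (g : Cfsg.SU n F q) *ᵥ P.e = P.e := hR g.2
        have hge' : mat (g' : Cfsg.SU n F q) *ᵥ P.e = P.e := hR g'.2
        have h0 : hm (mat (g' : Cfsg.SU n F q) *ᵥ x) P.e = 0 := by
          rw [show hm (mat (g' : Cfsg.SU n F q) *ᵥ x) P.e =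
            hm (mat (g' : Cfsg.SU n F q) *ᵥ x) (mat (g' : Cfsg.SU n F q) *ᵥ P.e) by rw [hge'], mat_pres]
          exact hx.1
        have hp : mat (g' : Cfsg.SU n F q) *ᵥ x = hm (mat (g' : Cfsg.SU n F q) *ᵥ x) P.f • P.e +
            P.pr (mat (g' : Cfsg.SU n F q) *ᵥ x) := by
          conv_lhs => rw [P.decomp (mat (g' : Cfsg.SU n F q) *ᵥ x), h0, zero_smul, add_zero]
        show P.pr _ = P.pr _
        rw [Subgroup.coe_mul, mat_mul, ← mulVec_mulVec]
        conv_lhs => rw [hp, mulVec_add, mulVec_smul, hge, P.pr_add, P.pr_smul]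
        rw [show P.pr P.e = 0 by simp [Frame.pr, P.hef, P.hee], smul_zero, zero_add])
      (fun g => by simp [Frame.pr, zero_left])
    exact ⟨u, hu, hu0, fun g hg => hfix ⟨g, hg⟩⟩
  have hiso : ∀ u, P.InW u → Iso q u → P.pr (mat s *ᵥ u) = u := by
    intro u huW hu
    let G : Subgroup (Cfsg.SU n F q) := radSub C hu.2 ⊓ stab q P.e ⊓ stab q P.f
    have hG : IsPGroup p G := (rad_pGroup C hu.2).to_le (inf_le_left.trans inf_le_left)
    have hGe : G ≤ stab q P.e := inf_le_left.trans inf_le_right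
    obtain ⟨R, hR⟩ := ((rad_pGroup C P.hee).to_sup_of_normal_left' hG
      (hGe.trans (stab_le_normalizer C P.hee))).exists_le_sylow (p := p)
    obtain ⟨v₁, hv₁, h₁⟩ := exists_iso_fixed C (p := p) R.isPGroup'
    have hRe : (R : Subgroup (Cfsg.SU n F q)) ≤ stab q P.e := by
      rw [stab_par (par_of_rad_fix C P.hee P.e_iso.1 hv₁.1 ((le_sup_left.trans hR).trans h₁))]
      exact h₁
    obtain ⟨u₁, hu₁W, hu₁0, hfix⟩ := hfixW R hRe
    have hel : ∀ {w : Fin n → F} {c : F} (hval : Val q u w c), P.InW w →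
        EM q u w c *ᵥ u₁ = u₁ := by
      intro w c hval hwW
      have hwe := orth_symm C hwW.1
      have hwf := orth_symm C hwW.2
      have hue := orth_symm C huW.1
      have huf := orth_symm C huW.2
      have hmem : el C hval ∈ G := by
        refine ⟨⟨el_mem_rad C hval, ?_⟩, ?_⟩ <;>
          simp [mem_stab, mat_el, EM_apply, hwe, hwf, hue, huf]
      have := hfix _ ((le_sup_right.trans hR) hmem)
      rwa [mat_el, P.pr_of_mem ?_] at this
      rw [EM_apply]
      exact W.add_mem (W.add_mem hu₁W (W.smul_mem _ hwW)) (W.smul_mem _ huW)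
    obtain ⟨c, hc0, hc⟩ := exists_skew C
    have h0 : hm u₁ u = 0 := by
      have := hel (val_zero C hu.2 hc) W.zero_mem
      rw [EM_apply, zero_right C, smul_zero, add_zero, sub_zero, add_eq_left, smul_eq_zero] at this
      exact (mul_eq_zero.1 (this.resolve_right hu.1)).resolve_left hc0
    have hw : ∀ w, P.InW w → hm w u = 0 → hm w u₁ = 0 := fun w hwW hwu => by
      obtain ⟨d, hd⟩ := exists_val C hu.2 hwu
      have := hel hd hwW
      rw [EM_apply, h0, zero_smul, add_zero, add_eq_left, smul_eq_zero] at this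
      exact orth_symm C (by linear_combination -(this.resolve_right hu.1))
    obtain ⟨y₀, hy₀⟩ := exists_dual C hu.1
    have hy : hm (P.pr y₀) u = 1 := by rw [P.hm_pr C huW, hy₀]
    have hu₁ : u₁ = hm (P.pr y₀) u₁ ^ q • u := sub_eq_zero.1 (eq_zero_of_orth C fun x => by
      have := hw (P.pr x - hm x u • P.pr y₀)
        (W.sub_mem (P.pr_mem x) (W.smul_mem _ (P.pr_mem y₀)))
        (by rw [sub_left, smul_left, P.hm_pr C huW, hy, mul_one, sub_self])
      rw [sub_left, smul_left, P.hm_pr C hu₁W] at this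
      rw [sub_right C, smul_right, pow_q_q C]
      linear_combination this)
    obtain ⟨a, ha, e⟩ := par_of_smul hu₁0 hu₁
    have := hfix s (hsin R hRe)
    rw [e, mulVec_smul, P.pr_smul] at this
    exact smul_right_injective _ ha this
  have hall : ∀ v₀, P.InW v₀ → P.pr (mat s *ᵥ v₀) = v₀ := by
    intro v₀ hv₀
    by_cases h00 : v₀ = 0
    · simp [h00, Frame.pr, zero_left]
    by_cases hd : hm v₀ v₀ = 0
    · exact hiso v₀ hv₀ ⟨h00, hd⟩
    by_cases hex : ∃ v', P.InW v' ∧ v' ≠ 0 ∧ hm v' v₀ = 0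
    · obtain ⟨v', hv', hv'0, hv'v⟩ := hex
      by_cases hd' : hm v' v' = 0
      · obtain ⟨y₀, hy₀⟩ := exists_dual C hv'0
        obtain ⟨y, hyW, hyv', hyv⟩ : ∃ y, P.InW y ∧ hm y v' = 1 ∧ hm y v₀ = 0 :=
          ⟨P.pr y₀ - (hm (P.pr y₀) v₀ / hm v₀ v₀) • v₀, W.sub_mem (P.pr_mem _) (W.smul_mem _ hv₀),
            by rw [sub_left, smul_left, P.hm_pr C hv', hy₀, orth_symm C hv'v, mul_zero, sub_zero],
            by rw [sub_left, smul_left, div_mul_cancel₀ _ hd, sub_self]⟩
        obtain ⟨t, ht⟩ := exists_trace C (c := -(hm v₀ v₀ + hm y y))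
          (by rw [neg_pow_q C, add_pow_q C, self_fixed C, self_fixed C])
        obtain ⟨t', ht'⟩ := exists_trace C (c := -hm y y) (by rw [neg_pow_q C, self_fixed C])
        have i1 : Iso q (v₀ + y + t • v') := ⟨fun e => hd (by
            have := congrArg (fun x => hm x v₀) e
            simpa [add_left, smul_left, hyv, hv'v, zero_left] using this), by
          simp only [add_left, add_right C, smul_left, smul_right, hyv, orth_symm C hyv, hyv',
            one_symm C hyv', hv'v, orth_symm C hv'v, hd']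
          linear_combination ht⟩
        have i2 : Iso q (y + t' • v') := ⟨fun e => one_ne_zero (α := F) (by
            have := congrArg (fun x => hm x v') e
            simpa [add_left, smul_left, hyv', hd', zero_left] using this), by
          simp only [add_left, add_right C, smul_left, smul_right, hyv', one_symm C hyv', hd']
          linear_combination ht'⟩
        have e1 := hiso _ (W.add_mem (W.add_mem hv₀ hyW) (W.smul_mem _ hv')) i1
        have e2 := hiso _ (W.add_mem hyW (W.smul_mem _ hv')) i2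
        have e3 := hiso v' hv' ⟨hv'0, hd'⟩
        simp only [mulVec_add, mulVec_smul, P.pr_add, P.pr_smul, e3] at e1 e2
        have e4 : P.pr (mat s *ᵥ y) = y := add_right_cancel e2
        rw [e4] at e1
        exact add_right_cancel (add_right_cancel e1)
      · obtain ⟨l, hl⟩ := Classical.Unitary.exists_scale C.hF (a := -hm v₀ v₀ / hm v' v')
          (div_ne_zero (neg_ne_zero.2 hd) hd') (by rw [div_pow, neg_pow_q C, self_fixed C, self_fixed C])
        obtain ⟨a, ha⟩ := exists_not_fixed C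
        have ha0 : a ≠ 0 := fun e => ha (by rw [e, zero_pow_q C])
        have hl0 : l ≠ 0 := fun e => by
          rw [e, zero_mul, eq_comm, div_eq_zero_iff] at hl
          simp [hd, hd'] at hl
        have hN : (a ^ q / a * l) * (a ^ q / a * l) ^ q = l * l ^ q := by
          rw [mul_pow, div_pow, pow_q_q C]
          field_simp
        have key : ∀ m : F, m * m ^ q = l * l ^ q → Iso q (v₀ + m • v') := fun m hm' =>
          ⟨fun e => hd (by
            have := congrArg (fun x => hm x v₀) e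
            simpa [add_left, smul_left, hv'v, zero_left] using this), by
          simp only [add_left, add_right C, smul_left, smul_right, hv'v, orth_symm C hv'v]
          rw [show hm v₀ v₀ = -(l * l ^ q) * hm v' v' by rw [hl]; field_simp]
          linear_combination (hm v' v') * hm'⟩
        have e1 := hiso _ (W.add_mem hv₀ (W.smul_mem _ hv')) (key l rfl)
        have e2 := hiso _ (W.add_mem hv₀ (W.smul_mem _ hv')) (key _ hN)
        simp only [mulVec_add, mulVec_smul, P.pr_add, P.pr_smul] at e1 e2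
        have e3 : (l - a ^ q / a * l) • (P.pr (mat s *ᵥ v')) = (l - a ^ q / a * l) • v' := by
          linear_combination (norm := module) e1 - e2
        have hne : l - a ^ q / a * l ≠ 0 := by
          refine fun e => ha ?_
          have h' : a ^ q / a = 1 := mul_right_cancel₀ hl0 (by rw [one_mul]; exact (sub_eq_zero.1 e).symm)
          exact (div_eq_one_iff_eq ha0).1 h'
        rw [smul_right_injective _ hne e3] at e1
        exact add_right_cancel e1
    · push Not at hex
      obtain ⟨u, huW, hu0, hfix⟩ := hfixW R₀ hR₀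
      have hu : u = (hm u v₀ / hm v₀ v₀) • v₀ := by
        by_contra hne
        exact hex (u - (hm u v₀ / hm v₀ v₀) • v₀) (W.sub_mem huW (W.smul_mem _ hv₀)) (sub_ne_zero.2 hne)
          (by rw [sub_left, smul_left, div_mul_cancel₀ _ hd, sub_self])
      obtain ⟨a, ha, e⟩ := par_of_smul hu0 hu
      have := hfix s hs₀
      rw [e, mulVec_smul, P.pr_smul] at this
      exact smul_right_injective _ ha this
  obtain ⟨w₀, c₀, h₀, hs'⟩ := mem_rad_of C P.hee P.e_iso.1 hse fun w hw => by
    have hsw : hm (mat s *ᵥ w) P.e = 0 := by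
      rw [show hm (mat s *ᵥ w) P.e = hm (mat s *ᵥ w) (mat s *ᵥ P.e) by rw [hse], mat_pres, hw]
    refine ⟨hm (mat s *ᵥ w) P.f - hm w P.f, ?_⟩
    have e1 := P.decomp (mat s *ᵥ w)
    have e2 := P.decomp w
    rw [hsw, zero_smul, add_zero] at e1
    rw [hw, zero_smul, add_zero] at e2
    have e3 : P.pr (mat s *ᵥ w) = P.pr w := by
      conv_lhs => rw [e2, mulVec_add, mulVec_smul, hse, P.pr_add, P.pr_smul, hall _ (P.pr_mem w)]
      rw [show P.pr P.e = 0 by simp [Frame.pr, P.hef, P.hee], smul_zero, zero_add]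
    linear_combination (norm := module) e1 + e3 - e2
  exact ⟨w₀, c₀, h₀, by rw [← hs', cls_mat]⟩

end Cfsg.Agent.PSUAut
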