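import Cfsg.Agent.Lib.Classical.UnitaryChart
import Cfsg.Agent.Lib.Classical.UnitarySemi
import Cfsg.Agent.Lib.Classical.UnitaryAut
import Cfsg.Agent.Lib.Classical.MaxSUBase
import Cfsg.Agent.S0781

/-!
Simplicity of the projective special unitary groups.
-/

set_option autoImplicit false
set_option linter.unusedSectionVars false
set_option maxHeartbeats 800000

open Matrix Cfsg.Agent.PSUAut
open scoped commutatorElement

namespace Cfsg.Agent.Classical.UnitarySimple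

variable {F : Type*} [Field F] [Fintype F] {n q : ℕ} (C : Ctx F n q)

local notation "hm" => Cfsg.hermForm n F q

include C

theorem hm_ne_symm {u v : Fin n → F} (h : hm u v ≠ 0) : hm v u ≠ 0 := fun e => h (orth_symm C e)

theorem par_eq {v w : Fin n → F} {d : F} (hd : d ≠ 0) (h : w = d • v) : Par v w := ⟨d, hd, h⟩

theorem exists_pick {u v : Fin n → F} (hu : u ≠ 0) (hv : v ≠ 0) (h : ¬ Par u v) (α β : F) :
    ∃ x, hm x u = α ∧ hm x v = β := by
  obtain ⟨x₁, hx₁⟩ := exists_dual C hu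
  obtain ⟨x₂, hx₂, hx₂'⟩ : ∃ x, hm x u = 0 ∧ hm x v ≠ 0 := by
    by_contra hcon
    push Not at hcon
    have hz : v - (hm x₁ v) ^ q • u = 0 := eq_zero_of_orth C fun x => by
      have h1 := hcon (x - hm x u • x₁) (by rw [sub_left, smul_left, hx₁]; ring)
      rw [sub_left, smul_left] at h1
      rw [sub_right C, smul_right, pow_q_q C]
      linear_combination h1
    exact h (par_of_smul hv (sub_eq_zero.1 hz))
  refine ⟨α • x₁ + ((β - α * hm x₁ v) / hm x₂ v) • x₂, ?_, ?_⟩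
  · rw [add_left, smul_left, smul_left, hx₁, hx₂]; ring
  · rw [add_left, smul_left, smul_left, div_mul_cancel₀ _ hx₂']; ring

/-- An isotropic vector with prescribed products with two orthogonal isotropic vectors. -/
theorem exists_iso_pick {u v : Fin n → F} (hu : Iso q u) (hv : v ≠ 0) (huv : hm u v = 0) (h : ¬ Par u v) (β : F) :
    ∃ z, Iso q z ∧ hm z u = 1 ∧ hm z v = β := by
  obtain ⟨x, hx, hx'⟩ := exists_pick C hu.1 hv h 1 β
  obtain ⟨t, ht⟩ := exists_trace C (c := -hm x x) (by rw [neg_pow_q C, self_fixed C])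
  have h1 : hm (x + t • u) u = 1 := by rw [add_left, smul_left, hu.2, hx]; ring
  refine ⟨x + t • u, ⟨fun e => ?_, ?_⟩, h1, by rw [add_left, smul_left, huv, hx']; ring⟩
  · rw [e, zero_left] at h1; exact zero_ne_one h1
  · simp only [add_left, add_right C, smul_left, smul_right, hu.2, hx, one_symm C hx]
    linear_combination ht

theorem mk_frame {v z : Fin n → F} (hv : Iso q v) (hz : Iso q z) (h : hm z v ≠ 0) :
    ∃ P : Frame F n q, P.e = v ∧ P.f = (hm z v)⁻¹ • z := by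
  have h1 : hm ((hm z v)⁻¹ • z) v = 1 := by rw [smul_left, inv_mul_cancel₀ h]
  exact ⟨⟨v, (hm z v)⁻¹ • z, hv.2, by rw [smul_left, smul_right, hz.2]; ring, one_symm C h1, h1⟩, rfl, rfl⟩

/-- The stabiliser of a point is transitive on the points not orthogonal to it. -/
theorem exists_move {v z z' : Fin n → F} (hv : Iso q v) (hz : Iso q z) (hz' : Iso q z') (h : hm z v ≠ 0) (h' : hm z' v ≠ 0) :
    ∃ g : Cfsg.SU n F q, mat g *ᵥ v = v ∧ Par z' (mat g *ᵥ z) := by
  obtain ⟨P, he, hf⟩ := mk_frame C hv hz h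
  subst he
  set y := (hm z' P.e)⁻¹ • z' with hy
  have hye : hm y P.e = 1 := by rw [hy, smul_left, inv_mul_cancel₀ h']
  have hyy : hm y y = 0 := by rw [hy, smul_left, smul_right, hz'.2]; ring
  have hA : Ad P (P.pr y) (hm y P.f) := by
    refine ⟨P.pr_mem y, ?_⟩
    have e := P.decomp y
    have h1 : hm y y = hm y P.f + hm y P.f ^ q + hm (P.pr y) (P.pr y) := by
      conv_lhs => rw [e]
      simp only [add_left, add_right C, smul_left, smul_right, P.hee, P.hff, P.hef, P.hfe, hye,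
        (P.pr_mem y).1, (P.pr_mem y).2, orth_symm C (P.pr_mem y).1, orth_symm C (P.pr_mem y).2, one_pow]
      ring
    rw [hyy] at h1
    linear_combination -h1
  refine ⟨el C (Ad.val C hA), ?_, ?_⟩
  · rw [mat_el, EM_apply, P.hee, orth_symm C hA.1.1]; module
  · have hpt : pt P (P.pr y) (hm y P.f) = y := by
      conv_rhs => rw [P.decomp y, hye, one_smul]
      rfl
    have hzf : z = hm z P.e • P.f := by rw [hf, smul_inv_smul₀ h]
    refine ⟨hm z P.e * (hm z' P.e)⁻¹, mul_ne_zero h (inv_ne_zero h'), ?_⟩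
    rw [mat_el]
    conv_lhs => rw [hzf, mulVec_smul, EM_f C P hA, hpt, hy, smul_smul]

/-- Two points have a common non-orthogonal point. -/
theorem exists_common {u v : Fin n → F} (hu : Iso q u) (hv : Iso q v) :
    ∃ y, Iso q y ∧ hm y u ≠ 0 ∧ hm y v ≠ 0 := by
  by_cases hp : Par u v
  · obtain ⟨P, hP⟩ := exists_frame C hu
    obtain ⟨c, hc, rfl⟩ := hp
    subst hP
    exact ⟨P.f, P.f_iso, by rw [P.hfe]; exact one_ne_zero, by rw [smul_right, P.hfe, mul_one]; exact pow_ne_zero _ hc⟩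
  by_cases h : hm v u = 0
  · obtain ⟨z, hz, hzu, hzv⟩ := exists_iso_pick C hu hv.1 (orth_symm C h) hp 1
    exact ⟨z, hz, by rw [hzu]; exact one_ne_zero, by rw [hzv]; exact one_ne_zero⟩
  · obtain ⟨P, he, hf⟩ := mk_frame C hu hv h
    subst he
    obtain ⟨w, hw, hww⟩ := exists_aniso C P
    obtain ⟨a, ha⟩ := exists_ad C hw
    have ha0 : a ≠ 0 := fun e => by
      have h1 := ha.2
      rw [e, zero_pow_q C, add_zero, eq_comm, neg_eq_zero] at h1
      exact hww h1
    refine ⟨pt P w a, ⟨fun e => ?_, ?_⟩, by rw [pt_e C P ha]; exact one_ne_zero, fun e => ?_⟩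
    · have := pt_e C P ha
      rw [e, zero_left] at this; exact zero_ne_one this
    · rw [← EM_f C P ha, EM_preserves C (Ad.val C ha), P.hff]
    · have h2 := pt_f C P ha
      rw [hf, smul_right, e, mul_zero] at h2
      exact ha0 h2.symm

theorem pair_trans {v z u y : Fin n → F} (hv : Iso q v) (hz : Iso q z) (hu : Iso q u) (hy : Iso q y)
    (h : hm z v ≠ 0) (h' : hm y u ≠ 0) : ∃ g : Cfsg.SU n F q, Par u (mat g *ᵥ v) ∧ Par y (mat g *ᵥ z) := by
  obtain ⟨o, ho, hov, hou⟩ := exists_common C hv hu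
  obtain ⟨g₁, -, hg₁⟩ := exists_move C ho hv hu (hm_ne_symm C hov) (hm_ne_symm C hou)
  obtain ⟨c, hc, hgc⟩ := hg₁
  have hiso : Iso q (mat g₁ *ᵥ z) := ⟨mat_ne_zero g₁ hz.1, by rw [mat_pres, hz.2]⟩
  have hne : hm (mat g₁ *ᵥ z) u ≠ 0 := fun e => h (by rw [← mat_pres g₁, hgc, smul_right, e, mul_zero])
  obtain ⟨g₂, hg₂u, d, hd, hg₂z⟩ := exists_move C hu hiso hy hne h'
  refine ⟨g₂ * g₁, ⟨c, hc, ?_⟩, ⟨d, hd, ?_⟩⟩
  · rw [mat_mul, ← mulVec_mulVec, hgc, mulVec_smul, hg₂u]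
  · rw [mat_mul, ← mulVec_mulVec, hg₂z]

/-- The relation given by a normal subgroup. -/
def Rel (N : Subgroup (Cfsg.SU n F q)) (u v : Fin n → F) : Prop := ∃ s ∈ N, Par v (mat s *ᵥ u)

theorem rel_trans {N : Subgroup (Cfsg.SU n F q)} {u v w : Fin n → F} (h : Rel N u v) (h' : Rel N v w) :
    Rel N u w := by
  obtain ⟨s, hs, a, ha, e⟩ := h
  obtain ⟨t, ht, b, hb, e'⟩ := h'
  exact ⟨t * s, mul_mem ht hs, a * b, mul_ne_zero ha hb, by rw [mat_mul, ← mulVec_mulVec, e, mulVec_smul, e', smul_smul]⟩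

theorem rel_symm {N : Subgroup (Cfsg.SU n F q)} {u v : Fin n → F} (h : Rel N u v) : Rel N v u := by
  obtain ⟨s, hs, a, ha, e⟩ := h
  refine ⟨s⁻¹, inv_mem hs, a⁻¹, inv_ne_zero ha, ?_⟩
  rw [eq_inv_smul_iff₀ ha, ← mulVec_smul, ← e, mulVec_mulVec, mat_inv_mul, one_mulVec]

theorem rel_par {N : Subgroup (Cfsg.SU n F q)} {u v : Fin n → F} (h : Par v u) : Rel N u v :=
  ⟨1, one_mem N, by rw [mat_one, one_mulVec]; exact h⟩

theorem rel_map {N : Subgroup (Cfsg.SU n F q)} [N.Normal] (g : Cfsg.SU n F q) {u v : Fin n → F} (h : Rel N u v) :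
    Rel N (mat g *ᵥ u) (mat g *ᵥ v) := by
  obtain ⟨s, hs, a, ha, e⟩ := h
  refine ⟨g * s * g⁻¹, Subgroup.Normal.conj_mem inferInstance s hs g, a, ha, ?_⟩
  rw [mulVec_mulVec, ← mat_mul, inv_mul_cancel_right, mat_mul, ← mulVec_mulVec, e, mulVec_smul]

theorem rel_all {N : Subgroup (Cfsg.SU n F q)} [N.Normal] {v : Fin n → F} (hv : Iso q v) {s : Cfsg.SU n F q}
    (hs : s ∈ N) (hmove : ¬ Par v (mat s *ᵥ v)) {u z : Fin n → F} (hu : Iso q u) (hz : Iso q z) : Rel N u z := by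
  have hw : Iso q (mat s *ᵥ v) := ⟨mat_ne_zero s hv.1, by rw [mat_pres, hv.2]⟩
  have hvw : Rel N v (mat s *ᵥ v) := ⟨s, hs, Par.refl _⟩
  obtain ⟨a, b, ha, hb, hab, hr⟩ : ∃ a b, Iso q a ∧ Iso q b ∧ hm b a ≠ 0 ∧ Rel N a b := by
    by_cases h : hm (mat s *ᵥ v) v = 0
    swap
    · exact ⟨v, _, hv, hw, h, hvw⟩
    obtain ⟨y, hy, hyv, hyw⟩ := exists_iso_pick C hv hw.1 (orth_symm C h) hmove 0
    obtain ⟨c, hc0, hc⟩ := exists_skew C
    let g := el C (val_zero C hy.2 hc)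
    have hgw : mat g *ᵥ (mat s *ᵥ v) = mat s *ᵥ v := by
      rw [mat_el, EM_apply, orth_symm C hyw, zero_right C]; module
    have hgv : mat g *ᵥ v = v + c • y := by
      rw [mat_el, EM_apply, one_symm C hyv, zero_right C]; module
    refine ⟨v, mat g *ᵥ v, hv, ⟨mat_ne_zero g hv.1, by rw [mat_pres, hv.2]⟩, ?_, ?_⟩
    · rw [hgv, add_left, smul_left, hv.2, hyv, zero_add, mul_one]; exact hc0
    · have h2 := rel_symm C (rel_map C g hvw)
      rw [hgw] at h2
      exact rel_trans C hvw h2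
  have key : ∀ {u z : Fin n → F}, Iso q u → Iso q z → hm z u ≠ 0 → Rel N u z := by
    intro u z hu hz h
    obtain ⟨g, hgu, hgz⟩ := pair_trans C ha hb hu hz hab h
    exact rel_trans C (rel_trans C (rel_par C hgu.symm) (rel_map C g hr)) (rel_par C hgz)
  obtain ⟨o, ho, hou, hoz⟩ := exists_common C hu hz
  exact rel_trans C (key hu ho hou) (rel_symm C (key hz ho hoz))

omit C in
theorem card_fixed_gt {q : ℕ} (hF : Fintype.card F = q ^ 2) (hq : 3 ≤ q) : ∃ a : F, a ^ q = a ∧ a ≠ 0 ∧ a ≠ 1 := by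
  by_contra h
  push Not at h
  have h1 := Unitary.card_fixed_nonzero hF
  haveI : Subsingleton {a : F // a ≠ 0 ∧ a ^ q = a} := ⟨fun a b => Subtype.ext ((h a a.2.2 a.2.1).trans (h b b.2.2 b.2.1).symm)⟩
  have := Finite.card_le_one_iff_subsingleton.2 (inferInstance : Subsingleton {a : F // a ≠ 0 ∧ a ^ q = a})
  omega

/-- Generation by transvections. -/
theorem le_of_el (hn : 4 ≤ n ∨ (n = 3 ∧ 3 ≤ q)) (K : Subgroup (Cfsg.SU n F q))
    (hK : ∀ (w : Fin n → F) (c : F), w ≠ 0 → ∀ (hw : hm w w = 0) (hc : c + c ^ q = 0), el C (val_zero C hw hc) ∈ K) : K = ⊤ := by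
  obtain ⟨σ, hf⟩ := MaxSU.hermForm_unitary (n := n) C.hF
  have hσ : ∀ a, σ a = a ^ q := fun a => by
    obtain ⟨y, hy⟩ := exists_dual C (v := Pi.single (⟨0, by omega⟩ : Fin n) (1 : F)) (by simp)
    have e := hf.herm (a • y) (Pi.single ⟨0, by omega⟩ 1)
    simp only [smul_left, smul_right, hy, one_symm C hy, mul_one] at e
    conv_lhs => rw [e]
    exact hf.involutive _
  let ι : Cfsg.SU n F q →* GL (Fin n) F := (SpecialLinearGroup.toGL).comp (Cfsg.SU n F q).subtype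
  have hι : Function.Injective ι := fun s t e => mat_inj (congrArg Units.val e)
  have hle : HermGen.tgrp hf ≤ K.map ι := (Subgroup.closure_le _).2 (by
    rintro g ⟨w, a, h, hw, ha, rfl⟩
    rcases eq_or_ne w 0 with rfl | hw0
    · refine ⟨1, one_mem K, ?_⟩
      rw [map_one]
      refine (Units.ext (mat_ext fun x => ?_)).symm
      rw [transGL_apply, smul_zero, add_zero, Units.val_one, one_mulVec]
    · have hc : a + a ^ q = 0 := by rw [← hσ, ha, add_neg_cancel]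
      refine ⟨_, hK w a hw0 hw hc, Units.ext (mat_ext fun x => ?_)⟩
      show EM q w 0 a *ᵥ x = _
      rw [EM_apply, transGL_apply, LinearMap.smul_apply, HermSep.fn_apply, zero_right C, smul_eq_mul]
      module)
  refine (Subgroup.eq_top_iff' K).2 fun s => ?_
  have hs : ι s ∈ HermGen.tgrp hf := HermGen.mem_tgrp_of_pres' hf (by
    rcases hn with hn | ⟨-, hq⟩
    · exact Or.inl (by simpa using hn)
    · refine Or.inr fun hall => ?_
      obtain ⟨a, ha, ha0, ha1⟩ := card_fixed_gt C.hF hq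
      exact (hall a (by rw [hσ, ha])).elim ha0 ha1) ⟨fun x y => mat_pres s x y, (s : SpecialLinearGroup (Fin n) F).2⟩
  obtain ⟨t, ht, hts⟩ := hle hs
  exact hι hts ▸ ht

theorem perfect (hn : 4 ≤ n ∨ (n = 3 ∧ 3 ≤ q)) : commutator (Cfsg.SU n F q) = ⊤ := by
  refine le_of_el C hn _ fun w c _ hw hc => ?_
  rw [commutator_eq_closure]
  refine Subgroup.subset_closure (Cfsg.Agent.S0781.result C.hF n hn _ w c hw ?_)
  refine mat_ext fun x => ?_
  show EM q w 0 c *ᵥ x = _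
  rw [EM_apply, zero_right C, Cfsg.unitaryTransvection, add_mulVec, one_mulVec, smul_mulVec, vecMulVec_mulVec,
    op_smul_eq_smul, show (fun j => w j ^ q) ⬝ᵥ x = hm x w from by simp [dotProduct, Cfsg.hermForm, mul_comm]]
  module

/-- The transvection group of an isotropic vector. -/
def tsub {v : Fin n → F} (hv : hm v v = 0) : Subgroup (Cfsg.SU n F q) where
  carrier := {s | ∃ c, c + c ^ q = 0 ∧ mat s = EM q v 0 c}
  one_mem' := ⟨0, by rw [zero_pow_q C, add_zero], by rw [mat_one, EM_one C]⟩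
  mul_mem' := by
    rintro a b ⟨c, hc, e⟩ ⟨d, hd, e'⟩
    refine ⟨c + d, by rw [add_pow_q C]; linear_combination hc + hd, ?_⟩
    rw [mat_mul, e, e', EM_comp C (val_zero C hv hc) (val_zero C hv hd), add_zero, zero_left, sub_zero]
  inv_mem' := by
    rintro a ⟨c, hc, e⟩
    refine ⟨-c, by rw [neg_pow_q C]; linear_combination -hc, ?_⟩
    have hd : -c + (-c) ^ q = 0 := by rw [neg_pow_q C]; linear_combination -hc
    have h1 : mat a * EM q v 0 (-c) = 1 := by
      rw [e, EM_comp C (val_zero C hv hc) (val_zero C hv hd), add_zero, zero_left, sub_zero, add_neg_cancel, EM_one C]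
    calc mat a⁻¹ = mat a⁻¹ * (mat a * EM q v 0 (-c)) := by rw [h1, mul_one]
      _ = _ := by rw [← mul_assoc, mat_inv_mul, one_mul]

theorem normal_eq_top (hn : 4 ≤ n ∨ (n = 3 ∧ 3 ≤ q)) (N : Subgroup (Cfsg.SU n F q)) [N.Normal]
    (hN : ¬ N ≤ Subgroup.center (Cfsg.SU n F q)) : N = ⊤ := by
  obtain ⟨s, hs, hsc⟩ := SetLike.not_le_iff_exists.1 hN
  obtain ⟨v, hv, hmove⟩ : ∃ v, Iso q v ∧ ¬ Par v (mat s *ᵥ v) := by
    by_contra h
    push Not at h
    exact hsc ((QuotientGroup.eq_one_iff s).1 (eq_one_of_stab C h))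
  set H := tsub C hv.2
  have hall : N ⊔ H = ⊤ := le_of_el C hn _ fun w c hw0 hw hc => by
    obtain ⟨t, ht, d, hd, e⟩ := rel_symm C (rel_all C hv hs hmove ⟨hw0, hw⟩ hv)
    -- `mat t *ᵥ v = d • w`
    have he : w = d⁻¹ • (mat t *ᵥ v) := by rw [e, inv_smul_smul₀ hd]
    set c' := d⁻¹ * d⁻¹ ^ q * c
    have hc' : c' + c' ^ q = 0 := by
      simp only [c', mul_pow, pow_q_q C]
      linear_combination (d⁻¹ * d⁻¹ ^ q) * hc
    have h0 := val_zero C hv.2 hc'
    have hh : el C h0 ∈ H := ⟨c', hc', mat_el C h0⟩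
    have h1 : el C (val_zero C hw hc) = t * el C h0 * t⁻¹ := by
      refine mat_inj ?_
      rw [mat_mul, mat_mul, mat_el, mat_el, conj_EM C, mulVec_zero, mul_assoc, mat_mul_inv, mul_one, ← EM_smul C, ← he]
    rw [h1]
    exact mul_mem (mul_mem (Subgroup.mem_sup_left ht) (Subgroup.mem_sup_right hh)) (inv_mem (Subgroup.mem_sup_left ht))
  refine top_le_iff.1 ((perfect C hn).ge.trans ?_)
  rw [commutator_eq_closure, Subgroup.closure_le]
  rintro _ ⟨x, y, rfl⟩
  have hx : ∀ x : Cfsg.SU n F q, ∃ b ∈ H, (QuotientGroup.mk x : Cfsg.SU n F q ⧸ N) = QuotientGroup.mk b := fun x => by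
    have hm' : x ∈ ((N ⊔ H : Subgroup (Cfsg.SU n F q)) : Set (Cfsg.SU n F q)) := by rw [hall]; trivial
    rw [Subgroup.normal_mul] at hm'
    obtain ⟨a, ha, b, hb, rfl⟩ := hm'
    exact ⟨b, hb, by rw [QuotientGroup.mk_mul, (QuotientGroup.eq_one_iff a).2 ha, one_mul]⟩
  obtain ⟨a, ⟨c, hc, hea⟩, hxa⟩ := hx x
  obtain ⟨b, ⟨d, hd, heb⟩, hyb⟩ := hx y
  have hab : a * b = b * a := mat_inj (by
    rw [mat_mul, mat_mul, hea, heb, EM_comp C (val_zero C hv.2 hc) (val_zero C hv.2 hd),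
      EM_comp C (val_zero C hv.2 hd) (val_zero C hv.2 hc), add_comm c d])
  refine (QuotientGroup.eq_one_iff _).1 ?_
  show (QuotientGroup.mk' N) ⁅x, y⁆ = 1
  rw [map_commutatorElement, QuotientGroup.mk'_apply, QuotientGroup.mk'_apply, hxa, hyb, commutatorElement_eq_one_iff_mul_comm,
    ← QuotientGroup.mk_mul, ← QuotientGroup.mk_mul, hab]

theorem isSimple (hn : 4 ≤ n ∨ (n = 3 ∧ 3 ≤ q)) : IsSimpleGroup (Cfsg.PSU n F q) := by
  haveI : Nontrivial (Cfsg.PSU n F q) := by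
    obtain ⟨e, he⟩ : ∃ e : Fin n → F, Iso q e := by
      obtain ⟨p, _⟩ := CharP.exists F
      haveI : Fact p.Prime := ⟨CharP.char_is_prime F p⟩
      obtain ⟨v, hv, -⟩ := exists_iso_fixed C (p := p) (R := (⊥ : Subgroup (Cfsg.SU n F q))) IsPGroup.of_bot
      exact ⟨v, hv⟩
    obtain ⟨c, hc0, hc⟩ := exists_skew C
    exact ⟨⟨_, _, fun h => hc0 (EM_inj_zero C he hc (by rw [zero_pow_q C, add_zero]) h)⟩⟩
  refine ⟨fun M hM => ?_⟩
  haveI := hM
  have hN : (M.comap (QuotientGroup.mk' (Subgroup.center (Cfsg.SU n F q)))).Normal := inferInstance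
  rw [← Subgroup.map_comap_eq_self_of_surjective (QuotientGroup.mk'_surjective _) M]
  by_cases hle : M.comap (QuotientGroup.mk' (Subgroup.center (Cfsg.SU n F q))) ≤ Subgroup.center (Cfsg.SU n F q)
  · exact Or.inl ((Subgroup.map_eq_bot_iff _).2 (by rw [QuotientGroup.ker_mk']; exact hle))
  · rw [normal_eq_top C hn _ hle]
    exact Or.inr (Subgroup.map_top_of_surjective _ (QuotientGroup.mk'_surjective _))

end Cfsg.Agent.Classical.UnitarySimple
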