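import Cfsg.Agent.Lib.Classical.Klein
import Cfsg.Agent.Lib.Classical.MinusFour
import Cfsg.Agent.Lib.Classical.UnitarySimple
import Cfsg.Agent.S0288
import Cfsg.Agent.S0294

/-!
# The exterior square of a four-dimensional unitary space
-/

set_option autoImplicit false
set_option linter.style.haveILetI false
set_option maxHeartbeats 1000000

open Cfsg Cfsg.Agent.Classical Module QuadraticMap

namespace Cfsg.Agent.Classical.KleinMinus

/-- The order of `PΩ⁻_{2m}(q)`, also for `m = 3`. -/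
theorem card_POmega_minus {F : Type*} [Field F] [Fintype F] (m : ℕ) (hm : 3 ≤ m) (a b : F)
    (hab : ∀ z₁ z₂ : F, z₁ ^ 2 + a * z₁ * z₂ + b * z₂ ^ 2 = 0 → z₁ = 0 ∧ z₂ = 0) :
    Nat.gcd 4 (Fintype.card F ^ m + 1) * Nat.card (Cfsg.POmega F (Cfsg.quadFormMinus (m - 1) F a b)) =
      Fintype.card F ^ (m * (m - 1)) * (Fintype.card F ^ m + 1) *
        ∏ i ∈ Finset.range (m - 1), (Fintype.card F ^ (2 * (i + 1)) - 1) := by
  classical
  have hO := Cfsg.Agent.S0288.result (F := F) rfl m (by omega) a b hab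
  have eQ : Cfsg.quadFormMinus (m - 1) F a b = ⇑(WittDec.QM (m - 1) a b) := funext fun v => (WittDec.QM_apply _ a b v).symm
  rw [eQ] at hO ⊢
  have hnd := WittDec.QM_nondeg (m - 1) a b hab
  have hn : 5 ≤ Fintype.card ((Fin (m - 1) ⊕ Fin (m - 1)) ⊕ Fin 2) := by simp; omega
  change Nat.gcd 4 _ * Nat.card (commutator (Refl.O (WittDec.QM (m - 1) a b)) ⧸ Subgroup.center _) = _
  have hq2 : 2 ≤ Fintype.card F := Fintype.one_lt_card
  by_cases h2 : (2 : F) = 0
  · have hch : ringChar F = 2 := CharP.ringChar_of_prime_eq_zero Nat.prime_two (by exact_mod_cast h2)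
    haveI : CharP F 2 := ringChar.of_eq hch
    have he := FiniteField.even_card_iff_char_two.1 hch
    have hg : Nat.gcd 4 (Fintype.card F ^ m + 1) = 1 := by
      have hem : Even (Fintype.card F ^ m) := (Nat.even_iff.2 he).pow_of_ne_zero (by omega)
      rw [Nat.gcd_rec]
      have := Nat.even_iff.1 hem
      rcases (by omega : (Fintype.card F ^ m + 1) % 4 = 1 ∨ (Fintype.card F ^ m + 1) % 4 = 3) with h | h <;> rw [h] <;> rfl
    have h := Refl.card_POmega_char_two (WittDec.QM (m - 1) a b) hnd hn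
    rw [hO] at h
    rw [hg, one_mul]
    linarith
  · have hodd : Odd (Fintype.card F) := Nat.odd_iff.2 (FiniteField.odd_card_of_char_ne_two (Refl.ringChar_ne_two h2))
    obtain ⟨hsq, hns⟩ := Refl.card_POmega_even_dim (WittDec.QM (m - 1) a b) hnd hn h2 (by simp [parity_simps])
    have hd := Disc.isSquare_disc_QM h2 (m - 1) a b hab
    rw [Nat.sub_add_cancel (by omega : 1 ≤ m), ← (Disc.pow_mod_four hodd m).2] at hd
    rw [hd] at hsq hns
    rw [Nat.gcd_rec]
    by_cases h4 : Fintype.card F ^ m % 4 = 3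
    · have h := hsq h4
      rw [hO] at h
      rw [show (Fintype.card F ^ m + 1) % 4 = 0 by omega, Nat.gcd_zero_left]
      linarith
    · have h := hns h4
      rw [hO] at h
      have := Nat.odd_iff.1 (hodd.pow : Odd (Fintype.card F ^ m))
      rw [show (Fintype.card F ^ m + 1) % 4 = 2 by omega, show Nat.gcd 2 4 = 2 from rfl]
      linarith

open Matrix hiding map_smul

open Cfsg.Agent.S0256 (wedge pf wedge_one wedge_mul pf_wedge)

variable {K : Type*} [Field K]

local notation "I6" => (Fin 3 ⊕ Fin 3)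
local notation "M6" => Matrix (Fin 3 ⊕ Fin 3) (Fin 3 ⊕ Fin 3) K
local notation "M4" => Matrix (Fin 4) (Fin 4) K

/-- The polar matrix of the Klein form. -/
def pol : M6 := Matrix.fromBlocks 0 (Matrix.diagonal ![1, -1, 1]) (Matrix.diagonal ![1, -1, 1]) 0

theorem pol_inl (x : I6 → K) (i : Fin 3) :
    (pol *ᵥ x) (Sum.inl i) = (![1, -1, 1] : Fin 3 → K) i * x (Sum.inr i) := by
  simp [pol, Matrix.fromBlocks_mulVec, Matrix.mulVec_diagonal]

theorem pol_inr (x : I6 → K) (i : Fin 3) :
    (pol *ᵥ x) (Sum.inr i) = (![1, -1, 1] : Fin 3 → K) i * x (Sum.inl i) := by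
  simp [pol, Matrix.fromBlocks_mulVec, Matrix.mulVec_diagonal]

theorem pf_add (u v : I6 → K) : pf (u + v) = pf u + pf v + u ⬝ᵥ (pol *ᵥ v) := by
  simp [pf, dotProduct, Fintype.sum_sum_type, Fin.sum_univ_three, pol_inl, pol_inr]
  ring

theorem wedge_pol {g : M4} (hg : g.det = 1) : (wedge g)ᵀ * pol * wedge g = pol := by
  have h : ∀ u v : I6 → K, (wedge g *ᵥ u) ⬝ᵥ (pol *ᵥ (wedge g *ᵥ v)) = u ⬝ᵥ (pol *ᵥ v) := fun u v => by
    have h1 := pf_wedge g (u + v)
    rw [Matrix.mulVec_add, pf_add, pf_add, pf_wedge, pf_wedge, hg] at h1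
    linear_combination h1
  ext i j
  have := h (Pi.single i 1) (Pi.single j 1)
  rw [Matrix.mulVec_single_one, Matrix.mulVec_single_one, single_dotProduct, one_mul] at this
  rw [Matrix.mulVec_single_one] at this
  rw [Matrix.mul_assoc, Matrix.mul_apply]
  simpa [dotProduct, Matrix.mulVec, Matrix.mul_apply] using this

theorem wedge_transpose (g : M4) : wedge gᵀ = (wedge g)ᵀ := by
  ext i j
  simp [wedge]
  ring

theorem wedge_map (σ : K →+* K) (g : M4) : wedge (g.map σ) = (wedge g).map σ := by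
  ext i j
  simp [wedge]

/-- The image of the fixed vectors is fixed. -/
theorem star_wedge (σ : K →+* K) {g : M4} (hg : g.det = 1) (hu : gᵀ * g.map σ = 1) {x : I6 → K}
    (hx : σ ∘ x = pol *ᵥ x) : σ ∘ (wedge g *ᵥ x) = pol *ᵥ (wedge g *ᵥ x) := by
  have h1 : (wedge g)ᵀ * wedge (g.map σ) = 1 := by rw [← wedge_transpose, ← wedge_mul, hu, wedge_one]
  have h2 : wedge (g.map σ) * (wedge g)ᵀ = 1 := mul_eq_one_comm.1 h1
  have e1 : σ ∘ (wedge g *ᵥ x) = wedge (g.map σ) *ᵥ (σ ∘ x) := by
    funext i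
    rw [Function.comp_apply, RingHom.map_mulVec, wedge_map]
  rw [e1, hx]
  calc wedge (g.map σ) *ᵥ (pol *ᵥ x)
      = wedge (g.map σ) *ᵥ (((wedge g)ᵀ * pol * wedge g) *ᵥ x) := by rw [wedge_pol hg]
    _ = (wedge (g.map σ) * (wedge g)ᵀ * pol * wedge g) *ᵥ x := by rw [Matrix.mulVec_mulVec]; simp only [Matrix.mul_assoc]
    _ = pol *ᵥ (wedge g *ᵥ x) := by rw [h2, Matrix.one_mul, Matrix.mulVec_mulVec]

variable {F : Type*} [Field F] {a b : F} (E : MinusFour.Ext F K a b) (l : K)

/-- The coordinate map of a plane. -/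
def pl (s t : F) : K := E.emb s + E.emb t * E.w

theorem pl_norm (s t : F) : pl E s t * E.sig (pl E s t) = E.emb (s ^ 2 + a * s * t + b * t ^ 2) := by
  simp only [pl, map_add, map_mul, map_pow, E.sig_emb, ← E.w_mul, ← E.w_add]
  ring

theorem exists_pl (z : K) : ∃ s t, pl E s t = z := by
  have hne := sub_ne_zero.2 E.w_ne
  obtain ⟨t, ht⟩ := E.fixed ((E.sig z - z) / (E.sig E.w - E.w)) (by
    rw [map_div₀, map_sub, map_sub, E.sig_sig, E.sig_sig, ← neg_sub (E.sig z) z, ← neg_sub (E.sig E.w) E.w, neg_div_neg_eq])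
  obtain ⟨s, hs⟩ := E.fixed (z - E.emb t * E.w) (by
    have := congrArg (fun y => y * (E.sig E.w - E.w)) ht
    simp only [div_mul_cancel₀ _ hne] at this
    rw [map_sub, map_mul, E.sig_emb]
    linear_combination -this)
  exact ⟨s, t, by rw [pl, hs]; ring⟩

theorem pl_inj {s t s' t' : F} (h : pl E s t = pl E s' t') : s = s' ∧ t = t' := by
  have h' := congrArg E.sig h
  simp only [pl, map_add, map_mul, E.sig_emb] at h h'
  have e : E.emb (t - t') * (E.sig E.w - E.w) = 0 := by rw [map_sub]; linear_combination h' - h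
  have ht : t = t' := sub_eq_zero.1 (E.emb.injective (((mul_eq_zero.1 e).resolve_right (sub_ne_zero.2 E.w_ne)).trans (map_zero _).symm))
  subst ht
  exact ⟨E.emb.injective (add_right_cancel h), rfl⟩

local notation "V6" => ((Fin 2 ⊕ Fin 2) ⊕ Fin 2 → F)

/-- The `s` coordinate of the auxiliary point. -/
def cs (v : V6) : F :=
  (2 * b * (v (.inl (.inr 0)) - v (.inl (.inl 0)) - a * v (.inl (.inl 1))) -
    a * (v (.inl (.inr 1)) - b * v (.inl (.inl 1)))) / (4 * b - a ^ 2)

/-- The `t` coordinate of the auxiliary point. -/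
def ct (v : V6) : F :=
  (2 * (v (.inl (.inr 1)) - b * v (.inl (.inl 1))) -
    a * (v (.inl (.inr 0)) - v (.inl (.inl 0)) - a * v (.inl (.inl 1)))) / (4 * b - a ^ 2)

/-- The first half of the coordinates. -/
def half (v : V6) : Fin 3 → K :=
  ![pl E (cs (a := a) (b := b) v + v (.inl (.inl 0))) (ct (a := a) (b := b) v + v (.inl (.inl 1))),
    l * pl E (cs (a := a) (b := b) v) (ct (a := a) (b := b) v), pl E (v (.inr 0)) (v (.inr 1))]

/-- The embedding of the six-space. -/
def T (v : V6) : I6 → K :=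
  Sum.elim (half E l v) (fun i => (![1, -1, 1] : Fin 3 → K) i * E.sig (half E l v i))

theorem T_add (u v : V6) : T E l (u + v) = T E l u + T E l v := by
  have hc : cs (a := a) (b := b) (u + v) = cs (a := a) (b := b) u + cs (a := a) (b := b) v := by
    simp only [cs, Pi.add_apply]; ring
  have ht : ct (a := a) (b := b) (u + v) = ct (a := a) (b := b) u + ct (a := a) (b := b) v := by
    simp only [ct, Pi.add_apply]; ring
  funext i
  rcases i with i | i <;> fin_cases i <;> simp [T, half, pl, hc, ht] <;> ring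

theorem T_smul (c : F) (v : V6) : T E l (c • v) = E.emb c • T E l v := by
  have hc : cs (a := a) (b := b) (c • v) = c * cs (a := a) (b := b) v := by
    simp only [cs, Pi.smul_apply, smul_eq_mul]; ring
  have ht : ct (a := a) (b := b) (c • v) = c * ct (a := a) (b := b) v := by
    simp only [ct, Pi.smul_apply, smul_eq_mul]; ring
  funext i
  rcases i with i | i <;> fin_cases i <;> simp [T, half, pl, hc, ht, E.sig_emb] <;> ring

theorem T_fixed (v : V6) : E.sig ∘ T E l v = pol *ᵥ T E l v := by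
  funext i
  rcases i with i | i
  · rw [Function.comp_apply, pol_inl]
    fin_cases i <;> simp [T]
  · rw [Function.comp_apply, pol_inr]
    fin_cases i <;> simp [T, E.sig_sig]

theorem pf_T (hD : 4 * b - a ^ 2 ≠ 0) (hl : l * E.sig l = -1) (v : V6) :
    pf (T E l v) = E.emb (Cfsg.quadFormMinus 2 F a b v) := by
  set s := cs (a := a) (b := b) v with hs
  set t := ct (a := a) (b := b) v with ht
  have e1 : s * (4 * b - a ^ 2) = 2 * b * (v (.inl (.inr 0)) - v (.inl (.inl 0)) - a * v (.inl (.inl 1))) -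
      a * (v (.inl (.inr 1)) - b * v (.inl (.inl 1))) := div_mul_cancel₀ _ hD
  have e2 : t * (4 * b - a ^ 2) = 2 * (v (.inl (.inr 1)) - b * v (.inl (.inl 1))) -
      a * (v (.inl (.inr 0)) - v (.inl (.inl 0)) - a * v (.inl (.inl 1))) := div_mul_cancel₀ _ hD
  have f1 : 2 * s + a * t = v (.inl (.inr 0)) - v (.inl (.inl 0)) - a * v (.inl (.inl 1)) :=
    mul_right_cancel₀ hD (by linear_combination 2 * e1 + a * e2)
  have f2 : a * s + 2 * b * t = v (.inl (.inr 1)) - b * v (.inl (.inl 1)) :=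
    mul_right_cancel₀ hD (by linear_combination a * e1 + 2 * b * e2)
  set z₁ := pl E (s + v (.inl (.inl 0))) (t + v (.inl (.inl 1))) with hz1
  set z₂ := pl E s t with hz2
  set z₃ := pl E (v (.inr 0)) (v (.inr 1)) with hz3
  have hp : pf (T E l v) = z₁ * E.sig z₁ + (l * E.sig l) * (z₂ * E.sig z₂) + z₃ * E.sig z₃ := by
    simp [pf, T, half, ← hs, ← ht, ← hz1, ← hz2, ← hz3]
    ring
  rw [hp, hl, neg_one_mul, hz1, hz2, hz3, pl_norm, pl_norm, pl_norm, ← sub_eq_add_neg, ← map_sub, ← map_add]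
  congr 1
  simp only [Cfsg.quadFormMinus, Fin.sum_univ_two]
  linear_combination v (.inl (.inl 0)) * f1 + v (.inl (.inl 1)) * f2

theorem T_surj (hD : 4 * b - a ^ 2 ≠ 0) (hl : l ≠ 0) {x : I6 → K} (hx : E.sig ∘ x = pol *ᵥ x) :
    ∃ v, T E l v = x := by
  obtain ⟨s1, t1, h1⟩ := exists_pl E (x (.inl 0))
  obtain ⟨s2, t2, h2⟩ := exists_pl E (l⁻¹ * x (.inl 1))
  obtain ⟨s3, t3, h3⟩ := exists_pl E (x (.inl 2))
  set x0 := s1 - s2 with hx0
  set x1 := t1 - t2 with hx1
  let v : V6 := Sum.elim (Sum.elim ![x0, x1] ![2 * s2 + a * t2 + x0 + a * x1, a * s2 + 2 * b * t2 + b * x1]) ![s3, t3]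
  have hc : cs (a := a) (b := b) v = s2 := by
    simp only [cs, v, Sum.elim_inl, Sum.elim_inr, Matrix.cons_val_zero, Matrix.cons_val_one]
    rw [div_eq_iff hD]; ring
  have ht : ct (a := a) (b := b) v = t2 := by
    simp only [ct, v, Sum.elim_inl, Sum.elim_inr, Matrix.cons_val_zero, Matrix.cons_val_one]
    rw [div_eq_iff hD]; ring
  refine ⟨v, ?_⟩
  have hh : ∀ i, half E l v i = x (.inl i) := by
    intro i
    fin_cases i
    · show pl E (cs (a := a) (b := b) v + x0) (ct (a := a) (b := b) v + x1) = _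
      rw [hc, ht, hx0, hx1, add_sub_cancel, add_sub_cancel]
      exact h1
    · simp [half, hc, ht, h2, mul_inv_cancel_left₀ hl]
    · simp [half, v, h3]
  funext i
  rcases i with i | i
  · exact hh i
  · have e := congrFun hx (.inl i)
    rw [Function.comp_apply, pol_inl] at e
    show (![1, -1, 1] : Fin 3 → K) i * E.sig (half E l v i) = _
    rw [hh i, e, ← mul_assoc]
    fin_cases i <;> simp

theorem T_inj (hD : 4 * b - a ^ 2 ≠ 0) (hl : l ≠ 0) {u v : V6} (h : T E l u = T E l v) : u = v := by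
  obtain ⟨p0, p1⟩ := pl_inj E (show pl E _ _ = pl E _ _ from congrFun h (.inl 0))
  obtain ⟨r0, r1⟩ := pl_inj E (mul_left_cancel₀ hl (congrFun h (.inl 1)))
  obtain ⟨o0, o1⟩ := pl_inj E (show pl E _ _ = pl E _ _ from congrFun h (.inl 2))
  rw [r0, add_right_inj] at p0
  rw [r1, add_right_inj] at p1
  simp only [cs, ct, div_left_inj' hD, p0, p1] at r0 r1
  funext i
  rcases i with (i | i) | i <;> fin_cases i <;> simp only [Fin.zero_eta, Fin.mk_one]
  · exact p0
  · exact p1
  · exact mul_left_cancel₀ hD (by linear_combination 2 * r0 + a * r1)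
  · exact mul_left_cancel₀ hD (by linear_combination a * r0 + 2 * b * r1)
  · exact o0
  · exact o1

end Cfsg.Agent.Classical.KleinMinus
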