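import Cfsg.Agent.Lib.Classical.Transvec
import Cfsg.Agent.Lib.Classical.Linear
import Cfsg.Prelude.Def_GeometricClasses

/-!
Subgroups of `GL ι F` containing transvections.
-/

set_option autoImplicit false
set_option linter.unusedSectionVars false

open Module Matrix

namespace Cfsg.Agent.Classical.MaxLin

variable {F : Type*} [Field F] {ι : Type} [Fintype ι] [DecidableEq ι]

/-- `M` contains the transvection with centre `v` and dual `f`. -/
def Tm (M : Subgroup (GL ι F)) (f : Dual F (ι → F)) (v : ι → F) : Prop :=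
  ∃ h : f v = 0, transGL f v h ∈ M

theorem gl_ext {a b : GL ι F} (h : ∀ x, (a : Matrix ι ι F) *ᵥ x = (b : Matrix ι ι F) *ᵥ x) : a = b :=
  Units.ext (Matrix.toLin'.injective (LinearMap.ext fun x => by simpa using h x))

theorem gl_inv_mulVec (g : GL ι F) (x : ι → F) :
    (g : Matrix ι ι F) *ᵥ (((g⁻¹ : GL ι F) : Matrix ι ι F) *ᵥ x) = x := by
  rw [Matrix.mulVec_mulVec, ← Units.val_mul, mul_inv_cancel, Units.val_one, Matrix.one_mulVec]

theorem gl_inv_mulVec' (g : GL ι F) (x : ι → F) :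
    ((g⁻¹ : GL ι F) : Matrix ι ι F) *ᵥ ((g : Matrix ι ι F) *ᵥ x) = x := by
  rw [Matrix.mulVec_mulVec, ← Units.val_mul, inv_mul_cancel, Units.val_one, Matrix.one_mulVec]

theorem Tm.zero {M : Subgroup (GL ι F)} (v : ι → F) : Tm M 0 v := by
  refine ⟨rfl, ?_⟩
  have : transGL (0 : Dual F (ι → F)) v rfl = 1 := gl_ext fun x => by simp [transGL_apply]
  rw [this]; exact M.one_mem

theorem Tm.add {M : Subgroup (GL ι F)} {f f' : Dual F (ι → F)} {v : ι → F} (h : Tm M f v) (h' : Tm M f' v) :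
    Tm M (f + f') v := by
  obtain ⟨hf, hm⟩ := h
  obtain ⟨hf', hm'⟩ := h'
  refine ⟨by simp [hf, hf'], ?_⟩
  have he : transGL (f + f') v (by simp [hf, hf']) = transGL f v hf * transGL f' v hf' := by
    refine gl_ext fun x => ?_
    rw [Units.val_mul, ← Matrix.mulVec_mulVec, transGL_apply, transGL_apply, transGL_apply]
    simp only [LinearMap.add_apply, map_add, map_smul, hf, smul_zero, add_zero]
    module
  rw [he]; exact mul_mem hm hm'

theorem Tm.neg {M : Subgroup (GL ι F)} {f : Dual F (ι → F)} {v : ι → F} (h : Tm M f v) : Tm M (-f) v := by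
  obtain ⟨hf, hm⟩ := h
  refine ⟨by simp [hf], ?_⟩
  have he : transGL (-f) v (by simp [hf]) = (transGL f v hf)⁻¹ := by
    refine eq_inv_of_mul_eq_one_left (gl_ext fun x => ?_)
    rw [Units.val_mul, ← Matrix.mulVec_mulVec, transGL_apply, transGL_apply]
    simp [hf]
  rw [he]; exact inv_mem hm

theorem Tm.sub {M : Subgroup (GL ι F)} {f f' : Dual F (ι → F)} {v : ι → F} (h : Tm M f v) (h' : Tm M f' v) :
    Tm M (f - f') v := by rw [sub_eq_add_neg]; exact h.add h'.neg

theorem Tm.smul_centre {M : Subgroup (GL ι F)} {f : Dual F (ι → F)} {v : ι → F} (a : F) (ha : f v = 0)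
    (h : Tm M (a • f) v) : Tm M f (a • v) := by
  obtain ⟨hf, hm⟩ := h
  refine ⟨by simp [ha], ?_⟩
  have he : transGL f (a • v) (by simp [ha]) = transGL (a • f) v hf :=
    gl_ext fun x => by simp [transGL_apply, smul_smul, mul_comm]
  rw [he]; exact hm

theorem Tm.conj {M : Subgroup (GL ι F)} {g : GL ι F} (hg : g ∈ M) {f : Dual F (ι → F)} {v : ι → F} (h : Tm M f v) :
    Tm M (f ∘ₗ Matrix.toLin' ((g⁻¹ : GL ι F) : Matrix ι ι F)) ((g : Matrix ι ι F) *ᵥ v) := by
  obtain ⟨hf, hm⟩ := h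
  have hp : (f ∘ₗ Matrix.toLin' ((g⁻¹ : GL ι F) : Matrix ι ι F)) ((g : Matrix ι ι F) *ᵥ v) = 0 := by
    rw [LinearMap.comp_apply, Matrix.toLin'_apply, gl_inv_mulVec', hf]
  refine ⟨hp, ?_⟩
  have he : transGL _ _ hp = g * transGL f v hf * g⁻¹ := by
    refine gl_ext fun x => ?_
    rw [transGL_apply, Units.val_mul, Units.val_mul, ← Matrix.mulVec_mulVec, ← Matrix.mulVec_mulVec, transGL_apply,
      Matrix.mulVec_add, Matrix.mulVec_smul, gl_inv_mulVec]
    rfl
  rw [he]; exact mul_mem (mul_mem hg hm) (inv_mem hg)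

/-- A subgroup containing every transvection contains the special linear group. -/
theorem specialLinear_le [Nontrivial ι] {M : Subgroup (GL ι F)}
    (h : ∀ (f : Dual F (ι → F)) v, f v = 0 → Tm M f v) : Cfsg.Geo.specialLinear ι F ≤ M := by
  show (Matrix.GeneralLinearGroup.det : GL ι F →* Fˣ).ker ≤ M
  rw [← range_toGL, MonoidHom.range_eq_map, ← closure_transvection_eq_top, MonoidHom.map_closure, Subgroup.closure_le]
  rintro _ ⟨_, ⟨i, j, hij, c, rfl⟩, rfl⟩
  obtain ⟨hf, hm⟩ := h (c • LinearMap.proj j) (Pi.single i 1) (by simp [hij.symm])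
  have he : SpecialLinearGroup.toGL (SpecialLinearGroup.transvection hij c) =
      transGL (c • LinearMap.proj j) (Pi.single i 1) hf := by
    refine gl_ext fun x => ?_
    rw [transGL_apply]
    have e := transvection_smul i j hij c x
    rw [SL_smul] at e
    refine e.trans ?_
    funext k
    simp [Pi.single_apply]
  exact he ▸ hm

theorem isMaximalIn_specialLinear {K : Subgroup (GL ι F)} (hlt : ¬ Cfsg.Geo.specialLinear ι F ≤ K)
    (hmax : ∀ M : Subgroup (GL ι F), K ⊓ Cfsg.Geo.specialLinear ι F ≤ M → M ≤ Cfsg.Geo.specialLinear ι F →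
      (∃ g ∈ M, g ∉ K) → Cfsg.Geo.specialLinear ι F ≤ M) :
    Cfsg.Geo.IsMaximalIn (Cfsg.Geo.specialLinear ι F) (K ⊓ Cfsg.Geo.specialLinear ι F) := by
  refine ⟨lt_of_le_of_ne inf_le_right fun e => hlt (e ▸ inf_le_left), fun M h1 h2 => ?_⟩
  by_cases h : ∃ g ∈ M, g ∉ K
  · exact Or.inr (le_antisymm h2 (hmax M h1 h2 h))
  · push Not at h
    exact Or.inl (le_antisymm (le_inf h h2) h1)

theorem transGL_mem_sl (f : Dual F (ι → F)) (v : ι → F) (h : f v = 0) :
    transGL f v h ∈ Cfsg.Geo.specialLinear ι F :=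
  MonoidHom.mem_ker.2 (det_transGL f v h)

end Cfsg.Agent.Classical.MaxLin
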