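import Cfsg.Agent.Lib.Classical.MaxOrthSubspace

/-!
Stabilisers of non-degenerate subspaces are maximal in orthogonal commutator groups.
-/

set_option autoImplicit false
set_option linter.unusedSectionVars false
set_option maxHeartbeats 800000

open Module Matrix QuadraticMap

namespace Cfsg.Agent.Classical.Siegel

open Refl MaxLin

variable {F : Type*} [Field F] [Fintype F] {ι : Type} [Fintype ι] [DecidableEq ι] (Q : QuadraticForm F (ι → F))

local notation "V" => ι → F

/-- An orthogonal splitting into non-degenerate subspaces. -/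
structure Split (W U : Submodule F (ι → F)) : Prop where
  orth : ∀ w ∈ W, ∀ u ∈ U, polar Q w u = 0
  cover : ∀ x : ι → F, ∃ w ∈ W, ∃ u ∈ U, x = w + u
  ndW : ∀ w ∈ W, (∀ y ∈ W, polar Q y w = 0) → w = 0
  ndU : ∀ u ∈ U, (∀ y ∈ U, polar Q y u = 0) → u = 0

variable {Q} {W U : Submodule F (ι → F)}

namespace Split

theorem symm (h : Split Q W U) : Split Q U W :=
  ⟨fun u hu w hw => by rw [polar_comm]; exact h.orth w hw u hu,
    fun x => by obtain ⟨w, hw, u, hu, e⟩ := h.cover x; exact ⟨u, hu, w, hw, e.trans (add_comm _ _)⟩, h.ndU, h.ndW⟩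

theorem orth' (h : Split Q W U) {u w : V} (hu : u ∈ U) (hw : w ∈ W) : polar Q u w = 0 := by
  rw [polar_comm]; exact h.orth w hw u hu

theorem inter (h : Split Q W U) {x : V} (hw : x ∈ W) (hu : x ∈ U) : x = 0 :=
  h.ndW x hw fun y hy => h.orth y hy x hu

theorem unique (h : Split Q W U) {w w' u u' : V} (hw : w ∈ W) (hw' : w' ∈ W) (hu : u ∈ U) (hu' : u' ∈ U)
    (e : w + u = w' + u') : w = w' ∧ u = u' := by
  have h1 : w - w' = u' - u := by linear_combination (norm := module) e
  have h2 := h.inter (W.sub_mem hw hw') (h1 ▸ U.sub_mem hu' hu)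
  exact ⟨sub_eq_zero.1 h2, (sub_eq_zero.1 (h1 ▸ h2)).symm⟩

end Split

variable (Q)

theorem sing_in (S : Submodule F (ι → F)) {m : ℕ} (L : Fin m → Dual F (ι → F)) (hm : m + 2 < finrank F S) :
    ∃ x, x ∈ S ∧ x ≠ 0 ∧ Q x = 0 ∧ ∀ k, L k x = 0 := by
  let b := Module.finBasis F S
  let e : (Fin (finrank F S) → F) →ₗ[F] (ι → F) := S.subtype ∘ₗ b.equivFun.symm.toLinearMap
  obtain ⟨y, hy0, hy, hL⟩ := exists_zero_lin (Q.comp e) (fun k => (L k).comp e) (by simpa using hm)
  refine ⟨e y, (b.equivFun.symm y).2, fun h => hy0 ?_, hy, hL⟩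
  have h1 : b.equivFun.symm y = 0 := Subtype.ext h
  exact b.equivFun.symm.injective (h1.trans (map_zero _).symm)

variable {Q} (hs : Split Q W U)
variable (hQ : (polarBilin Q).Nondegenerate) (hn : 7 ≤ Fintype.card ι) (hl : 7 ≤ finrank F U)

include hs

theorem partner_in {a : V} (ha : a ∈ U) (ha0 : a ≠ 0) (hQa : Q a = 0) :
    ∃ c ∈ U, Q c = 0 ∧ polar Q c a = 1 := by
  obtain ⟨y, hy, hya⟩ : ∃ y ∈ U, polar Q y a ≠ 0 := by
    by_contra hc; push Not at hc; exact ha0 (hs.ndU a ha hc)
  obtain ⟨y', hy', h1⟩ : ∃ y' ∈ U, polar Q y' a = 1 :=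
    ⟨(polar Q y a)⁻¹ • y, U.smul_mem _ hy, by rw [polar_smul_left, smul_eq_mul, inv_mul_cancel₀ hya]⟩
  refine ⟨y' + (-Q y') • a, U.add_mem hy' (U.smul_mem _ ha), ?_, ?_⟩
  · rw [Q_add, Q_smul, hQa, polar_smul_right, smul_eq_mul, h1]; ring
  · rw [polar_add_left, polar_smul_left, polar_diag, hQa, h1]; simp

include hl

theorem pair_in {a : V} (ha : a ∈ U) (ha0 : a ≠ 0) (hQa : Q a = 0) :
    ∃ d ∈ U, ∃ d' ∈ U, Q d = 0 ∧ Q d' = 0 ∧ polar Q d d' = 1 ∧ polar Q a d = 0 ∧ polar Q a d' = 0 ∧
      ∀ r : F, d ≠ r • a := by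
  obtain ⟨c, hc, hQc, hca⟩ := partner_in hs ha ha0 hQa
  obtain ⟨d, hd, hd0, hQd, hL⟩ := sing_in Q U ![(polarBilin Q).flip a, (polarBilin Q).flip c] (by omega)
  have hda : polar Q d a = 0 := hL 0
  have hdc : polar Q d c = 0 := hL 1
  obtain ⟨e, he, -, hed⟩ := partner_in hs hd hd0 hQd
  have haa : polar Q a a = 0 := by rw [polar_diag, hQa, mul_zero]
  set f := e + (-polar Q e c) • a + (-polar Q e a) • c with hf
  have hfd : polar Q f d = 1 := by
    rw [hf, polar_add_left, polar_add_left, polar_smul_left, polar_smul_left, hed, polar_comm (⇑Q) a d, hda,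
      polar_comm (⇑Q) c d, hdc]
    simp
  have hfa : polar Q f a = 0 := by
    rw [hf, polar_add_left, polar_add_left, polar_smul_left, polar_smul_left, haa, hca]; simp
  refine ⟨d, hd, f + (-Q f) • d, U.add_mem (U.add_mem (U.add_mem he (U.smul_mem _ ha)) (U.smul_mem _ hc))
    (U.smul_mem _ hd), hQd, ?_, ?_, ?_, ?_, fun r e' => hd0 ?_⟩
  · rw [Q_add, Q_smul, hQd, polar_smul_right, smul_eq_mul, hfd]; ring
  · rw [polar_add_right, polar_comm (⇑Q) d f, hfd, polar_smul_right, polar_diag, hQd]; simp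
  · rw [polar_comm]; exact hda
  · rw [polar_comm, polar_add_left, hfa, polar_smul_left, hda]; simp
  · rw [e', polar_smul_left, polar_comm (⇑Q) a c, hca, smul_eq_mul, mul_one] at hdc
    rw [e', hdc, zero_smul]

include hQ hn

theorem trans_in {a b : V} (haU : a ∈ U) (hbU : b ∈ U) (ha0 : a ≠ 0) (hb0 : b ≠ 0) (ha : Q a = 0) (hb : Q b = 0) :
    ∃ g ∈ commutator (O Q), (∀ w ∈ W, act Q g w = w) ∧ act Q g a = b := by
  have one : ∀ a b : V, a ∈ U → b ∈ U → a ≠ 0 → Q a = 0 → Q b = 0 → polar Q a b = 0 → (∀ r : F, b ≠ r • a) →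
      ∃ g ∈ commutator (O Q), (∀ w ∈ W, act Q g w = w) ∧ act Q g a = b := by
    intro a b haU hbU ha0 ha hb horth hab
    obtain ⟨p, hp, hpa, hpb⟩ := exists_p_orth Q hQ ha0 hab ha horth
    obtain ⟨w, hw, y, hy, rfl⟩ := hs.cover p
    rw [polar_add_left, hs.orth w hw a haU, zero_add] at hpa
    rw [polar_add_left, hs.orth w hw b hbU, zero_add] at hpb
    have h1 : polar Q (y + (-Q y) • a) a = 1 := by rw [polar_add_left, polar_smul_left, polar_diag, ha, hpa]; simp
    have h2 : polar Q (y + (-Q y) • a) b = 1 := by rw [polar_add_left, polar_smul_left, horth, hpb]; simp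
    have h3 : Q (y + (-Q y) • a) = 0 := by
      rw [Q_add, Q_smul, ha, polar_smul_right, smul_eq_mul, hpa]; ring
    have hU' : y + (-Q y) • a ∈ U := U.add_mem hy (U.smul_mem _ haU)
    have h4 : polar Q (y + (-Q y) • a) (b - a) = 0 := by rw [polar_sub_right, h1, h2, sub_self]
    refine ⟨sO Q _ (b - a) h3 h4, sO_mem_commutator Q hQ hn _ _ _ _, fun x hx => ?_, ?_⟩
    · rw [act_sO, hs.orth x hx _ hU', hs.orth x hx _ (U.sub_mem hbU haU)]; simp
    · rw [act_sO, polar_comm (⇑Q) a, h1, one_smul, mul_one]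
      have h5 : polar Q a (b - a) + Q (b - a) = 0 := by
        rw [polar_sub_right, polar_diag, sub_eq_add_neg b a, Q_add, QuadraticMap.map_neg, polar_neg_right, ha, hb,
          horth, polar_comm (⇑Q) b a, horth]
        ring
      rw [h5, zero_smul, sub_zero, add_sub_cancel]
  obtain ⟨c₁, hc₁U, hc₁, hc₁a⟩ := partner_in hs haU ha0 ha
  obtain ⟨c₂, hc₂U, hc₂, hc₂b⟩ := partner_in hs hbU hb0 hb
  obtain ⟨d, hdU, hd0, hd, hL⟩ := sing_in Q U ![(polarBilin Q).flip a, (polarBilin Q).flip b, polarBilin Q c₁,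
    polarBilin Q c₂] (by omega)
  have hda : polar Q d a = 0 := hL 0
  have hdb : polar Q d b = 0 := hL 1
  have hdc1 : polar Q c₁ d = 0 := hL 2
  have hdc2 : polar Q c₂ d = 0 := hL 3
  obtain ⟨e₁, he₁, hf₁, ha'⟩ := one a d haU hdU ha0 ha hd (by rw [polar_comm]; exact hda) (fun r e => hd0 (by
    rw [e, polar_smul_right, hc₁a, smul_eq_mul, mul_one] at hdc1
    rw [e, hdc1, zero_smul]))
  obtain ⟨e₂, he₂, hf₂, hb'⟩ := one d b hdU hbU hd0 hd hb hdb (fun r e => by
    have : polar Q c₂ b = 0 := by rw [e, polar_smul_right, hdc2, smul_zero]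
    rw [hc₂b] at this
    exact one_ne_zero this)
  exact ⟨e₂ * e₁, mul_mem he₂ he₁, fun w hw => by rw [act_mul, hf₁ w hw, hf₂ w hw], by rw [act_mul, ha', hb']⟩

omit hQ hn hl in
theorem mapsU {g : O Q} (hg : ∀ w ∈ W, act Q g w ∈ W) : ∀ u ∈ U, act Q g u ∈ U := by
  intro u hu
  have hmap := Submodule.eq_of_le_of_finrank_le
    (S₁ := W.map (Matrix.toLin' ((g : GL ι F) : Matrix ι ι F))) (S₂ := W)
    (fun y ⟨x, hx, e⟩ => by rw [← e, Matrix.toLin'_apply]; exact hg x hx)
    (le_of_eq (Submodule.equivMapOfInjective _ (fun x y e => by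
      have := congrArg (act Q g⁻¹) (show act Q g x = act Q g y by simpa [act] using e)
      rwa [act_inv', act_inv'] at this) W).finrank_eq)
  obtain ⟨w₀, hw₀, u₀, hu₀, e⟩ := hs.cover (act Q g u)
  have : w₀ = 0 := hs.ndW w₀ hw₀ fun y hy => by
    rw [← hmap] at hy
    obtain ⟨x, hx, rfl⟩ := hy
    rw [Matrix.toLin'_apply]
    have h1 : polar Q (act Q g x) (act Q g u) = 0 := by rw [polar_act]; exact hs.orth x hx u hu
    rw [e, polar_add_right, hs.orth _ (hg x hx) u₀ hu₀, add_zero] at h1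
    exact h1
  rw [e, this, zero_add]
  exact hu₀

omit hQ hn hl in
/-- A proper non-zero subspace of `W` is moved by a reflection or a Siegel transformation of `W`. -/
theorem moved {A : Submodule F (ι → F)} (hAW : A ≤ W) (hA0 : A ≠ ⊥) (hAne : A ≠ W)
    (hex : ¬ (Fintype.card F ≤ 3 ∧ finrank F W = 2 ∧ ∃ s ∈ W, s ≠ 0 ∧ Q s = 0))
    (hr : ∀ v ∈ W, Q v ≠ 0 → ∀ x ∈ A, x - ((Q v)⁻¹ * polar Q v x) • v ∈ A)
    (hS : ∀ p ∈ W, ∀ s ∈ W, ∀ (hp : Q p = 0) (hps : polar Q p s = 0), ∀ x ∈ A, act Q (sO Q p s hp hps) x ∈ A) :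
    False := by
  have dich : ∀ v ∈ W, Q v ≠ 0 → v ∈ A ∨ ∀ x ∈ A, polar Q v x = 0 := by
    intro v hv hQv
    by_cases h : ∀ x ∈ A, polar Q v x = 0
    · exact Or.inr h
    push Not at h
    obtain ⟨x, hx, hvx⟩ := h
    have h1 := A.sub_mem hx (hr v hv hQv x hx)
    rw [sub_sub_cancel] at h1
    have h3 := A.smul_mem ((Q v)⁻¹ * polar Q v x)⁻¹ h1
    rw [inv_smul_smul₀ (mul_ne_zero (inv_ne_zero hQv) hvx)] at h3
    exact Or.inl h3
  -- the radical is zero
  have hrad : ∀ r ∈ A, (∀ x ∈ A, polar Q x r = 0) → r = 0 := by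
    intro r hrA hrr
    by_contra hr0
    have hQr : Q r = 0 := by
      by_contra hQr
      obtain ⟨y₀, hy₀, hyr₀⟩ : ∃ y ∈ W, polar Q y r ≠ 0 := by
        by_contra hc; push Not at hc; exact hr0 (hs.ndW r (hAW hrA) hc)
      obtain ⟨y, hy, hyr⟩ : ∃ y ∈ W, polar Q y r = 1 :=
        ⟨(polar Q y₀ r)⁻¹ • y₀, W.smul_mem _ hy₀, by rw [polar_smul_left, smul_eq_mul, inv_mul_cancel₀ hyr₀]⟩
      have hrr' := hrr r hrA
      rw [polar_diag] at hrr'
      have h2 : (2 : F) = 0 := (mul_eq_zero.1 hrr').resolve_right hQr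
      have hdd : ∀ v, polar Q v v = 0 := fun v => by rw [polar_diag, h2, zero_mul]
      obtain ⟨z, hz, hz0, hzr⟩ : ∃ z ∈ W, Q z ≠ 0 ∧ polar Q z r ≠ 0 := by
        by_cases ht : ∃ t : F, Q (y + t • r) ≠ 0
        · obtain ⟨t, ht⟩ := ht
          exact ⟨_, W.add_mem hy (W.smul_mem _ (hAW hrA)), ht, by
            rw [polar_add_left, polar_smul_left, hdd, hyr]; simp⟩
        push Not at ht
        have ht' : ∀ t : F, Q y + t ^ 2 * Q r + t = 0 := fun t => by
          have := ht t
          rw [Q_add, Q_smul, polar_smul_right, smul_eq_mul, hyr, mul_one] at this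
          exact this
        have hy0 : Q y = 0 := by simpa using ht' 0
        have hr1 : Q r = 1 := by linear_combination ht' 1 - hy0 - h2
        have hone : ∀ t : F, t ≠ 0 → t = 1 := fun t ht0 => by
          have := ht' t
          rw [hy0, hr1] at this
          have h5 : t * (t - 1) = 0 := by linear_combination this - t * h2
          exact sub_eq_zero.1 ((mul_eq_zero.1 h5).resolve_left ht0)
        have hry : polar Q r y = 1 := by rw [polar_comm]; exact hyr
        have hproj : ∀ x ∈ W, ∃ x' ∈ W, polar Q x' r = 0 ∧ polar Q x' y = 0 ∧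
            x = x' + polar Q x r • y + polar Q x y • r := fun x hx =>
          ⟨x - polar Q x r • y - polar Q x y • r, W.sub_mem (W.sub_mem hx (W.smul_mem _ hy)) (W.smul_mem _ (hAW hrA)),
            by simp [polar_sub_left, polar_smul_left, hdd, hyr], by simp [polar_sub_left, polar_smul_left, hdd, hry],
            by abel⟩
        obtain ⟨c, hcW, hcr, hcy, hc⟩ : ∃ c ∈ W, polar Q c r = 0 ∧ polar Q c y = 0 ∧ Q c ≠ 0 := by
          by_contra hc
          push Not at hc
          classical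
          refine hex ⟨?_, ?_, y, hy, fun e => hyr₀ ?_, hy0⟩
          · have : (Finset.univ : Finset F) ⊆ {0, 1} := fun t _ => by
              rcases eq_or_ne t 0 with rfl | ht0
              · simp
              · simp [hone t ht0]
            calc Fintype.card F = (Finset.univ : Finset F).card := rfl
              _ ≤ ({0, 1} : Finset F).card := Finset.card_le_card this
              _ ≤ 3 := Finset.card_le_two.trans (by norm_num)
          · refine le_antisymm ?_ ?_
            · refine (Submodule.finrank_mono (t := Submodule.span F (Set.range ![y, r])) fun x hx => ?_).trans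
                ((finrank_range_le_card _).trans (by simp))
              obtain ⟨x', hx', hxr, hxy, e⟩ := hproj x hx
              have hx'0 : x' = 0 := hs.ndW x' hx' fun v hv => by
                obtain ⟨v', hv', hvr, hvy, e'⟩ := hproj v hv
                rw [e', polar_add_left, polar_add_left, polar_smul_left, polar_smul_left, polar_comm (⇑Q) y x', hxy,
                  polar_comm (⇑Q) r x', hxr, smul_zero, smul_zero, add_zero, add_zero, polar,
                  hc _ (W.add_mem hv' hx') (by rw [polar_add_left, hvr, hxr, add_zero])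
                    (by rw [polar_add_left, hvy, hxy, add_zero]),
                  hc v' hv' hvr hvy, hc x' hx' hxr hxy]
                ring
              rw [e, hx'0, zero_add]
              exact add_mem (Submodule.smul_mem _ _ (Submodule.subset_span ⟨0, rfl⟩))
                (Submodule.smul_mem _ _ (Submodule.subset_span ⟨1, rfl⟩))
            · have hli : LinearIndependent F ![y, r] := LinearIndependent.pair_iff.2 fun a b hab => by
                have h3 := congrArg (fun v => polar Q v r) hab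
                have h4 := congrArg (fun v => polar Q v y) hab
                simp [polar_add_left, polar_smul_left, hdd, hyr, hry] at h3 h4
                exact ⟨h3, h4⟩
              have h5 : Submodule.span F (Set.range ![y, r]) ≤ W := Submodule.span_le.2 fun z ⟨i, e⟩ => by
                subst e; fin_cases i
                · exact hy
                · exact hAW hrA
              have h6 := Submodule.finrank_mono h5
              rw [finrank_span_eq_card hli, Fintype.card_fin] at h6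
              exact h6
          · rw [e, polar_zero_left] at hyr; exact absurd hyr zero_ne_one
        exact ⟨y + c, W.add_mem hy hcW, by rwa [Q_add, hy0, polar_comm, hcy, zero_add, add_zero],
          by rw [polar_add_left, hyr, hcr, add_zero]; exact one_ne_zero⟩
      rcases dich z hz hz0 with hzA | hzA
      · exact hzr (hrr z hzA)
      · exact hzr (hzA r hrA)
    obtain ⟨y, hy, hyr⟩ : ∃ y ∈ W, polar Q y r ≠ 0 := by
      by_contra hc; push Not at hc; exact hr0 (hs.ndW r (hAW hrA) hc)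
    set t := (1 - Q y) / polar Q y r with ht
    have hQz : Q (y + t • r) = 1 := by
      rw [Q_add, Q_smul, hQr, polar_smul_right, smul_eq_mul, ht]; field_simp; ring
    have hzr : polar Q (y + t • r) r ≠ 0 := by
      rw [polar_add_left, polar_smul_left, polar_diag, hQr]; simpa using hyr
    rcases dich _ (W.add_mem hy (W.smul_mem _ (hAW hrA))) (by rw [hQz]; exact one_ne_zero) with hzA | hzA
    · exact hzr (hrr _ hzA)
    · exact hzr (hzA r hrA)
  -- the orthogonal complement in `W`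
  set A' : Submodule F (ι → F) := W ⊓ LinearMap.BilinForm.orthogonal (polarBilin Q) A with hA'
  have hA'mem : ∀ x, x ∈ A' ↔ x ∈ W ∧ ∀ y ∈ A, polar Q y x = 0 := fun x => Iff.rfl
  have hdec : ∀ x ∈ W, ∃ p ∈ A, ∃ p' ∈ A', x = p + p' := by
    intro x hx
    let φ : A →ₗ[F] Dual F A := LinearMap.mk₂ F (fun u v => polar Q (u : V) (v : V))
      (fun u u' v => by simp [polar_add_left]) (fun r u v => by simp [polar_smul_left])
      (fun u v v' => by simp [polar_add_right]) (fun r u v => by simp [polar_smul_right])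
    have hinj : Function.Injective φ := (injective_iff_map_eq_zero φ).2 fun u hu => Subtype.ext (hrad u u.2 fun y hy => by
      rw [polar_comm]; exact LinearMap.congr_fun hu ⟨y, hy⟩)
    obtain ⟨p, hp⟩ := (LinearMap.injective_iff_surjective_of_finrank_eq_finrank
      Subspace.dual_finrank_eq.symm).1 hinj ((polarBilin Q x).comp A.subtype)
    refine ⟨p, p.2, x - p, (hA'mem _).2 ⟨W.sub_mem hx (hAW p.2), fun y hy => ?_⟩, by abel⟩
    have h1 := LinearMap.congr_fun hp ⟨y, hy⟩
    change polar Q (p : V) y = polar Q x y at h1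
    rw [polar_sub_right, polar_comm (⇑Q) y x, polar_comm (⇑Q) y (p : V), h1, sub_self]
  have hnd' : ∀ r ∈ A', (∀ x ∈ A', polar Q x r = 0) → r = 0 := fun r hr' h => hs.ndW r hr'.1 fun y hy => by
    obtain ⟨p, hp, p', hp', rfl⟩ := hdec y hy
    rw [polar_add_left, h p' hp', ((hA'mem r).1 hr').2 p hp, add_zero]
  have hperp : ∀ x ∈ A, ∀ x' ∈ A', polar Q x x' = 0 := fun x hx x' hx' => ((hA'mem x').1 hx').2 x hx
  -- sums of non-singular vectors are singular
  have hsum : ∀ x ∈ A, ∀ x' ∈ A', x ≠ 0 → x' ≠ 0 → Q x + Q x' = 0 := by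
    intro x hx x' hx' hx0 hx'0
    by_contra h
    have hQ' : Q (x + x') ≠ 0 := by rw [Q_add, hperp x hx x' hx', add_zero]; exact h
    rcases dich _ (W.add_mem (hAW hx) hx'.1) hQ' with h1 | h1
    · have h3 : x' ∈ A := by simpa using A.sub_mem h1 hx
      exact hx'0 (hnd' x' hx' fun y hy => by rw [polar_comm]; exact hperp x' h3 y hy)
    · refine hx0 (hrad x hx fun y hy => ?_)
      have := h1 y hy
      rw [polar_add_left, polar_comm (⇑Q) x' y, hperp y hy x' hx', add_zero] at this
      rw [polar_comm]; exact this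
  obtain ⟨a₀, ha₀, ha₀0⟩ := Submodule.exists_mem_ne_zero_of_ne_bot hA0
  obtain ⟨b₀, hb₀, hb₀0⟩ : ∃ b ∈ A', b ≠ 0 := by
    by_contra hc
    push Not at hc
    refine hAne (le_antisymm hAW fun x hx => ?_)
    obtain ⟨p, hp, p', hp', rfl⟩ := hdec x hx
    rw [hc p' hp', add_zero]; exact hp
  have hconstA : ∀ x ∈ A, x ≠ 0 → Q x = -Q b₀ := fun x hx hx0 => by linear_combination hsum x hx b₀ hb₀ hx0 hb₀0
  have hconstA' : ∀ x ∈ A', x ≠ 0 → Q x = Q b₀ := fun x hx hx0 => by
    linear_combination hsum a₀ ha₀ x hx ha₀0 hx0 - hsum a₀ ha₀ b₀ hb₀ ha₀0 hb₀0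
  have hb : Q b₀ ≠ 0 := by
    intro hb
    refine hb₀0 (hnd' b₀ hb₀ fun x hx => ?_)
    have hz : ∀ y ∈ A', Q y = 0 := fun y hy => by
      rcases eq_or_ne y 0 with rfl | h
      · exact QuadraticMap.map_zero Q
      · rw [hconstA' y hy h, hb]
    rw [polar, hz _ (A'.add_mem hx hb₀), hz _ hx, hz _ hb₀]; ring
  have hsq : ∀ t : F, t ≠ 0 → t ^ 2 = 1 := fun t ht => by
    have h := hconstA' (t • b₀) (A'.smul_mem _ hb₀) (smul_ne_zero ht hb₀0)
    rw [Q_smul] at h
    exact mul_right_cancel₀ hb (h.trans (one_mul _).symm)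
  have hcard : Fintype.card F ≤ 3 := by
    classical
    have : (Finset.univ : Finset F) ⊆ {0, 1, -1} := fun t _ => by
      rcases eq_or_ne t 0 with rfl | ht
      · simp
      · rcases mul_self_eq_one_iff.1 (show t * t = 1 by rw [← pow_two]; exact hsq t ht) with rfl | rfl <;> simp
    calc Fintype.card F = (Finset.univ : Finset F).card := rfl
      _ ≤ ({0, 1, -1} : Finset F).card := Finset.card_le_card this
      _ ≤ 3 := Finset.card_le_three
  by_cases h2 : (2 : F) = 0
  · -- two elements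
    have hone : ∀ t : F, t ≠ 0 → t = 1 := fun t ht => by
      have : (t - 1) * (t - 1) = 0 := by linear_combination hsq t ht + (1 - t) * h2
      exact sub_eq_zero.1 (mul_self_eq_zero.1 this)
    obtain ⟨x, hx, hxa⟩ : ∃ x ∈ A, polar Q a₀ x ≠ 0 := by
      by_contra hc; push Not at hc
      exact ha₀0 (hrad a₀ ha₀ fun y hy => by rw [polar_comm]; exact hc y hy)
    obtain ⟨x', hx', hxb⟩ : ∃ x' ∈ A', polar Q b₀ x' ≠ 0 := by
      by_contra hc; push Not at hc
      exact hb₀0 (hnd' b₀ hb₀ fun y hy => by rw [polar_comm]; exact hc y hy)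
    have hx0 : x ≠ 0 := fun e => hxa (by rw [e, polar_zero_right])
    have hx'0 : x' ≠ 0 := fun e => hxb (by rw [e, polar_zero_right])
    have hp : Q (a₀ + b₀) = 0 := by rw [Q_add, hperp a₀ ha₀ b₀ hb₀, add_zero, hsum a₀ ha₀ b₀ hb₀ ha₀0 hb₀0]
    have hps : polar Q (a₀ + b₀) (x + x') = 0 := by
      rw [polar_add_left, polar_add_right, polar_add_right, hperp a₀ ha₀ x' hx', polar_comm (⇑Q) b₀ x,
        hperp x hx b₀ hb₀, hone _ hxa, hone _ hxb]
      linear_combination h2
    have h3 := hS _ (W.add_mem (hAW ha₀) hb₀.1) _ (W.add_mem (hAW hx) hx'.1) hp hps a₀ ha₀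
    rw [act_sO, polar_add_right, polar_add_right, polar_diag, h2, hperp a₀ ha₀ b₀ hb₀,
      hperp a₀ ha₀ x' hx', hone _ hxa] at h3
    simp only [zero_mul, add_zero, zero_smul, mul_zero, one_smul] at h3
    have h4 : b₀ ∈ A := by
      have := A.sub_mem h3 (A.zero_mem)
      have e : a₀ - (a₀ + b₀) = -b₀ := by abel
      rw [sub_zero, e] at this
      simpa using A.neg_mem this
    exact hb₀0 (hnd' b₀ hb₀ fun y hy => by rw [polar_comm]; exact hperp b₀ h4 y hy)
  · -- three elements
    refine hex ⟨hcard, ?_, a₀ + b₀, W.add_mem (hAW ha₀) hb₀.1, fun e => hb₀0 ?_, ?_⟩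
    · have hline : ∀ (S : Submodule F (ι → F)) (c : F), c ≠ 0 → (∀ r ∈ S, (∀ x ∈ S, polar Q x r = 0) → r = 0) →
          (∀ x ∈ S, x ≠ 0 → Q x = c) → ∀ s ∈ S, s ≠ 0 → ∀ x ∈ S, ∃ r : F, x = r • s := by
        intro S c hc _ hconst s hs' hs0 x hx
        set r := polar Q x s / polar Q s s
        set z := x - r • s with hz
        have hzS : z ∈ S := S.sub_mem hx (S.smul_mem _ hs')
        rcases eq_or_ne z 0 with h | h
        · exact ⟨r, sub_eq_zero.1 h⟩
        exfalso
        have hzs : polar Q z s = 0 := by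
          rw [hz, polar_sub_left, polar_smul_left, smul_eq_mul]
          show polar Q x s - polar Q x s / polar Q s s * polar Q s s = 0
          rw [div_mul_cancel₀ _ (by rw [polar_diag, hconst s hs' hs0]; exact mul_ne_zero h2 hc), sub_self]
        rcases eq_or_ne (z + s) 0 with h1 | h1
        · rw [eq_neg_of_add_eq_zero_left h1, polar_neg_left, polar_diag, hconst s hs' hs0, neg_eq_zero] at hzs
          exact mul_ne_zero h2 hc hzs
        · have h5 := hconst _ (S.add_mem hzS hs') h1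
          rw [Q_add, hzs, hconst z hzS h, hconst s hs' hs0] at h5
          exact hc (by linear_combination h5)
      have hle : W ≤ Submodule.span F (Set.range ![a₀, b₀]) := fun x hx => by
        obtain ⟨p, hp, p', hp', rfl⟩ := hdec x hx
        obtain ⟨r, rfl⟩ := hline A _ (neg_ne_zero.2 hb) hrad hconstA a₀ ha₀ ha₀0 p hp
        obtain ⟨r', rfl⟩ := hline A' _ hb hnd' hconstA' b₀ hb₀ hb₀0 p' hp'
        exact add_mem (Submodule.smul_mem _ _ (Submodule.subset_span ⟨0, rfl⟩))
          (Submodule.smul_mem _ _ (Submodule.subset_span ⟨1, rfl⟩))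
      refine le_antisymm ?_ ?_
      · exact (Submodule.finrank_mono hle).trans ((finrank_range_le_card _).trans (by simp))
      · have hli : LinearIndependent F ![a₀, b₀] := LinearIndependent.pair_iff.2 fun s t hst => by
          have h1 : s • a₀ = -(t • b₀) := eq_neg_of_add_eq_zero_left hst
          have h3 : s • a₀ = 0 := hrad _ (A.smul_mem _ ha₀) fun y hy => by
            rw [h1, polar_neg_right, polar_smul_right, hperp y hy b₀ hb₀]; simp
          rw [h3, eq_comm, neg_eq_zero] at h1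
          exact ⟨(smul_eq_zero.1 h3).resolve_right ha₀0, (smul_eq_zero.1 h1).resolve_right hb₀0⟩
        have h5 : Submodule.span F (Set.range ![a₀, b₀]) ≤ W := Submodule.span_le.2 fun z ⟨i, e⟩ => by
          subst e; fin_cases i
          · exact hAW ha₀
          · exact hb₀.1
        have h6 := Submodule.finrank_mono h5
        rw [finrank_span_eq_card hli, Fintype.card_fin] at h6
        exact h6
    · have : b₀ ∈ A := by
        rw [eq_neg_of_add_eq_zero_right e]; exact A.neg_mem ha₀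
      exact hnd' b₀ hb₀ fun y hy => by rw [polar_comm]; exact hperp b₀ this y hy
    · rw [Q_add, hperp a₀ ha₀ b₀ hb₀, add_zero, hsum a₀ ha₀ b₀ hb₀ ha₀0 hb₀0]

omit hQ hn in
theorem sing_nonorth_in {y : V} (hy : y ∈ U) (hy0 : y ≠ 0) : ∃ p ∈ U, Q p = 0 ∧ polar Q y p ≠ 0 := by
  by_contra hc
  push Not at hc
  obtain ⟨a, haU, ha0, ha, -⟩ := sing_in Q U (![] : Fin 0 → Dual F (ι → F)) (by omega)
  obtain ⟨c, hcU, hc', hca⟩ := partner_in hs haU ha0 ha
  have good : ∀ x ∈ U, polar Q x a ≠ 0 → polar Q y x = 0 := fun x hxU hx => by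
    have h := hc (x + (-Q x / polar Q x a) • a) (U.add_mem hxU (U.smul_mem _ haU)) (by
      rw [Q_add, Q_smul, ha, polar_smul_right, smul_eq_mul]; field_simp; ring)
    rwa [polar_add_right, polar_smul_right, hc a haU ha, smul_zero, add_zero] at h
  refine hy0 (hs.ndU y hy fun x hxU => ?_)
  rw [polar_comm]
  by_cases hx : polar Q x a = 0
  · have := good (x + c) (U.add_mem hxU hcU) (by rw [polar_add_left, hx, hca, zero_add]; exact one_ne_zero)
    rwa [polar_add_right, hc c hcU hc', add_zero] at this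
  · exact good x hxU hx

omit hQ hn hl in
theorem stab_sO_U {a b : V} (ha : a ∈ U) (hb : b ∈ U) (hQa : Q a = 0) (hab : polar Q a b = 0) :
    ∀ w ∈ W, act Q (sO Q a b hQa hab) w ∈ W := fun w hw => by
  rw [act_sO, hs.orth w hw a ha, hs.orth w hw b hb]; simpa using hw

omit hQ hn hl in
theorem stab_sO_W {a b : V} (ha : a ∈ W) (hb : b ∈ W) (hQa : Q a = 0) (hab : polar Q a b = 0) :
    ∀ w ∈ W, act Q (sO Q a b hQa hab) w ∈ W := fun w hw => by
  rw [act_sO]; exact W.sub_mem (W.add_mem hw (W.smul_mem _ hb)) (W.smul_mem _ ha)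

omit hQ hn in
/-- An element moving `U` but keeping a singular vector of `U` inside gives a mixed Siegel transformation. -/
theorem mixed {M : Subgroup (O Q)}
    (hM : ∀ a ∈ U, ∀ b ∈ U, ∀ (ha : Q a = 0) (hab : polar Q a b = 0), sO Q a b ha hab ∈ M)
    {g : O Q} (hg : g ∈ M) (hgU : ∃ u ∈ U, act Q g u ∉ U) {a : V} (ha : a ∈ U) (ha0 : a ≠ 0) (hQa : Q a = 0)
    (hga : act Q g a ∈ U) :
    ∃ a' ∈ U, a' ≠ 0 ∧ ∃ (h : Q a' = 0), ∃ w ∈ W, w ≠ 0 ∧ ∀ (h' : polar Q a' w = 0), sO Q a' w h h' ∈ M := by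
  by_contra hno
  push Not at hno
  have key : ∀ a ∈ U, a ≠ 0 → Q a = 0 → act Q g a ∈ U → ∀ b ∈ U, polar Q a b = 0 → act Q g b ∈ U := by
    intro a ha ha0 hQa hga b hb hab
    by_contra hgb
    obtain ⟨w, hw, u, hu, e⟩ := hs.cover (act Q g b)
    have hw0 : w ≠ 0 := fun e0 => hgb (by rw [e, e0, zero_add]; exact hu)
    have hQ' : Q (act Q g a) = 0 := by rw [Q_act, hQa]
    have hab' : polar Q (act Q g a) (act Q g b) = 0 := by rw [polar_act, hab]
    have haw : polar Q (act Q g a) w = 0 := hs.orth' hga hw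
    have hau : polar Q (act Q g a) u = 0 := by rw [e, polar_add_right, haw, zero_add] at hab'; exact hab'
    have hne : act Q g a ≠ 0 := fun h => ha0 (by
      have := congrArg (act Q g⁻¹) h
      rwa [act_inv', show act Q g⁻¹ 0 = 0 from Matrix.mulVec_zero _] at this)
    obtain ⟨h', hnot⟩ := hno _ hga hne hQ' w hw hw0
    have h1 : sO Q _ _ hQ' hab' ∈ M := by
      have hc : g * sO Q a b hQa hab * g⁻¹ = sO Q _ _ hQ' hab' := O_ext Q fun x => by
        obtain ⟨y, rfl⟩ : ∃ y, x = act Q g y := ⟨_, (act_inv Q g x).symm⟩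
        rw [act_mul, act_mul, act_inv', act_sO, act_sO, act_sub, act_add, act_smul, act_smul, polar_act, polar_act,
          Q_act]
      rw [← hc]; exact mul_mem (mul_mem hg (hM a ha b hb hQa hab)) (inv_mem hg)
    have h2 : sO Q _ _ hQ' hab' = sO Q _ w hQ' h' * sO Q _ u hQ' hau := O_ext Q fun x => by
      rw [act_mul, act_sO, act_sO, act_sO, e, Q_add, hs.orth w hw u hu]
      simp only [polar_add_left, polar_sub_left, polar_smul_left, polar_add_right, smul_eq_mul,
        show polar Q (act Q g a) (act Q g a) = 0 by rw [polar_diag, hQ', mul_zero], hs.orth w hw _ hga,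
        polar_comm (⇑Q) u (act Q g a), hau, haw, hs.orth' hu hw]
      module
    rw [h2] at h1
    exact hnot ((mul_mem_cancel_right (hM _ hga u hu hQ' hau)).1 h1)
  obtain ⟨c, hc, hQc, hca⟩ := partner_in hs ha ha0 hQa
  obtain ⟨x, hx, hx0, hQx, hL⟩ := sing_in Q U ![(polarBilin Q).flip a, (polarBilin Q).flip c] (by omega)
  have hxa : polar Q a x = 0 := by rw [polar_comm]; exact hL 0
  have hxc : polar Q x c = 0 := hL 1
  have hgc : act Q g c ∈ U := key x hx hx0 hQx (key a ha ha0 hQa hga x hx hxa) c hc hxc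
  obtain ⟨u, hu, hgu⟩ := hgU
  have h := key a ha ha0 hQa hga (u - polar Q u a • c) (U.sub_mem hu (U.smul_mem _ hc)) (by
    rw [polar_sub_right, polar_smul_right, polar_comm (⇑Q) a c, hca, polar_comm (⇑Q) a u, smul_eq_mul, mul_one,
      sub_self])
  rw [act_sub, act_smul] at h
  have := U.add_mem h (U.smul_mem (polar Q u a) hgc)
  rw [sub_add_cancel] at this
  exact hgu this

theorem nondeg_stab_maximal (hW0 : W ≠ ⊥)
    (hex : ¬ (Fintype.card F ≤ 3 ∧ finrank F W = 2 ∧ ∃ s ∈ W, s ≠ 0 ∧ Q s = 0))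
    (hni : ∀ g : O Q, ¬ ∀ u ∈ U, act Q g u ∈ W) :
    Cfsg.Geo.IsMaximalIn (Cfsg.Geo.omegaGL (⇑Q))
      (Cfsg.Geo.subspaceStabilizer W ⊓ Cfsg.Geo.omegaGL (⇑Q)) := by
  classical
  have hstab' : ∀ g : O Q, (g : GL ι F) ∈ Cfsg.Geo.subspaceStabilizer W → ∀ w ∈ W, act Q g w ∈ W :=
    fun g hg w hw => (hg w).1 hw
  have hU' : ∀ g : O Q, (∀ u ∈ U, act Q g u ∈ U) → ∀ w ∈ W, act Q g w ∈ W := fun g hg => mapsU hs.symm hg
  obtain ⟨a, haU, ha0, hQa, -⟩ := sing_in Q U (![] : Fin 0 → Dual F (ι → F)) (by omega)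
  obtain ⟨c, hcU, hQc, hca⟩ := partner_in hs haU ha0 hQa
  refine ⟨lt_of_le_of_ne inf_le_right fun e => ?_, fun M h1 h2 => ?_⟩
  · obtain ⟨w, hw, hw0⟩ := Submodule.exists_mem_ne_zero_of_ne_bot hW0
    have haw : polar Q a w = 0 := hs.orth' haU hw
    have h := mapsU hs (hstab' _ (e.ge (NotMax.mem_omegaGL _ (sO_mem_commutator Q hQ hn a w hQa haw))).1) c hcU
    rw [act_sO, hca, one_smul] at h
    have hcw : polar Q c w = 0 := hs.orth' hcU hw
    rw [hcw, zero_add, mul_one] at h
    have := U.sub_mem (U.add_mem h (U.smul_mem (Q w) haU)) hcU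
    rw [sub_add_cancel, add_sub_cancel_left] at this
    exact hw0 (hs.inter hw this)
  by_cases hne : ∀ g ∈ M, g ∈ Cfsg.Geo.subspaceStabilizer W
  · exact Or.inl (le_antisymm (le_inf hne h2) h1)
  right
  push Not at hne
  obtain ⟨_, hgM, hgS⟩ := hne
  obtain ⟨g, -, rfl⟩ := h2 hgM
  set M' := M.comap (isometryGroup F (⇑Q)).subtype with hM'
  have hH : ∀ h : O Q, h ∈ commutator (O Q) → (∀ w ∈ W, act Q h w ∈ W) → h ∈ M' := fun h hh hs' =>
    h1 ⟨MaxLin.mem_stabilizer_of_mapsTo hs', NotMax.mem_omegaGL h hh⟩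
  have hMU : ∀ a ∈ U, ∀ b ∈ U, ∀ (ha : Q a = 0) (hab : polar Q a b = 0), sO Q a b ha hab ∈ M' :=
    fun a ha b hb hQa hab => hH _ (sO_mem_commutator Q hQ hn _ _ _ _) (stab_sO_U hs ha hb hQa hab)
  have hgU : ∃ u ∈ U, act Q g u ∉ U := by
    by_contra hc'; push Not at hc'; exact hgS (MaxLin.mem_stabilizer_of_mapsTo (hU' g hc'))
  obtain ⟨a₁, ha₁, ha₁0, hQa₁, w₁, hw₁, hw₁0, hmix⟩ : ∃ a' ∈ U, a' ≠ 0 ∧ ∃ (h : Q a' = 0), ∃ w ∈ W, w ≠ 0 ∧
      ∀ (h' : polar Q a' w = 0), sO Q a' w h h' ∈ M' := by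
    by_cases hA : ∃ a b, a ∈ U ∧ b ∈ U ∧ ∃ (ha : Q a = 0) (hab : polar Q a b = 0),
        ∃ u ∈ U, act Q (g * sO Q a b ha hab * g⁻¹) u ∉ U
    · obtain ⟨a', b', ha', hb', hQa', hab', hmove⟩ := hA
      have hm : g * sO Q a' b' hQa' hab' * g⁻¹ ∈ M' :=
        mul_mem (mul_mem hgM (hMU a' ha' b' hb' hQa' hab')) (inv_mem (show g ∈ M' from hgM))
      obtain ⟨x, hxU, hx0, hQx, hL⟩ := sing_in Q U ![(polarBilin Q).flip (act Q g a'),
        (polarBilin Q).flip (act Q g b')] (by omega)
      refine mixed hs hl hMU hm hmove hxU hx0 hQx ?_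
      obtain ⟨y, rfl⟩ : ∃ y, x = act Q g y := ⟨_, (act_inv Q g x).symm⟩
      have hya : polar Q y a' = 0 := by rw [← polar_act Q g]; exact hL 0
      have hyb : polar Q y b' = 0 := by rw [← polar_act Q g]; exact hL 1
      rw [act_mul, act_mul, act_inv', act_sO, hya, hyb, zero_smul, add_zero, mul_zero, add_zero, zero_smul, sub_zero]
      exact hxU
    push Not at hA
    obtain ⟨s, hs', y, hy, hy0, hsy⟩ : ∃ s, act Q g s ∈ U ∧ ∃ y ∈ U, y ≠ 0 ∧ ∃ w ∈ W, s = w + y := by
      by_contra hc'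
      push Not at hc'
      refine hni g⁻¹ fun u hu => ?_
      obtain ⟨w, hw, y, hy, e⟩ := hs.cover (act Q g⁻¹ u)
      rcases eq_or_ne y 0 with rfl | hy0
      · rw [e, add_zero]; exact hw
      · exact absurd e (hc' _ (by rw [act_inv]; exact hu) y hy hy0 w hw)
    obtain ⟨w, hw, rfl⟩ := hsy
    obtain ⟨p, hp, hQp, hyp⟩ := sing_nonorth_in hs hl hy hy0
    obtain ⟨b, hb, hb0, hQb, hL⟩ := sing_in Q U ![(polarBilin Q).flip p, (polarBilin Q).flip y] (by omega)
    have hbp : polar Q p b = 0 := by rw [polar_comm]; exact hL 0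
    have hyb : polar Q y b = 0 := by rw [polar_comm]; exact hL 1
    refine mixed hs hl hMU hgM hgU hb hb0 hQb ?_
    have h := hA p b hp hb hQp hbp _ hs'
    rw [act_mul, act_mul, act_inv', act_sO, polar_add_left, polar_add_left, hs.orth w hw p hp, hs.orth w hw b hb,
      zero_add, zero_add, hyb, hQb, zero_mul, add_zero, zero_smul, sub_zero, act_add, act_smul] at h
    have h3 := U.sub_mem h hs'
    rw [add_sub_cancel_left] at h3
    have := U.smul_mem (polar Q y p)⁻¹ h3
    rwa [inv_smul_smul₀ hyp] at this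
  have scen : ∀ a ∈ U, a ≠ 0 → ∀ (hQa : Q a = 0), SCen Q M' a := by
    intro a ha ha0 hQa
    have hor : ∀ w ∈ W, polar Q a w = 0 := fun w hw => hs.orth' ha hw
    have haa : polar Q a a = 0 := by rw [polar_diag, hQa, mul_zero]
    have hconj : ∀ h : O Q, h ∈ M' → ∀ (a' w : V) (hQa' : Q a' = 0) (h' : polar Q a' w = 0),
        sO Q a' w hQa' h' ∈ M' → ∀ (h₁ : Q (act Q h a') = 0) (h₂ : polar Q (act Q h a') (act Q h w) = 0),
        sO Q _ _ h₁ h₂ ∈ M' := by
      intro h hh a' w hQa' h' hm h₁ h₂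
      rw [show sO Q _ _ h₁ h₂ = h * sO Q a' w hQa' h' * h⁻¹ from O_ext Q fun x => by
        obtain ⟨y, rfl⟩ : ∃ y, x = act Q h y := ⟨_, (act_inv Q h x).symm⟩
        rw [act_mul, act_mul, act_inv', act_sO, act_sO, act_sub, act_add, act_smul, act_smul, polar_act, polar_act,
          Q_act]]
      exact mul_mem (mul_mem hh hm) (inv_mem hh)
    let A : Submodule F (ι → F) :=
      { carrier := {w | w ∈ W ∧ ∀ h' : polar Q a w = 0, sO Q a w hQa h' ∈ M'}
        zero_mem' := ⟨W.zero_mem, fun h' => by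
          rw [show sO Q a 0 hQa h' = 1 from O_ext Q fun x => by
            rw [act_sO]; simp [act, Matrix.one_mulVec]]
          exact one_mem _⟩
        add_mem' := fun {u v} hu hv => ⟨W.add_mem hu.1 hv.1, fun h' => by
          rw [show sO Q a (u + v) hQa h' = sO Q a u hQa (hor u hu.1) * sO Q a v hQa (hor v hv.1) from O_ext Q fun x => by
            rw [act_mul, act_sO, act_sO, act_sO, Q_add]
            simp only [polar_add_left, polar_sub_left, polar_smul_left, polar_add_right, smul_eq_mul, haa,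
              polar_comm (⇑Q) v a, hor u hu.1, hor v hv.1, polar_comm (⇑Q) v u]
            module]
          exact mul_mem (hu.2 _) (hv.2 _)⟩
        smul_mem' := fun t w hw => ⟨W.smul_mem t hw.1, fun h' => by
          rcases eq_or_ne t 0 with rfl | ht
          · rw [show sO Q a ((0 : F) • w) hQa h' = 1 from O_ext Q fun x => by
              rw [act_sO]; simp [act, Matrix.one_mulVec]]
            exact one_mem _
          obtain ⟨h, hh, hfix, hha⟩ := trans_in hs hQ hn hl ha (U.smul_mem t ha) ha0 (smul_ne_zero ht ha0) hQa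
            (by rw [Q_smul, hQa, mul_zero])
          have h₂ : polar Q (act Q h a) (act Q h w) = 0 := by rw [polar_act]; exact hor w hw.1
          have := hconj h (hH h hh fun x hx => by rw [hfix x hx]; exact hx) a w hQa (hor w hw.1) (hw.2 _)
            (by rw [Q_act, hQa]) h₂
          rw [show sO Q a (t • w) hQa h' = sO Q (act Q h a) (act Q h w) (by rw [Q_act, hQa]) h₂ from O_ext Q fun x => by
            rw [act_sO, act_sO]
            simp only [hha, hfix w hw.1, polar_smul_right, Q_smul, smul_eq_mul]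
            module]
          exact this⟩ }
    have hAW : A ≤ W := fun w hw => hw.1
    have hA0 : A ≠ ⊥ := by
      obtain ⟨h, hh, hfix, hha⟩ := trans_in hs hQ hn hl ha₁ ha ha₁0 ha0 hQa₁ hQa
      refine (Submodule.ne_bot_iff _).2 ⟨w₁, ⟨hw₁, fun h' => ?_⟩, hw₁0⟩
      have h₂ : polar Q (act Q h a₁) (act Q h w₁) = 0 := by rw [polar_act]; exact hs.orth' ha₁ hw₁
      have := hconj h (hH h hh fun x hx => by rw [hfix x hx]; exact hx) a₁ w₁ hQa₁ (hs.orth' ha₁ hw₁) (hmix _)
        (by rw [Q_act, hQa₁]) h₂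
      simp only [hha, hfix w₁ hw₁] at this
      exact this
    have hAtop : A = W := by
      by_contra hAne
      refine moved hs hAW hA0 hAne hex (fun v hv hQv x hx => ?_) (fun p hp s hs'' hQp hps x hx => ?_)
      · obtain ⟨d, hd, d', hd', hQd, hQd', hdd', had, had', -⟩ := pair_in hs hl ha ha0 hQa
        set u := d + Q v • d' with hu
        have huU : u ∈ U := U.add_mem hd (U.smul_mem _ hd')
        have hQu : Q u = Q v := by rw [hu, Q_add, Q_smul, hQd, hQd', polar_smul_right, hdd', smul_eq_mul]; ring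
        have hQu0 : Q u ≠ 0 := by rw [hQu]; exact hQv
        have hua : polar Q u a = 0 := by
          rw [polar_comm, hu, polar_add_right, polar_smul_right, had, had']; simp
        set h := refl Q v hQv * refl Q u hQu0 with hh'
        have hh : h ∈ commutator (O Q) := by
          rw [show h = Disc.reflList Q [⟨v, hQv⟩, ⟨u, hQu0⟩] from by
            show refl Q v hQv * refl Q u hQu0 = refl Q v hQv * (refl Q u hQu0 * 1); rw [mul_one],
            reflList_mem_iff Q hQ (by omega) (Or.inr (by omega))]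
          exact ⟨by simp, ⟨Q v, by simp [hQu]⟩⟩
        have hW' : ∀ y ∈ W, act Q h y = y - ((Q v)⁻¹ * polar Q v y) • v := fun y hy => by
          rw [hh', act_mul, act_refl (v := u), hs.orth' huU hy, mul_zero, zero_smul, sub_zero, act_refl]
        have ha' : act Q h a = a := by
          rw [hh', act_mul, act_refl (v := u), hua, mul_zero, zero_smul, sub_zero, act_refl, hs.orth v hv a ha,
            mul_zero, zero_smul, sub_zero]
        have hm : h ∈ M' := hH h hh fun y hy => by rw [hW' y hy]; exact W.sub_mem hy (W.smul_mem _ hv)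
        refine ⟨W.sub_mem hx.1 (W.smul_mem _ hv), fun h' => ?_⟩
        have := hconj h hm a x hQa (hor x hx.1) (hx.2 _) (by rw [Q_act, hQa]) (by rw [polar_act]; exact hor x hx.1)
        simp only [ha', hW' x hx.1] at this
        exact this
      · have hm : sO Q p s hQp hps ∈ M' :=
          hH _ (sO_mem_commutator Q hQ hn _ _ _ _) (stab_sO_W hs hp hs'' hQp hps)
        refine ⟨stab_sO_W hs hp hs'' hQp hps x hx.1, fun h' => ?_⟩
        have ha' : act Q (sO Q p s hQp hps) a = a := by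
          rw [act_sO, hs.orth' ha hp, hs.orth' ha hs'']; simp
        have := hconj _ hm a x hQa (hor x hx.1) (hx.2 _) (by rw [Q_act, hQa]) (by rw [polar_act]; exact hor x hx.1)
        simp only [ha'] at this
        exact this
    refine ⟨hQa, fun b hab => ?_⟩
    obtain ⟨w, hw, u, hu, rfl⟩ := hs.cover b
    have hau : polar Q a u = 0 := by rw [polar_add_right, hor w hw, zero_add] at hab; exact hab
    rw [show sO Q a (w + u) hQa hab = sO Q a w hQa (hor w hw) * sO Q a u hQa hau from O_ext Q fun x => by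
      rw [act_mul, act_sO, act_sO, act_sO, Q_add]
      simp only [polar_add_left, polar_sub_left, polar_smul_left, polar_add_right, smul_eq_mul, haa,
        polar_comm (⇑Q) u a, hor w hw, hau, polar_comm (⇑Q) u w]
      module]
    exact mul_mem ((hAtop.ge hw : w ∈ A).2 _) (hMU a ha u hu hQa hau)
  have hc0 : c ≠ 0 := fun e => by rw [e, polar_zero_left] at hca; exact zero_ne_one hca
  refine le_antisymm h2 ?_
  rintro _ ⟨k, hk, rfl⟩
  exact E_le Q hQ hn (scen_all Q hQ hn (scen a haU ha0 hQa) (scen c hcU hc0 hQc)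
    (by rw [polar_comm, hca]; exact one_ne_zero)) hk

end Cfsg.Agent.Classical.Siegel
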