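import Cfsg.Agent.Lib.Classical.MaxOrthNondeg
import Cfsg.Agent.Lib.Classical.SympInvolution

/-!
Stabilisers of non-degenerate subspaces: choosing the larger summand, and isometric halves of even dimension.
-/

set_option autoImplicit false
set_option linter.unusedSectionVars false

open Module Matrix QuadraticMap

namespace Cfsg.Agent.Classical.Siegel

open Refl MaxLin

variable {F : Type*} [Field F] [Fintype F] {ι : Type} [Fintype ι] [DecidableEq ι] {Q : QuadraticForm F (ι → F)}
variable {W U : Submodule F (ι → F)}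

theorem Split.of_orthogonal (hQ : (polarBilin Q).Nondegenerate)
    (hW : Cfsg.Geo.IsNondegenerateOn (polar Q) W) :
    Split Q W (LinearMap.BilinForm.orthogonal (polarBilin Q) W) := by
  have hnd : ∀ w ∈ W, (∀ y ∈ W, polar Q y w = 0) → w = 0 := fun w hw h => by
    by_contra h0
    obtain ⟨x, hx, hxw⟩ := (hW w hw h0).1
    exact hxw (h x hx)
  have hor : ∀ w ∈ W, ∀ u ∈ LinearMap.BilinForm.orthogonal (polarBilin Q) W, polar Q w u = 0 :=
    fun w hw u hu => hu w hw
  have hcov : ∀ x : ι → F, ∃ w ∈ W, ∃ u ∈ LinearMap.BilinForm.orthogonal (polarBilin Q) W, x = w + u := by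
    intro x
    let φ : W →ₗ[F] Dual F W := LinearMap.mk₂ F (fun u v => polar Q (u : ι → F) (v : ι → F))
      (fun u u' v => by simp [polar_add_left]) (fun r u v => by simp [polar_smul_left])
      (fun u v v' => by simp [polar_add_right]) (fun r u v => by simp [polar_smul_right])
    have hinj : Function.Injective φ := (injective_iff_map_eq_zero φ).2 fun u hu => Subtype.ext (hnd u u.2 fun y hy => by
      rw [polar_comm]; exact LinearMap.congr_fun hu ⟨y, hy⟩)
    obtain ⟨p, hp⟩ := (LinearMap.injective_iff_surjective_of_finrank_eq_finrank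
      Subspace.dual_finrank_eq.symm).1 hinj ((polarBilin Q x).comp W.subtype)
    refine ⟨p, p.2, x - p, fun y hy => ?_, by abel⟩
    have h1 := LinearMap.congr_fun hp ⟨y, hy⟩
    change polar Q (p : ι → F) y = polar Q x y at h1
    show polar Q y (x - p) = 0
    rw [polar_sub_right, polar_comm (⇑Q) y x, polar_comm (⇑Q) y (p : ι → F), h1, sub_self]
  refine ⟨hor, hcov, hnd, fun u hu h => eq_zero_of Q hQ u fun x => ?_⟩
  obtain ⟨w, hw, u', hu', rfl⟩ := hcov x
  rw [polar_add_left, hor w hw u hu, h u' hu', add_zero]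

theorem Split.finrank_eq (hs : Split Q W U) : finrank F W + finrank F U = Fintype.card ι := by
  have h1 := Submodule.finrank_sup_add_finrank_inf_eq W U
  have h2 : W ⊔ U = ⊤ := eq_top_iff.2 fun x _ => by
    obtain ⟨w, hw, u, hu, rfl⟩ := hs.cover x
    exact Submodule.add_mem_sup hw hu
  have h3 : W ⊓ U = ⊥ := eq_bot_iff.2 fun x hx => (Submodule.mem_bot F).2 (hs.inter hx.1 hx.2)
  rw [h2, h3, finrank_top, finrank_bot, finrank_pi] at h1
  omega

theorem Split.stab_eq (hs : Split Q W U) :
    Cfsg.Geo.subspaceStabilizer W ⊓ Cfsg.Geo.omegaGL (⇑Q) =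
      Cfsg.Geo.subspaceStabilizer U ⊓ Cfsg.Geo.omegaGL (⇑Q) := by
  ext g
  constructor <;> rintro ⟨hg, hΩ⟩ <;> obtain ⟨k, hk, rfl⟩ := hΩ
  · exact ⟨MaxLin.mem_stabilizer_of_mapsTo (mapsU hs (g := k) fun w hw => (hg w).1 hw), k, hk, rfl⟩
  · exact ⟨MaxLin.mem_stabilizer_of_mapsTo (mapsU hs.symm (g := k) fun w hw => (hg w).1 hw), k, hk, rfl⟩

theorem finrank_le_of_maps {g : O Q} (h : ∀ u ∈ U, act Q g u ∈ W) : finrank F U ≤ finrank F W :=
  LinearMap.finrank_le_finrank_of_injective
    (f := (Matrix.toLin' ((g : GL ι F) : Matrix ι ι F)).restrict (p := U) (q := W) fun u hu => by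
      rw [Matrix.toLin'_apply]; exact h u hu)
    fun x y e => Subtype.ext (by
      have := congrArg (fun z : W => act Q g⁻¹ (z : ι → F)) e
      simpa [LinearMap.restrict_apply, Matrix.toLin'_apply, act_inv', show ∀ z : ι → F,
        ((g : GL ι F) : Matrix ι ι F) *ᵥ z = act Q g z from fun _ => rfl] using this)

theorem areIsometricFor_of_maps {g : O Q} (h : ∀ u ∈ U, act Q g u ∈ W) (he : finrank F U = finrank F W) :
    Cfsg.Geo.AreIsometricFor (⇑Q) U W := by
  have hinj : Function.Injective ((Matrix.toLin' ((g : GL ι F) : Matrix ι ι F)).restrict (p := U) (q := W) fun u hu => by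
      rw [Matrix.toLin'_apply]; exact h u hu) := fun x y e => Subtype.ext (by
      have := congrArg (fun z : W => act Q g⁻¹ (z : ι → F)) e
      simpa [LinearMap.restrict_apply, Matrix.toLin'_apply, show ∀ z : ι → F,
        ((g : GL ι F) : Matrix ι ι F) *ᵥ z = act Q g z from fun _ => rfl, act_inv'] using this)
  refine ⟨LinearEquiv.ofBijective _ ⟨hinj, (LinearMap.injective_iff_surjective_of_finrank_eq_finrank he).1 hinj⟩,
    fun w => ?_⟩
  show Q (Matrix.toLin' ((g : GL ι F) : Matrix ι ι F) w) = Q w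
  rw [Matrix.toLin'_apply]
  exact Q_act Q g w

variable (hQ : (polarBilin Q).Nondegenerate)

include hQ

/-- The stabiliser of one summand of an orthogonal splitting is maximal. -/
theorem split_stab_maximal (hn : 13 ≤ Fintype.card ι) (hs : Split Q W U) (hW0 : W ≠ ⊥) (hU0 : U ≠ ⊥)
    (hexW : ¬ (Fintype.card F ≤ 3 ∧ finrank F W = 2 ∧ ∃ s ∈ W, s ≠ 0 ∧ Q s = 0))
    (hexU : ¬ (Fintype.card F ≤ 3 ∧ finrank F U = 2 ∧ ∃ s ∈ U, s ≠ 0 ∧ Q s = 0))
    (hni : finrank F U = finrank F W → ¬ Cfsg.Geo.AreIsometricFor (⇑Q) U W) :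
    Cfsg.Geo.IsMaximalIn (Cfsg.Geo.omegaGL (⇑Q))
      (Cfsg.Geo.subspaceStabilizer W ⊓ Cfsg.Geo.omegaGL (⇑Q)) := by
  have h := hs.finrank_eq
  rcases lt_trichotomy (finrank F W) (finrank F U) with hlt | heq | hgt
  · exact nondeg_stab_maximal hs hQ (by omega) (by omega) hW0 hexW fun g hg =>
      absurd (finrank_le_of_maps hg) (not_le.2 hlt)
  · exact nondeg_stab_maximal hs hQ (by omega) (by omega) hW0 hexW fun g hg =>
      hni heq.symm (areIsometricFor_of_maps hg heq.symm)
  · rw [hs.stab_eq]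
    exact nondeg_stab_maximal hs.symm hQ (by omega) (by omega) hU0 hexU fun g hg =>
      absurd (finrank_le_of_maps hg) (not_le.2 hgt)

omit hQ in
/-- Two isometric orthogonal halves of even dimension give a totally singular half. -/
theorem ts_half (hs : Split Q W U) (hev : Even (finrank F U)) (hiso : Cfsg.Geo.AreIsometricFor (⇑Q) U W) :
    ∃ T : Submodule F (ι → F), (∀ t ∈ T, Q t = 0) ∧ finrank F T = finrank F U := by
  obtain ⟨e, he⟩ := hiso
  let φ : U →ₗ[F] (ι → F) := W.subtype ∘ₗ e.toLinearMap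
  have hφQ : ∀ u : U, Q (φ u) = Q (u : ι → F) := fun u => he u
  have hφW : ∀ u : U, φ u ∈ W := fun u => (e u).2
  have hφB : ∀ u v : U, polar Q (φ u) (φ v) = polar Q (u : ι → F) (v : ι → F) := fun u v => by
    simp only [polar, ← map_add, hφQ, Submodule.coe_add]
  by_cases h2 : (2 : F) = 0
  · let f : U →ₗ[F] (ι → F) := U.subtype + φ
    have hf : Function.Injective f := (injective_iff_map_eq_zero f).2 fun u hu => Subtype.ext (by
      have h : (u : ι → F) = -φ u := eq_neg_of_add_eq_zero_left hu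
      exact hs.inter (h ▸ W.neg_mem (hφW u)) u.2)
    refine ⟨LinearMap.range f, ?_, LinearMap.finrank_range_of_inj hf⟩
    rintro _ ⟨u, rfl⟩
    show Q ((u : ι → F) + φ u) = 0
    rw [Q_add, hs.orth' u.2 (hφW u), hφQ]
    linear_combination Q (u : ι → F) * h2
  haveI : Invertible (2 : F) := invertibleOfNonzero h2
  obtain ⟨b, hb⟩ := LinearMap.BilinForm.exists_orthogonal_basis
    (B := LinearMap.BilinForm.restrict (polarBilin Q) U) ⟨fun x y => polar_comm (⇑Q) (x : ι → F) y⟩
  obtain ⟨j, hj⟩ := hev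
  have hjj : finrank F U = j * 2 := by omega
  let b' : Basis (Fin j × Fin 2) F U := b.reindex ((finCongr hjj).trans finProdFinEquiv.symm)
  have hb' : ∀ i i', i ≠ i' → polar Q (b' i : ι → F) (b' i' : ι → F) = 0 := fun i i' h => by
    simp only [b', Basis.reindex_apply]
    exact hb (fun h' => h (Equiv.injective _ h'))
  have hα : ∀ i, Q (b' i : ι → F) ≠ 0 := fun i h => by
    refine b'.ne_zero i (Subtype.ext (hs.ndU _ (b' i).2 fun y hy => ?_))
    have : (⟨y, hy⟩ : U) = ∑ k, b'.repr ⟨y, hy⟩ k • b' k := (b'.sum_repr _).symm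
    have h' : y = ∑ k, b'.repr ⟨y, hy⟩ k • (b' k : ι → F) := by
      refine (congrArg Subtype.val this).trans ?_
      rw [Submodule.coe_sum]
      rfl
    rw [h', ← polarBilin_apply_apply, map_sum, LinearMap.sum_apply]
    refine Finset.sum_eq_zero fun k _ => ?_
    rw [polarBilin_apply_apply, polar_smul_left]
    rcases eq_or_ne k i with rfl | hki
    · rw [polar_diag, h]; simp
    · rw [hb' k i hki, smul_zero]
  choose z w hzw using fun i : Fin j =>
    Sp.exists_sq_add_sq h2 (-(Q (b' (i, 0) : ι → F) / Q (b' (i, 1) : ι → F)))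
  let v : Fin j × Fin 2 → (ι → F) := fun i =>
    if i.2 = 0 then (b' (i.1, 0) : ι → F) + z i.1 • (b' (i.1, 1) : ι → F) + w i.1 • φ (b' (i.1, 1))
    else φ (b' (i.1, 0)) + (-w i.1) • (b' (i.1, 1) : ι → F) + z i.1 • φ (b' (i.1, 1))
  have hBUW : ∀ (u : U) (u' : U), polar Q (u : ι → F) (φ u') = 0 := fun u u' => hs.orth' u.2 (hφW u')
  have hBWU : ∀ (u : U) (u' : U), polar Q (φ u') (u : ι → F) = 0 := fun u u' => hs.orth _ (hφW u') _ u.2
  have hvv : ∀ p p', polar Q (v p) (v p') = 0 := by
    rintro ⟨a, k⟩ ⟨a', k'⟩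
    have hdiv : (z a ^ 2 + w a ^ 2) * Q (b' (a, 1) : ι → F) = -Q (b' (a, 0) : ι → F) := by
      rw [hzw, neg_mul, div_mul_cancel₀ _ (hα _)]
    by_cases haa : a = a'
    · subst haa
      fin_cases k <;> fin_cases k' <;>
      · simp only [v, Fin.isValue, Fin.mk_one, Fin.zero_eta, ↓reduceIte, show (1 : Fin 2) ≠ 0 by decide,
          polar_add_left, polar_add_right, polar_smul_left, polar_smul_right, smul_eq_mul, hBUW, hBWU, hφB,
          hb' (a, 0) (a, 1) (by simp), hb' (a, 1) (a, 0) (by simp)]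
        rw [polar_diag Q (b' (a, 1) : ι → F)]
        try rw [polar_diag Q (b' (a, 0) : ι → F)]
        first
          | linear_combination 2 * hdiv
          | ring
    · have h0 : ∀ c c', polar Q (b' (a, c) : ι → F) (b' (a', c') : ι → F) = 0 := fun c c' =>
        hb' _ _ (fun h => haa (congrArg Prod.fst h))
      fin_cases k <;> fin_cases k' <;>
        simp [v, polar_add_left, polar_add_right, polar_smul_left, polar_smul_right, hBUW, hBWU, hφB, h0]
  have hts : ∀ t ∈ Submodule.span F (Set.range v), Q t = 0 := by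
    intro t ht
    have hort : ∀ x ∈ Submodule.span F (Set.range v), ∀ y ∈ Submodule.span F (Set.range v), polar Q x y = 0 := by
      intro x hx
      induction hx using Submodule.span_induction with
      | mem x hx =>
        obtain ⟨p, rfl⟩ := hx
        intro y hy
        induction hy using Submodule.span_induction with
        | mem y hy => obtain ⟨p', rfl⟩ := hy; exact hvv p p'
        | zero => rw [polar_zero_right]
        | add y y' _ _ h h' => rw [polar_add_right, h, h', add_zero]
        | smul c y _ h => rw [polar_smul_right, h, smul_zero]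
      | zero => intro y _; rw [polar_zero_left]
      | add x x' _ _ h h' => intro y hy; rw [polar_add_left, h y hy, h' y hy, add_zero]
      | smul c x _ h => intro y hy; rw [polar_smul_left, h y hy, smul_zero]
    have := hort t ht t ht
    rw [polar_diag] at this
    exact (mul_eq_zero.1 this).resolve_left h2
  refine ⟨_, hts, ?_⟩
  rw [finrank_span_eq_card, Fintype.card_prod, Fintype.card_fin, Fintype.card_fin]
  · omega
  rw [Fintype.linearIndependent_iff]
  intro c hc i
  simp only [Fintype.sum_prod_type, Fin.sum_univ_two, v] at hc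
  simp only [Fin.isValue, ↓reduceIte, show (1 : Fin 2) ≠ 0 by decide] at hc
  obtain ⟨i, k⟩ := i
  have hu := hs.unique (w := φ (∑ a, (c (a, 0) • w a • b' (a, 1) + c (a, 1) • b' (a, 0) + c (a, 1) • z a • b' (a, 1))))
    (u := ((∑ a, (c (a, 0) • b' (a, 0) + c (a, 0) • z a • b' (a, 1) + c (a, 1) • (-w a) • b' (a, 1)) : U) : ι → F))
    (hφW _) W.zero_mem (Submodule.coe_mem _) U.zero_mem (by
      rw [zero_add, ← hc, map_sum, Submodule.coe_sum, ← Finset.sum_add_distrib]
      refine Finset.sum_congr rfl fun a _ => ?_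
      simp only [map_add, map_smul, Submodule.coe_add, Submodule.coe_smul]
      module)
  have hinj : ∀ u : U, φ u = 0 → u = 0 := fun u hu => e.injective (by rw [map_zero]; exact Subtype.ext hu)
  have coef : ∀ (f : Fin j → Fin 2 → F), (∑ a, (f a 0 • b' (a, 0) + f a 1 • b' (a, 1)) : U) = 0 → ∀ a k, f a k = 0 := by
    intro f hf a k
    have := Fintype.linearIndependent_iff.1 b'.linearIndependent (fun p => f p.1 p.2)
      (by rw [← hf, Fintype.sum_prod_type]; simp [Fin.sum_univ_two]) (a, k)
    exact this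
  have hU0 : (∑ a, (c (a, 0) • b' (a, 0) + (c (a, 0) * z a - c (a, 1) * w a) • b' (a, 1)) : U) = 0 := by
    refine Subtype.ext (Eq.trans ?_ hu.2)
    congr 1
    exact Finset.sum_congr rfl fun a _ => by module
  have hW0' : (∑ a, (c (a, 1) • b' (a, 0) + (c (a, 0) * w a + c (a, 1) * z a) • b' (a, 1)) : U) = 0 := by
    refine hinj _ (Eq.trans ?_ hu.1)
    congr 1
    exact Finset.sum_congr rfl fun a _ => by module
  fin_cases k
  · exact coef (fun a => ![c (a, 0), c (a, 0) * z a - c (a, 1) * w a]) (by simpa using hU0) i 0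
  · exact coef (fun a => ![c (a, 1), c (a, 0) * w a + c (a, 1) * z a]) (by simpa using hW0') i 0

end Cfsg.Agent.Classical.Siegel
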