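import Cfsg.Agent.Lib.Classical.MaxOrthVector

/-!
The stabiliser of a pair of complementary totally singular subspaces is maximal in the orthogonal commutator group.
-/

set_option autoImplicit false
set_option linter.unusedSectionVars false

open Module Matrix QuadraticMap

namespace Cfsg.Agent.Classical.Siegel

open Refl MaxLin

variable {F : Type*} [Field F] [Fintype F] {ι : Type} [Fintype ι] [DecidableEq ι] (Q : QuadraticForm F (ι → F))

local notation "V" => ι → F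

/-- Two complementary totally singular subspaces. -/
structure TsPair (X Y : Submodule F (ι → F)) : Prop where
  tsX : ∀ x ∈ X, Q x = 0
  tsY : ∀ y ∈ Y, Q y = 0
  inter : ∀ z ∈ X, z ∈ Y → z = 0
  cover : ∀ z : ι → F, ∃ x ∈ X, ∃ y ∈ Y, z = x + y
  bigX : 7 ≤ finrank F X
  bigY : 7 ≤ finrank F Y

variable {Q} {X Y : Submodule F (ι → F)}

theorem conj_mem {M : Subgroup (O Q)} {h : O Q} (hh : h ∈ M) {a b a' b' : V} {ha : Q a = 0} {hab : polar Q a b = 0}
    (hm : sO Q a b ha hab ∈ M) (h1 : act Q h a = a') (h2 : act Q h b = b') (ha' : Q a' = 0)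
    (hab' : polar Q a' b' = 0) : sO Q a' b' ha' hab' ∈ M := by
  subst h1 h2
  rw [show sO Q _ _ ha' hab' = h * sO Q a b ha hab * h⁻¹ from O_ext Q fun x => by
    obtain ⟨y, rfl⟩ : ∃ y, x = act Q h y := ⟨_, (act_inv Q h x).symm⟩
    rw [act_mul, act_mul, act_inv', act_sO, act_sO, act_sub, act_add, act_smul, act_smul, polar_act, polar_act,
      Q_act]]
  exact mul_mem (mul_mem hh hm) (inv_mem hh)

theorem TsPair.symm (h : TsPair Q X Y) : TsPair Q Y X :=
  ⟨h.tsY, h.tsX, fun z hy hx => h.inter z hx hy,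
    fun z => by obtain ⟨x, hx, y, hy, e⟩ := h.cover z; exact ⟨y, hy, x, hx, e.trans (add_comm _ _)⟩, h.bigY, h.bigX⟩

variable (hp : TsPair Q X Y)

include hp

theorem TsPair.orthX {x x' : V} (hx : x ∈ X) (hx' : x' ∈ X) : polar Q x x' = 0 := by
  rw [polar, hp.tsX _ (X.add_mem hx hx'), hp.tsX _ hx, hp.tsX _ hx']; ring

theorem TsPair.orthY {x x' : V} (hx : x ∈ Y) (hx' : x' ∈ Y) : polar Q x x' = 0 := hp.symm.orthX hx hx'

variable (hQ : (polarBilin Q).Nondegenerate)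

include hQ

theorem TsPair.dual {m : ℕ} (W : Fin m → V) (hW : ∀ i, W i ∈ X) {p : V} (hpX : p ∈ X)
    (h : ∀ r : Fin m → F, p ≠ ∑ i, r i • W i) : ∃ y ∈ Y, (∀ i, polar Q y (W i) = 0) ∧ polar Q y p = 1 := by
  obtain ⟨b, hb, hbp⟩ := exists_dual_vec Q hQ W h
  obtain ⟨x, hx, y, hy, rfl⟩ := hp.cover b
  refine ⟨y, hy, fun i => ?_, ?_⟩
  · have := hb i
    rwa [polar_add_left, hp.orthX hx (hW i), zero_add] at this
  · rwa [polar_add_left, hp.orthX hx hpX, zero_add] at hbp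

variable (hn : 7 ≤ Fintype.card ι)

include hn

omit hQ hn in
theorem exists_outside {m : ℕ} (W : Fin m → V) (y₁ y₂ : V) (hm : m ≤ 3) :
    ∃ x ∈ X, polar Q y₁ x = 0 ∧ polar Q y₂ x = 0 ∧ ∀ r : Fin m → F, x ≠ ∑ i, r i • W i := by
  by_contra hc
  push Not at hc
  let L : X →ₗ[F] (Fin 2 → F) := LinearMap.pi ![(polarBilin Q y₁).comp X.subtype, (polarBilin Q y₂).comp X.subtype]
  have h1 := LinearMap.finrank_range_add_finrank_ker L
  have h2 := Submodule.finrank_le (LinearMap.range L)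
  rw [finrank_fin_fun] at h2
  have h3 : finrank F ((LinearMap.ker L).map X.subtype) ≤ m := by
    refine (Submodule.finrank_mono (t := Submodule.span F (Set.range W)) ?_).trans
      ((finrank_range_le_card _).trans (by simp))
    rintro _ ⟨x, hx, rfl⟩
    have hx0 := congrFun (LinearMap.mem_ker.1 hx) 0
    have hx1 := congrFun (LinearMap.mem_ker.1 hx) 1
    obtain ⟨r, hr⟩ := hc x x.2 hx0 hx1
    exact (Submodule.mem_span_range_iff_exists_fun F).2 ⟨r, hr.symm⟩
  rw [Submodule.finrank_map_subtype_eq] at h3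
  have := hp.bigX
  omega

/-- The pairs `x, p` in `X` whose Siegel transformation lies in `M`. -/
theorem all_pairs {M : Subgroup (O Q)}
    (hM : ∀ x ∈ X, ∀ y ∈ Y, ∀ (h : Q x = 0) (h' : polar Q x y = 0), sO Q x y h h' ∈ M)
    {x₀ x₀' : V} (hx₀ : x₀ ∈ X) (hx₀' : x₀' ∈ X) (hind : ∀ r : F, x₀' ≠ r • x₀) (hx0 : x₀ ≠ 0)
    (hm : sO Q x₀ x₀' (hp.tsX _ hx₀) (hp.orthX hx₀ hx₀') ∈ M) :
    ∀ x (hx : x ∈ X) p (hpX : p ∈ X), sO Q x p (hp.tsX _ hx) (hp.orthX hx hpX) ∈ M := by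
  have spread : ∀ x (hx : x ∈ X) x' (hx' : x' ∈ X), x ≠ 0 → (∀ r : F, x' ≠ r • x) →
      sO Q x x' (hp.tsX _ hx) (hp.orthX hx hx') ∈ M →
      ∀ p (hpX : p ∈ X), sO Q x p (hp.tsX _ hx) (hp.orthX hx hpX) ∈ M := by
    intro x hx x' hx' hx0 hind hm
    have out : ∀ p (hpX : p ∈ X), (∀ r : Fin 2 → F, p ≠ ∑ i, r i • ![x, x'] i) →
        sO Q x p (hp.tsX _ hx) (hp.orthX hx hpX) ∈ M := by
      intro p hpX hout
      obtain ⟨y, hy, hyW, hyx'⟩ := hp.dual hQ ![x, p] (fun i => by fin_cases i <;> assumption) hx' fun r e => by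
        simp only [Fin.sum_univ_two, Matrix.cons_val_zero, Matrix.cons_val_one] at e
        rcases eq_or_ne (r 1) 0 with h1 | h1
        · exact hind (r 0) (by rw [e, h1, zero_smul, add_zero])
        · refine hout ![-(r 1)⁻¹ * r 0, (r 1)⁻¹] ?_
          simp only [Fin.sum_univ_two, Matrix.cons_val_zero, Matrix.cons_val_one]
          rw [e, smul_add, inv_smul_smul₀ h1]
          module
      have hyx : polar Q y x = 0 := hyW 0
      have hyp : polar Q y p = 0 := hyW 1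
      set t := -p with ht
      have htX : t ∈ X := X.neg_mem hpX
      have hty : polar Q t y = 0 := by rw [ht, polar_neg_left, polar_comm, hyp, neg_zero]
      set h := sO Q t y (hp.tsX _ htX) hty with hh
      have hhx : act Q h x = x := by
        rw [hh, act_sO, hp.orthX hx htX, polar_comm (⇑Q) x y, hyx]; simp
      have hhx' : act Q h x' = x' + p := by
        rw [hh, act_sO, hp.orthX hx' htX, polar_comm (⇑Q) x' y, hyx', ht]
        simp
      have h1 : sO Q x (x' + p) (hp.tsX _ hx) (hp.orthX hx (X.add_mem hx' hpX)) ∈ M :=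
        conj_mem (hM t htX y hy _ _) hm hhx hhx' _ _
      rw [show sO Q x (x' + p) (hp.tsX _ hx) (hp.orthX hx (X.add_mem hx' hpX)) =
        sO Q x x' (hp.tsX _ hx) (hp.orthX hx hx') * sO Q x p (hp.tsX _ hx) (hp.orthX hx hpX) from O_ext Q fun z => by
          rw [act_mul, act_sO, act_sO, act_sO, hp.tsX _ (X.add_mem hx' hpX), hp.tsX _ hx', hp.tsX _ hpX]
          simp only [polar_add_left, polar_sub_left, polar_smul_left, polar_add_right, smul_eq_mul,
            hp.orthX hx hx, hp.orthX hpX hx, hp.orthX hx hpX, hp.orthX hx hx', hp.orthX hpX hx']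
          module] at h1
      exact (mul_mem_cancel_left hm).1 h1
    intro p hpX
    by_cases hout : ∀ r : Fin 2 → F, p ≠ ∑ i, r i • ![x, x'] i
    · exact out p hpX hout
    push Not at hout
    obtain ⟨r, hr⟩ := hout
    obtain ⟨q, hq, -, -, hqo⟩ := exists_outside hp ![x, x'] 0 0 (by norm_num)
    have hpq : ∀ s : Fin 2 → F, p - q ≠ ∑ i, s i • ![x, x'] i := fun s e => hqo (r - s) (by
      simp only [Fin.sum_univ_two, Pi.sub_apply] at hr e ⊢
      linear_combination (norm := module) hr - e)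
    rw [show sO Q x p (hp.tsX _ hx) (hp.orthX hx hpX) =
      sO Q x (p - q) (hp.tsX _ hx) (hp.orthX hx (X.sub_mem hpX hq)) * sO Q x q (hp.tsX _ hx) (hp.orthX hx hq) from
      O_ext Q fun z => by
        rw [act_mul, act_sO, act_sO, act_sO, hp.tsX _ (X.sub_mem hpX hq), hp.tsX _ hq, hp.tsX _ hpX]
        simp only [polar_add_left, polar_sub_left, polar_smul_left, polar_sub_right, smul_eq_mul,
          hp.orthX hx hx, hp.orthX hx hq, hp.orthX hq hx, hp.orthX hx hpX, hp.orthX hq hpX, hp.orthX hq hq]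
        module]
    exact mul_mem (out _ (X.sub_mem hpX hq) hpq) (out q hq hqo)
  intro x hx p hpX
  rcases eq_or_ne x 0 with rfl | hxne
  · rw [show sO Q 0 p (hp.tsX _ hx) (hp.orthX hx hpX) = 1 from O_ext Q fun z => by
      rw [act_sO, polar_zero_right, zero_smul, smul_zero, add_zero, sub_zero]; exact (Matrix.one_mulVec z).symm]
    exact one_mem _
  obtain ⟨q, hq, -, -, hqo⟩ := exists_outside hp ![x₀, x] 0 0 (by norm_num)
  have swap : ∀ a (ha : a ∈ X) b (hb : b ∈ X), sO Q a b (hp.tsX _ ha) (hp.orthX ha hb) =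
      sO Q b (-a) (hp.tsX _ hb) (hp.orthX hb (X.neg_mem ha)) := fun a ha b hb => O_ext Q fun z => by
    rw [act_sO, act_sO, polar_neg_right, hp.tsX _ hb, hp.tsX _ (X.neg_mem ha)]
    module
  have hq0 : q ≠ 0 := fun e => hqo 0 (by simp [e])
  have hxq : ∀ r : F, x ≠ r • q := fun r e => by
    rcases eq_or_ne r 0 with rfl | hr
    · exact hxne (by rw [e, zero_smul])
    · refine hqo ![0, r⁻¹] ?_
      simp only [Fin.sum_univ_two, Matrix.cons_val_zero, Matrix.cons_val_one]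
      rw [e, inv_smul_smul₀ hr]; simp
  have hqx₀ : ∀ r : F, -x₀ ≠ r • q := fun r e => by
    rcases eq_or_ne r 0 with rfl | hr
    · exact hx0 (by simpa using e)
    · refine hqo ![-r⁻¹, 0] ?_
      simp only [Fin.sum_univ_two, Matrix.cons_val_zero, Matrix.cons_val_one, neg_smul, ← smul_neg]
      rw [e, inv_smul_smul₀ hr]; simp
  have h1 := spread x₀ hx₀ x₀' hx₀' hx0 hind hm q hq
  rw [swap x₀ hx₀ q hq] at h1
  have h2 := spread q hq (-x₀) (X.neg_mem hx₀) hq0 hqx₀ h1 x hx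
  rw [swap q hq x hx] at h2
  refine spread x hx (-q) (X.neg_mem hq) hxne (fun r e => ?_) h2 p hpX
  refine hqo ![0, -r] ?_
  simp only [Fin.sum_univ_two, Matrix.cons_val_zero, Matrix.cons_val_one]
  rw [neg_smul, ← e]; simp

theorem scen_of_pairs {M : Subgroup (O Q)}
    (hM : ∀ x ∈ X, ∀ y ∈ Y, ∀ (h : Q x = 0) (h' : polar Q x y = 0), sO Q x y h h' ∈ M)
    (hA : ∀ x (hx : x ∈ X) p (hpX : p ∈ X), sO Q x p (hp.tsX _ hx) (hp.orthX hx hpX) ∈ M)
    {x : V} (hx : x ∈ X) : SCen Q M x := by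
  refine ⟨hp.tsX _ hx, fun b hab => ?_⟩
  obtain ⟨bx, hbx, b', hb', rfl⟩ := hp.cover b
  have hxb : polar Q x b' = 0 := by rw [polar_add_right, hp.orthX hx hbx, zero_add] at hab; exact hab
  rw [show sO Q x (bx + b') (hp.tsX _ hx) hab =
    sO Q x bx (hp.tsX _ hx) (hp.orthX hx hbx) * sO Q x b' (hp.tsX _ hx) hxb from O_ext Q fun z => by
      rw [act_mul, act_sO, act_sO, act_sO, Q_add]
      simp only [polar_add_left, polar_sub_left, polar_smul_left, polar_add_right, smul_eq_mul,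
        hp.orthX hx hx, hp.orthX hx hbx, hp.orthX hbx hx, hxb, polar_comm (⇑Q) b' x, polar_comm (⇑Q) b' bx]
      module]
  exact mul_mem (hA x hx bx hbx) (hM x hx b' hb' _ hxb)

/-- A root element with independent projections to `X` gives a pair inside `X`. -/
theorem pair_of_root {M : Subgroup (O Q)}
    (hM : ∀ x ∈ X, ∀ y ∈ Y, ∀ (h : Q x = 0) (h' : polar Q x y = 0), sO Q x y h h' ∈ M)
    {x₁ x₂ y₁ y₂ : V} (hx₁ : x₁ ∈ X) (hx₂ : x₂ ∈ X) (hy₁ : y₁ ∈ Y) (hy₂ : y₂ ∈ Y) (hx0 : x₁ ≠ 0)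
    (hind : ∀ r : F, x₂ ≠ r • x₁) {hu : Q (x₁ + y₁) = 0} {huw : polar Q (x₁ + y₁) (x₂ + y₂) = 0}
    (hw : Q (x₂ + y₂) = 0) (hR : sO Q (x₁ + y₁) (x₂ + y₂) hu huw ∈ M) :
    ∃ a b, ∃ (ha : a ∈ X) (hb : b ∈ X), a ≠ 0 ∧ (∀ r : F, b ≠ r • a) ∧
      sO Q a b (hp.tsX _ ha) (hp.orthX ha hb) ∈ M := by
  obtain ⟨x, hx, hxy₁, hxy₂, hout⟩ := exists_outside hp ![x₁, x₂] y₁ y₂ (by norm_num)
  obtain ⟨y, hy, hyW, hy2⟩ := hp.dual hQ ![x, x₁] (fun i => by fin_cases i <;> assumption) (X.neg_mem hx₂)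
    fun r e => by
      simp only [Fin.sum_univ_two, Matrix.cons_val_zero, Matrix.cons_val_one] at e
      rcases eq_or_ne (r 0) 0 with h0 | h0
      · rw [h0, zero_smul, zero_add] at e
        exact hind (-r 1) (by rw [neg_smul, ← e, neg_neg])
      · refine hout ![-(r 0)⁻¹ * r 1, -(r 0)⁻¹] ?_
        simp only [Fin.sum_univ_two, Matrix.cons_val_zero, Matrix.cons_val_one]
        rw [neg_smul (r 0)⁻¹ x₂, ← smul_neg, e, smul_add, inv_smul_smul₀ h0]
        module
  have hxy : polar Q x y = 0 := by rw [polar_comm]; exact hyW 0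
  have hy1 : polar Q y x₁ = 0 := hyW 1
  rw [polar_neg_right, neg_eq_iff_eq_neg] at hy2
  set R := sO Q (x₁ + y₁) (x₂ + y₂) hu huw with hR'
  have hxu : polar Q x (x₁ + y₁) = 0 := by
    rw [polar_add_right, hp.orthX hx hx₁, polar_comm (⇑Q) x y₁, hxy₁, add_zero]
  have hxw : polar Q x (x₂ + y₂) = 0 := by
    rw [polar_add_right, hp.orthX hx hx₂, polar_comm (⇑Q) x y₂, hxy₂, add_zero]
  have hRx : act Q R x = x := by rw [hR', act_sO, hxu, hxw]; simp
  have hRy : act Q R y = y + (x₁ + y₁) := by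
    rw [hR', act_sO, polar_add_right, hy1, hp.orthY hy hy₁, polar_add_right, hy2, hp.orthY hy hy₂, hw]
    module
  have hxy' : polar Q x (y + (x₁ + y₁)) = 0 := by rw [polar_add_right, hxy, hxu, add_zero]
  have h1 : sO Q x (y + (x₁ + y₁)) (hp.tsX _ hx) hxy' ∈ M :=
    conj_mem hR (hM x hx y hy (hp.tsX _ hx) hxy) hRx hRy _ _
  have hxy1 : polar Q x y₁ = 0 := by rw [polar_comm]; exact hxy₁
  have hxyy : polar Q x (y + y₁) = 0 := by rw [polar_add_right, hxy, hxy1, add_zero]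
  refine ⟨x, x₁, hx, hx₁, fun e => hout 0 (by simp [e]), fun r e => ?_, ?_⟩
  · rcases eq_or_ne r 0 with rfl | hr
    · exact hx0 (by rw [e, zero_smul])
    · refine hout ![r⁻¹, 0] ?_
      simp only [Fin.sum_univ_two, Matrix.cons_val_zero, Matrix.cons_val_one]
      rw [e, inv_smul_smul₀ hr]; simp
  · rw [show sO Q x (y + (x₁ + y₁)) (hp.tsX _ hx) hxy' =
      sO Q x x₁ (hp.tsX _ hx) (hp.orthX hx hx₁) * sO Q x (y + y₁) (hp.tsX _ hx) hxyy from O_ext Q fun z => by
        rw [act_mul, act_sO, act_sO, act_sO, show y + (x₁ + y₁) = x₁ + (y + y₁) by abel, Q_add]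
        simp only [polar_add_left, polar_sub_left, polar_smul_left, polar_add_right, smul_eq_mul,
          hp.orthX hx hx, hp.orthX hx₁ hx, hp.orthX hx hx₁, hxy, hxy1, polar_comm (⇑Q) y x, polar_comm (⇑Q) y₁ x,
          polar_comm (⇑Q) y x₁, polar_comm (⇑Q) y₁ x₁]
        module] at h1
    exact (mul_mem_cancel_right (hM x hx _ (Y.add_mem hy hy₁) _ hxyy)).1 h1

end Cfsg.Agent.Classical.Siegel
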