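import Cfsg.Agent.Lib.Classical.MaxOrthPair

/-!
Pairs of totally singular halves: the swap, and maximality of the stabiliser.
-/

set_option autoImplicit false
set_option linter.unusedSectionVars false

open Module Matrix QuadraticMap

namespace Cfsg.Agent.Classical.Siegel

open Refl MaxLin

variable {F : Type*} [Field F] [Fintype F] {ι : Type} [Fintype ι] [DecidableEq ι] {Q : QuadraticForm F (ι → F)}
variable {X Y : Submodule F (ι → F)}

local notation "V" => ι → F

theorem act_reflList_orth (l : List {v : V // Q v ≠ 0})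
    (hl : l.Pairwise fun a b => polar Q a.1 b.1 = 0) (z : V) :
    act Q (Disc.reflList Q l) z = z - (l.map fun v => ((Q v.1)⁻¹ * polar Q v.1 z) • v.1).sum := by
  induction l with
  | nil => show act Q 1 z = _; simp [act, Matrix.one_mulVec]
  | cons v l ih =>
    rw [List.pairwise_cons] at hl
    show act Q (refl Q v.1 v.2 * Disc.reflList Q l) z = _
    rw [act_mul, ih hl.2, act_refl, List.map_cons, List.sum_cons]
    have h0 : polar Q v.1 (l.map fun w => ((Q w.1)⁻¹ * polar Q w.1 z) • w.1).sum = 0 := by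
      have : ∀ l' : List {v : V // Q v ≠ 0}, (∀ w ∈ l', polar Q v.1 w.1 = 0) →
          polar Q v.1 (l'.map fun w => ((Q w.1)⁻¹ * polar Q w.1 z) • w.1).sum = 0 := by
        intro l'
        induction l' with
        | nil => intro _; simp
        | cons w l' ih' =>
          intro h
          rw [List.map_cons, List.sum_cons, polar_add_right, polar_smul_right, h w List.mem_cons_self,
            ih' fun u hu => h u (List.mem_cons_of_mem _ hu)]
          simp
      exact this l hl.1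
    rw [polar_sub_right, h0, sub_zero]
    abel

variable (hp : TsPair Q X Y) (hQ : (polarBilin Q).Nondegenerate) (hn : 7 ≤ Fintype.card ι)

include hp hQ hn

omit hn in
theorem dual_system {k : ℕ} (b : Basis (Fin k) F X) :
    ∃ y : Fin k → V, (∀ i, y i ∈ Y) ∧ ∀ i j, polar Q (b j : V) (y i) = if i = j then 1 else 0 := by
  classical
  have h : ∀ i, ∃ y ∈ Y, ∀ j, polar Q (b j : V) y = if i = j then 1 else 0 := by
    intro i
    let W : Fin k → V := fun j => if j = i then 0 else (b j : V)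
    obtain ⟨y, hy, hW, h1⟩ := hp.dual hQ W
      (fun j => by dsimp only [W]; split_ifs <;> first | exact X.zero_mem | exact (b j).2) (b i).2
      fun r e => by
        have h := congrArg (fun v : X => b.repr v i) (show b i = ∑ j, (if j = i then 0 else r j) • b j from
          Subtype.ext (by
            rw [e, Submodule.coe_sum]
            refine Finset.sum_congr rfl fun j _ => ?_
            dsimp only [W]
            split_ifs <;> simp))
        rw [Basis.repr_sum_self] at h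
        simp at h
    refine ⟨y, hy, fun j => ?_⟩
    rw [polar_comm]
    rcases eq_or_ne i j with rfl | hij
    · rw [if_pos rfl]; exact h1
    · have := hW j
      simp only [W, if_neg (Ne.symm hij)] at this
      rw [if_neg hij, this]
  choose y hy h1 using h
  exact ⟨y, hy, fun i j => h1 i j⟩

/-- An element of the commutator subgroup exchanging the two halves. -/
theorem exists_swap (hev : Even (finrank F X)) :
    ∃ s ∈ commutator (O Q), (∀ x ∈ X, act Q s x ∈ Y) ∧ (∀ y ∈ Y, act Q s y ∈ X) := by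
  classical
  set k := finrank F X with hk'
  let b : Basis (Fin k) F X := Module.finBasis F X
  obtain ⟨y, hy, hxy⟩ := dual_system hp hQ b
  let v : Fin k → V := fun i => (b i : V) - y i
  have hv : ∀ i, Q (v i) = -1 := fun i => by
    dsimp only [v]
    rw [sub_eq_add_neg, Q_add, QuadraticMap.map_neg, polar_neg_right, hp.tsX _ (b i).2, hp.tsY _ (hy i), hxy,
      if_pos rfl]
    ring
  let l : List {v : V // Q v ≠ 0} :=
    List.ofFn fun i => ⟨v i, by rw [hv]; exact neg_ne_zero.2 one_ne_zero⟩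
  have hl : l.Pairwise fun a c => polar Q a.1 c.1 = 0 := by
    rw [List.pairwise_ofFn]
    intro i j hij
    show polar Q ((b i : V) - y i) ((b j : V) - y j) = 0
    rw [polar_sub_left, polar_sub_right, polar_sub_right, hp.orthX (b i).2 (b j).2, hp.orthY (hy i) (hy j), hxy,
      polar_comm (⇑Q) (y i) (b j : V), hxy, if_neg (ne_of_gt hij), if_neg (ne_of_lt hij)]
    simp
  set s := Disc.reflList Q l with hs
  have hact : ∀ z, act Q s z = z + ∑ i, polar Q (v i) z • v i := fun z => by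
    rw [hs, act_reflList_orth l hl z, List.map_ofFn, List.sum_ofFn, sub_eq_add_neg, ← Finset.sum_neg_distrib]
    congr 1
    refine Finset.sum_congr rfl fun i _ => ?_
    simp only [Function.comp, hv, inv_neg, inv_one, neg_mul, one_mul, neg_smul, neg_neg]
  have hX : ∀ j, act Q s (b j) = y j := fun j => by
    rw [hact, Finset.sum_eq_single j]
    · dsimp only [v]
      rw [polar_sub_left, hp.orthX (b j).2 (b j).2, polar_comm (⇑Q) (y j) (b j : V), hxy, if_pos rfl, zero_sub]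
      module
    · intro i _ hij
      dsimp only [v]
      rw [polar_sub_left, hp.orthX (b i).2 (b j).2, polar_comm (⇑Q) (y i) (b j : V), hxy, if_neg hij]
      simp
    · intro h; exact absurd (Finset.mem_univ j) h
  have hmem : s ∈ commutator (O Q) := by
    rw [hs, reflList_mem_iff Q hQ (by omega) (Or.inr (by omega))]
    refine ⟨by simpa [l] using hev, 1, ?_⟩
    rw [List.map_ofFn, List.prod_ofFn, mul_one]
    simp only [Function.comp, hv, Finset.prod_const, Finset.card_univ, Fintype.card_fin]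
    exact hev.neg_one_pow
  have hXY : ∀ x ∈ X, act Q s x ∈ Y := fun x hx => by
    have e : x = ∑ j, b.repr ⟨x, hx⟩ j • (b j : V) := by
      refine (congrArg Subtype.val (b.sum_repr ⟨x, hx⟩).symm).trans ?_
      rw [Submodule.coe_sum]; rfl
    rw [e, show act Q s (∑ j, b.repr ⟨x, hx⟩ j • (b j : V)) = ∑ j, b.repr ⟨x, hx⟩ j • act Q s (b j) by
      simp only [act, Matrix.mulVec_sum, Matrix.mulVec_smul]]
    exact Submodule.sum_mem _ fun j _ => Y.smul_mem _ (by rw [hX]; exact hy j)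
  refine ⟨s, hmem, hXY, fun z hz => ?_⟩
  have hvz : ∀ i, polar Q (v i) z = polar Q (b i : V) z := fun i => by
    dsimp only [v]
    rw [polar_sub_left, hp.orthY (hy i) hz, sub_zero]
  have h0 : z - ∑ i, polar Q (b i : V) z • y i = 0 := eq_zero_of Q hQ _ fun w => by
    obtain ⟨w₁, hw₁, w₂, hw₂, rfl⟩ := hp.cover w
    have hmemY : z - ∑ i, polar Q (b i : V) z • y i ∈ Y :=
      Y.sub_mem hz (Submodule.sum_mem _ fun i _ => Y.smul_mem _ (hy i))
    rw [polar_add_left, hp.orthY hw₂ hmemY, add_zero]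
    have e : w₁ = ∑ j, b.repr ⟨w₁, hw₁⟩ j • (b j : V) := by
      refine (congrArg Subtype.val (b.sum_repr ⟨w₁, hw₁⟩).symm).trans ?_
      rw [Submodule.coe_sum]; rfl
    rw [e, ← polarBilin_apply_apply, map_sum, LinearMap.sum_apply]
    refine Finset.sum_eq_zero fun j _ => ?_
    rw [map_smul, LinearMap.smul_apply, map_sub, map_sum, Finset.sum_eq_single j]
    · simp [hxy]
    · intro i _ hij; simp [hxy, hij]
    · intro h; exact absurd (Finset.mem_univ j) h
  rw [hact]
  rw [show z + ∑ i, polar Q (v i) z • v i = ∑ i, polar Q (b i : V) z • (b i : V) by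
    simp only [hvz, v, smul_sub, Finset.sum_sub_distrib]
    linear_combination (norm := abel) h0]
  exact Submodule.sum_mem _ fun i _ => X.smul_mem _ (b i).2

omit hQ hn in
theorem stab_sO_XY {x y : V} (hx : x ∈ X) (hy : y ∈ Y) (hQx : Q x = 0) (hxy : polar Q x y = 0) :
    (∀ z ∈ X, act Q (sO Q x y hQx hxy) z ∈ X) ∧ ∀ z ∈ Y, act Q (sO Q x y hQx hxy) z ∈ Y := by
  refine ⟨fun z hz => ?_, fun z hz => ?_⟩
  · rw [act_sO, hp.orthX hz hx, zero_smul, add_zero]
    exact X.sub_mem hz (X.smul_mem _ hx)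
  · rw [act_sO, hp.orthY hz hy, hp.tsY _ hy, zero_mul, add_zero, zero_smul, sub_zero]
    exact Y.add_mem hz (Y.smul_mem _ hy)

omit hQ hn in
theorem not_mixed {g : O Q}
    (dep : ∀ x ∈ X, ∀ y ∈ Y, polar Q x y = 0 → ∀ a ∈ X, ∀ a' ∈ Y, ∀ c ∈ X, ∀ c' ∈ Y,
      act Q g x = a + a' → act Q g y = c + c' → (a ≠ 0 → ∃ r : F, c = r • a) ∧ (a' ≠ 0 → ∃ r : F, c' = r • a'))
    {x a a' : V} (hx : x ∈ X) (ha : a ∈ X) (ha' : a' ∈ Y) (e : act Q g x = a + a') : a = 0 ∨ a' = 0 := by
  by_contra hc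
  push Not at hc
  let P := Y ⊓ LinearMap.ker (polarBilin Q x)
  let f : P →ₗ[F] (ι → F) := (Matrix.toLin' ((g : GL ι F) : Matrix ι ι F)).comp P.subtype
  have hf : Function.Injective f := fun u v h => Subtype.ext (NotMax.mulVec_inj (g : GL ι F) (by
    simpa [f, Matrix.toLin'_apply] using h))
  have hle : LinearMap.range f ≤ Submodule.span F (Set.range ![a, a']) := by
    rintro _ ⟨⟨y, hyY, hyx⟩, rfl⟩
    show Matrix.toLin' ((g : GL ι F) : Matrix ι ι F) y ∈ _
    rw [Matrix.toLin'_apply]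
    obtain ⟨c, hc', c', hc'', ey⟩ := hp.cover (act Q g y)
    obtain ⟨h1, h2⟩ := dep x hx y hyY (LinearMap.mem_ker.1 hyx) a ha a' ha' c hc' c' hc'' e ey
    obtain ⟨r, rfl⟩ := h1 hc.1
    obtain ⟨r', rfl⟩ := h2 hc.2
    show act Q g y ∈ _
    rw [ey]
    exact add_mem (Submodule.smul_mem _ _ (Submodule.subset_span ⟨0, rfl⟩))
      (Submodule.smul_mem _ _ (Submodule.subset_span ⟨1, rfl⟩))
  have h1 : finrank F P ≤ 2 := (le_of_eq (LinearMap.finrank_range_of_inj hf).symm).trans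
    ((Submodule.finrank_mono hle).trans ((finrank_range_le_card _).trans (by simp)))
  let L : Y →ₗ[F] F := (polarBilin Q x).comp Y.subtype
  have h2 := LinearMap.finrank_range_add_finrank_ker L
  have h3 := Submodule.finrank_le (LinearMap.range L)
  rw [finrank_self] at h3
  have h4 : finrank F ((LinearMap.ker L).map Y.subtype) ≤ finrank F P := Submodule.finrank_mono (by
    rintro _ ⟨y, hy, rfl⟩
    exact ⟨y.2, hy⟩)
  rw [Submodule.finrank_map_subtype_eq] at h4
  have := hp.bigY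
  omega

omit hQ hn in
theorem into_half {g : O Q}
    (dep : ∀ x ∈ X, ∀ y ∈ Y, polar Q x y = 0 → ∀ a ∈ X, ∀ a' ∈ Y, ∀ c ∈ X, ∀ c' ∈ Y,
      act Q g x = a + a' → act Q g y = c + c' → (a ≠ 0 → ∃ r : F, c = r • a) ∧ (a' ≠ 0 → ∃ r : F, c' = r • a')) :
    (∀ x ∈ X, act Q g x ∈ X) ∨ (∀ x ∈ X, act Q g x ∈ Y) := by
  have one : ∀ x ∈ X, act Q g x ∈ X ∨ act Q g x ∈ Y := fun x hx => by
    obtain ⟨a, ha, a', ha', e⟩ := hp.cover (act Q g x)
    rcases not_mixed hp dep hx ha ha' e with h | h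
    · right; rw [e, h, zero_add]; exact ha'
    · left; rw [e, h, add_zero]; exact ha
  by_contra hc
  push Not at hc
  obtain ⟨⟨x₁, hx₁, h₁⟩, x₂, hx₂, h₂⟩ := hc
  have h₁' := (one x₁ hx₁).resolve_left h₁
  have h₂' := (one x₂ hx₂).resolve_right h₂
  rcases one _ (X.add_mem hx₁ hx₂) with h | h <;> rw [act_add] at h
  · exact h₁ ((Submodule.add_mem_iff_left _ h₂').1 h)
  · exact h₂ ((Submodule.add_mem_iff_right _ h₁').1 h)

end Cfsg.Agent.Classical.Siegel

namespace Cfsg.Agent.Classical.Siegel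

open Module Matrix QuadraticMap Refl MaxLin

variable {F : Type*} [Field F] [Fintype F] {ι : Type} [Fintype ι] [DecidableEq ι] {Q : QuadraticForm F (ι → F)}

local notation "V" => ι → F

theorem ts_pair_maximal (D : Fin 2 → Submodule F (ι → F)) (hp : TsPair Q (D 0) (D 1))
    (hk : finrank F (D 0) = finrank F (D 1)) (hev : Even (finrank F (D 0)))
    (hQ : (polarBilin Q).Nondegenerate) (hn : 7 ≤ Fintype.card ι) :
    Cfsg.Geo.IsMaximalIn (Cfsg.Geo.omegaGL (⇑Q))
      (Cfsg.Geo.decompositionStabilizer D ⊓ Cfsg.Geo.omegaGL (⇑Q)) := by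
  classical
  have inj : ∀ g : O Q, Function.Injective (Matrix.toLin' ((g : GL ι F) : Matrix ι ι F)) := fun g x y e => by
    rw [Matrix.toLin'_apply, Matrix.toLin'_apply] at e
    exact NotMax.mulVec_inj _ e
  have hdim : ∀ i, finrank F (D i) = finrank F (D 0) := fun i => by
    fin_cases i
    · rfl
    · exact hk.symm
  have mkmap : ∀ (g : O Q) (i j : Fin 2), (∀ z ∈ D i, act Q g z ∈ D j) →
      (D i).map (Matrix.toLin' ((g : GL ι F) : Matrix ι ι F)) = D j := fun g i j h =>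
    Submodule.eq_of_le_of_finrank_le (fun w ⟨z, hz, e⟩ => by rw [← e, Matrix.toLin'_apply]; exact h z hz)
      (le_of_eq (((hdim j).trans (hdim i).symm).trans (Submodule.equivMapOfInjective _ (inj g) (D i)).finrank_eq))
  have hstay : ∀ g : O Q, (∀ z ∈ D 0, act Q g z ∈ D 0) → (∀ z ∈ D 1, act Q g z ∈ D 1) →
      (g : GL ι F) ∈ Cfsg.Geo.decompositionStabilizer D := fun g h0 h1 =>
    ⟨1, fun i => by
      fin_cases i
      · exact mkmap g 0 0 h0
      · exact mkmap g 1 1 h1⟩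
  have hswap : ∀ g : O Q, (∀ z ∈ D 0, act Q g z ∈ D 1) → (∀ z ∈ D 1, act Q g z ∈ D 0) →
      (g : GL ι F) ∈ Cfsg.Geo.decompositionStabilizer D := fun g h0 h1 =>
    ⟨Equiv.swap 0 1, fun i => by
      fin_cases i
      · simpa using mkmap g 0 1 h0
      · simpa using mkmap g 1 0 h1⟩
  obtain ⟨s, hsΩ, hs0, hs1⟩ := exists_swap hp hQ hn hev
  refine ⟨lt_of_le_of_ne inf_le_right fun e => ?_, fun M h1 h2 => ?_⟩
  · obtain ⟨a, haX, -, -, hao⟩ := exists_outside hp (![] : Fin 0 → V) 0 0 (by norm_num)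
    have ha0 : a ≠ 0 := fun e0 => hao 0 (by simp [e0])
    obtain ⟨b, hbX, -, -, hbo⟩ := exists_outside hp ![a] 0 0 (by norm_num)
    obtain ⟨y, hy, hya, hyb⟩ := hp.dual hQ ![a] (fun i => by fin_cases i; exact haX) hbX hbo
    have hab : polar Q a b = 0 := hp.orthX haX hbX
    have hyY : polar Q y a = 0 := hya 0
    have hg : sO Q a b (hp.tsX _ haX) hab ∈ commutator (O Q) := sO_mem_commutator Q hQ hn _ _ _ _
    obtain ⟨σ, hσ⟩ := (e.ge (NotMax.mem_omegaGL _ hg)).1
    have h := (hσ 1).le (Submodule.mem_map_of_mem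
      (f := Matrix.toLin' ((sO Q a b (hp.tsX _ haX) hab : GL ι F) : Matrix ι ι F)) hy)
    have hsy : act Q (sO Q a b (hp.tsX _ haX) hab) y = y - a := by
      rw [act_sO, hyY, hyb]; simp
    have hnot : ∀ i, y - a ∉ D i := fun i hi => by
      fin_cases i
      · have := hp.inter y (by simpa using (D 0).add_mem hi haX) hy
        rw [this, polar_zero_left] at hyb
        exact zero_ne_one hyb
      · exact ha0 (hp.inter a haX (by simpa using (D 1).sub_mem hy hi))
    refine hnot (σ 1) ?_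
    rw [← hsy]
    rwa [Matrix.toLin'_apply] at h
  by_cases hne : ∀ g ∈ M, g ∈ Cfsg.Geo.decompositionStabilizer D
  · exact Or.inl (le_antisymm (le_inf hne h2) h1)
  right
  push Not at hne
  obtain ⟨_, hgM, hgS⟩ := hne
  obtain ⟨g, -, rfl⟩ := h2 hgM
  set M' := M.comap (isometryGroup F (⇑Q)).subtype with hM'
  have hMxy : ∀ x ∈ D 0, ∀ y ∈ D 1, ∀ (h : Q x = 0) (h' : polar Q x y = 0), sO Q x y h h' ∈ M' :=
    fun x hx y hy h h' => h1 ⟨hstay _ (stab_sO_XY hp hx hy h h').1 (stab_sO_XY hp hx hy h h').2,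
      NotMax.mem_omegaGL _ (sO_mem_commutator Q hQ hn _ _ _ _)⟩
  have hMyx : ∀ x ∈ D 1, ∀ y ∈ D 0, ∀ (h : Q x = 0) (h' : polar Q x y = 0), sO Q x y h h' ∈ M' :=
    fun x hx y hy h h' => h1 ⟨hstay _ (stab_sO_XY hp.symm hx hy h h').2 (stab_sO_XY hp.symm hx hy h h').1,
      NotMax.mem_omegaGL _ (sO_mem_commutator Q hQ hn _ _ _ _)⟩
  have hsM : s ∈ M' := h1 ⟨hswap s hs0 hs1, NotMax.mem_omegaGL _ hsΩ⟩
  have hsinj : ∀ z, (z ∈ D 1 → ∃ x ∈ D 0, act Q s x = z) ∧ (z ∈ D 0 → ∃ y ∈ D 1, act Q s y = z) := fun z => by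
    refine ⟨fun hz => ?_, fun hz => ?_⟩
    · obtain ⟨x, hx, rfl⟩ := (mkmap s 0 1 hs0).ge hz
      exact ⟨x, hx, by rw [Matrix.toLin'_apply]; rfl⟩
    · obtain ⟨x, hx, rfl⟩ := (mkmap s 1 0 hs1).ge hz
      exact ⟨x, hx, by rw [Matrix.toLin'_apply]; rfl⟩
  have fin : ((∀ x ∈ D 0, SCen Q M' x) ∨ ∀ y ∈ D 1, SCen Q M' y) → M = Cfsg.Geo.omegaGL (⇑Q) := by
    intro h
    have h' : (∀ x ∈ D 0, SCen Q M' x) ∧ ∀ y ∈ D 1, SCen Q M' y := by
      rcases h with h | h
      · exact ⟨h, fun y hy => by obtain ⟨x, hx, rfl⟩ := (hsinj y).1 hy; exact (h x hx).map Q hsM⟩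
      · exact ⟨fun x hx => by obtain ⟨y, hy, rfl⟩ := (hsinj x).2 hx; exact (h y hy).map Q hsM, h⟩
    obtain ⟨a, haX, -, -, hao⟩ := exists_outside hp (![] : Fin 0 → V) 0 0 (by norm_num)
    obtain ⟨y, hy, -, hya⟩ := hp.dual hQ (![] : Fin 0 → V) (fun i => i.elim0) haX hao
    refine le_antisymm h2 ?_
    rintro _ ⟨k, hk', rfl⟩
    exact E_le Q hQ hn (scen_all Q hQ hn (h'.1 a haX) (h'.2 y hy)
      (by rw [polar_comm, hya]; exact one_ne_zero)) hk'
  have root : ∀ x ∈ D 0, ∀ y ∈ D 1, polar Q x y = 0 → ∀ a ∈ D 0, ∀ a' ∈ D 1, ∀ c ∈ D 0, ∀ c' ∈ D 1,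
      act Q g x = a + a' → act Q g y = c + c' →
      M = Cfsg.Geo.omegaGL (⇑Q) ∨ (a ≠ 0 → ∃ r : F, c = r • a) ∧ (a' ≠ 0 → ∃ r : F, c' = r • a') := by
    intro x hx y hy hxy a ha a' ha' c hc c' hc' ex ey
    have hu : Q (a + a') = 0 := by rw [← ex, Q_act, hp.tsX _ hx]
    have hw : Q (c + c') = 0 := by rw [← ey, Q_act, hp.tsY _ hy]
    have huw : polar Q (a + a') (c + c') = 0 := by rw [← ex, ← ey, polar_act, hxy]
    have hm : sO Q _ _ hu huw ∈ M' :=
      conj_mem (show g ∈ M' from hgM) (hMxy x hx y hy (hp.tsX _ hx) hxy) ex ey hu huw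
    by_cases hX : a ≠ 0 ∧ ∀ r : F, c ≠ r • a
    · obtain ⟨p, q, hp', hq', hp0, hind, hpq⟩ := pair_of_root hp hQ hn hMxy ha hc ha' hc' hX.1 hX.2 hw hm
      exact Or.inl (fin (Or.inl fun z hz => scen_of_pairs hp hQ hn hMxy
        (all_pairs hp hQ hn hMxy hp' hq' hind hp0 hpq) hz))
    by_cases hY : a' ≠ 0 ∧ ∀ r : F, c' ≠ r • a'
    · have hu' : Q (a' + a) = 0 := by rw [add_comm]; exact hu
      have hw' : Q (c' + c) = 0 := by rw [add_comm]; exact hw
      have huw' : polar Q (a' + a) (c' + c) = 0 := by rw [add_comm a', add_comm c']; exact huw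
      have hm' : sO Q (a' + a) (c' + c) hu' huw' ∈ M' := by
        have : sO Q (a' + a) (c' + c) hu' huw' = sO Q (a + a') (c + c') hu huw := O_ext Q fun z => by
          rw [act_sO, act_sO, add_comm a', add_comm c']
        rw [this]; exact hm
      obtain ⟨p, q, hp', hq', hp0, hind, hpq⟩ :=
        pair_of_root hp.symm hQ hn hMyx ha' hc' ha hc hY.1 hY.2 hw' hm'
      exact Or.inl (fin (Or.inr fun z hz => scen_of_pairs hp.symm hQ hn hMyx
        (all_pairs hp.symm hQ hn hMyx hp' hq' hind hp0 hpq) hz))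
    push Not at hX hY
    exact Or.inr ⟨hX, hY⟩
  by_contra hM
  have dep : ∀ x ∈ D 0, ∀ y ∈ D 1, polar Q x y = 0 → ∀ a ∈ D 0, ∀ a' ∈ D 1, ∀ c ∈ D 0, ∀ c' ∈ D 1,
      act Q g x = a + a' → act Q g y = c + c' → (a ≠ 0 → ∃ r : F, c = r • a) ∧ (a' ≠ 0 → ∃ r : F, c' = r • a') :=
    fun x hx y hy hxy a ha a' ha' c hc c' hc' ex ey =>
      (root x hx y hy hxy a ha a' ha' c hc c' hc' ex ey).resolve_left hM
  have dep' : ∀ x ∈ D 1, ∀ y ∈ D 0, polar Q x y = 0 → ∀ a ∈ D 1, ∀ a' ∈ D 0, ∀ c ∈ D 1, ∀ c' ∈ D 0,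
      act Q g x = a + a' → act Q g y = c + c' → (a ≠ 0 → ∃ r : F, c = r • a) ∧ (a' ≠ 0 → ∃ r : F, c' = r • a') := by
    intro x hx y hy hxy a ha a' ha' c hc c' hc' ex ey
    have h := dep y hy x hx (by rw [polar_comm]; exact hxy) c' hc' c hc a' ha' a ha (by rw [ey, add_comm])
      (by rw [ex, add_comm])
    refine ⟨fun h0 => ?_, fun h0 => ?_⟩
    · rcases eq_or_ne c 0 with rfl | hc0
      · exact ⟨0, (zero_smul _ _).symm⟩
      obtain ⟨r, hr⟩ := h.2 hc0
      have hr0 : r ≠ 0 := fun e => h0 (by rw [hr, e, zero_smul])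
      exact ⟨r⁻¹, by rw [hr, inv_smul_smul₀ hr0]⟩
    · rcases eq_or_ne c' 0 with rfl | hc0
      · exact ⟨0, (zero_smul _ _).symm⟩
      obtain ⟨r, hr⟩ := h.1 hc0
      have hr0 : r ≠ 0 := fun e => h0 (by rw [hr, e, zero_smul])
      exact ⟨r⁻¹, by rw [hr, inv_smul_smul₀ hr0]⟩
  have surj : ∀ i, ¬ ((∀ z ∈ D 0, act Q g z ∈ D i) ∧ ∀ z ∈ D 1, act Q g z ∈ D i) := fun i ⟨h0, h1⟩ => by
    have hall : ∀ z, z ∈ D i := fun z => by
      obtain ⟨x, hx, y, hy, e⟩ := hp.cover (act Q g⁻¹ z)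
      have := congrArg (act Q g) e
      rw [act_inv, act_add] at this
      rw [this]; exact (D i).add_mem (h0 x hx) (h1 y hy)
    have : ∀ j, finrank F (D j) = 0 → False := fun j hj => by
      have h7 := hp.bigX
      rw [hdim j] at hj
      omega
    fin_cases i
    · refine this 1 ?_
      rw [show D 1 = ⊥ from (Submodule.eq_bot_iff _).2 fun z hz => hp.inter z (hall z) hz, finrank_bot]
    · refine this 0 ?_
      rw [show D 0 = ⊥ from (Submodule.eq_bot_iff _).2 fun z hz => hp.inter z hz (hall z), finrank_bot]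
  rcases into_half hp dep with hX | hX <;> rcases into_half hp.symm dep' with hY | hY
  · exact hgS (hstay g hX hY)
  · exact surj 0 ⟨hX, hY⟩
  · exact surj 1 ⟨hX, hY⟩
  · exact hgS (hswap g hX hY)

end Cfsg.Agent.Classical.Siegel
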