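import Cfsg.Agent.Lib.Classical.MaxLinTransv
import Cfsg.Prelude.Def_GeometricClasses

/-!
The similarity group of a quadratic form in odd characteristic is maximal in the special linear group.
-/

set_option autoImplicit false
set_option linter.unusedSectionVars false

open Module Matrix

namespace Cfsg.Agent.Classical.MaxOrthSL

open MaxLin

variable {F : Type*} [Field F] {ι : Type} [Fintype ι] [DecidableEq ι]

local notation "Mat" => Matrix ι ι F
local notation "V" => ι → F

/-- A quadratic form with its non-degenerate polar form. -/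
structure QF (Q : (ι → F) → F) (B : LinearMap.BilinForm F (ι → F)) : Prop where
  smul : ∀ (c : F) (x : ι → F), Q (c • x) = c ^ 2 * Q x
  add : ∀ x y, Q (x + y) = Q x + Q y + B x y
  nondeg : ∀ a, (∀ x, B x a = 0) → a = 0

variable {Q Q' : (ι → F) → F} {B B' : LinearMap.BilinForm F (ι → F)}

namespace QF

variable (h : QF Q B)
include h

theorem symm (x y : V) : B x y = B y x := by
  have h1 := h.add x y
  rw [add_comm x y, h.add y x] at h1
  linear_combination -h1

theorem zero : Q 0 = 0 := by simpa using h.smul 0 0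

theorem diag (x : V) : B x x = 2 * Q x := by
  have h1 := h.add x x
  rw [show x + x = (2 : F) • x by rw [two_smul], h.smul] at h1
  linear_combination -h1

theorem flip_ne {a : V} (ha : a ≠ 0) : B.flip a ≠ 0 := fun e => ha (h.nondeg a fun x => LinearMap.congr_fun e x)

theorem comp (g : GL ι F) :
    QF (fun x => Q (((g⁻¹ : GL ι F) : Mat) *ᵥ x))
      (B.comp (Matrix.toLin' ((g⁻¹ : GL ι F) : Mat)) (Matrix.toLin' ((g⁻¹ : GL ι F) : Mat))) := by
  refine ⟨fun c x => ?_, fun x y => ?_, fun a ha => ?_⟩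
  · rw [Matrix.mulVec_smul, h.smul]
  · rw [Matrix.mulVec_add, h.add]; rfl
  · have : ((g⁻¹ : GL ι F) : Mat) *ᵥ a = 0 := h.nondeg _ fun x => by
      have := ha ((g : Mat) *ᵥ x)
      rw [LinearMap.BilinForm.comp_apply, Matrix.toLin'_apply, Matrix.toLin'_apply, gl_inv_mulVec'] at this
      exact this
    rw [← gl_inv_mulVec g a, this, Matrix.mulVec_zero]

end QF

section functionals

theorem exists_sep_fun {φ ψ : Dual F (ι → F)} (hn : ∀ r : F, φ ≠ r • ψ) : ∃ x, ψ x = 0 ∧ φ x ≠ 0 := by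
  by_contra hc
  push Not at hc
  rcases eq_or_ne ψ 0 with rfl | hψ
  · exact hn 0 (LinearMap.ext fun x => by simpa using hc x rfl)
  obtain ⟨y, hy⟩ : ∃ y, ψ y ≠ 0 := by
    by_contra hy; push Not at hy; exact hψ (LinearMap.ext hy)
  refine hn (φ y / ψ y) (LinearMap.ext fun x => ?_)
  have := hc (x - (ψ x / ψ y) • y) (by rw [map_sub, map_smul, smul_eq_mul, div_mul_cancel₀ _ hy, sub_self])
  rw [map_sub, map_smul, smul_eq_mul, sub_eq_zero] at this
  rw [LinearMap.smul_apply, smul_eq_mul, this]; ring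

theorem exists_value_fun {φ ψ : Dual F (ι → F)} (hn : ∀ r : F, φ ≠ r • ψ) (s : F) : ∃ x, ψ x = 0 ∧ φ x = s := by
  obtain ⟨x, h0, h1⟩ := exists_sep_fun hn
  exact ⟨(s / φ x) • x, by rw [map_smul, h0, smul_zero], by rw [map_smul, smul_eq_mul, div_mul_cancel₀ _ h1]⟩

theorem exists_dual_one {a : V} (ha : a ≠ 0) : ∃ ψ : Dual F (ι → F), ψ a = 1 := by
  obtain ⟨i, hi⟩ := Function.ne_iff.1 ha
  exact ⟨(a i)⁻¹ • LinearMap.proj i, by simpa using inv_mul_cancel₀ hi⟩

theorem exists_dual_pair {a b : V} (hab : ∀ r : F, b ≠ r • a) : ∃ ψ : Dual F (ι → F), ψ a = 0 ∧ ψ b = 1 := by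
  have : b ∉ Submodule.span F {a} := fun hm => by
    obtain ⟨r, hr⟩ := Submodule.mem_span_singleton.1 hm; exact hab r hr.symm
  obtain ⟨f, hf, hp⟩ := Submodule.exists_dual_map_eq_bot_of_notMem this inferInstance
  have ha : f a = 0 := by
    have := Submodule.mem_map_of_mem (f := f) (Submodule.mem_span_singleton_self a)
    rwa [hp, Submodule.mem_bot] at this
  exact ⟨(f b)⁻¹ • f, by simp [ha], by simpa using inv_mul_cancel₀ hf⟩

theorem flip_not_prop (h : QF Q B) {a b : V} (hab : ∀ r : F, b ≠ r • a) : ∀ r : F, B.flip b ≠ r • B.flip a := by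
  intro r e
  refine hab r (sub_eq_zero.1 (h.nondeg _ fun x => ?_))
  have := LinearMap.congr_fun e x
  rw [map_sub, map_smul, smul_eq_mul]
  simp only [LinearMap.smul_apply, LinearMap.BilinForm.flip_apply, smul_eq_mul, LinearMap.flip_apply] at this
  rw [this, sub_self]

end functionals

section siegel

variable (hQ : QF Q B)

/-- The Siegel transformation of `a` and `b`. -/
noncomputable def sG (a b : V) (ha : Q a = 0) (hab : B a b = 0) : GL ι F :=
  transGL (-B.flip b + Q b • B.flip a) a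
      (by simp [hab, show B a a = 0 by rw [hQ.diag, ha, mul_zero]]) *
    transGL (B.flip a) b (by simpa [hQ.symm b a] using hab)

theorem sG_apply (a b : V) (ha : Q a = 0) (hab : B a b = 0) (x : V) :
    (sG hQ a b ha hab : Mat) *ᵥ x = x + B x a • b - (B x b + Q b * B x a) • a := by
  rw [sG, Units.val_mul, ← Matrix.mulVec_mulVec, transGL_apply, transGL_apply]
  simp only [LinearMap.add_apply, LinearMap.neg_apply, LinearMap.smul_apply, LinearMap.BilinForm.flip_apply,
    LinearMap.flip_apply, map_add, map_smul, smul_eq_mul, hQ.symm b a, hab, hQ.diag b]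
  module

theorem sG_sl (a b : V) (ha : Q a = 0) (hab : B a b = 0) : sG hQ a b ha hab ∈ Cfsg.Geo.specialLinear ι F :=
  mul_mem (transGL_mem_sl _ _ _) (transGL_mem_sl _ _ _)

theorem sG_iso (a b : V) (ha : Q a = 0) (hab : B a b = 0) (x : V) : Q ((sG hQ a b ha hab : Mat) *ᵥ x) = Q x := by
  rw [sG_apply, sub_eq_add_neg, ← neg_smul, hQ.add, hQ.add, hQ.smul, hQ.smul, ha]
  simp only [map_add, map_smul, LinearMap.add_apply, LinearMap.smul_apply, smul_eq_mul, hQ.symm b a, hab]
  ring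

include hQ

theorem iso_polar {g : GL ι F} (hg : ∀ x, Q ((g : Mat) *ᵥ x) = Q x) (x y : V) :
    B ((g : Mat) *ᵥ x) ((g : Mat) *ᵥ y) = B x y := by
  have h1 := hQ.add ((g : Mat) *ᵥ x) ((g : Mat) *ᵥ y)
  rw [← Matrix.mulVec_add, hg, hg, hg, hQ.add] at h1
  linear_combination -h1

end siegel

section zeros

variable [Fintype F]

theorem exists_zero (h2 : (2 : F) ≠ 0) (hQ : QF Q B) (hQ' : QF Q' B') {m : ℕ} (L : Fin m → Dual F (ι → F))
    (hm : m + 4 < Fintype.card ι) : ∃ x : V, x ≠ 0 ∧ Q x = 0 ∧ Q' x = 0 ∧ ∀ k, L k x = 0 := by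
  classical
  obtain ⟨p, hp⟩ := CharP.exists F
  obtain ⟨-, hpp, -⟩ := FiniteField.card F p
  let e : ι → V := fun i => Pi.single i 1
  have hsum : ∀ x : V, x = ∑ i, x i • e i := fun x => by
    funext j; simp [e, Finset.sum_apply, Pi.single_apply]
  let qp : LinearMap.BilinForm F (ι → F) → MvPolynomial ι F := fun C =>
    ∑ i, ∑ j, MvPolynomial.C (C (e i) (e j)) * (MvPolynomial.X i * MvPolynomial.X j)
  have hqp : ∀ (C : LinearMap.BilinForm F (ι → F)) (x : V), MvPolynomial.eval x (qp C) = C x x := by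
    intro C x
    conv_rhs => rw [hsum x]
    simp only [qp, map_sum, map_mul, MvPolynomial.eval_C, MvPolynomial.eval_X, map_smul, LinearMap.sum_apply,
      LinearMap.smul_apply, smul_eq_mul, Finset.mul_sum]
    rw [Finset.sum_comm]
    refine Finset.sum_congr rfl fun i _ => Finset.sum_congr rfl fun j _ => ?_
    ring
  have hdeg : ∀ C : LinearMap.BilinForm F (ι → F), (qp C).totalDegree ≤ 2 := fun C =>
    MvPolynomial.totalDegree_finsetSum_le fun i _ => MvPolynomial.totalDegree_finsetSum_le fun j _ => by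
      refine (MvPolynomial.totalDegree_mul _ _).trans ?_
      rw [MvPolynomial.totalDegree_C, zero_add]
      exact (MvPolynomial.totalDegree_mul _ _).trans (by simp)
  let lp : Dual F (ι → F) → MvPolynomial ι F := fun l => ∑ i, MvPolynomial.C (l (e i)) * MvPolynomial.X i
  have hlp : ∀ (l : Dual F (ι → F)) (x : V), MvPolynomial.eval x (lp l) = l x := by
    intro l x
    conv_rhs => rw [hsum x]
    simp [lp, mul_comm]
  have hldeg : ∀ l : Dual F (ι → F), (lp l).totalDegree ≤ 1 := fun l =>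
    MvPolynomial.totalDegree_finsetSum_le fun i _ => by
      refine (MvPolynomial.totalDegree_mul _ _).trans ?_
      simp
  let f : Fin m ⊕ Fin 2 → MvPolynomial ι F := Sum.elim (fun k => lp (L k)) ![qp B, qp B']
  have hlt : ∑ i, (f i).totalDegree < Fintype.card ι := by
    refine lt_of_le_of_lt ?_ hm
    rw [Fintype.sum_sum_type, Fin.sum_univ_two]
    refine add_le_add ((Finset.sum_le_card_nsmul _ _ 1 fun k _ => hldeg _).trans (by simp)) ?_
    exact (add_le_add (hdeg B) (hdeg B')).trans le_rfl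
  have hdvd := char_dvd_card_solutions_of_fintype_sum_lt p hlt
  have hzero : ∀ i, MvPolynomial.eval (0 : V) (f i) = 0 := by
    rintro (k | k)
    · show MvPolynomial.eval (0 : V) (lp (L k)) = 0
      rw [hlp, map_zero]
    · fin_cases k
      · show MvPolynomial.eval (0 : V) (qp B) = 0
        rw [hqp, map_zero]
      · show MvPolynomial.eval (0 : V) (qp B') = 0
        rw [hqp, map_zero]
  have : ∃ x : {x : V // ∀ i, MvPolynomial.eval x (f i) = 0}, x ≠ ⟨0, hzero⟩ := by
    refine Fintype.exists_ne_of_one_lt_card ?_ _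
    have hpos : 0 < Fintype.card {x : V // ∀ i, MvPolynomial.eval x (f i) = 0} := Fintype.card_pos_iff.2 ⟨⟨0, hzero⟩⟩
    exact lt_of_lt_of_le hpp.one_lt (Nat.le_of_dvd hpos hdvd)
  obtain ⟨⟨x, hx⟩, hne⟩ := this
  refine ⟨x, fun e0 => hne (Subtype.ext e0), ?_, ?_, fun k => ?_⟩
  · have := hx (Sum.inr 0)
    simp only [f, Sum.elim_inr, Matrix.cons_val_zero, hqp, hQ.diag] at this
    exact (mul_eq_zero.1 this).resolve_left h2
  · have := hx (Sum.inr 1)
    simp only [f, Sum.elim_inr, Matrix.cons_val_one, Matrix.cons_val_fin_one, hqp, hQ'.diag] at this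
    exact (mul_eq_zero.1 this).resolve_left h2
  · simpa [f, hlp] using hx (Sum.inl k)

/-- A vector orthogonal to `x` is found among the common zeros of few functionals. -/
theorem not_totally_singular (hQ : QF Q B) (hn : 4 < Fintype.card ι) {φ ψ : Dual F (ι → F)} {e₁ e₂ : V}
    (h11 : φ e₁ = 1) (h12 : φ e₂ = 0) (h21 : ψ e₁ = 0) (h22 : ψ e₂ = 1) :
    ∃ x y, φ x = 0 ∧ ψ x = 0 ∧ φ y = 0 ∧ ψ y = 0 ∧ B x y ≠ 0 := by
  by_contra hc
  push Not at hc
  let L : (ι → F) →ₗ[F] (Fin 4 → F) := LinearMap.pi ![φ, ψ, B.flip e₁, B.flip e₂]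
  have hker : LinearMap.ker L ≠ ⊥ := LinearMap.ker_ne_bot_of_finrank_lt (by simpa using hn)
  obtain ⟨x, hx, hx0⟩ := Submodule.exists_mem_ne_zero_of_ne_bot hker
  have h0 : ∀ k, (![φ, ψ, B.flip e₁, B.flip e₂] : Fin 4 → Dual F (ι → F)) k x = 0 := fun k => congrFun hx k
  refine hx0 (hQ.nondeg x fun y => ?_)
  have hs := hc x (y - φ y • e₁ - ψ y • e₂) (h0 0) (h0 1)
    (by simp [h11, h12]) (by simp [h21, h22])
  have a1 : B x e₁ = 0 := h0 2
  have a2 : B x e₂ = 0 := h0 3
  rw [map_sub, map_sub, map_smul, map_smul, a1, a2, smul_zero, smul_zero, sub_zero, sub_zero] at hs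
  rw [hQ.symm]; exact hs

end zeros

variable [Fintype F] (h2 : (2 : F) ≠ 0) (hQ : QF Q B) (hn : 13 ≤ Fintype.card ι) {M : Subgroup (GL ι F)}

include h2 hQ hn

theorem not_prop_of_ker {a x : V} {ψ : Dual F (ι → F)} (hψ : ψ a = 1) (hx : ψ x = 0) (hx0 : x ≠ 0) :
    (∀ r : F, x ≠ r • a) ∧ ∀ r : F, a ≠ r • x := by
  refine ⟨fun r e => hx0 ?_, fun r e => ?_⟩
  · rw [e, map_smul, hψ, smul_eq_mul, mul_one] at hx
    rw [e, hx, zero_smul]
  · have := congrArg ψ e
    rw [map_smul, hψ, hx, smul_zero] at this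
    exact one_ne_zero this

theorem agree_scalar {a b : V} (hba : ∀ r : F, b ≠ r • a) (hab : ∀ r : F, a ≠ r • b) {l l' : F}
    (hl : ∀ x, B x a = 0 → Q' x = l * Q x) (hl' : ∀ x, B x b = 0 → Q' x = l' * Q x) : l' = l := by
  by_contra hne
  obtain ⟨e₁, h21, h11⟩ := exists_value_fun (flip_not_prop hQ hab) 1
  obtain ⟨e₂, h12, h22⟩ := exists_value_fun (flip_not_prop hQ hba) 1
  obtain ⟨x, y, hx, hx', hy, hy', hxy⟩ := not_totally_singular hQ (by omega) h11 h12 h21 h22
  have e0 : ∀ z, B z a = 0 → B z b = 0 → Q z = 0 := fun z hz hz' => by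
    by_contra hz0
    exact hne (mul_right_cancel₀ hz0 ((hl' z hz').symm.trans (hl z hz)))
  have h1 : B x a = 0 := hx
  have h1' : B x b = 0 := hx'
  have h3 : B y a = 0 := hy
  have h3' : B y b = 0 := hy'
  refine hxy ?_
  have := hQ.add x y
  rw [e0 _ (by simp [h1, h3]) (by simp [h1', h3']), e0 _ h1 h1', e0 _ h3 h3'] at this
  linear_combination -this

/-- A transvection arises from the Siegel transformations of two forms, or the forms are proportional. -/
theorem exists_transv (hQ' : QF Q' B') (hM : ∀ a b ha hab, sG hQ a b ha hab ∈ M)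
    (hM' : ∀ a b ha hab, sG hQ' a b ha hab ∈ M) :
    (∃ (a : V) (ω : Dual F (ι → F)), a ≠ 0 ∧ Q a = 0 ∧ ω a = 0 ∧ ω ≠ 0 ∧ Tm M ω a) ∨
      ∃ c : F, c ≠ 0 ∧ ∀ x, Q' x = c * Q x := by
  refine or_iff_not_imp_left.2 fun hno => ?_
  have key : ∀ a b c : V, a ≠ 0 → Q a = 0 → Q' a = 0 → B a b = 0 → B' a b = 0 → B a c = 0 → B' a c = 0 →
      B' b c • B.flip a - B c b • B'.flip a = 0 := by
    intro a b c ha0 ha ha' hb hb' hc hc'
    by_contra hω
    set ω := B' b c • B.flip a - B c b • B'.flip a with hωdef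
    have haa : B a a = 0 := by rw [hQ.diag, ha, mul_zero]
    have haa' : B' a a = 0 := by rw [hQ'.diag, ha', mul_zero]
    have hωa : ω a = 0 := by simp [hωdef, haa, haa']
    refine hno ⟨a, ω, ha0, ha, hωa, hω, hωa, ?_⟩
    set u := sG hQ a b ha hb with hu
    set v := sG hQ' a c ha' hc' with hv
    have he : u * v = transGL ω a hωa * (v * u) := by
      refine gl_ext fun x => ?_
      simp only [Units.val_mul, ← Matrix.mulVec_mulVec]
      rw [hu, hv, transGL_apply, sG_apply, sG_apply, sG_apply, sG_apply]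
      simp only [hωdef, LinearMap.sub_apply, LinearMap.smul_apply, LinearMap.BilinForm.flip_apply, LinearMap.flip_apply,
        map_add, map_sub, map_smul, LinearMap.add_apply, smul_eq_mul, hQ.symm b a, hQ.symm c a, hQ'.symm b a,
        hQ'.symm c a, hb, hb', hc, hc', haa, haa']
      module
    rw [eq_mul_inv_of_mul_eq he.symm]
    exact mul_mem (mul_mem (hM _ _ _ _) (hM' _ _ _ _)) (inv_mem (mul_mem (hM' _ _ _ _) (hM _ _ _ _)))
  have single : ∀ a : V, a ≠ 0 → Q a = 0 → Q' a = 0 →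
      ∃ l : F, l ≠ 0 ∧ ∀ x, B x a = 0 → Q' x = l * Q x := by
    intro a ha0 ha ha'
    by_cases hp : ∃ l : F, B'.flip a = l • B.flip a
    · obtain ⟨l, hl⟩ := hp
      have hlx : ∀ x, B' x a = l * B x a := fun x => LinearMap.congr_fun hl x
      refine ⟨l, fun e => hQ'.flip_ne ha0 (by rw [hl, e, zero_smul]), fun x hx => ?_⟩
      have h0 := key a x x ha0 ha ha' (by rw [hQ.symm]; exact hx) (by rw [hQ'.symm, hlx, hx, mul_zero])
        (by rw [hQ.symm]; exact hx) (by rw [hQ'.symm, hlx, hx, mul_zero])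
      obtain ⟨e, he⟩ : ∃ e, B e a ≠ 0 := by
        by_contra hc; push Not at hc; exact ha0 (hQ.nondeg a hc)
      have h1 := LinearMap.congr_fun h0 e
      simp only [LinearMap.sub_apply, LinearMap.smul_apply, LinearMap.zero_apply, smul_eq_mul] at h1
      change B' x x * B e a - B x x * B' e a = 0 at h1
      rw [hlx, hQ.diag, hQ'.diag] at h1
      exact mul_left_cancel₀ (mul_ne_zero h2 he) (by linear_combination h1)
    · exfalso
      push Not at hp
      have hp2 : ∀ r : F, B.flip a ≠ r • B'.flip a := by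
        intro r e
        rcases eq_or_ne r 0 with rfl | hr
        · exact hQ.flip_ne ha0 (by rw [e, zero_smul])
        · exact hp r⁻¹ (by rw [e, inv_smul_smul₀ hr])
      obtain ⟨e₁, h21, h11⟩ := exists_value_fun hp2 1
      obtain ⟨e₂, h12, h22⟩ := exists_value_fun hp 1
      obtain ⟨b, c, hb, hb', hc, hc', hbc⟩ := not_totally_singular hQ (by omega) h11 h12 h21 h22
      have h0 := key a c b ha0 ha ha' (by rw [hQ.symm]; exact hc) (by rw [hQ'.symm]; exact hc')
        (by rw [hQ.symm]; exact hb) (by rw [hQ'.symm]; exact hb')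
      have := LinearMap.congr_fun h0 e₂
      simp only [LinearMap.sub_apply, LinearMap.smul_apply, LinearMap.zero_apply, smul_eq_mul] at this
      rw [h12, h22, mul_zero, mul_one, zero_sub, neg_eq_zero] at this
      exact hbc this
  obtain ⟨a, ha0, ha, ha', -⟩ := exists_zero h2 hQ hQ' (![] : Fin 0 → Dual F (ι → F)) (by omega)
  obtain ⟨l, hl0, hl⟩ := single a ha0 ha ha'
  obtain ⟨ψ, hψ⟩ := exists_dual_one ha0
  obtain ⟨a₂, ha20, ha2, ha2', hL2⟩ := exists_zero h2 hQ hQ' ![B.flip a, ψ] (by omega)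
  have hn2 := not_prop_of_ker h2 hQ hn hψ (hL2 1) ha20
  obtain ⟨l₂, -, hl2⟩ := single a₂ ha20 ha2 ha2'
  obtain ⟨ψ₁, h1a, h12'⟩ := exists_dual_pair hn2.1
  obtain ⟨ψ₂, h2a2, h2a⟩ := exists_dual_pair hn2.2
  obtain ⟨a₃, ha30, ha3, ha3', hL3⟩ := exists_zero h2 hQ hQ' ![B.flip a, B.flip a₂, ψ₁, ψ₂] (by omega)
  obtain ⟨l₃, -, hl3⟩ := single a₃ ha30 ha3 ha3'
  obtain ⟨e₁, h21, h11⟩ := exists_value_fun (flip_not_prop hQ hn2.2) 1
  obtain ⟨e₂, h12, h22⟩ := exists_value_fun (flip_not_prop hQ hn2.1) 1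
  have hl2eq : l₂ = l := agree_scalar h2 hQ hn hn2.1 hn2.2 hl hl2
  rw [hl2eq] at hl2
  set D : LinearMap.BilinForm F (ι → F) := B' - l • B with hD
  have hDsym : ∀ x y, D x y = D y x := fun x y => by simp [hD, hQ.symm x y, hQ'.symm x y]
  have hDx : ∀ x, D x x = 2 * (Q' x - l * Q x) := fun x => by simp [hD, hQ.diag, hQ'.diag]; ring
  have hD0 : ∀ x y, (B x a = 0 ∧ B y a = 0) ∨ (B x a₂ = 0 ∧ B y a₂ = 0) → D x y = 0 := by
    intro x y hxy
    have hq : ∀ z, B z a = 0 ∨ B z a₂ = 0 → Q' z = l * Q z := fun z hz => hz.elim (hl z) (hl2 z)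
    have e1 := hQ.add x y
    have e2 := hQ'.add x y
    rw [hq (x + y) (hxy.imp (fun h => by simp [h.1, h.2]) fun h => by simp [h.1, h.2]), hq x (hxy.imp And.left And.left),
      hq y (hxy.imp And.right And.right)] at e2
    simp only [hD, LinearMap.sub_apply, LinearMap.smul_apply, smul_eq_mul]
    linear_combination l * e1 - e2
  have hd11 : B e₁ a₂ = 0 := h21
  have hd22 : B e₂ a = 0 := h12
  have hda1 : B e₁ a = 1 := h11
  have hda2 : B e₂ a₂ = 1 := h22
  have hform : ∀ x, D x x = 2 * (B x a * B x a₂ * D e₁ e₂) := by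
    intro x
    set s := x - B x a • e₁ - B x a₂ • e₂ with hs
    have hs1 : B s a = 0 := by simp [hs, hda1, hd22]
    have hs2 : B s a₂ = 0 := by simp [hs, hd11, hda2]
    have hx : x = B x a • e₁ + B x a₂ • e₂ + s := by rw [hs]; abel
    conv_lhs => rw [hx]
    simp only [map_add, map_smul, LinearMap.add_apply, LinearMap.smul_apply, smul_eq_mul,
      hD0 e₁ e₁ (Or.inr ⟨hd11, hd11⟩), hD0 e₂ e₂ (Or.inl ⟨hd22, hd22⟩), hD0 s s (Or.inl ⟨hs1, hs1⟩),
      hD0 e₁ s (Or.inr ⟨hd11, hs2⟩), hD0 s e₁ (Or.inr ⟨hs2, hd11⟩), hD0 e₂ s (Or.inl ⟨hd22, hs1⟩),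
      hD0 s e₂ (Or.inl ⟨hs1, hd22⟩), hDsym e₂ e₁]
    ring
  obtain ⟨x, hx3, hxa, hxa2⟩ : ∃ x, B x a₃ = 0 ∧ B x a ≠ 0 ∧ B x a₂ ≠ 0 := by
    have p1 : ∀ r : F, a ≠ r • a₃ := fun r e => by
      have := congrArg ψ₂ e
      rw [map_smul, h2a, show ψ₂ a₃ = 0 from hL3 3, smul_zero] at this
      exact one_ne_zero this
    have p2 : ∀ r : F, a₂ ≠ r • a₃ := fun r e => by
      have := congrArg ψ₁ e
      rw [map_smul, h12', show ψ₁ a₃ = 0 from hL3 2, smul_zero] at this
      exact one_ne_zero this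
    obtain ⟨y, hy3, hya⟩ := exists_sep_fun (flip_not_prop hQ p1)
    obtain ⟨z, hz3, hza⟩ := exists_sep_fun (flip_not_prop hQ p2)
    have hy3' : B y a₃ = 0 := hy3
    have hz3' : B z a₃ = 0 := hz3
    have hya' : B y a ≠ 0 := hya
    have hza' : B z a₂ ≠ 0 := hza
    by_cases hy2 : B y a₂ = 0
    · by_cases hz1 : B z a = 0
      · exact ⟨y + z, by simp [hy3', hz3'], by simp [hz1, hya'], by simp [hy2, hza']⟩
      · exact ⟨z, hz3', hz1, hza'⟩
    · exact ⟨y, hy3', hya', hy2⟩
  have hl3eq : l₃ = l := by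
    refine agree_scalar h2 hQ hn (fun r e => ?_) (fun r e => ?_) hl hl3
    · have h := congrArg ψ₁ e
      rw [map_smul, h1a, smul_zero] at h
      have h' : ψ₂ a₃ = r := by rw [e, map_smul, h2a, smul_eq_mul, mul_one]
      exact ha30 (by rw [e, ← h', show ψ₂ a₃ = 0 from hL3 3, zero_smul])
    · have h := congrArg ψ₂ e
      rw [map_smul, h2a, show ψ₂ a₃ = 0 from hL3 3, smul_zero] at h
      exact one_ne_zero h
  rw [hl3eq] at hl3
  have hd : D e₁ e₂ = 0 := by
    have h0 := hDx x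
    rw [hl3 x hx3, sub_self, mul_zero, hform] at h0
    simpa [h2, hxa, hxa2] using h0
  refine ⟨l, hl0, fun y => ?_⟩
  have h0 := hDx y
  rw [hform, hd, mul_zero, mul_zero] at h0
  exact sub_eq_zero.1 ((mul_eq_zero.1 h0.symm).resolve_left h2)

theorem move_singular (hM : ∀ a b ha hab, sG hQ a b ha hab ∈ M) {a b : V} (ha0 : a ≠ 0) (hb0 : b ≠ 0)
    (ha : Q a = 0) (hb : Q b = 0) :
    ∃ g ∈ M, (∀ x, Q ((g : Mat) *ᵥ x) = Q x) ∧ (g : Mat) *ᵥ a = b := by
  have one : ∀ a b : V, Q a = 0 → Q b = 0 → a ≠ 0 → B a b = 0 → (∀ r : F, b ≠ r • a) →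
      ∃ g ∈ M, (∀ x, Q ((g : Mat) *ᵥ x) = Q x) ∧ (g : Mat) *ᵥ a = b := by
    intro a b ha hb ha0 hab hnp
    obtain ⟨e, he⟩ : ∃ e, B e a ≠ 0 := by
      by_contra hc; push Not at hc; exact ha0 (hQ.nondeg a hc)
    obtain ⟨z, hza, hzb⟩ := exists_value_fun (flip_not_prop hQ hnp) (1 - B ((B e a)⁻¹ • e) b)
    set y := (B e a)⁻¹ • e + z with hy
    have hya : B y a = 1 := by
      have : B z a = 0 := hza
      simp [hy, this, inv_mul_cancel₀ he]
    have hyb : B y b = 1 := by
      have : B z b = 1 - B ((B e a)⁻¹ • e) b := hzb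
      rw [hy, map_add, LinearMap.add_apply, this]; ring
    have haa : B a a = 0 := by rw [hQ.diag, ha, mul_zero]
    set c := y + (-Q y) • a with hc
    have hcQ : Q c = 0 := by rw [hc, hQ.add, hQ.smul, ha, map_smul, smul_eq_mul, hya]; ring
    have hca : B c a = 1 := by simp [hc, hya, haa]
    have hcb : B c b = 1 := by simp [hc, hyb, hab]
    have hcba : B c (b - a) = 0 := by rw [map_sub, hcb, hca, sub_self]
    refine ⟨sG hQ c (b - a) hcQ hcba, hM _ _ _ _, sG_iso hQ _ _ _ _, ?_⟩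
    rw [sG_apply, hQ.symm a c, hca, one_smul, map_sub, hab, haa, sub_zero]
    have : Q (b - a) = 0 := by
      rw [sub_eq_add_neg, hQ.add, ← neg_one_smul F a, hQ.smul, ha, hb, map_smul, hQ.symm b a, hab]
      simp
    rw [this]
    simp
  obtain ⟨ψ₁, h1⟩ := exists_dual_one ha0
  obtain ⟨ψ₂, h2'⟩ := exists_dual_one hb0
  obtain ⟨e, he0, he, -, hL⟩ := exists_zero h2 hQ hQ ![B.flip a, B.flip b, ψ₁, ψ₂] (by omega)
  have hea : B e a = 0 := hL 0
  have heb : B e b = 0 := hL 1
  obtain ⟨g₁, hg₁, hi₁, hv₁⟩ := one a e ha he ha0 (by rw [hQ.symm]; exact hea) (not_prop_of_ker h2 hQ hn h1 (hL 2) he0).1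
  obtain ⟨g₂, hg₂, hi₂, hv₂⟩ := one e b he hb he0 heb (not_prop_of_ker h2 hQ hn h2' (hL 3) he0).2
  exact ⟨g₂ * g₁, mul_mem hg₂ hg₁, fun x => by rw [Units.val_mul, ← Matrix.mulVec_mulVec, hi₂, hi₁],
    by rw [Units.val_mul, ← Matrix.mulVec_mulVec, hv₁, hv₂]⟩

theorem all_transv (hM : ∀ a b ha hab, sG hQ a b ha hab ∈ M) {a : V} {ω : Dual F (ι → F)} (ha0 : a ≠ 0)
    (ha : Q a = 0) (hω0 : ω ≠ 0) (hT : Tm M ω a) : ∀ (φ : Dual F (ι → F)) (v : V), φ v = 0 → Tm M φ v := by
  have haa : B a a = 0 := by rw [hQ.diag, ha, mul_zero]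
  have hcomp : ∀ {g : GL ι F} (v : V), (∀ x, Q ((g : Mat) *ᵥ x) = Q x) →
      (B.flip v).comp (Matrix.toLin' ((g⁻¹ : GL ι F) : Mat)) = B.flip ((g : Mat) *ᵥ v) := by
    intro g v hi
    refine LinearMap.ext fun x => ?_
    rw [LinearMap.comp_apply, Matrix.toLin'_apply]
    show B (((g⁻¹ : GL ι F) : Mat) *ᵥ x) v = B x ((g : Mat) *ᵥ v)
    conv_rhs => rw [← gl_inv_mulVec g x]
    rw [iso_polar hQ hi]
  have one : ∀ c : F, Tm M (c • B.flip a) a := by
    by_cases hp : ∃ d : F, ω = d • B.flip a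
    · obtain ⟨d, rfl⟩ := hp
      have hd : d ≠ 0 := fun e => hω0 (by rw [e, zero_smul])
      have hsq : ∀ μ : F, Tm M ((d * μ ^ 2) • B.flip a) a := by
        intro μ
        rcases eq_or_ne μ 0 with rfl | hμ
        · simpa using Tm.zero (M := M) a
        obtain ⟨g, hg, hi, hga⟩ := move_singular h2 hQ hn hM ha0 (smul_ne_zero hμ ha0) ha
          (by rw [hQ.smul, ha, mul_zero])
        have h1 := hT.conj hg
        rw [LinearMap.smul_comp, hcomp a hi, hga, map_smul, smul_smul] at h1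
        have h3 := Tm.smul_centre (f := (d * μ ^ 2) • B.flip a) μ⁻¹ (v := μ • a) (by simp [haa]) (by
          rw [smul_smul, show μ⁻¹ * (d * μ ^ 2) = d * μ by field_simp]
          exact h1)
        rwa [inv_smul_smul₀ hμ] at h3
      intro c
      have h := (hsq ((c / d + 1) / 2)).sub (hsq ((c / d - 1) / 2))
      have e : (d * ((c / d + 1) / 2) ^ 2) • B.flip a - (d * ((c / d - 1) / 2) ^ 2) • B.flip a = c • B.flip a := by
        refine LinearMap.ext fun x => ?_
        simp only [LinearMap.sub_apply, LinearMap.smul_apply, smul_eq_mul]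
        field_simp
        ring
      rwa [e] at h
    · push Not at hp
      obtain ⟨b, hb0, hb⟩ := exists_sep_fun hp
      have hab : B a b = 0 := by rw [hQ.symm]; exact hb0
      intro c
      have hab' : B a ((c / ω b) • b) = 0 := by rw [map_smul, hab, smul_zero]
      have hga : (((sG hQ a ((c / ω b) • b) ha hab')⁻¹ : GL ι F) : Mat) *ᵥ a = a := by
        have h0 : (sG hQ a ((c / ω b) • b) ha hab' : Mat) *ᵥ a = a := by
          rw [sG_apply, haa, hab', zero_smul, add_zero, mul_zero, add_zero, zero_smul, sub_zero]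
        have h3 := gl_inv_mulVec' (sG hQ a ((c / ω b) • b) ha hab') a
        rwa [h0] at h3
      have h1 := hT.conj (inv_mem (hM a ((c / ω b) • b) ha hab'))
      rw [hga, inv_inv] at h1
      have h3 := h1.sub hT
      have e : ω.comp (Matrix.toLin' (sG hQ a ((c / ω b) • b) ha hab' : Mat)) - ω = c • B.flip a := by
        refine LinearMap.ext fun x => ?_
        rw [LinearMap.sub_apply, LinearMap.comp_apply, Matrix.toLin'_apply, sG_apply, map_sub, map_add, map_smul,
          map_smul, map_smul, hT.1, smul_zero, sub_zero, add_sub_cancel_left, smul_eq_mul, smul_eq_mul,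
          div_mul_cancel₀ _ hb]
        exact mul_comm (B x a) c
      rwa [e] at h3
  have allsing : ∀ b : V, Q b = 0 → ∀ c : F, Tm M (c • B.flip b) b := by
    intro b hb c
    rcases eq_or_ne b 0 with rfl | hb0
    · simpa using Tm.zero (M := M) (0 : V)
    obtain ⟨g, hg, hi, hga⟩ := move_singular h2 hQ hn hM ha0 hb0 ha hb
    have h1 := (one c).conj hg
    rwa [LinearMap.smul_comp, hcomp a hi, hga] at h1
  have base : ∀ v w : V, Q v ≠ 0 → B w v = 0 → Q w = -Q v → ∀ c : F, Tm M (c • B.flip w) v := by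
    intro v w hv hwv hw c
    set a₁ := (2 : F)⁻¹ • (v + w) with ha₁
    set a₂ := (2 : F)⁻¹ • (v - w) with ha₂
    have hvw : B v w = 0 := by rw [hQ.symm]; exact hwv
    have hQ1 : Q a₁ = 0 := by rw [ha₁, hQ.smul, hQ.add, hw, hvw]; ring
    have hQ2 : Q a₂ = 0 := by
      rw [ha₂, sub_eq_add_neg, hQ.smul, hQ.add, ← neg_one_smul F w, hQ.smul, hw, map_smul, hvw, smul_zero]; ring
    have h12 : B a₁ a₂ = Q v := by
      simp only [ha₁, ha₂, map_add, map_sub, map_smul, LinearMap.add_apply, LinearMap.sub_apply, LinearMap.smul_apply,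
        smul_eq_mul, hQ.diag, hvw, hwv, hw]
      field_simp
      ring
    obtain ⟨h0, hm⟩ := allsing a₂ hQ2 (Q v)⁻¹
    have h1 := (allsing a₁ hQ1 c).conj hm
    rw [transGL_apply, LinearMap.smul_apply, show B.flip a₂ a₁ = Q v from h12, smul_eq_mul, inv_mul_cancel₀ hv, one_smul,
      show a₁ + a₂ = v by rw [ha₁, ha₂, ← smul_add, show v + w + (v - w) = (2 : F) • v by module, inv_smul_smul₀ h2]] at h1
    have e : (c • B.flip a₁).comp (Matrix.toLin' (((transGL ((Q v)⁻¹ • B.flip a₂) a₂ h0)⁻¹ : GL ι F) : Mat)) =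
        c • B.flip w := by
      refine LinearMap.ext fun x => ?_
      obtain ⟨z, rfl⟩ : ∃ z, x = (transGL ((Q v)⁻¹ • B.flip a₂) a₂ h0 : Mat) *ᵥ z :=
        ⟨_, (gl_inv_mulVec _ x).symm⟩
      rw [LinearMap.comp_apply, Matrix.toLin'_apply, gl_inv_mulVec', transGL_apply]
      show c * B z a₁ = c * B (z + ((Q v)⁻¹ * B z a₂) • a₂) w
      have hw12 : w = a₁ - a₂ := by rw [ha₁, ha₂, ← smul_sub, show v + w - (v - w) = (2 : F) • w by module, inv_smul_smul₀ h2]
      congr 1
      rw [hw12]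
      simp only [map_add, map_sub, map_smul, LinearMap.add_apply, LinearMap.smul_apply, smul_eq_mul, hQ.symm a₂ a₁,
        h12, hQ.diag a₂, hQ2]
      field_simp
      ring
    rwa [e] at h1
  have pair : ∀ (v a b : V), Q a = 0 → B a v = 0 → (∃ y, B y a = 1 ∧ B y v = 0 ∧ B y b = 0) →
      ∃ c, Q c = 0 ∧ B c a = 1 ∧ B c v = 0 ∧ (B a b = 0 → B c b = 0) := by
    intro v a b ha hav ⟨y, h1, h3, h4⟩
    have haa : B a a = 0 := by rw [hQ.diag, ha, mul_zero]
    exact ⟨y + (-Q y) • a, by rw [hQ.add, hQ.smul, ha, map_smul, smul_eq_mul, h1]; ring, by simp [h1, haa],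
      by simp [h3, hav], fun hab => by simp [h4, hab]⟩
  have aniso : ∀ v : V, Q v ≠ 0 → ∀ u, B u v = 0 → ∀ c : F, Tm M (c • B.flip u) v := by
    intro v hv
    have hlin : ∀ u u' : V, (∀ c : F, Tm M (c • B.flip u) v) → (∀ c : F, Tm M (c • B.flip u') v) →
        ∀ c : F, Tm M (c • B.flip (u + u')) v := fun u u' h h' c => by
      rw [map_add, smul_add]; exact (h c).add (h' c)
    have hsm : ∀ (r : F) (u : V), (∀ c : F, Tm M (c • B.flip u) v) → ∀ c : F, Tm M (c • B.flip (r • u)) v :=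
      fun r u h c => by rw [map_smul, smul_smul]; exact h _
    have hv0 : v ≠ 0 := fun e => hv (by rw [e, hQ.zero])
    have sing : ∀ s : V, s ≠ 0 → Q s = 0 → B s v = 0 → ∀ c : F, Tm M (c • B.flip s) v := by
      intro s hs0 hs hsv c
      obtain ⟨ψ, hψ⟩ := exists_dual_one hs0
      obtain ⟨t, ht0, ht, -, hLt⟩ := exists_zero h2 hQ hQ ![B.flip s, B.flip v, ψ] (by omega)
      have htv : B t v = 0 := hLt 1
      have hts : B t s = 0 := hLt 0
      have hnp := (not_prop_of_ker h2 hQ hn hψ (hLt 2) ht0).1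
      obtain ⟨y, hy⟩ : ∃ y, B y t = 1 ∧ B y v = 0 ∧ B y s = 0 := by
        -- `t` is independent of `v` and `s`
        let L : (ι → F) →ₗ[F] (Fin 2 → F) := LinearMap.pi ![B.flip v, B.flip s]
        by_contra hc
        push Not at hc
        have hle : LinearMap.ker L ≤ LinearMap.ker (B.flip t) := fun x hx => by
          have h1 : B x v = 0 := congrFun hx 0
          have h3 : B x s = 0 := congrFun hx 1
          rw [LinearMap.mem_ker]
          by_contra hxt
          exact hc ((B.flip t x)⁻¹ • x) (by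
            rw [map_smul, LinearMap.smul_apply, smul_eq_mul]; exact inv_mul_cancel₀ hxt)
            (by rw [map_smul, LinearMap.smul_apply, h1, smul_zero])
            (by rw [map_smul, LinearMap.smul_apply, h3, smul_zero])
        have hmem : B.flip t ∈ Submodule.span F (Set.range ![B.flip v, B.flip s]) := by
          refine mem_span_of_iInf_ker_le_ker fun x hx => hle ?_
          simp only [Submodule.mem_iInf, LinearMap.mem_ker] at hx
          exact funext fun k => hx k
        obtain ⟨r, hr⟩ := (Submodule.mem_span_range_iff_exists_fun F).1 hmem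
        rw [Fin.sum_univ_two] at hr
        have ht' : t = r 0 • v + r 1 • s := (sub_eq_zero.1 (hQ.nondeg _ fun x => by
          have := LinearMap.congr_fun hr x
          rw [map_sub, map_add, map_smul, map_smul, sub_eq_zero]
          exact this.symm))
        have : B t v = r 0 * (2 * Q v) := by
          rw [ht']; simp [hsv, hQ.diag]
        rw [htv] at this
        have hr0 : r 0 = 0 := (mul_eq_zero.1 this.symm).resolve_right (mul_ne_zero h2 hv)
        exact hnp (r 1) (by rw [ht', hr0, zero_smul, zero_add])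
      obtain ⟨q, hq, hqt, hqv, hqs⟩ := pair v t s ht htv ⟨y, hy⟩
      have hqs' := hqs hts
      set w := t + (-Q v) • q with hw
      have hwQ : Q w = -Q v := by rw [hw, hQ.add, hQ.smul, ht, hq, map_smul, smul_eq_mul, hQ.symm t q, hqt]; ring
      have hwv : B w v = 0 := by simp [hw, htv, hqv]
      have hws : B w s = 0 := by simp [hw, hts, hqs']
      have h1 := base v (w + s) hv (by simp [hwv, hsv]) (by rw [hQ.add, hwQ, hs, hws]; ring) c
      have h3 := h1.sub (base v w hv hwv hwQ c)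
      rwa [map_add, smul_add, add_sub_cancel_left] at h3
    obtain ⟨s, hs0, hs, -, hLs⟩ := exists_zero h2 hQ hQ ![B.flip v] (by omega)
    have hsv : B s v = 0 := hLs 0
    have hsv' : ∀ r : F, s ≠ r • v := fun r e => by
      rw [e, map_smul, LinearMap.smul_apply, hQ.diag, smul_eq_mul] at hsv
      have : r = 0 := (mul_eq_zero.1 hsv).resolve_right (mul_ne_zero h2 hv)
      exact hs0 (by rw [e, this, zero_smul])
    obtain ⟨y, hyv, hys⟩ := exists_value_fun (flip_not_prop hQ hsv') 1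
    obtain ⟨q, hq, hqs, hqv, -⟩ := pair v s 0 hs hsv ⟨y, hys, hyv, map_zero _⟩
    have hq0 : q ≠ 0 := fun e => by simp [e] at hqs
    have good : ∀ u : V, B u v = 0 → B u q ≠ 0 → ∀ c : F, Tm M (c • B.flip u) v := by
      intro u huv huq c
      set r := Q u / B u q with hr
      have h1 : Q (u + (-r) • q) = 0 := by
        rw [hQ.add, hQ.smul, hq, map_smul, smul_eq_mul, hr]; field_simp; ring
      have h3 : B (u + (-r) • q) v = 0 := by simp [huv, hqv]
      have h4 := hlin (u + (-r) • q) _ (fun c => by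
        rcases eq_or_ne (u + (-r) • q) 0 with e | e
        · rw [e]; simpa using Tm.zero (M := M) v
        · exact sing _ e h1 h3 c) (hsm r q (fun c => sing q hq0 hq hqv c)) c
      rwa [neg_smul, neg_add_cancel_right] at h4
    intro u huv c
    by_cases huq : B u q = 0
    · have h1 := good (u + s) (by simp [huv, hsv]) (by simp [huq, hQ.symm s q, hqs]) c
      have h3 := h1.sub (sing s hs0 hs hsv c)
      rwa [map_add, smul_add, add_sub_cancel_right] at h3
    · exact good u huv huq c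
  have anisoAll : ∀ v : V, Q v ≠ 0 → ∀ φ : Dual F (ι → F), φ v = 0 → Tm M φ v := by
    intro v hv φ hφ
    obtain ⟨u, rfl⟩ : ∃ u, B.flip u = φ := by
      have hinj : Function.Injective B.flip := (injective_iff_map_eq_zero _).2 fun z hz =>
        hQ.nondeg z fun x => LinearMap.congr_fun hz x
      exact ((LinearMap.injective_iff_surjective_of_finrank_eq_finrank Subspace.dual_finrank_eq.symm).1 hinj) φ
    have := aniso v hv u (by rw [hQ.symm]; exact hφ) 1
    rwa [one_smul] at this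
  intro φ v hφ
  by_cases hv : Q v ≠ 0
  · exact anisoAll v hv φ hφ
  push Not at hv
  rcases eq_or_ne v 0 with rfl | hv0
  · refine ⟨map_zero φ, ?_⟩
    have : transGL φ (0 : V) (map_zero φ) = 1 := gl_ext fun x => by simp [transGL_apply]
    rw [this]; exact M.one_mem
  obtain ⟨y, hy⟩ : ∃ y, B y v = 1 := by
    by_contra hc; push Not at hc
    refine hv0 (hQ.nondeg v fun x => ?_)
    by_contra hx
    exact hc ((B x v)⁻¹ • x) (by rw [map_smul, LinearMap.smul_apply, smul_eq_mul, inv_mul_cancel₀ hx])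
  have hvv : B v v = 0 := by rw [hQ.diag, hv, mul_zero]
  set q := y + (-Q y) • v with hqd
  have hq : Q q = 0 := by rw [hqd, hQ.add, hQ.smul, hv, map_smul, smul_eq_mul, hy]; ring
  have hqv : B q v = 1 := by simp [hqd, hy, hvv]
  set p := q + (2 : F) • v with hpd
  set u := -(q + v) with hud
  have hp : Q p ≠ 0 := by
    rw [hpd, hQ.add, hQ.smul, hq, hv, map_smul, hqv, smul_eq_mul]; simpa using h2
  have hu : Q u ≠ 0 := by
    rw [hud, ← neg_one_smul F (q + v), hQ.smul, hQ.add, hq, hv, hqv]; simp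
  have hup : u + p = v := by rw [hud, hpd]; module
  have hindep : ∀ r : F, u ≠ r • p := fun r e => by
    have e1 : B u v = r * B p v := by rw [e, map_smul, LinearMap.smul_apply, smul_eq_mul]
    have e2 : B u q = r * B p q := by rw [e, map_smul, LinearMap.smul_apply, smul_eq_mul]
    simp [hud, hpd, hqv, hvv, hQ.diag q, hq, hQ.symm v q] at e1 e2
    rw [← e1] at e2
    exact one_ne_zero (show (1 : F) = 0 by linear_combination e2)
  obtain ⟨ψ, hψp, hψu⟩ := exists_dual_pair hindep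
  obtain ⟨h0, hm⟩ := anisoAll p hp ψ hψp
  have hgu : (transGL ψ p h0 : Mat) *ᵥ u = v := by rw [transGL_apply, hψu, one_smul, hup]
  have h1 := (anisoAll u hu (φ.comp (Matrix.toLin' (transGL ψ p h0 : Mat))) (by
    rw [LinearMap.comp_apply, Matrix.toLin'_apply, hgu, hφ])).conj hm
  rw [hgu] at h1
  convert h1 using 1
  refine LinearMap.ext fun x => ?_
  simp [gl_inv_mulVec, -Matrix.coe_units_inv]

omit h2 hn in
theorem sim_not_top (hn' : 3 ≤ Fintype.card ι) {a : V} (ha0 : a ≠ 0) (ha : Q a = 0) :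
    ∃ h : (B.flip a) a = 0, ¬ ∃ c : F, c ≠ 0 ∧ ∀ x, Q ((transGL (B.flip a) a h : Mat) *ᵥ x) = c * Q x := by
  have haa : B a a = 0 := by rw [hQ.diag, ha, mul_zero]
  have haaf : (B.flip a) a = 0 := haa
  refine ⟨haaf, fun ⟨c, _, hc⟩ => ?_⟩
  obtain ⟨y, hy⟩ : ∃ y, B y a = 1 := by
    by_contra hc'; push Not at hc'
    refine ha0 (hQ.nondeg a fun x => ?_)
    by_contra hx
    exact hc' ((B x a)⁻¹ • x) (by rw [map_smul, LinearMap.smul_apply, smul_eq_mul, inv_mul_cancel₀ hx])
  set q := y + (-Q y) • a with hqd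
  have hq : Q q = 0 := by rw [hqd, hQ.add, hQ.smul, ha, map_smul, smul_eq_mul, hy]; ring
  have hqa : B q a = 1 := by simp [hqd, hy, haa]
  have h := hc q
  rw [transGL_apply, show B.flip a q = 1 from hqa, one_smul, hQ.add, hq, ha, hqa, mul_zero] at h
  exact one_ne_zero (by linear_combination h)

end Cfsg.Agent.Classical.MaxOrthSL
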