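import Cfsg.Agent.Lib.Classical.MaxOrthSL

/-!
Singular vectors orthogonal to given vectors.
-/

set_option autoImplicit false
set_option linter.unusedSectionVars false

open Module Matrix

namespace Cfsg.Agent.Classical.MaxOrthSL

open MaxLin

variable {F : Type*} [Field F] {ι : Type} [Fintype ι] [DecidableEq ι]

local notation "V" => ι → F

variable {Q : (ι → F) → F} {B : LinearMap.BilinForm F (ι → F)}

theorem exists_avoid {m : ℕ} (W : Fin m → V) :
    ∃ ψ : Fin m → Dual F (ι → F), ∀ x ∈ Submodule.span F (Set.range W), (∀ k, ψ k x = 0) → x = 0 := by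
  classical
  set U := Submodule.span F (Set.range W) with hU
  have hk : finrank F U ≤ m := (finrank_range_le_card W).trans (by simp)
  let b := Module.finBasis F U
  choose φ hφ using fun i : Fin (finrank F U) => LinearMap.exists_extend (b.coord i)
  refine ⟨fun i => if h : (i : ℕ) < finrank F U then φ ⟨i, h⟩ else 0, fun x hx h0 => ?_⟩
  have : (⟨x, hx⟩ : U) = 0 := by
    refine b.ext_elem fun i => ?_
    have hi := h0 ⟨i, lt_of_lt_of_le i.2 hk⟩
    simp only [i.2, dif_pos, Fin.eta] at hi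
    have := LinearMap.congr_fun (hφ i) ⟨x, hx⟩
    rw [LinearMap.comp_apply, Submodule.coe_subtype, hi, Module.Basis.coord_apply] at this
    simpa using this.symm
  exact congrArg Subtype.val this

theorem exists_dual_vec (h : QF Q B) {m : ℕ} (W : Fin m → V) {z : V} (hz : z ∉ Submodule.span F (Set.range W)) :
    ∃ e, (∀ k, B e (W k) = 0) ∧ B e z = 1 := by
  by_contra hc
  push Not at hc
  have hle : ∀ e, (∀ k, B e (W k) = 0) → B e z = 0 := fun e he => by
    by_contra h1
    exact hc ((B e z)⁻¹ • e) (fun k => by rw [map_smul, LinearMap.smul_apply, he k, smul_zero])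
      (by rw [map_smul, LinearMap.smul_apply, smul_eq_mul, inv_mul_cancel₀ h1])
  have hmem : B.flip z ∈ Submodule.span F (Set.range fun k => B.flip (W k)) := by
    refine mem_span_of_iInf_ker_le_ker fun x hx => ?_
    simp only [Submodule.mem_iInf, LinearMap.mem_ker] at hx
    exact hle x hx
  obtain ⟨r, hr⟩ := (Submodule.mem_span_range_iff_exists_fun F).1 hmem
  refine hz ((Submodule.mem_span_range_iff_exists_fun F).2 ⟨r, sub_eq_zero.1 (h.nondeg _ fun x => ?_)⟩)
  have := LinearMap.congr_fun hr x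
  simp only [LinearMap.sum_apply, LinearMap.smul_apply] at this
  rw [map_sub, map_sum]
  simp only [map_smul]
  exact sub_eq_zero.2 this

variable [Fintype F]

theorem exists_singular_avoid (h2 : (2 : F) ≠ 0) (h : QF Q B) {m : ℕ} (W : Fin m → V) (hm : m + m + 4 < Fintype.card ι) :
    ∃ s, s ∉ Submodule.span F (Set.range W) ∧ s ≠ 0 ∧ Q s = 0 ∧ ∀ k, B s (W k) = 0 := by
  obtain ⟨ψ, hψ⟩ := exists_avoid W
  obtain ⟨s, hs0, hs, -, hL⟩ := exists_zero h2 h h (Fin.append (fun k => B.flip (W k)) ψ) (by omega)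
  refine ⟨s, fun hm => hs0 (hψ s hm fun k => ?_), hs0, hs, fun k => ?_⟩
  · have h3 := hL (Fin.natAdd m k)
    rwa [Fin.append_right] at h3
  · have h3 := hL (Fin.castAdd m k)
    rwa [Fin.append_left] at h3

theorem exists_hyp (h2 : (2 : F) ≠ 0) (h : QF Q B) {m : ℕ} (W : Fin m → V) (hm : m + m + 4 < Fintype.card ι) :
    ∃ s t, Q s = 0 ∧ Q t = 0 ∧ B s t = 1 ∧ (∀ k, B s (W k) = 0) ∧ ∀ k, B t (W k) = 0 := by
  obtain ⟨s, hsW, -, hs, hs'⟩ := exists_singular_avoid h2 h W hm
  obtain ⟨e, he, he1⟩ := exists_dual_vec h W hsW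
  have hss : B s s = 0 := by rw [h.diag, hs, mul_zero]
  refine ⟨s, e + (-Q e) • s, hs, by rw [h.add, h.smul, hs, map_smul, smul_eq_mul, he1]; ring, ?_, hs', fun k => ?_⟩
  · rw [map_add, map_smul, hss, smul_zero, add_zero, h.symm, he1]
  · simp [he k, hs' k]

theorem mem_span_of_singular (h2 : (2 : F) ≠ 0) (h : QF Q B) {m : ℕ} (W : Fin m → V) (hm : m + m + 4 < Fintype.card ι)
    {u : V} (hu : ∀ s, Q s = 0 → (∀ k, B s (W k) = 0) → B u s = 0) : u ∈ Submodule.span F (Set.range W) := by
  by_contra hn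
  obtain ⟨e, he, he1⟩ := exists_dual_vec h W hn
  obtain ⟨s, t, hs, ht, hst, hs', ht'⟩ := exists_hyp h2 h W hm
  have good : ∀ z, (∀ k, B z (W k) = 0) → B z s ≠ 0 → B u z = 0 := by
    intro z hz hzs
    set r := Q z / B z s with hr
    have h1 : Q (z + (-r) • s) = 0 := by
      rw [h.add, h.smul, hs, map_smul, smul_eq_mul, hr]; field_simp; ring
    have h3 := hu _ h1 fun k => by simp [hz k, hs' k]
    rw [map_add, map_smul, hu s hs hs', smul_zero, add_zero] at h3
    exact h3
  have hfin : B u e = 0 := by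
    by_cases hes : B e s = 0
    · have := good (e + t) (fun k => by simp [he k, ht' k]) (by simp [hes, h.symm t s, hst])
      rwa [map_add, hu t ht ht', add_zero] at this
    · exact good e he hes
  rw [h.symm, he1] at hfin
  exact one_ne_zero hfin

theorem exists_singular_nonorth (h2 : (2 : F) ≠ 0) (h : QF Q B) (hn : 13 ≤ Fintype.card ι) {x y : V} (hx : x ≠ 0)
    (hy : Q y ≠ 0) : ∃ w, Q w = 0 ∧ B x w ≠ 0 ∧ B y w ≠ 0 := by
  obtain ⟨p, hp, hxp⟩ : ∃ p, Q p = 0 ∧ B x p ≠ 0 := by
    by_contra hc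
    push Not at hc
    have := mem_span_of_singular h2 h (![] : Fin 0 → V) (by omega) fun s hs _ => hc s hs
    simp at this
    exact hx this
  by_cases hyp : B y p = 0
  · obtain ⟨z, hz, hzp, hyz⟩ : ∃ z, Q z = 0 ∧ B z p = 0 ∧ B y z ≠ 0 := by
      by_contra hc
      push Not at hc
      have := mem_span_of_singular h2 h ![p] (by omega) fun s hs hk => hc s hs (hk 0)
      simp only [Matrix.range_cons, Matrix.range_empty, Set.union_empty, Submodule.mem_span_singleton] at this
      obtain ⟨r, hr⟩ := this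
      exact hy (by rw [← hr, h.smul, hp, mul_zero])
    by_cases hxz : B x z = 0
    · exact ⟨p + z, by rw [h.add, hp, hz, h.symm, hzp]; ring, by simp [hxz, hxp], by simp [hyp, hyz]⟩
    · exact ⟨z, hz, hxz, hyz⟩
  · exact ⟨p, hp, hxp, hyp⟩

end Cfsg.Agent.Classical.MaxOrthSL
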