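import Cfsg.Agent.Lib.Classical.Siegel
import Cfsg.Agent.Lib.Classical.MaxLinSubspace

/-!
Stabilisers of totally singular subspaces are maximal in orthogonal commutator groups.
-/

set_option autoImplicit false
set_option linter.unusedSectionVars false

open Module Matrix QuadraticMap

namespace Cfsg.Agent.Classical.Siegel

open Refl MaxLin

variable {F : Type*} [Field F] [Fintype F] {ι : Type} [Fintype ι] [DecidableEq ι] (Q : QuadraticForm F (ι → F))
variable (hQ : (polarBilin Q).Nondegenerate) (hn : 7 ≤ Fintype.card ι)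

local notation "V" => ι → F

/-- All Siegel transformations with centre `a` lie in `M`. -/
def SCen (M : Subgroup (O Q)) (a : V) : Prop :=
  ∃ ha : Q a = 0, ∀ b (hab : polar Q a b = 0), sO Q a b ha hab ∈ M

theorem SCen.map {M : Subgroup (O Q)} {a : V} (h : SCen Q M a) {g : O Q} (hg : g ∈ M) : SCen Q M (act Q g a) := by
  obtain ⟨ha, h⟩ := h
  have ha' : Q (act Q g a) = 0 := by rw [Q_act, ha]
  refine ⟨ha', fun b hb => ?_⟩
  obtain ⟨b₀, rfl⟩ : ∃ b₀, b = act Q g b₀ := ⟨_, (act_inv Q g b).symm⟩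
  have hb₀ : polar Q a b₀ = 0 := by rw [← polar_act Q g]; exact hb
  rw [show sO Q (act Q g a) (act Q g b₀) ha' hb = g * sO Q a b₀ ha hb₀ * g⁻¹ from O_ext Q fun x => by
    obtain ⟨y, rfl⟩ : ∃ y, x = act Q g y := ⟨_, (act_inv Q g x).symm⟩
    rw [act_mul, act_mul, act_inv', act_sO, act_sO, act_sub, act_add, act_smul, act_smul, polar_act, polar_act,
      Q_act]]
  exact mul_mem (mul_mem hg (h b₀ hb₀)) (inv_mem hg)

theorem SCen.smul {M : Subgroup (O Q)} {a : V} (h : SCen Q M a) (r : F) : SCen Q M (r • a) := by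
  obtain ⟨ha, h⟩ := h
  have ha' : Q (r • a) = 0 := by rw [Q_smul, ha, mul_zero]
  refine ⟨ha', fun b hb => ?_⟩
  rcases eq_or_ne r 0 with rfl | hr
  · rw [show sO Q ((0 : F) • a) b ha' hb = 1 from O_ext Q fun x => by
      rw [act_sO]; simp [zero_smul, act, Matrix.one_mulVec]]
    exact one_mem _
  have hb' : polar Q a b = 0 := by
    rw [polar_smul_left, smul_eq_mul] at hb; exact (mul_eq_zero.1 hb).resolve_left hr
  have hb'' : polar Q a (r • b) = 0 := by rw [polar_smul_right, hb', smul_zero]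
  rw [show sO Q (r • a) b ha' hb = sO Q a (r • b) ha hb'' from O_ext Q fun x => by
    rw [act_sO, act_sO, polar_smul_right, polar_smul_right, Q_smul, smul_eq_mul, smul_eq_mul]; module]
  exact h _ hb''

include hQ hn

/-- Two non-orthogonal centres give all centres. -/
theorem scen_all {M : Subgroup (O Q)} {a c : V} (ha : SCen Q M a) (hc : SCen Q M c) (hac : polar Q a c ≠ 0) :
    ∀ x, Q x = 0 → SCen Q M x := by
  have step : ∀ a c x : V, SCen Q M a → SCen Q M c → polar Q a c ≠ 0 → Q x = 0 → polar Q a x ≠ 0 → SCen Q M x := by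
    intro a c x ha hc hac hx hax
    obtain ⟨b, hb, he⟩ := one_step Q ha.1 (a := (polar Q a c)⁻¹ • c) (b := (polar Q a x)⁻¹ • x)
      (by rw [polar_smul_right, smul_eq_mul, inv_mul_cancel₀ hac])
      (by rw [polar_smul_right, smul_eq_mul, inv_mul_cancel₀ hax])
      (by rw [Q_smul, Q_smul, hc.1, hx, mul_zero, mul_zero])
    have h := ((hc.smul Q (polar Q a c)⁻¹).map Q (ha.2 b hb))
    rw [he] at h
    have := h.smul Q (polar Q a x)
    rwa [smul_inv_smul₀ hax] at this
  intro x hx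
  by_cases hax : polar Q a x = 0
  swap
  · exact step a c x ha hc hac hx hax
  rcases eq_or_ne x 0 with rfl | hx0
  · simpa using ha.smul Q 0
  have ha0 : a ≠ 0 := fun e => hac (by rw [e, polar_zero_left])
  obtain ⟨y, hy, hya, hyx⟩ : ∃ y, Q y = 0 ∧ polar Q a y ≠ 0 ∧ polar Q y x ≠ 0 := by
    obtain ⟨p, hp, hpx⟩ := exists_sing_nonorth Q hQ hn hx0
    by_cases hap : polar Q a p = 0
    · obtain ⟨q, hq, hqa⟩ := exists_partner Q hQ ha0 ha.1
      have hqa' : polar Q a q ≠ 0 := by rw [polar_comm, hqa]; exact one_ne_zero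
      by_cases hqx : polar Q q x = 0
      · refine ⟨q + p + (-polar Q q p) • a, ?_, ?_, ?_⟩
        · rw [Q_add, Q_add, Q_smul, hq, hp, ha.1, polar_add_left, polar_smul_right, polar_smul_right, smul_eq_mul,
            smul_eq_mul, hqa, polar_comm (⇑Q) p a, hap]
          ring
        · rw [polar_add_right, polar_add_right, hap, polar_smul_right, polar_diag, ha.1, polar_comm (⇑Q) a q, hqa]
          simp
        · rw [polar_add_left, polar_add_left, hqx, polar_smul_left, hax, zero_add, smul_zero, add_zero]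
          exact hpx
      · exact ⟨q, hq, hqa', hqx⟩
    · exact ⟨p, hp, hap, hpx⟩
  exact step y a x (step a c y ha hc hac hy hya) ha (by rw [polar_comm]; exact hya) hx hyx

theorem E_le {M : Subgroup (O Q)} (h : ∀ x, Q x = 0 → SCen Q M x) : commutator (O Q) ≤ M := by
  refine (commutator_le Q hQ hn).trans ?_
  rw [E, Subgroup.closure_le]
  rintro _ ⟨a, b, ha, hab, rfl⟩
  exact (h a ha).2 b hab

theorem ts_stab_maximal' (W : Submodule F (ι → F)) (hW0 : W ≠ ⊥) (hW : ∀ w ∈ W, Q w = 0)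
    (hidx : (∀ U : Submodule F (ι → F), (∀ u ∈ U, Q u = 0) → finrank F U + finrank F W + 1 < Fintype.card ι) ∨
      ∀ c, Q c = 0 → (∀ x ∈ W, polar Q c x = 0) → c ∈ W) :
    Cfsg.Geo.IsMaximalIn (Cfsg.Geo.omegaGL (⇑Q))
      (Cfsg.Geo.subspaceStabilizer W ⊓ Cfsg.Geo.omegaGL (⇑Q)) := by
  classical
  have hB0 : ∀ x ∈ W, ∀ y ∈ W, polar Q x y = 0 := fun x hx y hy => by
    rw [polar, hW _ (W.add_mem hx hy), hW _ hx, hW _ hy]; ring
  have hstab : ∀ g : O Q, (∀ w ∈ W, act Q g w ∈ W) → (g : GL ι F) ∈ Cfsg.Geo.subspaceStabilizer W :=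
    fun g hg => MaxLin.mem_stabilizer_of_mapsTo hg
  have hstab' : ∀ g : O Q, (g : GL ι F) ∈ Cfsg.Geo.subspaceStabilizer W → ∀ w ∈ W, act Q g w ∈ W :=
    fun g hg w hw => (hg w).1 hw
  have sieg : ∀ a b (ha : Q a = 0) (hab : polar Q a b = 0),
      (∀ w ∈ W, act Q (sO Q a b ha hab) w ∈ W) → (sO Q a b ha hab : GL ι F) ∈
        Cfsg.Geo.subspaceStabilizer W ⊓ Cfsg.Geo.omegaGL (⇑Q) := fun a b ha hab h =>
    ⟨hstab _ h, NotMax.mem_omegaGL _ (sO_mem_commutator Q hQ hn a b ha hab)⟩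
  obtain ⟨a, haW, ha0⟩ := Submodule.exists_mem_ne_zero_of_ne_bot hW0
  have ha := hW a haW
  refine ⟨lt_of_le_of_ne inf_le_right fun e => ?_, fun M h1 h2 => ?_⟩
  · obtain ⟨c, hc, hca⟩ := exists_partner Q hQ ha0 ha
    obtain ⟨g, hg, hga⟩ := trans_sing Q hQ hn ha0 (fun h => by rw [h, polar_zero_left] at hca; exact zero_ne_one hca)
      ha hc
    have hgO : g ∈ commutator (O Q) := by
      refine (?_ : E Q ≤ commutator (O Q)) hg
      rw [E, Subgroup.closure_le]
      rintro _ ⟨a, b, ha, hab, rfl⟩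
      exact sO_mem_commutator Q hQ hn a b ha hab
    have := hstab' g (e.ge (NotMax.mem_omegaGL g hgO)).1 a haW
    rw [hga] at this
    rw [hB0 c this a haW] at hca
    exact zero_ne_one hca
  by_cases hne : ∀ g ∈ M, g ∈ Cfsg.Geo.subspaceStabilizer W
  · exact Or.inl (le_antisymm (le_inf hne h2) h1)
  right
  push Not at hne
  obtain ⟨_, hgM, hgS⟩ := hne
  obtain ⟨g, -, rfl⟩ := h2 hgM
  set M' := M.comap (isometryGroup F (⇑Q)).subtype with hM'
  obtain ⟨w, hw, hgw⟩ : ∃ w ∈ W, act Q g w ∉ W := by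
    by_contra hc; push Not at hc; exact hgS (hstab g hc)
  have hWcen : ∀ x ∈ W, SCen Q M' x := fun x hx => ⟨hW x hx, fun b hb =>
    h1 (sieg x b (hW x hx) hb fun y hy => by
      rw [act_sO, hB0 y hy x hx, zero_smul, add_zero, mul_zero, add_zero]
      exact W.sub_mem hy (W.smul_mem _ hx))⟩
  have hc0 : SCen Q M' (act Q g w) := (hWcen w hw).map Q hgM
  set c := act Q g w with hcdef
  suffices ∃ x y, SCen Q M' x ∧ SCen Q M' y ∧ polar Q x y ≠ 0 by
    obtain ⟨x, y, hx, hy, hxy⟩ := this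
    refine le_antisymm h2 ?_
    rintro _ ⟨k, hk, rfl⟩
    exact E_le Q hQ hn (scen_all Q hQ hn hx hy hxy) hk
  by_cases hperp : ∀ x ∈ W, polar Q c x = 0
  swap
  · push Not at hperp
    obtain ⟨x, hx, hcx⟩ := hperp
    exact ⟨c, x, hc0, hWcen x hx, hcx⟩
  set P := LinearMap.BilinForm.orthogonal (polarBilin Q) W with hP
  have hPmem : ∀ x, x ∈ P ↔ ∀ t ∈ W, polar Q t x = 0 := fun x => Iff.rfl
  have hcP : c ∈ P := (hPmem c).2 fun t ht => by rw [polar_comm]; exact hperp t ht
  obtain ⟨y, hyP, hy⟩ : ∃ y ∈ P, polar Q c y ≠ 0 := by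
    by_contra hc
    push Not at hc
    refine hgw ?_
    have hrefl : LinearMap.BilinForm.IsRefl (polarBilin Q) := fun x y h => by
      rw [polarBilin_apply_apply, polar_comm]; exact h
    rw [← LinearMap.BilinForm.orthogonal_orthogonal hQ hrefl W]
    exact fun t ht => by
      show polar Q t c = 0
      rw [polar_comm]; exact hc t ht
  set e := (polar Q c y)⁻¹ • y + (-Q ((polar Q c y)⁻¹ • y)) • c with he
  have hce1 : polar Q c ((polar Q c y)⁻¹ • y) = 1 := by rw [polar_smul_right, smul_eq_mul, inv_mul_cancel₀ hy]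
  have heQ : Q e = 0 := by
    rw [he, Q_add, Q_smul (c := -Q _), hc0.1, polar_smul_right, polar_comm (⇑Q) _ c, hce1, smul_eq_mul]; ring
  have hce : polar Q c e = 1 := by rw [he, polar_add_right, hce1, polar_smul_right, polar_diag, hc0.1]; simp
  have heP : e ∈ P := P.add_mem (P.smul_mem _ hyP) (P.smul_mem _ hcP)
  obtain ⟨b, hbP, hbe, hb⟩ : ∃ b ∈ P, polar Q e b = 0 ∧ Q b ≠ 0 := by
    by_contra hall
    push Not at hall
    set U := P ⊓ LinearMap.ker (polarBilin Q e) with hU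
    have h3 := (hidx.resolve_right fun h => hgw (h c hc0.1 hperp)) U fun u hu => hall u hu.1 hu.2
    have h6 : finrank F P = Fintype.card ι - finrank F W := by
      rw [hP, LinearMap.BilinForm.finrank_orthogonal hQ, finrank_pi]
    have h7 := Submodule.finrank_sup_add_finrank_inf_eq P (LinearMap.ker (polarBilin Q e))
    have h8 := Submodule.finrank_le (P ⊔ LinearMap.ker (polarBilin Q e))
    have h9 := LinearMap.finrank_range_add_finrank_ker (polarBilin Q e : (ι → F) →ₗ[F] F)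
    have h10 := Submodule.finrank_le (LinearMap.range (polarBilin Q e : (ι → F) →ₗ[F] F))
    rw [finrank_self] at h10
    rw [finrank_pi] at h8 h9
    rw [hU] at h3
    omega
  have hk : sO Q e b heQ hbe ∈ M' := h1 (sieg e b heQ hbe fun x hx => by
    rw [act_sO, (hPmem e).1 heP x hx, (hPmem b).1 hbP x hx]; simpa using hx)
  refine ⟨c, act Q (sO Q e b heQ hbe) c, hc0, hc0.map Q hk, ?_⟩
  rw [act_sO, hce, one_smul, polar_sub_right, polar_add_right, polar_smul_right, hce, polar_diag, hc0.1, smul_eq_mul]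
  intro h
  exact hb (by linear_combination -h)

theorem ts_stab_maximal (W : Submodule F (ι → F)) (hW0 : W ≠ ⊥) (hW : ∀ w ∈ W, Q w = 0)
    (hidx : ∀ U : Submodule F (ι → F), (∀ u ∈ U, Q u = 0) → 2 * finrank F U < Fintype.card ι) :
    Cfsg.Geo.IsMaximalIn (Cfsg.Geo.omegaGL (⇑Q))
      (Cfsg.Geo.subspaceStabilizer W ⊓ Cfsg.Geo.omegaGL (⇑Q)) := by
  refine ts_stab_maximal' Q hQ hn W hW0 hW ?_
  by_cases hc : ∀ c, Q c = 0 → (∀ x ∈ W, polar Q c x = 0) → c ∈ W
  · exact Or.inr hc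
  push Not at hc
  obtain ⟨c, hcQ, hperp, hcW⟩ := hc
  refine Or.inl fun U hU => ?_
  have h3 := hidx U hU
  have h4 := hidx (W ⊔ Submodule.span F {c}) fun u hu => by
    obtain ⟨w', hw', v, hv, rfl⟩ := Submodule.mem_sup.1 hu
    obtain ⟨r, rfl⟩ := Submodule.mem_span_singleton.1 hv
    rw [Q_add, Q_smul, hW w' hw', hcQ, polar_smul_right, polar_comm (⇑Q) w' c, hperp w' hw']
    simp
  have h5 : finrank F W < finrank F (W ⊔ Submodule.span F {c} : Submodule F (ι → F)) :=
    Submodule.finrank_lt_finrank_of_lt (lt_of_le_of_ne le_sup_left fun e' => hcW (by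
      rw [e']; exact Submodule.mem_sup_right (Submodule.mem_span_singleton_self c)))
  omega

end Cfsg.Agent.Classical.Siegel
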