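import Cfsg.Agent.Lib.Classical.MaxOrthSubspace

/-!
In characteristic two the stabiliser of a non-singular vector is maximal in the orthogonal commutator group.
-/

set_option autoImplicit false
set_option linter.unusedSectionVars false

open Module Matrix QuadraticMap

namespace Cfsg.Agent.Classical.Siegel

open Refl MaxLin

variable {F : Type*} [Field F] [Fintype F] {ι : Type} [Fintype ι] [DecidableEq ι] (Q : QuadraticForm F (ι → F))
variable (hQ : (polarBilin Q).Nondegenerate)

local notation "V" => ι → F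

include hQ

theorem exists_dual_vec {m : ℕ} (W : Fin m → V) {v : V} (h : ∀ r : Fin m → F, v ≠ ∑ i, r i • W i) :
    ∃ b, (∀ i, polar Q b (W i) = 0) ∧ polar Q b v = 1 := by
  obtain ⟨b, hb, hbv⟩ : ∃ b, (∀ i, polar Q b (W i) = 0) ∧ polar Q b v ≠ 0 := by
    by_contra hc
    push Not at hc
    have hmem : (polarBilin Q).flip v ∈ Submodule.span F (Set.range fun i => (polarBilin Q).flip (W i)) := by
      refine mem_span_of_iInf_ker_le_ker fun x hx => ?_
      simp only [Submodule.mem_iInf, LinearMap.mem_ker] at hx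
      rw [LinearMap.mem_ker]
      exact hc x hx
    obtain ⟨r, hr⟩ := (Submodule.mem_span_range_iff_exists_fun F).1 hmem
    refine h r (sub_eq_zero.1 (eq_zero_of Q hQ _ fun x => ?_))
    have := LinearMap.congr_fun hr x
    simp only [LinearMap.coe_sum, Finset.sum_apply, LinearMap.smul_apply, LinearMap.flip_apply,
      polarBilin_apply_apply, LinearMap.BilinForm.flip_apply] at this
    rw [polar_sub_right, ← polarBilin_apply_apply, ← polarBilin_apply_apply, map_sum, sub_eq_zero]
    simp only [map_smul, polarBilin_apply_apply]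
    exact this.symm
  exact ⟨(polar Q b v)⁻¹ • b, fun i => by rw [polar_smul_left, hb i, smul_zero],
    by rw [polar_smul_left, smul_eq_mul, inv_mul_cancel₀ hbv]⟩

variable (hn : 13 ≤ Fintype.card ι) {v : ι → F} (hvv : polar Q v v = 0) (hv : Q v ≠ 0)

include hn hvv hv

omit hn in
theorem partner_perp {a : V} (ha0 : a ≠ 0) (ha : Q a = 0) (hav : polar Q v a = 0) :
    ∃ c, Q c = 0 ∧ polar Q c a = 1 ∧ polar Q v c = 0 := by
  obtain ⟨b, hb, hba⟩ := exists_dual_vec Q hQ ![v] (v := a) fun r e => by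
    simp only [Fin.sum_univ_one, Matrix.cons_val_fin_one] at e
    rw [e, Q_smul] at ha
    have := pow_eq_zero_iff (n := 2) (by norm_num) |>.1 ((mul_eq_zero.1 ha).resolve_right hv)
    exact ha0 (by rw [e, this, zero_smul])
  have hbv : polar Q b v = 0 := hb 0
  refine ⟨b + (-Q b) • a, ?_, ?_, ?_⟩
  · rw [Q_add, Q_smul, ha, polar_smul_right, smul_eq_mul, hba]; ring
  · rw [polar_add_left, polar_smul_left, polar_diag, ha, hba]; simp
  · rw [polar_add_right, polar_comm (⇑Q) v b, hbv, polar_smul_right, hav]; simp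

theorem trans_perp {a b : V} (hav : polar Q v a = 0) (hbv : polar Q v b = 0) (ha0 : a ≠ 0) (hb0 : b ≠ 0)
    (ha : Q a = 0) (hb : Q b = 0) : ∃ g ∈ commutator (O Q), act Q g v = v ∧ act Q g a = b := by
  have one : ∀ a b : V, polar Q v a = 0 → polar Q v b = 0 → a ≠ 0 → Q a = 0 → Q b = 0 → polar Q a b = 0 →
      (∀ r : F, b ≠ r • a) → ∃ g ∈ commutator (O Q), act Q g v = v ∧ act Q g a = b := by
    intro a b hav hbv ha0 ha hb horth hab
    obtain ⟨y, hy, hy1⟩ := exists_dual_vec Q hQ ![v, b - a] (v := a) fun r e => by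
      simp only [Fin.sum_univ_two, Matrix.cons_val_zero, Matrix.cons_val_one] at e
      by_cases h0 : r 0 = 0
      · rw [h0, zero_smul, zero_add] at e
        rcases eq_or_ne (r 1) 0 with h1 | h1
        · exact ha0 (by rw [e, h1, zero_smul])
        · refine hab ((r 1)⁻¹ + 1) ?_
          rw [add_smul, one_smul]
          conv_rhs => rw [show (r 1)⁻¹ • a = (r 1)⁻¹ • (r 1 • (b - a)) by rw [← e], inv_smul_smul₀ h1]
          rw [sub_add_cancel]
      · have h := congrArg Q (show r 0 • v = a + (-r 1) • (b - a) by linear_combination (norm := module) -e)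
        rw [Q_smul, Q_add, Q_smul, polar_smul_right, polar_sub_right, horth, polar_diag, ha,
          show Q (b - a) = 0 by
            rw [sub_eq_add_neg, Q_add, QuadraticMap.map_neg, polar_neg_right, ha, hb, polar_comm, horth]; ring] at h
        exact mul_ne_zero (pow_ne_zero 2 h0) hv (by simpa using h)
    have hyv : polar Q y v = 0 := hy 0
    have hyba : polar Q y (b - a) = 0 := hy 1
    set p := y + (-Q y) • a with hp
    have hpa : polar Q p a = 1 := by rw [hp, polar_add_left, polar_smul_left, polar_diag, ha, hy1]; simp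
    have hp0 : Q p = 0 := by rw [hp, Q_add, Q_smul, ha, polar_smul_right, smul_eq_mul, hy1]; ring
    have hpba : polar Q p (b - a) = 0 := by
      rw [hp, polar_add_left, polar_smul_left, hyba, polar_sub_right, horth, polar_diag, ha]; simp
    have hvp : polar Q v p = 0 := by
      rw [hp, polar_add_right, polar_smul_right, polar_comm (⇑Q) v y, hyv, hav]; simp
    refine ⟨sO Q p (b - a) hp0 hpba, sO_mem_commutator Q hQ (by omega) _ _ _ _, ?_, ?_⟩
    · rw [act_sO, hvp, polar_sub_right, hbv, hav]; simp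
    · rw [act_sO, polar_comm (⇑Q) a p, hpa, one_smul, mul_one]
      have h5 : polar Q a (b - a) + Q (b - a) = 0 := by
        rw [polar_sub_right, polar_diag, sub_eq_add_neg b a, Q_add, QuadraticMap.map_neg, polar_neg_right, ha, hb,
          horth, polar_comm (⇑Q) b a, horth]
        ring
      rw [h5, zero_smul, sub_zero, add_sub_cancel]
  obtain ⟨c₁, hc₁, hc₁a, -⟩ := partner_perp Q hQ hvv hv ha0 ha hav
  obtain ⟨c₂, hc₂, hc₂b, -⟩ := partner_perp Q hQ hvv hv hb0 hb hbv
  obtain ⟨d, hd0, hd, hL⟩ := exists_zero_lin Q ![(polarBilin Q).flip a, (polarBilin Q).flip b, polarBilin Q c₁,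
    polarBilin Q c₂, polarBilin Q v] (by omega)
  have hda : polar Q d a = 0 := hL 0
  have hdb : polar Q d b = 0 := hL 1
  have hdc1 : polar Q c₁ d = 0 := hL 2
  have hdc2 : polar Q c₂ d = 0 := hL 3
  have hdv : polar Q v d = 0 := hL 4
  obtain ⟨e₁, he₁, hf₁, ha'⟩ := one a d hav hdv ha0 ha hd (by rw [polar_comm]; exact hda) (fun r e => hd0 (by
    rw [e, polar_smul_right, hc₁a, smul_eq_mul, mul_one] at hdc1
    rw [e, hdc1, zero_smul]))
  obtain ⟨e₂, he₂, hf₂, hb'⟩ := one d b hdv hbv hd0 hd hb hdb (fun r e => by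
    have : polar Q c₂ b = 0 := by rw [e, polar_smul_right, hdc2, smul_zero]
    rw [hc₂b] at this
    exact one_ne_zero this)
  exact ⟨e₂ * e₁, mul_mem he₂ he₁, by rw [act_mul, hf₁, hf₂], by rw [act_mul, ha', hb']⟩

theorem vector_stab_maximal :
    Cfsg.Geo.IsMaximalIn (Cfsg.Geo.omegaGL (⇑Q))
      (Cfsg.Geo.subspaceStabilizer (Submodule.span F {v}) ⊓ Cfsg.Geo.omegaGL (⇑Q)) := by
  classical
  have hv0 : v ≠ 0 := fun e => hv (by rw [e, QuadraticMap.map_zero])
  have h2 : (2 : F) = 0 := by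
    rw [polar_diag] at hvv; exact (mul_eq_zero.1 hvv).resolve_right hv
  have hline : ∀ g : O Q, (g : GL ι F) ∈ Cfsg.Geo.subspaceStabilizer (Submodule.span F {v}) → act Q g v = v := by
    intro g hg
    obtain ⟨r, hr⟩ := Submodule.mem_span_singleton.1 ((hg v).1 (Submodule.mem_span_singleton_self v))
    have h : r ^ 2 * Q v = Q v := by
      conv_rhs => rw [← Q_act Q g v]
      rw [← Q_smul, hr]
      rfl
    have h1 : (r - 1) * (r - 1) = 0 := by
      have := mul_right_cancel₀ hv (h.trans (one_mul _).symm)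
      linear_combination this + (1 - r) * h2
    have hr' : r = 1 := sub_eq_zero.1 (mul_self_eq_zero.1 h1)
    rw [hr', one_smul] at hr
    exact hr.symm
  have hfix : ∀ g : O Q, act Q g v = v → (g : GL ι F) ∈ Cfsg.Geo.subspaceStabilizer (Submodule.span F {v}) :=
    fun g hg => MaxLin.mem_stabilizer_of_mapsTo fun w hw => by
      obtain ⟨r, rfl⟩ := Submodule.mem_span_singleton.1 hw
      show act Q g (r • v) ∈ _
      rw [act_smul, hg]
      exact hw
  obtain ⟨a₀, ha00, hQa₀, hL⟩ := exists_zero_lin Q ![polarBilin Q v] (by omega)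
  have hva₀ : polar Q v a₀ = 0 := hL 0
  have hex : ∀ a : V, Q a = 0 → ∀ r : Fin 1 → F, v ≠ ∑ i, r i • ![a] i := fun a ha r e => hv (by
    rw [e, Fin.sum_univ_one, Matrix.cons_val_fin_one, Q_smul, ha, mul_zero])
  refine ⟨lt_of_le_of_ne inf_le_right fun e => ?_, fun M h1 h2' => ?_⟩
  · obtain ⟨b, hb, hbv⟩ := exists_dual_vec Q hQ ![a₀] (hex a₀ hQa₀)
    have hab : polar Q a₀ b = 0 := by rw [polar_comm]; exact hb 0
    have hg : sO Q a₀ b hQa₀ hab ∈ commutator (O Q) := sO_mem_commutator Q hQ (by omega) _ _ _ _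
    have h := hline _ (e.ge (NotMax.mem_omegaGL _ hg)).1
    rw [act_sO, hva₀, zero_smul, add_zero, mul_zero, add_zero, polar_comm (⇑Q) v b, hbv, one_smul, sub_eq_self] at h
    exact ha00 h
  by_cases hne : ∀ g ∈ M, g ∈ Cfsg.Geo.subspaceStabilizer (Submodule.span F {v})
  · exact Or.inl (le_antisymm (le_inf hne h2') h1)
  right
  push Not at hne
  obtain ⟨_, hgM, hgS⟩ := hne
  obtain ⟨g, -, rfl⟩ := h2' hgM
  set M' := M.comap (isometryGroup F (⇑Q)).subtype with hM'
  have hH : ∀ h : O Q, h ∈ commutator (O Q) → act Q h v = v → h ∈ M' := fun h hh hs' =>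
    h1 ⟨hfix h hs', NotMax.mem_omegaGL h hh⟩
  have hbase : ∀ a b (ha : Q a = 0) (hab : polar Q a b = 0), polar Q v a = 0 → polar Q v b = 0 →
      sO Q a b ha hab ∈ M' := fun a b ha hab hva hvb =>
    hH _ (sO_mem_commutator Q hQ (by omega) _ _ _ _) (by rw [act_sO, hva, hvb]; simp)
  have hconj : ∀ h : O Q, h ∈ M' → ∀ (a' w : V) (hQa' : Q a' = 0) (h' : polar Q a' w = 0),
      sO Q a' w hQa' h' ∈ M' → ∀ (h₁ : Q (act Q h a') = 0) (h₂ : polar Q (act Q h a') (act Q h w) = 0),
      sO Q _ _ h₁ h₂ ∈ M' := by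
    intro h hh a' w hQa' h' hm h₁ h₂
    rw [show sO Q _ _ h₁ h₂ = h * sO Q a' w hQa' h' * h⁻¹ from O_ext Q fun x => by
      obtain ⟨y, rfl⟩ : ∃ y, x = act Q h y := ⟨_, (act_inv Q h x).symm⟩
      rw [act_mul, act_mul, act_inv', act_sO, act_sO, act_sub, act_add, act_smul, act_smul, polar_act, polar_act,
        Q_act]]
    exact mul_mem (mul_mem hh hm) (inv_mem hh)
  set u := act Q g v with hu
  have huv : u ≠ v := fun e => hgS (hfix g e)
  obtain ⟨y, hy⟩ := exists_polar_ne Q hQ (x := v - u) (sub_ne_zero.2 (Ne.symm huv))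
  obtain ⟨a₁, ha₁0, hQa₁, hL₁⟩ := exists_zero_lin Q ![polarBilin Q v, polarBilin Q u, polarBilin Q y] (by omega)
  have hva₁ : polar Q v a₁ = 0 := hL₁ 0
  have hua₁ : polar Q u a₁ = 0 := hL₁ 1
  have hya₁ : polar Q y a₁ = 0 := hL₁ 2
  obtain ⟨b₁, hb₁, hb₁v⟩ := exists_dual_vec Q hQ ![u, a₁] (v := v) fun r e => by
    simp only [Fin.sum_univ_two, Matrix.cons_val_zero, Matrix.cons_val_one] at e
    have h := congrArg Q e
    rw [Q_add, Q_smul, Q_smul, hQa₁, polar_smul_left, polar_smul_right, hua₁, hu, Q_act] at h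
    simp only [smul_zero, mul_zero, add_zero] at h
    have h5 : (r 0 - 1) * (r 0 - 1) = 0 := by
      have := mul_right_cancel₀ hv ((one_mul _).trans h)
      linear_combination -this + (1 - r 0) * h2
    rw [sub_eq_zero.1 (mul_self_eq_zero.1 h5), one_smul] at e
    refine hy ?_
    rw [show v - u = r 1 • a₁ by rw [e, add_sub_cancel_left], polar_smul_right, hya₁, smul_zero]
  have hb₁u : polar Q b₁ u = 0 := hb₁ 0
  have hab₁ : polar Q a₁ b₁ = 0 := by rw [polar_comm]; exact hb₁ 1
  have hm₁ : sO Q a₁ b₁ hQa₁ hab₁ ∈ M' := by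
    obtain ⟨a', rfl⟩ : ∃ a', a₁ = act Q g a' := ⟨_, (act_inv Q g a₁).symm⟩
    obtain ⟨b', rfl⟩ : ∃ b', b₁ = act Q g b' := ⟨_, (act_inv Q g b₁).symm⟩
    rw [hu, polar_act] at hua₁ hb₁u
    rw [polar_comm] at hb₁u
    exact hconj g hgM a' b' (by rw [← Q_act Q g]; exact hQa₁) (by rw [← polar_act Q g]; exact hab₁)
      (hbase _ _ _ _ hua₁ hb₁u) _ _
  have scen : ∀ a : V, a ≠ 0 → Q a = 0 → polar Q v a = 0 → SCen Q M' a := by
    intro a ha0 hQa hva
    refine ⟨hQa, fun b hab => ?_⟩
    rcases eq_or_ne (polar Q v b) 0 with h0 | h0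
    · exact hbase a b hQa hab hva h0
    set t := polar Q v b with ht
    obtain ⟨h, hh, hhv, hha⟩ := trans_perp Q hQ hn hvv hv hva₁ (show polar Q v (t • a) = 0 by
      rw [polar_smul_right, hva, smul_zero]) ha₁0 (smul_ne_zero h0 ha0) hQa₁ (by rw [Q_smul, hQa, mul_zero])
    have h₁ : Q (act Q h a₁) = 0 := by rw [Q_act, hQa₁]
    have h₂ : polar Q (act Q h a₁) (act Q h b₁) = 0 := by rw [polar_act, hab₁]
    have hm := hconj h (hH h hh hhv) a₁ b₁ hQa₁ hab₁ hm₁ h₁ h₂
    set x := t • act Q h b₁ with hx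
    have hax : polar Q a x = 0 := by
      rw [hx, polar_smul_right]
      rw [hha, polar_smul_left] at h₂
      exact h₂
    have hvx : polar Q v x = t := by
      rw [hx, polar_smul_right, ← hhv, polar_act, polar_comm, hb₁v, smul_eq_mul, mul_one]
    have hxm : sO Q a x hQa hax ∈ M' := by
      rw [show sO Q a x hQa hax = sO Q _ _ h₁ h₂ from O_ext Q fun z => by
        rw [act_sO, act_sO]
        simp only [hha, hx, polar_smul_right, Q_smul, smul_eq_mul]
        module]
      exact hm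
    have har : polar Q a (b - x) = 0 := by rw [polar_sub_right, hab, hax, sub_zero]
    have haa : polar Q a a = 0 := by rw [polar_diag, hQa, mul_zero]
    have hab' : polar Q a (x + (b - x)) = 0 := by rw [add_sub_cancel]; exact hab
    have hvr : polar Q v (b - x) = 0 := by rw [polar_sub_right, hvx, sub_self]
    rw [show sO Q a b hQa hab = sO Q a x hQa hax * sO Q a (b - x) hQa har from O_ext Q fun z => by
      have key : ∀ r, b = x + r → polar Q a r = 0 → ∀ (h : polar Q a r = 0),
          act Q (sO Q a b hQa hab) z = act Q (sO Q a x hQa hax * sO Q a r hQa h) z := by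
        intro r hbr har _
        rw [act_mul, act_sO, act_sO, act_sO, hbr, Q_add]
        simp only [polar_add_left, polar_sub_left, polar_smul_left, polar_add_right, smul_eq_mul, haa,
          polar_comm (⇑Q) r a, hax, har, polar_comm (⇑Q) r x]
        module
      exact key (b - x) (add_sub_cancel x b).symm har har]
    exact mul_mem hxm (hbase _ _ _ _ hva hvr)
  obtain ⟨c, hc, hca, hvc⟩ := partner_perp Q hQ hvv hv ha00 hQa₀ hva₀
  have hc0 : c ≠ 0 := fun e => by rw [e, polar_zero_left] at hca; exact zero_ne_one hca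
  refine le_antisymm h2' ?_
  rintro _ ⟨k, hk, rfl⟩
  exact E_le Q hQ (by omega) (scen_all Q hQ (by omega) (scen a₀ ha00 hQa₀ hva₀) (scen c hc0 hc hvc)
    (by rw [polar_comm, hca]; exact one_ne_zero)) hk

end Cfsg.Agent.Classical.Siegel
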