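import Mathlib

set_option autoImplicit false

/-!
Duals separating vectors, transvections as elements of `GL ι F`, and transitivity of the stabiliser of a vector.
-/

namespace Cfsg.Agent.Classical

open Module

variable {F V : Type*} [Field F] [AddCommGroup V] [Module F V]

theorem exists_dual_one {p : Submodule F V} {x : V} (hx : x ∉ p) :
    ∃ f : Dual F V, f x = 1 ∧ ∀ y ∈ p, f y = 0 := by
  obtain ⟨f, hfx, hf⟩ := Submodule.exists_dual_map_eq_bot_of_notMem hx inferInstance
  refine ⟨(f x)⁻¹ • f, by simp [inv_mul_cancel₀ hfx], fun y hy => ?_⟩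
  have : f y ∈ p.map f := Submodule.mem_map_of_mem hy
  rw [hf, Submodule.mem_bot] at this
  simp [this]

theorem exists_dual_two {v u w : V} (hu : u ∉ Submodule.span F {v}) (hw : w ∉ Submodule.span F {v}) :
    ∃ f : Dual F V, f v = 0 ∧ f u = 1 ∧ f w ≠ 0 := by
  obtain ⟨f₁, h1, h1'⟩ := exists_dual_one hu
  obtain ⟨f₂, h2, h2'⟩ := exists_dual_one hw
  have e1 := h1' v (Submodule.mem_span_singleton_self v)
  have e2 := h2' v (Submodule.mem_span_singleton_self v)
  by_cases hA : f₁ w ≠ 0
  · exact ⟨f₁, e1, h1, hA⟩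
  push Not at hA
  by_cases hB : f₂ u ≠ 0
  · exact ⟨(f₂ u)⁻¹ • f₂, by simp [e2], by simp [inv_mul_cancel₀ hB], by simp [h2, hB]⟩
  push Not at hB
  exact ⟨f₁ + f₂, by simp [e1, e2], by simp [h1, hB], by simp [hA, h2]⟩

/-- Some linear automorphism fixes `v` and sends `u` to `w` (both outside the line of `v`). -/
theorem exists_equiv_fix [FiniteDimensional F V] {v u w : V} (hu : u ∉ Submodule.span F {v})
    (hw : w ∉ Submodule.span F {v}) : ∃ T : V ≃ₗ[F] V, T v = v ∧ T u = w := by
  obtain ⟨f, hv, hfu, hfw⟩ := exists_dual_two hu hw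
  let T : V →ₗ[F] V := LinearMap.transvection f (w - u)
  have hT : ∀ x, T x = x + f x • (w - u) := fun x => rfl
  have hinj : Function.Injective T := by
    rw [← LinearMap.ker_eq_bot, LinearMap.ker_eq_bot']
    intro x hx
    rw [hT] at hx
    have := congrArg f hx
    simp only [map_add, map_smul, map_sub, hfu, smul_eq_mul, map_zero] at this
    have hfx : f x * f w = 0 := by linear_combination this
    rcases mul_eq_zero.1 hfx with h | h
    · simpa [h] using hx
    · exact absurd h hfw
  refine ⟨LinearEquiv.ofBijective T ⟨hinj, (LinearMap.injective_iff_surjective).1 hinj⟩, ?_, ?_⟩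
  · show T v = v
    simp [hT, hv]
  · show T u = w
    simp [hT, hfu]

variable {ι : Type*} [Fintype ι] [DecidableEq ι]

/-- A transvection of `F^ι` as an element of `GL ι F`. -/
noncomputable def transGL (f : Dual F (ι → F)) (z : ι → F) (h : f z = 0) : GL ι F :=
  Matrix.GeneralLinearGroup.mkOfDetNeZero (LinearMap.toMatrix' (LinearMap.transvection f z))
    (by rw [LinearMap.det_toMatrix', LinearMap.transvection.det, h, add_zero]; exact one_ne_zero)

theorem transGL_apply (f : Dual F (ι → F)) (z : ι → F) (h : f z = 0) (x : ι → F) :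
    Matrix.mulVec (transGL f z h : Matrix ι ι F) x = x + f x • z := by
  show Matrix.mulVec (LinearMap.toMatrix' (LinearMap.transvection f z)) x = _
  rw [LinearMap.toMatrix'_mulVec]
  rfl

theorem det_transGL (f : Dual F (ι → F)) (z : ι → F) (h : f z = 0) :
    Matrix.GeneralLinearGroup.det (transGL f z h) = 1 := by
  ext
  show (LinearMap.toMatrix' (LinearMap.transvection f z)).det = 1
  rw [LinearMap.det_toMatrix', LinearMap.transvection.det, h, add_zero]

end Cfsg.Agent.Classical
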