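import Cfsg.Agent.Lib.Classical.MaxDecomp
import Cfsg.Agent.Lib.Classical.Transvec

/-!
Stabilisers of pairs of complementary totally isotropic subspaces are maximal in symplectic groups.
-/

set_option autoImplicit false
set_option linter.unusedSectionVars false

open Module

namespace Cfsg.Agent.Classical.MaxSub

open Sp

variable {F V : Type*} [Field F] [AddCommGroup V] [Module F V] [FiniteDimensional F V]
variable (B : LinearMap.BilinForm F V) (hA : B.IsAlt) (hB : Nondeg B)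

/-- A pair of complementary totally isotropic subspaces of dimension `m`. -/
structure Pair (m : ℕ) (P Q : Submodule F V) : Prop where
  left : ∀ u ∈ P, ∀ v ∈ P, B u v = 0
  right : ∀ u ∈ Q, ∀ v ∈ Q, B u v = 0
  compl : IsCompl P Q
  rank_left : finrank F P = m
  rank_right : finrank F Q = m

theorem Pair.symm {m : ℕ} {P Q : Submodule F V} (h : Pair B m P Q) : Pair B m Q P :=
  ⟨h.right, h.left, h.compl.symm, h.rank_right, h.rank_left⟩

theorem Pair.exists_add {m : ℕ} {P Q : Submodule F V} (h : Pair B m P Q) (x : V) :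
    ∃ p ∈ P, ∃ q ∈ Q, p + q = x :=
  Submodule.mem_sup.1 (h.compl.sup_eq_top ▸ Submodule.mem_top)

theorem Pair.map {m : ℕ} {P Q : Submodule F V} (h : Pair B m P Q) (g : Grp B) :
    Pair B m (P.map (g : V ≃ₗ[F] V).toLinearMap) (Q.map (g : V ≃ₗ[F] V).toLinearMap) := by
  refine ⟨?_, ?_, ⟨?_, ?_⟩, by rw [LinearEquiv.finrank_map_eq, h.rank_left], by rw [LinearEquiv.finrank_map_eq, h.rank_right]⟩
  · rintro _ ⟨u, hu, rfl⟩ _ ⟨v, hv, rfl⟩; exact (Grp.map_form g u v).trans (h.left u hu v hv)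
  · rintro _ ⟨u, hu, rfl⟩ _ ⟨v, hv, rfl⟩; exact (Grp.map_form g u v).trans (h.right u hu v hv)
  · rw [disjoint_iff, ← Submodule.map_inf _ (g : V ≃ₗ[F] V).injective, h.compl.inf_eq_bot, Submodule.map_bot]
  · rw [codisjoint_iff, ← Submodule.map_sup, h.compl.sup_eq_top, Submodule.map_top, LinearEquiv.range]

/-- The stabiliser of the unordered pair. -/
def pairStab (P Q : Submodule F V) : Subgroup (Grp B) := decStab B ![P, Q]

theorem mem_pairStab {P Q : Submodule F V} {g : Grp B} :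
    g ∈ pairStab B P Q ↔
      (P.map (g : V ≃ₗ[F] V).toLinearMap = P ∧ Q.map (g : V ≃ₗ[F] V).toLinearMap = Q) ∨
      (P.map (g : V ≃ₗ[F] V).toLinearMap = Q ∧ Q.map (g : V ≃ₗ[F] V).toLinearMap = P) := by
  constructor
  · rintro ⟨σ, hσ⟩
    have h0 := hσ 0
    have h1 := hσ 1
    have hne : σ 0 ≠ σ 1 := σ.injective.ne (by decide)
    simp only [Matrix.cons_val_zero, Matrix.cons_val_one] at h0 h1
    generalize σ 0 = a, σ 1 = b at h0 h1 hne
    fin_cases a <;> fin_cases b <;> simp at h0 h1 hne ⊢ <;> simp [h0, h1]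
  · rintro (⟨h0, h1⟩ | ⟨h0, h1⟩)
    · exact ⟨1, fun i => by fin_cases i <;> simp [h0, h1]⟩
    · exact ⟨Equiv.swap 0 1, fun i => by fin_cases i <;> simp [h0, h1]⟩

include hA hB

theorem sep {m : ℕ} {P Q : Submodule F V} (hPQ : Pair B m P Q) {a : V} {U : Submodule F V} (hUP : U ≤ P) (ha : a ∈ P)
    (haU : a ∉ U) : ∃ v ∈ Q, B a v = 1 ∧ ∀ u ∈ U, B u v = 0 := by
  have hnd : B.Nondegenerate := (LinearMap.IsAlt.isRefl hA).nondegenerate_iff_separatingLeft.2 fun x hx => by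
    by_contra h0; obtain ⟨y, hy⟩ := hB x h0; exact hy (hx y)
  have hnot : a ∉ Q ⊔ U := fun h => by
    obtain ⟨q, hq, u, hu, rfl⟩ := Submodule.mem_sup.1 h
    have : q ∈ P ⊓ Q := ⟨by simpa using P.sub_mem ha (hUP hu), hq⟩
    rw [hPQ.compl.inf_eq_bot, Submodule.mem_bot] at this
    exact haU (by rw [this, zero_add]; exact hu)
  obtain ⟨φ, hφa, hφ⟩ := Cfsg.Agent.Classical.exists_dual_one hnot
  set v := (B.toDual hnd).symm φ with hv
  have hval : ∀ x, B v x = φ x := fun x => by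
    rw [← LinearMap.BilinForm.toDual_def (b := hnd), hv, LinearEquiv.apply_symm_apply]
  obtain ⟨p, hp, q, hq, hpq⟩ := hPQ.exists_add B (-v)
  have hp0 : p = 0 := by
    by_contra h0
    obtain ⟨y, hy⟩ := hB p h0
    obtain ⟨p', hp', q', hq', rfl⟩ := hPQ.exists_add B y
    apply hy
    rw [map_add, hPQ.left p hp p' hp', zero_add]
    have h1 : B (p + q) q' = 0 := by
      rw [hpq, map_neg, LinearMap.neg_apply, hval, hφ q' (Submodule.mem_sup_left hq'), neg_zero]
    rwa [map_add, LinearMap.add_apply, hPQ.right q hq q' hq', add_zero] at h1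
  rw [hp0, zero_add] at hpq
  refine ⟨q, hq, ?_, fun u hu => ?_⟩
  · rw [hpq, alt_neg B hA (-v) a, map_neg, LinearMap.neg_apply, neg_neg, hval, hφa]
  · rw [hpq, alt_neg B hA (-v) u, map_neg, LinearMap.neg_apply, neg_neg, hval, hφ u (Submodule.mem_sup_right hu)]

theorem S_stab {m : ℕ} {P Q : Submodule F V} (hPQ : Pair B m P Q) {u v : V} (hu : u ∈ P) (hv : v ∈ Q) (huv : B u v = 0) :
    P.map (S B hA u v 1 : V ≃ₗ[F] V).toLinearMap = P ∧ Q.map (S B hA u v 1 : V ≃ₗ[F] V).toLinearMap = Q := by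
  constructor
  · refine Submodule.eq_of_le_of_finrank_eq ?_ (LinearEquiv.finrank_map_eq _ _)
    rintro _ ⟨x, hx, rfl⟩
    show (S B hA u v 1 : V ≃ₗ[F] V) x ∈ P
    rw [S_apply B hA huv, hPQ.left x hx u hu, mul_zero, zero_smul, add_zero]
    exact P.add_mem hx (P.smul_mem _ hu)
  · refine Submodule.eq_of_le_of_finrank_eq ?_ (LinearEquiv.finrank_map_eq _ _)
    rintro _ ⟨x, hx, rfl⟩
    show (S B hA u v 1 : V ≃ₗ[F] V) x ∈ Q
    rw [S_apply B hA huv, hPQ.right x hx v hv, mul_zero, zero_smul, add_zero]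
    exact Q.add_mem hx (Q.smul_mem _ hv)

/-- An invariant subspace containing a vector with non-zero left component contains the left subspace. -/
theorem le_of_invariant {m : ℕ} (hm : 3 ≤ m) {P Q : Submodule F V} (hPQ : Pair B m P Q) {X : Submodule F V}
    (hinv : ∀ u ∈ P, ∀ v ∈ Q, B u v = 0 → ∀ x ∈ X, (S B hA u v 1 : V ≃ₗ[F] V) x ∈ X)
    {p q : V} (hp : p ∈ P) (hq : q ∈ Q) (hp0 : p ≠ 0) (hx : p + q ∈ X) : P ≤ X := by
  have step : ∀ p ∈ P, ∀ q ∈ Q, p + q ∈ X → ∀ u ∈ P, B q u = 0 → u ∉ Submodule.span F {p} → p ≠ 0 → u ∈ X := by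
    intro p hp q hq hx u hu hqu hup hp0
    have hpu : p ∉ Submodule.span F {u} := fun h => by
      obtain ⟨r, rfl⟩ := Submodule.mem_span_singleton.1 h
      rcases eq_or_ne r 0 with rfl | hr
      · exact hp0 (zero_smul F u)
      · exact hup (Submodule.mem_span_singleton.2 ⟨r⁻¹, inv_smul_smul₀ hr u⟩)
    obtain ⟨v, hv, hpv, huv⟩ := sep B hA hB hPQ ((Submodule.span_singleton_le_iff_mem u P).2 hu) hp hpu
    have huv' := huv u (Submodule.mem_span_singleton_self u)
    have h1 := X.sub_mem (hinv u hu v hv huv' _ hx) hx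
    rw [S_apply B hA huv'] at h1
    simp only [map_add, LinearMap.add_apply, hPQ.left p hp u hu, hqu, hpv, hPQ.right q hq v hv, add_zero, mul_zero,
      zero_smul, one_mul, one_smul, add_sub_cancel_left] at h1
    exact h1
  obtain ⟨u₀, hu₀, hu₀q, hu₀p⟩ : ∃ u ∈ P, B q u = 0 ∧ u ∉ Submodule.span F {p} := by
    obtain ⟨u, hu, hup⟩ : ∃ u, u ∈ LinearMap.ker ((B q).comp P.subtype) ∧ u ∉ Submodule.span F {(⟨p, hp⟩ : P)} := by
      refine SetLike.not_le_iff_exists.1 fun hle => ?_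
      have h1 := Submodule.finrank_mono hle
      rw [finrank_span_singleton (fun e => hp0 (congrArg Subtype.val e))] at h1
      have h2 := ((B q).comp P.subtype).finrank_range_add_finrank_ker
      have h3 : finrank F (LinearMap.range ((B q).comp P.subtype)) ≤ 1 := (Submodule.finrank_le _).trans (finrank_self F).le
      rw [hPQ.rank_left] at h2
      omega
    refine ⟨u, u.2, LinearMap.mem_ker.1 hu, fun h => hup ?_⟩
    obtain ⟨r, hr⟩ := Submodule.mem_span_singleton.1 h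
    exact Submodule.mem_span_singleton.2 ⟨r, Subtype.ext hr⟩
  have hu₀X := step p hp q hq hx u₀ hu₀ hu₀q hu₀p hp0
  have hu₀0 : u₀ ≠ 0 := fun e => hu₀p (e ▸ Submodule.zero_mem _)
  intro u hu
  by_cases h : u ∈ Submodule.span F {u₀}
  · exact (Submodule.span_singleton_le_iff_mem u₀ X).2 hu₀X h
  · exact step u₀ hu₀ 0 Q.zero_mem (by rwa [add_zero]) u hu (by simp) h hu₀0

theorem T_mem_of_S {a v b : V} (hav : B a v = 0) (hab : B a b = 0) :
    S B hA a v 1 * S B hA a b 1 = T B hA a (2 * B b v) * (S B hA a b 1 * S B hA a v 1) := by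
  refine Grp.ext' B fun x => ?_
  simp only [Grp.mul_apply]
  rw [S_apply B hA hab, S_apply B hA hav, S_apply B hA hav, S_apply B hA hab, T_apply]
  have hva : B v a = 0 := by rw [alt_neg B hA a v, hav, neg_zero]
  have hba : B b a = 0 := by rw [alt_neg B hA a b, hab, neg_zero]
  simp only [map_add, map_smul, LinearMap.add_apply, LinearMap.smul_apply, smul_eq_mul, hA.self_eq_zero, hva, hba, hav,
    hab, mul_zero, add_zero, one_mul]
  rw [alt_neg B hA b v]
  match_scalars <;> ring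

/-- A moved partner gives a transvection with centre in the fixed subspace. -/
theorem exists_transvection {m : ℕ} (hm : 5 ≤ m) {P Q : Submodule F V} (hPQ : Pair B m P Q) (h2 : (2 : F) ≠ 0)
    {M : Subgroup (Grp B)} (hle : pairStab B P Q ≤ M) {g : Grp B} (hg : g ∈ M) {u v : V} (hu : u ∈ P) (hv : v ∈ Q)
    (huv : B u v = 0)
    (hmove : Q.map ((g * S B hA u v 1 * g⁻¹ : Grp B) : V ≃ₗ[F] V).toLinearMap ≠ Q) :
    ∃ a ∈ P, a ≠ 0 ∧ ∃ c : F, c ≠ 0 ∧ T B hA a c ∈ M := by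
  set h : Grp B := g * S B hA u v 1 * g⁻¹ with hh
  have hhM : h ∈ M := mul_mem (mul_mem hg (hle ((mem_pairStab B).2 (Or.inl (S_stab B hA hB hPQ hu hv huv))))) (inv_mem hg)
  have hfix : ∀ x, B x ((g : V ≃ₗ[F] V) u) = 0 → B x ((g : V ≃ₗ[F] V) v) = 0 → (h : V ≃ₗ[F] V) x = x := by
    intro x hxu hxv
    set y := ((g⁻¹ : Grp B) : V ≃ₗ[F] V) x with hy
    have hgy : (g : V ≃ₗ[F] V) y = x := by rw [hy, ← Grp.mul_apply, mul_inv_cancel]; rfl
    rw [← hgy, Grp.map_form] at hxu hxv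
    rw [hh, Grp.mul_apply, Grp.mul_apply, ← hy, S_apply B hA huv, hxu, hxv, mul_zero, zero_smul, zero_smul, add_zero,
      add_zero, hgy]
  set C : Submodule F V := P ⊓ (LinearMap.ker (B.flip ((g : V ≃ₗ[F] V) u)) ⊓ LinearMap.ker (B.flip ((g : V ≃ₗ[F] V) v)))
    with hC
  have hCdim : m - 2 ≤ finrank F C := by
    have e1 : ∀ (W : Submodule F V) (φ : V →ₗ[F] F), finrank F W ≤ finrank F (W ⊓ LinearMap.ker φ : Submodule F V) + 1 := by
      intro W φ
      have h1 := Submodule.finrank_sup_add_finrank_inf_eq W (LinearMap.ker φ)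
      have h2' := φ.finrank_range_add_finrank_ker
      have h3 : finrank F (LinearMap.range φ) ≤ 1 := (Submodule.finrank_le _).trans (finrank_self F).le
      have h4 := Submodule.finrank_le (W ⊔ LinearMap.ker φ)
      omega
    have h1 := e1 P (B.flip ((g : V ≃ₗ[F] V) u))
    have h2' := e1 (P ⊓ LinearMap.ker (B.flip ((g : V ≃ₗ[F] V) u))) (B.flip ((g : V ≃ₗ[F] V) v))
    rw [inf_assoc] at h2'
    rw [hPQ.rank_left] at h1
    rw [hC]
    omega
  have hCmem : ∀ a ∈ C, a ∈ P ∧ (h : V ≃ₗ[F] V) a = a := fun a ha =>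
    ⟨ha.1, hfix a (LinearMap.mem_ker.1 ha.2.1) (LinearMap.mem_ker.1 ha.2.2)⟩
  by_contra hcon
  push Not at hcon
  set Q' := Q.map (h : V ≃ₗ[F] V).toLinearMap with hQ'
  have hP' := hPQ.map B h
  -- every vector of `Q'` orthogonal to some `a ∈ C` lies in `Q + ⟨a⟩`
  have key : ∀ a ∈ C, a ≠ 0 → ∀ w ∈ Q', B a w = 0 → ∀ p ∈ P, ∀ q ∈ Q, p + q = w → p ∈ Submodule.span F {a} := by
    intro a ha ha0 w hw haw p hp q hq he
    by_contra hpa
    obtain ⟨haP, hha⟩ := hCmem a ha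
    obtain ⟨b, hb, hpb, hab⟩ := sep B hA hB hPQ ((Submodule.span_singleton_le_iff_mem a P).2 haP) hp hpa
    have hab' := hab a (Submodule.mem_span_singleton_self a)
    have hbw : B b w = -1 := by
      rw [← he, map_add, hPQ.right b hb q hq, add_zero, alt_neg B hA p b, hpb]
    have hS1 : S B hA a b 1 ∈ M := hle ((mem_pairStab B).2 (Or.inl (S_stab B hA hB hPQ haP hb hab')))
    obtain ⟨w₀, hw₀, rfl⟩ := hw
    have haw₀ : B a w₀ = 0 := by
      rw [← Grp.map_form h a w₀, hha]; exact haw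
    have hS2 : S B hA a ((h : V ≃ₗ[F] V) w₀) 1 ∈ M := by
      have h0 : S B hA a w₀ 1 ∈ M := hle ((mem_pairStab B).2 (Or.inl (S_stab B hA hB hPQ haP hw₀ haw₀)))
      have he2 : h * S B hA a w₀ 1 * h⁻¹ = S B hA a ((h : V ≃ₗ[F] V) w₀) 1 := by
        refine Grp.ext' B fun x => ?_
        have haw' : B a ((h : V ≃ₗ[F] V) w₀) = 0 := haw
        set y := ((h⁻¹ : Grp B) : V ≃ₗ[F] V) x with hy
        have hhy : (h : V ≃ₗ[F] V) y = x := by rw [hy, ← Grp.mul_apply, mul_inv_cancel]; rfl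
        rw [Grp.mul_apply, Grp.mul_apply, ← hy, S_apply B hA haw₀, S_apply B hA haw', map_add, map_add, map_smul,
          map_smul, hha, ← hhy, Grp.map_form]
        have : B ((h : V ≃ₗ[F] V) y) a = B y a := by
          conv_lhs => rw [← hha, Grp.map_form]
        rw [this]
      rw [← he2]; exact mul_mem (mul_mem hhM h0) (inv_mem hhM)
    have hT := T_mem_of_S B hA hB (v := (h : V ≃ₗ[F] V) w₀) (b := b) haw hab'
    have hTM : T B hA a (2 * B b ((h : V ≃ₗ[F] V) w₀)) ∈ M := by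
      rw [eq_mul_inv_of_mul_eq hT.symm]
      exact mul_mem (mul_mem hS2 hS1) (inv_mem (mul_mem hS1 hS2))
    refine hcon a haP ha0 (2 * B b ((h : V ≃ₗ[F] V) w₀)) (mul_ne_zero h2 ?_) hTM
    have hbw' : B b ((h : V ≃ₗ[F] V) w₀) = -1 := hbw
    rw [hbw']; exact neg_ne_zero.2 one_ne_zero
  -- three independent vectors of `C`
  obtain ⟨a₃, ha₃, ha₃0⟩ := Submodule.exists_mem_ne_zero_of_ne_bot
    (fun e => by rw [e, finrank_bot] at hCdim; omega : C ≠ ⊥)
  obtain ⟨a₂, ha₂, ha₂3⟩ : ∃ a ∈ C, a ∉ Submodule.span F {a₃} := by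
    refine SetLike.not_le_iff_exists.1 fun hle' => ?_
    have := Submodule.finrank_mono hle'
    rw [finrank_span_singleton ha₃0] at this
    omega
  obtain ⟨a₁, ha₁, ha₁23⟩ : ∃ a ∈ C, a ∉ Submodule.span F {a₂, a₃} := by
    refine SetLike.not_le_iff_exists.1 fun hle' => ?_
    have h1 := Submodule.finrank_mono hle'
    have h3 : finrank F (Submodule.span F ({a₂, a₃} : Set V)) ≤ 2 := by
      classical
      have h4 := finrank_span_finset_le_card ({a₂, a₃} : Finset V) (R := F)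
      rw [Set.finrank, Finset.coe_insert, Finset.coe_singleton] at h4
      exact h4.trans Finset.card_le_two
    omega
  have ha₂13 : a₂ ∉ Submodule.span F {a₁, a₃} := fun h => by
    obtain ⟨r, s, hrs⟩ := Submodule.mem_span_pair.1 h
    rcases eq_or_ne r 0 with rfl | hr
    · exact ha₂3 (Submodule.mem_span_singleton.2 ⟨s, by rw [← hrs, zero_smul, zero_add]⟩)
    · refine ha₁23 (Submodule.mem_span_pair.2 ⟨r⁻¹, -(r⁻¹ * s), ?_⟩)
      rw [← hrs]; match_scalars <;> field_simp <;> ring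
  have pairs : ∀ a ∈ C, ∀ b ∈ C, a ≠ 0 → b ∉ Submodule.span F {a} → ∀ w ∈ Q', B a w = 0 → B b w = 0 → w ∈ Q := by
    intro a ha b hb ha0 hba w hw h1 h2'
    have hb0 : b ≠ 0 := fun e => hba (e ▸ Submodule.zero_mem _)
    obtain ⟨p, hp, q, hq, rfl⟩ := hPQ.exists_add B w
    obtain ⟨r, hr⟩ := Submodule.mem_span_singleton.1 (key a ha ha0 _ hw h1 p hp q hq rfl)
    obtain ⟨s, hs⟩ := Submodule.mem_span_singleton.1 (key b hb hb0 _ hw h2' p hp q hq rfl)
    rcases eq_or_ne s 0 with rfl | hs0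
    · rw [← hs, zero_smul, zero_add]; exact hq
    · exact absurd (Submodule.mem_span_singleton.2 ⟨s⁻¹ * r, by rw [mul_smul, hr, ← hs, inv_smul_smul₀ hs0]⟩) hba
  have ha₁0 : a₁ ≠ 0 := fun e => ha₁23 (e ▸ Submodule.zero_mem _)
  have ha₂0 : a₂ ≠ 0 := fun e => ha₂3 (e ▸ Submodule.zero_mem _)
  have hP'mem : ∀ a ∈ C, a ∈ P.map (h : V ≃ₗ[F] V).toLinearMap := fun a ha =>
    ⟨a, (hCmem a ha).1, (hCmem a ha).2⟩
  obtain ⟨v₁, hv₁, hv₁1, hv₁'⟩ := sep B hA hB hP'
    (U := Submodule.span F {a₂, a₃}) (Submodule.span_le.2 (Set.insert_subset_iff.2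
      ⟨hP'mem _ ha₂, Set.singleton_subset_iff.2 (hP'mem _ ha₃)⟩)) (hP'mem _ ha₁) ha₁23
  obtain ⟨v₂, hv₂, hv₂2, hv₂'⟩ := sep B hA hB hP'
    (U := Submodule.span F {a₁, a₃}) (Submodule.span_le.2 (Set.insert_subset_iff.2
      ⟨hP'mem _ ha₁, Set.singleton_subset_iff.2 (hP'mem _ ha₃)⟩)) (hP'mem _ ha₂) ha₂13
  have hv₁Q : v₁ ∈ Q := pairs a₃ ha₃ a₂ ha₂ ha₃0 ha₂3 v₁ hv₁ (hv₁' _ (Submodule.subset_span (by simp)))
    (hv₁' _ (Submodule.subset_span (by simp)))
  have h13 : a₁ ∉ Submodule.span F {a₃} := fun h => ha₁23 (Submodule.span_mono (by simp) h)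
  have hv₂Q : v₂ ∈ Q := pairs a₃ ha₃ a₁ ha₁ ha₃0 h13 v₂ hv₂ (hv₂' _ (Submodule.subset_span (by simp)))
    (hv₂' _ (Submodule.subset_span (by simp)))
  have h12 : a₁ ∉ Submodule.span F {a₂} := fun h => ha₁23 (Submodule.span_mono (by simp) h)
  refine hmove (Submodule.eq_of_le_of_finrank_eq (fun w hw => ?_) (LinearEquiv.finrank_map_eq _ _))
  have hrest : w - B a₁ w • v₁ - B a₂ w • v₂ ∈ Q := by
    refine pairs a₂ ha₂ a₁ ha₁ ha₂0 h12 _ (Q'.sub_mem (Q'.sub_mem hw (Q'.smul_mem _ hv₁)) (Q'.smul_mem _ hv₂)) ?_ ?_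
    · simp [hv₂2, hv₁' a₂ (Submodule.subset_span (by simp))]
    · simp [hv₁1, hv₂' a₁ (Submodule.subset_span (by simp))]
  have := Q.add_mem (Q.add_mem hrest (Q.smul_mem (B a₁ w) hv₁Q)) (Q.smul_mem (B a₂ w) hv₂Q)
  convert this using 1
  abel

theorem exists_swap {m : ℕ} {P Q : Submodule F V} (hPQ : Pair B m P Q) :
    ∃ s : Grp B, P.map (s : V ≃ₗ[F] V).toLinearMap = Q ∧ Q.map (s : V ≃ₗ[F] V).toLinearMap = P := by
  have hnd : B.Nondegenerate := (LinearMap.IsAlt.isRefl hA).nondegenerate_iff_separatingLeft.2 fun x hx => by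
    by_contra h0; obtain ⟨y, hy⟩ := hB x h0; exact hy (hx y)
  let e : P ≃ₗ[F] Q := LinearEquiv.ofFinrankEq P Q (by rw [hPQ.rank_left, hPQ.rank_right])
  let πP := P.projectionOnto Q hPQ.compl
  let πQ := Q.projectionOnto P hPQ.compl.symm
  let η : V →ₗ[F] V := P.subtype ∘ₗ e.symm.toLinearMap ∘ₗ πQ
  let f : V →ₗ[F] V := (B.toDual hnd).symm.toLinearMap ∘ₗ η.dualMap ∘ₗ (B.toDual hnd).toLinearMap ∘ₗ
    (Q.subtype ∘ₗ πQ)
  have hf : ∀ x y, B (f x) y = B (πQ x : V) (η y) := fun x y => by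
    rw [← LinearMap.BilinForm.toDual_def (b := hnd)]
    simp [f, LinearMap.BilinForm.toDual_def]
  have hfP : ∀ x, f x ∈ P := fun x => by
    obtain ⟨p, hp, q, hq, he⟩ := hPQ.exists_add B (f x)
    suffices q = 0 by rw [← he, this, add_zero]; exact hp
    by_contra hq0
    obtain ⟨y, hy⟩ := hB q hq0
    obtain ⟨p', hp', q', hq', rfl⟩ := hPQ.exists_add B y
    apply hy
    have h1 : B (f x) p' = 0 := by
      rw [hf]
      have : πQ p' = 0 := Submodule.projectionOnto_apply_right hPQ.compl.symm ⟨p', hp'⟩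
      simp [η, this]
    rw [← he, map_add, LinearMap.add_apply, hPQ.left p hp p' hp', zero_add] at h1
    rw [map_add, h1, zero_add, hPQ.right q hq q' hq']
  let s : V →ₗ[F] V := (Q.subtype ∘ₗ e.toLinearMap ∘ₗ πP) + f
  have hs : ∀ x, s x = (e (πP x) : V) + f x := fun x => rfl
  have hdec : ∀ x, (πP x : V) + (πQ x : V) = x := fun x => by
    obtain ⟨p, hp, q, hq, rfl⟩ := hPQ.exists_add B x
    have e1 : πP p = ⟨p, hp⟩ := Submodule.projectionOnto_apply_left hPQ.compl ⟨p, hp⟩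
    have e2 : πP q = 0 := Submodule.projectionOnto_apply_right hPQ.compl ⟨q, hq⟩
    have e3 : πQ q = ⟨q, hq⟩ := Submodule.projectionOnto_apply_left hPQ.compl.symm ⟨q, hq⟩
    have e4 : πQ p = 0 := Submodule.projectionOnto_apply_right hPQ.compl.symm ⟨p, hp⟩
    simp [map_add, e1, e2, e3, e4]
  have hform : ∀ x y, B (s x) (s y) = B x y := by
    intro x y
    have hη : ∀ p : P, η (e p : V) = (p : V) := fun p => by
      have : πQ (e p : V) = e p := Submodule.projectionOnto_apply_left hPQ.compl.symm (e p)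
      simp [η, this]
    rw [hs, hs]
    simp only [map_add, LinearMap.add_apply]
    rw [hPQ.right _ (e (πP x)).2 _ (e (πP y)).2, hPQ.left _ (hfP x) _ (hfP y), alt_neg B hA (f y) (e (πP x) : V),
      hf, hf, hη, hη]
    conv_rhs => rw [← hdec x, ← hdec y]
    simp only [map_add, LinearMap.add_apply]
    rw [hPQ.left _ (πP x).2 _ (πP y).2, hPQ.right _ (πQ x).2 _ (πQ y).2, alt_neg B hA (πQ y : V) (πP x : V)]
  have hinj : Function.Injective s := by
    rw [injective_iff_map_eq_zero]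
    intro x hx
    by_contra h0
    obtain ⟨y, hy⟩ := hB x h0
    exact hy (by rw [← hform x y, hx, map_zero, LinearMap.zero_apply])
  let sE : V ≃ₗ[F] V := LinearEquiv.ofInjectiveEndo s hinj
  refine ⟨⟨sE, hform⟩, ?_, ?_⟩
  · refine Submodule.eq_of_le_of_finrank_eq ?_ (by rw [LinearEquiv.finrank_map_eq, hPQ.rank_left, hPQ.rank_right])
    rintro _ ⟨p, hp, rfl⟩
    show s p ∈ Q
    have e4 : πQ p = 0 := Submodule.projectionOnto_apply_right hPQ.compl.symm ⟨p, hp⟩
    have hf0 : f p = 0 := by simp [f, e4]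
    rw [hs, hf0, add_zero]; exact (e _).2
  · refine Submodule.eq_of_le_of_finrank_eq ?_ (by rw [LinearEquiv.finrank_map_eq, hPQ.rank_left, hPQ.rank_right])
    rintro _ ⟨q, hq, rfl⟩
    show s q ∈ P
    have e2 : πP q = 0 := Submodule.projectionOnto_apply_right hPQ.compl ⟨q, hq⟩
    rw [hs, e2, map_zero, Submodule.coe_zero, zero_add]; exact hfP q

theorem pairStab_max {m : ℕ} (hm : 5 ≤ m) {P Q : Submodule F V} (hPQ : Pair B m P Q) (h2 : (2 : F) ≠ 0)
    {M : Subgroup (Grp B)} (hle : pairStab B P Q ≤ M) (hne : M ≠ pairStab B P Q) : M = ⊤ := by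
  obtain ⟨g, hg, hgS⟩ : ∃ g ∈ M, g ∉ pairStab B P Q := by
    by_contra hc; push Not at hc; exact hne (le_antisymm hc hle)
  obtain ⟨s, hsP, hsQ⟩ := exists_swap B hA hB hPQ
  have hsM : s ∈ M := hle ((mem_pairStab B).2 (Or.inr ⟨hsP, hsQ⟩))
  have hcomm : pairStab B Q P ≤ M := fun x hx => hle ((mem_pairStab B).2 (by
    rcases (mem_pairStab B).1 hx with ⟨h, h'⟩ | ⟨h, h'⟩
    · exact Or.inl ⟨h', h⟩
    · exact Or.inr ⟨h', h⟩))
  -- some root element moves one of the two subspaces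
  obtain ⟨a, ha, ha0, c, hc, hT⟩ : ∃ a ∈ P, a ≠ 0 ∧ ∃ c : F, c ≠ 0 ∧ T B hA a c ∈ M := by
    by_contra hcon
    have hQfix : ∀ u ∈ P, ∀ v ∈ Q, B u v = 0 →
        Q.map ((g * S B hA u v 1 * g⁻¹ : Grp B) : V ≃ₗ[F] V).toLinearMap = Q := fun u hu v hv huv => by
      by_contra hm'; exact hcon (exists_transvection B hA hB hm hPQ h2 hle hg hu hv huv hm')
    have hswapT : (∃ a ∈ Q, a ≠ 0 ∧ ∃ c : F, c ≠ 0 ∧ T B hA a c ∈ M) → False := fun ⟨a, ha, ha0, c, hc, hT⟩ => by
      refine hcon ⟨(s : V ≃ₗ[F] V) a, hsQ ▸ Submodule.mem_map_of_mem ha, ?_, c, hc, ?_⟩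
      · exact fun e => ha0 ((s : V ≃ₗ[F] V).injective (by rw [e, map_zero]))
      · rw [← conj_T B hA s a c]; exact mul_mem (mul_mem hsM hT) (inv_mem hsM)
    have hPfix : ∀ u ∈ P, ∀ v ∈ Q, B u v = 0 →
        P.map ((g * S B hA u v 1 * g⁻¹ : Grp B) : V ≃ₗ[F] V).toLinearMap = P := fun u hu v hv huv => by
      by_contra hm'
      have hS : S B hA v u 1 = S B hA u v 1 := Grp.ext' B fun x => by
        rw [S_apply B hA huv, S_apply B hA (by rw [alt_neg B hA u v, huv, neg_zero]), add_right_comm]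
      exact hswapT (exists_transvection B hA hB hm hPQ.symm h2 hcomm hg hv hu
        (by rw [alt_neg B hA u v, huv, neg_zero]) (hS ▸ hm'))
    -- so both subspaces are invariant under the conjugated root elements
    have hcase : ∀ X : Submodule F V, finrank F X = m →
        (∀ u ∈ P, ∀ v ∈ Q, B u v = 0 → X.map ((g * S B hA u v 1 * g⁻¹ : Grp B) : V ≃ₗ[F] V).toLinearMap = X) →
        X = P.map (g : V ≃ₗ[F] V).toLinearMap ∨ X = Q.map (g : V ≃ₗ[F] V).toLinearMap := by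
      intro X hX hfix
      set Y := X.map ((g⁻¹ : Grp B) : V ≃ₗ[F] V).toLinearMap with hY
      have hYX : Y.map (g : V ≃ₗ[F] V).toLinearMap = X := by
        rw [hY, ← Submodule.map_comp]
        rw [show (g : V ≃ₗ[F] V).toLinearMap ∘ₗ ((g⁻¹ : Grp B) : V ≃ₗ[F] V).toLinearMap = LinearMap.id from
          LinearMap.ext fun x => (g : V ≃ₗ[F] V).apply_symm_apply x, Submodule.map_id]
      have hYdim : finrank F Y = m := by rw [hY, LinearEquiv.finrank_map_eq, hX]
      have hYinv : ∀ u ∈ P, ∀ v ∈ Q, B u v = 0 → ∀ x ∈ Y, (S B hA u v 1 : V ≃ₗ[F] V) x ∈ Y := by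
        rintro u hu v hv huv _ ⟨x, hx, rfl⟩
        refine ⟨((g * S B hA u v 1 * g⁻¹ : Grp B) : V ≃ₗ[F] V) x, ?_, ?_⟩
        · have := Submodule.mem_map_of_mem (f := ((g * S B hA u v 1 * g⁻¹ : Grp B) : V ≃ₗ[F] V).toLinearMap) hx
          rwa [hfix u hu v hv huv] at this
        · show ((g⁻¹ : Grp B) : V ≃ₗ[F] V) (((g * S B hA u v 1 * g⁻¹ : Grp B) : V ≃ₗ[F] V) x) = _
          rw [← Grp.mul_apply, ← mul_assoc, inv_mul_cancel_left]
          rfl
      by_cases hYQ : Y ≤ Q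
      · right
        rw [← hYX, Submodule.eq_of_le_of_finrank_eq hYQ (by rw [hYdim, hPQ.rank_right])]
      · left
        obtain ⟨x, hx, hxQ⟩ := SetLike.not_le_iff_exists.1 hYQ
        obtain ⟨p, hp, q, hq, rfl⟩ := hPQ.exists_add B x
        have hp0 : p ≠ 0 := fun e => hxQ (by rw [e, zero_add]; exact hq)
        have := le_of_invariant B hA hB (by omega) hPQ hYinv hp hq hp0 hx
        rw [← hYX, ← Submodule.eq_of_le_of_finrank_eq this (by rw [hYdim, hPQ.rank_left])]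
    have hne' : P ≠ Q := fun e => by
      have := hPQ.compl.inf_eq_bot
      rw [e, inf_idem] at this
      have h3 := hPQ.rank_right
      rw [this, finrank_bot] at h3
      omega
    apply hgS
    rcases hcase P hPQ.rank_left hPfix with h | h <;> rcases hcase Q hPQ.rank_right hQfix with h' | h'
    · exact absurd (h.trans h'.symm) hne'
    · exact (mem_pairStab B).2 (Or.inl ⟨h.symm, h'.symm⟩)
    · exact (mem_pairStab B).2 (Or.inr ⟨h'.symm, h.symm⟩)
    · exact absurd (h.trans h'.symm) hne'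
  -- centres
  have hmoveP : ∀ a' ∈ P, a' ≠ 0 → T B hA a' c ∈ M := by
    have one : ∀ a' ∈ P, a' ≠ 0 → ∀ b ∈ P, T B hA a' c ∈ M → b ∉ Submodule.span F {a'} → T B hA b c ∈ M := by
      intro a' ha' ha'0 b hb hT' hbn
      have hne2 : a' ∉ Submodule.span F {b - a'} := fun h => by
        obtain ⟨r, hr⟩ := Submodule.mem_span_singleton.1 h
        rcases eq_or_ne r 0 with rfl | hr0
        · rw [zero_smul] at hr
          exact ha'0 hr.symm
        · refine hbn (Submodule.mem_span_singleton.2 ⟨r⁻¹ + 1, ?_⟩)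
          have h1 : r⁻¹ • a' = b - a' := by
            calc r⁻¹ • a' = r⁻¹ • (r • (b - a')) := by rw [hr]
              _ = b - a' := inv_smul_smul₀ hr0 _
          rw [add_smul, one_smul, h1, sub_add_cancel]
      obtain ⟨v, hv, hav, hv'⟩ := sep B hA hB hPQ ((Submodule.span_singleton_le_iff_mem _ P).2 (P.sub_mem hb ha')) ha' hne2
      have h0 := hv' _ (Submodule.mem_span_singleton_self _)
      have hSM : S B hA (b - a') v 1 ∈ M :=
        hle ((mem_pairStab B).2 (Or.inl (S_stab B hA hB hPQ (P.sub_mem hb ha') hv h0)))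
      have h1 := mul_mem (mul_mem hSM hT') (inv_mem hSM)
      rw [conj_T, S_apply B hA h0, hav, hPQ.left a' ha' _ (P.sub_mem hb ha'), mul_zero, zero_smul, add_zero, one_mul,
        one_smul, add_sub_cancel] at h1
      exact h1
    intro a' ha' ha'0
    by_cases h : a' ∈ Submodule.span F {a}
    · obtain ⟨z, hz, hza⟩ : ∃ z ∈ P, z ∉ Submodule.span F {a} := by
        refine SetLike.not_le_iff_exists.1 fun hle' => ?_
        have := Submodule.finrank_mono hle'
        rw [finrank_span_singleton ha0, hPQ.rank_left] at this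
        omega
      refine one z hz (fun e => hza (e ▸ Submodule.zero_mem _)) a' ha' (one a ha ha0 z hz hT hza) fun h' => hza ?_
      obtain ⟨r, rfl⟩ := Submodule.mem_span_singleton.1 h'
      have hr : r ≠ 0 := fun e => ha'0 (by rw [e, zero_smul])
      have := Submodule.smul_mem _ r⁻¹ h
      rwa [inv_smul_smul₀ hr] at this
    · exact one a ha ha0 a' ha' hT h
  have hPS : ∀ a' ∈ P, a' ∈ centres B hA M := by
    intro a' ha' d
    rcases eq_or_ne a' 0 with rfl | ha'0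
    · rw [T_zero_vec]; exact M.one_mem
    set e := d / c with he
    have hx : ∀ r : F, T B hA a' (r * r * c) ∈ M := fun r => by
      rcases eq_or_ne r 0 with rfl | hr
      · rw [zero_mul, zero_mul, T_zero]; exact M.one_mem
      · rw [← T_smul B hA a' r c]; exact hmoveP _ (P.smul_mem r ha') (smul_ne_zero hr ha'0)
    have h1 := mul_mem (hx ((e + 1) / 2)) (inv_mem (hx ((e - 1) / 2)))
    rw [T_inv, T_add] at h1
    convert h1 using 2
    rw [he]; field_simp; ring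
  have hQS : ∀ b ∈ Q, b ∈ centres B hA M := fun b hb => by
    obtain ⟨a', ha', rfl⟩ := (hsP.symm ▸ hb : b ∈ P.map (s : V ≃ₗ[F] V).toLinearMap)
    exact centres_map B hA hsM (hPS a' ha')
  refine eq_top_of_centres B hA hB fun x _ => ?_
  obtain ⟨p, hp, q, hq, rfl⟩ := hPQ.exists_add B x
  by_cases hp0 : p = 0
  · rw [hp0, zero_add]; exact hQS q hq
  have main : ∀ q ∈ Q, B p q ≠ 0 → p + q ∈ centres B hA M := fun q hq h => by
    simpa using centres_line B hA (hPS p hp) (hQS q hq) h 1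
  by_cases hpq : B p q = 0
  · obtain ⟨q₀, hq₀, hpq₀, -⟩ := sep B hA hB hPQ (bot_le : ⊥ ≤ P) hp (by simpa using hp0)
    have h1 := main q₀ hq₀ (hpq₀ ▸ one_ne_zero)
    have h2' : B (p + q₀) (q - q₀) ≠ 0 := by
      rw [map_add, LinearMap.add_apply, hPQ.right q₀ hq₀ _ (Q.sub_mem hq hq₀), add_zero, map_sub, hpq, hpq₀, zero_sub]
      exact neg_ne_zero.2 one_ne_zero
    simpa using centres_line B hA h1 (hQS _ (Q.sub_mem hq hq₀)) h2' 1
  · exact main q hq hpq

theorem pairStab_ne_top {m : ℕ} (hm : 1 ≤ m) (h2 : (2 : F) ≠ 0) {P Q : Submodule F V} (hPQ : Pair B m P Q) : pairStab B P Q ≠ ⊤ := by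
  intro h
  obtain ⟨a, ha, ha0⟩ := Submodule.exists_mem_ne_zero_of_ne_bot
    (fun e => by have := hPQ.rank_left; rw [e, finrank_bot] at this; omega : P ≠ ⊥)
  obtain ⟨b, hb, hab, -⟩ := sep B hA hB hPQ (bot_le : ⊥ ≤ P) ha (by simpa using ha0)
  have hmem : T B hA (a + b) 1 ∈ pairStab B P Q := h ▸ Subgroup.mem_top _
  have hb0 : b ≠ 0 := fun e => by simp [e] at hab
  have hbP : b ∉ P := fun hbP => by simp [hPQ.left a ha b hbP] at hab
  have hval : (T B hA (a + b) 1 : V ≃ₗ[F] V) a = a + (a + b) := by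
    rw [T_apply, map_add, hA.self_eq_zero, zero_add, hab, one_mul, one_smul]
  rcases (mem_pairStab B).1 hmem with ⟨h0, -⟩ | ⟨h0, -⟩
  · have h1 : a + (a + b) ∈ P := hval ▸ h0 ▸ Submodule.mem_map_of_mem ha
    exact hbP (by simpa using P.sub_mem (P.sub_mem h1 ha) ha)
  · have h1 : a + (a + b) ∈ Q := hval ▸ h0 ▸ Submodule.mem_map_of_mem ha
    have e : a + (a + b) - b = a + a := by abel
    have h2' : a + a ∈ P ⊓ Q := ⟨P.add_mem ha ha, e ▸ Q.sub_mem h1 hb⟩
    rw [hPQ.compl.inf_eq_bot, Submodule.mem_bot, ← two_smul F a] at h2'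
    exact smul_ne_zero h2 ha0 h2'

end Cfsg.Agent.Classical.MaxSub
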