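import Cfsg.Agent.Lib.Classical.MaxSubspace

/-!
In characteristic two the orthogonal group of a quadratic form is maximal in the symplectic group of its polar form.
-/

set_option autoImplicit false
set_option linter.unusedSectionVars false

open Module

namespace Cfsg.Agent.Classical.MaxSub

open Sp

/-- Transfer of maximality to the matrix group. -/
theorem spGL_isMaximalIn {F : Type*} [Field F] {m : ℕ} {K : Subgroup (GL (Fin m ⊕ Fin m) F)}
    {H : Subgroup (Grp (sympB F m))} (hiff : ∀ A : Cfsg.spGL m F, (A : GL (Fin m ⊕ Fin m) F) ∈ K ↔ spGLEquiv m A ∈ H)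
    (hne : H ≠ ⊤) (hmax : ∀ M, H ≤ M → M ≠ H → M = ⊤) :
    Cfsg.Geo.IsMaximalIn (Cfsg.spGL m F) (K ⊓ Cfsg.spGL m F) := by
  refine ⟨lt_of_le_of_ne inf_le_right fun e => hne (eq_top_iff.2 fun g _ => ?_), fun M h1 h2 => ?_⟩
  · obtain ⟨A, rfl⟩ := (spGLEquiv m).surjective g
    exact (hiff A).1 (e.ge A.2).1
  set M' := (M.subgroupOf (Cfsg.spGL m F)).map (spGLEquiv (F := F) m).toMonoidHom with hM'
  have hmem : ∀ A : Cfsg.spGL m F, spGLEquiv m A ∈ M' ↔ (A : GL (Fin m ⊕ Fin m) F) ∈ M := fun A =>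
    Subgroup.mem_map_iff_mem (f := (spGLEquiv (F := F) m).toMonoidHom) (spGLEquiv (F := F) m).injective
  by_cases he : M' = H
  · left
    refine le_antisymm (fun x hx => ⟨?_, h2 hx⟩) h1
    exact (hiff ⟨x, h2 hx⟩).2 (he ▸ (hmem ⟨x, h2 hx⟩).2 hx)
  · right
    have htop := hmax M' (fun g hg => by
      obtain ⟨A, rfl⟩ := (spGLEquiv m).surjective g
      exact (hmem A).2 (h1 ⟨(hiff A).2 hg, A.2⟩)) he
    exact le_antisymm h2 fun x hx => (hmem ⟨x, hx⟩).1 (htop ▸ Subgroup.mem_top _)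

variable {F V : Type*} [Field F] [CharP F 2] [AddCommGroup V] [Module F V] [FiniteDimensional F V]
variable (B : LinearMap.BilinForm F V) (hA : B.IsAlt) (hB : Nondeg B)

/-- The isometries of `Q`. -/
def oGrp (Q : V → F) : Subgroup (Grp B) where
  carrier := {g | ∀ x, Q ((g : V ≃ₗ[F] V) x) = Q x}
  mul_mem' {a b} ha hb x := by rw [Grp.mul_apply, ha, hb]
  one_mem' x := rfl
  inv_mem' {a} ha x := by
    have := ha (((a⁻¹ : Grp B) : V ≃ₗ[F] V) x)
    rw [← Grp.mul_apply, mul_inv_cancel] at this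
    exact this.symm

variable {Q : V → F} (hsm : ∀ (c : F) v, Q (c • v) = c * c * Q v) (hadd : ∀ x y, Q (x + y) = Q x + Q y + B x y)

include hA hsm hadd

theorem refl_mem {w : V} (hw : Q w ≠ 0) : T B hA w (Q w)⁻¹ ∈ oGrp B Q := fun x => by
  rw [T_apply, hadd, hsm, map_smul, smul_eq_mul]
  have : (Q w)⁻¹ * B x w * ((Q w)⁻¹ * B x w) * Q w = (Q w)⁻¹ * B x w * B x w := by field_simp
  rw [this, add_assoc, CharTwo.add_self_eq_zero, add_zero]

include hB

theorem exists_singular (h3 : 3 < finrank F V) (hsq : ∀ a : F, ∃ b, b * b = a) : ∃ v : V, v ≠ 0 ∧ Q v = 0 := by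
  have : Nontrivial V := Module.nontrivial_of_finrank_pos (R := F) (by omega)
  obtain ⟨u, hu⟩ := exists_ne (0 : V)
  have hk : ¬ LinearMap.ker (B u) ≤ Submodule.span F {u} := fun h => by
    have h1 := Submodule.finrank_mono h
    rw [finrank_span_singleton hu] at h1
    have h2 := (B u).finrank_range_add_finrank_ker
    have h3' : finrank F (LinearMap.range (B u)) ≤ 1 := (Submodule.finrank_le _).trans (finrank_self F).le
    omega
  obtain ⟨w, hw, hwu⟩ := SetLike.not_le_iff_exists.1 hk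
  have hw0 : w ≠ 0 := fun e => hwu (e ▸ Submodule.zero_mem _)
  by_cases hQw : Q w = 0
  · exact ⟨w, hw0, hQw⟩
  obtain ⟨t, ht⟩ := hsq (Q u / Q w)
  refine ⟨u + t • w, fun e => ?_, ?_⟩
  · rcases eq_or_ne t 0 with rfl | ht0
    · exact hu (by simpa using e)
    · refine hwu (Submodule.mem_span_singleton.2 ⟨-t⁻¹, ?_⟩)
      rw [eq_neg_of_add_eq_zero_left e, smul_neg, smul_smul]
      simp [ht0]
  · rw [hadd, hsm, map_smul, LinearMap.mem_ker.1 hw, smul_zero, add_zero, ht, div_mul_cancel₀ _ hQw,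
      CharTwo.add_self_eq_zero]

theorem exists_singular_both {v v' : V} (hv : v ≠ 0) (hv' : v' ≠ 0) (hQv : Q v = 0) (h : B v v' = 0) :
    ∃ z, Q z = 0 ∧ B z v ≠ 0 ∧ B z v' ≠ 0 := by
  obtain ⟨y, hyv, hyv'⟩ := exists_both_ne B hA hB hv' hv
  refine ⟨y + (Q y / B y v) • v, ?_, ?_, ?_⟩
  · rw [hadd, hsm, hQv, mul_zero, add_zero, map_smul, smul_eq_mul, div_mul_cancel₀ _ hyv, CharTwo.add_self_eq_zero]
  · rw [map_add, map_smul, LinearMap.add_apply, LinearMap.smul_apply, hA.self_eq_zero, smul_zero, add_zero]; exact hyv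
  · rw [map_add, map_smul, LinearMap.add_apply, LinearMap.smul_apply, h, smul_zero, add_zero]; exact hyv'

theorem move_singular {v v' : V} (hv : v ≠ 0) (hv' : v' ≠ 0) (hQv : Q v = 0) (hQv' : Q v' = 0) :
    ∃ h ∈ oGrp B Q, (h : V ≃ₗ[F] V) v = v' := by
  have one : ∀ a b : V, Q a = 0 → Q b = 0 → B a b ≠ 0 → ∃ h ∈ oGrp B Q, (h : V ≃ₗ[F] V) a = b := by
    intro a b ha hb hab
    have hq : Q (a + b) = B a b := by rw [hadd, ha, hb, zero_add, zero_add]
    refine ⟨_, refl_mem B hA hsm hadd (w := a + b) (hq ▸ hab), ?_⟩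
    rw [T_apply, hq, map_add, hA.self_eq_zero, zero_add, inv_mul_cancel₀ hab, one_smul, ← add_assoc,
      show a + a = (1 + 1 : F) • a by rw [add_smul, one_smul], CharTwo.add_self_eq_zero, zero_smul, zero_add]
  by_cases h : B v v' = 0
  · obtain ⟨z, hz, hzv, hzv'⟩ := exists_singular_both B hA hB hsm hadd hv hv' hQv h
    obtain ⟨h₁, m₁, e₁⟩ := one v z hQv hz (by rw [alt_neg B hA]; exact neg_ne_zero.2 hzv)
    obtain ⟨h₂, m₂, e₂⟩ := one z v' hz hQv' hzv'
    exact ⟨h₂ * h₁, mul_mem m₂ m₁, by rw [Grp.mul_apply, e₁, e₂]⟩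
  · exact one v v' hQv hQv' h

theorem split_singular (h3 : 3 < finrank F V) (hsq : ∀ a : F, ∃ b, b * b = a) {v : V} (hv : Q v ≠ 0) :
    ∃ a b, Q a = 0 ∧ Q b = 0 ∧ B a b ≠ 0 ∧ v = a + b := by
  have hv0 : v ≠ 0 := fun e => hv (by rw [e]; have := hsm 0 v; simpa using this)
  obtain ⟨x, hx0, hx⟩ := exists_singular B hA hB hsm hadd h3 hsq
  obtain ⟨x', hx', hxv⟩ : ∃ x', Q x' = 0 ∧ B x' v ≠ 0 := by
    by_cases h : B x v = 0
    · obtain ⟨z, hz, -, hzv⟩ := exists_singular_both B hA hB hsm hadd hx0 hv0 hx h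
      exact ⟨z, hz, hzv⟩
    · exact ⟨x, hx, h⟩
  set b := (Q v / B x' v) • x' with hb
  have hQb : Q b = 0 := by rw [hb, hsm, hx', mul_zero]
  have hbv : B b v = Q v := by rw [hb, map_smul, LinearMap.smul_apply, smul_eq_mul, div_mul_cancel₀ _ hxv]
  have hvb : B v b = Q v := by rw [alt_neg B hA, hbv, CharTwo.neg_eq]
  refine ⟨v + b, b, by rw [hadd, hQb, add_zero, hvb, CharTwo.add_self_eq_zero], hQb, ?_, ?_⟩
  · rw [map_add, LinearMap.add_apply, hA.self_eq_zero, add_zero, hvb]; exact hv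
  · rw [add_assoc, show b + b = (1 + 1 : F) • b by rw [add_smul, one_smul], CharTwo.add_self_eq_zero, zero_smul, add_zero]

theorem oGrp_ne_top (h3 : 3 < finrank F V) (hsq : ∀ a : F, ∃ b, b * b = a) : oGrp B Q ≠ ⊤ := by
  intro h
  obtain ⟨v, hv0, hv⟩ := exists_singular B hA hB hsm hadd h3 hsq
  obtain ⟨x, hx⟩ := hB v hv0
  have h1 : T B hA v 1 ∈ oGrp B Q := h ▸ Subgroup.mem_top _
  have h2 := h1 x
  rw [T_apply, hadd, hsm, hv, mul_zero, add_zero, map_smul, smul_eq_mul, one_mul, add_eq_left] at h2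
  exact hx (by rw [alt_neg B hA, mul_self_eq_zero.1 h2, neg_zero])

theorem oGrp_max (h3 : 3 < finrank F V) (hsq : ∀ a : F, ∃ b, b * b = a) {M : Subgroup (Grp B)}
    (hle : oGrp B Q ≤ M) (hne : M ≠ oGrp B Q) : M = ⊤ := by
  obtain ⟨g, hg, hgO⟩ : ∃ g ∈ M, g ∉ oGrp B Q := by
    by_contra hc; push Not at hc; exact hne (le_antisymm hc hle)
  obtain ⟨v0, hv00, hv0, hgv0⟩ : ∃ v0, v0 ≠ 0 ∧ Q v0 = 0 ∧ Q ((g : V ≃ₗ[F] V) v0) ≠ 0 := by
    by_contra hc
    push Not at hc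
    have hc' : ∀ a, Q a = 0 → Q ((g : V ≃ₗ[F] V) a) = 0 := fun a ha => by
      rcases eq_or_ne a 0 with rfl | ha0
      · rw [map_zero]; exact ha
      · exact hc a ha0 ha
    refine hgO fun x => ?_
    by_cases hx : Q x = 0
    · rw [hx, hc' x hx]
    · obtain ⟨a, b, ha, hb, -, rfl⟩ := split_singular B hA hB hsm hadd h3 hsq hx
      rw [map_add, hadd, hadd, hc' a ha, hc' b hb, Grp.map_form, ha, hb]
  have hS0 : v0 ∈ centres B hA M := fun c => by
    have h1 : T B hA ((g : V ≃ₗ[F] V) v0) (Q ((g : V ≃ₗ[F] V) v0))⁻¹ ∈ M := hle (refl_mem B hA hsm hadd hgv0)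
    rw [← conj_T B hA g v0] at h1
    have h2 : T B hA v0 (Q ((g : V ≃ₗ[F] V) v0))⁻¹ ∈ M := by
      simpa [mul_assoc] using mul_mem (mul_mem (inv_mem hg) h1) hg
    obtain ⟨b, hb⟩ := hsq (c * Q ((g : V ≃ₗ[F] V) v0))
    rcases eq_or_ne b 0 with rfl | hb0
    · have : c = 0 := by simpa [hgv0] using hb.symm
      rw [this, T_zero]; exact M.one_mem
    obtain ⟨h, hh, he⟩ := move_singular B hA hB hsm hadd hv00 (smul_ne_zero hb0 hv00) hv0 (by rw [hsm, hv0, mul_zero])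
    have h3' := mul_mem (mul_mem (hle hh) h2) (inv_mem (hle hh))
    rwa [conj_T, he, T_smul, hb, mul_assoc, mul_inv_cancel₀ hgv0, mul_one] at h3'
  refine eq_top_of_centres B hA hB fun v hv => ?_
  have hsing : ∀ a, a ≠ 0 → Q a = 0 → a ∈ centres B hA M := fun a ha0 ha => by
    obtain ⟨h, hh, he⟩ := move_singular B hA hB hsm hadd hv00 ha0 hv0 ha
    exact he ▸ centres_map B hA (hle hh) hS0
  by_cases hQ : Q v = 0
  · exact hsing v hv hQ
  · obtain ⟨a, b, ha, hb, hab, rfl⟩ := split_singular B hA hB hsm hadd h3 hsq hQ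
    have ha0 : a ≠ 0 := fun e => hab (by rw [e, map_zero, LinearMap.zero_apply])
    have hb0 : b ≠ 0 := fun e => hab (by rw [e, map_zero])
    simpa using centres_line B hA (hsing a ha0 ha) (hsing b hb0 hb) hab 1

end Cfsg.Agent.Classical.MaxSub
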