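import Cfsg.Agent.Lib.Classical.MaxSUBase

/-!
Unitary Siegel transformations and their commutators.
-/

set_option autoImplicit false
set_option linter.unusedSectionVars false

open Module Matrix

namespace Cfsg.Agent.Classical.MaxSU

open HermSep MaxLin HermGen

variable {F : Type*} [Field F] [Fintype F] {ι : Type} [Fintype ι] [DecidableEq ι]
variable {σ : F ≃+* F} {f : (ι → F) → (ι → F) → F} (hf : Cfsg.Geo.IsUnitaryForm σ f)

local notation "Mat" => Matrix ι ι F

/-- The unitary Siegel transformation. -/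
noncomputable def hS (a b : ι → F) (κ : F) (ha : f a a = 0) (hba : f b a = 0) (hκ : κ + σ κ = f b b) : GL ι F :=
  transGL (-fn hf b + σ κ • fn hf a) a (by simp [fn_apply, ha, show f a b = 0 from swap_zero hf hba]) *
    transGL (fn hf a) b (by simp [fn_apply, hba])

theorem hS_apply (a b : ι → F) (κ : F) (ha : f a a = 0) (hba : f b a = 0) (hκ : κ + σ κ = f b b) (x : ι → F) :
    (hS hf a b κ ha hba hκ : Mat) *ᵥ x = x + f x a • b - (f x b + κ * f x a) • a := by
  rw [hS, Units.val_mul, ← Matrix.mulVec_mulVec, transGL_apply, transGL_apply]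
  simp only [LinearMap.add_apply, LinearMap.neg_apply, LinearMap.smul_apply, fn_apply, hf.add_left, hf.smul_left,
    smul_eq_mul, hba, ← hκ]
  module

theorem hS_pres (a b : ι → F) (κ : F) (ha : f a a = 0) (hba : f b a = 0) (hκ : κ + σ κ = f b b) :
    Pres f (hS hf a b κ ha hba hκ) := by
  have hab : f a b = 0 := swap_zero hf hba
  refine ⟨fun x y => ?_, congrArg Units.val (MonoidHom.mem_ker.1 (mul_mem (transGL_mem_sl _ _ _) (transGL_mem_sl _ _ _)))⟩
  rw [hS_apply, hS_apply]
  simp only [sub_eq_add_neg, ← neg_smul, hf.add_left, hf.smul_left, add_right hf, smul_right hf, ha, hba, hab,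
    map_neg, map_add, map_mul]
  rw [show f b y = σ (f y b) from hf.herm b y, show f a y = σ (f y a) from hf.herm a y, ← hκ]
  ring

theorem hS_conj {g : GL ι F} (hg : Pres f g) (a b : ι → F) (κ : F) (ha : f a a = 0) (hba : f b a = 0)
    (hκ : κ + σ κ = f b b) : ∃ h1 h2 h3,
      hS hf ((g : Mat) *ᵥ a) ((g : Mat) *ᵥ b) κ h1 h2 h3 = g * hS hf a b κ ha hba hκ * g⁻¹ := by
  refine ⟨(hg.1 a a).trans ha, (hg.1 b a).trans hba, hκ.trans (hg.1 b b).symm, gl_ext fun x => ?_⟩
  rw [Units.val_mul, Units.val_mul, ← Matrix.mulVec_mulVec, ← Matrix.mulVec_mulVec, hS_apply, hS_apply,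
    Matrix.mulVec_sub, Matrix.mulVec_add, Matrix.mulVec_smul, Matrix.mulVec_smul, gl_inv_mulVec]
  conv_lhs =>
    rw [show x = (g : Mat) *ᵥ (((g⁻¹ : GL ι F) : Mat) *ᵥ x) from (gl_inv_mulVec g x).symm]
  rw [hg.1, hg.1, gl_inv_mulVec]

/-- The commutator of two Siegel transformations with one centre is a transvection. -/
theorem Tm_comm {M : Subgroup (GL ι F)} {a b c : ι → F} {κ κ' : F} {ha : f a a = 0} {hb : f b a = 0}
    {hc : f c a = 0} {hκ : κ + σ κ = f b b} {hκ' : κ' + σ κ' = f c c}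
    (hu : hS hf a b κ ha hb hκ ∈ M) (hv : hS hf a c κ' ha hc hκ' ∈ M) :
    Tm M ((f b c - f c b) • fn hf a) a := by
  have h0 : ((f b c - f c b) • fn hf a : Dual F _) a = 0 := by simp [fn_apply, ha]
  refine ⟨h0, ?_⟩
  have hac : f a c = 0 := swap_zero hf hc
  have hab : f a b = 0 := swap_zero hf hb
  have he : hS hf a b κ ha hb hκ * hS hf a c κ' ha hc hκ' =
      transGL ((f b c - f c b) • fn hf a) a h0 * (hS hf a c κ' ha hc hκ' * hS hf a b κ ha hb hκ) := by
    refine gl_ext fun x => ?_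
    simp only [Units.val_mul, ← Matrix.mulVec_mulVec]
    rw [transGL_apply, hS_apply, hS_apply, hS_apply, hS_apply]
    simp only [LinearMap.smul_apply, fn_apply, sub_eq_add_neg, ← neg_smul, hf.add_left, hf.smul_left, smul_eq_mul,
      ha, hb, hc, hab, hac]
    module
  rw [eq_mul_inv_of_mul_eq he.symm]
  exact mul_mem (mul_mem hu hv) (inv_mem (mul_mem hv hu))

end Cfsg.Agent.Classical.MaxSU
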