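import Cfsg.Agent.Lib.Classical.MaxLinTransv
import Cfsg.Prelude.Def_GeometricClasses

/-!
Membership in subfield groups.
-/

set_option autoImplicit false
set_option linter.unusedSectionVars false

open Module Matrix

namespace Cfsg.Agent.Classical.SubfieldMem

open MaxLin

variable {F : Type*} [Field F] {ι : Type} [Fintype ι] [DecidableEq ι] (F₀ : Subfield F) (P : GL ι F)

local notation "Mat" => Matrix ι ι F

/-- Vectors with coordinates in the subfield with respect to the columns of `P`. -/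
def Rat' (y : ι → F) : Prop := ∀ i, (((P⁻¹ : GL ι F) : Mat) *ᵥ y) i ∈ F₀

theorem scalars_normal : (Cfsg.Geo.scalars ι F).Normal := by
  refine ⟨fun a ha b => ?_⟩
  obtain ⟨c, hc⟩ := (Cfsg.Geo.mem_scalars_iff a).1 ha
  have : b * a * b⁻¹ = a := Units.ext (by
    rw [Units.val_mul, Units.val_mul, hc, Matrix.mul_smul, Matrix.mul_one, Matrix.smul_mul, ← Units.val_mul,
      mul_inv_cancel, Units.val_one])
  rwa [this]

theorem mem_range_iff (B : GL ι F) :
    B ∈ (Matrix.GeneralLinearGroup.map (F₀.subtype : F₀ →+* F)).range ↔ ∀ i j, (B : Mat) i j ∈ F₀ := by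
  constructor
  · rintro ⟨A, rfl⟩ i j
    exact ((A : Matrix ι ι F₀) i j).2
  · intro h
    let A : Matrix ι ι F₀ := fun i j => ⟨(B : Mat) i j, h i j⟩
    have hA : A.map F₀.subtype = (B : Mat) := rfl
    have hdet : A.det ≠ 0 := by
      intro e
      have := RingHom.map_det F₀.subtype A
      rw [RingHom.mapMatrix_apply, hA, e, map_zero] at this
      exact (B.isUnit.map (Matrix.detMonoidHom (n := ι) (R := F))).ne_zero this.symm
    exact ⟨Matrix.GeneralLinearGroup.mkOfDetNeZero A hdet, Units.ext hA⟩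

theorem mem_iff (g : GL ι F) :
    g ∈ Cfsg.Geo.subfieldSubgroup F₀ P ↔
      ∃ (c : F) (A : GL ι F), c ≠ 0 ∧ (∀ i j, (A : Mat) i j ∈ F₀) ∧ ((P⁻¹ * g * P : GL ι F) : Mat) = c • (A : Mat) := by
  haveI := scalars_normal (F := F) (ι := ι)
  constructor
  · rintro ⟨x, hx, rfl⟩
    obtain ⟨A, hA, S, hS, rfl⟩ := Subgroup.mem_sup_of_normal_right.1 hx
    obtain ⟨c, hc⟩ := (Cfsg.Geo.mem_scalars_iff S).1 hS
    refine ⟨c, A, c.ne_zero, (mem_range_iff F₀ A).1 hA, ?_⟩
    simp only [MulEquiv.coe_toMonoidHom, MulAut.conj_apply]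
    rw [show P⁻¹ * (P * (A * S) * P⁻¹) * P = A * S by group, Units.val_mul, hc, Matrix.mul_smul, Matrix.mul_one]
  · rintro ⟨c, A, hc, hA, h⟩
    refine ⟨P⁻¹ * g * P, ?_, by simp only [MulEquiv.coe_toMonoidHom, MulAut.conj_apply]; group⟩
    let S : GL ι F := Units.map (Matrix.scalar ι : F →+* Mat).toMonoidHom (Units.mk0 c hc)
    have hS : S ∈ Cfsg.Geo.scalars ι F := ⟨_, rfl⟩
    have : P⁻¹ * g * P = A * S := Units.ext (by
      rw [h, Units.val_mul]
      show c • (A : Mat) = (A : Mat) * Matrix.scalar ι c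
      ext i j
      simp [Matrix.scalar_apply, Matrix.mul_diagonal, mul_comm])
    rw [this]
    exact mul_mem (Subgroup.mem_sup_left ((mem_range_iff F₀ A).2 hA)) (Subgroup.mem_sup_right hS)

theorem rat_image {g : GL ι F} (hg : g ∈ Cfsg.Geo.subfieldSubgroup F₀ P) {y : ι → F} (hy : Rat' F₀ P y) :
    ∃ (l : F) (r : ι → F), Rat' F₀ P r ∧ (g : Mat) *ᵥ y = l • r := by
  obtain ⟨c, A, -, hA, h⟩ := (mem_iff F₀ P g).1 hg
  refine ⟨c, (P : Mat) *ᵥ ((A : Mat) *ᵥ (((P⁻¹ : GL ι F) : Mat) *ᵥ y)), fun i => ?_, ?_⟩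
  · rw [gl_inv_mulVec']
    exact Subfield.sum_mem _ fun j _ => mul_mem (hA i j) (hy j)
  · rw [← Matrix.mulVec_smul, ← Matrix.smul_mulVec, ← h, Units.val_mul, Units.val_mul, ← Matrix.mulVec_mulVec,
      ← Matrix.mulVec_mulVec, gl_inv_mulVec, gl_inv_mulVec]

theorem mem_of_rat_image {g : GL ι F} (h : ∀ y, Rat' F₀ P y → ∃ (l : F) (r : ι → F), Rat' F₀ P r ∧ (g : Mat) *ᵥ y = l • r) :
    g ∈ Cfsg.Geo.subfieldSubgroup F₀ P := by
  classical
  set B : GL ι F := P⁻¹ * g * P with hB
  have hB' : ∀ u : ι → F, (∀ i, u i ∈ F₀) → ∃ (l : F) (r : ι → F), (∀ i, r i ∈ F₀) ∧ (B : Mat) *ᵥ u = l • r := by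
    intro u hu
    obtain ⟨l, r, hr, he⟩ := h ((P : Mat) *ᵥ u) (fun i => by rw [gl_inv_mulVec']; exact hu i)
    refine ⟨l, _, hr, ?_⟩
    rw [hB, Units.val_mul, Units.val_mul, ← Matrix.mulVec_mulVec, ← Matrix.mulVec_mulVec, he, Matrix.mulVec_smul]
  have hcol : ∀ i, ∃ (l : F) (r : ι → F), (∀ k, r k ∈ F₀) ∧ (B : Mat) *ᵥ Pi.single i 1 = l • r := fun i =>
    hB' _ fun k => by
      rcases eq_or_ne k i with rfl | hk
      · simp [one_mem]
      · simp [hk, zero_mem]
  choose lam r hr hcol using hcol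
  have hli : LinearIndependent F fun i => lam i • r i := by
    have := LinearIndependent.map' (Pi.basisFun F ι).linearIndependent (Matrix.toLin' (B : Mat))
      (LinearMap.ker_eq_bot.2 fun a b e => by
        have := congrArg (fun z => ((B⁻¹ : GL ι F) : Mat) *ᵥ z) e
        simpa [Matrix.toLin'_apply, gl_inv_mulVec', -Matrix.coe_units_inv] using this)
    rw [show (Matrix.toLin' (B : Mat)) ∘ (Pi.basisFun F ι) = fun i => lam i • r i from
      funext fun i => by simp [← hcol i]] at this
    exact this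
  have hl0 : ∀ i, lam i ≠ 0 := fun i e => hli.ne_zero i (by simp [e])
  have hratio : ∀ i j, lam j / lam i ∈ F₀ := by
    intro i j
    rcases eq_or_ne i j with rfl | hij
    · rw [div_self (hl0 i)]; exact one_mem _
    obtain ⟨m, s, hs, he⟩ := hB' (Pi.single i 1 + Pi.single j 1) fun k => add_mem
      (by rcases eq_or_ne k i with rfl | hk; exacts [by simp [one_mem], by simp [hk, zero_mem]])
      (by rcases eq_or_ne k j with rfl | hk; exacts [by simp [one_mem], by simp [hk, zero_mem]])
    rw [Matrix.mulVec_add, hcol, hcol] at he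
    -- two coordinates with invertible minor
    obtain ⟨k, k', hkk⟩ : ∃ k k', r i k * r j k' - r i k' * r j k ≠ 0 := by
      by_contra hall
      push Not at hall
      obtain ⟨k, hk⟩ := Function.ne_iff.1 (fun e : r i = 0 => hli.ne_zero i (by simp [e]))
      have hp : LinearIndependent F ![lam i • r i, lam j • r j] := by
        have hp' := hli.comp ![i, j] (by
          intro a b e
          fin_cases a <;> fin_cases b <;> simp_all [hij.symm])
        rw [show (fun i => lam i • r i) ∘ ![i, j] = ![lam i • r i, lam j • r j] from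
          funext fun a => by fin_cases a <;> rfl] at hp'
        exact hp'
      have := (LinearIndependent.pair_iff.1 hp) (lam j * r j k) (-(lam i * r i k)) (by
        funext k'
        simp only [Pi.add_apply, Pi.smul_apply, smul_eq_mul, Pi.zero_apply]
        linear_combination (-(lam i * lam j)) * hall k k')
      exact hk ((mul_eq_zero.1 (neg_eq_zero.1 this.2)).resolve_left (hl0 i))
    have e1 : lam i * r i k + lam j * r j k = m * s k := congrFun he k
    have e2 : lam i * r i k' + lam j * r j k' = m * s k' := congrFun he k'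
    have hi : lam i * (r i k * r j k' - r i k' * r j k) = m * (s k * r j k' - s k' * r j k) := by
      linear_combination r j k' * e1 - r j k * e2
    have hj : lam j * (r i k * r j k' - r i k' * r j k) = m * (r i k * s k' - r i k' * s k) := by
      linear_combination r i k * e2 - r i k' * e1
    have hne : m * (s k * r j k' - s k' * r j k) ≠ 0 := hi ▸ mul_ne_zero (hl0 i) hkk
    have : lam j / lam i = (r i k * s k' - r i k' * s k) / (s k * r j k' - s k' * r j k) := by
      rw [div_eq_div_iff (hl0 i) (right_ne_zero_of_mul hne)]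
      exact mul_left_cancel₀ (mul_ne_zero (left_ne_zero_of_mul hne) hkk) (by
        linear_combination (m * (s k * r j k' - s k' * r j k)) * hj - (m * (r i k * s k' - r i k' * s k)) * hi)
    rw [this]
    exact div_mem (sub_mem (mul_mem (hr i k) (hs k')) (mul_mem (hr i k') (hs k)))
      (sub_mem (mul_mem (hs k) (hr j k')) (mul_mem (hs k') (hr j k)))
  rcases isEmpty_or_nonempty ι with hι | ⟨⟨i₀⟩⟩
  · exact (mem_iff F₀ P g).2 ⟨1, 1, one_ne_zero, fun i => (hι.false i).elim, Matrix.ext fun i => (hι.false i).elim⟩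
  set c := lam i₀
  let A : Mat := fun k i => (lam i / c) * r i k
  have hBA : (B : Mat) = c • A := by
    ext k i
    have := congrFun (hcol i) k
    rw [Matrix.mulVec_single_one] at this
    show (B : Mat) k i = c * ((lam i / c) * r i k)
    rw [← mul_assoc, mul_div_cancel₀ _ (hl0 i₀)]
    exact this
  have hA : A.det ≠ 0 := fun e => by
    have h1 := (B.isUnit.map (Matrix.detMonoidHom (n := ι) (R := F))).ne_zero
    exact h1 (by show (B : Mat).det = 0; rw [hBA, Matrix.det_smul, e, mul_zero])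
  exact (mem_iff F₀ P g).2 ⟨c, Matrix.GeneralLinearGroup.mkOfDetNeZero A hA, hl0 i₀,
    fun k i => mul_mem (hratio i₀ i) (hr i k), hBA⟩

end Cfsg.Agent.Classical.SubfieldMem
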