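import Cfsg.Agent.Lib.Classical.MaxOrthSing
import Cfsg.Agent.Lib.Classical.MaxSUHS
import Cfsg.Agent.Lib.Classical.SubfieldMem

/-!
Orthogonal subfield subgroups are maximal in special unitary groups.
-/

set_option autoImplicit false
set_option linter.unusedSectionVars false
set_option maxHeartbeats 1000000

open Module Matrix

namespace Cfsg.Agent.Classical.MaxSUOrth

open HermSep MaxLin HermGen MaxSU MaxOrthSL SubfieldMem

/-- A real structure with an orthogonal form. -/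
structure RS {F : Type*} [Field F] {ι : Type} [Fintype ι] [DecidableEq ι] (σ : F ≃+* F)
    (f : (ι → F) → (ι → F) → F) where
  F₀ : Subfield F
  fix : ∀ a, σ a = a ↔ a ∈ F₀
  P : GL ι F
  δ : F
  δ_ne : δ ≠ 0
  δ_skew : σ δ = -δ
  Q : (ι → F₀) → F₀
  B : LinearMap.BilinForm F₀ (ι → F₀)
  qf : QF Q B
  hB : ∀ u v : ι → F₀, f ((P : Matrix ι ι F) *ᵥ fun i => (u i : F)) ((P : Matrix ι ι F) *ᵥ fun i => (v i : F)) = (B u v : F)

variable {F : Type*} [Field F] [Fintype F] {ι : Type} [Fintype ι] [DecidableEq ι]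
variable {σ : F ≃+* F} {f : (ι → F) → (ι → F) → F}

local notation "Mat" => Matrix ι ι F

namespace RS

variable (R : RS σ f)

/-- The real vector of coordinates `u`. -/
def emb (u : ι → R.F₀) : ι → F := (R.P : Mat) *ᵥ fun i => (u i : F)

/-- The square of the skew element. -/
def d2 : R.F₀ := ⟨R.δ * R.δ, (R.fix _).1 (by rw [map_mul, R.δ_skew, neg_mul_neg])⟩

noncomputable instance : Fintype R.F₀ := Fintype.ofFinite _

theorem d2_ne : R.d2 ≠ 0 := fun e => mul_ne_zero R.δ_ne R.δ_ne (congrArg Subtype.val e)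

theorem fixed (u : R.F₀) : σ (u : F) = u := (R.fix _).2 u.2

theorem hBe (u v : ι → R.F₀) : f (R.emb u) (R.emb v) = (R.B u v : F) := R.hB u v

theorem emb_add (u v : ι → R.F₀) : R.emb (u + v) = R.emb u + R.emb v := by
  unfold emb; rw [← Matrix.mulVec_add]; rfl

theorem emb_smul (t : R.F₀) (u : ι → R.F₀) : R.emb (t • u) = (t : F) • R.emb u := by
  unfold emb; rw [← Matrix.mulVec_smul]; rfl

theorem emb_zero : R.emb 0 = 0 := by
  have := R.emb_smul 0 0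
  simpa using this

theorem emb_sub (u v : ι → R.F₀) : R.emb (u - v) = R.emb u - R.emb v := by
  unfold emb; rw [← Matrix.mulVec_sub]; rfl

variable (h2 : (2 : F) ≠ 0)

include h2 in
theorem two0 : (2 : R.F₀) ≠ 0 := fun e => h2 (congrArg Subtype.val e)

/-- The vector with real part `u` and skew part `v`. -/
def cx (u v : ι → R.F₀) : ι → F := R.emb u + R.δ • R.emb v

include h2 in
theorem cx_inj {u v u' v' : ι → R.F₀} (h : R.cx u v = R.cx u' v') : u = u' ∧ v = v' := by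
  have h1 : ∀ i, (u i : F) + R.δ * (v i : F) = (u' i : F) + R.δ * (v' i : F) := by
    have := congrArg (fun z => ((R.P⁻¹ : GL ι F) : Mat) *ᵥ z) h
    simp only [cx, emb, ← Matrix.mulVec_smul, ← Matrix.mulVec_add, gl_inv_mulVec'] at this
    exact fun i => congrFun this i
  have h3 : ∀ i, (u i : F) = (u' i : F) ∧ (v i : F) = (v' i : F) := fun i => by
    have h4 := congrArg σ (h1 i)
    rw [map_add, map_add, map_mul, map_mul, R.δ_skew, R.fixed, R.fixed, R.fixed, R.fixed] at h4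
    have e1 : (u i : F) = u' i := mul_left_cancel₀ h2 (by linear_combination h1 i + h4)
    exact ⟨e1, mul_left_cancel₀ R.δ_ne (by linear_combination h1 i - e1)⟩
  exact ⟨funext fun i => Subtype.ext (h3 i).1, funext fun i => Subtype.ext (h3 i).2⟩

theorem emb_inj (h2 : (2 : F) ≠ 0) {u v : ι → R.F₀} (h : R.emb u = R.emb v) : u = v :=
  (R.cx_inj h2 (u := u) (v := 0) (u' := v) (v' := 0) (by simp [cx, h])).1

include h2 in
theorem cx_surj (hf : Cfsg.Geo.IsUnitaryForm σ f) (x : ι → F) : ∃ u v, x = R.cx u v := by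
  set c := ((R.P⁻¹ : GL ι F) : Mat) *ᵥ x with hc
  have h2' : σ (2 : F) = 2 := map_ofNat σ 2
  refine ⟨fun i => ⟨(c i + σ (c i)) / 2, (R.fix _).1 ?_⟩, fun i => ⟨(c i - σ (c i)) / (2 * R.δ), (R.fix _).1 ?_⟩, ?_⟩
  · rw [map_div₀, map_add, hf.involutive, h2', add_comm]
  · rw [map_div₀, map_sub, hf.involutive, map_mul, h2', R.δ_skew, mul_neg, div_neg, ← neg_div, neg_sub]
  · conv_lhs => rw [← gl_inv_mulVec R.P x]
    rw [cx, emb, emb, ← Matrix.mulVec_smul, ← Matrix.mulVec_add]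
    congr 1
    funext i
    have hd := R.δ_ne
    simp only [Pi.add_apply, Pi.smul_apply, smul_eq_mul]
    field_simp
    ring

variable (hf : Cfsg.Geo.IsUnitaryForm σ f)

/-- Real part. -/
noncomputable def re (x : ι → F) : ι → R.F₀ := (R.cx_surj h2 hf x).choose

/-- Skew part. -/
noncomputable def im (x : ι → F) : ι → R.F₀ := (R.cx_surj h2 hf x).choose_spec.choose

theorem cx_re_im (x : ι → F) : R.cx (R.re h2 hf x) (R.im h2 hf x) = x :=
  ((R.cx_surj h2 hf x).choose_spec.choose_spec).symm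

theorem re_cx (u v : ι → R.F₀) : R.re h2 hf (R.cx u v) = u := (R.cx_inj h2 (R.cx_re_im h2 hf (R.cx u v))).1

theorem im_cx (u v : ι → R.F₀) : R.im h2 hf (R.cx u v) = v := (R.cx_inj h2 (R.cx_re_im h2 hf (R.cx u v))).2

theorem cx_add (u v u' v' : ι → R.F₀) : R.cx u v + R.cx u' v' = R.cx (u + u') (v + v') := by
  simp only [cx, emb_add]; module

theorem cx_smul (t : R.F₀) (u v : ι → R.F₀) : (t : F) • R.cx u v = R.cx (t • u) (t • v) := by
  simp only [cx, emb_smul]; module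

/-- The real part of the image of a real vector. -/
noncomputable def cre (g : GL ι F) : (ι → R.F₀) →ₗ[R.F₀] (ι → R.F₀) where
  toFun u := R.re h2 hf ((g : Mat) *ᵥ R.emb u)
  map_add' u v := by
    conv_lhs => rw [R.emb_add, Matrix.mulVec_add, ← R.cx_re_im h2 hf ((g : Mat) *ᵥ R.emb u),
      ← R.cx_re_im h2 hf ((g : Mat) *ᵥ R.emb v), R.cx_add, R.re_cx]
  map_smul' t u := by
    conv_lhs => rw [R.emb_smul, Matrix.mulVec_smul, ← R.cx_re_im h2 hf ((g : Mat) *ᵥ R.emb u), R.cx_smul, R.re_cx]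
    rfl

/-- The skew part of the image of a real vector. -/
noncomputable def cim (g : GL ι F) : (ι → R.F₀) →ₗ[R.F₀] (ι → R.F₀) where
  toFun u := R.im h2 hf ((g : Mat) *ᵥ R.emb u)
  map_add' u v := by
    conv_lhs => rw [R.emb_add, Matrix.mulVec_add, ← R.cx_re_im h2 hf ((g : Mat) *ᵥ R.emb u),
      ← R.cx_re_im h2 hf ((g : Mat) *ᵥ R.emb v), R.cx_add, R.im_cx]
  map_smul' t u := by
    conv_lhs => rw [R.emb_smul, Matrix.mulVec_smul, ← R.cx_re_im h2 hf ((g : Mat) *ᵥ R.emb u), R.cx_smul, R.im_cx]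
    rfl

theorem g_emb (g : GL ι F) (u : ι → R.F₀) :
    (g : Mat) *ᵥ R.emb u = R.cx (R.cre h2 hf g u) (R.cim h2 hf g u) := (R.cx_re_im h2 hf _).symm

include hf

theorem f_cx (u v u' v' : ι → R.F₀) :
    f (R.cx u v) (R.cx u' v') =
      ((R.B u u' - R.d2 * R.B v v' : R.F₀) : F) + R.δ * ((R.B v u' - R.B u v' : R.F₀) : F) := by
  simp only [cx, hf.add_left, hf.smul_left, add_right hf, smul_right hf, hBe, R.δ_skew, R.qf.symm, d2,
    Subfield.coe_sub, Subfield.coe_mul]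
  ring

theorem f_cx_emb (u v w : ι → R.F₀) : f (R.cx u v) (R.emb w) = (R.B u w : F) + R.δ * (R.B v w : F) := by
  simp only [cx, hf.add_left, hf.smul_left, hBe]

include h2

theorem iso_cx {u v : ι → R.F₀} (h : f (R.cx u v) (R.cx u v) = 0) : R.Q u = R.d2 * R.Q v := by
  rw [R.f_cx hf, R.qf.symm v u, sub_self, R.qf.diag, R.qf.diag] at h
  simp only [Subfield.coe_zero, mul_zero, add_zero] at h
  have h1 : (2 * R.Q u - R.d2 * (2 * R.Q v) : R.F₀) = 0 := Subtype.ext h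
  exact mul_left_cancel₀ (R.two0 h2) (by linear_combination h1)

/-- Proportional parts give a multiple of a real vector. -/
theorem par {l1 l2 : R.F₀} (hl : l1 ≠ 0 ∨ l2 ≠ 0) {X Y : ι → R.F₀} (h : l1 • Y = l2 • X) :
    ∃ r, R.cx X Y = ((l1 : F) + R.δ * (l2 : F)) • R.emb r := by
  rcases eq_or_ne l1 0 with h1 | h1
  · have h3 : l2 ≠ 0 := hl.resolve_left (fun e => e h1)
    have hX : X = 0 := by rw [h1, zero_smul] at h; exact (smul_eq_zero.1 h.symm).resolve_left h3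
    refine ⟨l2⁻¹ • Y, ?_⟩
    have h4 : (l2 : F) ≠ 0 := fun e => h3 (Subtype.ext e)
    rw [cx, hX, R.emb_zero, zero_add, R.emb_smul, h1, smul_smul, Subfield.coe_zero, zero_add, Subfield.coe_inv,
      mul_inv_cancel_right₀ h4]
  · refine ⟨l1⁻¹ • X, ?_⟩
    have h4 : (l1 : F) ≠ 0 := fun e => h1 (Subtype.ext e)
    have hY : Y = (l1⁻¹ * l2) • X := by rw [mul_smul, ← h, inv_smul_smul₀ h1]
    rw [cx, hY, R.emb_smul, R.emb_smul, smul_smul, smul_smul, Subfield.coe_inv, Subfield.coe_mul, Subfield.coe_inv]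
    rw [show ((l1 : F) + R.δ * (l2 : F)) * (l1 : F)⁻¹ = 1 + R.δ * ((l1 : F)⁻¹ * l2) by field_simp, add_smul, one_smul]

end RS

theorem prop_trans {K : Type*} [Field K] {u v u' v' w z : K} (h0 : u' ≠ 0 ∨ v' ≠ 0) (h : u * v' = v * u')
    (h' : w * v' = z * u') : u * z = v * w := by
  rcases h0 with h0 | h0
  · exact mul_left_cancel₀ h0 (by linear_combination w * h - u * h')
  · exact mul_left_cancel₀ h0 (by linear_combination z * h - v * h')


variable (hf : Cfsg.Geo.IsUnitaryForm σ f) (R : RS σ f) (h2 : (2 : F) ≠ 0)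

include hf h2

theorem rS_cond {p q : ι → R.F₀} (hp : R.Q p = 0) (hpq : R.B p q = 0) :
    f (R.emb p) (R.emb p) = 0 ∧ f (R.emb q) (R.emb p) = 0 ∧
      (R.Q q : F) + σ (R.Q q : F) = f (R.emb q) (R.emb q) := by
  refine ⟨?_, ?_, ?_⟩
  · rw [R.hBe, R.qf.diag, hp, mul_zero, Subfield.coe_zero]
  · rw [R.hBe, R.qf.symm, hpq, Subfield.coe_zero]
  · rw [R.hBe, R.qf.diag, R.fixed, two_mul, Subfield.coe_add]

omit h2 in
/-- A real Siegel transformation. -/
noncomputable def rS (h2 : (2 : F) ≠ 0) (p q : ι → R.F₀) (hp : R.Q p = 0) (hpq : R.B p q = 0) : GL ι F :=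
  hS hf (R.emb p) (R.emb q) (R.Q q : F) (rS_cond hf R h2 hp hpq).1 (rS_cond hf R h2 hp hpq).2.1
    (rS_cond hf R h2 hp hpq).2.2

theorem rS_emb (p q : ι → R.F₀) (hp : R.Q p = 0) (hpq : R.B p q = 0) (u : ι → R.F₀) :
    (rS hf R h2 p q hp hpq : Mat) *ᵥ R.emb u = R.emb ((sG R.qf p q hp hpq : Matrix ι ι R.F₀) *ᵥ u) := by
  rw [rS, hS_apply, sG_apply, R.emb_sub, R.emb_add, R.emb_smul, R.emb_smul, R.hBe, R.hBe, Subfield.coe_add,
    Subfield.coe_mul]

theorem rS_cx (p q : ι → R.F₀) (hp : R.Q p = 0) (hpq : R.B p q = 0) (u v : ι → R.F₀) :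
    (rS hf R h2 p q hp hpq : Mat) *ᵥ R.cx u v =
      R.cx ((sG R.qf p q hp hpq : Matrix ι ι R.F₀) *ᵥ u) ((sG R.qf p q hp hpq : Matrix ι ι R.F₀) *ᵥ v) := by
  rw [RS.cx, Matrix.mulVec_add, Matrix.mulVec_smul, rS_emb hf R h2, rS_emb hf R h2]; rfl

theorem rS_mem (p q : ι → R.F₀) (hp : R.Q p = 0) (hpq : R.B p q = 0) :
    Pres f (rS hf R h2 p q hp hpq) ∧ rS hf R h2 p q hp hpq ∈ Cfsg.Geo.subfieldSubgroup R.F₀ R.P := by
  refine ⟨hS_pres hf _ _ _ _ _ _, mem_of_rat_image R.F₀ R.P fun y hy => ?_⟩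
  obtain ⟨u, rfl⟩ : ∃ u : ι → R.F₀, y = R.emb u :=
    ⟨fun i => ⟨_, hy i⟩, (gl_inv_mulVec R.P y).symm⟩
  refine ⟨1, _, ?_, by rw [one_smul, rS_emb hf R h2]⟩
  intro i
  rw [RS.emb, gl_inv_mulVec']
  exact Subtype.coe_prop _

variable (hn : 13 ≤ Fintype.card ι) {M : Subgroup (GL ι F)}
variable (hM : ∀ g, Pres f g → g ∈ Cfsg.Geo.subfieldSubgroup R.F₀ R.P → g ∈ M) (hMp : ∀ g ∈ M, Pres f g)

include hn hM

theorem mem_rS (p q : ι → R.F₀) (hp : R.Q p = 0) (hpq : R.B p q = 0) : rS hf R h2 p q hp hpq ∈ M :=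
  hM _ (rS_mem hf R h2 p q hp hpq).1 (rS_mem hf R h2 p q hp hpq).2

theorem cen_of_tm {a : ι → F} (ha : f a a = 0) {s : F} (hs : σ s = -s) (hs0 : s ≠ 0)
    (h : ∀ t : R.F₀, Tm M (((t : F) * s) • fn hf a) a) : Cen hf M a := by
  refine ⟨ha, fun c hc => ?_⟩
  have hfix : σ (c / s) = c / s := by rw [map_div₀, hc, hs, neg_div_neg_eq]
  have := h ⟨c / s, (R.fix _).1 hfix⟩
  rwa [show c / s * s = c from div_mul_cancel₀ _ hs0] at this

include hMp

/-- Either a centre, or images are orthogonal as for real Siegel transformations. -/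
theorem pair_eq {g : GL ι F} (hg : g ∈ M) {a b c : ι → R.F₀} (ha : R.Q a = 0) (hab : R.B a b = 0)
    (hac : R.B a c = 0) (p q : ι → R.F₀) (hp : R.Q p = 0) (hpq : R.B p q = 0)
    (hfix : (rS hf R h2 p q hp hpq : Mat) *ᵥ ((g : Mat) *ᵥ R.emb a) = (g : Mat) *ᵥ R.emb a)
    (hno : ¬ Cen hf M ((g : Mat) *ᵥ R.emb a)) :
    R.B (R.cim h2 hf g b) ((sG R.qf p q hp hpq : Matrix ι ι R.F₀) *ᵥ R.cre h2 hf g c) =
      R.B (R.cre h2 hf g b) ((sG R.qf p q hp hpq : Matrix ι ι R.F₀) *ᵥ R.cim h2 hf g c) := by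
  by_contra hne
  set k := rS hf R h2 p q hp hpq with hk
  have hkM := mem_rS hf R h2 hn hM p q hp hpq
  have hg' := hMp g hg
  set s := f ((g : Mat) *ᵥ R.emb b) ((k : Mat) *ᵥ ((g : Mat) *ᵥ R.emb c)) -
    f ((k : Mat) *ᵥ ((g : Mat) *ᵥ R.emb c)) ((g : Mat) *ᵥ R.emb b) with hs
  have hsk : σ s = -s := by rw [hs, map_sub, ← hf.herm, ← hf.herm, neg_sub]
  have hs0 : s ≠ 0 := by
    intro e
    rw [hs, R.g_emb h2 hf g b, R.g_emb h2 hf g c, hk, rS_cx hf R h2, R.f_cx hf, R.f_cx hf] at e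
    set X := R.cre h2 hf g b
    set Y := R.cim h2 hf g b
    set X' := (sG R.qf p q hp hpq : Matrix ι ι R.F₀) *ᵥ R.cre h2 hf g c
    set Y' := (sG R.qf p q hp hpq : Matrix ι ι R.F₀) *ᵥ R.cim h2 hf g c
    rw [R.qf.symm X' X, R.qf.symm Y' Y, R.qf.symm Y' X, R.qf.symm X' Y] at e
    have e1 : 2 * R.δ * ((R.B Y X' : F) - (R.B X Y' : F)) = 0 := by
      simp only [Subfield.coe_sub] at e
      linear_combination e
    exact hne (Subtype.ext (sub_eq_zero.1 ((mul_eq_zero.1 e1).resolve_left (mul_ne_zero h2 R.δ_ne))))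
  refine hno (cen_of_tm hf R h2 hn hM ((hg'.1 _ _).trans (rS_cond hf R h2 ha hab).1) hsk hs0 fun t => ?_)
  have hab' : R.B a (t • b) = 0 := by rw [map_smul, hab, smul_zero]
  obtain ⟨h1, h3, h4⟩ := rS_cond hf R h2 ha hab'
  obtain ⟨e1, e3, e4⟩ := rS_cond hf R h2 ha hac
  obtain ⟨u1, u3, u4, hu⟩ := hS_conj hf hg' _ _ _ h1 h3 h4
  obtain ⟨v1, v3, v4, hv⟩ := hS_conj hf hg' _ _ _ e1 e3 e4
  obtain ⟨w1, w3, w4, hw⟩ := hS_conj hf (hMp k hkM) _ _ _ v1 v3 v4
  have hu' : hS hf _ _ _ u1 u3 u4 ∈ M := by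
    rw [hu]; exact mul_mem (mul_mem hg (mem_rS hf R h2 hn hM a (t • b) ha hab')) (inv_mem hg)
  have hv' : hS hf _ _ _ w1 w3 w4 ∈ M := by
    rw [hw, hv]
    exact mul_mem (mul_mem hkM (mul_mem (mul_mem hg (mem_rS hf R h2 hn hM a c ha hac)) (inv_mem hg))) (inv_mem hkM)
  have key : ∀ {a' : ι → F}, a' = (g : Mat) *ᵥ R.emb a → ∀ {κ' : F} {h1' : f a' a' = 0}
      {h2' : f ((k : Mat) *ᵥ ((g : Mat) *ᵥ R.emb c)) a' = 0}
      {h3' : κ' + σ κ' = f ((k : Mat) *ᵥ ((g : Mat) *ᵥ R.emb c)) ((k : Mat) *ᵥ ((g : Mat) *ᵥ R.emb c))},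
      hS hf a' ((k : Mat) *ᵥ ((g : Mat) *ᵥ R.emb c)) κ' h1' h2' h3' ∈ M →
      Tm M (((t : F) * s) • fn hf ((g : Mat) *ᵥ R.emb a)) ((g : Mat) *ᵥ R.emb a) := by
    intro a' e κ' h1' h2' h3' hm
    subst e
    have h := Tm_comm hf hu' hm
    convert h using 2
    rw [R.emb_smul, Matrix.mulVec_smul, hf.smul_left, smul_right hf, R.fixed, hs]
    ring
  exact key hfix hv'

/-- A singular real vector with image a multiple of a real vector. -/
theorem exists_par {g : GL ι F} (hg : g ∈ M) (hno : ∀ v, v ≠ 0 → ¬ Cen hf M v) :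
    ∃ (z r : ι → R.F₀) (l1 l2 : R.F₀), z ≠ 0 ∧ R.Q z = 0 ∧ (l1 ≠ 0 ∨ l2 ≠ 0) ∧
      (g : Mat) *ᵥ R.emb z = ((l1 : F) + R.δ * (l2 : F)) • R.emb r := by
  have h20 := R.two0 h2
  obtain ⟨a, ha0, ha, -, -⟩ := exists_zero h20 R.qf R.qf (![] : Fin 0 → Dual R.F₀ (ι → R.F₀)) (by omega)
  set x := R.cre h2 hf g a with hx
  set y := R.cim h2 hf g a with hy
  by_cases hind : ∀ c1 c2 : R.F₀, c1 • x + c2 • y = 0 → c1 = 0 ∧ c2 = 0
  swap
  · push Not at hind
    obtain ⟨c1, c2, hc, hc0⟩ := hind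
    have hl : c2 ≠ 0 ∨ -c1 ≠ 0 := by
      by_cases h1 : c1 = 0
      · exact Or.inl (hc0 h1)
      · exact Or.inr (neg_ne_zero.2 h1)
    obtain ⟨r, hr⟩ := R.par h2 hf hl (X := x) (Y := y) (by rw [neg_smul]; exact eq_neg_of_add_eq_zero_right hc)
    exact ⟨a, r, c2, -c1, ha0, ha, hl, by rw [R.g_emb h2 hf, ← hr]⟩
  have ha' : (g : Mat) *ᵥ R.emb a = R.cx x y := R.g_emb h2 hf g a
  have haemb : R.emb a ≠ 0 := fun e => ha0 (R.emb_inj h2 (e.trans R.emb_zero.symm))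
  have ha'0 : (g : Mat) *ᵥ R.emb a ≠ 0 := fun e => haemb (by rw [← gl_inv_mulVec' g (R.emb a), e, Matrix.mulVec_zero])
  set X := R.cre h2 hf g with hX
  set Y := R.cim h2 hf g with hY
  have E : ∀ p q (hp : R.Q p = 0) (hpq : R.B p q = 0), R.B p x = 0 → R.B p y = 0 → R.B q x = 0 → R.B q y = 0 →
      ∀ b c, R.B a b = 0 → R.B a c = 0 →
      R.B (Y b) (X c) + R.B (X c) p * R.B (Y b) q - (R.B (X c) q + R.Q q * R.B (X c) p) * R.B (Y b) p =
        R.B (X b) (Y c) + R.B (Y c) p * R.B (X b) q - (R.B (Y c) q + R.Q q * R.B (Y c) p) * R.B (X b) p := by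
    intro p q hp hpq hpx hpy hqx hqy b c hb hc
    have hfix : (rS hf R h2 p q hp hpq : Mat) *ᵥ ((g : Mat) *ᵥ R.emb a) = (g : Mat) *ᵥ R.emb a := by
      rw [ha', rS_cx hf R h2]
      simp [sG_apply, R.qf.symm x p, R.qf.symm x q, R.qf.symm y p, R.qf.symm y q, hpx, hpy, hqx, hqy]
    have h := pair_eq hf R h2 hn hM hMp hg ha hb hc p q hp hpq hfix (hno _ ha'0)
    simp only [sG_apply, map_add, map_sub, map_smul, smul_eq_mul] at h
    exact h
  have Ap : ∀ p, R.Q p = 0 → R.B p x = 0 → R.B p y = 0 → ∀ b c, R.B a b = 0 → R.B a c = 0 →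
      R.B (X c) p * R.B (Y b) p = R.B (Y c) p * R.B (X b) p := by
    intro p hp hpx hpy b c hb hc
    obtain ⟨s, t, hs, ht, hst, hs', ht'⟩ := exists_hyp h20 R.qf ![p, x, y] (by omega)
    have hQ : R.Q (s + t) = 1 := by rw [R.qf.add, hs, ht, hst]; ring
    have s0 : R.B s p = 0 := hs' 0
    have t0 : R.B t p = 0 := ht' 0
    have s1 : R.B s x = 0 := hs' 1
    have t1 : R.B t x = 0 := ht' 1
    have s3 : R.B s y = 0 := hs' 2
    have t3 : R.B t y = 0 := ht' 2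
    have hQn : R.Q (-(s + t)) = 1 := by rw [← neg_one_smul R.F₀, R.qf.smul, hQ]; ring
    have h0 := E p 0 hp (map_zero _) hpx hpy (by simp) (by simp) b c hb hc
    have h1 := E p (s + t) hp (by simp [R.qf.symm p, s0, t0]) hpx hpy (by simp [s1, t1]) (by simp [s3, t3]) b c hb hc
    have h3 := E p (-(s + t)) hp (by simp [R.qf.symm p, s0, t0]) hpx hpy (by simp [s1, t1]) (by simp [s3, t3]) b c hb hc
    rw [hQ] at h1
    rw [hQn] at h3
    simp only [map_neg, map_zero, R.qf.zero] at h0 h3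
    exact mul_left_cancel₀ h20 (by linear_combination 2 * h0 - h1 - h3)
  have Apq : ∀ p q, R.Q p = 0 → R.Q q = 0 → R.B p q = 0 → R.B p x = 0 → R.B p y = 0 → R.B q x = 0 → R.B q y = 0 →
      ∀ b, R.B a b = 0 → R.B (X b) p * R.B (Y b) q = R.B (Y b) p * R.B (X b) q := by
    intro p q hp hq hpq hpx hpy hqx hqy b hb
    have h1 := E p q hp hpq hpx hpy hqx hqy b b hb hb
    rw [hq, zero_mul, zero_mul, add_zero, add_zero, R.qf.symm (Y b) (X b)] at h1
    exact mul_left_cancel₀ h20 (by linear_combination h1)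
  have nz : ∀ p, p ≠ 0 → R.B p x = 0 → R.B p y = 0 → ∃ b, R.B a b = 0 ∧ (R.B (X b) p ≠ 0 ∨ R.B (Y b) p ≠ 0) := by
    intro p hp0 hpx hpy
    by_contra hc
    push Not at hc
    obtain ⟨u1, u2, hu⟩ := R.cx_surj h2 hf (((g⁻¹ : GL ι F) : Mat) *ᵥ R.emb p)
    have hb : ∀ b, R.B b a = 0 → R.B b u1 = 0 ∧ R.B b u2 = 0 := by
      intro b hb
      obtain ⟨e1, e2⟩ := hc b (by rw [R.qf.symm]; exact hb)
      have h0 : f ((g : Mat) *ᵥ R.emb b) (R.emb p) = 0 := by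
        rw [R.g_emb h2 hf, R.f_cx_emb hf]; simp [← hX, ← hY, e1, e2]
      rw [← gl_inv_mulVec g (R.emb p), (hMp g hg).1, hu,
        show R.emb b = R.cx b 0 by simp [RS.cx, R.emb_zero], R.f_cx hf] at h0
      have h3 := R.cx_inj h2 (u := fun _ : ι => R.B b u1) (v := fun _ => -R.B b u2) (u' := 0) (v' := 0) (by
        rw [show R.cx (0 : ι → R.F₀) 0 = 0 by simp [RS.cx, R.emb_zero], RS.cx, RS.emb, RS.emb, ← Matrix.mulVec_smul,
          ← Matrix.mulVec_add]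
        refine (congrArg _ (funext fun i => ?_)).trans (Matrix.mulVec_zero _)
        show (R.B b u1 : F) + R.δ * ((-R.B b u2 : R.F₀) : F) = 0
        simp only [map_zero, LinearMap.zero_apply, mul_zero, sub_zero, zero_sub] at h0
        exact h0)
      obtain ⟨i⟩ : Nonempty ι := Fintype.card_pos_iff.1 (by omega)
      exact ⟨congrFun h3.1 i, neg_eq_zero.1 (congrFun h3.2 i)⟩
    have hspan : ∀ u : ι → R.F₀, (∀ b, R.B b a = 0 → R.B b u = 0) → ∃ c : R.F₀, u = c • a := by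
      intro u hu'
      by_contra hne
      push Not at hne
      have : u ∉ Submodule.span R.F₀ (Set.range ![a]) := fun hm => by
        simp only [Matrix.range_cons, Matrix.range_empty, Set.union_empty, Submodule.mem_span_singleton] at hm
        obtain ⟨c, hc'⟩ := hm
        exact hne c hc'.symm
      obtain ⟨e, he, he1⟩ := exists_dual_vec R.qf ![a] this
      rw [hu' e (he 0)] at he1
      exact zero_ne_one he1
    obtain ⟨c1, rfl⟩ := hspan u1 fun b hb' => (hb b hb').1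
    obtain ⟨c2, rfl⟩ := hspan u2 fun b hb' => (hb b hb').2
    have h4 : R.emb p = R.cx (c1 • x + (c2 * R.d2) • y) (c2 • x + c1 • y) := by
      rw [← gl_inv_mulVec g (R.emb p), hu, RS.cx, Matrix.mulVec_add, Matrix.mulVec_smul, R.emb_smul, R.emb_smul,
        Matrix.mulVec_smul, Matrix.mulVec_smul, ha']
      simp only [RS.cx, R.emb_add, R.emb_smul, Subfield.coe_mul, RS.d2]
      module
    obtain ⟨h5, h6⟩ := R.cx_inj h2 ((show R.cx p 0 = R.emb p by simp [RS.cx, R.emb_zero]).trans h4)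
    obtain ⟨rfl, rfl⟩ := hind c2 c1 h6.symm
    exact hp0 (by rw [h5]; simp)
  obtain ⟨p₀, -, hp₀0, hp₀, hp₀'⟩ := exists_singular_avoid h20 R.qf ![x, y] (by omega)
  obtain ⟨b₀, hb₀, hb₀'⟩ := nz p₀ hp₀0 (hp₀' 0) (hp₀' 1)
  set α := R.B (X b₀) p₀
  set β := R.B (Y b₀) p₀
  let Line : (ι → R.F₀) → Prop := fun p => ∀ b, R.B a b = 0 → α * R.B (Y b) p = β * R.B (X b) p
  have L0 : Line p₀ := fun b hb => Ap p₀ hp₀ (hp₀' 0) (hp₀' 1) b b₀ hb hb₀
  have step : ∀ p q, p ≠ 0 → q ≠ 0 → R.Q p = 0 → R.Q q = 0 → R.B p q = 0 → R.B p x = 0 → R.B p y = 0 →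
      R.B q x = 0 → R.B q y = 0 → Line p → Line q := by
    intro p q hp0 hq0 hp hq hpq hpx hpy hqx hqy hL b hb
    obtain ⟨bp, hbp, hbp'⟩ := nz p hp0 hpx hpy
    obtain ⟨bq, hbq, hbq'⟩ := nz q hq0 hqx hqy
    obtain ⟨b₁, hb₁, hb₁p, hb₁q⟩ : ∃ b₁, R.B a b₁ = 0 ∧ (R.B (X b₁) p ≠ 0 ∨ R.B (Y b₁) p ≠ 0) ∧
        (R.B (X b₁) q ≠ 0 ∨ R.B (Y b₁) q ≠ 0) := by
      by_cases h1 : R.B (X bp) q = 0 ∧ R.B (Y bp) q = 0
      · by_cases h3 : R.B (X bq) p = 0 ∧ R.B (Y bq) p = 0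
        · exact ⟨bp + bq, by rw [map_add, hbp, hbq, add_zero], by simpa [h3.1, h3.2] using hbp',
            by simpa [h1.1, h1.2] using hbq'⟩
        · exact ⟨bq, hbq, not_and_or.1 h3, hbq'⟩
      · exact ⟨bp, hbp, hbp', not_and_or.1 h1⟩
    have h1 : α * R.B (Y b₁) q = β * R.B (X b₁) q :=
      prop_trans hb₁p (hL b₁ hb₁) (by
        linear_combination -(Apq p q hp hq hpq hpx hpy hqx hqy b₁ hb₁))
    exact prop_trans hb₁q h1 (by linear_combination (Ap q hq hqx hqy b₁ b hb₁ hb))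
  have hall : ∀ p, R.Q p = 0 → (∀ k, R.B p (![x, y] k) = 0) → Line p := by
    intro p hp hp'
    rcases eq_or_ne p 0 with rfl | hp0
    · intro b _; simp
    obtain ⟨s, -, hs0, hs, hs'⟩ := exists_singular_avoid h20 R.qf ![x, y, p₀, p] (by omega)
    have e0 : R.B p₀ s = 0 := by rw [R.qf.symm]; exact hs' 2
    exact step s p hs0 hp0 hs hp (hs' 3) (hs' 0) (hs' 1) (hp' 0) (hp' 1)
      (step p₀ s hp₀0 hs0 hp₀ hs e0 (hp₀' 0) (hp₀' 1) (hs' 0) (hs' 1) L0)
  obtain ⟨ψ, hψ⟩ := exists_avoid ![x, y]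
  set N := α • Y - β • X with hN
  obtain ⟨z, hz0, hz, -, hL⟩ := exists_zero h20 R.qf R.qf ![R.B a, (ψ 0).comp N, (ψ 1).comp N] (by omega)
  have hza : R.B a z = 0 := hL 0
  have hNz : N z = 0 := by
    refine hψ _ (mem_span_of_singular h20 R.qf ![x, y] (by omega) fun p hp hp' => ?_) fun k => ?_
    · have := hall p hp hp' z hza
      simp [hN, this]
    · fin_cases k
      · exact hL 1
      · exact hL 2
  simp only [hN, LinearMap.sub_apply, LinearMap.smul_apply, sub_eq_zero] at hNz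
  obtain ⟨r, hr⟩ := R.par h2 hf hb₀' hNz
  exact ⟨z, r, α, β, hz0, hz, hb₀', by rw [R.g_emb h2 hf, ← hr]⟩

theorem good {g : GL ι F} (hg : g ∈ M) {a b r : ι → R.F₀} (ha : R.Q a = 0) (hab : R.B a b = 0) (hr : R.Q r = 0)
    (hr0 : r ≠ 0) {l1 l2 : R.F₀} (hga : (g : Mat) *ᵥ R.emb a = ((l1 : F) + R.δ * (l2 : F)) • R.emb r)
    (hno : ¬ Cen hf M (R.emb r)) :
    ∃ c : R.F₀, l1 • R.cim h2 hf g b - l2 • R.cre h2 hf g b = c • r := by
  set X := R.cre h2 hf g b with hX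
  set Y := R.cim h2 hf g b with hY
  set N := l1 • Y - l2 • X with hN
  by_contra hne
  push Not at hne
  have hNs : N ∉ Submodule.span R.F₀ (Set.range ![r]) := fun hm => by
    simp only [Matrix.range_cons, Matrix.range_empty, Set.union_empty, Submodule.mem_span_singleton] at hm
    obtain ⟨c, hc⟩ := hm
    exact hne c hc.symm
  obtain ⟨c, hcr, hcN⟩ := exists_dual_vec R.qf ![r] hNs
  have hrc : R.B r c = 0 := by rw [R.qf.symm]; exact hcr 0
  set lam := (l1 : F) + R.δ * (l2 : F) with hlam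
  have hg' := hMp g hg
  have hemb : R.emb r ≠ 0 := fun e => hr0 (R.emb_inj h2 (e.trans R.emb_zero.symm))
  have hsl : σ lam = (l1 : F) - R.δ * (l2 : F) := by
    rw [hlam, map_add, map_mul, R.fixed, R.fixed, R.δ_skew]; ring
  obtain ⟨r1, r3, r4⟩ := rS_cond hf R h2 hr hrc
  refine hno (cen_of_tm hf R h2 hn hM r1 (s := -(2 * R.δ)) (by rw [map_neg, map_mul, R.δ_skew, map_ofNat]; ring)
    (neg_ne_zero.2 (mul_ne_zero h2 R.δ_ne)) fun t => ?_)
  have hab' : R.B a (t • b) = 0 := by rw [map_smul, hab, smul_zero]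
  obtain ⟨h1, h3, h4⟩ := rS_cond hf R h2 ha hab'
  obtain ⟨u1, u3, u4, hu⟩ := hS_conj hf hg' _ _ _ h1 h3 h4
  set v := σ lam • ((g : Mat) *ᵥ R.emb (t • b)) with hv
  set κ := σ lam * lam * (R.Q (t • b) : F) with hκ
  have v3 : f v (R.emb r) = 0 := by
    have : f ((g : Mat) *ᵥ R.emb (t • b)) ((g : Mat) *ᵥ R.emb a) = 0 := (hg'.1 _ _).trans h3
    rw [hga, smul_right hf] at this
    rw [hv, hf.smul_left]; exact this
  have v4 : κ + σ κ = f v v := by
    rw [hv, hf.smul_left, smul_right hf, hg'.1, ← h4, hκ, map_mul, map_mul, R.fixed, hf.involutive]; ring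
  have hvM : hS hf (R.emb r) v κ r1 v3 v4 ∈ M := by
    have he : hS hf (R.emb r) v κ r1 v3 v4 = hS hf _ _ _ u1 u3 u4 := by
      refine gl_ext fun x => ?_
      rw [hS_apply, hS_apply, hga]
      simp only [hv, hκ, smul_right hf, hf.involutive]
      module
    rw [he, hu]
    exact mul_mem (mul_mem hg (mem_rS hf R h2 hn hM a (t • b) ha hab')) (inv_mem hg)
  have h5 := Tm_comm hf (hM _ (rS_mem hf R h2 r c hr hrc).1 (rS_mem hf R h2 r c hr hrc).2) hvM
  convert h5 using 2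
  rw [hv, R.emb_smul, Matrix.mulVec_smul, smul_right hf, smul_right hf, hf.smul_left, hf.smul_left, hf.involutive,
    R.fixed, hsl, hlam, R.g_emb h2 hf, ← hX, ← hY, R.f_cx_emb hf, hf.herm (R.emb c) _, R.f_cx_emb hf, map_add,
    map_mul, R.fixed, R.fixed, R.δ_skew]
  have e1 : (l1 : F) * (R.B Y c : F) - (l2 : F) * (R.B X c : F) = 1 := by
    rw [R.qf.symm c N, hN] at hcN
    simp only [map_sub, map_smul, LinearMap.sub_apply, LinearMap.smul_apply, smul_eq_mul] at hcN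
    exact congrArg Subtype.val hcN
  linear_combination (2 * R.δ * (t : F)) * e1

theorem first_cen (hex : ∃ g ∈ M, g ∉ Cfsg.Geo.subfieldSubgroup R.F₀ R.P) : ∃ v, v ≠ 0 ∧ Cen hf M v := by
  by_contra hno
  push Not at hno
  obtain ⟨g, hg, hgK⟩ := hex
  have h20 := R.two0 h2
  have hg' := hMp g hg
  obtain ⟨z, r, l1, l2, hz0, hz, hl, hgz⟩ := exists_par hf R h2 hn hM hMp hg hno
  set lam := (l1 : F) + R.δ * (l2 : F) with hlam
  have ginj : ∀ u : ι → R.F₀, (g : Mat) *ᵥ R.emb u = 0 → u = 0 := fun u e =>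
    R.emb_inj h2 (by rw [← gl_inv_mulVec' g (R.emb u), e, Matrix.mulVec_zero, R.emb_zero])
  have hlam0 : lam ≠ 0 := fun e => hz0 (ginj z (by rw [hgz, e, zero_smul]))
  have sing : ∀ {u w : ι → R.F₀}, u ≠ 0 → R.Q u = 0 → (g : Mat) *ᵥ R.emb u = lam • R.emb w →
      w ≠ 0 ∧ R.Q w = 0 := by
    intro u w hu0 hu he
    refine ⟨fun e => hu0 (ginj u (by rw [he, e, R.emb_zero, smul_zero])), ?_⟩
    have h0 : f (lam • R.emb w) (lam • R.emb w) = 0 := by
      rw [← he, hg'.1, R.hBe, R.qf.diag, hu, mul_zero, Subfield.coe_zero]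
    rw [hf.smul_left, smul_right hf, R.hBe, R.qf.diag] at h0
    have h1 := (mul_eq_zero.1 h0).resolve_left hlam0
    have h3 := (mul_eq_zero.1 h1).resolve_left (fun e => hlam0 (by simpa using e))
    exact (mul_eq_zero.1 (show (2 * R.Q w : R.F₀) = 0 from Subtype.ext h3)).resolve_left h20
  set N := l1 • R.cim h2 hf g - l2 • R.cre h2 hf g with hN
  have hNg : ∀ {u w b : ι → R.F₀}, u ≠ 0 → R.Q u = 0 → (g : Mat) *ᵥ R.emb u = lam • R.emb w → R.B u b = 0 →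
      ∃ c : R.F₀, N b = c • w := by
    intro u w b hu0 hu he hub
    obtain ⟨hw0, hw⟩ := sing hu0 hu he
    simp only [hN, LinearMap.sub_apply, LinearMap.smul_apply]
    exact good hf R h2 hn hM hMp hg hu hub hw hw0 he
      (hno _ fun e => hw0 (R.emb_inj h2 (e.trans R.emb_zero.symm)))
  have hker : ∀ u, N u = 0 → ∃ w, (g : Mat) *ᵥ R.emb u = lam • R.emb w := by
    intro u hu
    simp only [hN, LinearMap.sub_apply, LinearMap.smul_apply, sub_eq_zero] at hu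
    obtain ⟨w, hw⟩ := R.par h2 hf hl hu
    exact ⟨w, by rw [R.g_emb h2 hf, hw]⟩
  obtain ⟨ψr, hψr⟩ := exists_avoid ![r]
  obtain ⟨ψz, hψz⟩ := exists_avoid ![z]
  have hspan : ∀ {b}, R.B z b = 0 → ψr 0 (N b) = 0 → N b = 0 := fun {b} hb h0 => by
    obtain ⟨c, hc⟩ := hNg hz0 hz hgz hb
    refine hψr _ ?_ fun k => ?_
    · rw [hc]; exact Submodule.smul_mem _ _ (Submodule.subset_span ⟨0, rfl⟩)
    · fin_cases k; exact h0
  obtain ⟨z2, hz20, hz2, -, hL2⟩ := exists_zero h20 R.qf R.qf ![R.B z, (ψr 0).comp N, ψz 0] (by omega)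
  obtain ⟨r2, hr2⟩ := hker z2 (hspan (hL2 0) (hL2 1))
  have hn2 : ∀ c : R.F₀, z2 ≠ c • z := fun c e => hz20 (hψz _
    (e ▸ Submodule.smul_mem _ _ (Submodule.subset_span ⟨0, rfl⟩)) fun k => by fin_cases k; exact hL2 2)
  obtain ⟨ψ2, hψ2⟩ := exists_avoid ![z, z2]
  obtain ⟨z3, hz30, hz3, -, hL3⟩ := exists_zero h20 R.qf R.qf ![R.B z, (ψr 0).comp N, ψ2 0, ψ2 1] (by omega)
  obtain ⟨r3, hr3⟩ := hker z3 (hspan (hL3 0) (hL3 1))
  have hn3 : ∀ c d : R.F₀, z3 ≠ c • z + d • z2 := fun c d e => hz30 (hψ2 _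
    (e ▸ add_mem (Submodule.smul_mem _ _ (Submodule.subset_span ⟨0, rfl⟩))
      (Submodule.smul_mem _ _ (Submodule.subset_span ⟨1, rfl⟩))) fun k => by
        fin_cases k
        · exact hL3 2
        · exact hL3 3)
  have lift : ∀ {u u' w w' : ι → R.F₀} {c d : R.F₀}, (g : Mat) *ᵥ R.emb u = lam • R.emb w →
      (g : Mat) *ᵥ R.emb u' = lam • R.emb w' → c • w = d • w' → c • u = d • u' := by
    intro u u' w w' c d h h' e
    refine R.emb_inj h2 ?_
    rw [← gl_inv_mulVec' g (R.emb (c • u)), ← gl_inv_mulVec' g (R.emb (d • u'))]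
    congr 1
    rw [R.emb_smul, R.emb_smul, Matrix.mulVec_smul, Matrix.mulVec_smul, h, h', smul_comm _ lam, smul_comm _ lam,
      ← R.emb_smul, ← R.emb_smul, e]
  have common : ∀ {u u' w w' b : ι → R.F₀}, u ≠ 0 → R.Q u = 0 → u' ≠ 0 → R.Q u' = 0 →
      (g : Mat) *ᵥ R.emb u = lam • R.emb w → (g : Mat) *ᵥ R.emb u' = lam • R.emb w' → (∀ c : R.F₀, u' ≠ c • u) →
      R.B u b = 0 → R.B u' b = 0 → N b = 0 := by
    intro u u' w w' b hu0 hu hu0' hu' h h' hind hb hb'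
    obtain ⟨c, hc⟩ := hNg hu0 hu h hb
    obtain ⟨d, hd⟩ := hNg hu0' hu' h' hb'
    have e := lift h h' (hc.symm.trans hd)
    rcases eq_or_ne d 0 with rfl | hd0
    · rw [hd, zero_smul]
    · exact absurd (show u' = (d⁻¹ * c) • u by rw [mul_smul, e, inv_smul_smul₀ hd0]) (hind _)
  have hn32 : ∀ c : R.F₀, z3 ≠ c • z2 := fun c e => hn3 0 c (by rw [zero_smul, zero_add]; exact e)
  have hn31 : ∀ c : R.F₀, z3 ≠ c • z := fun c e => hn3 c 0 (by rw [zero_smul, add_zero]; exact e)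
  have hz_span : z ∉ Submodule.span R.F₀ (Set.range ![z2, z3]) := fun hm => by
    obtain ⟨c, hc⟩ := (Submodule.mem_span_range_iff_exists_fun R.F₀).1 hm
    rw [Fin.sum_univ_two] at hc
    change c 0 • z2 + c 1 • z3 = z at hc
    rcases eq_or_ne (c 1) 0 with h1 | h1
    · rw [h1, zero_smul, add_zero] at hc
      rcases eq_or_ne (c 0) 0 with h0 | h0
      · exact hz0 (by rw [← hc, h0, zero_smul])
      · exact hn2 (c 0)⁻¹ (by rw [← hc, inv_smul_smul₀ h0])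
    · refine hn3 (c 1)⁻¹ (-(c 1)⁻¹ * c 0) ?_
      rw [mul_smul, neg_smul, ← hc, smul_add, inv_smul_smul₀ h1]; abel
  obtain ⟨e1, he1, he1'⟩ := exists_dual_vec R.qf ![z2, z3] hz_span
  have hz2_span : z2 ∉ Submodule.span R.F₀ (Set.range ![z, z3]) := fun hm => by
    obtain ⟨c, hc⟩ := (Submodule.mem_span_range_iff_exists_fun R.F₀).1 hm
    rw [Fin.sum_univ_two] at hc
    change c 0 • z + c 1 • z3 = z2 at hc
    rcases eq_or_ne (c 1) 0 with h1 | h1
    · rw [h1, zero_smul, add_zero] at hc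
      exact hn2 (c 0) hc.symm
    · refine hn3 (-(c 1)⁻¹ * c 0) (c 1)⁻¹ ?_
      rw [mul_smul, neg_smul, ← hc, smul_add, inv_smul_smul₀ h1]; abel
  obtain ⟨e2, he2, he2'⟩ := exists_dual_vec R.qf ![z, z3] hz2_span
  have hN0 : ∀ b, N b = 0 := by
    intro b
    have a1 : N e1 = 0 := common hz20 hz2 hz30 hz3 hr2 hr3 hn32 (by rw [R.qf.symm]; exact he1 0)
      (by rw [R.qf.symm]; exact he1 1)
    have a2 : N e2 = 0 := common hz0 hz hz30 hz3 hgz hr3 hn31 (by rw [R.qf.symm]; exact he2 0)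
      (by rw [R.qf.symm]; exact he2 1)
    have p1 : R.B z e1 = 1 := by rw [R.qf.symm]; exact he1'
    have p2 : R.B z2 e2 = 1 := by rw [R.qf.symm]; exact he2'
    have p3 : R.B z e2 = 0 := by rw [R.qf.symm]; exact he2 0
    have p4 : R.B z2 e1 = 0 := by rw [R.qf.symm]; exact he1 0
    have a3 : N (b - R.B z b • e1 - R.B z2 b • e2) = 0 :=
      common hz0 hz hz20 hz2 hgz hr2 hn2 (by simp [p1, p3]) (by simp [p2, p4])
    rwa [map_sub, map_sub, map_smul, map_smul, a1, a2, smul_zero, smul_zero, sub_zero, sub_zero] at a3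
  refine hgK (mem_of_rat_image R.F₀ R.P fun y hy => ?_)
  obtain ⟨u, rfl⟩ : ∃ u : ι → R.F₀, y = R.emb u := ⟨fun i => ⟨_, hy i⟩, (gl_inv_mulVec R.P y).symm⟩
  obtain ⟨w, hw⟩ := hker u (hN0 u)
  refine ⟨lam, R.emb w, fun i => ?_, hw⟩
  rw [RS.emb, gl_inv_mulVec']
  exact Subtype.coe_prop _

theorem real_cen (hex : ∃ g ∈ M, g ∉ Cfsg.Geo.subfieldSubgroup R.F₀ R.P) :
    ∀ a, R.Q a = 0 → Cen hf M (R.emb a) := by
  have h20 := R.two0 h2
  obtain ⟨a₀, ha₀0, ha₀, hc⟩ : ∃ a, a ≠ 0 ∧ R.Q a = 0 ∧ Cen hf M (R.emb a) := by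
    obtain ⟨v, hv0, hv⟩ := first_cen hf R h2 hn hM hMp hex
    obtain ⟨x, y, rfl⟩ := R.cx_surj h2 hf v
    by_cases hdep : ∃ c1 c2 : R.F₀, (c1 ≠ 0 ∨ c2 ≠ 0) ∧ c1 • y = c2 • x
    · obtain ⟨c1, c2, hc0, hc⟩ := hdep
      obtain ⟨r, hr⟩ := R.par h2 hf hc0 hc
      rw [hr] at hv hv0
      obtain ⟨hl, hr0⟩ := smul_ne_zero_iff.1 hv0
      have h := hv.smul hf ((c1 : F) + R.δ * (c2 : F))⁻¹
      rw [inv_smul_smul₀ hl] at h
      refine ⟨r, fun e => hr0 (by rw [e, R.emb_zero]), ?_, h⟩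
      have h3 := h.1
      rw [R.hBe, R.qf.diag] at h3
      exact (mul_eq_zero.1 (show (2 * R.Q r : R.F₀) = 0 from Subtype.ext h3)).resolve_left h20
    push Not at hdep
    obtain ⟨a, hna, ha0, ha, ha'⟩ := exists_singular_avoid h20 R.qf ![x, y] (by omega)
    refine ⟨a, ha0, ha, ?_⟩
    by_contra hca
    obtain ⟨h0, hT⟩ := hv.2 R.δ R.δ_skew
    have hfa : f (R.emb a) (R.cx x y) = 0 := by
      rw [hf.herm, R.f_cx_emb hf, show R.B x a = 0 by rw [R.qf.symm]; exact ha' 0,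
        show R.B y a = 0 by rw [R.qf.symm]; exact ha' 1]
      simp
    have hx : x ∉ Submodule.span R.F₀ (Set.range ![a, y]) := fun hm => by
      obtain ⟨c, hc⟩ := (Submodule.mem_span_range_iff_exists_fun R.F₀).1 hm
      rw [Fin.sum_univ_two] at hc
      change c 0 • a + c 1 • y = x at hc
      rcases eq_or_ne (c 0) 0 with h0 | h0
      · rw [h0, zero_smul, zero_add] at hc
        exact hdep (c 1) 1 (Or.inr one_ne_zero) (by rw [one_smul, hc])
      · refine hna ((Submodule.mem_span_range_iff_exists_fun R.F₀).2 ⟨![(c 0)⁻¹, -(c 0)⁻¹ * c 1], ?_⟩)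
        rw [Fin.sum_univ_two]
        show (c 0)⁻¹ • x + (-(c 0)⁻¹ * c 1) • y = a
        rw [mul_smul, neg_smul, ← hc, smul_add, inv_smul_smul₀ h0]; abel
    obtain ⟨b, hb, hbx⟩ := exists_dual_vec R.qf ![a, y] hx
    have hab : R.B a b = 0 := by rw [R.qf.symm]; exact hb 0
    obtain ⟨c, hc'⟩ := good hf R h2 hn hM hMp hT (a := a) (b := b) (r := a) ha hab ha ha0 (l1 := 1) (l2 := 0) (by
      rw [transGL_apply, LinearMap.smul_apply, fn_apply, hfa, smul_zero, zero_smul, add_zero]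
      simp) hca
    have hval : R.cim h2 hf (transGL (R.δ • fn hf (R.cx x y)) (R.cx x y) h0) b = x := by
      show R.im h2 hf ((transGL (R.δ • fn hf (R.cx x y)) (R.cx x y) h0 : Mat) *ᵥ R.emb b) = x
      rw [transGL_apply, LinearMap.smul_apply, fn_apply, hf.herm, R.f_cx_emb hf,
        show R.B x b = 1 by rw [R.qf.symm]; exact hbx, show R.B y b = 0 by rw [R.qf.symm]; exact hb 1]
      simp only [Subfield.coe_one, Subfield.coe_zero, mul_zero, add_zero, map_one, smul_eq_mul, mul_one]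
      rw [show R.emb b + R.δ • R.cx x y = R.cx (b + R.d2 • y) x by
        simp only [RS.cx, R.emb_add, R.emb_smul, RS.d2]; module]
      exact R.im_cx h2 hf _ _
    rw [hval, one_smul, zero_smul, sub_zero] at hc'
    exact hx (hc' ▸ Submodule.smul_mem _ _ (Submodule.subset_span ⟨0, rfl⟩))
  intro a ha
  rcases eq_or_ne a 0 with rfl | ha0
  · rw [R.emb_zero]; simpa using hc.smul hf 0
  let φ : GL ι R.F₀ →* GL ι F :=
    (MulAut.conj R.P).toMonoidHom.comp (Matrix.GeneralLinearGroup.map (R.F₀.subtype : R.F₀ →+* F))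
  have hφ : ∀ (g : GL ι R.F₀) (u : ι → R.F₀), (φ g : Mat) *ᵥ R.emb u = R.emb ((g : Matrix ι ι R.F₀) *ᵥ u) := by
    intro g u
    show ((R.P * Matrix.GeneralLinearGroup.map R.F₀.subtype g * R.P⁻¹ : GL ι F) : Mat) *ᵥ _ = _
    rw [Units.val_mul, Units.val_mul, ← Matrix.mulVec_mulVec, ← Matrix.mulVec_mulVec, RS.emb, RS.emb, gl_inv_mulVec']
    congr 1
    funext i
    exact (RingHom.map_mulVec R.F₀.subtype (g : Matrix ι ι R.F₀) u i).symm
  have hM0 : ∀ p q hp hpq, sG R.qf p q hp hpq ∈ M.comap φ := by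
    intro p q hp hpq
    show φ _ ∈ M
    rw [show φ (sG R.qf p q hp hpq) = rS hf R h2 p q hp hpq from gl_ext fun x => by
      obtain ⟨u, w, rfl⟩ := R.cx_surj h2 hf x
      rw [rS_cx hf R h2, RS.cx, Matrix.mulVec_add, Matrix.mulVec_smul, hφ, hφ]; rfl]
    exact mem_rS hf R h2 hn hM p q hp hpq
  obtain ⟨g, hgM, -, hga⟩ := MaxOrthSL.move_singular h20 R.qf hn hM0 ha₀0 ha0 ha₀ ha
  have h := hc.map hf (show φ g ∈ M from hgM) (hMp _ hgM)
  rwa [hφ, hga] at h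

theorem all_cen (hex : ∃ g ∈ M, g ∉ Cfsg.Geo.subfieldSubgroup R.F₀ R.P) : ∀ v, f v v = 0 → Cen hf M v := by
  have h20 := R.two0 h2
  have hR := real_cen hf R h2 hn hM hMp hex
  have back : ∀ (x y w : ι → R.F₀) (t : R.F₀), R.Q w = 0 →
      Cen hf M (R.cx (x + (t * R.d2 * R.B y w) • w) (y + (t * R.B x w) • w)) → Cen hf M (R.cx x y) := by
    intro x y w t hw h
    refine Cen.unline hf (hR w hw) (a := (t : F) * R.δ) (by rw [map_mul, R.fixed, R.δ_skew, mul_neg]) ?_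
    convert h using 1
    rw [R.f_cx_emb hf]
    simp only [RS.cx, R.emb_add, R.emb_smul, Subfield.coe_mul, RS.d2]
    module
  have hsingy : ∀ x y, R.Q x = 0 → R.Q y = 0 → Cen hf M (R.cx x y) := by
    have h1 : ∀ x y, R.Q x = 0 → R.Q y = 0 → R.B x y ≠ 0 → Cen hf M (R.cx x y) := by
      intro x y hx hy hxy
      refine back x y y (-(R.B x y)⁻¹) hy ?_
      rw [R.qf.diag y, hy]
      simp [hxy, RS.cx, R.emb_zero]
      exact hR x hx
    intro x y hx hy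
    by_cases hxy : R.B x y ≠ 0
    · exact h1 x y hx hy hxy
    push Not at hxy
    rcases eq_or_ne y 0 with rfl | hy0
    · rw [RS.cx, R.emb_zero, smul_zero, add_zero]; exact hR x hx
    by_cases hsp : ∃ c : R.F₀, x = c • y
    · obtain ⟨c, rfl⟩ := hsp
      have h := (hR y hy).smul hf ((c : F) + R.δ)
      rwa [RS.cx, R.emb_smul, ← add_smul]
    obtain ⟨w, hw, hyw, hxw⟩ : ∃ w, R.Q w = 0 ∧ R.B w y = 0 ∧ R.B x w ≠ 0 := by
      by_contra hc
      push Not at hc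
      have := mem_span_of_singular h20 R.qf ![y] (by omega) fun s hs hk => hc s hs (hk 0)
      simp only [Matrix.range_cons, Matrix.range_empty, Set.union_empty, Submodule.mem_span_singleton] at this
      obtain ⟨c, hc'⟩ := this
      exact hsp ⟨c, hc'.symm⟩
    refine back x y w 1 hw ?_
    rw [R.qf.symm y w, hyw, mul_zero, zero_smul, add_zero]
    refine h1 _ _ hx ?_ ?_
    · rw [R.qf.add, R.qf.smul, hw, hy, map_smul, R.qf.symm y w, hyw]; simp
    · rw [map_add, hxy, map_smul, zero_add, one_mul, smul_eq_mul]; exact mul_ne_zero hxw hxw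
  intro v hv
  obtain ⟨x, y, rfl⟩ := R.cx_surj h2 hf v
  have hQ := R.iso_cx h2 hf hv
  by_cases hy : R.Q y = 0
  · exact hsingy x y (by rw [hQ, hy, mul_zero]) hy
  have hx : x ≠ 0 := fun e => by
    rw [e, R.qf.zero] at hQ
    exact hy ((mul_eq_zero.1 hQ.symm).resolve_left R.d2_ne)
  obtain ⟨w, hw, hxw, hyw⟩ := exists_singular_nonorth h20 R.qf hn hx hy
  refine back x y w (-(R.Q y) / (R.B x w * R.B y w)) hw ?_
  refine hsingy _ _ ?_ ?_ <;> rw [R.qf.add, R.qf.smul, hw, map_smul, smul_eq_mul]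
  · rw [hQ]; field_simp; ring
  · field_simp; ring

omit hn hM hMp in
theorem exists_not_mem (hn : 13 ≤ Fintype.card ι) :
    ∃ g, Pres f g ∧ g ∉ Cfsg.Geo.subfieldSubgroup R.F₀ R.P := by
  have h20 := R.two0 h2
  obtain ⟨s, t, hs, -, hst, -, -⟩ := exists_hyp h20 R.qf (![] : Fin 0 → ι → R.F₀) (by omega)
  have hss : f (R.emb s) (R.emb s) = 0 := by rw [R.hBe, R.qf.diag, hs, mul_zero, Subfield.coe_zero]
  have h0 : ((R.δ • fn hf (R.emb s)) : Dual F _) (R.emb s) = 0 := by simp [fn_apply, hss]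
  refine ⟨_, pres_T hf hss R.δ_skew h0, fun hm => ?_⟩
  obtain ⟨l, y, hy, he⟩ := rat_image R.F₀ R.P hm (y := R.emb t) (fun i => by
    rw [RS.emb, gl_inv_mulVec']; exact Subtype.coe_prop _)
  obtain ⟨w, rfl⟩ : ∃ w : ι → R.F₀, y = R.emb w := ⟨fun i => ⟨_, hy i⟩, (gl_inv_mulVec R.P y).symm⟩
  rw [transGL_apply, LinearMap.smul_apply, fn_apply, R.hBe, R.qf.symm, hst, Subfield.coe_one, smul_eq_mul,
    mul_one] at he
  have hl1 : σ ((l + σ l) / 2) = (l + σ l) / 2 := by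
    rw [map_div₀, map_add, hf.involutive, map_ofNat, add_comm]
  have hl2 : σ ((l - σ l) / (2 * R.δ)) = (l - σ l) / (2 * R.δ) := by
    rw [map_div₀, map_sub, hf.involutive, map_mul, map_ofNat, R.δ_skew, mul_neg, div_neg, ← neg_div, neg_sub]
  set m1 : R.F₀ := ⟨_, (R.fix _).1 hl1⟩
  set m2 : R.F₀ := ⟨_, (R.fix _).1 hl2⟩
  have hl : l = (m1 : F) + R.δ * (m2 : F) := by
    have hd := R.δ_ne
    show l = (l + σ l) / 2 + R.δ * ((l - σ l) / (2 * R.δ))
    field_simp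
    ring
  have h5 : R.cx t s = R.cx (m1 • w) (m2 • w) := by
    rw [RS.cx, he, hl, RS.cx, R.emb_smul, R.emb_smul]; module
  obtain ⟨e1, e2⟩ := R.cx_inj h2 h5
  have h6 : R.B s s = 0 := by rw [R.qf.diag, hs, mul_zero]
  simp only [e2, map_smul, LinearMap.smul_apply, smul_eq_mul] at h6
  simp only [e1, e2, map_smul, LinearMap.smul_apply, smul_eq_mul] at hst
  rcases mul_eq_zero.1 h6 with h7 | h7
  · simp [h7] at hst
  rcases mul_eq_zero.1 h7 with h8 | h8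
  · simp [h8] at hst
  · simp [h8] at hst

end Cfsg.Agent.Classical.MaxSUOrth
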