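import Cfsg.Agent.Lib.Classical.MaxSUBase

/-!
Stabilisers of pairs of complementary totally isotropic subspaces are maximal in special unitary groups.
-/

set_option autoImplicit false
set_option linter.unusedSectionVars false

open Module Matrix

namespace Cfsg.Agent.Classical.MaxSU

open HermSep MaxLin HermGen

variable {F : Type*} [Field F] [Fintype F] {ι : Type} [Fintype ι] [DecidableEq ι]
variable {σ : F ≃+* F} {f : (ι → F) → (ι → F) → F} (hf : Cfsg.Geo.IsUnitaryForm σ f)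

local notation "Mat" => Matrix ι ι F

/-- Image of a subspace under a matrix. -/
def img (g : GL ι F) (P : Submodule F (ι → F)) : Submodule F (ι → F) := P.map (Matrix.toLin' (g : Mat))

/-- A pair of complementary totally isotropic subspaces of dimension `m`. -/
structure UPair (m : ℕ) (P Q : Submodule F (ι → F)) : Prop where
  left : ∀ u ∈ P, ∀ v ∈ P, f u v = 0
  right : ∀ u ∈ Q, ∀ v ∈ Q, f u v = 0
  compl : IsCompl P Q
  rank_left : finrank F P = m
  rank_right : finrank F Q = m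

theorem UPair.symm {m : ℕ} {P Q : Submodule F (ι → F)} (h : UPair (f := f) m P Q) : UPair (f := f) m Q P :=
  ⟨h.right, h.left, h.compl.symm, h.rank_right, h.rank_left⟩

theorem UPair.exists_add {m : ℕ} {P Q : Submodule F (ι → F)} (h : UPair (f := f) m P Q) (x : ι → F) :
    ∃ p ∈ P, ∃ q ∈ Q, p + q = x :=
  Submodule.mem_sup.1 (h.compl.sup_eq_top ▸ Submodule.mem_top)

theorem gl_injective (g : GL ι F) : Function.Injective (Matrix.toLin' (g : Mat)) :=
  Function.LeftInverse.injective (g := fun x => ((g⁻¹ : GL ι F) : Mat) *ᵥ x) fun x => by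
    simpa using gl_inv_mulVec' g x

theorem finrank_img (g : GL ι F) (P : Submodule F (ι → F)) : finrank F (img g P) = finrank F P :=
  (Submodule.equivMapOfInjective _ (gl_injective g) P).finrank_eq.symm

theorem mem_img {g : GL ι F} {P : Submodule F (ι → F)} {x : ι → F} (hx : x ∈ P) : (g : Mat) *ᵥ x ∈ img g P :=
  ⟨x, hx, rfl⟩

theorem UPair.map {m : ℕ} {P Q : Submodule F (ι → F)} (h : UPair (f := f) m P Q) {g : GL ι F} (hg : Pres f g) :
    UPair (f := f) m (img g P) (img g Q) := by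
  refine ⟨?_, ?_, ⟨?_, ?_⟩, by rw [finrank_img, h.rank_left], by rw [finrank_img, h.rank_right]⟩
  · rintro _ ⟨u, hu, rfl⟩ _ ⟨v, hv, rfl⟩; exact (hg.1 u v).trans (h.left u hu v hv)
  · rintro _ ⟨u, hu, rfl⟩ _ ⟨v, hv, rfl⟩; exact (hg.1 u v).trans (h.right u hu v hv)
  · rw [disjoint_iff, img, img, ← Submodule.map_inf _ (gl_injective g), h.compl.inf_eq_bot, Submodule.map_bot]
  · rw [codisjoint_iff, img, img, ← Submodule.map_sup, h.compl.sup_eq_top, Submodule.map_top, LinearMap.range_eq_top]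
    exact fun x => ⟨((g⁻¹ : GL ι F) : Mat) *ᵥ x, gl_inv_mulVec g x⟩

/-- The condition to stabilise the unordered pair. -/
def PStab (g : GL ι F) (P Q : Submodule F (ι → F)) : Prop :=
  (img g P = P ∧ img g Q = Q) ∨ (img g P = Q ∧ img g Q = P)

theorem mem_decompositionStabilizer {P Q : Submodule F (ι → F)} {g : GL ι F} :
    g ∈ Cfsg.Geo.decompositionStabilizer ![P, Q] ↔ PStab g P Q := by
  constructor
  · rintro ⟨s, hs⟩
    have h0 := hs 0
    have h1 := hs 1
    have hne : s 0 ≠ s 1 := s.injective.ne (by decide)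
    simp only [Matrix.cons_val_zero, Matrix.cons_val_one] at h0 h1
    unfold PStab img
    generalize s 0 = a, s 1 = b at h0 h1 hne
    fin_cases a <;> fin_cases b <;> simp at h0 h1 hne ⊢ <;> simp [h0, h1]
  · rintro (⟨h0, h1⟩ | ⟨h0, h1⟩)
    · exact ⟨1, fun i => by fin_cases i <;> simpa [img] using (by assumption : _ = _)⟩
    · exact ⟨Equiv.swap 0 1, fun i => by fin_cases i <;> simpa [img] using (by assumption : _ = _)⟩

include hf

theorem sep {m : ℕ} {P Q : Submodule F (ι → F)} (hPQ : UPair (f := f) m P Q) {a : ι → F} {U : Submodule F (ι → F)}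
    (hUP : U ≤ P) (ha : a ∈ P) (haU : a ∉ U) : ∃ v ∈ Q, f a v = 1 ∧ ∀ u ∈ U, f u v = 0 := by
  have hnot : a ∉ Q ⊔ U := fun h => by
    obtain ⟨q, hq, u, hu, rfl⟩ := Submodule.mem_sup.1 h
    have : q ∈ P ⊓ Q := ⟨by simpa using P.sub_mem ha (hUP hu), hq⟩
    rw [hPQ.compl.inf_eq_bot, Submodule.mem_bot] at this
    exact haU (by rw [this, zero_add]; exact hu)
  obtain ⟨y, hay, hy⟩ := exists_sep hf hnot
  obtain ⟨p, hp, q, hq, rfl⟩ := hPQ.exists_add y
  have hp0 : p = 0 := by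
    by_contra h0
    obtain ⟨z, hz⟩ := (hf.nondegenerate p h0).1
    obtain ⟨p', hp', q', hq', rfl⟩ := hPQ.exists_add z
    apply hz
    have h1 := hy q' (Submodule.mem_sup_left hq')
    rw [add_right hf, hPQ.right q' hq' q hq, add_zero] at h1
    rw [hf.add_left, hPQ.left p' hp' p hp, h1, add_zero]
  rw [hp0, zero_add] at hay hy
  exact ⟨q, hq, hay, fun u hu => hy u (Submodule.mem_sup_right hu)⟩

/-- The root element of a pair of orthogonal isotropic vectors. -/
theorem exists_E {u v : ι → F} (huu : f u u = 0) (hvv : f v v = 0) (huv : f u v = 0) :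
    ∃ g : GL ι F, Pres f g ∧ ∀ x, (g : Mat) *ᵥ x = x + f x u • v - f x v • u := by
  have h1 : fn hf u v = 0 := swap_zero hf huv
  have h2 : (-fn hf v) u = 0 := by simp [fn_apply, huv]
  have hval : ∀ x, ((transGL (-fn hf v) u h2 * transGL (fn hf u) v h1 : GL ι F) : Mat) *ᵥ x =
      x + f x u • v - f x v • u := fun x => by
    rw [Units.val_mul, ← Matrix.mulVec_mulVec, transGL_apply, transGL_apply]
    simp only [LinearMap.neg_apply, fn_apply, hf.add_left, hf.smul_left, hvv]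
    module
  refine ⟨_, ⟨fun x y => ?_, ?_⟩, hval⟩
  · rw [hval, hval]
    simp only [sub_eq_add_neg, ← neg_smul, hf.add_left, add_right hf, hf.smul_left, smul_right hf, huu, hvv, huv,
      swap_zero hf huv, map_neg, ← hf.herm u y, ← hf.herm v y]
    ring
  · have e1 := congrArg Units.val (det_transGL (-fn hf v) u h2)
    have e2 := congrArg Units.val (det_transGL (fn hf u) v h1)
    simp only [Units.val_one, Matrix.GeneralLinearGroup.val_det_apply] at e1 e2
    rw [Units.val_mul, Matrix.det_mul, e1, e2, one_mul]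

theorem E_stab {m : ℕ} {P Q : Submodule F (ι → F)} (hPQ : UPair (f := f) m P Q) {u v : ι → F} (hu : u ∈ P) (hv : v ∈ Q)
    {g : GL ι F} (hval : ∀ x, (g : Mat) *ᵥ x = x + f x u • v - f x v • u) : img g P = P ∧ img g Q = Q := by
  constructor
  · refine Submodule.eq_of_le_of_finrank_eq ?_ (finrank_img g P)
    rintro _ ⟨x, hx, rfl⟩
    show (g : Mat) *ᵥ x ∈ P
    rw [hval, hPQ.left x hx u hu, zero_smul, add_zero]
    exact P.sub_mem hx (P.smul_mem _ hu)
  · refine Submodule.eq_of_le_of_finrank_eq ?_ (finrank_img g Q)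
    rintro _ ⟨x, hx, rfl⟩
    show (g : Mat) *ᵥ x ∈ Q
    rw [hval, hPQ.right x hx v hv, zero_smul, sub_zero]
    exact Q.add_mem hx (Q.smul_mem _ hv)

theorem le_of_invariant {m : ℕ} (hm : 3 ≤ m) {P Q : Submodule F (ι → F)} (hPQ : UPair (f := f) m P Q)
    {X : Submodule F (ι → F)}
    (hinv : ∀ u ∈ P, ∀ v ∈ Q, f u v = 0 → ∀ x ∈ X, x + f x u • v - f x v • u ∈ X)
    {p q : ι → F} (hp : p ∈ P) (hq : q ∈ Q) (hp0 : p ≠ 0) (hx : p + q ∈ X) : P ≤ X := by
  have step : ∀ p ∈ P, ∀ q ∈ Q, p + q ∈ X → ∀ u ∈ P, f q u = 0 → u ∉ Submodule.span F {p} → p ≠ 0 → u ∈ X := by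
    intro p hp q hq hx u hu hqu hup hp0
    have hpu : p ∉ Submodule.span F {u} := fun h => by
      obtain ⟨r, rfl⟩ := Submodule.mem_span_singleton.1 h
      rcases eq_or_ne r 0 with rfl | hr
      · exact hp0 (zero_smul F u)
      · exact hup (Submodule.mem_span_singleton.2 ⟨r⁻¹, inv_smul_smul₀ hr u⟩)
    obtain ⟨v, hv, hpv, huv⟩ := sep hf hPQ ((Submodule.span_singleton_le_iff_mem u P).2 hu) hp hpu
    have huv' := huv u (Submodule.mem_span_singleton_self u)
    have h1 := X.sub_mem (hinv u hu v hv huv' _ hx) hx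
    rw [hf.add_left, hf.add_left, hPQ.left p hp u hu, hqu, hpv, hPQ.right q hq v hv, add_zero, add_zero, zero_smul,
      one_smul, add_zero, sub_sub_cancel_left] at h1
    simpa using X.neg_mem h1
  obtain ⟨u₀, hu₀, hu₀q, hu₀p⟩ : ∃ u ∈ P, f q u = 0 ∧ u ∉ Submodule.span F {p} := by
    obtain ⟨u, hu, hup⟩ : ∃ u, u ∈ P ⊓ perp hf ![q] ∧ u ∉ Submodule.span F {p} := by
      refine SetLike.not_le_iff_exists.1 fun hle => ?_
      have h1 := Submodule.finrank_mono hle
      rw [finrank_span_singleton hp0] at h1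
      have h2 := Submodule.finrank_sup_add_finrank_inf_eq P (perp hf ![q])
      have h3 := Submodule.finrank_le (P ⊔ perp hf ![q])
      have h4 := finrank_perp hf ![q]
      rw [Module.finrank_pi] at h3
      rw [hPQ.rank_left] at h2
      omega
    exact ⟨u, (Submodule.mem_inf.1 hu).1, swap_zero hf ((mem_perp hf).1 (Submodule.mem_inf.1 hu).2 0), hup⟩
  have hu₀X := step p hp q hq hx u₀ hu₀ hu₀q hu₀p hp0
  have hu₀0 : u₀ ≠ 0 := fun e => hu₀p (e ▸ Submodule.zero_mem _)
  intro u hu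
  by_cases h : u ∈ Submodule.span F {u₀}
  · exact (Submodule.span_singleton_le_iff_mem u₀ X).2 hu₀X h
  · exact step u₀ hu₀ 0 Q.zero_mem (by rwa [add_zero]) u hu (zero_left hf u) h hu₀0

/-- A moved partner gives a transvection with centre in the fixed subspace. -/
theorem exists_transvection {m : ℕ} (hm : 5 ≤ m) {P Q : Submodule F (ι → F)} (hPQ : UPair (f := f) m P Q)
    {M : Subgroup (GL ι F)} (hle : ∀ x, Pres f x → PStab x P Q → x ∈ M) (hM : ∀ x ∈ M, Pres f x)
    {g : GL ι F} (hg : g ∈ M) {u v : ι → F} (hu : u ∈ P) (hv : v ∈ Q) (huv : f u v = 0)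
    {s : GL ι F} (hs : Pres f s) (hsval : ∀ x, (s : Mat) *ᵥ x = x + f x u • v - f x v • u)
    (hmove : img (g * s * g⁻¹) Q ≠ Q) :
    ∃ a ∈ P, a ≠ 0 ∧ ∃ c : F, c ≠ 0 ∧ σ c = -c ∧ Tm M (c • fn hf a) a := by
  set h := g * s * g⁻¹ with hh
  have hhM : h ∈ M := mul_mem (mul_mem hg (hle s hs (Or.inl (E_stab hf hPQ hu hv hsval)))) (inv_mem hg)
  have hgp := (hM g hg).1
  have hhp := hM h hhM
  have hfix : ∀ x, f x ((g : Mat) *ᵥ u) = 0 → f x ((g : Mat) *ᵥ v) = 0 → (h : Mat) *ᵥ x = x := by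
    intro x hxu hxv
    obtain ⟨y, rfl⟩ : ∃ y, (g : Mat) *ᵥ y = x := ⟨_, gl_inv_mulVec g x⟩
    rw [hgp] at hxu hxv
    rw [hh, Units.val_mul, Units.val_mul, ← Matrix.mulVec_mulVec, ← Matrix.mulVec_mulVec, gl_inv_mulVec', hsval, hxu,
      hxv, zero_smul, zero_smul, add_zero, sub_zero]
  set C : Submodule F (ι → F) := P ⊓ perp hf ![(g : Mat) *ᵥ u, (g : Mat) *ᵥ v] with hC
  have hCdim : m - 2 ≤ finrank F C := by
    have h2 := Submodule.finrank_sup_add_finrank_inf_eq P (perp hf ![(g : Mat) *ᵥ u, (g : Mat) *ᵥ v])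
    have h3 := Submodule.finrank_le (P ⊔ perp hf ![(g : Mat) *ᵥ u, (g : Mat) *ᵥ v])
    have h4 := finrank_perp hf ![(g : Mat) *ᵥ u, (g : Mat) *ᵥ v]
    rw [Module.finrank_pi] at h3
    rw [hPQ.rank_left, ← hC] at h2
    omega
  have hCmem : ∀ a ∈ C, a ∈ P ∧ (h : Mat) *ᵥ a = a := fun a ha => by
    obtain ⟨h1, h2⟩ := Submodule.mem_inf.1 ha
    exact ⟨h1, hfix a ((mem_perp hf).1 h2 0) ((mem_perp hf).1 h2 1)⟩
  by_contra hcon
  push Not at hcon
  have hP' := hPQ.map hhp
  have key : ∀ a ∈ C, a ≠ 0 → ∀ w ∈ img h Q, f a w = 0 → ∀ p ∈ P, ∀ q ∈ Q, p + q = w → p ∈ Submodule.span F {a} := by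
    intro a ha ha0 w hw haw p hp q hq he
    by_contra hpa
    obtain ⟨haP, hha⟩ := hCmem a ha
    obtain ⟨b₀, hb₀, hpb, hab⟩ := sep hf hPQ ((Submodule.span_singleton_le_iff_mem a P).2 haP) hp hpa
    obtain ⟨d, hd⟩ : ∃ d, d ≠ σ d := by
      by_contra hc; push Not at hc; exact hf.ne_refl (RingEquiv.ext fun d => (hc d).symm)
    set b := σ d • b₀ with hb
    have hbQ : b ∈ Q := Q.smul_mem _ hb₀
    have hab' : f a b = 0 := by rw [hb, smul_right hf, hab a (Submodule.mem_span_singleton_self a), mul_zero]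
    have hwb : f w b = d := by
      rw [← he, hf.add_left, hPQ.right q hq b hbQ, add_zero, hb, smul_right hf, hf.involutive, hpb, mul_one]
    have haa : f a a = 0 := hPQ.left a haP a haP
    obtain ⟨Eb, hEb, vb⟩ := exists_E hf haa (hPQ.right b hbQ b hbQ) hab'
    have hEbM : Eb ∈ M := hle Eb hEb (Or.inl (E_stab hf hPQ haP hbQ vb))
    obtain ⟨w₀, hw₀, hhw₀⟩ := hw
    change (h : Mat) *ᵥ w₀ = w at hhw₀
    have haw₀ : f a w₀ = 0 := by rw [← hhp.1 a w₀, hha, hhw₀]; exact haw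
    obtain ⟨E₀, hE₀, v₀⟩ := exists_E hf haa (hPQ.right w₀ hw₀ w₀ hw₀) haw₀
    have hE₀M : E₀ ∈ M := hle E₀ hE₀ (Or.inl (E_stab hf hPQ haP hw₀ v₀))
    set Ew := h * E₀ * h⁻¹ with hEw
    have hEwM : Ew ∈ M := mul_mem (mul_mem hhM hE₀M) (inv_mem hhM)
    have hww : f w w = 0 := by rw [← hhw₀, hhp.1]; exact hPQ.right w₀ hw₀ w₀ hw₀
    have hEwval : ∀ x, (Ew : Mat) *ᵥ x = x + f x a • w - f x w • a := by
      intro x
      obtain ⟨y, rfl⟩ : ∃ y, (h : Mat) *ᵥ y = x := ⟨_, gl_inv_mulVec h x⟩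
      have e1 : f ((h : Mat) *ᵥ y) a = f y a := by
        conv_lhs => rw [← hha, hhp.1]
      have e2 : f ((h : Mat) *ᵥ y) w = f y w₀ := by rw [← hhw₀, hhp.1]
      rw [e1, e2, hEw, Units.val_mul, Units.val_mul, ← Matrix.mulVec_mulVec, ← Matrix.mulVec_mulVec, gl_inv_mulVec',
        v₀, Matrix.mulVec_sub, Matrix.mulVec_add, Matrix.mulVec_smul, Matrix.mulVec_smul, hhw₀, hha]
    set c := d - σ d with hc
    have hcs : σ c = -c := by rw [hc, map_sub, hf.involutive]; ring
    have h0 : ((c • fn hf a) : Dual F _) a = 0 := by simp [fn_apply, haa]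
    have hT : Ew * Eb = transGL (c • fn hf a) a h0 * (Eb * Ew) := by
      refine gl_ext fun x => ?_
      have hba : f b a = 0 := swap_zero hf hab'
      have hwa : f w a = 0 := swap_zero hf haw
      simp only [Units.val_mul, ← Matrix.mulVec_mulVec, hEwval, vb, transGL_apply, LinearMap.smul_apply, fn_apply,
        smul_eq_mul]
      simp only [sub_eq_add_neg, ← neg_smul, hf.add_left, hf.smul_left, haa, hba, hwa, hab', haw, hwb, hf.herm b w,
        hc]
      module
    refine hcon a haP ha0 c (sub_ne_zero.2 hd) hcs ⟨h0, ?_⟩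
    rw [eq_mul_inv_of_mul_eq hT.symm]
    exact mul_mem (mul_mem hEwM hEbM) (inv_mem (mul_mem hEbM hEwM))
  obtain ⟨a₃, ha₃, ha₃0⟩ := Submodule.exists_mem_ne_zero_of_ne_bot
    (fun e => by rw [e, finrank_bot] at hCdim; omega : C ≠ ⊥)
  obtain ⟨a₂, ha₂, ha₂3⟩ : ∃ a ∈ C, a ∉ Submodule.span F {a₃} := by
    refine SetLike.not_le_iff_exists.1 fun hle' => ?_
    have := Submodule.finrank_mono hle'
    rw [finrank_span_singleton ha₃0] at this
    omega
  obtain ⟨a₁, ha₁, ha₁23⟩ : ∃ a ∈ C, a ∉ Submodule.span F {a₂, a₃} := by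
    refine SetLike.not_le_iff_exists.1 fun hle' => ?_
    have h1 := Submodule.finrank_mono hle'
    have h3 : finrank F (Submodule.span F ({a₂, a₃} : Set (ι → F))) ≤ 2 := by
      classical
      have h4 := finrank_span_finset_le_card ({a₂, a₃} : Finset (ι → F)) (R := F)
      rw [Set.finrank, Finset.coe_insert, Finset.coe_singleton] at h4
      exact h4.trans Finset.card_le_two
    omega
  have ha₂13 : a₂ ∉ Submodule.span F {a₁, a₃} := fun h => by
    obtain ⟨r, s, hrs⟩ := Submodule.mem_span_pair.1 h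
    rcases eq_or_ne r 0 with rfl | hr
    · exact ha₂3 (Submodule.mem_span_singleton.2 ⟨s, by rw [← hrs, zero_smul, zero_add]⟩)
    · refine ha₁23 (Submodule.mem_span_pair.2 ⟨r⁻¹, -(r⁻¹ * s), ?_⟩)
      rw [← hrs]; match_scalars <;> field_simp <;> ring
  have pairs : ∀ a ∈ C, ∀ b ∈ C, a ≠ 0 → b ∉ Submodule.span F {a} → ∀ w ∈ img h Q, f a w = 0 → f b w = 0 → w ∈ Q := by
    intro a ha b hb ha0 hba w hw h1 h2'
    have hb0 : b ≠ 0 := fun e => hba (e ▸ Submodule.zero_mem _)
    obtain ⟨p, hp, q, hq, rfl⟩ := hPQ.exists_add w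
    obtain ⟨r, hr⟩ := Submodule.mem_span_singleton.1 (key a ha ha0 _ hw h1 p hp q hq rfl)
    obtain ⟨s, hs⟩ := Submodule.mem_span_singleton.1 (key b hb hb0 _ hw h2' p hp q hq rfl)
    rcases eq_or_ne s 0 with rfl | hs0
    · rw [← hs, zero_smul, zero_add]; exact hq
    · exact absurd (Submodule.mem_span_singleton.2 ⟨s⁻¹ * r, by rw [mul_smul, hr, ← hs, inv_smul_smul₀ hs0]⟩) hba
  have ha₂0 : a₂ ≠ 0 := fun e => ha₂3 (e ▸ Submodule.zero_mem _)
  have hP'mem : ∀ a ∈ C, a ∈ img h P := fun a ha => ⟨a, (hCmem a ha).1, (hCmem a ha).2⟩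
  obtain ⟨v₁, hv₁, hv₁1, hv₁'⟩ := sep hf hP' (U := Submodule.span F {a₂, a₃})
    (Submodule.span_le.2 (Set.insert_subset_iff.2
      ⟨hP'mem _ ha₂, Set.singleton_subset_iff.2 (hP'mem _ ha₃)⟩)) (hP'mem _ ha₁) ha₁23
  obtain ⟨v₂, hv₂, hv₂2, hv₂'⟩ := sep hf hP' (U := Submodule.span F {a₁, a₃})
    (Submodule.span_le.2 (Set.insert_subset_iff.2
      ⟨hP'mem _ ha₁, Set.singleton_subset_iff.2 (hP'mem _ ha₃)⟩)) (hP'mem _ ha₂) ha₂13
  have hv₁Q : v₁ ∈ Q := pairs a₃ ha₃ a₂ ha₂ ha₃0 ha₂3 v₁ hv₁ (hv₁' _ (Submodule.subset_span (by simp)))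
    (hv₁' _ (Submodule.subset_span (by simp)))
  have h13 : a₁ ∉ Submodule.span F {a₃} := fun h => ha₁23 (Submodule.span_mono (by simp) h)
  have hv₂Q : v₂ ∈ Q := pairs a₃ ha₃ a₁ ha₁ ha₃0 h13 v₂ hv₂ (hv₂' _ (Submodule.subset_span (by simp)))
    (hv₂' _ (Submodule.subset_span (by simp)))
  have h12 : a₁ ∉ Submodule.span F {a₂} := fun h => ha₁23 (Submodule.span_mono (by simp) h)
  refine hmove (Submodule.eq_of_le_of_finrank_eq (fun w hw => ?_) (finrank_img _ _))
  have hrest : w - σ (f a₁ w) • v₁ - σ (f a₂ w) • v₂ ∈ Q := by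
    have e : ∀ a x y : ι → F, f a (x - y) = f a x - f a y := fun a x y => by
      rw [eq_sub_iff_add_eq, ← add_right hf, sub_add_cancel]
    refine pairs a₂ ha₂ a₁ ha₁ ha₂0 h12 _ ((img h Q).sub_mem ((img h Q).sub_mem hw ((img h Q).smul_mem _ hv₁))
      ((img h Q).smul_mem _ hv₂)) ?_ ?_
    · rw [e, e, smul_right hf, smul_right hf, hv₂2, hv₁' a₂ (Submodule.subset_span (by simp))]; simp only [hf.involutive]; ring
    · rw [e, e, smul_right hf, smul_right hf, hv₁1, hv₂' a₁ (Submodule.subset_span (by simp))]; simp only [hf.involutive]; ring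
  have := Q.add_mem (Q.add_mem hrest (Q.smul_mem (σ (f a₁ w)) hv₁Q)) (Q.smul_mem (σ (f a₂ w)) hv₂Q)
  convert this using 1
  abel

theorem exists_swap {m : ℕ} {P Q : Submodule F (ι → F)} (hPQ : UPair (f := f) m P Q) :
    ∃ s : GL ι F, Pres f s ∧ img s P = Q ∧ img s Q = P := by
  classical
  let b := Module.finBasisOfFinrankEq F P hPQ.rank_left
  set e : Fin m → ι → F := fun i => (b i : ι → F) with he
  have hsep : ∀ i, ∃ v ∈ Q, f (e i) v = 1 ∧ ∀ u ∈ Submodule.span F (e '' {l | l ≠ i}), f u v = 0 := by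
    intro i
    refine sep hf hPQ (Submodule.span_le.2 ?_) (b i).2 ?_
    · rintro _ ⟨l, -, rfl⟩; exact (b l).2
    · have hli : LinearIndependent F e := b.linearIndependent.map' P.subtype P.ker_subtype
      exact hli.notMem_span_image (by simp)
  choose e' he'Q he'1 he'0 using hsep
  have heP : ∀ i, e i ∈ P := fun i => (b i).2
  have hee : ∀ i l, f (e i) (e l) = 0 := fun i l => hPQ.left _ (heP i) _ (heP l)
  have he'e' : ∀ i l, f (e' i) (e' l) = 0 := fun i l => hPQ.right _ (he'Q i) _ (he'Q l)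
  have hee' : ∀ i l, f (e i) (e' l) = if i = l then 1 else 0 := fun i l => by
    rcases eq_or_ne i l with rfl | h
    · rw [if_pos rfl]; exact he'1 i
    · rw [if_neg h]; exact he'0 l _ (Submodule.subset_span ⟨i, h, rfl⟩)
  have he'e : ∀ i l, f (e' l) (e i) = if i = l then 1 else 0 := fun i l => by
    rw [hf.herm, hee', apply_ite σ, map_one, map_zero]
  obtain ⟨d, hd0, hd⟩ := exists_skew hf
  have hd' : σ (-d⁻¹) = -(-d⁻¹) := by rw [map_neg, map_inv₀, hd, inv_neg]
  have key : ∀ J : Finset (Fin m), ∃ g ∈ tgrp hf, ∀ l, (g : Mat) *ᵥ e l = (if l ∈ J then d • e' l else e l) ∧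
      (g : Mat) *ᵥ e' l = (if l ∈ J then (-d⁻¹) • e l else e' l) := by
    intro J
    induction J using Finset.induction_on with
    | empty => exact ⟨1, one_mem _, fun l => by simp⟩
    | @insert i J hi ih =>
      obtain ⟨g, hg, hgv⟩ := ih
      obtain ⟨A, hA, vA⟩ := tg hf (c := (![] : Fin 0 → ι → F)) (fun i => i.elim0) (he'e' i i) hd
      obtain ⟨B, hB, vB⟩ := tg hf (c := (![] : Fin 0 → ι → F)) (fun i => i.elim0) (hee i i) hd'
      refine ⟨A * (B * (A * g)), mul_mem (Subgroup.mem_inf.1 hA).1 (mul_mem (Subgroup.mem_inf.1 hB).1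
        (mul_mem (Subgroup.mem_inf.1 hA).1 hg)), fun l => ?_⟩
      simp only [Units.val_mul, ← Matrix.mulVec_mulVec, (hgv l).1, (hgv l).2]
      rcases eq_or_ne l i with rfl | hl
      · simp only [if_neg hi, if_pos (Finset.mem_insert_self l J), vA, vB, hf.add_left, hf.smul_left, hee, he'e', hee',
          he'e, if_pos]
        constructor <;> match_scalars <;> field_simp <;> ring
      · have hiff : l ∈ insert i J ↔ l ∈ J := by simp [hl]
        have hneg : ∀ x y : ι → F, f (-x) y = -f x y := fun x y => by rw [← neg_one_smul F x, hf.smul_left, neg_one_mul]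
        by_cases hlJ : l ∈ J
        · simp [hlJ, vA, vB, hf.smul_left, hneg, hee, he'e', hee', he'e, hl, Ne.symm hl]
        · simp [hlJ, hl, vA, vB, hee, he'e', hee', he'e, Ne.symm hl]
  obtain ⟨g, hg, hgv⟩ := key Finset.univ
  have hspan : Submodule.span F (Set.range e) = P := by
    rw [show Set.range e = P.subtype '' Set.range b from Set.range_comp _ _, Submodule.span_image, b.span_eq,
      Submodule.map_top, Submodule.range_subtype]
  have hli' : LinearIndependent F e' := by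
    rw [Fintype.linearIndependent_iff]
    intro a ha l
    have h1 : f (∑ i, a i • e' i) (e l) = a l := by
      rw [HermGen.sum_left hf, Finset.sum_eq_single l]
      · rw [he'e, if_pos rfl, mul_one]
      · intro i _ hi; rw [he'e, if_neg (Ne.symm hi), mul_zero]
      · simp
    rw [← h1, ha, zero_left hf]
  have hspan' : Submodule.span F (Set.range e') = Q := by
    refine Submodule.eq_of_le_of_finrank_eq (Submodule.span_le.2 (by rintro _ ⟨i, rfl⟩; exact he'Q i)) ?_
    rw [finrank_span_eq_card hli', Fintype.card_fin, hPQ.rank_right]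
  refine ⟨g, pres_tgrp hf hg, ?_, ?_⟩
  · refine Submodule.eq_of_le_of_finrank_eq ?_ (by rw [finrank_img, hPQ.rank_left, hPQ.rank_right])
    rw [img, ← hspan, Submodule.map_span, Submodule.span_le]
    rintro _ ⟨_, ⟨i, rfl⟩, rfl⟩
    rw [SetLike.mem_coe, Matrix.toLin'_apply, (hgv i).1, if_pos (Finset.mem_univ i)]
    exact Q.smul_mem _ (he'Q i)
  · refine Submodule.eq_of_le_of_finrank_eq ?_ (by rw [finrank_img, hPQ.rank_left, hPQ.rank_right])
    rw [img, ← hspan', Submodule.map_span, Submodule.span_le]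
    rintro _ ⟨_, ⟨i, rfl⟩, rfl⟩
    rw [SetLike.mem_coe, Matrix.toLin'_apply, (hgv i).2, if_pos (Finset.mem_univ i)]
    exact P.smul_mem _ (heP i)

theorem pair_max {m : ℕ} (hm : 5 ≤ m) {P Q : Submodule F (ι → F)} (hPQ : UPair (f := f) m P Q)
    {M : Subgroup (GL ι F)} (hle : ∀ x, Pres f x → PStab x P Q → x ∈ M) (hM : ∀ x ∈ M, Pres f x)
    (hne : ∃ g ∈ M, ¬ PStab g P Q) : ∀ v, f v v = 0 → Cen hf M v := by
  obtain ⟨g, hg, hgS⟩ := hne
  obtain ⟨s, hs, hsP, hsQ⟩ := exists_swap hf hPQ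
  have hsM : s ∈ M := hle s hs (Or.inr ⟨hsP, hsQ⟩)
  have hcomm : ∀ x, Pres f x → PStab x Q P → x ∈ M := fun x hx h =>
    hle x hx (h.elim (fun e => Or.inl ⟨e.2, e.1⟩) (fun e => Or.inr ⟨e.2, e.1⟩))
  have hcinj : ∀ (x : ι → F), x ≠ 0 → (s : Mat) *ᵥ x ≠ 0 := fun x hx e => hx (by
    rw [← gl_inv_mulVec' s x, e, Matrix.mulVec_zero])
  obtain ⟨a, ha, ha0, c, hc, hcs, hT⟩ : ∃ a ∈ P, a ≠ 0 ∧ ∃ c : F, c ≠ 0 ∧ σ c = -c ∧ Tm M (c • fn hf a) a := by
    by_contra hcon
    have hfix : ∀ u ∈ P, ∀ v ∈ Q, f u v = 0 → ∀ E : GL ι F, Pres f E →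
        (∀ x, (E : Mat) *ᵥ x = x + f x u • v - f x v • u) →
        img (g * E * g⁻¹) P = P ∧ img (g * E * g⁻¹) Q = Q := by
      intro u hu v hv huv E hE hval
      constructor
      · by_contra hm'
        have hvu : f v u = 0 := swap_zero hf huv
        have hnu : f (-v) u = 0 := by rw [← neg_one_smul F v, hf.smul_left, hvu, mul_zero]
        have hval' : ∀ x, (E : Mat) *ᵥ x = x + f x (-v) • u - f x u • (-v) := fun x => by
          rw [hval, ← neg_one_smul F v, smul_right hf, map_neg, map_one, smul_smul]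
          module
        obtain ⟨a, ha, ha0, c, hc, hcs, hT⟩ :=
          exists_transvection hf hm hPQ.symm hcomm hM hg (Q.neg_mem hv) hu hnu hE hval' hm'
        refine hcon ⟨(s : Mat) *ᵥ a, hsQ ▸ mem_img ha, hcinj a ha0, c, hc, hcs, ?_⟩
        have h1 := hT.conj hsM
        convert h1 using 1
        refine LinearMap.ext fun x => ?_
        rw [LinearMap.comp_apply, Matrix.toLin'_apply, LinearMap.smul_apply, LinearMap.smul_apply, fn_apply, fn_apply]
        conv_lhs => rw [← gl_inv_mulVec s x, hs.1]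
      · by_contra hm'
        exact hcon (exists_transvection hf hm hPQ hle hM hg hu hv huv hE hval hm')
    have hgp := (hM g hg).1
    have hcase : ∀ X : Submodule F (ι → F), finrank F X = m →
        (∀ u ∈ P, ∀ v ∈ Q, f u v = 0 → ∀ E : GL ι F, Pres f E →
          (∀ x, (E : Mat) *ᵥ x = x + f x u • v - f x v • u) → img (g * E * g⁻¹) X = X) →
        X = img g P ∨ X = img g Q := by
      intro X hX hXfix
      set Y := img g⁻¹ X with hY
      have hYX : img g Y = X := by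
        refine le_antisymm ?_ ?_
        · rintro _ ⟨_, ⟨x, hx, rfl⟩, rfl⟩
          show (g : Mat) *ᵥ (((g⁻¹ : GL ι F) : Mat) *ᵥ x) ∈ X
          rw [gl_inv_mulVec]; exact hx
        · intro x hx
          exact ⟨((g⁻¹ : GL ι F) : Mat) *ᵥ x, ⟨x, hx, rfl⟩, gl_inv_mulVec g x⟩
      have hYdim : finrank F Y = m := by rw [hY, finrank_img, hX]
      have hYinv : ∀ u ∈ P, ∀ v ∈ Q, f u v = 0 → ∀ x ∈ Y, x + f x u • v - f x v • u ∈ Y := by
        intro u hu v hv huv x hx
        obtain ⟨E, hE, hval⟩ := exists_E hf (hPQ.left u hu u hu) (hPQ.right v hv v hv) huv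
        rw [← hval]
        have hgx : (g : Mat) *ᵥ x ∈ X := hYX ▸ mem_img hx
        have h1 := mem_img (g := g * E * g⁻¹) hgx
        rw [hXfix u hu v hv huv E hE hval, Units.val_mul, Units.val_mul, ← Matrix.mulVec_mulVec,
          ← Matrix.mulVec_mulVec, gl_inv_mulVec'] at h1
        refine ⟨(g : Mat) *ᵥ ((E : Mat) *ᵥ x), h1, ?_⟩
        exact gl_inv_mulVec' g _
      by_cases hYQ : Y ≤ Q
      · right
        rw [← hYX, Submodule.eq_of_le_of_finrank_eq hYQ (by rw [hYdim, hPQ.rank_right])]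
      · left
        obtain ⟨x, hx, hxQ⟩ := SetLike.not_le_iff_exists.1 hYQ
        obtain ⟨p, hp, q, hq, rfl⟩ := hPQ.exists_add x
        have hp0 : p ≠ 0 := fun e => hxQ (by rw [e, zero_add]; exact hq)
        have := le_of_invariant hf (by omega) hPQ hYinv hp hq hp0 hx
        rw [← hYX, ← Submodule.eq_of_le_of_finrank_eq this (by rw [hYdim, hPQ.rank_left])]
    have hne' : P ≠ Q := fun e => by
      have := hPQ.compl.inf_eq_bot
      rw [e, inf_idem] at this
      have h3 := hPQ.rank_right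
      rw [this, finrank_bot] at h3
      omega
    apply hgS
    rcases hcase P hPQ.rank_left (fun u hu v hv huv E hE hval => (hfix u hu v hv huv E hE hval).1) with h | h <;>
      rcases hcase Q hPQ.rank_right (fun u hu v hv huv E hE hval => (hfix u hu v hv huv E hE hval).2) with h' | h'
    · exact absurd (h.trans h'.symm) hne'
    · exact Or.inl ⟨h.symm, h'.symm⟩
    · exact Or.inr ⟨h'.symm, h.symm⟩
    · exact absurd (h.trans h'.symm) hne'
  have one : ∀ a' ∈ P, a' ≠ 0 → ∀ b ∈ P, Tm M (c • fn hf a') a' → b ∉ Submodule.span F {a'} →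
      Tm M (c • fn hf b) b := by
    intro a' ha' ha'0 b hb hT' hbn
    have hne2 : a' ∉ Submodule.span F {a' - b} := fun h => by
      obtain ⟨r, hr⟩ := Submodule.mem_span_singleton.1 h
      rcases eq_or_ne r 0 with rfl | hr0
      · rw [zero_smul] at hr; exact ha'0 hr.symm
      · refine hbn (Submodule.mem_span_singleton.2 ⟨1 - r⁻¹, ?_⟩)
        have h1 : r⁻¹ • a' = a' - b := by
          calc r⁻¹ • a' = r⁻¹ • (r • (a' - b)) := by rw [hr]
            _ = a' - b := inv_smul_smul₀ hr0 _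
        rw [sub_smul, one_smul, h1, sub_sub_cancel]
    obtain ⟨v, hv, hav, hv'⟩ := sep hf hPQ ((Submodule.span_singleton_le_iff_mem _ P).2 (P.sub_mem ha' hb)) ha' hne2
    have h0 := hv' _ (Submodule.mem_span_singleton_self _)
    obtain ⟨E, hE, hval⟩ := exists_E hf (hPQ.left _ (P.sub_mem ha' hb) _ (P.sub_mem ha' hb)) (hPQ.right v hv v hv) h0
    have hEM := hle E hE (Or.inl (E_stab hf hPQ (P.sub_mem ha' hb) hv hval))
    have h1 := hT'.conj hEM
    rw [hval, hPQ.left a' ha' _ (P.sub_mem ha' hb), hav, zero_smul, add_zero, one_smul, sub_sub_cancel] at h1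
    convert h1 using 1
    refine LinearMap.ext fun x => ?_
    rw [LinearMap.comp_apply, Matrix.toLin'_apply, LinearMap.smul_apply, LinearMap.smul_apply, fn_apply, fn_apply]
    conv_lhs => rw [← gl_inv_mulVec E x]
    have hbE : (E : Mat) *ᵥ a' = b := by
      rw [hval, hPQ.left a' ha' _ (P.sub_mem ha' hb), hav, zero_smul, add_zero, one_smul, sub_sub_cancel]
    conv_lhs => rw [← hbE, hE.1]
  have hmoveP : ∀ a' ∈ P, a' ≠ 0 → Tm M (c • fn hf a') a' := by
    intro a' ha' ha'0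
    by_cases h : a' ∈ Submodule.span F {a}
    · obtain ⟨z, hz, hza⟩ : ∃ z ∈ P, z ∉ Submodule.span F {a} := by
        refine SetLike.not_le_iff_exists.1 fun hle' => ?_
        have := Submodule.finrank_mono hle'
        rw [finrank_span_singleton ha0, hPQ.rank_left] at this
        omega
      refine one z hz (fun e => hza (e ▸ Submodule.zero_mem _)) a' ha' (one a ha ha0 z hz hT hza) fun h' => hza ?_
      obtain ⟨r, rfl⟩ := Submodule.mem_span_singleton.1 h'
      have hr : r ≠ 0 := fun e => ha'0 (by rw [e, zero_smul])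
      have := Submodule.smul_mem _ r⁻¹ h
      rwa [inv_smul_smul₀ hr] at this
    · exact one a ha ha0 a' ha' hT h
  have hPS : ∀ a' ∈ P, Cen hf M a' := by
    intro a' ha'
    refine ⟨hPQ.left a' ha' a' ha', fun e he => ?_⟩
    rcases eq_or_ne a' 0 with rfl | ha'0
    · have h0 : ((e • fn hf 0) : Dual F (ι → F)) 0 = 0 := map_zero _
      refine ⟨h0, ?_⟩
      have : transGL (e • fn hf (0 : ι → F)) 0 h0 = 1 := gl_ext fun x => by simp [transGL_apply]
      rw [this]; exact M.one_mem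
    obtain ⟨t, ht⟩ := exists_norm hf.ne_refl hf.involutive (r := e / c) (by rw [map_div₀, he, hcs, neg_div_neg_eq])
    rcases eq_or_ne t 0 with rfl | ht0
    · have : e = 0 := by simpa [hc] using ht.symm
      rw [this, zero_smul]; exact Tm.zero _
    obtain ⟨h1, h2⟩ := hmoveP _ (P.smul_mem t ha') (smul_ne_zero ht0 ha'0)
    have h0 : ((e • fn hf a') : Dual F _) a' = 0 := by simp [fn_apply, hPQ.left a' ha' a' ha']
    refine ⟨h0, ?_⟩
    have he' : transGL (e • fn hf a') a' h0 = transGL (c • fn hf (t • a')) (t • a') h1 := gl_ext fun x => by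
      simp only [transGL_apply, LinearMap.smul_apply, fn_apply, smul_right hf, smul_eq_mul, smul_smul]
      congr 2
      rw [show e = c * (t * σ t) by rw [ht, mul_div_cancel₀ _ hc]]
      ring
    rw [he']; exact h2
  have hQS : ∀ b ∈ Q, Cen hf M b := fun b hb => by
    obtain ⟨a', ha', rfl⟩ := (hsP.symm ▸ hb : b ∈ img s P)
    exact (hPS a' ha').map hf hsM hs
  intro x hx
  obtain ⟨p, hp, q, hq, rfl⟩ := hPQ.exists_add x
  by_cases hp0 : p = 0
  · rw [hp0, zero_add]; exact hQS q hq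
  have htr : f p q + σ (f p q) = 0 := by
    rw [hf.add_left, add_right hf, add_right hf, hPQ.left p hp p hp, hPQ.right q hq q hq, hf.herm q p] at hx
    linear_combination hx
  have main : ∀ q ∈ Q, f p q ≠ 0 → f p q + σ (f p q) = 0 → Cen hf M (p + q) := fun q hq h htr => by
    have := (hPS p hp).line hf (hQS q hq) (a := (f p q)⁻¹) (by
      rw [map_inv₀, show σ (f p q) = -f p q by linear_combination htr, inv_neg])
    rwa [inv_mul_cancel₀ h, one_smul] at this
  by_cases hpq : f p q = 0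
  · obtain ⟨q₁, hq₁, hpq₁, -⟩ := sep hf hPQ (bot_le : ⊥ ≤ P) hp (by simpa using hp0)
    obtain ⟨d, hd0, hd⟩ := exists_skew hf
    have hval : f p (σ d • q₁) = d := by rw [smul_right hf, hf.involutive, hpq₁, mul_one]
    have h1 := main _ (Q.smul_mem (σ d) hq₁) (by rw [hval]; exact hd0) (by rw [hval, hd]; ring)
    set q₀ := σ d • q₁
    have e : f p (q - q₀) = -d := by
      have : f p (q - q₀) + f p q₀ = f p q := by rw [← add_right hf, sub_add_cancel]
      linear_combination this - hval + hpq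
    have hval2 : f (p + q₀) (q - q₀) = -d := by
      rw [hf.add_left, hPQ.right q₀ (Q.smul_mem _ hq₁) _ (Q.sub_mem hq (Q.smul_mem _ hq₁)), add_zero, e]
    have := h1.line hf (hQS (q - q₀) (Q.sub_mem hq (Q.smul_mem _ hq₁))) (a := (-d)⁻¹) (by rw [map_inv₀, map_neg, hd, inv_neg])
    rwa [hval2, inv_mul_cancel₀ (neg_ne_zero.2 hd0), one_smul, show p + q₀ + (q - q₀) = p + q by abel] at this
  · exact main q hq hpq htr

theorem exists_not_pstab {m : ℕ} (hm : 2 ≤ m) {P Q : Submodule F (ι → F)} (hPQ : UPair (f := f) m P Q) :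
    ∃ g, Pres f g ∧ ¬ PStab g P Q := by
  obtain ⟨a, ha, ha0⟩ := Submodule.exists_mem_ne_zero_of_ne_bot
    (fun e => by have := hPQ.rank_left; rw [e, finrank_bot] at this; omega : P ≠ ⊥)
  obtain ⟨b, hb, hab, -⟩ := sep hf hPQ (bot_le : ⊥ ≤ P) ha (by simpa using ha0)
  obtain ⟨a₂, ha₂, ha₂a⟩ : ∃ z ∈ P, z ∉ Submodule.span F {a} := by
    refine SetLike.not_le_iff_exists.1 fun hle' => ?_
    have := Submodule.finrank_mono hle'
    rw [finrank_span_singleton ha0, hPQ.rank_left] at this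
    omega
  obtain ⟨d, hd0, hd⟩ := exists_skew hf
  set a₂' := a₂ - f a₂ b • a with ha₂'
  have ha₂'P : a₂' ∈ P := P.sub_mem ha₂ (P.smul_mem _ ha)
  have ha₂'0 : a₂' ≠ 0 := fun e => ha₂a (Submodule.mem_span_singleton.2 ⟨f a₂ b, (sub_eq_zero.1 e).symm⟩)
  have ha₂'b : f a₂' b = 0 := by rw [ha₂', sub_left hf, hf.smul_left, hab, mul_one, sub_self]
  have hba : f b a = 1 := by rw [hf.herm, hab, map_one]
  set w := a + d • b with hw
  have hww : f w w = 0 := by
    rw [hw, hf.add_left, add_right hf, add_right hf, hf.smul_left, hf.smul_left, smul_right hf, smul_right hf,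
      hPQ.left a ha a ha, hPQ.right b hb b hb, hab, hba, hd]
    ring
  obtain ⟨g, hg, hval⟩ := tg hf (c := (![] : Fin 0 → ι → F)) (fun i => i.elim0) hww hd
  refine ⟨g, pres_tgrp hf (Subgroup.mem_inf.1 hg).1, ?_⟩
  have hfaw : f a w = -d := by rw [hw, add_right hf, smul_right hf, hPQ.left a ha a ha, hab, hd]; ring
  have h2 : (g : Mat) *ᵥ a₂' = a₂' := by
    rw [hval, hw, add_right hf, smul_right hf, hPQ.left a₂' ha₂'P a ha, ha₂'b, mul_zero, add_zero, mul_zero, zero_smul,
      add_zero]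
  rintro (⟨h, -⟩ | ⟨h, -⟩)
  · have h1 : (g : Mat) *ᵥ a ∈ P := h ▸ mem_img ha
    rw [hval, hfaw, hw] at h1
    have h3 : (d * -d * d) • b ∈ P := by
      have := P.sub_mem (P.sub_mem h1 ha) (P.smul_mem (d * -d) ha)
      convert this using 1
      module
    have : (d * -d * d) • b ∈ P ⊓ Q := ⟨h3, Q.smul_mem _ hb⟩
    rw [hPQ.compl.inf_eq_bot, Submodule.mem_bot, smul_eq_zero] at this
    rcases this with e | e
    · exact mul_ne_zero (mul_ne_zero hd0 (neg_ne_zero.2 hd0)) hd0 e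
    · rw [e, zero_right hf] at hab; exact zero_ne_one hab
  · have h1 : (g : Mat) *ᵥ a₂' ∈ Q := h ▸ mem_img ha₂'P
    rw [h2] at h1
    have : a₂' ∈ P ⊓ Q := ⟨ha₂'P, h1⟩
    rw [hPQ.compl.inf_eq_bot, Submodule.mem_bot] at this
    exact ha₂'0 this

end Cfsg.Agent.Classical.MaxSU
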