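import Cfsg.Agent.Lib.Classical.MaxSUBase

/-!
Subspace stabilisers in special unitary groups are maximal.
-/

set_option autoImplicit false
set_option linter.unusedSectionVars false

open Module Matrix

namespace Cfsg.Agent.Classical.MaxSU

open HermSep MaxLin HermGen

variable {F : Type*} [Field F] [Fintype F] {ι : Type} [Fintype ι] [DecidableEq ι]
variable {σ : F ≃+* F} {f : (ι → F) → (ι → F) → F} (hf : Cfsg.Geo.IsUnitaryForm σ f)

local notation "Mat" => Matrix ι ι F

/-- An orthogonal splitting of the space. -/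
structure Split (W P : Submodule F (ι → F)) : Prop where
  orth : ∀ w ∈ W, ∀ p ∈ P, f w p = 0
  top : W ⊔ P = ⊤

include hf

theorem sum_zero_right {W P : Submodule F (ι → F)} (h : Split (f := f) W P) {p : ι → F} (hp : p ∈ P)
    (h0 : ∀ y ∈ P, f p y = 0) : p = 0 := by
  by_contra hne
  obtain ⟨y, hy⟩ := (hf.nondegenerate p hne).2
  obtain ⟨w, hw, q, hq, rfl⟩ := Submodule.mem_sup.1 (h.top ▸ Submodule.mem_top : y ∈ W ⊔ P)
  exact hy (by rw [add_right hf, swap_zero hf (h.orth w hw p hp), h0 q hq, add_zero])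

theorem Split.symm {W P : Submodule F (ι → F)} (h : Split (f := f) W P) : Split (f := f) P W :=
  ⟨fun p hp w hw => swap_zero hf (h.orth w hw p hp), by rw [sup_comm]; exact h.top⟩

theorem Split.dim {W P : Submodule F (ι → F)} (h : Split (f := f) W P) :
    finrank F W + finrank F P = Fintype.card ι := by
  have hinf : W ⊓ P = ⊥ := by
    rw [Submodule.eq_bot_iff]
    rintro x ⟨hx, hx'⟩
    exact sum_zero_right hf h hx' fun y hy => h.orth x hx y hy
  have := Submodule.finrank_sup_add_finrank_inf_eq W P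
  rw [hinf, h.top, finrank_bot, finrank_top, Module.finrank_pi] at this
  omega

theorem Split.iso_bound {W P : Submodule F (ι → F)} (h : Split (f := f) W P) {S : Submodule F (ι → F)} (hS : S ≤ P)
    (h0 : ∀ z ∈ S, f z z = 0) : 2 * finrank F S ≤ finrank F P := by
  have hzero := polar_zero hf h0
  haveI : Finite (Dual F ((ι → F) ⧸ (S ⊔ W))) := Module.finite_of_finite F
  let ψ : S → Dual F ((ι → F) ⧸ (S ⊔ W)) := fun z => (S ⊔ W).liftQ (fn hf z) fun x hx => by
    obtain ⟨a, ha, b, hb, rfl⟩ := Submodule.mem_sup.1 hx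
    show f (a + b) z = 0
    rw [hf.add_left, hzero a ha z z.2, h.orth b hb z (hS z.2), add_zero]
  have hinj : Function.Injective ψ := fun a b e => by
    by_contra hab
    obtain ⟨x, hx⟩ := (hf.nondegenerate ((a : ι → F) - b) (sub_ne_zero.2 fun h => hab (Subtype.ext h))).1
    apply hx
    rw [hf.herm, sub_left hf, map_sub, ← hf.herm, ← hf.herm, sub_eq_zero]
    exact LinearMap.congr_fun e (Submodule.Quotient.mk x)
  have h1 := Nat.card_le_card_of_injective ψ hinj
  rw [Module.natCard_eq_pow_finrank (K := F), Module.natCard_eq_pow_finrank (K := F) (V := Dual F ((ι → F) ⧸ (S ⊔ W))),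
    Subspace.dual_finrank_eq] at h1
  rw [Nat.pow_le_pow_iff_right (Finite.one_lt_card)] at h1
  have h2 := Submodule.finrank_quotient_add_finrank (S ⊔ W)
  have hinf : S ⊓ W = ⊥ := by
    rw [Submodule.eq_bot_iff]
    rintro x ⟨hx, hx'⟩
    exact sum_zero_right hf h (hS hx) fun y hy => h.orth x hx' y hy
  have h3 := Submodule.finrank_sup_add_finrank_inf_eq S W
  rw [hinf, finrank_bot] at h3
  rw [Module.finrank_pi] at h2
  have h4 := h.dim hf
  omega

/-- A vector of `P` with prescribed inner products with a family and prescribed norm. -/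
theorem exists_prescribed {W P : Submodule F (ι → F)} (h : Split (f := f) W P) {k : ℕ} (c : Fin k → ι → F)
    (hc : ∀ i, c i ∈ P) {z₀ : ι → F} (hz₀ : z₀ ∈ P) (hdim : 2 * (k + 1) < finrank F P) {γ : F} (hγ : σ γ = γ) :
    ∃ z ∈ P, f z z = γ ∧ (∀ i, f z (c i) = f z₀ (c i)) ∧
      (z ∈ Submodule.span F (Set.range c) → z₀ ∈ Submodule.span F (Set.range c)) := by
  obtain ⟨s, hs, hss⟩ : ∃ s ∈ P ⊓ perp hf (Fin.cons z₀ c : Fin (k + 1) → ι → F), f s s ≠ 0 := by
    by_contra hcon
    push Not at hcon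
    have h1 := h.iso_bound hf inf_le_left hcon
    have h2 := Submodule.finrank_sup_add_finrank_inf_eq P (perp hf (Fin.cons z₀ c : Fin (k + 1) → ι → F))
    have h3 := Submodule.finrank_le (P ⊔ perp hf (Fin.cons z₀ c : Fin (k + 1) → ι → F))
    have h4 := finrank_perp hf (Fin.cons z₀ c : Fin (k + 1) → ι → F)
    rw [Module.finrank_pi] at h3
    omega
  obtain ⟨hsP, hsc⟩ := Submodule.mem_inf.1 hs
  rw [mem_perp] at hsc
  have hsz : f s z₀ = 0 := by simpa using hsc 0
  obtain ⟨t, ht⟩ := exists_norm hf.ne_refl hf.involutive (r := (γ - f z₀ z₀) / f s s)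
    (by rw [map_div₀, map_sub, hγ, ← hf.herm z₀ z₀, ← hf.herm s s])
  refine ⟨z₀ + t • s, P.add_mem hz₀ (P.smul_mem _ hsP), ?_, fun i => ?_, fun hm => ?_⟩
  · rw [hf.add_left, add_right hf, add_right hf, hf.smul_left, hf.smul_left, smul_right hf, smul_right hf, hsz,
      swap_zero hf hsz, ← mul_assoc, ht, div_mul_cancel₀ _ hss]
    ring
  · rw [hf.add_left, hf.smul_left, show f s (c i) = 0 by simpa using hsc i.succ, mul_zero, add_zero]
  · obtain ⟨r, hr⟩ := (Submodule.mem_span_range_iff_exists_fun F).1 hm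
    have h5 : f (∑ i, r i • c i) s = 0 := by
      rw [HermGen.sum_left hf, Finset.sum_eq_zero fun i _ => by
        rw [swap_zero hf (show f s (c i) = 0 by simpa using hsc i.succ), mul_zero]]
    rw [hr, hf.add_left, hf.smul_left, swap_zero hf hsz, zero_add] at h5
    rw [(mul_eq_zero.1 h5).resolve_right hss, zero_smul, add_zero] at hm
    exact hm

/-- A vector of `P` with one prescribed inner product and prescribed norm. -/
theorem exists_prescribed_one {W P : Submodule F (ι → F)} (h : Split (f := f) W P) (hdim : 4 < finrank F P)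
    {p : ι → F} (hp : p ∈ P) (hp0 : p ≠ 0) (β : F) {γ : F} (hγ : σ γ = γ) :
    ∃ z ∈ P, f z z = γ ∧ f z p = β ∧ z ∉ Submodule.span F {p} := by
  obtain ⟨y, hy⟩ := (hf.nondegenerate p hp0).1
  obtain ⟨w, hw, q, hq, rfl⟩ := Submodule.mem_sup.1 (h.top ▸ Submodule.mem_top : y ∈ W ⊔ P)
  have hqp : f q p ≠ 0 := by
    intro e; exact hy (by rw [hf.add_left, h.orth w hw p hp, e, add_zero])
  obtain ⟨e, he, hep⟩ : ∃ e ∈ P ⊓ perp hf ![p], e ∉ Submodule.span F {p} := by
    refine SetLike.not_le_iff_exists.1 fun hle => ?_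
    have h1 := Submodule.finrank_mono hle
    rw [finrank_span_singleton hp0] at h1
    have h2 := Submodule.finrank_sup_add_finrank_inf_eq P (perp hf ![p])
    have h3 := Submodule.finrank_le (P ⊔ perp hf ![p])
    have h4 := finrank_perp hf ![p]
    rw [Module.finrank_pi] at h3
    omega
  obtain ⟨heP, hec⟩ := Submodule.mem_inf.1 he
  have hep0 : f e p = 0 := (mem_perp hf).1 hec 0
  obtain ⟨z₀, hz₀, hz₀p, hz₀n⟩ : ∃ z₀ ∈ P, f z₀ p = β ∧ z₀ ∉ Submodule.span F {p} := by
    by_cases hs : (β / f q p) • q ∈ Submodule.span F {p}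
    · refine ⟨(β / f q p) • q + e, P.add_mem (P.smul_mem _ hq) heP, ?_, fun hm => hep ?_⟩
      · rw [hf.add_left, hf.smul_left, div_mul_cancel₀ _ hqp, hep0, add_zero]
      · simpa using Submodule.sub_mem _ hm hs
    · exact ⟨_, P.smul_mem _ hq, by rw [hf.smul_left, div_mul_cancel₀ _ hqp], hs⟩
  obtain ⟨z, hz, hzz, hzc, hzn⟩ := exists_prescribed hf h ![p] (fun i => by fin_cases i; exact hp) hz₀ (by omega) hγ
  refine ⟨z, hz, hzz, ?_, fun hm => hz₀n ?_⟩
  · have := hzc 0
    simp only [Matrix.cons_val_zero] at this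
    rw [this, hz₀p]
  · rw [Matrix.range_cons, Matrix.range_empty, Set.union_empty] at hzn
    exact hzn hm

/-- Isotropic vectors span a non-degenerate subspace of dimension at least two. -/
theorem iso_span {W P : Submodule F (ι → F)} (h : Split (f := f) W P) (hdim : 2 ≤ finrank F P)
    {X : Submodule F (ι → F)} (hX : ∀ s ∈ P, f s s = 0 → s ∈ X) : P ≤ X := by
  intro v hv
  by_cases hvv : f v v = 0
  · exact hX v hv hvv
  obtain ⟨y, hy, hyv, hyy⟩ : ∃ y ∈ P, f y v = 0 ∧ f y y ≠ 0 := by
    by_contra hcon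
    push Not at hcon
    obtain ⟨z, hz, hzv⟩ : ∃ z ∈ P, z ∉ Submodule.span F {v} := by
      refine SetLike.not_le_iff_exists.1 fun hle => ?_
      have h1 := Submodule.finrank_mono hle
      rw [finrank_span_singleton (fun e : v = 0 => hvv (by rw [e, zero_left hf]))] at h1
      omega
    set Y := P ⊓ LinearMap.ker (fn hf v)
    have hY : ∀ a ∈ Y, f a a = 0 := fun a ha =>
      hcon a (Submodule.mem_inf.1 ha).1 (Submodule.mem_inf.1 ha).2
    have hy0 : z - (f z v / f v v) • v ∈ Y := Submodule.mem_inf.2 ⟨P.sub_mem hz (P.smul_mem _ hv), by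
      rw [LinearMap.mem_ker, fn_apply, sub_left hf, hf.smul_left, div_mul_cancel₀ _ hvv, sub_self]⟩
    apply hzv
    have h0 : z - (f z v / f v v) • v = 0 := sum_zero_right hf h (Submodule.mem_inf.1 hy0).1 fun y hy => by
      have h1 : y - (f y v / f v v) • v ∈ Y := Submodule.mem_inf.2 ⟨P.sub_mem hy (P.smul_mem _ hv), by
        rw [LinearMap.mem_ker, fn_apply, sub_left hf, hf.smul_left, div_mul_cancel₀ _ hvv, sub_self]⟩
      have h2 := polar_zero hf hY _ hy0 _ h1
      have h3 : f (z - (f z v / f v v) • v) v = 0 := (Submodule.mem_inf.1 hy0).2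
      rw [hf.herm, sub_left hf, hf.smul_left, swap_zero hf h3, mul_zero, sub_zero, ← hf.herm] at h2
      exact h2
    rw [sub_eq_zero.1 h0]
    exact Submodule.smul_mem _ _ (Submodule.mem_span_singleton_self v)
  obtain ⟨t, ht⟩ := exists_norm hf.ne_refl hf.involutive (r := -(f v v / f y y))
    (by rw [map_neg, map_div₀, ← hf.herm v v, ← hf.herm y y])
  have ht0 : t ≠ 0 := fun e => by
    rw [e, zero_mul, zero_eq_neg, div_eq_zero_iff] at ht
    exact ht.elim hvv hyy
  have main : ∀ t', t' * σ t' = -(f v v / f y y) → v + t' • y ∈ X := fun t' ht' => by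
    refine hX _ (P.add_mem hv (P.smul_mem _ hy)) ?_
    rw [hf.add_left, add_right hf, add_right hf, hf.smul_left, hf.smul_left, smul_right hf, smul_right hf, hyv,
      swap_zero hf hyv, ← mul_assoc, ht']
    field_simp; ring
  obtain ⟨a, ha⟩ : ∃ a, a ≠ σ a := by
    by_contra hc; push Not at hc; exact hf.ne_refl (RingEquiv.ext fun a => (hc a).symm)
  have ha0 : a ≠ 0 := fun e => ha (by rw [e, map_zero])
  have hz1 : a / σ a - 1 ≠ 0 := sub_ne_zero.2 fun e => ha ((div_eq_one_iff_eq ((map_ne_zero σ).2 ha0)).1 e)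
  have h1 := main t ht
  have h2 := main (t * (a / σ a)) (by
    rw [map_mul, map_div₀, hf.involutive, ← ht]
    have := (map_ne_zero σ).2 ha0
    field_simp)
  have h3 := X.sub_mem h2 h1
  rw [add_sub_add_left_eq_sub, ← sub_smul, ← mul_sub_one] at h3
  have h4 := X.smul_mem (t * (a / σ a - 1))⁻¹ h3
  rw [inv_smul_smul₀ (mul_ne_zero ht0 hz1)] at h4
  simpa using X.sub_mem h1 (X.smul_mem t h4)

/-- A non-zero subspace invariant under the transvections of a non-degenerate subspace is the whole subspace. -/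
theorem invariant_eq {W P : Submodule F (ι → F)} (h : Split (f := f) W P) (hdim : 2 ≤ finrank F P)
    {D : Submodule F (ι → F)} (hDP : D ≤ P) (hD0 : D ≠ ⊥)
    (hinv : ∀ v ∈ D, ∀ s ∈ P, f s s = 0 → f v s ≠ 0 → s ∈ D) : D = P := by
  refine le_antisymm hDP (iso_span hf h hdim fun s hs hss => ?_)
  by_contra hsD
  obtain ⟨d, hd, hd0⟩ := Submodule.exists_mem_ne_zero_of_ne_bot hD0
  have hperp : ∀ v ∈ D, f v s = 0 := fun v hv => by
    by_contra hne; exact hsD (hinv v hv s hs hss hne)
  obtain ⟨s₁, hs₁, hs₁s, hds⟩ : ∃ s₁ ∈ P, f s₁ s₁ = 0 ∧ f d s₁ ≠ 0 := by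
    by_contra hcon
    push Not at hcon
    refine hd0 (sum_zero_right hf h (hDP hd) fun y hy => ?_)
    exact swap_zero hf (iso_span hf h hdim (X := LinearMap.ker (fn hf d))
      (fun s hs hss => LinearMap.mem_ker.2 (swap_zero hf (hcon s hs hss))) hy)
  have hs₁D := hinv d hd s₁ hs₁ hs₁s hds
  have h10 : f s₁ s = 0 := hperp s₁ hs₁D
  have h2 : s₁ + s ∈ D := by
    refine hinv d hd _ (P.add_mem hs₁ hs) ?_ ?_
    · rw [hf.add_left, add_right hf, add_right hf, hs₁s, hss, h10, swap_zero hf h10]; ring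
    · rw [add_right hf, hperp d hd, add_zero]; exact hds
  exact hsD (by simpa using D.sub_mem h2 hs₁D)

theorem exists_not_stab {W : Submodule F (ι → F)} (hn : 2 ≤ Fintype.card ι) (hW0 : W ≠ ⊥) (hW1 : W ≠ ⊤) :
    ∃ g, Pres f g ∧ g ∉ Cfsg.Geo.subspaceStabilizer W := by
  by_contra hcon
  push Not at hcon
  refine hW1 (invariant_eq hf (W := ⊥) (P := ⊤) ⟨fun w hw p _ => by
      rw [(Submodule.mem_bot F).1 hw, zero_left hf], bot_sup_eq _⟩
    (by rw [finrank_top, Module.finrank_pi]; exact hn) le_top hW0 fun v hv s _ hs hvs => ?_)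
  obtain ⟨d, hd0, hd⟩ := exists_skew hf
  have h0 : ((d • fn hf s) : Dual F _) s = 0 := by simp [fn_apply, hs]
  have h1 := ((hcon _ (pres_T hf hs hd h0)) v).1 hv
  change (transGL (d • fn hf s) s h0 : Mat) *ᵥ v ∈ W at h1
  rw [transGL_apply, LinearMap.smul_apply, fn_apply, smul_eq_mul] at h1
  have h2 := W.sub_mem h1 hv
  rw [add_sub_cancel_left] at h2
  have h3 := W.smul_mem (d * f v s)⁻¹ h2
  rwa [inv_smul_smul₀ (mul_ne_zero hd0 hvs)] at h3

theorem T_mem_stab {W : Submodule F (ι → F)} {v : ι → F} {a : F} (h : ((a • fn hf v) : Dual F _) v = 0)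
    (hW : v ∈ W ∨ ∀ w ∈ W, f w v = 0) : transGL (a • fn hf v) v h ∈ Cfsg.Geo.subspaceStabilizer W :=
  (Subgroup.mem_inf.1 (transGL_mem_stab h (hW.imp id fun hw w hw' => by simp [fn_apply, hw w hw']))).1

/-- Totally isotropic subspaces. -/
theorem singular_max {W : Submodule F (ι → F)} (hW : ∀ u ∈ W, ∀ v ∈ W, f u v = 0) (hn : 5 ≤ Fintype.card ι)
    {M : Subgroup (GL ι F)} (hle : ∀ g, Pres f g → g ∈ Cfsg.Geo.subspaceStabilizer W → g ∈ M)
    (hP : ∀ g ∈ M, Pres f g) (hg : ∃ g ∈ M, g ∉ Cfsg.Geo.subspaceStabilizer W) : ∀ v, f v v = 0 → Cen hf M v := by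
  obtain ⟨g, hg, hgW⟩ := hg
  have hst : ∀ v, f v v = 0 → (v ∈ W ∨ ∀ w ∈ W, f w v = 0) → Cen hf M v := fun v hv h =>
    cen_of_mem hf hv fun a ha h0 => hle _ (pres_T hf hv ha h0) (T_mem_stab hf h0 h)
  obtain ⟨u, hu, a, haW, hua⟩ : ∃ u, Cen hf M u ∧ ∃ a ∈ W, f u a ≠ 0 := by
    by_contra hcon
    push Not at hcon
    apply hgW
    refine mem_stabilizer_of_mapsTo fun w hw => ?_
    by_contra hgw
    have hginv : ∃ a ∈ W, ((g⁻¹ : GL ι F) : Mat) *ᵥ a ∉ W := by
      by_contra hc
      push Not at hc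
      refine hgW ?_
      have h1 := mem_stabilizer_of_mapsTo hc
      simpa using inv_mem h1
    obtain ⟨a, ha, hb⟩ := hginv
    set b := ((g⁻¹ : GL ι F) : Mat) *ᵥ a with hbdef
    have hgb : (g : Mat) *ᵥ b = a := gl_inv_mulVec g a
    have hp := (hP g hg).1
    by_cases hbW : ∀ x ∈ W, f x b = 0
    · obtain ⟨y, hby, hy⟩ := exists_sep hf (S := W) hb
      have hbb : f b b = 0 := by rw [← hp b b, hgb]; exact hW a ha a ha
      obtain ⟨t, ht⟩ := WittHerm.exists_trace (σ := (σ : F →+* F))
        (fun h => hf.ne_refl (RingEquiv.ext fun a => RingHom.congr_fun h a)) hf.involutive (c := -(f y y))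
        (by show σ _ = _; rw [map_neg, ← hf.herm y y])
      have ht' : t + σ t = -(f y y) := ht
      set e := y + t • b with he
      have hyb : f y b = 1 := by rw [hf.herm, hby, map_one]
      have hee : f e e = 0 := by
        rw [he, hf.add_left, add_right hf, add_right hf, hf.smul_left, hf.smul_left, smul_right hf, smul_right hf,
          hyb, hby, hbb]
        linear_combination ht'
      have heW : ∀ x ∈ W, f x e = 0 := fun x hx => by
        rw [he, add_right hf, smul_right hf, hy x hx, hbW x hx]; ring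
      have h1 := hcon _ ((hst e hee (Or.inr heW)).map hf hg (hP g hg)) a ha
      rw [← hgb, hp, he, hf.add_left, hf.smul_left, hbb, hyb, mul_zero, add_zero] at h1
      exact one_ne_zero h1
    · push Not at hbW
      obtain ⟨x, hx, hxb⟩ := hbW
      have h1 := hcon _ ((hst x (hW x hx x hx) (Or.inl hx)).map hf hg (hP g hg)) a ha
      rw [← hgb, hp] at h1
      exact hxb h1
  have haS : Cen hf M a := hst a (hW a haW a haW) (Or.inl haW)
  set u' := (f u a)⁻¹ • u with hu'
  have hu'a : f u' a = 1 := by rw [hu', hf.smul_left, inv_mul_cancel₀ hua]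
  have hu'S : Cen hf M u' := hu.smul hf _
  have haa : f a a = 0 := hW a haW a haW
  -- every isotropic vector not orthogonal to `a`
  have main : ∀ x, f x x = 0 → f x a ≠ 0 → Cen hf M x := by
    intro x hxx hxa
    set x' := (f x a)⁻¹ • x with hx'
    have hx'a : f x' a = 1 := by rw [hx', hf.smul_left, inv_mul_cancel₀ hxa]
    have hx'x : f x' x' = 0 := by rw [hx', hf.smul_left, smul_right hf, hxx, mul_zero, mul_zero]
    suffices Cen hf M x' by
      have := this.smul hf (f x a)
      rwa [hx', smul_inv_smul₀ hxa] at this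
    set z := x' - u' with hz
    have hza : f z a = 0 := by rw [hz, sub_left hf, hu'a, hx'a, sub_self]
    obtain ⟨r, hr⟩ := WittHerm.exists_trace (σ := (σ : F →+* F))
      (fun h => hf.ne_refl (RingEquiv.ext fun a => RingHom.congr_fun h a)) hf.involutive (c := f z z)
      (by show σ _ = _; rw [← hf.herm z z])
    have hr' : r + σ r = f z z := hr
    have h1 : fn hf a z = 0 := hza
    have h2 : (r • fn hf a - fn hf z) a = 0 := by
      rw [LinearMap.sub_apply, LinearMap.smul_apply, fn_apply, fn_apply, haa, swap_zero hf hza, smul_zero, sub_zero]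
    set E := transGL (r • fn hf a - fn hf z) a h2 * transGL (fn hf a) z h1 with hE
    have hEv : ∀ y, (E : Mat) *ᵥ y = y + f y a • z + ((r - f z z) * f y a - f y z) • a := by
      intro y
      rw [hE, Units.val_mul, ← Matrix.mulVec_mulVec, transGL_apply, transGL_apply]
      simp only [LinearMap.sub_apply, LinearMap.smul_apply, fn_apply, smul_eq_mul, hf.add_left, hf.smul_left, hza]
      module
    have hEp : Pres f E := by
      refine ⟨fun y w => ?_, ?_⟩
      · simp only [hEv, hf.add_left, add_right hf, hf.smul_left, smul_right hf, hza, swap_zero hf hza, haa,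
          map_sub, map_mul, hf.herm z w, hf.herm a w]
        rw [show σ (f z z) = f z z from (hf.herm z z).symm]
        linear_combination (f y a * σ (f w a)) * hr'
      · rw [hE, Units.val_mul, Matrix.det_mul]
        have e1 := congrArg Units.val (det_transGL (r • fn hf a - fn hf z) a h2)
        have e2 := congrArg Units.val (det_transGL (fn hf a) z h1)
        simp only [Units.val_one, Matrix.GeneralLinearGroup.val_det_apply] at e1 e2
        rw [e1, e2, one_mul]
    have hEW : E ∈ Cfsg.Geo.subspaceStabilizer W := mem_stabilizer_of_mapsTo fun w hw => by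
      rw [hEv, hW w hw a haW, zero_smul, add_zero]
      exact W.add_mem hw (W.smul_mem _ haW)
    have hEu := hu'S.map hf (hle E hEp hEW) hEp
    rw [hEv, hu'a, one_smul, mul_one] at hEu
    set s := r - f z z - f u' z
    have he : u' + z + s • a = x' + s • a := by rw [hz, add_sub_cancel]
    rw [he] at hEu
    have hs : σ s = -s := by
      have h5 := hEu.1
      simp only [hf.add_left, add_right hf, hf.smul_left, smul_right hf, haa, hx'x, hx'a, hf.herm a x', map_one,
        mul_zero, mul_one, add_zero, zero_add] at h5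
      linear_combination h5
    refine Cen.unline hf (v := a) (u := x') haS hs ?_
    rwa [hx'a, mul_one]
  intro x hxx
  by_cases hxa : f x a = 0
  · rcases eq_or_ne x 0 with rfl | hx0
    · exact hst 0 hxx (Or.inl W.zero_mem)
    have ha0 : a ≠ 0 := fun e => hua (by rw [e, zero_right hf])
    have hsp : ∀ z : ι → F, z ≠ 0 → z ∉ Submodule.span F (Set.range (![] : Fin 0 → ι → F)) := fun z hz => by
      simpa using hz
    obtain ⟨y, hyy, -, hyx, hya⟩ := exists_isotropic_two hf (![] : Fin 0 → ι → F) (by omega) (hsp x hx0) (hsp a ha0)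
    obtain ⟨d, hd0, hd⟩ := exists_skew hf
    have hxy : f x y ≠ 0 := fun e => hyx (swap_zero hf e)
    refine Cen.unline hf (main y hyy hya) hd (main _ ?_ ?_)
    · rw [hf.add_left, add_right hf, add_right hf, hf.smul_left, hf.smul_left, smul_right hf, smul_right hf, hxx, hyy,
        hf.herm y x, map_mul, hd]
      ring
    · rw [hf.add_left, hf.smul_left, hxa, zero_add]
      exact mul_ne_zero (mul_ne_zero hd0 hxy) hya
  · exact main x hxx hxa

theorem transit {W P : Submodule F (ι → F)} (h : Split (f := f) W P) (hdim : 7 ≤ finrank F P)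
    {M : Subgroup (GL ι F)} (hP : ∀ s ∈ P, f s s = 0 → Cen hf M s) {w p p' : ι → F} (hw : w ∈ W) (hp : p ∈ P)
    (hp' : p' ∈ P) (hp0 : p ≠ 0) (hp'0 : p' ≠ 0) (hn : f p' p' = f p p) (hS : Cen hf M (w + p)) :
    Cen hf M (w + p') := by
  obtain ⟨d, hd0, hd⟩ := exists_skew hf
  have one : ∀ x y, x ∈ P → y ∈ P → f y y = f x x → f x y + σ (f x y) = f x x + f x x → f x y ≠ f x x →
      Cen hf M (w + x) → Cen hf M (w + y) := by
    intro x y hx hy hxy htr hne hSx
    have hne' : f x y - f x x ≠ 0 := sub_ne_zero.2 hne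
    have e : ∀ z, f z (y - x) = f z y - f z x := fun z => by
      rw [eq_sub_iff_add_eq, ← add_right hf, sub_add_cancel]
    have hiso : f (y - x) (y - x) = 0 := by
      rw [sub_left hf, e, e, hxy, hf.herm y x]
      linear_combination (-1 : F) * htr
    have hsk : σ (f x y - f x x)⁻¹ = -(f x y - f x x)⁻¹ := by
      rw [map_inv₀, map_sub, show σ (f x x) = f x x from (hf.herm x x).symm, ← inv_neg]
      congr 1
      linear_combination htr
    have := hSx.line hf (hP _ (P.sub_mem hy hx) hiso) hsk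
    rwa [hf.add_left, h.orth w hw _ (P.sub_mem hy hx), zero_add, e, inv_mul_cancel₀ hne', one_smul,
      show w + x + (y - x) = w + y by abel] at this
  have indep : ∀ x y, x ∈ P → y ∈ P → x ≠ 0 → y ∉ Submodule.span F {x} → f y y = f x x →
      Cen hf M (w + x) → Cen hf M (w + y) := by
    intro x y hx hy hx0 hyx hxy hSx
    have hxy' : x ∉ Submodule.span F {y} := fun hm => by
      obtain ⟨r, hr⟩ := Submodule.mem_span_singleton.1 hm
      rcases eq_or_ne r 0 with rfl | hr0
      · exact hx0 (by rw [← hr, zero_smul])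
      · exact hyx (Submodule.mem_span_singleton.2 ⟨r⁻¹, by rw [← hr, inv_smul_smul₀ hr0]⟩)
    obtain ⟨a₀, ha1, ha0⟩ := exists_sep hf hxy'
    obtain ⟨b₀, hb1, hb0⟩ := exists_sep hf hyx
    obtain ⟨wa, hwa, a, ha, rfl⟩ := Submodule.mem_sup.1 (h.top ▸ Submodule.mem_top : a₀ ∈ W ⊔ P)
    obtain ⟨wb, hwb, b, hb, rfl⟩ := Submodule.mem_sup.1 (h.top ▸ Submodule.mem_top : b₀ ∈ W ⊔ P)
    have a1 : f a x = 1 := by
      rw [add_right hf, swap_zero hf (h.orth wa hwa x hx), zero_add] at ha1
      rw [hf.herm, ha1, map_one]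
    have a2 : f a y = 0 := by
      have := ha0 y (Submodule.mem_span_singleton_self y)
      rw [add_right hf, swap_zero hf (h.orth wa hwa y hy), zero_add] at this
      exact swap_zero hf this
    have b1 : f b y = 1 := by
      rw [add_right hf, swap_zero hf (h.orth wb hwb y hy), zero_add] at hb1
      rw [hf.herm, hb1, map_one]
    have b2 : f b x = 0 := by
      have := hb0 x (Submodule.mem_span_singleton_self x)
      rw [add_right hf, swap_zero hf (h.orth wb hwb x hx), zero_add] at this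
      exact swap_zero hf this
    have hfix : σ (f x x) = f x x := (hf.herm x x).symm
    obtain ⟨z, hz, hzz, hzc, -⟩ := exists_prescribed hf h ![x, y] (fun i => by fin_cases i <;> assumption)
      (z₀ := (f x x - d) • a + (f x x + d) • b) (P.add_mem (P.smul_mem _ ha) (P.smul_mem _ hb)) (by omega) hfix
    have hzx : f z x = f x x - d := by
      have := hzc 0
      simp only [Matrix.cons_val_zero] at this
      rw [this, hf.add_left, hf.smul_left, hf.smul_left, a1, b2]; ring
    have hzy : f z y = f x x + d := by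
      have := hzc 1
      simp only [Matrix.cons_val_one, Matrix.cons_val_fin_one] at this
      rw [this, hf.add_left, hf.smul_left, hf.smul_left, a2, b1]; ring
    have hxz : f x z = f x x + d := by rw [hf.herm, hzx, map_sub, hfix, hd, sub_neg_eq_add]
    refine one z y hz hy (hxy.trans hzz.symm) ?_ ?_ (one x z hx hz hzz ?_ ?_ hSx)
    · rw [hzy, hzz, map_add, hfix, hd]; ring
    · rw [hzy, hzz]; exact fun e => hd0 (by linear_combination e)
    · rw [hxz, map_add, hfix, hd]; ring
    · rw [hxz]; exact fun e => hd0 (by linear_combination e)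
  by_cases hdep : p' ∈ Submodule.span F {p}
  · obtain ⟨s, hs, hss, hsp, hsnot⟩ := exists_prescribed_one hf h (by omega) hp hp0 1 (γ := 0) (map_zero σ)
    have hps : f p s = 1 := by rw [hf.herm, hsp, map_one]
    set q := p + d • s with hq
    have hqS : Cen hf M (w + q) := by
      have := hS.line hf (hP s hs hss) hd
      rw [hf.add_left, h.orth w hw s hs, zero_add, hps, mul_one] at this
      rwa [hq, ← add_assoc]
    have hqq : f q q = f p p := by
      rw [hq, hf.add_left, add_right hf, add_right hf, hf.smul_left, hf.smul_left, smul_right hf, smul_right hf, hss,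
        hps, hsp, hd]
      ring
    have hqp : q ∉ Submodule.span F {p} := fun hm => by
      rw [hq] at hm
      have := Submodule.smul_mem _ d⁻¹ ((Submodule.add_mem_iff_right _ (Submodule.mem_span_singleton_self p)).1 hm)
      rw [inv_smul_smul₀ hd0] at this
      exact hsnot this
    have hq0 : q ≠ 0 := fun e => hqp (e ▸ Submodule.zero_mem _)
    refine indep q p' (P.add_mem hp (P.smul_mem _ hs)) hp' hq0 (fun hm => ?_) (hn.trans hqq.symm) hqS
    obtain ⟨r, hr⟩ := Submodule.mem_span_singleton.1 hdep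
    obtain ⟨r', hr'⟩ := Submodule.mem_span_singleton.1 hm
    have hr'0 : r' ≠ 0 := fun e => hp'0 (by rw [← hr', e, zero_smul])
    refine hqp (Submodule.mem_span_singleton.2 ⟨r'⁻¹ * r, ?_⟩)
    rw [mul_smul, hr, ← hr', inv_smul_smul₀ hr'0]
  · exact indep p p' hp hp' hp0 hdep hn hS

/-- Non-degenerate subspaces of dimension less than half. -/
theorem nondeg_max {W P : Submodule F (ι → F)} (h : Split (f := f) W P) (hdim : 7 ≤ finrank F P)
    (hlt : finrank F W < finrank F P) {M : Subgroup (GL ι F)}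
    (hle : ∀ g, Pres f g → g ∈ Cfsg.Geo.subspaceStabilizer W → g ∈ M) (hPres : ∀ g ∈ M, Pres f g)
    (hg : ∃ g ∈ M, g ∉ Cfsg.Geo.subspaceStabilizer W) : ∀ v, f v v = 0 → Cen hf M v := by
  obtain ⟨g, hg, hgW⟩ := hg
  have hPS : ∀ s ∈ P, f s s = 0 → Cen hf M s := fun s hs hss =>
    cen_of_mem hf hss fun a ha h0 => hle _ (pres_T hf hss ha h0) (T_mem_stab hf h0 (Or.inr fun w hw => h.orth w hw s hs))
  have hWS : ∀ s ∈ W, f s s = 0 → Cen hf M s := fun s hs hss =>
    cen_of_mem hf hss fun a ha h0 => hle _ (pres_T hf hss ha h0) (T_mem_stab hf h0 (Or.inl hs))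
  have hg1 := (hPres g hg).1
  -- a centre outside `P`
  obtain ⟨p₀, hp₀, hp₀₀, hgp₀, hgp₀'⟩ : ∃ p ∈ P, f p p = 0 ∧ (g : Mat) *ᵥ p ∉ P ∧ (g : Mat) *ᵥ p ∉ W := by
    obtain ⟨a, ha, haa, hga⟩ : ∃ p ∈ P, f p p = 0 ∧ (g : Mat) *ᵥ p ∉ P := by
      by_contra hcon
      push Not at hcon
      apply hgW
      have hPP : ∀ p ∈ P, (g : Mat) *ᵥ p ∈ P := fun p hp =>
        iso_span hf h (by omega) (X := P.comap (Matrix.toLin' (g : Mat)))
          (fun s hs hss => by rw [Submodule.mem_comap, Matrix.toLin'_apply]; exact hcon s hs hss) hp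
      have hPst := mem_stabilizer_of_mapsTo hPP
      refine mem_stabilizer_of_mapsTo fun w hw => ?_
      obtain ⟨w', hw', p', hp', he⟩ := Submodule.mem_sup.1 (h.top ▸ Submodule.mem_top : (g : Mat) *ᵥ w ∈ W ⊔ P)
      suffices p' = 0 by rw [← he, this, add_zero]; exact hw'
      refine sum_zero_right hf h hp' fun y hy => ?_
      obtain ⟨p, hpeq⟩ : ∃ p, (g : Mat) *ᵥ p = y := ⟨_, gl_inv_mulVec g y⟩
      have hp : p ∈ P := by
        have := ((inv_mem hPst) y).1 hy
        change ((g⁻¹ : GL ι F) : Mat) *ᵥ y ∈ P at this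
        rwa [← hpeq, gl_inv_mulVec'] at this
      have h5 : f ((g : Mat) *ᵥ w) y = 0 := by rw [← hpeq, hg1]; exact h.orth w hw p hp
      rwa [← he, hf.add_left, h.orth w' hw' y hy, zero_add] at h5
    by_contra hcon
    push Not at hcon
    have hall : ∀ b ∈ P, f b b = 0 → (g : Mat) *ᵥ b ∈ W := by
      intro b hb hbb
      by_cases hgb : (g : Mat) *ᵥ b ∈ P
      · have hga' := hcon a ha haa hga
        have hab : f a b = 0 := by rw [← hg1]; exact h.orth _ hga' _ hgb
        have hiso : f (a + b) (a + b) = 0 := by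
          rw [hf.add_left, add_right hf, add_right hf, haa, hbb, hab, swap_zero hf hab]; ring
        by_cases hgab : (g : Mat) *ᵥ (a + b) ∈ P
        · rw [Matrix.mulVec_add] at hgab
          exact absurd (by simpa using P.sub_mem hgab hgb) hga
        · have h1 := hcon _ (P.add_mem ha hb) hiso hgab
          rw [Matrix.mulVec_add] at h1
          simpa using W.sub_mem h1 hga'
      · exact hcon b hb hbb hgb
    have h1 : P ≤ W.comap (Matrix.toLin' (g : Mat)) := iso_span hf h (by omega) fun s hs hss => by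
      rw [Submodule.mem_comap, Matrix.toLin'_apply]; exact hall s hs hss
    have hinj : Function.Injective (Matrix.toLin' (g : Mat)) :=
      Function.LeftInverse.injective (g := fun x => ((g⁻¹ : GL ι F) : Mat) *ᵥ x) fun x => by
        simpa using gl_inv_mulVec' g x
    have h2 : finrank F P ≤ finrank F W := by
      rw [(Submodule.equivMapOfInjective _ hinj P).finrank_eq]
      exact Submodule.finrank_mono (Submodule.map_le_iff_le_comap.2 h1)
    omega
  have hu := (hPS p₀ hp₀ hp₀₀).map hf hg (hPres g hg)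
  obtain ⟨w₀, hw₀, q₀, hq₀, he₀⟩ := Submodule.mem_sup.1 (h.top ▸ Submodule.mem_top : (g : Mat) *ᵥ p₀ ∈ W ⊔ P)
  have hw₀0 : w₀ ≠ 0 := fun e => hgp₀ (by rw [← he₀, e, zero_add]; exact hq₀)
  have hq₀0 : q₀ ≠ 0 := fun e => hgp₀' (by rw [← he₀, e, add_zero]; exact hw₀)
  rw [← he₀] at hu
  obtain ⟨d, hd0, hd⟩ := exists_skew hf
  have hnorm : ∀ w ∈ W, ∀ p ∈ P, f (w + p) (w + p) = f w w + f p p := fun w hw p hp => by
    rw [hf.add_left, add_right hf, add_right hf, h.orth w hw p hp, swap_zero hf (h.orth w hw p hp)]; ring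
  -- the directions of centres
  let D : Submodule F (ι → F) :=
    { carrier := {w | w ∈ W ∧ ∀ p ∈ P, p ≠ 0 → f p p = -(f w w) → Cen hf M (w + p)}
      zero_mem' := ⟨W.zero_mem, fun p hp _ hpp => by
        rw [zero_add]; exact hPS p hp (by rw [hpp, zero_left hf, neg_zero])⟩
      smul_mem' := fun r w ⟨hw, hwD⟩ => ⟨W.smul_mem r hw, fun p hp hp0 hpp => by
        rcases eq_or_ne r 0 with rfl | hr
        · rw [zero_smul, zero_add]
          exact hPS p hp (by rw [hpp, zero_smul, zero_left hf, neg_zero])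
        have h1 := (hwD (r⁻¹ • p) (P.smul_mem _ hp) (smul_ne_zero (inv_ne_zero hr) hp0) (by
          rw [hf.smul_left, smul_right hf, hpp, hf.smul_left, smul_right hf, map_inv₀]
          have := (map_ne_zero σ).2 hr
          field_simp)).smul hf r
        rwa [smul_add, smul_inv_smul₀ hr] at h1⟩
      add_mem' := fun {w₁ w₂} ⟨hw₁, h₁⟩ ⟨hw₂, h₂⟩ => ⟨W.add_mem hw₁ hw₂, fun p hp hp0 hpp => by
        have hf2 : σ (f w₂ w₂) = f w₂ w₂ := (hf.herm _ _).symm
        obtain ⟨p₂, hp₂, hp₂n, hp₂p, hp₂s⟩ := exists_prescribed_one hf h (by omega) hp hp0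
          (σ (d - f w₁ w₂ - f w₂ w₂)) (γ := -(f w₂ w₂)) (by rw [map_neg, hf2])
        have hpp₂ : f p p₂ = d - f w₁ w₂ - f w₂ w₂ := by rw [hf.herm, hp₂p, hf.involutive]
        have hne1 : p₂ ≠ p := fun e => hp₂s (by rw [e]; exact Submodule.mem_span_singleton_self p)
        have hp₂0 : p₂ ≠ 0 := fun e => hp₂s (e ▸ Submodule.zero_mem _)
        set p₁ := p - p₂ with hp₁
        have e : ∀ z, f z (p - p₂) = f z p - f z p₂ := fun z => by
          rw [eq_sub_iff_add_eq, ← add_right hf, sub_add_cancel]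
        have h12 : f (w₁ + w₂) (w₁ + w₂) = f w₁ w₁ + f w₁ w₂ + σ (f w₁ w₂) + f w₂ w₂ := by
          rw [hf.add_left, add_right hf, add_right hf, hf.herm w₂ w₁]; ring
        have hp₁n : f p₁ p₁ = -(f w₁ w₁) := by
          rw [hp₁, sub_left hf, e, e, hpp, hp₂n, hpp₂, hp₂p, map_sub, map_sub, hd, hf2, h12]
          ring
        have hu₁ := h₁ p₁ (P.sub_mem hp hp₂) (sub_ne_zero.2 (Ne.symm hne1)) hp₁n
        have hu₂ := h₂ p₂ hp₂ hp₂0 hp₂n
        have hval : f (w₁ + p₁) (w₂ + p₂) = d := by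
          rw [hf.add_left, add_right hf, add_right hf, h.orth w₁ hw₁ p₂ hp₂,
            swap_zero hf (h.orth w₂ hw₂ p₁ (P.sub_mem hp hp₂)), hp₁, sub_left hf, hpp₂, hp₂n]
          ring
        have := hu₁.line hf hu₂ (a := d⁻¹) (by rw [map_inv₀, hd, inv_neg])
        rwa [hval, inv_mul_cancel₀ hd0, one_smul, hp₁, show w₁ + (p - p₂) + (w₂ + p₂) = w₁ + w₂ + p by abel] at this⟩ }
  have hw₀D : w₀ ∈ D := ⟨hw₀, fun p hp hp0 hpp => by
    have hq0 : f w₀ w₀ + f q₀ q₀ = 0 := by rw [← hnorm w₀ hw₀ q₀ hq₀]; exact hu.1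
    exact transit hf h hdim hPS hw₀ hq₀ hp hq₀0 hp0 (by rw [hpp]; linear_combination -hq0) hu⟩
  have hDW : D = W := by
    have hDle : D ≤ W := fun w hw => hw.1
    have hD0 : D ≠ ⊥ := fun e => hw₀0 ((Submodule.mem_bot F).1 (e ▸ hw₀D))
    rcases Nat.lt_or_ge (finrank F W) 2 with hW1 | hW1
    · refine Submodule.eq_of_le_of_finrank_le hDle ?_
      have : finrank F D ≠ 0 := fun e => hD0 (Submodule.finrank_eq_zero.1 e)
      omega
    refine invariant_eq hf (h.symm hf) hW1 hDle hD0 fun v hv s hs hss hvs => ?_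
    have hmem : v + (d * f v s) • s ∈ D := by
      refine ⟨W.add_mem hv.1 (W.smul_mem _ hs), fun p hp hp0 hpp => ?_⟩
      have hsame : f (v + (d * f v s) • s) (v + (d * f v s) • s) = f v v := by
        rw [hf.add_left, add_right hf, add_right hf, hf.smul_left, hf.smul_left, smul_right hf, smul_right hf, hss,
          hf.herm s v, map_mul, hd]
        ring
      have h1 := (hv.2 p hp hp0 (hpp.trans (congrArg Neg.neg hsame))).line hf (hWS s hs hss) hd
      rw [hf.add_left, swap_zero hf (h.orth s hs p hp), add_zero] at h1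
      rwa [add_right_comm]
    have h2 := D.sub_mem hmem hv
    rw [add_sub_cancel_left] at h2
    have h3 := D.smul_mem (d * f v s)⁻¹ h2
    rwa [inv_smul_smul₀ (mul_ne_zero hd0 hvs)] at h3
  intro x hx
  obtain ⟨w, hw, p, hp, rfl⟩ := Submodule.mem_sup.1 (h.top ▸ Submodule.mem_top : x ∈ W ⊔ P)
  rw [hnorm w hw p hp] at hx
  rcases eq_or_ne p 0 with rfl | hp0
  · rw [add_zero]; exact hWS w hw (by rw [zero_left hf, add_zero] at hx; exact hx)
  · exact (hDW ▸ hw : w ∈ D).2 p hp hp0 (by linear_combination hx)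

end Cfsg.Agent.Classical.MaxSU
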