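import Cfsg.Agent.Lib.Classical.MaxSUBase

/-!
Symplectic subfield subgroups are maximal in special unitary groups.
-/

set_option autoImplicit false
set_option linter.unusedSectionVars false

open Module Matrix

namespace Cfsg.Agent.Classical.MaxSU

open HermSep MaxLin HermGen

/-- The conjugation attached to a rational structure. -/
def conjP {F : Type*} [Field F] {ι : Type} [Fintype ι] [DecidableEq ι] (σ : F ≃+* F) (P : GL ι F) (x : ι → F) :
    ι → F :=
  (P : Matrix ι ι F) *ᵥ fun i => σ ((((P⁻¹ : GL ι F) : Matrix ι ι F) *ᵥ x) i)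

variable {F : Type*} [Field F] [Fintype F] {ι : Type} [Fintype ι] [DecidableEq ι]
variable {σ : F ≃+* F} {f : (ι → F) → (ι → F) → F} (hf : Cfsg.Geo.IsUnitaryForm σ f) (P : GL ι F)

local notation "Mat" => Matrix ι ι F

theorem conjP_add (x y : ι → F) : conjP σ P (x + y) = conjP σ P x + conjP σ P y := by
  rw [conjP, conjP, conjP, ← Matrix.mulVec_add, Matrix.mulVec_add]
  congr 1
  funext i
  simp

theorem conjP_smul (c : F) (x : ι → F) : conjP σ P (c • x) = σ c • conjP σ P x := by
  rw [conjP, conjP, ← Matrix.mulVec_smul, Matrix.mulVec_smul]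
  congr 1
  funext i
  simp

theorem conjP_eq_iff (x : ι → F) :
    conjP σ P x = x ↔ ∀ i, σ ((((P⁻¹ : GL ι F) : Mat) *ᵥ x) i) = (((P⁻¹ : GL ι F) : Mat) *ᵥ x) i := by
  constructor
  · intro h i
    have := congrArg (fun z => ((P⁻¹ : GL ι F) : Mat) *ᵥ z) h
    simp only [conjP, gl_inv_mulVec'] at this
    exact congrFun this i
  · intro h
    rw [conjP, funext h, gl_inv_mulVec]

include hf

theorem conjP_invol (x : ι → F) : conjP σ P (conjP σ P x) = x := by
  unfold conjP
  rw [gl_inv_mulVec']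
  simp only [hf.involutive]
  rw [gl_inv_mulVec]

variable (hsk : ∀ a b, conjP σ P a = a → conjP σ P b = b → σ (f a b) = -f a b)
variable (hal : ∀ a, conjP σ P a = a → f a a = 0)
variable {τ : F} (hτ : σ τ ≠ τ)

include hτ

theorem rat_decomp (x : ι → F) : ∃ a b, conjP σ P a = a ∧ conjP σ P b = b ∧ x = a + τ • b := by
  have hne : τ - σ τ ≠ 0 := sub_ne_zero.2 (Ne.symm hτ)
  set b := (τ - σ τ)⁻¹ • (x - conjP σ P x) with hb
  have hsub : ∀ u v : ι → F, conjP σ P (u - v) = conjP σ P u - conjP σ P v := fun u v => by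
    rw [eq_sub_iff_add_eq, ← conjP_add, sub_add_cancel]
  have hbfix : conjP σ P b = b := by
    rw [hb, conjP_smul, hsub, conjP_invol hf P, map_inv₀, map_sub, hf.involutive, ← neg_sub τ, inv_neg, neg_smul,
      ← smul_neg, neg_sub]
  refine ⟨x - τ • b, b, ?_, hbfix, by rw [sub_add_cancel]⟩
  rw [hsub, conjP_smul, hbfix]
  have : x - conjP σ P x = (τ - σ τ) • b := by rw [hb, smul_inv_smul₀ hne]
  linear_combination (norm := module) -this

include hsk

theorem skew_indep {a b a' b' : ι → F} (ha : conjP σ P a = a) (hb : conjP σ P b = b) (ha' : conjP σ P a' = a')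
    (hb' : conjP σ P b' = b') (h : f a a' + σ τ * f b b' = 0) : f a a' = 0 ∧ f b b' = 0 := by
  have h1 := congrArg σ h
  rw [map_add, map_mul, hf.involutive, hsk a a' ha ha', hsk b b' hb hb', map_zero] at h1
  have h2 : (σ τ - τ) * f b b' = 0 := by linear_combination h + h1
  have hbb := (mul_eq_zero.1 h2).resolve_left (sub_ne_zero.2 hτ)
  exact ⟨by rw [hbb, mul_zero, add_zero] at h; exact h, hbb⟩

/-- A rational vector orthogonal to one rational vector and not to another. -/
theorem rat_sep {a b : ι → F} (ha : conjP σ P a = a) (hb : conjP σ P b = b) (hab : b ∉ Submodule.span F {a}) :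
    ∃ z, conjP σ P z = z ∧ f a z = 0 ∧ f b z ≠ 0 := by
  obtain ⟨y, hy1, hy0⟩ := exists_sep hf hab
  obtain ⟨y₁, y₂, h1, h2, rfl⟩ := rat_decomp hf P hτ y
  have h0 := hy0 a (Submodule.mem_span_singleton_self a)
  rw [add_right hf, smul_right hf] at h0 hy1
  obtain ⟨e1, e2⟩ := skew_indep hf P hsk hτ ha ha h1 h2 h0
  by_cases hb1 : f b y₁ = 0
  · refine ⟨y₂, h2, e2, fun e => ?_⟩
    rw [hb1, e, mul_zero, add_zero] at hy1
    exact zero_ne_one hy1
  · exact ⟨y₁, h1, e1, hb1⟩

theorem rat_both {a b c : ι → F} (ha : conjP σ P a = a) (hb : conjP σ P b = b) (hc : conjP σ P c = c)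
    (hab : b ∉ Submodule.span F {a}) (hac : c ∉ Submodule.span F {a}) :
    ∃ z, conjP σ P z = z ∧ f a z = 0 ∧ f b z ≠ 0 ∧ f c z ≠ 0 := by
  obtain ⟨z₁, h₁, e₁, n₁⟩ := rat_sep hf P hsk hτ ha hb hab
  obtain ⟨z₂, h₂, e₂, n₂⟩ := rat_sep hf P hsk hτ ha hc hac
  by_cases h3 : f c z₁ = 0
  · by_cases h4 : f b z₂ = 0
    · exact ⟨z₁ + z₂, by rw [conjP_add, h₁, h₂], by rw [add_right hf, e₁, e₂, add_zero],
        by rw [add_right hf, h4, add_zero]; exact n₁, by rw [add_right hf, h3, zero_add]; exact n₂⟩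
    · exact ⟨z₂, h₂, e₂, h4, n₂⟩
  · exact ⟨z₁, h₁, e₁, n₁, h3⟩

theorem rat_any {b c : ι → F} (hb : conjP σ P b = b) (hc : conjP σ P c = c) (hb0 : b ≠ 0) (hc0 : c ≠ 0) :
    ∃ z, conjP σ P z = z ∧ f b z ≠ 0 ∧ f c z ≠ 0 := by
  have h0 : conjP σ P (0 : ι → F) = 0 := by rw [conjP_eq_iff]; simp
  obtain ⟨z, hz, -, h1, h2⟩ := rat_both hf P hsk hτ h0 hb hc (by simpa using hb0) (by simpa using hc0)
  exact ⟨z, hz, h1, h2⟩

include hal

theorem iso_iff (a b : ι → F) (ha : conjP σ P a = a) (hb : conjP σ P b = b) :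
    f (a + τ • b) (a + τ • b) = 0 ↔ f a b = 0 := by
  rw [hf.add_left, add_right hf, add_right hf, hf.smul_left, hf.smul_left, smul_right hf, smul_right hf, hal a ha,
    hal b hb, hf.herm b a, hsk a b ha hb]
  constructor
  · intro h
    have h2 : (σ τ - τ) * f a b = 0 := by linear_combination h
    exact (mul_eq_zero.1 h2).resolve_left (sub_ne_zero.2 hτ)
  · intro h; rw [h]; ring

theorem symp_subfield_max {M : Subgroup (GL ι F)}
    (hR : ∀ w, conjP σ P w = w → Cen hf M w)
    {u : ι → F} (hu : Cen hf M u) {a b : ι → F} (ha : conjP σ P a = a) (hb : conjP σ P b = b)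
    (hu' : u = a + τ • b) (hab : b ∉ Submodule.span F {a}) (ha0 : a ≠ 0) :
    ∀ x, f x x = 0 → Cen hf M x := by
  have hfab : f a b = 0 := (iso_iff hf P hsk hal hτ a b ha hb).1 (hu' ▸ hu.1)
  have step : ∀ a b w : ι → F, conjP σ P a = a → conjP σ P b = b → conjP σ P w = w → ∀ c, σ c = -c →
      Cen hf M (a + τ • b) → Cen hf M ((a + (c * f a w) • w) + τ • (b + (c * f b w) • w)) := by
    intro a b w _ _ hw c hc hS
    have := hS.line hf (hR w hw) hc
    convert this using 1
    rw [hf.add_left, hf.smul_left]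
    module
  have hsub : ∀ x y : ι → F, f x (y - x) = f x y - f x x := fun x y => by
    rw [eq_sub_iff_add_eq, ← add_right hf, sub_add_cancel]
  have hfix : ∀ a b, conjP σ P a = a → conjP σ P b = b → conjP σ P (b - a) = b - a := fun a b ha hb => by
    have h := conjP_add (σ := σ) P (b - a) a
    rw [sub_add_cancel, hb, ha] at h
    exact eq_sub_of_add_eq h.symm
  have hinv : ∀ a b, conjP σ P a = a → conjP σ P b = b → σ (f a b)⁻¹ = -(f a b)⁻¹ := fun a b ha hb => by
    rw [map_inv₀, hsk a b ha hb, inv_neg]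
  -- move the first component
  have move1 : ∀ a b a', conjP σ P a = a → conjP σ P b = b → conjP σ P a' = a' → a ≠ 0 → a' ≠ 0 →
      b ∉ Submodule.span F {a} → Cen hf M (a + τ • b) → ∃ b', conjP σ P b' = b' ∧ b' ∉ Submodule.span F {a'} ∧
        Cen hf M (a' + τ • b') := by
    have one : ∀ a b a', conjP σ P a = a → conjP σ P b = b → conjP σ P a' = a' → f a a' ≠ 0 →
        b ∉ Submodule.span F {a} → Cen hf M (a + τ • b) → ∃ b', conjP σ P b' = b' ∧ b' ∉ Submodule.span F {a'} ∧
          Cen hf M (a' + τ • b') := by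
      intro a b a' ha hb ha' haa' hab hS
      set w := a' - a with hw
      have hwfix := hfix a a' ha ha'
      have haw : f a w = f a a' := by rw [hw, hsub, hal a ha, sub_zero]
      set c := (f a a')⁻¹
      have hc : σ c = -c := hinv a a' ha ha'
      have h1 := step a b w ha hb hwfix c hc hS
      have e : a + (c * f a w) • w = a' := by rw [haw, inv_mul_cancel₀ haa', one_smul, hw, add_sub_cancel]
      rw [e] at h1
      refine ⟨_, ?_, fun hm => ?_, h1⟩
      · rw [conjP_add, conjP_smul, hb, hwfix, map_mul, hc, hsk b w hb hwfix, neg_mul_neg]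
      · obtain ⟨r, hr⟩ := Submodule.mem_span_singleton.1 hm
        apply hab
        rw [← e, smul_add, smul_smul] at hr
        have h2 : b - r • a = (r * (c * f a w) - c * f b w) • w := by linear_combination (norm := module) -hr
        set k := r * (c * f a w) - c * f b w
        have h3 : f (b - r • a) a = f (k • w) a := by rw [h2]
        rw [sub_left hf, hf.smul_left, hf.smul_left, hal a ha, mul_zero, sub_zero] at h3
        have hba : f b a = 0 := swap_zero hf ((iso_iff hf P hsk hal hτ a b ha hb).1 hS.1)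
        rw [hba] at h3
        have hwa : f w a ≠ 0 := fun e' => haa' (by rw [← haw]; exact swap_zero hf e')
        rw [(mul_eq_zero.1 h3.symm).resolve_right hwa, zero_smul, sub_eq_zero] at h2
        exact Submodule.mem_span_singleton.2 ⟨r, h2.symm⟩
    intro a b a' ha hb ha' ha0 ha'0 hab hS
    obtain ⟨z, hz, haz, ha'z⟩ := rat_any hf P hsk hτ ha ha' ha0 ha'0
    obtain ⟨b₁, hb₁, hb₁n, h1⟩ := one a b z ha hb hz haz hab hS
    exact one z b₁ a' hz hb₁ ha' (fun e => ha'z (swap_zero hf e)) hb₁n h1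
  have move2 : ∀ a b b', conjP σ P a = a → conjP σ P b = b → conjP σ P b' = b' → f a b = 0 → f a b' = 0 →
      b ∉ Submodule.span F {a} → b' ∉ Submodule.span F {a} → Cen hf M (a + τ • b) → Cen hf M (a + τ • b') := by
    have one : ∀ a b b', conjP σ P a = a → conjP σ P b = b → conjP σ P b' = b' → f a b = 0 → f a b' = 0 →
        f b b' ≠ 0 → Cen hf M (a + τ • b) → Cen hf M (a + τ • b') := by
      intro a b b' ha hb hb' hab hab' hbb' hS
      have hwfix := hfix b b' hb hb'
      have h1 := step a b (b' - b) ha hb hwfix (f b b')⁻¹ (hinv b b' hb hb') hS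
      have e1 : f a (b' - b) = 0 := by
        have : f a (b' - b) + f a b = f a b' := by rw [← add_right hf, sub_add_cancel]
        rw [hab, hab', add_zero] at this; exact this
      have e2 : f b (b' - b) = f b b' := by rw [hsub, hal b hb, sub_zero]
      rwa [e1, mul_zero, zero_smul, add_zero, e2, inv_mul_cancel₀ hbb', one_smul, add_sub_cancel] at h1
    intro a b b' ha hb hb' hab hab' hbn hb'n hS
    obtain ⟨z, hz, haz, hbz, hb'z⟩ := rat_both hf P hsk hτ ha hb hb' hbn hb'n
    exact one a z b' ha hz hb' haz hab' (fun e => hb'z (swap_zero hf e)) (one a b z ha hb hz hab haz hbz hS)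
  intro x hx
  obtain ⟨a', b', ha', hb', rfl⟩ := rat_decomp hf P hτ x
  have hfab' := (iso_iff hf P hsk hal hτ a' b' ha' hb').1 hx
  by_cases ha'0 : a' = 0
  · rw [ha'0, zero_add]; exact (hR b' hb').smul hf τ
  by_cases hb'a : b' ∈ Submodule.span F {a'}
  · obtain ⟨r, rfl⟩ := Submodule.mem_span_singleton.1 hb'a
    have he : a' + τ • r • a' = (1 + τ * r) • a' := by module
    rw [he]; exact (hR a' ha').smul hf _
  rw [hu'] at hu
  obtain ⟨b₁, hb₁, hb₁n, h1⟩ := move1 a b a' ha hb ha' ha0 ha'0 hab hu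
  exact move2 a' b₁ b' ha' hb₁ hb' ((iso_iff hf P hsk hal hτ a' b₁ ha' hb₁).1 h1.1) hfab' hb₁n hb'a h1

theorem exists_irrational_T (hn : 3 ≤ Fintype.card ι) :
    ∃ (g : GL ι F) (y : ι → F), Pres f g ∧ conjP σ P y = y ∧
      ∀ (l : F) (r : ι → F), conjP σ P r = r → (g : Mat) *ᵥ y ≠ l • r := by
  haveI : Nonempty ι := Fintype.card_pos_iff.1 (by omega)
  obtain ⟨a, ha, ha0⟩ : ∃ a, conjP σ P a = a ∧ a ≠ 0 := by
    obtain ⟨v, hv⟩ := exists_ne (0 : ι → F)
    obtain ⟨a, b, ha, hb, rfl⟩ := rat_decomp hf P hτ v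
    by_cases h : a = 0
    · exact ⟨b, hb, fun e => hv (by rw [h, e, smul_zero, add_zero])⟩
    · exact ⟨a, ha, h⟩
  obtain ⟨b, hb, hfab, hab⟩ : ∃ b, conjP σ P b = b ∧ f a b = 0 ∧ b ∉ Submodule.span F {a} := by
    obtain ⟨v, hv, hvn⟩ : ∃ v ∈ perp hf ![a], v ∉ Submodule.span F {a} := by
      refine SetLike.not_le_iff_exists.1 fun hle => ?_
      have h1 := Submodule.finrank_mono hle
      rw [finrank_span_singleton ha0] at h1
      have h2 := finrank_perp hf ![a]
      omega
    have hva : f a v = 0 := swap_zero hf ((mem_perp hf).1 hv 0)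
    obtain ⟨v₁, v₂, h1, h2, rfl⟩ := rat_decomp hf P hτ v
    rw [add_right hf, smul_right hf] at hva
    obtain ⟨e1, e2⟩ := skew_indep hf P hsk hτ ha ha h1 h2 hva
    by_cases hm : v₁ ∈ Submodule.span F {a}
    · exact ⟨v₂, h2, e2, fun hm2 => hvn (Submodule.add_mem _ hm (Submodule.smul_mem _ _ hm2))⟩
    · exact ⟨v₁, h1, e1, hm⟩
  set u := a + τ • b with hu
  have huu : f u u = 0 := (iso_iff hf P hsk hal hτ a b ha hb).2 hfab
  obtain ⟨y, hy, hay, -⟩ := rat_any hf P hsk hτ ha ha ha0 ha0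
  obtain ⟨d, hd0, hd⟩ := exists_skew hf
  obtain ⟨g, hg, hval⟩ := tg hf (c := (![] : Fin 0 → ι → F)) (fun i => i.elim0) huu hd
  refine ⟨g, y, pres_tgrp hf (Subgroup.mem_inf.1 hg).1, hy, fun l r hr he => ?_⟩
  set κ := d * f y u
  have hκ : κ ≠ 0 := by
    refine mul_ne_zero hd0 fun e => hay ?_
    rw [hu, add_right hf, smul_right hf] at e
    exact swap_zero hf (skew_indep hf P hsk hτ hy hy ha hb e).1
  rw [hval] at he
  have hl : l ≠ 0 := by
    rintro rfl
    rw [zero_smul] at he
    have h5 : f (y + κ • u) a = f (0 : ι → F) a := congrArg (fun z => f z a) he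
    rw [zero_left hf, hf.add_left, hf.smul_left, hu, hf.add_left, hf.smul_left, hal a ha, swap_zero hf hfab] at h5
    exact hay (swap_zero hf (by linear_combination h5))
  have h1 := congrArg (conjP σ P) he
  rw [conjP_add, conjP_smul, hu, conjP_add, conjP_smul, hy, ha, hb, conjP_smul, hr] at h1
  set μ := σ l / l
  have h2 : y + σ κ • (a + σ τ • b) = μ • (y + κ • (a + τ • b)) := by
    have e2 : μ • (y + κ • (a + τ • b)) = μ • (l • r) := by rw [← he, hu]
    rw [e2, smul_smul, div_mul_cancel₀ _ hl]; exact h1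
  -- compare coefficients
  have hya : f y a ≠ 0 := fun e => hay (swap_zero hf e)
  have e1 : (μ - 1) * f y a = 0 := by
    have h5 := congrArg (fun z => f z a) h2
    simp only [hf.add_left, hf.smul_left, hal a ha, swap_zero hf hfab] at h5
    linear_combination -h5
  have hμ : μ = 1 := sub_eq_zero.1 ((mul_eq_zero.1 e1).resolve_right hya)
  rw [hμ, one_smul] at h2
  have h3 : (σ κ - κ) • a + (σ κ * σ τ - κ * τ) • b = 0 := by linear_combination (norm := module) h2
  have hli : LinearIndependent F ![a, b] := LinearIndependent.pair_iff.2 fun s t hst => by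
    rcases eq_or_ne t 0 with rfl | ht
    · rw [zero_smul, add_zero, smul_eq_zero] at hst; exact ⟨hst.resolve_right ha0, rfl⟩
    · exact absurd (Submodule.mem_span_singleton.2 ⟨-(t⁻¹ * s), by
        rw [neg_smul, mul_smul, eq_neg_of_add_eq_zero_left hst, smul_neg, inv_smul_smul₀ ht, neg_neg]⟩) hab
  obtain ⟨k1, k2⟩ := LinearIndependent.pair_iff.1 hli _ _ h3
  rw [sub_eq_zero.1 k1, ← mul_sub] at k2
  exact (mul_ne_zero hκ (sub_ne_zero.2 hτ)) k2

end Cfsg.Agent.Classical.MaxSU
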