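import Cfsg.Agent.Lib.Classical.SymplecticMatrix
import Cfsg.Prelude.Def_GeometricClasses

/-!
Maximality of subspace stabilisers in symplectic groups, by the set of centres of transvection groups.
-/

set_option autoImplicit false
set_option linter.style.haveILetI false
set_option linter.unusedSectionVars false

open Module

namespace Cfsg.Agent.Classical.MaxSub

open Sp

variable {F V : Type*} [Field F] [AddCommGroup V] [Module F V] [FiniteDimensional F V]
variable (B : LinearMap.BilinForm F V) (hA : B.IsAlt) (hB : Nondeg B)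

/-- The stabiliser of a subspace. -/
def stab (W : Submodule F V) : Subgroup (Grp B) where
  carrier := {g | ∀ x, x ∈ W ↔ (g : V ≃ₗ[F] V) x ∈ W}
  mul_mem' {a b} ha hb x := by rw [Grp.mul_apply]; exact (hb x).trans (ha _)
  one_mem' x := Iff.rfl
  inv_mem' {a} ha x := by
    have := ha (((a⁻¹ : Grp B) : V ≃ₗ[F] V) x)
    rw [← Grp.mul_apply, mul_inv_cancel] at this
    exact this.symm

theorem mem_stab_of_mapsTo {W : Submodule F V} {g : Grp B} (h : ∀ x ∈ W, (g : V ≃ₗ[F] V) x ∈ W) : g ∈ stab B W := by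
  have he : W.map (g : V ≃ₗ[F] V).toLinearMap = W :=
    Submodule.eq_of_le_of_finrank_eq (by rintro _ ⟨x, hx, rfl⟩; exact h x hx) (LinearEquiv.finrank_map_eq _ W)
  intro x
  refine ⟨h x, fun hx => ?_⟩
  rw [← he] at hx
  obtain ⟨y, hy, e⟩ := hx
  exact (g : V ≃ₗ[F] V).injective e ▸ hy

include hA

/-- The set of centres. -/
def centres (M : Subgroup (Grp B)) : Set V := {v | ∀ c, T B hA v c ∈ M}

theorem centres_smul {M : Subgroup (Grp B)} {v : V} (hv : v ∈ centres B hA M) (a : F) :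
    a • v ∈ centres B hA M := fun c => by rw [T_smul]; exact hv _

theorem centres_map {M : Subgroup (Grp B)} {g : Grp B} (hg : g ∈ M) {v : V} (hv : v ∈ centres B hA M) :
    (g : V ≃ₗ[F] V) v ∈ centres B hA M := fun c => by
  rw [← conj_T B hA g v c]; exact mul_mem (mul_mem hg (hv c)) (inv_mem hg)

theorem centres_line {M : Subgroup (Grp B)} {u s : V} (hu : u ∈ centres B hA M) (hs : s ∈ centres B hA M)
    (h : B u s ≠ 0) (r : F) : u + r • s ∈ centres B hA M := by
  have := centres_map B hA (hs (r / B u s)) hu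
  rwa [T_apply, div_mul_cancel₀ _ h] at this

include hB

theorem eq_top_of_centres {M : Subgroup (Grp B)} (h : ∀ v, v ≠ 0 → v ∈ centres B hA M) : M = ⊤ := by
  rw [eq_top_iff, ← closure_tSet B hA hB, Subgroup.closure_le]
  rintro _ ⟨v, -, c, rfl⟩
  rcases eq_or_ne v 0 with rfl | hv
  · rw [T_zero_vec]; exact M.one_mem
  · exact h v hv c

theorem exists_both_ne {x a : V} (hx : x ≠ 0) (ha : a ≠ 0) : ∃ y, B y a ≠ 0 ∧ B y x ≠ 0 := by
  obtain ⟨y, hy⟩ := hB a ha
  obtain ⟨z, hz⟩ := hB x hx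
  have hy' : B y a ≠ 0 := by rw [alt_neg B hA a y]; exact neg_ne_zero.2 hy
  have hz' : B z x ≠ 0 := by rw [alt_neg B hA x z]; exact neg_ne_zero.2 hz
  by_cases h1 : B y x = 0
  · by_cases h2 : B z a = 0
    · exact ⟨y + z, by simp [h2, hy'], by simp [h1, hz']⟩
    · exact ⟨z, h2, hz'⟩
  · exact ⟨y, hy', h1⟩

theorem stab_ne_top {W : Submodule F V} (hW0 : W ≠ ⊥) (hW1 : W ≠ ⊤) : stab B W ≠ ⊤ := by
  intro h
  obtain ⟨u, hu, hu0⟩ := Submodule.exists_mem_ne_zero_of_ne_bot hW0
  obtain ⟨w, -, hw⟩ := SetLike.exists_of_lt (lt_top_iff_ne_top.2 hW1)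
  obtain ⟨g, -, hg⟩ := move_top B hA hB hu0 (fun e : w = 0 => hw (by rw [e]; exact W.zero_mem))
  have hg' : g ∈ stab B W := by rw [h]; exact Subgroup.mem_top g
  exact hw (hg ▸ (hg' u).1 hu)

/-- Totally isotropic subspaces. -/
theorem singular_max {W : Submodule F V} (hW : ∀ u ∈ W, ∀ v ∈ W, B u v = 0) {M : Subgroup (Grp B)}
    (hle : stab B W ≤ M) (hne : M ≠ stab B W) : M = ⊤ := by
  have hperp : ∀ v, (∀ w ∈ W, B w v = 0) → v ∈ centres B hA M := fun v hv c =>
    hle (mem_stab_of_mapsTo B fun x hx => by rw [T_apply, hv x hx, mul_zero, zero_smul, add_zero]; exact hx)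
  obtain ⟨u, hu, a, haW, hua⟩ : ∃ u ∈ centres B hA M, ∃ a ∈ W, B u a ≠ 0 := by
    by_contra hcon
    push Not at hcon
    refine hne (le_antisymm (fun g hg => mem_stab_of_mapsTo B fun w hw => ?_) hle)
    have hnd : B.Nondegenerate := (LinearMap.IsAlt.isRefl hA).nondegenerate_iff_separatingLeft.2 fun x hx => by
      by_contra h0; obtain ⟨y, hy⟩ := hB x h0; exact hy (hx y)
    rw [← LinearMap.BilinForm.orthogonal_orthogonal hnd (LinearMap.IsAlt.isRefl hA) W]
    intro y hy
    -- `y` is orthogonal to `W`, and so is its preimage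
    set P := B.orthogonal W with hP
    have hPmap : P.map (g : V ≃ₗ[F] V).toLinearMap = P := by
      refine Submodule.eq_of_le_of_finrank_eq ?_ (LinearEquiv.finrank_map_eq _ P)
      rintro _ ⟨v, hv, rfl⟩ z hz
      have := hcon _ (centres_map B hA hg (hperp v fun w hw => hv w hw)) z hz
      show B z _ = 0
      rw [alt_neg B hA]; exact neg_eq_zero.2 this
    rw [← hPmap] at hy
    obtain ⟨v, hv, rfl⟩ := hy
    show B ((g : V ≃ₗ[F] V) v) ((g : V ≃ₗ[F] V) w) = 0
    rw [Grp.map_form, alt_neg B hA, hv w hw, neg_zero]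
  refine eq_top_of_centres B hA hB ?_
  have haS : a ∈ centres B hA M := hperp a fun w hw => hW w hw a haW
  have hmain : ∀ x, B x a ≠ 0 → x ∈ centres B hA M := by
    intro x hx
    set u' := (B u a)⁻¹ • u with hu'
    have hu'a : B u' a = 1 := by rw [hu', map_smul, LinearMap.smul_apply, smul_eq_mul, inv_mul_cancel₀ hua]
    set x' := (B x a)⁻¹ • x with hx'
    have hx'a : B x' a = 1 := by rw [hx', map_smul, LinearMap.smul_apply, smul_eq_mul, inv_mul_cancel₀ hx]
    have hab : B a (x' - u') = 0 := by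
      rw [alt_neg B hA, map_sub, LinearMap.sub_apply, hu'a, hx'a, sub_self, neg_zero]
    have hg : S B hA a (x' - u') 1 ∈ stab B W := mem_stab_of_mapsTo B fun w hw => by
      rw [S_apply B hA hab, hW w hw a haW, mul_zero, zero_smul, add_zero]
      exact W.add_mem hw (W.smul_mem _ haW)
    have h1 := centres_map B hA (hle hg) (centres_smul B hA hu (B u a)⁻¹)
    rw [← hu', S_apply B hA hab, hu'a, mul_one, one_smul, one_mul, add_sub_cancel] at h1
    have hne' : B (x' + B u' (x' - u') • a) a ≠ 0 := by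
      simp only [map_add, map_smul, LinearMap.add_apply, LinearMap.smul_apply, hA.self_eq_zero, smul_zero, add_zero, hx'a, ne_eq, one_ne_zero, not_false_eq_true]
    have h2 := centres_line B hA h1 haS hne' (- B u' (x' - u'))
    rw [neg_smul, add_neg_cancel_right] at h2
    have h3 := centres_smul B hA h2 (B x a)
    rwa [hx', smul_smul, mul_inv_cancel₀ hx, one_smul] at h3
  intro x hx
  have ha0 : a ≠ 0 := fun e => hua (by rw [e, map_zero])
  by_cases hxa : B x a = 0
  · obtain ⟨y, hya, hyx⟩ := exists_both_ne B hA hB hx ha0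
    have h1 := hmain _ hya
    have h2 := hmain (x - y) (by rw [map_sub, LinearMap.sub_apply, hxa, zero_sub]; exact neg_ne_zero.2 hya)
    have := centres_line B hA h1 h2 (by rwa [map_sub, hA.self_eq_zero, sub_zero]) 1
    rwa [one_smul, add_sub_cancel] at this
  · exact hmain x hxa

/-- Non-degenerate subspaces of less than half the dimension. -/
theorem nondeg_max {W : Submodule F V} (hW : ∀ w ∈ W, w ≠ 0 → ∃ x ∈ W, B w x ≠ 0)
    (hdim : 2 * finrank F W < finrank F V) {M : Subgroup (Grp B)} (hle : stab B W ≤ M) (hne : M ≠ stab B W) :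
    M = ⊤ := by
  have hnd : B.Nondegenerate := (LinearMap.IsAlt.isRefl hA).nondegenerate_iff_separatingLeft.2 fun x hx => by
    by_contra h0; obtain ⟨y, hy⟩ := hB x h0; exact hy (hx y)
  set P := B.orthogonal W with hP
  have hWS : ∀ v ∈ W, v ∈ centres B hA M := fun v hv c =>
    hle (mem_stab_of_mapsTo B fun x hx => by rw [T_apply]; exact W.add_mem hx (W.smul_mem _ hv))
  have hPS : ∀ v ∈ P, v ∈ centres B hA M := fun v hv c =>
    hle (mem_stab_of_mapsTo B fun x hx => by
      rw [T_apply, show B x v = 0 from hv x hx, mul_zero, zero_smul, add_zero]; exact hx)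
  have hdisj : W ⊓ P = ⊥ := by
    rw [Submodule.eq_bot_iff]
    rintro w ⟨hw, hwP⟩
    by_contra h0
    obtain ⟨x, hx, hxw⟩ := hW w hw h0
    exact hxw (by rw [alt_neg B hA, show B x w = 0 from hwP x hx, neg_zero])
  have hPdim : finrank F P = finrank F V - finrank F W :=
    LinearMap.BilinForm.finrank_orthogonal hnd W
  have hsup : W ⊔ P = ⊤ := Submodule.eq_top_of_finrank_eq (by
    have := Submodule.finrank_sup_add_finrank_inf_eq W P
    rw [hdisj, finrank_bot, hPdim] at this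
    omega)
  have hPnd : ∀ q ∈ P, q ≠ 0 → ∃ x ∈ P, B q x ≠ 0 := by
    intro q hq hq0
    obtain ⟨z, hz⟩ := hB q hq0
    obtain ⟨z₁, hz₁, z₂, hz₂, rfl⟩ := Submodule.mem_sup.1 (hsup ▸ Submodule.mem_top : z ∈ W ⊔ P)
    refine ⟨z₂, hz₂, fun e => hz ?_⟩
    rw [map_add, alt_neg B hA z₁ q, show B z₁ q = 0 from hq z₁ hz₁, e]; simp
  -- a centre outside both pieces
  obtain ⟨p, hp, q, hq, hp0, hq0, hpq⟩ : ∃ p ∈ W, ∃ q ∈ P, p ≠ 0 ∧ q ≠ 0 ∧ p + q ∈ centres B hA M := by
    by_contra hcon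
    push Not at hcon
    refine hne (le_antisymm (fun g hg => ?_) hle)
    have hin : ∀ v ∈ centres B hA M, v ∈ W ∨ v ∈ P := fun v hv => by
      obtain ⟨a, ha, b, hb, rfl⟩ := Submodule.mem_sup.1 (hsup ▸ Submodule.mem_top : v ∈ W ⊔ P)
      by_cases ha0 : a = 0
      · rw [ha0, zero_add]; exact Or.inr hb
      by_cases hb0 : b = 0
      · rw [hb0, add_zero]; exact Or.inl ha
      exact absurd hv (hcon a ha b hb ha0 hb0)
    have hPmap : P.map (g : V ≃ₗ[F] V).toLinearMap = P := by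
      have hd := LinearEquiv.finrank_map_eq (g : V ≃ₗ[F] V) P
      have hcases : P.map (g : V ≃ₗ[F] V).toLinearMap ≤ W ∨ P.map (g : V ≃ₗ[F] V).toLinearMap ≤ P := by
        by_contra hc
        push Not at hc
        obtain ⟨x, hx, hxW⟩ := SetLike.not_le_iff_exists.1 hc.1
        obtain ⟨y, hy, hyP⟩ := SetLike.not_le_iff_exists.1 hc.2
        have hin' : ∀ z ∈ P.map (g : V ≃ₗ[F] V).toLinearMap, z ∈ W ∨ z ∈ P := by
          rintro _ ⟨v, hv, rfl⟩
          exact hin _ (centres_map B hA hg (hPS v hv))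
        have hxP := (hin' x hx).resolve_left hxW
        have hyW := (hin' y hy).resolve_right hyP
        rcases hin' (x + y) (add_mem hx hy) with e | e
        · exact hxW (by simpa using W.sub_mem e hyW)
        · exact hyP (by simpa using P.sub_mem e hxP)
      rcases hcases with e | e
      · have := Submodule.finrank_mono e
        rw [hPdim] at hd
        omega
      · exact Submodule.eq_of_le_of_finrank_eq e hd
    refine mem_stab_of_mapsTo B fun w hw => ?_
    rw [← LinearMap.BilinForm.orthogonal_orthogonal hnd (LinearMap.IsAlt.isRefl hA) W]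
    intro y hy
    rw [← hP, ← hPmap] at hy
    obtain ⟨v, hv, rfl⟩ := hy
    show B ((g : V ≃ₗ[F] V) v) ((g : V ≃ₗ[F] V) w) = 0
    rw [Grp.map_form, alt_neg B hA, show B w v = 0 from hv w hw, neg_zero]
  refine eq_top_of_centres B hA hB ?_
  -- move either component inside its piece
  have step : ∀ (U : Submodule F V), (∀ s ∈ U, s ∈ centres B hA M) → (∀ s ∈ U, s ≠ 0 → ∃ x ∈ U, B s x ≠ 0) →
      ∀ r : V, (∀ s ∈ U, B r s = 0) → ∀ a ∈ U, a ≠ 0 → a + r ∈ centres B hA M → ∀ b ∈ U, b ≠ 0 → b + r ∈ centres B hA M := by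
    intro U hUS hUnd r hr
    have one : ∀ a ∈ U, ∀ b ∈ U, a + r ∈ centres B hA M → B a b ≠ 0 → b + r ∈ centres B hA M := by
      intro a ha b hb h hab
      have h' : B (a + r) (b - a) ≠ 0 := by
        rw [map_add, LinearMap.add_apply, hr _ (U.sub_mem hb ha), add_zero, map_sub, hA.self_eq_zero, sub_zero]
        exact hab
      have := centres_line B hA h (hUS _ (U.sub_mem hb ha)) h' 1
      rwa [one_smul, show a + r + (b - a) = b + r by abel] at this
    intro a ha ha0 h b hb hb0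
    by_cases hab : B a b = 0
    · obtain ⟨x, hx, hax⟩ := hUnd a ha ha0
      obtain ⟨y, hy, hby⟩ := hUnd b hb hb0
      have hyb : B y b ≠ 0 := by rw [alt_neg B hA b y]; exact neg_ne_zero.2 hby
      obtain ⟨z, hz, haz, hzb⟩ : ∃ z ∈ U, B a z ≠ 0 ∧ B z b ≠ 0 := by
        by_cases h1 : B a y = 0
        · by_cases h2 : B x b = 0
          · exact ⟨x + y, U.add_mem hx hy, by simp [h1, hax], by simp [h2, hyb]⟩
          · exact ⟨x, hx, hax, h2⟩
        · exact ⟨y, hy, h1, hyb⟩
      exact one z hz b hb (one a ha z hz h haz) hzb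
    · exact one a ha b hb h hab
  intro v _
  obtain ⟨a, ha, b, hb, rfl⟩ := Submodule.mem_sup.1 (hsup ▸ Submodule.mem_top : v ∈ W ⊔ P)
  by_cases ha0 : a = 0
  · rw [ha0, zero_add]; exact hPS b hb
  by_cases hb0 : b = 0
  · rw [hb0, add_zero]; exact hWS a ha
  have h1 := step W hWS hW q (fun s hs => by rw [alt_neg B hA, show B s q = 0 from hq s hs, neg_zero])
    p hp hp0 hpq a ha ha0
  rw [add_comm] at h1 ⊢
  exact step P hPS hPnd a (fun s hs => hs a ha) q hq hq0 h1 b hb hb0

omit hA hB in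
variable {m : ℕ} in
theorem spGL_mem_stab_iff (A : Cfsg.spGL m F) (W : Submodule F (Fin m ⊕ Fin m → F)) :
    (A : GL (Fin m ⊕ Fin m) F) ∈ Cfsg.Geo.subspaceStabilizer W ↔ spGLEquiv m A ∈ stab (sympB F m) W := Iff.rfl

omit hA hB in
/-- Transfer to the matrix group. -/
theorem isMaximalIn_of {m : ℕ} {W : Submodule F (Fin m ⊕ Fin m → F)} (hne : stab (sympB F m) W ≠ ⊤)
    (hmax : ∀ M : Subgroup (Grp (sympB F m)), stab (sympB F m) W ≤ M → M ≠ stab (sympB F m) W → M = ⊤) :
    Cfsg.Geo.IsMaximalIn (Cfsg.spGL m F) (Cfsg.Geo.subspaceStabilizer W ⊓ Cfsg.spGL m F) := by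
  refine ⟨lt_of_le_of_ne inf_le_right fun e => hne (eq_top_iff.2 fun g _ => ?_), fun M h1 h2 => ?_⟩
  · obtain ⟨A, rfl⟩ := (spGLEquiv m).surjective g
    exact (spGL_mem_stab_iff A W).1 (e.ge A.2).1
  set M' := (M.subgroupOf (Cfsg.spGL m F)).map (spGLEquiv (F := F) m).toMonoidHom with hM'
  have hmem : ∀ A : Cfsg.spGL m F, spGLEquiv m A ∈ M' ↔ (A : GL (Fin m ⊕ Fin m) F) ∈ M := fun A =>
    Subgroup.mem_map_iff_mem (f := (spGLEquiv (F := F) m).toMonoidHom) (spGLEquiv (F := F) m).injective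
  by_cases he : M' = stab (sympB F m) W
  · left
    refine le_antisymm (fun x hx => ⟨?_, h2 hx⟩) h1
    exact (spGL_mem_stab_iff ⟨x, h2 hx⟩ W).2 (he ▸ (hmem ⟨x, h2 hx⟩).2 hx)
  · right
    have htop := hmax M' (fun g hg => by
      obtain ⟨A, rfl⟩ := (spGLEquiv m).surjective g
      exact (hmem A).2 (h1 ⟨(spGL_mem_stab_iff A W).2 hg, A.2⟩)) he
    exact le_antisymm h2 fun x hx => (hmem ⟨x, hx⟩).1 (htop ▸ Subgroup.mem_top _)

end Cfsg.Agent.Classical.MaxSub
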