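import Cfsg.Agent.Lib.Classical.Isom

/-!
Isometry groups of non-degenerate alternating forms: transvections generate, transitivity,
perfectness, primitivity on points, centre, Iwasawa's criterion, order over a finite field.
-/

set_option autoImplicit false
set_option linter.style.haveILetI false

open scoped LinearAlgebra.Projectivization commutatorElement Pointwise

namespace Cfsg.Agent.Classical.Sp

variable {F V : Type*} [Field F] [AddCommGroup V] [Module F V]

/-- Non-degeneracy, in the form used here. -/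
def Nondeg (B : LinearMap.BilinForm F V) : Prop := ∀ u : V, u ≠ 0 → ∃ v, B u v ≠ 0

/-- The isometry group of a bilinear form. -/
abbrev Grp (B : LinearMap.BilinForm F V) : Subgroup (V ≃ₗ[F] V) := isom F (fun x y => B x y)

theorem Grp.map_form {B : LinearMap.BilinForm F V} (g : Grp B) (x y : V) :
    B ((g : V ≃ₗ[F] V) x) ((g : V ≃ₗ[F] V) y) = B x y := g.2 x y

variable (B : LinearMap.BilinForm F V) (hA : B.IsAlt)

include hA in
theorem alt_neg (x y : V) : B y x = -B x y := (LinearMap.IsAlt.neg hA x y).symm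

/-- The transvection `x ↦ x + c B(x,v) v`. -/
def tEquiv (v : V) (c : F) : V ≃ₗ[F] V where
  toFun x := x + (c * B x v) • v
  invFun x := x + (-c * B x v) • v
  map_add' x y := by simp [mul_add, add_smul, add_assoc, add_left_comm]
  map_smul' a x := by simp [mul_left_comm, smul_smul]
  left_inv x := by simp [hA.self_eq_zero]
  right_inv x := by simp [hA.self_eq_zero]

@[simp]
theorem tEquiv_apply (v : V) (c : F) (x : V) : tEquiv B hA v c x = x + (c * B x v) • v := rfl

/-- The transvection as an isometry. -/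
def T (v : V) (c : F) : Grp B :=
  ⟨tEquiv B hA v c, fun x y => by
    show B (x + (c * B x v) • v) (y + (c * B y v) • v) = B x y
    simp only [map_add, map_smul, LinearMap.add_apply, LinearMap.smul_apply, smul_eq_mul,
      hA.self_eq_zero, alt_neg B hA y v]
    ring⟩

@[simp]
theorem T_apply (v : V) (c : F) (x : V) :
    (T B hA v c : V ≃ₗ[F] V) x = x + (c * B x v) • v := rfl

theorem Grp.ext' {a b : Grp B} (h : ∀ x, (a : V ≃ₗ[F] V) x = (b : V ≃ₗ[F] V) x) : a = b :=
  Subtype.ext (LinearEquiv.ext h)

theorem Grp.mul_apply (a b : Grp B) (x : V) :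
    ((a * b : Grp B) : V ≃ₗ[F] V) x = (a : V ≃ₗ[F] V) ((b : V ≃ₗ[F] V) x) := rfl

theorem T_add (v : V) (c d : F) : T B hA v c * T B hA v d = T B hA v (c + d) := by
  refine Grp.ext' B fun x => ?_
  simp [Grp.mul_apply, hA.self_eq_zero, add_mul, add_smul]
  abel

theorem T_zero (v : V) : T B hA v 0 = 1 := Grp.ext' B fun x => by simp

theorem T_inv (v : V) (c : F) : (T B hA v c)⁻¹ = T B hA v (-c) := by
  rw [inv_eq_iff_mul_eq_one, T_add, add_neg_cancel, T_zero]

theorem T_zero_vec (c : F) : T B hA 0 c = 1 := Grp.ext' B fun x => by simp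

theorem T_smul (v : V) (a c : F) : T B hA (a • v) c = T B hA v (a * a * c) := by
  refine Grp.ext' B fun x => ?_
  simp [smul_smul]
  congr 1
  ring

theorem conj_T (g : Grp B) (v : V) (c : F) :
    g * T B hA v c * g⁻¹ = T B hA ((g : V ≃ₗ[F] V) v) c := by
  rw [mul_inv_eq_iff_eq_mul]
  refine Grp.ext' B fun x => ?_
  simp [Grp.mul_apply, Grp.map_form g]

/-- Transvections with vector in `U`. -/
def tSet (U : Submodule F V) : Set (Grp B) := {g | ∃ v ∈ U, ∃ c, g = T B hA v c}

theorem T_mem_closure {U : Submodule F V} {v : V} (hv : v ∈ U) (c : F) :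
    T B hA v c ∈ Subgroup.closure (tSet B hA U) :=
  Subgroup.subset_closure ⟨v, hv, c, rfl⟩

theorem closure_fix {U : Submodule F V} {x : V} (hx : ∀ v ∈ U, B x v = 0) {g : Grp B}
    (hg : g ∈ Subgroup.closure (tSet B hA U)) : (g : V ≃ₗ[F] V) x = x := by
  induction hg using Subgroup.closure_induction with
  | mem g hg => obtain ⟨v, hv, c, rfl⟩ := hg; simp [hx v hv]
  | one => rfl
  | mul a b _ _ ha hb => rw [Grp.mul_apply, hb, ha]
  | inv a _ ha =>
    show (a : V ≃ₗ[F] V).symm x = x
    exact (LinearEquiv.symm_apply_eq _).2 ha.symm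

theorem exists_both {U : Submodule F V} {u w : V} (hu : ∃ y ∈ U, B u y ≠ 0)
    (hw : ∃ y ∈ U, B w y ≠ 0) : ∃ z ∈ U, B u z ≠ 0 ∧ B w z ≠ 0 := by
  obtain ⟨a, ha, ha'⟩ := hu
  obtain ⟨b, hb, hb'⟩ := hw
  by_cases h1 : B w a = 0
  · by_cases h2 : B u b = 0
    · exact ⟨a + b, U.add_mem ha hb, by simp [h2, ha'], by simp [h1, hb']⟩
    · exact ⟨b, hb, h2, hb'⟩
  · exact ⟨a, ha, ha', h1⟩

theorem move_one {U : Submodule F V} {u w : V} (hu : u ∈ U) (hw : w ∈ U) (h : B u w ≠ 0) :
    ∃ g ∈ Subgroup.closure (tSet B hA U), (g : V ≃ₗ[F] V) u = w := by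
  refine ⟨T B hA (w - u) (B u w)⁻¹, T_mem_closure B hA (U.sub_mem hw hu) _, ?_⟩
  simp [hA.self_eq_zero, h]

/-- Transvections in `U` move `u` to `w`, whenever neither is orthogonal to all of `U`. -/
theorem move {U : Submodule F V} {u w : V} (hu : u ∈ U) (hw : w ∈ U)
    (hu' : ∃ y ∈ U, B u y ≠ 0) (hw' : ∃ y ∈ U, B w y ≠ 0) :
    ∃ g ∈ Subgroup.closure (tSet B hA U), (g : V ≃ₗ[F] V) u = w := by
  obtain ⟨z, hz, hz1, hz2⟩ := exists_both B hu' hw'
  obtain ⟨g, hg, hgu⟩ := move_one B hA hu hz hz1
  obtain ⟨g', hg', hgz⟩ := move_one B hA hz hw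
    (by rw [alt_neg B hA w z]; exact neg_ne_zero.2 hz2)
  exact ⟨g' * g, mul_mem hg' hg, by rw [Grp.mul_apply, hgu, hgz]⟩

variable (hB : Nondeg B)

include hB in
theorem move_top {u w : V} (hu : u ≠ 0) (hw : w ≠ 0) :
    ∃ g ∈ Subgroup.closure (tSet B hA ⊤), (g : V ≃ₗ[F] V) u = w :=
  move B hA Submodule.mem_top Submodule.mem_top
    ((hB u hu).elim fun y hy => ⟨y, Submodule.mem_top, hy⟩)
    ((hB w hw).elim fun y hy => ⟨y, Submodule.mem_top, hy⟩)

include hA in
theorem ne_zero_of_pair {u v : V} (h : B u v = 1) : u ≠ 0 ∧ v ≠ 0 := by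
  constructor <;> rintro rfl <;> simp at h

include hB in
/-- Transvections are transitive on hyperbolic pairs. -/
theorem move_pair {u v u' v' : V} (h : B u v = 1) (h' : B u' v' = 1) :
    ∃ g ∈ Subgroup.closure (tSet B hA ⊤),
      (g : V ≃ₗ[F] V) u = u' ∧ (g : V ≃ₗ[F] V) v = v' := by
  obtain ⟨g₁, hg₁, hg₁u⟩ := move_top B hA hB (ne_zero_of_pair B hA h).1 (ne_zero_of_pair B hA h').1
  set v₁ := (g₁ : V ≃ₗ[F] V) v with hv₁
  have h₁ : B u' v₁ = 1 := by rw [hv₁, ← hg₁u, Grp.map_form g₁, h]
  -- move `v₁` to `v'` fixing `u'`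
  suffices hs : ∃ g ∈ Subgroup.closure (tSet B hA ⊤),
      (g : V ≃ₗ[F] V) u' = u' ∧ (g : V ≃ₗ[F] V) v₁ = v' by
    obtain ⟨g₂, hg₂, e1, e2⟩ := hs
    exact ⟨g₂ * g₁, mul_mem hg₂ hg₁, by rw [Grp.mul_apply, hg₁u, e1], by rw [Grp.mul_apply, e2]⟩
  have step : ∀ a b : V, B u' a = 1 → B u' b = 1 → B a b ≠ 0 →
      ∃ g ∈ Subgroup.closure (tSet B hA ⊤),
        (g : V ≃ₗ[F] V) u' = u' ∧ (g : V ≃ₗ[F] V) a = b := fun a b ha hb hab =>
    ⟨T B hA (b - a) (B a b)⁻¹, T_mem_closure B hA Submodule.mem_top _, by simp [ha, hb],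
      by simp [hA.self_eq_zero, hab]⟩
  by_cases h2 : B v₁ v' = 0
  · have e1 : B u' (u' + v₁) = 1 := by simp [hA.self_eq_zero, h₁]
    obtain ⟨a, ha, a1, a2⟩ := step v₁ (u' + v₁) h₁ e1
      (by simp [alt_neg B hA u' v₁, hA.self_eq_zero, h₁])
    obtain ⟨b, hb, b1, b2⟩ := step (u' + v₁) v' e1 h' (by simp [h', h2])
    exact ⟨b * a, mul_mem hb ha, by rw [Grp.mul_apply, a1, b1], by rw [Grp.mul_apply, a2, b2]⟩
  · exact step v₁ v' h₁ h' h2

/-- The orthogonal of a pair. -/
def perp (u v : V) : Submodule F V := LinearMap.ker (B u) ⊓ LinearMap.ker (B v)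

include hA in
theorem decomp {u v : V} (h : B u v = 1) :
    OrthDecomp (fun x y => B x y) (Submodule.span F {u, v}) (perp B u v) where
  add_left := fun a b c => by simp
  add_right := fun a b c => by simp
  isCompl := by
    refine ⟨?_, ?_⟩
    · rw [Submodule.disjoint_def]
      intro x hx hx'
      obtain ⟨a, b, rfl⟩ := Submodule.mem_span_pair.1 hx
      have h1 : B u (a • u + b • v) = 0 := hx'.1
      have h2 : B v (a • u + b • v) = 0 := hx'.2
      simp [hA.self_eq_zero, h, alt_neg B hA u v] at h1 h2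
      simp [h1, h2]
    · rw [codisjoint_iff, eq_top_iff]
      intro x _
      have he : x = ((-B v x) • u + (B u x) • v) + (x - ((-B v x) • u + (B u x) • v)) :=
        (add_sub_cancel _ x).symm
      rw [he]
      refine Submodule.add_mem_sup (Submodule.mem_span_pair.2 ⟨_, _, rfl⟩) ⟨?_, ?_⟩
      · show B u _ = 0
        simp [hA.self_eq_zero, h]
      · show B v _ = 0
        simp [hA.self_eq_zero, alt_neg B hA u v, h]
  orth_left := fun p hp w hw => by
    obtain ⟨a, b, rfl⟩ := Submodule.mem_span_pair.1 hp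
    have h1 : B u w = 0 := hw.1
    have h2 : B v w = 0 := hw.2
    simp [h1, h2]
  orth_right := fun p hp w hw => by
    obtain ⟨a, b, rfl⟩ := Submodule.mem_span_pair.1 hp
    have h1 : B u w = 0 := hw.1
    have h2 : B v w = 0 := hw.2
    simp [alt_neg B hA u w, alt_neg B hA v w, h1, h2]
  orth_mem := fun x hx => by
    refine ⟨?_, ?_⟩
    · show B u x = 0
      rw [alt_neg B hA x u, hx u (Submodule.subset_span (Set.mem_insert _ _)), neg_zero]
    · show B v x = 0
      rw [alt_neg B hA x v,
        hx v (Submodule.subset_span (Set.mem_insert_of_mem _ (Set.mem_singleton _))), neg_zero]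

include hB in
theorem exists_pair {u : V} (hu : u ≠ 0) : ∃ v, B u v = 1 := by
  obtain ⟨y, hy⟩ := hB u hu
  exact ⟨(B u y)⁻¹ • y, by simp [hy]⟩

/-- The restricted form. -/
abbrev res (W : Submodule F V) : LinearMap.BilinForm F W := B.restrict W

include hA in
theorem isAlt_res (W : Submodule F V) : (res B W).IsAlt := fun x => hA (x : V)

include hA hB in
theorem nondeg_perp {u v : V} (h : B u v = 1) : Nondeg (res B (perp B u v)) := by
  intro w hw
  obtain ⟨y, hy⟩ := hB (w : V) (by simpa using hw)
  have hd := decomp B hA h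
  obtain ⟨p, hp, z, hz, rfl⟩ := hd.exists_add y
  refine ⟨⟨z, hz⟩, ?_⟩
  have : B (w : V) p = 0 := hd.orth_right p hp w w.2
  simpa [this] using hy

include hA in
theorem finrank_perp [FiniteDimensional F V] {u v : V} (h : B u v = 1) :
    Module.finrank F (perp B u v) + 2 = Module.finrank F V := by
  have hli : LinearIndependent F ![u, v] := by
    rw [LinearIndependent.pair_iff]
    intro s t hst
    have h1 := congrArg (B u) hst
    have h2 := congrArg (B v) hst
    simp [hA.self_eq_zero, h, alt_neg B hA u v] at h1 h2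
    exact ⟨h2, h1⟩
  have h2 : Module.finrank F (Submodule.span F {u, v}) = 2 := by
    have e := finrank_span_eq_card hli
    rw [Matrix.range_cons_cons_empty, Fintype.card_fin] at e
    exact e
  have := Submodule.finrank_add_eq_of_isCompl (decomp B hA h).isCompl
  omega

/-- Extension to `V` of isometries of the orthogonal of a pair. -/
noncomputable def extend {P W : Submodule F V} (hd : OrthDecomp (fun x y => B x y) P W) :
    Grp (res B W) →* Grp B := hd.ext

theorem extend_apply {P W : Submodule F V} (hd : OrthDecomp (fun x y => B x y) P W)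
    (g : Grp (res B W)) {p : V} (hp : p ∈ P) (w : W) :
    (extend B hd g : V ≃ₗ[F] V) (p + w) = p + ((g : W ≃ₗ[F] W) w : V) := hd.ext_apply g hp w

theorem exists_extend {P W : Submodule F V} (hd : OrthDecomp (fun x y => B x y) P W) (g : Grp B)
    (hg : ∀ p ∈ P, (g : V ≃ₗ[F] V) p = p) : ∃ g₀, extend B hd g₀ = g := hd.exists_ext g hg

/-! ### Generation -/

theorem closure_eq_top : ∀ (n : ℕ) {V : Type*} [AddCommGroup V] [Module F V]
    [FiniteDimensional F V] (B : LinearMap.BilinForm F V) (hA : B.IsAlt), Nondeg B →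
    Module.finrank F V = n → Subgroup.closure (tSet B hA ⊤) = ⊤ := by
  intro n
  induction n using Nat.strong_induction_on with
  | _ n ih =>
  intro V _ _ _ B hA hB hn
  rw [eq_top_iff]
  intro g _
  by_cases hV : ∀ x : V, x = 0
  · have : g = 1 := Grp.ext' B fun x => by rw [hV x]; simp
    rw [this]; exact one_mem _
  push Not at hV
  obtain ⟨u, hu⟩ := hV
  obtain ⟨v, hv⟩ := exists_pair B hB hu
  obtain ⟨a, ha, a1, a2⟩ := move_pair B hA hB
    (show B ((g : V ≃ₗ[F] V) u) ((g : V ≃ₗ[F] V) v) = 1 by rw [Grp.map_form g, hv]) hv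
  have hd := decomp B hA hv
  have hfix : ∀ p ∈ Submodule.span F {u, v}, ((a * g : Grp B) : V ≃ₗ[F] V) p = p := by
    intro p hp
    obtain ⟨s, t, rfl⟩ := Submodule.mem_span_pair.1 hp
    rw [map_add, map_smul, map_smul, Grp.mul_apply, Grp.mul_apply, a1, a2]
  obtain ⟨g₀, hg₀⟩ := exists_extend B hd (a * g) hfix
  have hW : Subgroup.closure (tSet (res B (perp B u v)) (isAlt_res B hA _) ⊤) = ⊤ :=
    ih _ (by have := finrank_perp B hA hv; omega) (res B (perp B u v)) (isAlt_res B hA _)
      (nondeg_perp B hA hB hv) rfl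
  have key : ∀ g₁ ∈ Subgroup.closure (tSet (res B (perp B u v)) (isAlt_res B hA _) ⊤),
      extend B hd g₁ ∈ Subgroup.closure (tSet B hA ⊤) := by
    intro g₁ hg₁
    induction hg₁ using Subgroup.closure_induction with
    | mem g₁ hg₁ =>
      obtain ⟨w, -, c, rfl⟩ := hg₁
      have : extend B hd (T (res B (perp B u v)) (isAlt_res B hA _) w c) = T B hA (w : V) c := by
        refine Grp.ext' B fun x => ?_
        obtain ⟨p, hp, z, hz, rfl⟩ := hd.exists_add x
        rw [show p + z = p + ((⟨z, hz⟩ : perp B u v) : V) from rfl, extend_apply B hd _ hp ⟨z, hz⟩]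
        have : B p (w : V) = 0 := hd.orth_left p hp w w.2
        simp [this, add_assoc]
      rw [this]
      exact T_mem_closure B hA Submodule.mem_top c
    | one => rw [map_one]; exact one_mem _
    | mul x y _ _ hx hy => rw [map_mul]; exact mul_mem hx hy
    | inv x _ hx => rw [map_inv]; exact inv_mem hx
  have h1 := key g₀ (hW ▸ Subgroup.mem_top g₀)
  rw [hg₀] at h1
  simpa using mul_mem (inv_mem ha) h1

include hB in
theorem closure_tSet [FiniteDimensional F V] : Subgroup.closure (tSet B hA ⊤) = ⊤ :=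
  closure_eq_top _ B hA hB rfl

/-! ### Order over a finite field -/

include hA hB in
theorem exists_one_lt_finrank [FiniteDimensional F V] {u : V} (hu : u ≠ 0) :
    2 ≤ Module.finrank F V := by
  obtain ⟨v, hv⟩ := exists_pair B hB hu
  have := finrank_perp B hA hv
  omega

theorem card_eq : ∀ (m : ℕ) {V : Type*} [AddCommGroup V] [Module F V] [Finite F]
    [FiniteDimensional F V] (B : LinearMap.BilinForm F V), B.IsAlt → Nondeg B →
    Module.finrank F V = 2 * m →
    Nat.card (Grp B) = Nat.card F ^ (m ^ 2) *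
      ∏ i ∈ Finset.range m, (Nat.card F ^ (2 * (i + 1)) - 1) := by
  intro m
  induction m with
  | zero =>
    intro V _ _ _ _ B _ _ hn
    haveI : Subsingleton V := Module.finrank_zero_iff.1 (by omega)
    haveI : Subsingleton (Grp B) := ⟨fun a b => Grp.ext' B fun x => Subsingleton.elim _ _⟩
    simp
  | succ m ih =>
    intro V _ _ _ _ B hA hB hn
    classical
    haveI : Finite V := Module.finite_of_finite F
    haveI : Finite (Grp B) := isom_finite _
    haveI : Nontrivial V := Module.nontrivial_of_finrank_pos (R := F) (by omega)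
    obtain ⟨u, hu⟩ := exists_ne (0 : V)
    obtain ⟨v, hv⟩ := exists_pair B hB hu
    have hd := decomp B hA hv
    let φ : Grp B → {p : V × V // B p.1 p.2 = 1} := fun g =>
      ⟨((g : V ≃ₗ[F] V) u, (g : V ≃ₗ[F] V) v), (Grp.map_form g u v).trans hv⟩
    have hfib : ∀ p, Nat.card {g : Grp B // φ g = p} =
        Nat.card (Grp (res B (perp B u v))) := by
      rintro ⟨⟨u', v'⟩, h'⟩
      obtain ⟨a, -, a1, a2⟩ := move_pair B hA hB hv h'
      rw [show Nat.card (Grp (res B (perp B u v))) = _ from hd.card_fixing.symm]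
      refine Nat.card_congr ?_
      refine (Equiv.mulLeft a⁻¹).subtypeEquiv fun g => ?_
      constructor
      · intro hg p hp
        have e1 : (g : V ≃ₗ[F] V) u = (a : V ≃ₗ[F] V) u :=
          (congrArg Prod.fst (congrArg Subtype.val hg)).trans a1.symm
        have e2 : (g : V ≃ₗ[F] V) v = (a : V ≃ₗ[F] V) v :=
          (congrArg Prod.snd (congrArg Subtype.val hg)).trans a2.symm
        obtain ⟨s, t, rfl⟩ := Submodule.mem_span_pair.1 hp
        show (a : V ≃ₗ[F] V).symm ((g : V ≃ₗ[F] V) (s • u + t • v)) = _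
        rw [map_add, map_smul, map_smul, e1, e2, ← map_smul, ← map_smul, ← map_add,
          LinearEquiv.symm_apply_apply]
      · intro hg
        have hu' : (a : V ≃ₗ[F] V).symm ((g : V ≃ₗ[F] V) u) = u :=
          hg u (Submodule.subset_span (Set.mem_insert _ _))
        have hv' : (a : V ≃ₗ[F] V).symm ((g : V ≃ₗ[F] V) v) = v :=
          hg v (Submodule.subset_span (Set.mem_insert_of_mem _ (Set.mem_singleton _)))
        rw [LinearEquiv.symm_apply_eq] at hu' hv'
        exact Subtype.ext (Prod.ext (hu'.trans a1) (hv'.trans a2))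
    have hcard : Nat.card (Grp B) = Nat.card {p : V × V // B p.1 p.2 = 1} *
        Nat.card (Grp (res B (perp B u v))) := by
      haveI : Fintype {p : V × V // B p.1 p.2 = 1} := Fintype.ofFinite _
      rw [Nat.card_congr (Equiv.sigmaFiberEquiv φ).symm, Nat.card_sigma]
      simp [hfib, Nat.card_eq_fintype_card]
    have hpairs : Nat.card {p : V × V // B p.1 p.2 = 1} =
        (Nat.card F ^ (2 * (m + 1)) - 1) * Nat.card F ^ (2 * m + 1) := by
      haveI : Fintype V := Fintype.ofFinite V
      have hs : ∀ x : {x : V // x ≠ 0}, Nat.card {y : V // B x.1 y = 1} =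
          Nat.card F ^ (2 * m + 1) := by
        rintro ⟨x, hx⟩
        obtain ⟨y₀, hy₀⟩ := exists_pair B hB hx
        have hk : Module.finrank F (LinearMap.ker (B x)) = 2 * m + 1 := by
          have h1 : Function.Surjective (B x) := fun a => ⟨a • y₀, by simp [hy₀]⟩
          have := (B x).finrank_range_add_finrank_ker
          rw [LinearMap.range_eq_top.2 h1, finrank_top, Module.finrank_self] at this
          omega
        rw [← hk, ← Module.natCard_eq_pow_finrank]
        exact Nat.card_congr ((Equiv.subRight y₀).subtypeEquiv fun y => by simp [hy₀, sub_eq_zero])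
      let e : {p : V × V // B p.1 p.2 = 1} ≃ Σ x : {x : V // x ≠ 0}, {y : V // B x.1 y = 1} :=
        { toFun := fun p => ⟨⟨p.1.1, (ne_zero_of_pair B hA p.2).1⟩, ⟨p.1.2, p.2⟩⟩
          invFun := fun s => ⟨(s.1.1, s.2.1), s.2.2⟩
          left_inv := fun p => rfl
          right_inv := fun s => rfl }
      rw [Nat.card_congr e, Nat.card_sigma, Finset.sum_congr rfl fun x _ => hs x,
        Finset.sum_const, Finset.card_univ, smul_eq_mul, Fintype.card_subtype_compl,
        Fintype.card_subtype_eq, ← Nat.card_eq_fintype_card,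
        Module.natCard_eq_pow_finrank (K := F), hn]
    rw [hcard, hpairs, ih (res B (perp B u v)) (isAlt_res B hA _) (nondeg_perp B hA hB hv)
      (by have := finrank_perp B hA hv; omega), Finset.prod_range_succ,
      show (m + 1) ^ 2 = (2 * m + 1) + m ^ 2 by ring, pow_add]
    ring

/-! ### Perfectness -/

include hA hB in
theorem exists_orth_pair [FiniteDimensional F V] (h4 : 4 ≤ Module.finrank F V) :
    ∃ u v : V, LinearIndependent F ![u, v] ∧ B u v = 0 := by
  haveI : Nontrivial V := Module.nontrivial_of_finrank_pos (R := F) (by omega)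
  obtain ⟨u, hu⟩ := exists_ne (0 : V)
  obtain ⟨w, hw⟩ := exists_pair B hB hu
  have hW := finrank_perp B hA hw
  haveI : Nontrivial (perp B u w) := Module.nontrivial_of_finrank_pos (R := F) (by omega)
  obtain ⟨⟨v, hv⟩, hv0⟩ := exists_ne (0 : perp B u w)
  refine ⟨u, v, ?_, hv.1⟩
  rw [LinearIndependent.pair_iff]
  intro s t hst
  have h2 : B w v = 0 := hv.2
  have h1 := congrArg (B w) hst
  simp [alt_neg B hA u w, hw, h2] at h1
  subst h1
  simp at hst
  rcases hst with h | h
  · exact ⟨rfl, h⟩
  · exact absurd (Subtype.ext h) hv0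

include hA hB in
theorem exists_orth_triple [FiniteDimensional F V] (h6 : 6 ≤ Module.finrank F V) :
    ∃ u v w : V, LinearIndependent F ![u, v] ∧ LinearIndependent F ![u, w] ∧
      LinearIndependent F ![u, v + w] ∧ B u v = 0 ∧ B u w = 0 ∧ B v w = 0 := by
  haveI : Nontrivial V := Module.nontrivial_of_finrank_pos (R := F) (by omega)
  obtain ⟨u, hu⟩ := exists_ne (0 : V)
  obtain ⟨u', hu'⟩ := exists_pair B hB hu
  have hW := finrank_perp B hA hu'
  obtain ⟨⟨v, hv⟩, ⟨w, hw⟩, hli, hvw⟩ := exists_orth_pair (res B (perp B u u')) (isAlt_res B hA _)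
    (nondeg_perp B hA hB hu') (by omega)
  have key : ∀ z : perp B u u', z ≠ 0 → LinearIndependent F ![u, (z : V)] := by
    intro z hz
    rw [LinearIndependent.pair_iff]
    intro s t hst
    have h2 : B u' (z : V) = 0 := z.2.2
    have h1 := congrArg (B u') hst
    simp [alt_neg B hA u u', hu', h2] at h1
    subst h1
    simp at hst
    rcases hst with h | h
    · exact ⟨rfl, h⟩
    · exact absurd h hz
  rw [LinearIndependent.pair_iff] at hli
  refine ⟨u, v, w, key ⟨v, hv⟩ fun h => ?_, key ⟨w, hw⟩ fun h => ?_,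
    key ⟨v + w, (perp B u u').add_mem hv hw⟩ fun h => ?_, hv.1, hw.1, hvw⟩
  · exact absurd (hli 1 0 (by simp [h])).1 one_ne_zero
  · exact absurd (hli 0 1 (by simp [h])).2 one_ne_zero
  · exact absurd (hli 1 1 (by simpa [Subtype.ext_iff] using congrArg Subtype.val h)).1 one_ne_zero

/-- The short-root element `x ↦ x + c (B(x,u) v + B(x,v) u)`, for orthogonal `u`, `v`. -/
def S (u v : V) (c : F) : Grp B := (T B hA u c)⁻¹ * T B hA (u + v) c * (T B hA v c)⁻¹

theorem S_apply {u v : V} (h : B u v = 0) (c : F) (x : V) :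
    (S B hA u v c : V ≃ₗ[F] V) x = x + (c * B x u) • v + (c * B x v) • u := by
  have h' : B v u = 0 := by rw [alt_neg B hA u v, h, neg_zero]
  simp only [S, T_inv, Grp.mul_apply, T_apply, map_add, map_smul, LinearMap.add_apply,
    LinearMap.smul_apply, smul_eq_mul, hA.self_eq_zero, h, h', mul_zero, add_zero, zero_add]
  match_scalars <;> ring

theorem S_add {u v w : V} (huv : B u v = 0) (huw : B u w = 0) (hvw : B v w = 0) (c : F) :
    S B hA u v c * S B hA u w c = S B hA u (v + w) c := by
  have h1 : B w v = 0 := by rw [alt_neg B hA v w, hvw, neg_zero]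
  have h2 : B v u = 0 := by rw [alt_neg B hA u v, huv, neg_zero]
  have h3 : B w u = 0 := by rw [alt_neg B hA u w, huw, neg_zero]
  refine Grp.ext' B fun x => ?_
  rw [Grp.mul_apply, S_apply B hA huw, S_apply B hA huv,
    S_apply B hA (by simp [huv, huw] : B u (v + w) = 0)]
  simp only [map_add, map_smul, LinearMap.add_apply, LinearMap.smul_apply, smul_eq_mul,
    hA.self_eq_zero, huv, h1, h3, mul_zero, add_zero]
  match_scalars <;> ring

theorem S_neg {u v : V} (huv : B u v = 0) (c : F) : S B hA u (-v) c = (S B hA u v c)⁻¹ := by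
  refine eq_inv_of_mul_eq_one_left (Grp.ext' B fun x => ?_)
  have h' : B v u = 0 := by rw [alt_neg B hA u v, huv, neg_zero]
  rw [Grp.mul_apply, S_apply B hA huv, S_apply B hA (by simp [huv] : B u (-v) = 0)]
  simp only [map_neg, map_add, map_smul, LinearMap.add_apply, LinearMap.smul_apply,
    LinearMap.neg_apply, smul_eq_mul, hA.self_eq_zero, huv, h', mul_zero, add_zero, neg_zero]
  show _ = x
  match_scalars <;> ring

include hA hB in
/-- Perfectness of the symplectic group. -/
theorem commutator_eq_top [FiniteDimensional F V]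
    (h : 6 ≤ Module.finrank F V ∨ (4 ≤ Module.finrank F V ∧ (2 : F) ≠ 0) ∨
      ∃ a : F, a ≠ 0 ∧ a * a ≠ 1) :
    commutator (Grp B) = ⊤ := by
  rw [← top_le_iff, ← closure_tSet B hA hB, Subgroup.closure_le]
  rintro _ ⟨v₀, -, c₀, rfl⟩
  rw [SetLike.mem_coe, ← Abelianization.ker_of, MonoidHom.mem_ker]
  by_cases hv₀ : v₀ = 0
  · rw [hv₀, T_zero_vec, map_one]
  set φ := (Abelianization.of : Grp B →* Abelianization (Grp B))
  have hconj : ∀ {u w : V}, u ≠ 0 → w ≠ 0 → ∀ c, φ (T B hA u c) = φ (T B hA w c) := by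
    intro u w hu hw c
    obtain ⟨g, -, hg⟩ := move_top B hA hB hu hw
    rw [← hg, ← conj_T B hA g u c, map_mul, map_mul, map_inv, mul_inv_cancel_comm]
  have hS : ∀ {u v : V}, LinearIndependent F ![u, v] → ∀ c,
      φ (S B hA u v c) = (φ (T B hA v₀ c))⁻¹ := by
    intro u v hli c
    have hu : u ≠ 0 := hli.ne_zero 0
    have hv : v ≠ 0 := hli.ne_zero 1
    have huv : u + v ≠ 0 := fun e => one_ne_zero
      (LinearIndependent.pair_iff.1 hli 1 1 (by simpa using e)).1
    rw [S, map_mul, map_mul, map_inv, map_inv, hconj hu hv₀, hconj hv hv₀, hconj huv hv₀,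
      inv_mul_cancel, one_mul]
  rcases h with h6 | ⟨h4, h2⟩ | ⟨a, ha0, ha1⟩
  · obtain ⟨u, v, w, l1, l2, l3, e1, e2, e3⟩ := exists_orth_triple B hA hB h6
    have := congrArg φ (S_add B hA e1 e2 e3 c₀)
    rw [map_mul, hS l1, hS l2, hS l3] at this
    exact inv_eq_one.1 (mul_eq_left.1 this)
  · obtain ⟨u, v, l1, e1⟩ := exists_orth_pair B hA hB h4
    have hsq : ∀ c, φ (T B hA v₀ c) * φ (T B hA v₀ c) = 1 := by
      intro c
      have := congrArg φ (S_neg B hA e1 c)
      have l2 : LinearIndependent F ![u, -v] := by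
        rw [LinearIndependent.pair_iff] at l1 ⊢
        intro s t hst
        have := l1 s (-t) (by simpa using hst)
        exact ⟨this.1, neg_eq_zero.1 this.2⟩
      rw [map_inv, hS l1, hS l2, inv_inv, inv_eq_iff_mul_eq_one] at this
      exact this
    have := hsq (c₀ / 2)
    rwa [← map_mul, T_add, ← two_mul, mul_div_cancel₀ c₀ h2] at this
  · have : ∀ c, φ (T B hA v₀ c) = φ (T B hA v₀ (a * a * c)) := by
      intro c
      rw [← T_smul]
      exact hconj hv₀ (smul_ne_zero ha0 hv₀) c
    set d := c₀ / (a * a - 1) with hd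
    have hc : a * a * d = c₀ + d := by
      have : (a * a - 1) * d = c₀ := by rw [hd, mul_div_cancel₀ c₀ (sub_ne_zero_of_ne ha1)]
      linear_combination this
    have h1 := this d
    rw [hc, ← T_add, map_mul] at h1
    exact right_eq_mul.1 h1

/-! ### The action on points -/

include hA hB in
theorem exists_move_point_nonorth {u v w : V} (hv : B u v ≠ 0) (hw : B u w ≠ 0) :
    ∃ g : Grp B, (g : V ≃ₗ[F] V) u = u ∧ ∃ a : F, a ≠ 0 ∧ (g : V ≃ₗ[F] V) v = a • w := by
  obtain ⟨g, -, g1, g2⟩ := move_pair B hA hB (u := u) (v := (B u v)⁻¹ • v) (u' := u)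
    (v' := (B u w)⁻¹ • w) (by simp [hv]) (by simp [hw])
  refine ⟨g, g1, B u v * (B u w)⁻¹, mul_ne_zero hv (inv_ne_zero hw), ?_⟩
  rw [map_smul] at g2
  rw [mul_smul, ← g2, smul_smul, mul_inv_cancel₀ hv, one_smul]

include hA hB in
theorem exists_not_orth_ker [FiniteDimensional F V] {u v : V} (hli : LinearIndependent F ![u, v]) :
    ∃ y ∈ LinearMap.ker (B u), B v y ≠ 0 := by
  by_contra hc
  push Not at hc
  have hu : u ≠ 0 := hli.ne_zero 0
  obtain ⟨y₀, hy₀⟩ := exists_pair B hB hu
  -- then `B v` is a multiple of `B u`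
  have hkey : ∀ x, B v x = B v y₀ * B u x := by
    intro x
    have := hc (x - B u x • y₀) (by simp [hy₀])
    simp only [map_sub, map_smul, smul_eq_mul] at this
    linear_combination this
  have h0 : v - B v y₀ • u = 0 := by
    by_contra hne
    obtain ⟨x, hx⟩ := hB _ hne
    exact hx (by simp [hkey x])
  have := LinearIndependent.pair_iff.1 hli (-B v y₀) 1 (by
    rw [one_smul, neg_smul, ← h0]; abel)
  exact one_ne_zero this.2

include hA hB in
theorem exists_move_point_orth [FiniteDimensional F V] {u v w : V}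
    (hv : LinearIndependent F ![u, v]) (hw : LinearIndependent F ![u, w])
    (hv0 : B u v = 0) (hw0 : B u w = 0) :
    ∃ g : Grp B, (g : V ≃ₗ[F] V) u = u ∧ (g : V ≃ₗ[F] V) v = w := by
  obtain ⟨g, hg, hgv⟩ := move B hA (U := LinearMap.ker (B u)) (u := v) (w := w) hv0 hw0
    (exists_not_orth_ker B hA hB hv) (exists_not_orth_ker B hA hB hw)
  exact ⟨g, closure_fix B hA (fun x hx => hx) hg, hgv⟩

/-- Linear automorphisms act on points; the isometry group inherits the action. -/
theorem smul_point (g : Grp B) {v : V} (hv : v ≠ 0) :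
    g • Projectivization.mk F v hv =
      Projectivization.mk F ((g : V ≃ₗ[F] V) v) (by simpa using hv) := rfl

include hA hB in
theorem pretransitive_points : MulAction.IsPretransitive (Grp B) (ℙ F V) := by
  refine ⟨fun p q => ?_⟩
  induction p using Projectivization.ind with | _ v hv =>
  induction q using Projectivization.ind with | _ w hw =>
  obtain ⟨g, -, hg⟩ := move_top B hA hB hv hw
  exact ⟨g, by rw [smul_point]; simp [hg]⟩

include hA hB in
theorem preprimitive_points [FiniteDimensional F V] :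
    MulAction.IsPreprimitive (Grp B) (ℙ F V) := by
  haveI := pretransitive_points B hA hB
  refine MulAction.IsPreprimitive.mk fun {S} hS => ?_
  show S.Subsingleton ∨ S = Set.univ
  by_contra hc
  push Not at hc
  obtain ⟨hns, huniv⟩ := hc
  obtain ⟨p, hp, q, hq, hpq⟩ := hns
  induction p using Projectivization.ind with | _ u hu =>
  induction q using Projectivization.ind with | _ v hv =>
  have hli : LinearIndependent F ![u, v] := by
    rw [LinearIndependent.pair_iff' hu]
    intro a ha
    apply hpq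
    rw [Projectivization.mk_eq_mk_iff']
    refine ⟨a⁻¹, ?_⟩
    have : a ≠ 0 := fun h => hv (by rw [← ha, h, zero_smul])
    rw [← ha, smul_smul, inv_mul_cancel₀ this, one_smul]
  -- stabiliser elements of a point of the block preserve it
  have hstab : ∀ (g : Grp B) (a : ℙ F V), a ∈ S → g • a ∈ S → ∀ b ∈ S, g • b ∈ S := by
    intro g a ha hga b hb
    have : g • S = S := by
      by_contra hne
      exact Set.disjoint_left.1 ((MulAction.isBlock_iff_smul_eq_or_disjoint.1 hS g).resolve_left hne)
        (Set.smul_mem_smul_set ha) hga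
    rw [← this]
    exact Set.smul_mem_smul_set hb
  -- a non-orthogonal pair in the block forces everything
  have hnon : ∀ (a b : V) (ha : a ≠ 0) (hb : b ≠ 0), B a b ≠ 0 →
      Projectivization.mk F a ha ∈ S → Projectivization.mk F b hb ∈ S →
      ∀ (c : V) (hc : c ≠ 0), B a c ≠ 0 → Projectivization.mk F c hc ∈ S := by
    intro a b ha hb hab haS hbS c hc hac
    obtain ⟨g, ga, s, hs, gb⟩ := exists_move_point_nonorth B hA hB hab hac
    have := hstab g _ haS (by rw [smul_point]; simpa [ga] using haS) _ hbS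
    rw [smul_point] at this
    convert this using 1
    rw [Projectivization.mk_eq_mk_iff']
    exact ⟨s⁻¹, by rw [gb, smul_smul, inv_mul_cancel₀ hs, one_smul]⟩
  have horth : ∀ (a b : V) (ha : a ≠ 0) (hb : b ≠ 0), LinearIndependent F ![a, b] → B a b = 0 →
      Projectivization.mk F a ha ∈ S → Projectivization.mk F b hb ∈ S →
      ∀ (c : V) (hc : c ≠ 0), B a c = 0 → Projectivization.mk F c hc ∈ S := by
    intro a b ha hb hab hab0 haS hbS c hc hac
    by_cases hl : LinearIndependent F ![a, c]
    · obtain ⟨g, ga, gb⟩ := exists_move_point_orth B hA hB hab hl hab0 hac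
      have := hstab g _ haS (by rw [smul_point]; simpa [ga] using haS) _ hbS
      rw [smul_point] at this
      simpa [gb] using this
    · rw [LinearIndependent.pair_iff' ha] at hl
      push Not at hl
      obtain ⟨s, rfl⟩ := hl
      convert haS using 1
      rw [Projectivization.mk_eq_mk_iff']
      exact ⟨s, rfl⟩
  apply huniv
  rw [Set.eq_univ_iff_forall]
  intro r
  induction r using Projectivization.ind with | _ c hc =>
  have hne : ∀ {x : V}, x ≠ 0 → ∃ y ∈ (⊤ : Submodule F V), B x y ≠ 0 := fun hx =>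
    (hB _ hx).elim fun y hy => ⟨y, Submodule.mem_top, hy⟩
  by_cases huv : B u v = 0
  · by_cases huc : B u c = 0
    · exact horth u v hu hv hli huv hp hq c hc huc
    · have hdim : 4 ≤ Module.finrank F V := by
        by_contra hlt
        obtain ⟨y, hy⟩ := exists_pair B hB hu
        have := finrank_perp B hA hy
        haveI : Subsingleton (perp B u y) := by
          by_contra h
          haveI := not_subsingleton_iff_nontrivial.1 h
          obtain ⟨z, hz⟩ := exists_ne (0 : perp B u y)
          have := exists_one_lt_finrank (res B (perp B u y)) (isAlt_res B hA _)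
            (nondeg_perp B hA hB hy) hz
          omega
        obtain ⟨p', hp', z, hz, he⟩ := (decomp B hA hy).exists_add v
        have : (⟨z, hz⟩ : perp B u y) = 0 := Subsingleton.elim _ _
        obtain ⟨s, t, rfl⟩ := Submodule.mem_span_pair.1 hp'
        rw [show z = 0 from congrArg Subtype.val this, add_zero] at he
        rw [← he] at huv
        simp [hA.self_eq_zero, hy] at huv
        subst huv
        simp at he
        exact (LinearIndependent.pair_iff' hu).1 hli s he
      have hh : B u ((B u c)⁻¹ • c) = 1 := by simp [huc]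
      haveI : Nontrivial (perp B u ((B u c)⁻¹ • c)) := Module.nontrivial_of_finrank_pos (R := F)
        (by have := finrank_perp B hA hh; omega)
      obtain ⟨⟨s, hs⟩, hs0⟩ := exists_ne (0 : perp B u ((B u c)⁻¹ • c))
      have hs0' : s ≠ 0 := fun h => hs0 (Subtype.ext h)
      have hus : B u s = 0 := hs.1
      have hsc : B s c = 0 := by
        have h2 : B ((B u c)⁻¹ • c) s = 0 := hs.2
        rw [alt_neg B hA c s]
        simpa [huc] using h2
      have hsS := horth u v hu hv hli huv hp hq s hs0' hus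
      refine horth s u hs0' hu ?_ (by rw [alt_neg B hA u s, hus, neg_zero]) hsS hp c hc hsc
      rw [LinearIndependent.pair_iff' hs0']
      intro t ht
      exact huc (by rw [← ht]; simp [hsc])
  · by_cases huc : B u c = 0
    · obtain ⟨z, -, hz1, hz2⟩ := exists_both B (U := ⊤) (hne hu) (hne hc)
      have hz0 : z ≠ 0 := by rintro rfl; simp at hz1
      have hzS := hnon u v hu hv huv hp hq z hz0 hz1
      exact hnon z u hz0 hu (by rw [alt_neg B hA u z]; simpa using hz1) hzS hp c hc
        (by rw [alt_neg B hA c z]; simpa using hz2)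
    · exact hnon u v hu hv huv hp hq c hc huc

include hA hB in
theorem mem_center_iff [FiniteDimensional F V] (g : Grp B) :
    g ∈ Subgroup.center (Grp B) ↔ ∃ a : F, ∀ x, (g : V ≃ₗ[F] V) x = a • x := by
  constructor
  · intro hg
    have hline : ∀ v : V, v ≠ 0 → ∃ a : F, (g : V ≃ₗ[F] V) v = a • v := by
      intro v hv
      obtain ⟨y, hy⟩ := exists_pair B hB hv
      have h := conj_T B hA g v 1
      rw [← (Subgroup.mem_center_iff.1 hg (T B hA v 1)), mul_inv_cancel_right] at h
      have h1 := congrArg (fun t : Grp B => (t : V ≃ₗ[F] V) y) h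
      simp [alt_neg B hA v y, hy] at h1
      refine ⟨(-B y ((g : V ≃ₗ[F] V) v))⁻¹, ?_⟩
      have hne : B y ((g : V ≃ₗ[F] V) v) ≠ 0 := fun h0 => hv (by simpa [h0] using h1)
      have : v = (-B y ((g : V ≃ₗ[F] V) v)) • (g : V ≃ₗ[F] V) v := by
        rw [neg_smul, ← h1, neg_neg]
      exact (eq_inv_smul_iff₀ (neg_ne_zero.2 hne)).2 this.symm
    rcases subsingleton_or_nontrivial V with hs | hs
    · exact ⟨1, fun x => Subsingleton.elim _ _⟩
    obtain ⟨u, hu⟩ := exists_ne (0 : V)
    obtain ⟨a, ha⟩ := hline u hu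
    refine ⟨a, fun x => ?_⟩
    by_cases hx : x = 0
    · simp [hx]
    obtain ⟨b, hb⟩ := hline x hx
    by_cases hl : LinearIndependent F ![u, x]
    · have hux : u + x ≠ 0 := fun e => one_ne_zero
        (LinearIndependent.pair_iff.1 hl 1 1 (by simpa using e)).1
      obtain ⟨c, hc⟩ := hline _ hux
      rw [map_add, ha, hb, smul_add] at hc
      have := LinearIndependent.pair_iff.1 hl (a - c) (b - c) (by
        rw [sub_smul, sub_smul]
        linear_combination (norm := module) hc)
      rw [hb, sub_eq_zero.1 this.1, sub_eq_zero.1 this.2]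
    · rw [LinearIndependent.pair_iff' hu] at hl
      push Not at hl
      obtain ⟨s, rfl⟩ := hl
      rw [map_smul, ha, smul_comm]
  · rintro ⟨a, ha⟩
    rw [Subgroup.mem_center_iff]
    intro h
    refine Grp.ext' B fun x => ?_
    rw [Grp.mul_apply, Grp.mul_apply, ha, ha, map_smul]

include hA in
theorem scalar_sq [Nontrivial V] (hB : Nondeg B) {g : Grp B} {a : F}
    (ha : ∀ x, (g : V ≃ₗ[F] V) x = a • x) : a * a = 1 := by
  obtain ⟨u, hu⟩ := exists_ne (0 : V)
  obtain ⟨v, hv⟩ := exists_pair B hB hu
  have := Grp.map_form g u v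
  rw [ha, ha] at this
  simpa [hv] using this

include hA hB in
theorem card_center [FiniteDimensional F V] [Nontrivial V] [Fintype F] :
    Nat.card (Subgroup.center (Grp B)) = Nat.gcd 2 (Fintype.card F - 1) := by
  classical
  let sc : {a : Fˣ // a ^ 2 = 1} → Subgroup.center (Grp B) := fun a =>
    ⟨⟨LinearEquiv.smulOfUnit a.1, fun x y => by
        show B ((a.1 : F) • x) ((a.1 : F) • y) = B x y
        have h : (a.1 : F) * (a.1 : F) = 1 := by
          rw [← Units.val_mul, ← pow_two, a.2, Units.val_one]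
        simp [← mul_assoc, h]⟩, (mem_center_iff B hA hB _).2 ⟨a.1, fun x => rfl⟩⟩
  have hbij : Function.Bijective sc := by
    refine ⟨fun a b h => ?_, fun g => ?_⟩
    · obtain ⟨u, hu⟩ := exists_ne (0 : V)
      have h1 := congrArg (fun t : Subgroup.center (Grp B) => ((t : Grp B) : V ≃ₗ[F] V) u) h
      exact Subtype.ext (Units.ext (smul_left_injective F hu h1))
    · obtain ⟨a, ha⟩ := (mem_center_iff B hA hB g.1).1 g.2
      have h1 := scalar_sq B hA hB ha
      refine ⟨⟨Units.mkOfMulEqOne a a h1, Units.ext (by simpa [pow_two] using h1)⟩, ?_⟩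
      exact Subtype.ext (Grp.ext' B fun x => (ha x).symm)
  rw [← Nat.card_eq_of_bijective sc hbij]
  have : Nat.card {a : Fˣ // a ^ 2 = 1} = Nat.card (powMonoidHom 2 : Fˣ →* Fˣ).ker := rfl
  rw [this, IsCyclic.card_powMonoidHom_ker, Nat.card_units, Nat.card_eq_fintype_card, Nat.gcd_comm]

include hA hB in
/-- Iwasawa's criterion for the quotient by the centre. -/
theorem simple_quotient [FiniteDimensional F V] [Nontrivial V]
    (h : 6 ≤ Module.finrank F V ∨ (4 ≤ Module.finrank F V ∧ (2 : F) ≠ 0) ∨
      ∃ a : F, a ≠ 0 ∧ a * a ≠ 1) :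
    IsSimpleGroup (Grp B ⧸ Subgroup.center (Grp B)) := by
  haveI := preprimitive_points B hA hB
  have hker : (MulAction.toPermHom (Grp B) (ℙ F V)).ker = Subgroup.center (Grp B) := by
    ext g
    rw [mem_center_iff B hA hB, MonoidHom.mem_ker]
    constructor
    · intro hg
      have hline : ∀ v : V, v ≠ 0 → ∃ a : F, (g : V ≃ₗ[F] V) v = a • v := by
        intro v hv
        have := congrArg (fun e : Equiv.Perm (ℙ F V) => e (Projectivization.mk F v hv)) hg
        simp [MulAction.toPermHom_apply, smul_point, Projectivization.mk_eq_mk_iff'] at this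
        obtain ⟨a, ha⟩ := this
        exact ⟨a, ha.symm⟩
      obtain ⟨u, hu⟩ := exists_ne (0 : V)
      obtain ⟨a, ha⟩ := hline u hu
      refine ⟨a, fun x => ?_⟩
      by_cases hx : x = 0
      · simp [hx]
      obtain ⟨b, hb⟩ := hline x hx
      by_cases hl : LinearIndependent F ![u, x]
      · have hux : u + x ≠ 0 := fun e => one_ne_zero
          (LinearIndependent.pair_iff.1 hl 1 1 (by simpa using e)).1
        obtain ⟨c, hc⟩ := hline _ hux
        rw [map_add, ha, hb, smul_add] at hc
        have := LinearIndependent.pair_iff.1 hl (a - c) (b - c) (by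
          rw [sub_smul, sub_smul]
          linear_combination (norm := module) hc)
        rw [hb, sub_eq_zero.1 this.1, sub_eq_zero.1 this.2]
      · rw [LinearIndependent.pair_iff' hu] at hl
        push Not at hl
        obtain ⟨s, rfl⟩ := hl
        rw [map_smul, ha, smul_comm]
    · rintro ⟨a, ha⟩
      refine Equiv.ext fun p => ?_
      induction p using Projectivization.ind with | _ v hv =>
      show g • Projectivization.mk F v hv = Projectivization.mk F v hv
      rw [smul_point, Projectivization.mk_eq_mk_iff']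
      exact ⟨a, (ha v).symm⟩
  let ψ : Grp B ⧸ Subgroup.center (Grp B) →* Equiv.Perm (ℙ F V) :=
    QuotientGroup.lift _ (MulAction.toPermHom _ _) hker.ge
  letI : MulAction (Grp B ⧸ Subgroup.center (Grp B)) (ℙ F V) := MulAction.compHom _ ψ
  haveI : MulAction.IsPreprimitive (Grp B ⧸ Subgroup.center (Grp B)) (ℙ F V) :=
    MulAction.IsPreprimitive.of_surjective (φ := QuotientGroup.mk' _)
      (f := { toFun := id, map_smul' := fun _ _ => rfl }) Function.surjective_id
  have hfaith : FaithfulSMul (Grp B ⧸ Subgroup.center (Grp B)) (ℙ F V) := by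
    refine ⟨fun {a b} hab => ?_⟩
    refine inv_mul_eq_one.1 ?_
    obtain ⟨g, hg⟩ := QuotientGroup.mk_surjective (a⁻¹ * b)
    have h1 : g ∈ (MulAction.toPermHom (Grp B) (ℙ F V)).ker := MonoidHom.mem_ker.2 (Equiv.ext fun p => by
      show ((g : Grp B ⧸ Subgroup.center (Grp B))) • p = p
      rw [hg, mul_smul, ← hab p, inv_smul_smul])
    rw [hker] at h1
    rw [← hg, QuotientGroup.eq_one_iff]
    exact h1
  let Ts : ℙ F V → Subgroup (Grp B) := fun p => Subgroup.closure (tSet B hA p.submodule)
  have Ts_eq : ∀ (v : V) (hv : v ≠ 0) (t : Grp B),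
      t ∈ tSet B hA (Projectivization.mk F v hv).submodule ↔ ∃ c, t = T B hA v c := by
    intro v hv t
    rw [Projectivization.submodule_mk]
    constructor
    · rintro ⟨w, hw, c, rfl⟩
      obtain ⟨a, rfl⟩ := Submodule.mem_span_singleton.1 hw
      exact ⟨a * a * c, T_smul B hA v a c⟩
    · rintro ⟨c, rfl⟩
      exact ⟨v, Submodule.mem_span_singleton_self v, c, rfl⟩
  let I : MulAction.IwasawaStructure (Grp B ⧸ Subgroup.center (Grp B)) (ℙ F V) :=
    { T := fun p => (Ts p).map (QuotientGroup.mk' _)
      is_comm := fun p => by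
        induction p using Projectivization.ind with | _ v hv =>
        haveI : IsMulCommutative (Ts (Projectivization.mk F v hv)) := by
          refine Subgroup.isMulCommutative_closure ?_
          intro x hx y hy
          obtain ⟨c, rfl⟩ := (Ts_eq v hv x).1 hx
          obtain ⟨d, rfl⟩ := (Ts_eq v hv y).1 hy
          rw [T_add, T_add, add_comm]
        exact Subgroup.map_isMulCommutative _ _
      is_conj := fun g p => by
        obtain ⟨g, rfl⟩ := QuotientGroup.mk_surjective g
        induction p using Projectivization.ind with | _ v hv =>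
        have hsm : (g : Grp B ⧸ Subgroup.center (Grp B)) • Projectivization.mk F v hv =
            Projectivization.mk F ((g : V ≃ₗ[F] V) v) (by simpa using hv) := rfl
        show (Ts ((g : Grp B ⧸ Subgroup.center (Grp B)) • Projectivization.mk F v hv)).map _ = _
        rw [hsm]
        have e : Ts (Projectivization.mk F ((g : V ≃ₗ[F] V) v) (by simpa using hv)) =
            (Ts (Projectivization.mk F v hv)).map (MulAut.conj g).toMonoidHom := by
          simp only [Ts]
          rw [MonoidHom.map_closure]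
          congr 1
          ext t
          rw [Ts_eq]
          constructor
          · rintro ⟨c, rfl⟩
            exact ⟨T B hA v c, (Ts_eq v hv _).2 ⟨c, rfl⟩, conj_T B hA g v c⟩
          · rintro ⟨s, hs, rfl⟩
            obtain ⟨c, rfl⟩ := (Ts_eq v hv s).1 hs
            exact ⟨c, conj_T B hA g v c⟩
        rw [e, Subgroup.map_map]
        ext t
        rw [Subgroup.mem_pointwise_smul_iff_inv_smul_mem]
        simp only [Subgroup.mem_map, MulAut.smul_def, MulAut.inv_apply, MulAut.conj_symm_apply,
          MonoidHom.coe_comp, Function.comp_apply, MulEquiv.coe_toMonoidHom, MulAut.conj_apply,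
          QuotientGroup.mk'_apply]
        constructor
        · rintro ⟨a, ha, rfl⟩
          exact ⟨a, ha, by simp [mul_assoc]⟩
        · rintro ⟨a, ha, hat⟩
          exact ⟨a, ha, by simp [hat, mul_assoc]⟩
      is_generator := by
        rw [← Subgroup.map_iSup, show (⨆ p, Ts p) = ⊤ from ?_]
        · exact Subgroup.map_top_of_surjective _ (QuotientGroup.mk'_surjective _)
        rw [← top_le_iff, ← closure_tSet B hA hB, Subgroup.closure_le]
        rintro _ ⟨v, -, c, rfl⟩
        by_cases hv : v = 0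
        · rw [hv, T_zero_vec]; exact one_mem _
        · exact Subgroup.mem_iSup_of_mem (Projectivization.mk F v hv)
            (Subgroup.subset_closure ((Ts_eq v hv _).2 ⟨c, rfl⟩)) }
  haveI : Nontrivial (Grp B ⧸ Subgroup.center (Grp B)) := by
    obtain ⟨u, hu⟩ := exists_ne (0 : V)
    obtain ⟨v, hv⟩ := exists_pair B hB hu
    refine nontrivial_of_ne ((T B hA u 1 : Grp B) : Grp B ⧸ Subgroup.center (Grp B)) 1 fun e => ?_
    rw [QuotientGroup.eq_one_iff, mem_center_iff B hA hB] at e
    obtain ⟨a, ha⟩ := e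
    have h1 := ha u
    have h2 := ha v
    simp [hA.self_eq_zero] at h1
    rw [T_apply, one_mul, alt_neg B hA u v, hv, show a = 1 from smul_left_injective F hu
      (by simpa using h1.symm), one_smul] at h2
    simp [hu] at h2
  have hperf : commutator (Grp B ⧸ Subgroup.center (Grp B)) = ⊤ := by
    haveI : Group.IsPerfect (Grp B) := ⟨commutator_eq_top B hA hB h⟩
    exact Group.IsPerfect.commutator_eq_top
  exact MulAction.IwasawaStructure.isSimpleGroup hperf I hfaith

end Cfsg.Agent.Classical.Sp
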