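import Cfsg.Agent.Lib.Classical.MaxLinTransv
import Cfsg.Agent.Lib.Classical.Symplectic

/-!
The symplectic similarity group is maximal in the special linear group.
-/

set_option autoImplicit false
set_option linter.unusedSectionVars false

open Module Matrix

namespace Cfsg.Agent.Classical.MaxLin

variable {F : Type*} [Field F] {n : ℕ}

/-- A bilinear form given as a function. -/
noncomputable def bilinOf {f : (Fin n → F) → (Fin n → F) → F} (h : Cfsg.Geo.IsBilinearForm f) :
    LinearMap.BilinForm F (Fin n → F) :=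
  LinearMap.mk₂ F f h.add_left h.smul_left h.add_right h.smul_right

theorem bilinOf_apply {f : (Fin n → F) → (Fin n → F) → F} (h : Cfsg.Geo.IsBilinearForm f) (x y : Fin n → F) :
    bilinOf h x y = f x y := rfl

/-- The matrix of an isometry. -/
noncomputable def toGLHom (B : LinearMap.BilinForm F (Fin n → F)) : Sp.Grp B →* GL (Fin n) F where
  toFun g := Matrix.GeneralLinearGroup.toLin.symm
    (LinearMap.GeneralLinearGroup.ofLinearEquiv (g : (Fin n → F) ≃ₗ[F] (Fin n → F)))
  map_one' := by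
    refine (MulEquiv.symm_apply_eq _).2 (Units.ext (LinearMap.ext fun x => ?_))
    simp
  map_mul' a b := by
    rw [← map_mul]
    exact congrArg _ (Units.ext (LinearMap.ext fun x => rfl))

theorem toGLHom_mulVec (B : LinearMap.BilinForm F (Fin n → F)) (g : Sp.Grp B) (x : Fin n → F) :
    ((toGLHom B g : GL (Fin n) F) : Matrix (Fin n) (Fin n) F) *ᵥ x = (g : (Fin n → F) ≃ₗ[F] (Fin n → F)) x := by
  show (LinearMap.toMatrix' _) *ᵥ x = _
  rw [LinearMap.toMatrix'_mulVec]
  rfl

variable {f : (Fin n → F) → (Fin n → F) → F} (hf : Cfsg.Geo.IsSymplecticForm f)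

include hf

theorem bilinOf_isAlt : (bilinOf hf.bilinear).IsAlt := hf.alternating

theorem bilinOf_nondeg : Sp.Nondeg (bilinOf hf.bilinear) := fun u hu => (hf.nondegenerate u hu).2

theorem T_toGLHom (v : Fin n → F) (c : F) (h : ((c • (bilinOf hf.bilinear).flip v) : Dual F _) v = 0) :
    toGLHom _ (Sp.T _ (bilinOf_isAlt hf) v c) = transGL (c • (bilinOf hf.bilinear).flip v) v h :=
  gl_ext fun x => by rw [toGLHom_mulVec, Sp.T_apply, transGL_apply]; rfl

theorem sim_transGL_mem (v : Fin n → F) (c : F) (h : ((c • (bilinOf hf.bilinear).flip v) : Dual F _) v = 0) :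
    transGL (c • (bilinOf hf.bilinear).flip v) v h ∈
      Cfsg.Geo.similarityGroup f ⊓ Cfsg.Geo.specialLinear (Fin n) F := by
  refine Subgroup.mem_inf.2 ⟨⟨1, fun x y => ?_⟩, transGL_mem_sl _ _ h⟩
  rw [← T_toGLHom hf v c h, toGLHom_mulVec, toGLHom_mulVec, Units.val_one, one_mul]
  exact Sp.Grp.map_form (Sp.T _ (bilinOf_isAlt hf) v c) x y

theorem sp_le {M : Subgroup (GL (Fin n) F)} (hle : Cfsg.Geo.similarityGroup f ⊓ Cfsg.Geo.specialLinear (Fin n) F ≤ M)
    (g : Sp.Grp (bilinOf hf.bilinear)) : toGLHom _ g ∈ M := by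
  have : Subgroup.closure (Sp.tSet _ (bilinOf_isAlt hf) ⊤) ≤ M.comap (toGLHom (bilinOf hf.bilinear)) := by
    rw [Subgroup.closure_le]
    rintro _ ⟨v, -, c, rfl⟩
    have h : ((c • (bilinOf hf.bilinear).flip v) : Dual F _) v = 0 := by simp [bilinOf_apply, hf.alternating]
    rw [SetLike.mem_coe, Subgroup.mem_comap, T_toGLHom hf v c h]
    exact hle (sim_transGL_mem hf v c h)
  rw [Sp.closure_tSet _ (bilinOf_isAlt hf) (bilinOf_nondeg hf)] at this
  exact this (Subgroup.mem_top g)

theorem similarity_max (hn : 3 ≤ n) {M : Subgroup (GL (Fin n) F)}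
    (hle : Cfsg.Geo.similarityGroup f ⊓ Cfsg.Geo.specialLinear (Fin n) F ≤ M)
    (hg : ∃ g ∈ M, g ∉ Cfsg.Geo.similarityGroup f) : Cfsg.Geo.specialLinear (Fin n) F ≤ M := by
  haveI : Nontrivial (Fin n) := Fin.nontrivial_iff_two_le.2 (by omega)
  obtain ⟨g, hg, hgns⟩ := hg
  set B := bilinOf hf.bilinear with hBdef
  have hA : B.IsAlt := bilinOf_isAlt hf
  have hnd : Sp.Nondeg B := bilinOf_nondeg hf
  have hBn : B.Nondegenerate := (LinearMap.IsAlt.isRefl hA).nondegenerate_iff_separatingLeft.2 fun x hx => by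
    by_contra h0; obtain ⟨y, hy⟩ := hnd x h0; exact hy (hx y)
  have hrep : ∀ φ : Dual F (Fin n → F), ∃ u, B.flip u = φ := fun φ => by
    refine ⟨-((B.toDual hBn).symm φ), LinearMap.ext fun x => ?_⟩
    rw [map_neg, LinearMap.neg_apply, LinearMap.BilinForm.flip_apply, Sp.alt_neg B hA, neg_neg,
      ← LinearMap.BilinForm.toDual_def (b := hBn), LinearEquiv.apply_symm_apply]
  have hsp : ∀ (v : Fin n → F) (c : F), Tm M (c • B.flip v) v := fun v c => by
    have h : ((c • B.flip v) : Dual F _) v = 0 := by simp [hA.self_eq_zero]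
    exact ⟨h, hle (sim_transGL_mem hf v c h)⟩
  have hmove : ∀ (h : Sp.Grp B) u v, Tm M (B.flip u) v →
      Tm M (B.flip ((h : (Fin n → F) ≃ₗ[F] (Fin n → F)) u)) ((h : (Fin n → F) ≃ₗ[F] (Fin n → F)) v) := by
    intro h u v hu
    have := hu.conj (sp_le hf hle h)
    rw [toGLHom_mulVec] at this
    convert this using 1
    refine LinearMap.ext fun x => ?_
    rw [LinearMap.comp_apply, Matrix.toLin'_apply, ← map_inv, toGLHom_mulVec, LinearMap.BilinForm.flip_apply,
      LinearMap.BilinForm.flip_apply, ← Sp.Grp.map_form h ((h⁻¹ : Sp.Grp B) |>.1 x) u, ← Sp.Grp.mul_apply,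
      mul_inv_cancel]
    rfl
  -- one centre with all axes
  obtain ⟨v₀, hv₀, u₀, hu₀, hu₀'⟩ : ∃ v : Fin n → F, v ≠ 0 ∧
      ∃ u, Tm M (B.flip u) v ∧ u ∉ Submodule.span F {v} := by
    by_contra hc
    push Not at hc
    have hlam : ∀ v : Fin n → F, ∃ a : F, ∀ x,
        B ((g : Matrix (Fin n) (Fin n) F) *ᵥ x) ((g : Matrix (Fin n) (Fin n) F) *ᵥ v) = a * B x v := by
      intro v
      rcases eq_or_ne v 0 with rfl | hv
      · exact ⟨0, fun x => by simp⟩
      have h1 := (hsp ((g : Matrix (Fin n) (Fin n) F) *ᵥ v) 1).conj (inv_mem hg)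
      rw [inv_inv, gl_inv_mulVec', one_smul] at h1
      obtain ⟨u, hu⟩ := hrep ((B.flip ((g : Matrix (Fin n) (Fin n) F) *ᵥ v)) ∘ₗ Matrix.toLin' (g : Matrix (Fin n) (Fin n) F))
      obtain ⟨a, ha⟩ := Submodule.mem_span_singleton.1 (hc v hv u (hu.symm ▸ h1))
      refine ⟨a, fun x => ?_⟩
      have := LinearMap.congr_fun hu x
      rw [LinearMap.comp_apply, Matrix.toLin'_apply, LinearMap.BilinForm.flip_apply,
        LinearMap.BilinForm.flip_apply, ← ha, map_smul, smul_eq_mul] at this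
      exact this.symm
    choose lam hlam using hlam
    have heq : ∀ x y, B x y ≠ 0 → lam x = lam y := fun x y hxy => by
      have h1 := hlam y x
      have h2 := hlam x y
      have h3 := Sp.alt_neg B hA ((g : Matrix (Fin n) (Fin n) F) *ᵥ x) ((g : Matrix (Fin n) (Fin n) F) *ᵥ y)
      have h4 := Sp.alt_neg B hA x y
      exact mul_right_cancel₀ hxy (by linear_combination h2 + h1 - h3 + lam x * h4)
    refine hgns ?_
    haveI : Nonempty (Fin n) := ⟨⟨0, by omega⟩⟩
    obtain ⟨e, he⟩ := exists_ne (0 : Fin n → F)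
    obtain ⟨e', he'⟩ := hnd e he
    have hl0 : lam e' ≠ 0 := fun h0 => by
      have hne : (g : Matrix (Fin n) (Fin n) F) *ᵥ e' ≠ 0 := fun h => by
        have := gl_inv_mulVec' g e'
        rw [h, Matrix.mulVec_zero] at this
        exact he' (by rw [← this, map_zero])
      obtain ⟨z, hz⟩ := hnd _ hne
      apply hz
      rw [Sp.alt_neg B hA, ← gl_inv_mulVec g z, hlam, h0, zero_mul, neg_zero]
    refine ⟨Units.mk0 (lam e') hl0, fun x y => ?_⟩
    show B ((g : Matrix (Fin n) (Fin n) F) *ᵥ x) ((g : Matrix (Fin n) (Fin n) F) *ᵥ y) = lam e' * B x y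
    rw [hlam]
    by_cases hy : y = 0
    · rw [hy, map_zero, mul_zero, mul_zero]
    have he'0 : e' ≠ 0 := fun h => he' (by rw [h, map_zero])
    obtain ⟨z, hz1, hz2⟩ : ∃ z, B z y ≠ 0 ∧ B z e' ≠ 0 := by
      obtain ⟨z₁, hz₁⟩ := hnd y hy
      obtain ⟨z₂, hz₂⟩ := hnd e' he'0
      have h1 : B z₁ y ≠ 0 := by rw [Sp.alt_neg B hA y]; exact neg_ne_zero.2 hz₁
      have h2 : B z₂ e' ≠ 0 := by rw [Sp.alt_neg B hA e']; exact neg_ne_zero.2 hz₂
      by_cases h3 : B z₁ e' = 0
      · by_cases h4 : B z₂ y = 0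
        · exact ⟨z₁ + z₂, by simp [h4, h1], by simp [h3, h2]⟩
        · exact ⟨z₂, h4, h2⟩
      · exact ⟨z₁, h1, h3⟩
    rw [← heq z y hz1, heq z e' hz2]
  refine specialLinear_le fun φ v hφv => ?_
  rcases eq_or_ne v 0 with rfl | hv
  · have h : φ (0 : Fin n → F) = 0 := map_zero φ
    refine ⟨h, ?_⟩
    have : transGL φ 0 h = 1 := gl_ext fun x => by simp [transGL_apply]
    rw [this]; exact M.one_mem
  obtain ⟨h, -, he⟩ := Sp.move_top B hA hnd hv₀ hv
  set u := (h : (Fin n → F) ≃ₗ[F] (Fin n → F)) u₀ with hu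
  have huM : Tm M (B.flip u) v := he ▸ hmove h u₀ v₀ hu₀
  have huv : u ∉ Submodule.span F {v} := fun hm => by
    obtain ⟨a, ha⟩ := Submodule.mem_span_singleton.1 hm
    refine hu₀' (Submodule.mem_span_singleton.2 ⟨a, (h : (Fin n → F) ≃ₗ[F] (Fin n → F)).injective ?_⟩)
    rw [map_smul, he, ha]
  have hall : ∀ w, B v w = 0 → B u w ≠ 0 → Tm M (B.flip w) v := by
    intro w hvw huw
    have h1 := hmove (Sp.T B hA w (B u w)⁻¹) u v huM
    rw [Sp.T_apply, Sp.T_apply, hvw, mul_zero, zero_smul, add_zero, inv_mul_cancel₀ huw, one_smul, map_add] at h1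
    simpa using h1.sub huM
  obtain ⟨w, rfl⟩ := hrep φ
  have hvw : B v w = 0 := by rwa [LinearMap.BilinForm.flip_apply] at hφv
  by_cases huw : B u w = 0
  · obtain ⟨z, hvz, huz⟩ : ∃ z, B v z = 0 ∧ B u z ≠ 0 := by
      by_contra hc
      push Not at hc
      obtain ⟨y, hy⟩ := hnd v hv
      refine huv (Submodule.mem_span_singleton.2 ⟨B u y / B v y, ?_⟩)
      by_contra hne
      obtain ⟨x, hx⟩ := hnd (u - (B u y / B v y) • v) (sub_ne_zero.2 fun e => hne e.symm)
      apply hx
      have := hc (x - (B v x / B v y) • y) (by simp [hy])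
      rw [map_sub, map_smul, smul_eq_mul, sub_eq_zero] at this
      rw [map_sub, map_smul, LinearMap.sub_apply, LinearMap.smul_apply, smul_eq_mul, this]
      field_simp; ring
    have h1 := hall (w + z) (by simp [hvw, hvz]) (by simp [huw, huz])
    have h2 := hall z hvz huz
    have := h1.sub h2
    rwa [← map_sub, add_sub_cancel_right] at this
  · exact hall w hvw huw

theorem similarity_not_top (hn : 3 ≤ n) : ¬ Cfsg.Geo.specialLinear (Fin n) F ≤ Cfsg.Geo.similarityGroup f := by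
  intro h
  set B := bilinOf hf.bilinear with hBdef
  haveI : Nonempty (Fin n) := ⟨⟨0, by omega⟩⟩
  obtain ⟨v, hv⟩ := exists_ne (0 : Fin n → F)
  obtain ⟨y, hy⟩ := bilinOf_nondeg hf v hv
  obtain ⟨x, hxv, hxy⟩ : ∃ x, x ≠ 0 ∧ B v x = 0 ∧ x ∉ Submodule.span F {v} := by
    by_contra hc
    push Not at hc
    have hle : LinearMap.ker (B v) ≤ Submodule.span F {v} := fun x hx => by
      rcases eq_or_ne x 0 with rfl | h0
      · exact Submodule.zero_mem _
      · exact hc x h0 hx
    have h1 := Submodule.finrank_mono hle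
    rw [finrank_span_singleton hv] at h1
    have h2 := (B v).finrank_range_add_finrank_ker
    have h3 : finrank F (LinearMap.range (B v)) ≤ 1 := (Submodule.finrank_le _).trans (finrank_self F).le
    rw [Module.finrank_pi, Fintype.card_fin] at h2
    omega
  obtain ⟨hvx, hx⟩ := hxy
  have h0 : (B.flip x) v = 0 := hvx
  obtain ⟨c, hc⟩ := h (transGL_mem_sl (B.flip x) v h0)
  have hc' : ∀ a b, B (a + B a x • v) (b + B b x • v) = (c : F) * B a b := fun a b => by
    have := hc a b
    rw [transGL_apply, transGL_apply] at this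
    exact this
  have hA : B.IsAlt := bilinOf_isAlt hf
  have h1 := hc' v y
  simp only [hvx, zero_smul, add_zero, map_add, map_smul, hA.self_eq_zero, smul_zero] at h1
  have hc1 : (c : F) = 1 := mul_right_cancel₀ hy (by linear_combination -h1)
  refine hx (Submodule.mem_span_singleton.2 ⟨B y x / B y v, ?_⟩)
  by_contra hne
  obtain ⟨z, hz⟩ := bilinOf_nondeg hf (x - (B y x / B y v) • v) (sub_ne_zero.2 fun e => hne e.symm)
  apply hz
  have h2 := hc' y z
  simp only [map_add, map_smul, LinearMap.add_apply, LinearMap.smul_apply, smul_eq_mul, hA.self_eq_zero, hc1, one_mul,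
    mul_zero, add_zero] at h2
  have hyv : B y v ≠ 0 := by rw [Sp.alt_neg B hA]; exact neg_ne_zero.2 hy
  show B (x - (B y x / B y v) • v) z = 0
  rw [map_sub, map_smul, LinearMap.sub_apply, LinearMap.smul_apply, smul_eq_mul, Sp.alt_neg B hA z x]
  field_simp
  linear_combination -h2

end Cfsg.Agent.Classical.MaxLin
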