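import Cfsg.Agent.Lib.Classical.MaxLinTransv
import Cfsg.Agent.Lib.Classical.HermSep

/-!
The unitary similarity group is maximal in the special linear group.
-/

set_option autoImplicit false
set_option linter.unusedSectionVars false

open Module Matrix

namespace Cfsg.Agent.Classical.MaxLin

open HermSep

variable {F : Type*} [Field F] [Fintype F] {ι : Type} [Fintype ι] [DecidableEq ι]
variable {σ : F ≃+* F} {f : (ι → F) → (ι → F) → F} (hf : Cfsg.Geo.IsUnitaryForm σ f)

include hf

theorem utransv_mem {w : ι → F} (hw : f w w = 0) {c : F} (hc : σ c = -c) (h : ((c • fn hf w) : Dual F _) w = 0) :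
    transGL (c • fn hf w) w h ∈ Cfsg.Geo.similarityGroup f ⊓ Cfsg.Geo.specialLinear ι F := by
  refine Subgroup.mem_inf.2 ⟨⟨1, fun x y => ?_⟩, transGL_mem_sl _ _ h⟩
  simp only [transGL_apply, LinearMap.smul_apply, fn_apply, smul_eq_mul, Units.val_one, one_mul]
  rw [hf.add_left, add_right hf, add_right hf, hf.smul_left, hf.smul_left, smul_right hf, smul_right hf, hw,
    map_mul, hc, ← hf.herm w y, mul_zero, mul_zero, add_zero]
  ring

theorem unitary_similarity_max (hn : 11 ≤ Fintype.card ι) {M : Subgroup (GL ι F)}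
    (hle : Cfsg.Geo.similarityGroup f ⊓ Cfsg.Geo.specialLinear ι F ≤ M)
    (hg : ∃ g ∈ M, g ∉ Cfsg.Geo.similarityGroup f) : Cfsg.Geo.specialLinear ι F ≤ M := by
  classical
  haveI : Nontrivial ι := Fintype.one_lt_card_iff_nontrivial.1 (by omega)
  obtain ⟨g, hg, hgns⟩ := hg
  obtain ⟨d, hd⟩ : ∃ d, d ≠ σ d := by
    by_contra hc; push Not at hc; exact hf.ne_refl (RingEquiv.ext fun d => (hc d).symm)
  set δ := d - σ d with hδdef
  have hδ0 : δ ≠ 0 := sub_ne_zero.2 hd
  have hδ : σ δ = -δ := by rw [hδdef, map_sub, hf.involutive]; ring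
  have hT : ∀ w, f w w = 0 → ∀ c, σ c = -c → Tm M (c • fn hf w) w := fun w hw c hc => by
    have h : ((c • fn hf w) : Dual F _) w = 0 := by simp [fn_apply, hw]
    exact ⟨h, hle (utransv_mem hf hw hc h)⟩
  -- moving by unitary transvections
  have hmove : ∀ u v w, Tm M (fn hf u) v → f w w = 0 → ∀ c, σ c = -c →
      Tm M (fn hf (u + (c * f u w) • w)) (v + (c * f v w) • w) := by
    intro u v w hu hw c hc
    obtain ⟨h, hm⟩ := hT w hw c hc
    have := hu.conj hm
    rw [transGL_apply, LinearMap.smul_apply, fn_apply, smul_eq_mul] at this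
    convert this using 1
    refine LinearMap.ext fun x => ?_
    set y := (((transGL (c • fn hf w) w h)⁻¹ : GL ι F) : Matrix ι ι F) *ᵥ x
    have hy : y + (c * f y w) • w = x := by
      have := gl_inv_mulVec (transGL (c • fn hf w) w h) x
      rwa [transGL_apply, LinearMap.smul_apply, fn_apply, smul_eq_mul] at this
    rw [LinearMap.comp_apply, Matrix.toLin'_apply, fn_apply, fn_apply]
    show _ = f y u
    rw [← hy]
    rw [hf.add_left, add_right hf, add_right hf, hf.smul_left, hf.smul_left, smul_right hf, smul_right hf, hw,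
      map_mul, hc, ← hf.herm w u, mul_zero, mul_zero, add_zero]
    ring
  -- axes for one centre
  have hfull : ∀ v u, u ∉ Submodule.span F {v} → Tm M (fn hf u) v → ∀ φ : Dual F (ι → F), φ v = 0 → Tm M φ v := by
    intro v u huv hu
    have hvu : f v u = 0 := hu.1
    have hstep : ∀ u', Tm M (fn hf u') v → ∀ w, f w w = 0 → f w v = 0 → ∀ c, σ c = -c →
        Tm M (fn hf ((c * f u' w) • w)) v := by
      intro u' hu' w hw hwv c hc
      have h1 := hmove u' v w hu' hw c hc
      rw [swap_zero hf hwv, mul_zero, zero_smul, add_zero] at h1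
      have := h1.sub hu'
      convert this using 1
      refine LinearMap.ext fun x => ?_
      rw [LinearMap.sub_apply, fn_apply, fn_apply, fn_apply, add_right hf, add_sub_cancel_left]
    have hline : ∀ w, f w w = 0 → f w v = 0 → f w u ≠ 0 → ∀ s : F, Tm M (fn hf (s • w)) v := by
      intro w hw hwv hwu s
      set a := f u w with ha
      have ha0 : a ≠ 0 := fun e => hwu (swap_zero hf e)
      have hwv' : w ∉ Submodule.span F (Set.range ![v]) := by
        rw [Matrix.range_cons, Matrix.range_empty, Set.union_empty]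
        intro h
        obtain ⟨r, rfl⟩ := Submodule.mem_span_singleton.1 h
        exact hwu (by rw [hf.smul_left, hvu, mul_zero])
      obtain ⟨w₁, hw₁, hw₁c, hw₁w⟩ := exists_isotropic hf ![v] (by omega) hwv'
      have hw₁v : f w₁ v = 0 := hw₁c 0
      -- a variant whose span with `v`, `w` misses `u`
      obtain ⟨w₂, hw₂, hw₂v, hw₂w, hu3⟩ : ∃ w₂, f w₂ w₂ = 0 ∧ f w₂ v = 0 ∧ f w₂ w ≠ 0 ∧
          u ∉ Submodule.span F (Set.range ![v, w, w₂]) := by
        by_cases h3 : u ∈ Submodule.span F (Set.range ![v, w, w₁])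
        · obtain ⟨x, hx, hxs⟩ : ∃ x ∈ perp hf ![v, w, w₁], x ∉ Submodule.span F (Set.range ![v, w, w₁]) := by
            refine SetLike.not_le_iff_exists.1 fun hle' => ?_
            have h1 := Submodule.finrank_mono hle'
            have h2 := finrank_perp hf ![v, w, w₁]
            have h4 : finrank F (Submodule.span F (Set.range ![v, w, w₁])) ≤ 3 :=
              (finrank_range_le_card ![v, w, w₁]).trans (by simp)
            omega
          obtain ⟨e, he, hec, hex⟩ := exists_isotropic hf ![v, w, w₁] (by omega) hxs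
          rw [mem_perp] at hx
          have he0 : f e v = 0 := hec 0
          have he1 : f e w = 0 := hec 1
          have he2 : f e w₁ = 0 := hec 2
          refine ⟨w₁ + e, ?_, ?_, ?_, ?_⟩
          · rw [hf.add_left, add_right hf, add_right hf, hw₁, he, he2, swap_zero hf he2]; ring
          · rw [hf.add_left, hw₁v, he0, add_zero]
          · rw [hf.add_left, he1, add_zero]; exact hw₁w
          · intro hmem
            rw [Submodule.mem_span_range_iff_exists_fun] at hmem h3
            obtain ⟨p, hp⟩ := hmem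
            obtain ⟨p', hp'⟩ := h3
            simp only [Fin.sum_univ_three, Matrix.cons_val_zero, Matrix.cons_val_one, Matrix.cons_val_two,
              Matrix.tail_cons, Matrix.head_cons] at hp hp'
            have hzero : p 2 = 0 := by
              by_contra h0
              apply hex
              have hxv : f v x = 0 := swap_zero hf (hx 0)
              have hxw : f w x = 0 := swap_zero hf (hx 1)
              have hxw₁ : f w₁ x = 0 := swap_zero hf (hx 2)
              have h5 := congrArg (fun z => f z x) (hp.trans hp'.symm)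
              simp only [hf.add_left, hf.smul_left, hxv, hxw, hxw₁, mul_zero, add_zero, zero_add] at h5
              exact (mul_eq_zero.1 h5).resolve_left h0
            apply hwu
            rw [← hp, hzero, zero_smul, add_zero, add_right hf, smul_right hf, smul_right hf, hwv, hw, mul_zero,
              mul_zero, add_zero]
        · exact ⟨w₁, hw₁, hw₁v, hw₁w, h3⟩
      obtain ⟨e, he, hec, heu⟩ := exists_isotropic hf ![v, w, w₂] (by omega) hu3
      have he0 : f e v = 0 := hec 0
      have he1 : f e w = 0 := hec 1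
      have he2 : f e w₂ = 0 := hec 2
      have hue : f u e ≠ 0 := fun e' => heu (swap_zero hf e')
      -- choose `r` outside the fixed field
      set r := σ ((d * a / (δ * f w₂ w) - f u w₂) / f u e) with hr
      set w₃ := w₂ + r • e with hw₃def
      have hw₃ : f w₃ w₃ = 0 := by
        rw [hw₃def, hf.add_left, add_right hf, add_right hf, hf.smul_left, hf.smul_left, smul_right hf, smul_right hf,
          hw₂, he, he2, swap_zero hf he2]; ring
      have hw₃v : f w₃ v = 0 := by rw [hw₃def, hf.add_left, hf.smul_left, hw₂v, he0, mul_zero, add_zero]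
      have h1 := hu.add (hstep u hu w₃ hw₃ hw₃v δ hδ)
      set a' := a + δ * f u w₃ * f w₃ w with ha'
      have hu' : Tm M (fn hf (u + (δ * f u w₃) • w₃)) v := by
        convert h1 using 1
        exact LinearMap.ext fun x => by rw [LinearMap.add_apply, fn_apply, fn_apply, fn_apply, add_right hf]
      have haeq : f (u + (δ * f u w₃) • w₃) w = a' := by rw [hf.add_left, hf.smul_left]
      have hprod : δ * f u w₃ * f w₃ w = d * a := by
        rw [hw₃def, add_right hf, smul_right hf, hf.add_left, hf.smul_left, he1, mul_zero, add_zero, hr, hf.involutive,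
          div_mul_cancel₀ _ hue, add_sub_cancel, mul_comm δ, mul_assoc, div_mul_cancel₀ _ (mul_ne_zero hδ0 hw₂w)]
      have ha'' : a' = (1 + d) * a := by rw [ha', hprod]; ring
      set μ := s / a with hμ
      set c' := (μ + σ μ) / δ with hc'def
      have hc' : σ c' = -c' := by rw [hc'def, map_div₀, map_add, hf.involutive, hδ, div_neg, add_comm]
      set c := μ - c' * (1 + d) with hcdef
      have hc : σ c = -c := by
        have h5 : c' * δ = μ + σ μ := div_mul_cancel₀ _ hδ0
        rw [hcdef, map_sub, map_mul, hc', map_add, map_one]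
        rw [hδdef] at h5
        linear_combination -h5
      have h2 := (hstep u hu w hw hwv c hc).add (hstep _ hu' w hw hwv c' hc')
      convert h2 using 1
      refine LinearMap.ext fun x => ?_
      rw [LinearMap.add_apply, fn_apply, fn_apply, fn_apply, ← add_right hf, ← add_smul, haeq, ha'', ← ha]
      congr 2
      rw [hcdef, hμ]; field_simp; ring
    let P : Submodule F (ι → F) :=
      { carrier := {x | ∀ s : F, Tm M (fn hf (s • x)) v}
        zero_mem' := fun s => by
          have : fn hf (s • (0 : ι → F)) = 0 := LinearMap.ext fun x => by simp [fn_apply, zero_right hf]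
          rw [this]; exact Tm.zero v
        add_mem' := fun {x y} hx hy s => by
          convert (hx s).add (hy s) using 1
          exact LinearMap.ext fun z => by rw [smul_add, LinearMap.add_apply, fn_apply, fn_apply, fn_apply, add_right hf]
        smul_mem' := fun r x hx s => by rw [smul_smul]; exact hx _ }
    intro φ hφ
    obtain ⟨y, rfl⟩ := exists_rep hf φ
    have hyv : f v y = 0 := hφ
    suffices y ∈ P by simpa using this 1
    by_contra hyP
    obtain ⟨x, hyx, hx⟩ := exists_sep hf hyP
    have hxv : x ∉ Submodule.span F (Set.range ![v]) := by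
      rw [Matrix.range_cons, Matrix.range_empty, Set.union_empty]
      intro h
      obtain ⟨r, rfl⟩ := Submodule.mem_span_singleton.1 h
      rw [smul_right hf, swap_zero hf hyv, mul_zero] at hyx
      exact one_ne_zero hyx.symm
    have huv' : u ∉ Submodule.span F (Set.range ![v]) := by
      rwa [Matrix.range_cons, Matrix.range_empty, Set.union_empty]
    obtain ⟨w, hw, hwc, hwu, hwx⟩ := exists_isotropic_two hf ![v] (by omega) huv' hxv
    exact hwx (hx w (hline w hw (hwc 0) hwu))
  -- the one centre
  obtain ⟨v₀, hv₀, u₀, hu₀, hu₀v⟩ : ∃ v : ι → F, v ≠ 0 ∧ ∃ u, Tm M (fn hf u) v ∧ u ∉ Submodule.span F {v} := by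
    by_contra hcon
    push Not at hcon
    set I := {v : ι → F | v ≠ 0 ∧ f v v = 0} with hI
    have hback : ∀ w ∈ I, (((g⁻¹ : GL ι F) : Matrix ι ι F) *ᵥ w) ∈ I ∧ ∃ a : F, ∀ x,
        f ((g : Matrix ι ι F) *ᵥ x) w = a * f x (((g⁻¹ : GL ι F) : Matrix ι ι F) *ᵥ w) := by
      intro w ⟨hw0, hw⟩
      have h1 := (hT w hw δ hδ).conj (inv_mem hg)
      set v := ((g⁻¹ : GL ι F) : Matrix ι ι F) *ᵥ w with hv
      rw [inv_inv] at h1
      obtain ⟨u, hu⟩ := exists_rep hf ((δ • fn hf w) ∘ₗ Matrix.toLin' (g : Matrix ι ι F))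
      have hval : ∀ x, δ * f ((g : Matrix ι ι F) *ᵥ x) w = f x u := fun x => by
        have := LinearMap.congr_fun hu x
        simpa [fn_apply] using this.symm
      have hv0 : v ≠ 0 := fun e => hw0 (by rw [← gl_inv_mulVec g w, ← hv, e, Matrix.mulVec_zero])
      rw [← hu] at h1
      obtain ⟨a, ha⟩ := Submodule.mem_span_singleton.1 (hcon v hv0 u h1)
      have hu0 : u ≠ 0 := by
        rintro rfl
        obtain ⟨y, hy⟩ := (hf.nondegenerate w hw0).1
        apply hy
        have := hval (((g⁻¹ : GL ι F) : Matrix ι ι F) *ᵥ y)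
        rw [gl_inv_mulVec, zero_right hf] at this
        exact (mul_eq_zero.1 this).resolve_left hδ0
      have ha0 : a ≠ 0 := fun e => hu0 (by rw [← ha, e, zero_smul])
      refine ⟨⟨hv0, ?_⟩, σ a / δ, fun x => ?_⟩
      · have := hval v
        rw [hv, gl_inv_mulVec, hw, mul_zero, ← hv, ← ha, smul_right hf] at this
        exact (mul_eq_zero.1 this.symm).resolve_left ((map_ne_zero σ).2 ha0)
      · have := hval x
        rw [← ha, smul_right hf] at this
        field_simp
        linear_combination this
    have hfin : I.Finite := Set.toFinite _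
    have hsurj : ∀ v ∈ I, (g : Matrix ι ι F) *ᵥ v ∈ I := by
      intro v hv
      obtain ⟨w, he⟩ := Finite.surjective_of_injective (α := I)
        (f := fun w => ⟨((g⁻¹ : GL ι F) : Matrix ι ι F) *ᵥ (w : ι → F), (hback w w.2).1⟩)
        (fun a b e => Subtype.ext (by
          have := congrArg Subtype.val e
          simpa [gl_inv_mulVec] using congrArg (fun z => (g : Matrix ι ι F) *ᵥ z) this)) ⟨v, hv⟩
      have he' : ((g⁻¹ : GL ι F) : Matrix ι ι F) *ᵥ (w : ι → F) = v := congrArg Subtype.val he
      rw [← he', gl_inv_mulVec]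
      exact w.2
    have hlam : ∀ v ∈ I, ∃ a : F, ∀ x, f ((g : Matrix ι ι F) *ᵥ x) ((g : Matrix ι ι F) *ᵥ v) = a * f x v := fun v hv => by
      obtain ⟨a, ha⟩ := (hback _ (hsurj v hv)).2
      exact ⟨a, fun x => by rw [ha, gl_inv_mulVec']⟩
    choose lam hlam using hlam
    have hrel : ∀ v (hv : v ∈ I) z (hz : z ∈ I), f z v ≠ 0 → lam v hv = σ (lam z hz) := by
      intro v hv z hz hzv
      have h1 := hlam v hv z
      rw [hf.herm, hlam z hz v, map_mul, ← hf.herm] at h1
      exact (mul_right_cancel₀ hzv h1).symm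
    have hboth : ∀ a b : ι → F, a ≠ 0 → b ≠ 0 → ∃ e, e ∈ I ∧ f e a ≠ 0 ∧ f e b ≠ 0 := by
      intro a b ha hb
      have hspan : ∀ z : ι → F, z ≠ 0 → z ∉ Submodule.span F (Set.range (![] : Fin 0 → ι → F)) := fun z hz => by
        simpa using hz
      obtain ⟨e, he, -, hea, heb⟩ := exists_isotropic_two hf (![] : Fin 0 → ι → F) (by omega) (hspan a ha) (hspan b hb)
      exact ⟨e, ⟨fun e0 => hea (by rw [e0, zero_left hf]), he⟩, hea, heb⟩
    have : Nonempty ι := Fintype.card_pos_iff.1 (by omega)
    obtain ⟨z₀, hz₀⟩ := exists_ne (0 : ι → F)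
    obtain ⟨e₀, he₀, he₀z, -⟩ := hboth z₀ z₀ hz₀ hz₀
    set L := lam e₀ he₀
    have hconst : ∀ v (hv : v ∈ I), lam v hv = L := fun v hv => by
      obtain ⟨e, he, h1, h2⟩ := hboth v e₀ hv.1 he₀.1
      rw [hrel v hv e he h1]; exact (hrel e₀ he₀ e he h2).symm
    let W : Submodule F (ι → F) :=
      { carrier := {y | ∀ x, f ((g : Matrix ι ι F) *ᵥ x) ((g : Matrix ι ι F) *ᵥ y) = L * f x y}
        zero_mem' := fun x => by simp [zero_right hf]
        add_mem' := fun {a b} ha hb x => by rw [Matrix.mulVec_add, add_right hf, add_right hf, ha, hb, mul_add]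
        smul_mem' := fun r a ha x => by rw [Matrix.mulVec_smul, smul_right hf, smul_right hf, ha]; ring }
    have hW : ∀ y, y ∈ W := by
      intro y
      by_contra hy
      obtain ⟨x, hyx, hx⟩ := exists_sep hf hy
      obtain ⟨e, he, hex, -⟩ := hboth x x (fun e => by rw [e, zero_right hf] at hyx; exact one_ne_zero hyx.symm)
        (fun e => by rw [e, zero_right hf] at hyx; exact one_ne_zero hyx.symm)
      exact hex (hx e (fun z => by rw [hlam e he, hconst e he]))
    have hL0 : L ≠ 0 := fun e => by
      obtain ⟨y, hy⟩ := (hf.nondegenerate _ (hsurj e₀ he₀).1).1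
      apply hy
      rw [← gl_inv_mulVec g y, hlam e₀ he₀]
      show L * _ = 0
      rw [e, zero_mul]
    exact hgns ⟨Units.mk0 L hL0, fun x y => hW y x⟩
  -- all centres
  let S : Submodule F (ι → F) :=
    { carrier := {v | ∀ φ : Dual F (ι → F), φ v = 0 → Tm M φ v}
      zero_mem' := fun φ h => by
        refine ⟨h, ?_⟩
        have : transGL φ 0 h = 1 := gl_ext fun x => by simp [transGL_apply]
        rw [this]; exact M.one_mem
      smul_mem' := fun r v hv φ h => by
        rcases eq_or_ne r 0 with rfl | hr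
        · refine ⟨h, ?_⟩
          have : transGL φ ((0 : F) • v) h = 1 := gl_ext fun x => by simp [transGL_apply]
          rw [this]; exact M.one_mem
        have h0 : φ v = 0 := by simpa [hr] using h
        exact Tm.smul_centre r h0 (hv _ (by simp [h0]))
      add_mem' := fun {v w} hv hw φ h => by
        by_cases hdep : v ∈ Submodule.span F {w}
        · obtain ⟨r, rfl⟩ := Submodule.mem_span_singleton.1 hdep
          have he : r • w + w = (r + 1) • w := by rw [add_smul, one_smul]
          rw [he] at h ⊢
          rcases eq_or_ne (r + 1) 0 with hr | hr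
          · rw [hr]
            refine ⟨by simp, ?_⟩
            have : transGL φ ((0 : F) • w) (by simp) = 1 := gl_ext fun x => by simp [transGL_apply]
            rw [this]; exact M.one_mem
          · have h0 : φ w = 0 := by simpa [hr] using h
            exact Tm.smul_centre _ h0 (hw _ (by simp [h0]))
        · obtain ⟨ψ, hψv, hψ⟩ := Cfsg.Agent.Classical.exists_dual_one hdep
          obtain ⟨h0, hm⟩ := hw ψ (hψ w (Submodule.mem_span_singleton_self w))
          set G := transGL ψ w h0 with hG
          have hGv : (G : Matrix ι ι F) *ᵥ v = v + w := by rw [hG, transGL_apply, hψv, one_smul]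
          have h1 := (hv (φ ∘ₗ Matrix.toLin' (G : Matrix ι ι F)) (by simp [hGv, h])).conj hm
          rw [hGv] at h1
          have he : (φ ∘ₗ Matrix.toLin' (G : Matrix ι ι F)) ∘ₗ Matrix.toLin' ((G⁻¹ : GL ι F) : Matrix ι ι F) = φ :=
            LinearMap.ext fun x => by
              rw [LinearMap.comp_apply, LinearMap.comp_apply, Matrix.toLin'_apply, Matrix.toLin'_apply, gl_inv_mulVec]
          rwa [he] at h1 }
  have hv₀S : v₀ ∈ S := hfull v₀ u₀ hu₀v hu₀
  refine specialLinear_le fun φ v hφ => ?_
  suffices v ∈ S from this φ hφ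
  by_contra hvS
  obtain ⟨x, hvx, hx⟩ := exists_sep hf hvS
  have hx0 : x ≠ 0 := fun e => by rw [e, zero_right hf] at hvx; exact one_ne_zero hvx.symm
  have hspan : ∀ z : ι → F, z ≠ 0 → z ∉ Submodule.span F (Set.range (![] : Fin 0 → ι → F)) := fun z hz => by
    simpa using hz
  obtain ⟨w, hw, -, hwv, hwx⟩ := exists_isotropic_two hf (![] : Fin 0 → ι → F) (by omega) (hspan v₀ hv₀) (hspan x hx0)
  refine hwx (hx w ?_)
  obtain ⟨h, hm⟩ := hT w hw δ hδ
  have hmem : v₀ + (δ * f v₀ w) • w ∈ S := by
    intro ψ hψ
    have h1 := (hv₀S (ψ ∘ₗ Matrix.toLin' (transGL (δ • fn hf w) w h : Matrix ι ι F)) (by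
      simpa [transGL_apply, fn_apply] using hψ)).conj hm
    have he : (ψ ∘ₗ Matrix.toLin' (transGL (δ • fn hf w) w h : Matrix ι ι F)) ∘ₗ
        Matrix.toLin' (((transGL (δ • fn hf w) w h)⁻¹ : GL ι F) : Matrix ι ι F) = ψ := LinearMap.ext fun y => by
      rw [LinearMap.comp_apply, LinearMap.comp_apply, Matrix.toLin'_apply, Matrix.toLin'_apply, gl_inv_mulVec]
    rw [he, transGL_apply, LinearMap.smul_apply, fn_apply, smul_eq_mul] at h1
    exact h1
  have h1 := S.sub_mem hmem hv₀S
  rw [add_sub_cancel_left] at h1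
  have hne : δ * f v₀ w ≠ 0 := mul_ne_zero hδ0 fun e => hwv (swap_zero hf e)
  have h2 := S.smul_mem (δ * f v₀ w)⁻¹ h1
  rwa [inv_smul_smul₀ hne] at h2

theorem unitary_similarity_not_top (hn : 11 ≤ Fintype.card ι) :
    ¬ Cfsg.Geo.specialLinear ι F ≤ Cfsg.Geo.similarityGroup f := by
  classical
  intro h
  have : Nonempty ι := Fintype.card_pos_iff.1 (by omega)
  obtain ⟨z₀, hz₀⟩ := exists_ne (0 : ι → F)
  obtain ⟨v, hv, -, hvz⟩ := exists_isotropic hf (![] : Fin 0 → ι → F) (by omega) (u := z₀) (by simpa using hz₀)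
  have hv0 : v ≠ 0 := fun e => hvz (by rw [e, zero_left hf])
  obtain ⟨u, hu, huv⟩ : ∃ u ∈ perp hf ![v], u ∉ Submodule.span F {v} := by
    refine SetLike.not_le_iff_exists.1 fun hle => ?_
    have h1 := Submodule.finrank_mono hle
    rw [finrank_span_singleton hv0] at h1
    have h2 := finrank_perp hf ![v]
    omega
  have hvu : f v u = 0 := swap_zero hf ((mem_perp hf).1 hu 0)
  have h0 : fn hf u v = 0 := hvu
  obtain ⟨c, hc⟩ := h (transGL_mem_sl (fn hf u) v h0)
  have hc' : ∀ a b, f (a + f a u • v) (b + f b u • v) = (c : F) * f a b := fun a b => by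
    have := hc a b
    rw [transGL_apply, transGL_apply, fn_apply, fn_apply] at this
    exact this
  obtain ⟨y, hy⟩ := (hf.nondegenerate v hv0).2
  have hc1 : (c : F) = 1 := by
    have h1 := hc' v y
    rw [hvu, zero_smul, add_zero, add_right hf, smul_right hf, hv, mul_zero, add_zero] at h1
    exact mul_right_cancel₀ hy (by linear_combination -h1)
  obtain ⟨x, hxu, hx⟩ := exists_sep hf huv
  have hxv : f x v = 0 := swap_zero hf (hx v (Submodule.mem_span_singleton_self v))
  have h1 := hc' x y
  rw [hc1, one_mul, hf.add_left, hf.smul_left, add_right hf, add_right hf, smul_right hf, smul_right hf, hxv, hv] at h1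
  simp only [mul_zero, add_zero] at h1
  have h2 : f x u * f v y = 0 := by linear_combination h1
  rcases mul_eq_zero.1 h2 with e | e
  · rw [hf.herm, hxu, map_one] at e; exact one_ne_zero e
  · exact hy e

end Cfsg.Agent.Classical.MaxLin
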