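import Mathlib

/-!
Nonabelian minimal normal subgroups of finite groups as direct products of conjugates of a simple
group, with equivariant projections; and a bound on subgroups of a product of simple groups which
project onto every factor and meet each factor trivially.
-/

set_option autoImplicit false
set_option linter.style.haveILetI false

namespace Cfsg.Agent.Classical

variable {G : Type*} [Group G]

/-- A decomposition of a normal subgroup `N` into simple factors permuted transitively. -/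
structure SimpleDecomp (N : Subgroup G) (ι : Type*) [MulAction G ι] where
  T : ι → Subgroup G
  proj : ι → (N →* G)
  le : ∀ i, T i ≤ N
  simple : ∀ i, ∀ M : Subgroup (T i), M.Normal → M = ⊥ ∨ M = ⊤
  nonabelian : ∀ i, ∃ a ∈ T i, ∃ b ∈ T i, a * b ≠ b * a
  commute : ∀ i j, i ≠ j → ∀ a ∈ T i, ∀ b ∈ T j, a * b = b * a
  iSup_eq : (⨆ i, T i) = N
  proj_mem : ∀ i x, proj i x ∈ T i
  proj_self : ∀ i, ∀ x : N, (x : G) ∈ T i → proj i x = x
  proj_other : ∀ i j, i ≠ j → ∀ x : N, (x : G) ∈ T j → proj i x = 1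
  proj_ext : ∀ x : N, (∀ i, proj i x = 1) → x = 1
  proj_surj : ∀ f : ι → G, (∀ i, f i ∈ T i) → ∃ x : N, ∀ i, proj i x = f i
  conj_mem : ∀ (g : G) i, ∀ a ∈ T i, g * a * g⁻¹ ∈ T (g • i)
  proj_conj : ∀ (g : G) i (x y : N), (y : G) = g * x * g⁻¹ →
    proj (g • i) y = g * proj i x * g⁻¹
  inj : Function.Injective T

theorem eq_one_of_commute_simple {S : Type*} [Group S]
    (hs : ∀ M : Subgroup S, M.Normal → M = ⊥ ∨ M = ⊤) (hna : ∃ a b : S, a * b ≠ b * a)
    {x : S} (hx : ∀ y, y * x = x * y) : x = 1 := by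
  have hx' : x ∈ Subgroup.center S := Subgroup.mem_center_iff.2 hx
  rcases hs (Subgroup.center S) inferInstance with h | h
  · rwa [h, Subgroup.mem_bot] at hx'
  · obtain ⟨a, b, hab⟩ := hna
    exact absurd (Subgroup.mem_center_iff.1 (h ▸ Subgroup.mem_top a) b).symm hab

open Pointwise in
theorem exists_simpleDecomp {G : Type*} [Group G] [Finite G] (N : Subgroup G) [hN : N.Normal]
    (hmin : ∀ K : Subgroup G, K.Normal → K ≤ N → K = ⊥ ∨ K = N)
    (hna : ∃ a ∈ N, ∃ b ∈ N, a * b ≠ b * a) :
    ∃ U : Subgroup G, Nonempty (SimpleDecomp N (G ⧸ U)) := by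
  classical
  have hN0 : N ≠ ⊥ := by
    rintro rfl
    obtain ⟨a, ha, b, hb, h⟩ := hna
    rw [Subgroup.mem_bot] at ha hb
    exact h (by rw [ha, hb])
  obtain ⟨T, hT⟩ := (Set.toFinite
      {K : Subgroup G | K ≠ ⊥ ∧ K ≤ N ∧ N ≤ Subgroup.normalizer (K : Set G)}).exists_minimal
    ⟨N, hN0, le_rfl, Subgroup.le_normalizer⟩
  obtain ⟨⟨hT0, hTN, hTn⟩, hTmin⟩ := hT
  let U := Subgroup.normalizer (T : Set G)
  refine ⟨U, ?_⟩
  let S : G → Subgroup G := fun g => T.map (MulAut.conj g).toMonoidHom
  have memS : ∀ g a, a ∈ S g ↔ g⁻¹ * a * g ∈ T := by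
    intro g a
    constructor
    · rintro ⟨t, ht, rfl⟩
      simpa [mul_assoc] using ht
    · intro h
      exact ⟨_, h, by simp [mul_assoc]⟩
  have S_congr : ∀ g h : G, (g : G ⧸ U) = h → S g = S h := by
    intro g h e
    rw [QuotientGroup.eq, Subgroup.mem_normalizer_iff] at e
    ext a
    rw [memS, memS]
    have := e (h⁻¹ * a * h)
    simp only [mul_inv_rev, inv_inv, mul_assoc] at this ⊢
    simp only [mul_inv_cancel_left, mul_inv_cancel, mul_one] at this
    exact this.symm
  let Q : G ⧸ U → Subgroup G := fun q => S q.out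
  have hQ : ∀ g : G, Q (g : G ⧸ U) = S g := fun g => S_congr _ _ (QuotientGroup.out_eq' _)
  have Qconj : ∀ (g : G) q, ∀ a ∈ Q q, g * a * g⁻¹ ∈ Q (g • q) := by
    intro g q a ha
    obtain ⟨c, rfl⟩ := QuotientGroup.mk_surjective q
    rw [MulAction.Quotient.smul_coe, hQ, memS]
    rw [hQ, memS] at ha
    simpa [mul_assoc] using ha
  have Qinj : Function.Injective Q := by
    intro p q e
    obtain ⟨a, rfl⟩ := QuotientGroup.mk_surjective p
    obtain ⟨b, rfl⟩ := QuotientGroup.mk_surjective q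
    rw [hQ, hQ] at e
    rw [QuotientGroup.eq]
    show a⁻¹ * b ∈ Subgroup.normalizer (T : Set G)
    rw [Subgroup.mem_normalizer_iff]
    intro t
    have h1 := memS b (b * t * b⁻¹)
    rw [← e, memS a] at h1
    simp only [mul_assoc, inv_mul_cancel_left, inv_mul_cancel, mul_one] at h1
    simpa [mul_assoc] using h1.symm
  have hSN : ∀ g, S g ≤ N := by
    intro g a ha
    have := hN.conj_mem _ (hTN ((memS g a).1 ha)) g
    simpa [mul_assoc] using this
  have hSnorm : ∀ g, ∀ x ∈ N, ∀ a ∈ S g, x * a * x⁻¹ ∈ S g := by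
    intro g x hx a ha
    rw [memS] at ha ⊢
    have hx' : g⁻¹ * x * g ∈ N := by simpa using hN.conj_mem x hx g⁻¹
    have := (Subgroup.mem_normalizer_iff.1 (hTn hx') _).1 ha
    simpa [mul_assoc] using this
  -- minimality transported to conjugates
  have hSmin : ∀ g, ∀ K : Subgroup G, K ≤ S g →
      (∀ x ∈ N, ∀ a ∈ K, x * a * x⁻¹ ∈ K) → K = ⊥ ∨ K = S g := by
    intro g K hK hKn
    by_cases hK0 : K = ⊥
    · exact Or.inl hK0
    right
    let K' := K.comap (MulAut.conj g).toMonoidHom
    have hK'T : K' ≤ T := fun a ha => by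
      have := (memS g _).1 (hK ha)
      simpa [mul_assoc] using this
    have hK'0 : K' ≠ ⊥ := by
      intro h
      apply hK0
      rw [eq_bot_iff]
      intro a ha
      have : g⁻¹ * a * g ∈ K' := by simpa [K', mul_assoc] using ha
      rw [h, Subgroup.mem_bot] at this
      rw [Subgroup.mem_bot]
      simpa [mul_assoc] using congrArg (fun b => g * b * g⁻¹) this
    have key : ∀ x ∈ N, ∀ a ∈ K', x * a * x⁻¹ ∈ K' := by
      intro x hx a ha
      have := hKn _ (hN.conj_mem x hx g) _ ha
      simpa [K', mul_assoc] using this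
    have hle : N ≤ Subgroup.normalizer (K' : Set G) := fun x hx => by
      rw [Subgroup.mem_normalizer_iff]
      intro a
      refine ⟨key x hx a, fun h => ?_⟩
      simpa [mul_assoc] using key x⁻¹ (N.inv_mem hx) _ h
    have := hTmin ⟨hK'0, hK'T.trans hTN, hle⟩ hK'T
    refine le_antisymm hK fun a ha => ?_
    have h2 := this ((memS g a).1 ha)
    simpa [K', mul_assoc] using h2
  have Qmin : ∀ q, ∀ K : Subgroup G, K ≤ Q q →
      (∀ x ∈ N, ∀ a ∈ K, x * a * x⁻¹ ∈ K) → K = ⊥ ∨ K = Q q := fun q => hSmin _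
  have Qne : ∀ q, Q q ≠ ⊥ := fun q h => hT0 <|
    (Subgroup.map_eq_bot_iff_of_injective T (MulEquiv.injective _)).1 h
  have comm : ∀ p q, p ≠ q → ∀ a ∈ Q p, ∀ b ∈ Q q, a * b = b * a := by
    intro p q hpq a ha b hb
    have hbot : Q p ⊓ Q q = ⊥ := by
      rcases Qmin p (Q p ⊓ Q q) inf_le_left
        (fun x hx a ha => ⟨hSnorm _ x hx a ha.1, hSnorm _ x hx a ha.2⟩) with h | h
      · exact h
      · rcases Qmin q (Q p ⊓ Q q) inf_le_right
          (fun x hx a ha => ⟨hSnorm _ x hx a ha.1, hSnorm _ x hx a ha.2⟩) with h' | h'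
        · exact h'
        · exact absurd (Qinj (h.symm.trans h')) hpq
    have h1 : a * b * a⁻¹ * b⁻¹ ∈ Q p ⊓ Q q := by
      refine Subgroup.mem_inf.2 ⟨?_, mul_mem (hSnorm _ a (hSN _ ha) b hb) (inv_mem hb)⟩
      rw [mul_assoc a b, mul_assoc a]
      exact mul_mem ha (hSnorm _ b (hSN _ hb) _ (inv_mem ha))
    rw [hbot, Subgroup.mem_bot, ← commutatorElement_def,
      commutatorElement_eq_one_iff_mul_comm] at h1
    exact h1
  have hsup : (⨆ q, Q q) = N := by
    refine (hmin _ ⟨fun x hx g => ?_⟩ (iSup_le fun q => hSN _)).resolve_left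
      fun h => Qne (1 : G) (le_bot_iff.1 ((le_iSup Q ((1 : G) : G ⧸ U)).trans h.le))
    have : (⨆ q, Q q).map (MulAut.conj g).toMonoidHom ≤ ⨆ q, Q q := by
      rw [Subgroup.map_iSup]
      refine iSup_le fun q => le_trans ?_ (le_iSup Q (g • q))
      rintro _ ⟨a, ha, rfl⟩
      exact Qconj g q a ha
    exact this ⟨x, hx, rfl⟩
  have hnaQ : ∀ q, ∃ a ∈ Q q, ∃ b ∈ Q q, a * b ≠ b * a := by
    intro q
    by_contra hc
    push Not at hc
    -- all factors are abelian, so `N` is
    have hall : ∀ p, ∀ a ∈ Q p, ∀ b ∈ Q p, a * b = b * a := by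
      intro p a ha b hb
      let g := q.out * p.out⁻¹
      have hg : ∀ a ∈ Q p, g * a * g⁻¹ ∈ Q q := fun a ha => by
        change _ ∈ S _
        rw [memS]
        have := (memS _ _).1 ha
        simpa [g, mul_assoc] using this
      have := hc _ (hg a ha) _ (hg b hb)
      rw [conj_mul, conj_mul] at this
      exact mul_left_cancel (mul_right_cancel this)
    have h1 : ∀ p, Q p ≤ Subgroup.centralizer (N : Set G) := by
      intro p a ha
      have : N ≤ Subgroup.centralizer ({a} : Set G) := by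
        rw [← hsup]
        refine iSup_le fun r b hb => ?_
        rw [Subgroup.mem_centralizer_singleton_iff]
        by_cases hrp : r = p
        · subst hrp; exact hall r b hb a ha
        · exact comm r p hrp b hb a ha
      rw [Subgroup.mem_centralizer_iff]
      intro b hb
      exact Subgroup.mem_centralizer_singleton_iff.1 (this hb)
    obtain ⟨a, ha, b, hb, hab⟩ := hna
    have h2 : a ∈ Subgroup.centralizer (N : Set G) := ((le_of_eq hsup.symm).trans (iSup_le h1)) ha
    exact hab (Subgroup.mem_centralizer_iff.1 h2 b hb).symm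
  have hsimple : ∀ q, ∀ M : Subgroup (Q q), M.Normal → M = ⊥ ∨ M = ⊤ := by
    intro q M hM
    have hle : M.map (Q q).subtype ≤ Q q := Subgroup.map_subtype_le M
    have : N ≤ Subgroup.normalizer ((M.map (Q q).subtype : Subgroup G) : Set G) := by
      rw [← hsup]
      refine iSup_le fun p x hx => ?_
      rw [Subgroup.mem_normalizer_iff]
      have key : ∀ x ∈ Q p, ∀ a ∈ M.map (Q q).subtype,
          x * a * x⁻¹ ∈ M.map (Q q).subtype := by
        intro x hx a ha
        by_cases hpq : p = q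
        · subst hpq
          obtain ⟨m, hm, rfl⟩ := ha
          exact ⟨_, hM.conj_mem m hm ⟨x, hx⟩, rfl⟩
        · rwa [comm p q hpq x hx a (hle ha), mul_inv_cancel_right]
      intro a
      refine ⟨key x hx a, fun h => ?_⟩
      simpa [mul_assoc] using key x⁻¹ (inv_mem hx) _ h
    rcases Qmin q _ hle (fun x hx a ha =>
        (Subgroup.mem_normalizer_iff.1 (this hx) a).1 ha) with h | h
    · exact Or.inl ((Subgroup.map_eq_bot_iff_of_injective M Subtype.val_injective).1 h)
    · right
      apply Subgroup.map_injective (Q q).subtype_injective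
      rw [h, ← MonoidHom.range_eq_map, Subgroup.range_subtype]
  haveI : Fintype (G ⧸ U) := Fintype.ofFinite _
  have hcomm : Pairwise fun p q => ∀ a b : G, a ∈ Q p → b ∈ Q q → Commute a b :=
    fun p q hpq a b ha hb => comm p q hpq a ha b hb
  let φ := Subgroup.noncommPiCoprod hcomm
  have φrange : φ.range = N := (Subgroup.noncommPiCoprod_range (hcomm := hcomm)).trans hsup
  have φinj : Function.Injective φ := by
    refine Subgroup.injective_noncommPiCoprod_of_iSupIndep (hcomm := hcomm) fun q => ?_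
    rw [Subgroup.disjoint_def]
    intro a ha hb
    have hc : (⨆ p, ⨆ (_ : p ≠ q), Q p) ≤ Subgroup.centralizer (Q q : Set G) := by
      refine iSup₂_le fun p hp b hb' => Subgroup.mem_centralizer_iff.2 fun c hc' => ?_
      exact (comm p q hp b hb' c hc').symm
    have h1 := Subgroup.mem_centralizer_iff.1 (hc hb)
    have h2 : (⟨a, ha⟩ : Q q) = 1 :=
      eq_one_of_commute_simple (hsimple q)
        (by obtain ⟨x, hx, y, hy, h⟩ := hnaQ q
            exact ⟨⟨x, hx⟩, ⟨y, hy⟩, fun e => h (congrArg Subtype.val e)⟩)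
        (fun y => Subtype.ext (h1 y y.2))
    exact congrArg Subtype.val h2
  let e : (∀ q, Q q) ≃* N := (MonoidHom.ofInjective φinj).trans (MulEquiv.subgroupCongr φrange)
  let π : G ⧸ U → (N →* G) := fun q =>
    (Q q).subtype.comp ((Pi.evalMonoidHom _ q).comp e.symm.toMonoidHom)
  have πe : ∀ q f, π q (e f) = f q := fun q f => by simp [π]
  have single : ∀ p (x : N) (hx : (x : G) ∈ Q p), x = e (Pi.mulSingle p ⟨x, hx⟩) := by
    intro p x hx
    apply Subtype.ext
    exact (Subgroup.noncommPiCoprod_mulSingle (hcomm := hcomm) p ⟨(x : G), hx⟩).symm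
  refine ⟨⟨Q, π, fun q => hSN _, hsimple, hnaQ, comm, hsup, fun q x => ?_, ?_, ?_, ?_, ?_, Qconj,
    ?_, Qinj⟩⟩
  · exact (e.symm x q).2
  · intro q x hx
    rw [single q x hx, πe, Pi.mulSingle_eq_same, ← single q x hx]
  · intro q p hqp x hx
    rw [single p x hx, πe, Pi.mulSingle_eq_of_ne hqp]
    rfl
  · intro x h
    obtain ⟨f, rfl⟩ := e.surjective x
    have : f = 1 := funext fun q => Subtype.ext (by simpa [πe] using h q)
    rw [this, map_one]
  · intro f hf
    exact ⟨e fun q => ⟨f q, hf q⟩, fun q => by rw [πe]⟩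
  · intro g q x y hy
    let c : N →* N :=
      { toFun := fun x => ⟨g * x * g⁻¹, hN.conj_mem _ x.2 g⟩
        map_one' := by ext; simp
        map_mul' := fun a b => by ext; simp }
    have hyc : y = c x := Subtype.ext hy
    have key : ((π (g • q)).comp c).comp e.toMonoidHom =
        ((MulAut.conj g).toMonoidHom.comp (π q)).comp e.toMonoidHom := by
      refine MonoidHom.pi_ext fun p a => ?_
      simp only [MonoidHom.coe_comp, Function.comp_apply, MulEquiv.coe_toMonoidHom,
        MulAut.conj_apply]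
      have hmem : (e (Pi.mulSingle p a) : G) = a :=
        Subgroup.noncommPiCoprod_mulSingle (hcomm := hcomm) p a
      have hmem' : ((c (e (Pi.mulSingle p a)) : N) : G) ∈ Q (g • p) := by
        show g * _ * g⁻¹ ∈ _
        rw [hmem]
        exact Qconj g p a a.2
      rw [single (g • p) _ hmem', πe, πe]
      by_cases hpq : p = q
      · subst hpq
        rw [Pi.mulSingle_eq_same, Pi.mulSingle_eq_same]
        show g * _ * g⁻¹ = _
        rw [hmem]
      · rw [Pi.mulSingle_eq_of_ne (Ne.symm hpq),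
          Pi.mulSingle_eq_of_ne (fun h => hpq ((MulAction.injective g h).symm))]
        simp
    have := DFunLike.congr_fun key (e.symm x)
    simpa [hyc] using this

variable {ι : Type*}

/-- A subgroup of a product of nonabelian simple groups of order `t` projecting onto each factor
and meeting each factor trivially has square of order at most the order of the product. -/
theorem card_sq_le_of_proj {ι : Type*} [Fintype ι] [DecidableEq ι] {S : ι → Type*}
    [∀ i, Group (S i)] [∀ i, Finite (S i)] (t : ℕ) (ht : ∀ i, Nat.card (S i) = t) (ht1 : 1 ≤ t)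
    (hs : ∀ i, ∀ M : Subgroup (S i), M.Normal → M = ⊥ ∨ M = ⊤)
    (hna : ∀ i, ∃ a b : S i, a * b ≠ b * a) (M : Subgroup (∀ i, S i))
    (hsurj : ∀ i x, ∃ m ∈ M, m i = x)
    (htriv : ∀ i, ∀ m ∈ M, (∀ j, j ≠ i → m j = 1) → m = 1) :
    Nat.card M ^ 2 ≤ t ^ Fintype.card ι := by
  let F : Finset ι → Subgroup (∀ i, S i) := fun J =>
    M ⊓ ⨅ j ∈ (Jᶜ : Finset ι), (Pi.evalMonoidHom S j).ker
  have memF : ∀ J m, m ∈ F J ↔ m ∈ M ∧ ∀ j, j ∉ J → m j = 1 := by
    intro J m
    simp [F, Subgroup.mem_iInf]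
  suffices h : ∀ J, Nat.card (F J) ^ 2 ≤ t ^ J.card by
    have := h Finset.univ
    rwa [show F Finset.univ = M from SetLike.ext fun m => by simp [memF]] at this
  intro J
  induction J using Finset.strongInductionOn with
  | _ J ih =>
  by_cases hbot : F J = ⊥
  · rw [hbot, Subgroup.card_bot, one_pow]
    exact Nat.one_le_pow _ _ ht1
  classical
  obtain ⟨L, hL, hLmin⟩ := Finset.exists_min_image
    (J.powerset.filter fun L => F L ≠ ⊥) Finset.card ⟨J, by simp [hbot]⟩
  simp only [Finset.mem_filter, Finset.mem_powerset] at hL hLmin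
  have hsmall : ∀ l ∈ L, F (L.erase l) = ⊥ := by
    intro l hl
    by_contra h
    have := hLmin _ ⟨(Finset.erase_subset l L).trans hL.1, h⟩
    exact absurd this (not_le.2 (Finset.card_erase_lt_of_mem hl))
  have hL2 : 2 ≤ L.card := by
    by_contra h
    apply hL.2
    rw [Subgroup.eq_bot_iff_forall]
    intro m hm
    rw [memF] at hm
    rcases L.eq_empty_or_nonempty with rfl | ⟨l, hl⟩
    · exact funext fun j => hm.2 j (by simp)
    · exact htriv l m hm.1 fun j hj => hm.2 j fun hjL =>
        hj (Finset.card_le_one.1 (by omega) j hjL l hl)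
  -- `F L` maps onto every factor indexed by `L`
  have honto : ∀ l ∈ L, ∀ x, ∃ m ∈ F L, m l = x := by
    intro l hl
    have hn : ((F L).map (Pi.evalMonoidHom S l)).Normal := by
      refine ⟨?_⟩
      rintro _ ⟨m, hm, rfl⟩ g
      obtain ⟨n, hn, rfl⟩ := hsurj l g
      refine ⟨n * m * n⁻¹, ?_, by simp⟩
      rw [SetLike.mem_coe, memF] at hm ⊢
      exact ⟨mul_mem (mul_mem hn hm.1) (inv_mem hn), fun j hj => by simp [hm.2 j hj]⟩
    rcases hs l _ hn with h | h
    · exfalso
      apply hL.2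
      rw [← le_bot_iff, ← hsmall l hl]
      intro m hm
      have hml : m l = 1 := by
        have : m l ∈ (F L).map (Pi.evalMonoidHom S l) := ⟨m, hm, rfl⟩
        rwa [h, Subgroup.mem_bot] at this
      rw [memF] at hm ⊢
      refine ⟨hm.1, fun j hj => ?_⟩
      by_cases hjl : j = l
      · rw [hjl]; exact hml
      · exact hm.2 j fun hjL => hj (Finset.mem_erase.2 ⟨hjl, hjL⟩)
    · intro x
      obtain ⟨m, hm, rfl⟩ : x ∈ (F L).map (Pi.evalMonoidHom S l) := h ▸ Subgroup.mem_top x
      exact ⟨m, hm, rfl⟩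
  obtain ⟨l, hl⟩ : L.Nonempty := Finset.card_pos.1 (by omega)
  -- the kernel of the projection to `l` vanishes on all of `L`
  let ψ : F J →* S l := (Pi.evalMonoidHom S l).comp (F J).subtype
  have hker : ψ.ker ≤ (F (J \ L)).subgroupOf (F J) := by
    intro m hm
    rw [Subgroup.mem_subgroupOf, memF]
    have hmJ := (memF J _).1 m.2
    have hml : (m : ∀ i, S i) l = 1 := hm
    refine ⟨hmJ.1, fun j hj => ?_⟩
    by_cases hjJ : j ∈ J
    swap
    · exact hmJ.2 j hjJ
    have hjL : j ∈ L := by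
      by_contra h
      exact hj (Finset.mem_sdiff.2 ⟨hjJ, h⟩)
    refine eq_one_of_commute_simple (hs j) (hna j) fun y => ?_
    obtain ⟨n, hn, rfl⟩ := honto j hjL y
    have hc : n * m * n⁻¹ * (m : ∀ i, S i)⁻¹ ∈ F (L.erase l) := by
      rw [memF] at hn ⊢
      refine ⟨mul_mem (mul_mem (mul_mem hn.1 hmJ.1) (inv_mem hn.1)) (inv_mem hmJ.1), fun i hi => ?_⟩
      by_cases hil : i = l
      · subst hil; simp [hml]
      · simp [hn.2 i fun h => hi (Finset.mem_erase.2 ⟨hil, h⟩)]
    rw [hsmall l hl, Subgroup.mem_bot] at hc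
    have h2 := congrFun hc j
    simp only [Pi.mul_apply, Pi.inv_apply, Pi.one_apply] at h2
    rw [mul_inv_eq_one, mul_inv_eq_iff_eq_mul] at h2
    exact h2
  have h1 : Nat.card (F J) ≤ Nat.card (F (J \ L)) * t := by
    rw [← ψ.ker.card_mul_index, Subgroup.index_ker]
    refine Nat.mul_le_mul ?_ (ht l ▸ Nat.card_le_card_of_injective _ Subtype.val_injective)
    refine (Subgroup.card_le_of_le hker).trans ?_
    exact Nat.card_le_card_of_injective (fun m : (F (J \ L)).subgroupOf (F J) =>
        (⟨m.1.1, m.2⟩ : F (J \ L)))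
      fun a b h => Subtype.ext (Subtype.ext (Subtype.mk.injEq _ _ _ _ ▸ h))
  have hlt : J \ L ⊂ J := Finset.sdiff_ssubset hL.1 ⟨l, hl⟩
  have h2 := ih _ hlt
  have h3 : (J \ L).card + 2 ≤ J.card := by
    rw [Finset.card_sdiff_of_subset hL.1]
    have := Finset.card_le_card hL.1
    omega
  calc Nat.card (F J) ^ 2 ≤ (Nat.card (F (J \ L)) * t) ^ 2 := Nat.pow_le_pow_left h1 2
    _ = Nat.card (F (J \ L)) ^ 2 * t ^ 2 := mul_pow ..
    _ ≤ t ^ (J \ L).card * t ^ 2 := Nat.mul_le_mul_right _ h2
    _ = t ^ ((J \ L).card + 2) := (pow_add ..).symm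
    _ ≤ t ^ J.card := Nat.pow_le_pow_right ht1 h3

end Cfsg.Agent.Classical
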