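import Cfsg.Agent.Lib.Classical.SympForms
import Cfsg.Agent.Lib.Classical.FieldExtension

/-!
A fixed-point-free isometry of prime order of a form of minus type, from the field with `q^(2d)` elements.
-/

set_option autoImplicit false
set_option linter.style.haveILetI false

open Module QuadraticMap

namespace Cfsg.Agent.Classical.MinusTorus

open SympForms

variable {F : Type*} [Field F] [Fintype F] [CharP F 2]

theorem exists_torus {d : ℕ} (hd : 2 ≤ d) {r : ℕ} (hr' : r.Prime) (hcount : r ∣ Fintype.card F ^ d + 1) :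
    ∃ (Qm : QuadraticForm F (Fin d ⊕ Fin d → F)) (T : (Fin d ⊕ Fin d → F) →ₗ[F] (Fin d ⊕ Fin d → F)),
      IsSF Qm ∧ ¬ Plus Qm ∧ (∀ v, Qm (T v) = Qm v) ∧ T ^ r = 1 ∧ ∀ v, T v = v → v = 0 := by
  classical
  haveI : Fact r.Prime := ⟨hr'⟩
  set q := Fintype.card F with hq
  obtain ⟨a, ha⟩ : ∃ a : Fin d ⊕ Fin d → F, ¬ Plus (shift Q0 a) := by
    by_contra h
    push Not at h
    haveI : IsEmpty {a : Fin d ⊕ Fin d → F // ¬ Plus (shift Q0 a)} := ⟨fun a => a.2 (h a.1)⟩
    have h1 := card_minus (F := F) (d := d) (by omega)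
    rw [Nat.card_of_isEmpty, mul_zero, zero_add] at h1
    have := Nat.pow_right_injective (Fintype.one_lt_card (α := F)) h1
    omega
  set Qm := shift (Q0 (F := F) (d := d)) a with hQm
  have hSF : IsSF Qm := isSF_shift (fun u v => rfl) a
  obtain ⟨k, -, hk⟩ := FiniteField.card F 2
  rw [← hq] at hk
  let L := GaloisField 2 (k * (2 * d))
  haveI : Fintype L := Fintype.ofFinite L
  haveI : CharP L 2 := inferInstance
  have hLc : Fintype.card L = q ^ (2 * d) := by
    rw [← Nat.card_eq_fintype_card, GaloisField.card 2 _ (Nat.mul_ne_zero k.ne_zero (by omega)), hk, pow_mul]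
  obtain ⟨i⟩ := FieldExt.exists_emb F L (by omega : 2 * d ≠ 0) (by rw [hLc])
  letI : Algebra F L := i.toAlgebra
  haveI : Module.Finite F L := Module.Finite.of_finite
  have hfd : finrank F L = 2 * d := by
    have := Module.card_eq_pow_finrank (K := F) (V := L)
    rw [hLc] at this
    exact (Nat.pow_right_injective (Fintype.one_lt_card (α := F)) this).symm
  have hLpow : ∀ x : L, x ^ (q ^ (2 * d)) = x := fun x => by rw [← hLc]; exact FiniteField.pow_card x
  let σ₀ : L →ₐ[F] L :=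
    { iterateFrobenius L 2 ((k : ℕ) * d) with
      commutes' := fun e => by
        show (algebraMap F L e) ^ 2 ^ ((k : ℕ) * d) = algebraMap F L e
        rw [← map_pow, pow_mul, ← hk, hq, FiniteField.pow_card_pow] }
  have hσ₀ : ∀ x, σ₀ x = x ^ q ^ d := fun x => by
    show x ^ 2 ^ ((k : ℕ) * d) = _
    rw [hk, pow_mul]
  let σ : L ≃ₐ[F] L := AlgEquiv.ofBijective σ₀ (Finite.injective_iff_bijective.1 σ₀.toRingHom.injective)
  have hσ : ∀ x, σ x = x ^ q ^ d := hσ₀
  have hσσ : ∀ x, σ (σ x) = x := fun x => by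
    rw [hσ, hσ, ← pow_mul, ← pow_add, ← two_mul, hLpow]
  obtain ⟨ζu, hζ⟩ := exists_prime_orderOf_dvd_card' (G := Lˣ) r (by
    rw [Nat.card_units, Nat.card_eq_fintype_card, hLc]
    refine hcount.trans ⟨q ^ d - 1, ?_⟩
    rw [mul_comm 2, pow_mul, ← Nat.sq_sub_sq, one_pow])
  set ζ : L := (ζu : L) with hζd
  have hζr : ζ ^ r = 1 := by rw [hζd, ← Units.val_pow_eq_pow_val, ← hζ, pow_orderOf_eq_one]; rfl
  have hζ1 : ζ ≠ 1 := fun e0 => by
    rw [Units.val_eq_one.1 e0, orderOf_one] at hζ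
    exact hr'.ne_one hζ.symm
  have hζn : σ ζ * ζ = 1 := by
    rw [hσ, ← pow_succ, hζd, ← Units.val_pow_eq_pow_val, orderOf_dvd_iff_pow_eq_one.1 (hζ.symm ▸ hcount)]; rfl
  have hζt : ζ + σ ζ ≠ 0 := fun e0 => by
    have h1 : σ ζ = ζ := by rw [eq_neg_of_add_eq_zero_right e0]; exact CharTwo.neg_eq ζ
    rw [h1] at hζn
    exact hζ1 (Cfsg.Agent.Classical.CharTwo.sq_inj (by rw [pow_two, hζn, one_pow]))
  let c : L := ζ / (ζ + σ ζ)
  have hc : c + σ c = 1 := by
    show ζ / (ζ + σ ζ) + σ (ζ / (ζ + σ ζ)) = 1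
    rw [map_div₀, map_add, hσσ, add_comm (σ ζ) ζ, ← add_div, div_self hζt]
  let B : L →ₗ[F] L →ₗ[F] F := LinearMap.mk₂ F (fun x y => Algebra.trace F L (c * (σ x * y)))
    (fun x x' y => by simp [add_mul, mul_add])
    (fun e x y => by simp)
    (fun x y y' => by simp [mul_add])
    (fun e x y => by simp)
  have hB : ∀ x y, B x y = Algebra.trace F L (c * (σ x * y)) := fun x y => rfl
  let Q' : QuadraticForm F L := LinearMap.BilinMap.toQuadraticMap B
  have hQ' : ∀ x, Q' x = Algebra.trace F L (c * (σ x * x)) := fun x => rfl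
  have hpol : ∀ x y, polar Q' x y = Algebra.trace F L (σ x * y) := fun x y => by
    rw [LinearMap.BilinMap.polar_toQuadraticMap, hB, hB]
    rw [show Algebra.trace F L (c * (σ y * x)) = Algebra.trace F L (σ c * (σ x * y)) by
      rw [← Algebra.trace_eq_of_algEquiv σ (c * (σ y * x)), map_mul σ, map_mul σ, hσσ, mul_comm y]]
    rw [← map_add, ← add_mul, hc, one_mul]
  have hnd' : (polarBilin Q').Nondegenerate := by
    have h1 : ∀ x, (∀ y, polar Q' x y = 0) → x = 0 := fun x hx => by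
      refine σ.injective ?_
      rw [map_zero]
      exact (traceForm_nondegenerate F L).1 (σ x) fun y => (Algebra.traceForm_apply F _ _).trans ((hpol x y).symm.trans (hx y))
    exact ⟨h1, fun y hy => h1 y fun x => by rw [polar_comm]; exact hy x⟩
  have hmul : ∀ u y : L, σ u * u = 1 → Q' (u * y) = Q' y := fun u y hu => by
    rw [hQ', hQ', map_mul σ, show σ u * σ y * (u * y) = (σ u * u) * (σ y * y) by ring, hu, one_mul]
  have hminus : ¬ ∃ W : Submodule F L, finrank F W = d ∧ ∀ w ∈ W, Q' w = 0 := by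
    intro hW
    obtain ⟨φ, hφ⟩ := WittDec.exists_equiv_plus Q' hnd' hfd hW
    let K : Subgroup Lˣ := (powMonoidHom (q ^ d + 1)).ker
    have hKc : Nat.card K = q ^ d + 1 := by
      rw [IsCyclic.card_powMonoidHom_ker, Nat.card_units, Nat.card_eq_fintype_card, hLc]
      refine Nat.gcd_eq_right ⟨q ^ d - 1, ?_⟩
      rw [mul_comm 2, pow_mul, ← Nat.sq_sub_sq, one_pow]
    let S : Set Lˣ := {u | Q' (u : L) = 0}
    have hS : QuotientGroup.mk ⁻¹' ((QuotientGroup.mk : Lˣ → Lˣ ⧸ K) '' S) = S := by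
      refine Set.Subset.antisymm (fun u hu => ?_) (Set.subset_preimage_image _ _)
      obtain ⟨w, hw, hwu⟩ := hu
      rw [QuotientGroup.eq] at hwu
      have hk1 : ((w⁻¹ * u : Lˣ) : L) ^ (q ^ d + 1) = 1 := by
        rw [← Units.val_pow_eq_pow_val, show (w⁻¹ * u) ^ (q ^ d + 1) = 1 from hwu]; rfl
      show Q' (u : L) = 0
      rw [show (u : L) = ((w⁻¹ * u : Lˣ) : L) * (w : L) from
          (congrArg Units.val (show u = w⁻¹ * u * w by rw [mul_comm w⁻¹ u, inv_mul_cancel_right])).trans (Units.val_mul _ _),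
        hmul _ _ (by rw [hσ, ← pow_succ, hk1])]
      exact hw
    have hdvd : q ^ d + 1 ∣ Nat.card S := by
      rw [← hKc]
      have h1 := Nat.card_congr (QuotientGroup.preimageMkEquivSubgroupProdSet K ((QuotientGroup.mk : Lˣ → Lˣ ⧸ K) '' S))
      rw [hS, Nat.card_prod] at h1
      exact ⟨_, h1⟩
    have hz : (q : ℤ) * Nat.card {v : Fin d ⊕ Fin d → F // Cfsg.quadFormPlus d F v = 0} = (q : ℤ) ^ (2 * d) + (q : ℤ) ^ d * ((q : ℤ) - 1) := by
      let E : {v : Fin d ⊕ Fin d → F // Cfsg.quadFormPlus d F v = 0} ≃ QuadZeros.T (fun _ : Unit => (0 : F)) d :=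
        { toFun := fun v => ⟨((), fun i => (v.1 (Sum.inl i), v.1 (Sum.inr i))), (zero_add _).trans v.2⟩
          invFun := fun p => ⟨Sum.elim (fun i => (p.1.2 i).1) fun i => (p.1.2 i).2, (zero_add _).symm.trans p.2⟩
          left_inv := fun v => Subtype.ext (funext fun i => by rcases i with i | i <;> rfl)
          right_inv := fun p => rfl }
      have h3 := QuadZeros.card_eq (fun _ : Unit => (0 : F)) d
      rw [← Nat.card_congr E, show Nat.card Unit = 1 by simp, show Nat.card {x : Unit // (0 : F) = 0} = 1 by simp] at h3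
      rw [h3]; push_cast; ring
    have hsplit : Nat.card {v : Fin d ⊕ Fin d → F // Cfsg.quadFormPlus d F v = 0} = Nat.card S + 1 := by
      rw [← Finite.card_option]
      refine Nat.card_congr ((φ.toEquiv.subtypeEquiv (q := fun y => Q' y = 0) fun v => ?_).trans ?_)
      · show _ ↔ Q' (φ v) = 0
        rw [hφ]
      · exact
          { toFun := fun y => if h : y.1 = 0 then none else some ⟨Units.mk0 y.1 h, y.2⟩
            invFun := fun o => o.elim ⟨0, QuadraticMap.map_zero Q'⟩ fun u => ⟨(u.1 : L), u.2⟩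
            left_inv := fun y => by
              by_cases h : y.1 = 0
              · simp [h]; exact Subtype.ext h.symm
              · simp [h]
            right_inv := fun o => by
              rcases o with _ | u
              · simp
              · simp [u.1.ne_zero] }
    obtain ⟨t, ht⟩ := hdvd
    rw [hsplit, ht, two_mul, pow_add] at hz
    push_cast at hz
    have h9 : ((q : ℤ) ^ d + 1) ∣ 2 * (q : ℤ) - 2 :=
      ⟨(q : ℤ) ^ d + q - 2 - (q : ℤ) * t, by linear_combination hz⟩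
    have h10 : q * q ≤ q ^ d := by
      rw [← pow_two]; exact Nat.pow_le_pow_right Fintype.card_pos hd
    have hq2 : (2 : ℤ) ≤ q := by exact_mod_cast (Fintype.one_lt_card (α := F))
    have h11 := Int.le_of_dvd (by omega) h9
    have h12 : (q : ℤ) * q ≤ (q : ℤ) ^ d := by exact_mod_cast h10
    nlinarith
  obtain ⟨-, z, hz⟩ := WittDec.minus_irreducible Qm (isSF_nondeg hSF) finrank_V ha
  obtain ⟨φ, hφ⟩ := WittDec.exists_equiv_minus Q' hnd' hfd hminus 1 z (plane_hab hz)
  obtain ⟨ψ, hψ⟩ := WittDec.exists_equiv_minus Qm (isSF_nondeg hSF) finrank_V ha 1 z (plane_hab hz)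
  let e := ψ.symm.trans φ
  have he : ∀ v, Q' (e v) = Qm v := fun v => by
    rw [LinearEquiv.trans_apply, hφ, ← hψ, LinearEquiv.apply_symm_apply]
  let T : (Fin d ⊕ Fin d → F) →ₗ[F] (Fin d ⊕ Fin d → F) :=
    e.symm.toLinearMap ∘ₗ LinearMap.mulLeft F ζ ∘ₗ e.toLinearMap
  have hT : ∀ v, e (T v) = ζ * e v := fun v => by simp [T]
  have hTj : ∀ (j : ℕ) (v), e ((T ^ j) v) = ζ ^ j * e v := by
    intro j
    induction j with
    | zero => intro v; simp
    | succ j ih => intro v; rw [pow_succ, Module.End.mul_apply, ih, hT, ← mul_assoc, pow_succ]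
  refine ⟨Qm, T, hSF, ha, fun v => by rw [← he, hT, hmul _ _ hζn, he],
    LinearMap.ext fun v => e.injective (by rw [hTj, hζr, one_mul, Module.End.one_apply]), fun v hv => ?_⟩
  have h1 := hT v
  rw [hv] at h1
  by_contra hv0
  exact hζ1 ((mul_eq_right₀ (fun e0 => hv0 (e.map_eq_zero_iff.1 e0))).1 h1.symm)

end Cfsg.Agent.Classical.MinusTorus
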