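import Cfsg.Agent.Lib.Classical.NotMaxWreath

/-!
Stabilisers of decompositions refined by frames: the general non-maximality argument.
-/

set_option autoImplicit false
set_option linter.style.haveILetI false
set_option linter.unusedSectionVars false

open Module Matrix
open scoped commutatorElement

namespace Cfsg.Agent.Classical.NotMaxFrame

open NotMaxWreath

variable {F : Type*} [Field F] {ι : Type} [Fintype ι] [DecidableEq ι]

/-- Coordinates adapted to a decomposition with chosen bases. -/
theorem exists_coord {t m : ℕ} {D : Fin t → Submodule F (ι → F)} (hD : Cfsg.Geo.IsMDecomposition m D)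
    (v : ∀ i, Basis (Fin m) F (D i)) :
    ∃ c : (ι → F) ≃ₗ[F] (Fin t → Fin m → F),
      (∀ i y, c.symm (Pi.single i y) = ∑ k, y k • (v i k : ι → F)) ∧
      (∀ i y, c.symm (Pi.single i y) ∈ D i) ∧ ∀ i, ∀ u ∈ D i, c u = Pi.single i (c u i) := by
  classical
  have hint : DirectSum.IsInternal D :=
    DirectSum.isInternal_submodule_of_iSupIndep_of_iSup_eq_top hD.indep hD.iSup_eq_top
  obtain ⟨b, hb, hb0⟩ : ∃ b : Basis (Σ _ : Fin t, Fin m) F (ι → F),
      (∀ s, b s = (v s.1 s.2 : ι → F)) ∧ ∀ i, ∀ u ∈ D i, ∀ j k, i ≠ j → b.repr u ⟨j, k⟩ = 0 := by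
    refine ⟨hint.collectedBasis v, fun s => ?_,
      fun i u hu j k hij => DirectSum.IsInternal.collectedBasis_repr_of_mem_ne hint v hij hu⟩
    rw [DirectSum.IsInternal.collectedBasis_coe]
  let c : (ι → F) ≃ₗ[F] (Fin t → Fin m → F) :=
    b.equivFun.trans
      { toFun := fun f i k => f ⟨i, k⟩
        map_add' := fun _ _ => rfl
        map_smul' := fun _ _ => rfl
        invFun := fun x s => x s.1 s.2
        left_inv := fun f => funext fun ⟨_, _⟩ => rfl
        right_inv := fun _ => rfl }
  have h1 : ∀ i y, c.symm (Pi.single i y) = ∑ k, y k • (v i k : ι → F) := by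
    intro i y
    show b.equivFun.symm (fun s => (Pi.single i y : Fin t → Fin m → F) s.1 s.2) = _
    rw [Basis.equivFun_symm_apply, Fintype.sum_sigma, Finset.sum_eq_single i]
    · simp only [hb, Pi.single_eq_same]
    · intro j _ hj; simp [Pi.single_eq_of_ne hj]
    · simp
  refine ⟨c, h1, fun i y => ?_, fun i u hu => ?_⟩
  · rw [h1]; exact Submodule.sum_mem _ fun k _ => (D i).smul_mem _ (v i k).2
  · funext j
    rcases eq_or_ne j i with rfl | hj
    · rw [Pi.single_eq_same]
    · rw [Pi.single_eq_of_ne hj]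
      funext k
      exact hb0 i u hu j k hj.symm

/-- Coordinates of a refinement into lines. -/
def refineCoord {t k : ℕ} (c : (ι → F) ≃ₗ[F] (Fin t → Fin k → F)) : (ι → F) ≃ₗ[F] (Fin (t * k) → Fin 1 → F) :=
  c.trans
    { toFun := fun x s _ => x (finProdFinEquiv.symm s).1 (finProdFinEquiv.symm s).2
      map_add' := fun _ _ => rfl
      map_smul' := fun _ _ => rfl
      invFun := fun z i l => z (finProdFinEquiv (i, l)) 0
      left_inv := fun x => by funext i l; simp
      right_inv := fun z => by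
        funext s j
        rw [Subsingleton.elim j 0]
        show z (finProdFinEquiv ((finProdFinEquiv.symm s).1, (finProdFinEquiv.symm s).2)) 0 = z s 0
        rw [Prod.mk.eta, Equiv.apply_symm_apply] }

theorem refineCoord_apply {t k : ℕ} (c : (ι → F) ≃ₗ[F] (Fin t → Fin k → F)) (v : ι → F) (i : Fin t) (l : Fin k) :
    refineCoord c v (finProdFinEquiv (i, l)) 0 = c v i l := by
  show c v (finProdFinEquiv.symm (finProdFinEquiv (i, l))).1 (finProdFinEquiv.symm (finProdFinEquiv (i, l))).2 = _
  rw [Equiv.symm_apply_apply]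

theorem cnt_refine {t k : ℕ} (c : (ι → F) ≃ₗ[F] (Fin t → Fin k → F)) (v : ι → F) :
    cnt (refineCoord c v) = ∑ i, ∑ l, chi (fun _ : Fin 1 => c v i l) := by
  rw [cnt, ← Equiv.sum_comp finProdFinEquiv, Fintype.sum_prod_type]
  refine Finset.sum_congr rfl fun i _ => Finset.sum_congr rfl fun l _ => congrArg chi (funext fun j => ?_)
  rw [Subsingleton.elim j 0, refineCoord_apply]

variable [Fintype F]

theorem isometry_gl_window {t m : ℕ} (c : (ι → F) ≃ₗ[F] (Fin t → Fin m → F))
    (hq : (m = 1 ∧ Fintype.card F ≤ 4) ∨ (m = 2 ∧ Fintype.card F = 2)) (w : Fin 4 ↪ Fin t) (u : ι → F) :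
    cnt (c ((gl c (window w) (window_window hq w) : Matrix ι ι F) *ᵥ u)) = cnt (c u) := by
  show cnt (c (mat c (window w) *ᵥ u)) = cnt (c u)
  rw [mat_mulVec, cnt_window hq]

/-- The transposition of two components. -/
noncomputable def swapGL {t m : ℕ} (c : (ι → F) ≃ₗ[F] (Fin t → Fin m → F)) (a b : Fin t) : GL ι F :=
  gl c (permMap (Equiv.swap a b)) fun x => funext fun i => by
    show x (Equiv.swap a b (Equiv.swap a b i)) = x i
    rw [Equiv.swap_apply_self]

theorem isometry_swapGL {t m : ℕ} (c : (ι → F) ≃ₗ[F] (Fin t → Fin m → F)) (a b : Fin t) (u : ι → F) :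
    cnt (c ((swapGL c a b : Matrix ι ι F) *ᵥ u)) = cnt (c u) := by
  show cnt (c (mat c (permMap _) *ᵥ u)) = cnt (c u)
  rw [mat_mulVec, cnt_perm]

/-- A product of isometries of the count that does not permute the components. -/
theorem exists_not_mapsTo {t m : ℕ} (c : (ι → F) ≃ₗ[F] (Fin t → Fin m → F)) (hm : 1 ≤ m) (ht : 5 ≤ t)
    (hq : (m = 1 ∧ Fintype.card F ≤ 4) ∨ (m = 2 ∧ Fintype.card F = 2)) :
    ∃ A B : GL ι F, (∀ u, cnt (c ((A : Matrix ι ι F) *ᵥ u)) = cnt (c u)) ∧
      (∀ u, cnt (c ((B : Matrix ι ι F) *ᵥ u)) = cnt (c u)) ∧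
      ¬ ∃ σ : Equiv.Perm (Fin t), ∀ i y, ∃ z,
        c (((⁅A, B⁆ : GL ι F) : Matrix ι ι F) *ᵥ c.symm (Pi.single i y)) = Pi.single (σ i) z := by
  classical
  let w : Fin 4 ↪ Fin t := ⟨fun a => ⟨a, by omega⟩, fun a b h => Fin.ext (by simpa using h)⟩
  let i4 : Fin t := ⟨4, by omega⟩
  have hi4 : ∀ a, w a ≠ i4 := fun a h => by
    have h' : (a : ℕ) = 4 := congrArg Fin.val h
    omega
  set σ : Equiv.Perm (Fin t) := Equiv.swap (w 3) i4 with hσ
  refine ⟨gl c (window w) (window_window hq w), swapGL c (w 3) i4, isometry_gl_window c hq w, isometry_swapGL c _ _, ?_⟩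
  rintro ⟨τ, hτ⟩
  let y : Fin m → F := Pi.single ⟨0, hm⟩ 1
  obtain ⟨z, hz⟩ := hτ (w 0) y
  have hval : c (((⁅gl c (window w) (window_window hq w), swapGL c (w 3) i4⁆ : GL ι F) : Matrix ι ι F) *ᵥ
      c.symm (Pi.single (w 0) y)) = window w (permMap σ (window w (permMap σ (Pi.single (w 0) y)))) := by
    show c ((mat c (window w) * mat c (permMap σ) * mat c (window w) * mat c (permMap σ)) *ᵥ _) = _
    rw [← Matrix.mulVec_mulVec, ← Matrix.mulVec_mulVec, ← Matrix.mulVec_mulVec, mat_mulVec, mat_mulVec,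
      mat_mulVec, mat_mulVec, LinearEquiv.apply_symm_apply]
  rw [hval] at hz
  have d03 : w 0 ≠ w 3 := w.injective.ne (by decide)
  have d23 : w 2 ≠ w 3 := w.injective.ne (by decide)
  have d13 : w 1 ≠ w 3 := w.injective.ne (by decide)
  have s0 : σ (w 0) = w 0 := Equiv.swap_apply_of_ne_of_ne d03 (hi4 0)
  have hx : permMap σ (Pi.single (w 0) y) = Pi.single (w 0) y := funext fun i => by
    show (Pi.single (w 0) y : Fin t → Fin m → F) (σ i) = _
    rcases eq_or_ne i (w 0) with rfl | h
    · rw [s0]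
    · rw [Pi.single_eq_of_ne h, Pi.single_eq_of_ne]
      exact fun h' => h (σ.injective (h'.trans s0.symm))
  rw [hx] at hz
  have key : ∀ (i : Fin t), (window w (permMap σ (window w (Pi.single (w 0) y)))) i = 0 ∨ i = τ (w 0) := fun i => by
    by_cases h : i = τ (w 0)
    · exact Or.inr h
    · left; rw [hz, Pi.single_eq_of_ne h]
  have v4 : window w (permMap σ (window w (Pi.single (w 0) y))) i4 = y := by
    rw [window_apply_off w _ hi4]
    show window w (Pi.single (w 0) y) (σ i4) = y
    rw [hσ, Equiv.swap_apply_right, window_apply]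
    simp [Fin.sum_univ_four, w.injective.eq_iff]
  have v2 : window w (permMap σ (window w (Pi.single (w 0) y))) (w 2) = (5 : F) • y := by
    rw [window_apply]
    simp only [permMap, LinearMap.funLeft_apply, Fin.sum_univ_four]
    rw [hσ, Equiv.swap_apply_left, Equiv.swap_apply_of_ne_of_ne d03 (hi4 0),
      Equiv.swap_apply_of_ne_of_ne d13 (hi4 1), Equiv.swap_apply_of_ne_of_ne d23 (hi4 2), window_apply_off w _ hi4]
    simp only [window_apply, Fin.sum_univ_four]
    simp [w.injective.eq_iff, Pi.single_eq_of_ne (Ne.symm (hi4 0))]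
    module
  have hy : y ≠ 0 := fun h => by simpa [y] using congrFun h ⟨0, hm⟩
  have e4 : i4 = τ (w 0) := (key i4).resolve_left (by rw [v4]; exact hy)
  have e2 : w 2 = τ (w 0) := (key (w 2)).resolve_left (by
    rw [v2, smul_eq_zero, not_or]
    refine ⟨fun h5 => one_ne_zero (α := F) ?_, hy⟩
    have h6 := (six_eq_zero hq).1
    linear_combination h6 - h5)
  exact hi4 2 (e2.trans e4.symm)

/-- The lines of a frame. -/
def lines {s : ℕ} (c : (ι → F) ≃ₗ[F] (Fin s → Fin 1 → F)) (i : Fin s) : Submodule F (ι → F) :=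
  Submodule.span F {c.symm (Pi.single i 1)}

theorem single_eq {s : ℕ} (i : Fin s) (y : Fin 1 → F) : (Pi.single i y : Fin s → Fin 1 → F) = y 0 • Pi.single i 1 := by
  rw [← Pi.single_smul]
  congr 1
  funext j; rw [Subsingleton.elim j 0]; simp

theorem mapsTo_of_mem {s : ℕ} (c : (ι → F) ≃ₗ[F] (Fin s → Fin 1 → F)) (g : GL ι F)
    (hg : g ∈ Cfsg.Geo.decompositionStabilizer (lines c)) :
    ∃ σ : Equiv.Perm (Fin s), ∀ i y, ∃ z, c ((g : Matrix ι ι F) *ᵥ c.symm (Pi.single i y)) = Pi.single (σ i) z := by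
  obtain ⟨σ, hσ⟩ := hg
  refine ⟨σ, fun i y => ?_⟩
  have h : (g : Matrix ι ι F) *ᵥ c.symm (Pi.single i y) ∈ lines c (σ i) := by
    rw [← hσ i]
    refine ⟨_, ?_, Matrix.toLin'_apply _ _⟩
    rw [single_eq, map_smul]
    exact Submodule.smul_mem _ _ (Submodule.mem_span_singleton_self _)
  obtain ⟨a, ha⟩ := Submodule.mem_span_singleton.1 h
  exact ⟨fun _ => a, by rw [← ha, map_smul, LinearEquiv.apply_symm_apply, single_eq (σ i) fun _ => a]⟩

/-- The stabiliser of the coarse decomposition lies properly in that of the frame. -/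
theorem exists_between {t k : ℕ} (hk : 2 ≤ k) (ht : 3 ≤ t) (D : Fin t → Submodule F (ι → F))
    (c : (ι → F) ≃ₗ[F] (Fin t → Fin k → F)) (hmem : ∀ i y, c.symm (Pi.single i y) ∈ D i)
    (hsupp : ∀ i, ∀ u ∈ D i, c u = Pi.single i (c u i)) (hq : Fintype.card F ≤ 4)
    (hN : ∀ N : ℕ, N ≤ k → (N : F) = 1 → N = 1) (G : Subgroup (GL ι F))
    (hG1 : ∀ A B : GL ι F, (∀ u, cnt (refineCoord c ((A : Matrix ι ι F) *ᵥ u)) = cnt (refineCoord c u)) →
      (∀ u, cnt (refineCoord c ((B : Matrix ι ι F) *ᵥ u)) = cnt (refineCoord c u)) → ⁅A, B⁆ ∈ G)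
    (hG2 : ∀ g ∈ G, ∀ u, cnt (refineCoord c ((g : Matrix ι ι F) *ᵥ u)) = cnt (refineCoord c u)) :
    ∃ K : Subgroup (GL ι F), Cfsg.Geo.decompositionStabilizer D ⊓ G < K ∧ K < G := by
  classical
  set c' := refineCoord c with hc'
  refine ⟨Cfsg.Geo.decompositionStabilizer (lines c') ⊓ G, ?_, ?_⟩
  · refine lt_of_le_of_ne (fun g hg => ⟨?_, hg.2⟩) fun e => ?_
    · obtain ⟨σ, hσ⟩ := hg.1
      -- the image of a basis vector of the frame lies in one block and has one non-zero coordinate
      have hbasis : ∀ s, c'.symm (Pi.single s (1 : Fin 1 → F)) =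
          c.symm (Pi.single (finProdFinEquiv.symm s).1 (Pi.single (finProdFinEquiv.symm s).2 1)) := fun s => by
        refine c'.injective ?_
        rw [LinearEquiv.apply_symm_apply]
        funext r j
        rw [Subsingleton.elim j 0]
        obtain ⟨⟨i, l⟩, rfl⟩ := finProdFinEquiv.surjective r
        rw [hc', refineCoord_apply, LinearEquiv.apply_symm_apply]
        obtain ⟨⟨i', l'⟩, rfl⟩ := finProdFinEquiv.surjective s
        simp only [Equiv.symm_apply_apply, Pi.single_apply, EmbeddingLike.apply_eq_iff_eq, Prod.mk.injEq]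
        split_ifs <;> simp_all
      have hline : ∀ s, ∃ r, (g : Matrix ι ι F) *ᵥ c'.symm (Pi.single s 1) ∈ lines c' r := by
        intro s
        set u := (g : Matrix ι ι F) *ᵥ c'.symm (Pi.single s (1 : Fin 1 → F)) with hu
        have h1 : cnt (c' u) = 1 := by
          rw [hu, hc', hG2 g hg.2, LinearEquiv.apply_symm_apply, cnt,
            Fintype.sum_eq_single s (fun r hr => by rw [Pi.single_eq_of_ne hr, chi_zero]), Pi.single_eq_same,
            chi_ne (by simp)]
        set i₀ := σ (finProdFinEquiv.symm s).1 with hi₀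
        have hu' : u ∈ D i₀ := by
          rw [hi₀, ← hσ]
          exact ⟨_, hbasis s ▸ hmem _ _, Matrix.toLin'_apply _ _⟩
        have hcu := hsupp _ u hu'
        rw [hc', cnt_refine, Finset.sum_eq_single i₀ (fun i _ hi => Finset.sum_eq_zero fun l _ => by
          rw [hcu, Pi.single_eq_of_ne hi]; exact chi_zero) (by simp)] at h1
        have h2 : ∑ l, chi (fun _ : Fin 1 => c u i₀ l) =
            ((Finset.univ.filter fun l => c u i₀ l ≠ 0).card : F) := by
          rw [Finset.natCast_card_filter]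
          refine Finset.sum_congr rfl fun l _ => ?_
          by_cases h : c u i₀ l = 0
          · rw [if_neg (by simp [h]), h]; exact chi_zero
          · rw [if_pos h, chi_ne (fun e => h (congrFun e 0))]
        rw [h2] at h1
        have hcard := hN _ ((Finset.card_le_univ _).trans_eq (Fintype.card_fin k)) h1
        obtain ⟨l₀, hl₀⟩ := Finset.card_eq_one.1 hcard
        refine ⟨finProdFinEquiv (i₀, l₀), Submodule.mem_span_singleton.2 ⟨c u i₀ l₀, c'.injective ?_⟩⟩
        rw [map_smul, LinearEquiv.apply_symm_apply]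
        funext r j
        rw [Subsingleton.elim j 0]
        obtain ⟨⟨i, l⟩, rfl⟩ := finProdFinEquiv.surjective r
        rw [hc', refineCoord_apply, hcu]
        simp only [Pi.smul_apply, Pi.single_apply, EmbeddingLike.apply_eq_iff_eq, Prod.mk.injEq]
        by_cases h : i = i₀
        · rw [h]
          by_cases h' : l = l₀
          · rw [h']; simp
          · have hz : c u i₀ l = 0 := by
              by_contra hne
              have : l ∈ Finset.univ.filter fun l => c u i₀ l ≠ 0 := by simp [hne]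
              rw [hl₀, Finset.mem_singleton] at this
              exact h' this
            simp [h', hz]
        · simp [h]
      choose τ hτ using hline
      have himg : ∀ s, (lines c' s).map (Matrix.toLin' (g : Matrix ι ι F)) = lines c' (τ s) := by
        intro s
        obtain ⟨a, ha⟩ := Submodule.mem_span_singleton.1 (hτ s)
        rw [lines, Submodule.map_span, Set.image_singleton, Matrix.toLin'_apply, ← ha, lines]
        refine Submodule.span_singleton_smul_eq (IsUnit.mk0 a fun h0 => ?_) _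
        rw [h0, zero_smul] at ha
        have h4 := congrArg (fun w => ((g⁻¹ : GL ι F) : Matrix ι ι F) *ᵥ w) ha.symm
        simp [Matrix.mulVec_mulVec] at h4
      have hinj : Function.Injective τ := fun a b hab => by
        have h5 := (himg a).trans (hab ▸ (himg b).symm)
        have h6 := Submodule.map_injective_of_injective (f := Matrix.toLin' (g : Matrix ι ι F))
          (fun x y e => by
            have h4 := congrArg (fun w => ((g⁻¹ : GL ι F) : Matrix ι ι F) *ᵥ w) e
            simpa [Matrix.toLin'_apply, Matrix.mulVec_mulVec] using h4) h5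
        have h7 : c'.symm (Pi.single a 1) ∈ lines c' b := h6 ▸ Submodule.mem_span_singleton_self _
        obtain ⟨x, hx⟩ := Submodule.mem_span_singleton.1 h7
        have h8 := congrArg c' hx
        rw [map_smul, LinearEquiv.apply_symm_apply, LinearEquiv.apply_symm_apply] at h8
        by_contra hne
        have := congrFun (congrFun h8 a) 0
        simp [hne] at this
      exact ⟨Equiv.ofBijective τ ⟨hinj, Finite.injective_iff_surjective.1 hinj⟩, himg⟩
    · -- a three-cycle of the frame mixing three blocks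
      let l₀ : Fin k := ⟨0, by omega⟩
      let p : Fin 3 → Fin (t * k) := fun a => finProdFinEquiv (⟨a, by omega⟩, l₀)
      let q1 : Fin (t * k) := finProdFinEquiv (⟨0, by omega⟩, ⟨1, by omega⟩)
      set A := swapGL c' (p 0) (p 1)
      set B := swapGL c' (p 1) (p 2)
      have hAB : ⁅A, B⁆ ∈ Cfsg.Geo.decompositionStabilizer (lines c') ⊓ G := by
        refine Subgroup.mem_inf.2 ⟨?_, hG1 A B (isometry_swapGL c' _ _) (isometry_swapGL c' _ _)⟩
        have hsw : ∀ a b : Fin (t * k), swapGL c' a b ∈ Cfsg.Geo.decompositionStabilizer (lines c') := by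
          intro a b
          refine ⟨Equiv.swap a b, fun i => ?_⟩
          rw [lines, Submodule.map_span, Set.image_singleton, Matrix.toLin'_apply, lines]
          congr 2
          refine c'.injective ?_
          show c' (mat c' (permMap _) *ᵥ _) = _
          rw [mat_mulVec, LinearEquiv.apply_symm_apply, LinearEquiv.apply_symm_apply]
          funext r
          simp [permMap, LinearMap.funLeft_apply, Pi.single_apply, Equiv.swap_apply_eq_iff]
        rw [commutatorElement_def]
        exact mul_mem (mul_mem (mul_mem (hsw _ _) (hsw _ _)) (inv_mem (hsw _ _))) (inv_mem (hsw _ _))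
      rw [← e] at hAB
      obtain ⟨σ, hσ⟩ := hAB.1
      -- one line of the first block moves, its neighbour stays
      have hval : ∀ x, c' (((⁅A, B⁆ : GL ι F) : Matrix ι ι F) *ᵥ x) =
          fun r => c' x (Equiv.swap (p 1) (p 2) (Equiv.swap (p 0) (p 1) (Equiv.swap (p 1) (p 2) (Equiv.swap (p 0) (p 1) r)))) := by
        intro x
        show c' ((mat c' (permMap _) * mat c' (permMap _) * mat c' (permMap _) * mat c' (permMap _)) *ᵥ x) = _
        rw [← Matrix.mulVec_mulVec, ← Matrix.mulVec_mulVec, ← Matrix.mulVec_mulVec, mat_mulVec, mat_mulVec,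
          mat_mulVec, mat_mulVec]
        rfl
      let y : Fin k → F := fun l => if (l : ℕ) ≤ 1 then 1 else 0
      have hy : c.symm (Pi.single (⟨0, by omega⟩ : Fin t) y) ∈ D ⟨0, by omega⟩ := hmem _ _
      have himage : ((⁅A, B⁆ : GL ι F) : Matrix ι ι F) *ᵥ c.symm (Pi.single (⟨0, by omega⟩ : Fin t) y) ∈
          D (σ ⟨0, by omega⟩) := by
        rw [← hσ]; exact ⟨_, hy, Matrix.toLin'_apply _ _⟩
      have hs := hsupp _ _ himage
      have key : ∀ (i : Fin t) (l : Fin k), i ≠ σ ⟨0, by omega⟩ →
          c (((⁅A, B⁆ : GL ι F) : Matrix ι ι F) *ᵥ c.symm (Pi.single (⟨0, by omega⟩ : Fin t) y)) i l = 0 := by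
        intro i l hi; rw [hs, Pi.single_eq_of_ne hi]; rfl
      have dp : ∀ a b : Fin 3, a ≠ b → p a ≠ p b := fun a b hab e => hab (Fin.ext (by
        have := congrArg (fun s => ((finProdFinEquiv.symm s).1 : ℕ)) e
        simpa [p] using this))
      have dq : ∀ a : Fin 3, q1 ≠ p a := fun a e => by
        have := congrArg (fun s => ((finProdFinEquiv.symm s).2 : ℕ)) e
        simp [p, q1, l₀] at this
      have hcy : ∀ (i : Fin t) (l : Fin k), c' (c.symm (Pi.single (⟨0, by omega⟩ : Fin t) y)) (finProdFinEquiv (i, l)) 0 =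
          if (i : ℕ) = 0 ∧ (l : ℕ) ≤ 1 then 1 else 0 := by
        intro i l
        rw [hc', refineCoord_apply, LinearEquiv.apply_symm_apply]
        by_cases h : i = (⟨0, by omega⟩ : Fin t)
        · subst h; simp [y]
        · rw [Pi.single_eq_of_ne h, if_neg (fun h' => h (Fin.ext h'.1))]; rfl
      -- the second line stays in the first block
      have e0 : σ ⟨0, by omega⟩ = (⟨0, by omega⟩ : Fin t) := by
        by_contra hne
        have h := key ⟨0, by omega⟩ ⟨1, by omega⟩ (Ne.symm hne)
        rw [← refineCoord_apply c, ← hc', hval] at h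
        change c' _ (Equiv.swap (p 1) (p 2) (Equiv.swap (p 0) (p 1) (Equiv.swap (p 1) (p 2)
          (Equiv.swap (p 0) (p 1) q1)))) 0 = 0 at h
        rw [Equiv.swap_apply_of_ne_of_ne (dq 0) (dq 1), Equiv.swap_apply_of_ne_of_ne (dq 1) (dq 2),
          Equiv.swap_apply_of_ne_of_ne (dq 0) (dq 1), Equiv.swap_apply_of_ne_of_ne (dq 1) (dq 2), hcy] at h
        simp at h
      -- but the first line leaves it
      have hsum : ∃ i : Fin t, (i : ℕ) ≠ 0 ∧ ∃ l, c (((⁅A, B⁆ : GL ι F) : Matrix ι ι F) *ᵥ
          c.symm (Pi.single (⟨0, by omega⟩ : Fin t) y)) i l ≠ 0 := by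
        have hx : ∀ a : Fin 3, c' (c.symm (Pi.single (⟨0, by omega⟩ : Fin t) y)) (p a) 0 = if (a : ℕ) = 0 then 1 else 0 := by
          intro a; rw [hcy]; simp [l₀]
        by_contra hcon
        push Not at hcon
        have h1 := hcon ⟨1, by omega⟩ (by simp) l₀
        have h2 := hcon ⟨2, by omega⟩ (by simp) l₀
        rw [← refineCoord_apply c, ← hc', hval] at h1 h2
        change c' _ (Equiv.swap (p 1) (p 2) (Equiv.swap (p 0) (p 1) (Equiv.swap (p 1) (p 2)
          (Equiv.swap (p 0) (p 1) (p 1))))) 0 = 0 at h1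
        change c' _ (Equiv.swap (p 1) (p 2) (Equiv.swap (p 0) (p 1) (Equiv.swap (p 1) (p 2)
          (Equiv.swap (p 0) (p 1) (p 2))))) 0 = 0 at h2
        simp [Equiv.swap_apply_of_ne_of_ne, dp 0 1 (by decide), dp 0 2 (by decide), dp 1 2 (by decide),
          (dp 0 1 (by decide)).symm, (dp 0 2 (by decide)).symm, (dp 1 2 (by decide)).symm, hx] at h1 h2
      obtain ⟨i, hi, l, hl⟩ := hsum
      exact hl (key i l (by rw [e0]; exact fun h => hi (congrArg Fin.val h)))
  · refine lt_of_le_of_ne inf_le_right fun e => ?_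
    have ht5 : 5 ≤ t * k := le_trans (by norm_num) (Nat.mul_le_mul ht hk)
    obtain ⟨A, B, hA, hB, hnot⟩ := exists_not_mapsTo c' le_rfl ht5 (Or.inl ⟨rfl, hq⟩)
    exact hnot (mapsTo_of_mem c' _ (e.ge (hG1 A B hA hB)).1)

end Cfsg.Agent.Classical.NotMaxFrame
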