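import Cfsg.Agent.Lib.Classical.OmegaCenter
import Cfsg.Agent.Lib.Classical.WittDecomp
import Cfsg.Prelude.Def_GeometricClasses

/-!
Orthogonal subgroups that fail to be maximal: preliminaries, and the plus-type plane for three or fewer scalars.
-/

set_option autoImplicit false
set_option linter.style.haveILetI false
set_option linter.unusedSectionVars false

open Matrix QuadraticMap Module

namespace Cfsg.Agent.Classical.NotMax

variable {F : Type*} [Field F] {ι : Type} [Fintype ι] [DecidableEq ι]

/-- A form given as a function, as a quadratic form. -/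
def toQ {Q : (ι → F) → F} (h : Cfsg.Geo.IsNondegenerateQuadraticForm Q) : QuadraticForm F (ι → F) :=
  QuadraticMap.ofPolar Q (fun a x => by rw [h.smul, pow_two]; rfl)
    h.polar_bilinear.add_left (fun a x y => h.polar_bilinear.smul_left a x y)

theorem toQ_coe {Q : (ι → F) → F} (h : Cfsg.Geo.IsNondegenerateQuadraticForm Q) : ⇑(toQ h) = Q := rfl

theorem toQ_nondeg {Q : (ι → F) → F} (h : Cfsg.Geo.IsNondegenerateQuadraticForm Q) :
    (polarBilin (toQ h)).Nondegenerate := by
  have h1 : ∀ u, (∀ v, polar (toQ h) u v = 0) → u = 0 := fun u hu => by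
    by_contra hne
    obtain ⟨-, x, hx⟩ := h.nondegenerate u hne
    exact hx (hu x)
  exact ⟨h1, fun y hy => h1 y fun x => by rw [polar_comm]; exact hy x⟩

theorem quadFormOdd_nondeg {m : ℕ} (h2 : (2 : F) ≠ 0) :
    Cfsg.Geo.IsNondegenerateQuadraticForm (Cfsg.quadFormOdd m F) := by
  have hp : ∀ u v, polar (Cfsg.quadFormOdd m F) u v = 2 * (u (.inl ()) * v (.inl ())) +
      ∑ i : Fin m, (u (.inr (.inl i)) * v (.inr (.inr i)) + v (.inr (.inl i)) * u (.inr (.inr i))) := fun u v => by
    simp only [polar, Cfsg.quadFormOdd, Pi.add_apply, add_mul, mul_add, Finset.sum_add_distrib]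
    ring
  refine ⟨fun c v => ?_, ⟨fun x y v => ?_, fun c x v => ?_, fun v x y => ?_, fun c v x => ?_⟩, fun v hv => ?_⟩
  · simp only [Cfsg.quadFormOdd, Pi.smul_apply, smul_eq_mul, mul_add, Finset.mul_sum]
    congr 1
    · ring
    · exact Finset.sum_congr rfl fun i _ => by ring
  · simp only [hp, Pi.add_apply, add_mul, mul_add, Finset.sum_add_distrib]; ring
  · simp only [hp, Pi.smul_apply, smul_eq_mul, mul_add, Finset.mul_sum]
    congr 1
    · ring
    · exact Finset.sum_congr rfl fun i _ => by ring
  · simp only [hp, Pi.add_apply, add_mul, mul_add, Finset.sum_add_distrib]; ring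
  · simp only [hp, Pi.smul_apply, smul_eq_mul, mul_add, Finset.mul_sum]
    congr 1
    · ring
    · exact Finset.sum_congr rfl fun i _ => by ring
  · have : ∃ x, polar (Cfsg.quadFormOdd m F) v x ≠ 0 := by
      obtain ⟨j, hj⟩ := Function.ne_iff.1 hv
      rcases j with u | i | i
      · exact ⟨Pi.single (.inl ()) 1, by rw [hp]; simpa [Pi.single_apply, h2] using hj⟩
      · exact ⟨Pi.single (.inr (.inr i)) 1, by rw [hp]; simpa [Pi.single_apply] using hj⟩
      · exact ⟨Pi.single (.inr (.inl i)) 1, by rw [hp]; simpa [Pi.single_apply] using hj⟩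
    obtain ⟨x, hx⟩ := this
    exact ⟨⟨x, by rwa [polar_comm]⟩, x, hx⟩

open Refl in
/-- Membership in `Ω` as a subgroup of the general linear group. -/
theorem mem_omegaGL {Q : QuadraticForm F (ι → F)} (g : O Q) (hg : g ∈ commutator (O Q)) :
    (g : GL ι F) ∈ Cfsg.Geo.omegaGL ⇑Q :=
  ⟨g, hg, rfl⟩

theorem omega_isometry {Q : (ι → F) → F} {g : GL ι F} (hg : g ∈ Cfsg.Geo.omegaGL Q) (x : ι → F) :
    Q ((g : Matrix ι ι F) *ᵥ x) = Q x := by
  obtain ⟨k, -, rfl⟩ := hg
  exact k.2 x x

theorem omega_polar {Q : (ι → F) → F} {g : GL ι F} (hg : g ∈ Cfsg.Geo.omegaGL Q) (x y : ι → F) :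
    polar Q ((g : Matrix ι ι F) *ᵥ x) ((g : Matrix ι ι F) *ᵥ y) = polar Q x y := by
  simp only [polar, ← Matrix.mulVec_add, omega_isometry hg]

theorem mulVec_inj (g : GL ι F) {x y : ι → F} (h : (g : Matrix ι ι F) *ᵥ x = (g : Matrix ι ι F) *ᵥ y) : x = y := by
  simpa [Matrix.mulVec_mulVec] using congrArg (fun z => ((g⁻¹ : GL ι F) : Matrix ι ι F) *ᵥ z) h

variable [Fintype F] (Q : QuadraticForm F (ι → F)) (hQ : (polarBilin Q).Nondegenerate)

theorem self_polar (x : ι → F) : polar Q x x = 2 * Q x := by
  rw [polar_self, nsmul_eq_mul, Nat.cast_ofNat]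

/-- Expansion of the form on the span of four vectors forming two orthogonal hyperbolic pairs. -/
theorem quad_four {e f x y : ι → F} (he : Q e = 0) (hf : Q f = 0) (hx : Q x = 0) (hy : Q y = 0)
    (hef : polar Q e f = 1) (hxy : polar Q x y = 1) (hex : polar Q e x = 0) (hey : polar Q e y = 0)
    (hfx : polar Q f x = 0) (hfy : polar Q f y = 0) (a b c d : F) :
    Q (a • e + b • f + c • x + d • y) = a * b + c * d := by
  simp only [QuadraticMap.map_add ⇑Q, QuadraticMap.map_smul, polar_add_left, polar_smul_left, polar_smul_right,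
    he, hf, hx, hy, hef, hxy, hex, hey, hfx, hfy, smul_eq_mul]
  ring

/-- Expansion of the polar form on the same span. -/
theorem polar_four {e f x y : ι → F} (he : Q e = 0) (hf : Q f = 0) (hx : Q x = 0) (hy : Q y = 0)
    (hef : polar Q e f = 1) (hxy : polar Q x y = 1) (hex : polar Q e x = 0) (hey : polar Q e y = 0)
    (hfx : polar Q f x = 0) (hfy : polar Q f y = 0) (a b c d a' b' c' d' : F) :
    polar Q (a • e + b • f + c • x + d • y) (a' • e + b' • f + c' • x + d' • y) =
      a * b' + b * a' + c * d' + d * c' := by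
  have hfe : polar Q f e = 1 := by rw [polar_comm]; exact hef
  have hyx : polar Q y x = 1 := by rw [polar_comm]; exact hxy
  have hxe : polar Q x e = 0 := by rw [polar_comm]; exact hex
  have hye : polar Q y e = 0 := by rw [polar_comm]; exact hey
  have hxf : polar Q x f = 0 := by rw [polar_comm]; exact hfx
  have hyf : polar Q y f = 0 := by rw [polar_comm]; exact hfy
  simp only [polar_add_left, polar_add_right, polar_smul_left, polar_smul_right, self_polar, he, hf, hx, hy,
    hef, hfe, hxy, hyx, hex, hxe, hey, hye, hfx, hxf, hfy, hyf, smul_eq_mul]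
  ring

include hQ

/-- A hyperbolic pair orthogonal to a given one. -/
theorem exists_pair_perp (hn : 5 ≤ Fintype.card ι) {e f : ι → F} (he : Q e = 0) (hf : Q f = 0)
    (hef : polar Q e f = 1) : ∃ x y : ι → F, Q x = 0 ∧ Q y = 0 ∧ polar Q x y = 1 ∧
      polar Q e x = 0 ∧ polar Q e y = 0 ∧ polar Q f x = 0 ∧ polar Q f y = 0 := by
  have h1 := Refl.le_finrank_ker (polarBilin Q e)
  have h2 := Refl.le_finrank_ker (polarBilin Q f)
  set S := LinearMap.ker (polarBilin Q e) ⊓ LinearMap.ker (polarBilin Q f) with hS
  have h3 : 3 ≤ finrank F S := by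
    have := Submodule.finrank_sup_add_finrank_inf_eq (LinearMap.ker (polarBilin Q e)) (LinearMap.ker (polarBilin Q f))
    have h4 : finrank F ↥(LinearMap.ker (polarBilin Q e) ⊔ LinearMap.ker (polarBilin Q f)) ≤ Fintype.card ι :=
      (Submodule.finrank_le _).trans_eq (Module.finrank_pi F)
    rw [← hS] at this
    omega
  obtain ⟨x, hx, hx0, hxQ⟩ := WittDec.exists_singular_mem Q S h3
  obtain ⟨z, hz⟩ : ∃ z, polar Q x z ≠ 0 := by
    by_contra hcon
    push Not at hcon
    exact hx0 (hQ.1 x hcon)
  have hxe : polar Q e x = 0 := hx.1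
  have hxf : polar Q f x = 0 := hx.2
  set w := (polar Q x z)⁻¹ • z with hw
  have hxw : polar Q x w = 1 := by rw [hw, polar_smul_right, smul_eq_mul, inv_mul_cancel₀ hz]
  set y' := w - polar Q f w • e - polar Q e w • f with hy'
  have hfe : polar Q f e = 1 := by rw [polar_comm]; exact hef
  have k1 : polar Q e y' = 0 := by
    simp only [hy', polar_sub_right, polar_smul_right, self_polar, he, hef, smul_eq_mul]; ring
  have k2 : polar Q f y' = 0 := by
    simp only [hy', polar_sub_right, polar_smul_right, self_polar, hf, hfe, smul_eq_mul]; ring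
  have k3 : polar Q x y' = 1 := by
    simp only [hy', polar_sub_right, polar_smul_right, polar_comm _ x e, polar_comm _ x f, hxe, hxf, hxw, smul_eq_mul]
    ring
  refine ⟨x, y' - Q y' • x, hxQ, ?_, ?_, hxe, ?_, hxf, ?_⟩
  · rw [sub_eq_add_neg, ← neg_smul, QuadraticMap.map_add ⇑Q, QuadraticMap.map_smul, hxQ, polar_smul_right,
      polar_comm _ y' x, k3, smul_eq_mul, smul_eq_mul]
    ring
  · rw [polar_sub_right, polar_smul_right, self_polar, hxQ, k3, smul_eq_mul]; ring
  · rw [polar_sub_right, polar_smul_right, k1, hxe, smul_eq_mul]; ring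
  · rw [polar_sub_right, polar_smul_right, k2, hxf, smul_eq_mul]; ring

open Refl in
/-- For at most three scalars the stabiliser of a plus-type plane lies properly in a point stabiliser. -/
theorem plus_plane (hn : 5 ≤ Fintype.card ι) (hq : Fintype.card F ≤ 3) (W : Submodule F (ι → F))
    (hdim : finrank F W = 2) (hW : Cfsg.Geo.IsNondegenerateOn (polar ⇑Q) W)
    (hWp : Cfsg.Geo.IsPlusTypeOn ⇑Q W) :
    ∃ K : Subgroup (GL ι F), Cfsg.Geo.subspaceStabilizer W ⊓ Cfsg.Geo.omegaGL ⇑Q < K ∧
      K < Cfsg.Geo.omegaGL ⇑Q := by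
  classical
  have hsm : ∀ t : F, t ≠ 0 → t = 1 ∨ t = -1 := by
    intro t ht
    have hd : orderOf (Units.mk0 t ht) ∣ Fintype.card Fˣ := orderOf_dvd_card
    rw [Fintype.card_units] at hd
    have hsq : (Units.mk0 t ht) ^ 2 = 1 := by
      refine orderOf_dvd_iff_pow_eq_one.1 (hd.trans ?_)
      have := Fintype.one_lt_card (α := F)
      rcases (show Fintype.card F - 1 = 1 ∨ Fintype.card F - 1 = 2 by omega) with e | e <;> rw [e]
      exact one_dvd 2
    exact sq_eq_one_iff.1 (by simpa using congrArg Units.val hsq)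
  obtain ⟨U, hUW, hUs, hUd⟩ := hWp
  rw [hdim] at hUd
  haveI : Nontrivial U := (Module.finrank_pos_iff (R := F)).1 (by omega)
  obtain ⟨⟨e, heU⟩, he1⟩ := exists_ne (0 : U)
  have he0 : e ≠ 0 := fun h => he1 (Subtype.ext h)
  have he : Q e = 0 := hUs e heU
  obtain ⟨⟨z, hzW, hz⟩, -⟩ := hW e (hUW heU) he0
  rw [polar_comm] at hz
  obtain ⟨w, hwW, hew⟩ : ∃ w ∈ W, polar Q e w = 1 :=
    ⟨(polar Q e z)⁻¹ • z, W.smul_mem _ hzW, by rw [polar_smul_right, smul_eq_mul, inv_mul_cancel₀ hz]⟩
  set f := w - Q w • e with hfd
  have hfW : f ∈ W := sub_mem hwW (W.smul_mem _ (hUW heU))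
  have hef : polar Q e f = 1 := by
    rw [hfd, polar_sub_right, polar_smul_right, self_polar, he, hew, smul_eq_mul]; ring
  have hf : Q f = 0 := by
    rw [hfd, sub_eq_add_neg, ← neg_smul, QuadraticMap.map_add ⇑Q, QuadraticMap.map_smul, he, polar_smul_right,
      polar_comm _ w e, hew, smul_eq_mul, smul_eq_mul]
    ring
  obtain ⟨x, y, hx, hy, hxy, hex, hey, hfx, hfy⟩ := exists_pair_perp Q hQ hn he hf hef
  have qf := quad_four Q he hf hx hy hef hxy hex hey hfx hfy
  have pf := polar_four Q he hf hx hy hef hxy hex hey hfx hfy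
  have hWspan : ∀ v ∈ W, v = polar Q v f • e + polar Q v e • f := by
    intro v hv
    have hle : Submodule.span F {e, f} ≤ W := Submodule.span_le.2 (by
      rintro s (rfl | rfl)
      · exact hUW heU
      · exact hfW)
    have hli : LinearIndependent F ![e, f] := by
      rw [LinearIndependent.pair_iff]
      intro s t hst
      have h1 := congrArg (fun u => polar Q u f) hst
      have h2 := congrArg (fun u => polar Q u e) hst
      simp only [polar_add_left, polar_smul_left, self_polar, hf, he, hef, polar_comm _ f e, smul_eq_mul,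
        polar_zero_left] at h1 h2
      exact ⟨by linear_combination h1, by linear_combination h2⟩
    have heq : Submodule.span F {e, f} = W := by
      refine Submodule.eq_of_le_of_finrank_eq hle ?_
      rw [hdim, show ({e, f} : Set (ι → F)) = Set.range ![e, f] by simp [Matrix.range_cons, Set.pair_comm],
        finrank_span_eq_card hli, Fintype.card_fin]
    rw [← heq, Submodule.mem_span_pair] at hv
    obtain ⟨s, t, rfl⟩ := hv
    simp [polar_add_left, polar_smul_left, self_polar, hf, he, hef, polar_comm _ f e]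
  set a := e + f with had
  have ha : Q a = 1 := by rw [had, QuadraticMap.map_add ⇑Q, he, hf, hef]; ring
  set A : Submodule F (ι → F) := Submodule.span F {a} with hA
  refine ⟨Cfsg.Geo.subspaceStabilizer A ⊓ Cfsg.Geo.omegaGL ⇑Q, ?_, ?_⟩
  · refine lt_of_le_of_ne (fun g hg => ⟨?_, hg.2⟩) fun hEq => ?_
    · obtain ⟨hgW, hgO⟩ := hg
      have haW : a ∈ W := W.add_mem (hUW heU) hfW
      have hga : (g : Matrix ι ι F) *ᵥ a ∈ W := (hgW a).1 haW
      set s := polar Q ((g : Matrix ι ι F) *ᵥ a) f with hs
      set t := polar Q ((g : Matrix ι ι F) *ᵥ a) e with ht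
      have hga' := hWspan _ hga
      rw [← hs, ← ht] at hga'
      have hst : s * t = 1 := by
        have h := omega_isometry hgO a
        rw [ha, hga'] at h
        have h' := qf s t 0 0
        simp only [zero_smul, add_zero, mul_zero] at h'
        exact h'.symm.trans h
      have hts : t = s := by
        rcases hsm s (left_ne_zero_of_mul_eq_one hst) with r | r <;> rw [r] at hst ⊢
        · simpa using hst
        · linear_combination -hst
      rw [hts, ← smul_add] at hga'
      intro v
      show v ∈ A ↔ (g : Matrix ι ι F) *ᵥ v ∈ A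
      rw [hA, Submodule.mem_span_singleton, Submodule.mem_span_singleton]
      constructor
      · rintro ⟨c, rfl⟩
        exact ⟨c * s, by rw [Matrix.mulVec_smul, hga', smul_smul]⟩
      · rintro ⟨c, hc⟩
        refine ⟨c / s, mulVec_inj g ?_⟩
        rw [Matrix.mulVec_smul, hga', smul_smul, div_mul_cancel₀ _ (left_ne_zero_of_mul_eq_one hst), ← had, hc]
    · -- an element fixing `a` and moving the plane
      set u := x + y with hud
      set v := e - f + x + (2 : F) • y with hvd
      have hu' : u = (0 : F) • e + (0 : F) • f + (1 : F) • x + (1 : F) • y := by rw [hud]; module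
      have hv' : v = (1 : F) • e + (-1 : F) • f + (1 : F) • x + (2 : F) • y := by rw [hvd]; module
      have hu : Q u = 1 := by rw [hu', qf]; ring
      have hv : Q v = 1 := by rw [hv', qf]; ring
      set g := refl Q u (by rw [hu]; exact one_ne_zero) * refl Q v (by rw [hv]; exact one_ne_zero)
      have hgc : g ∈ commutator (O Q) := refl_pair_mem_commutator Q hQ (by rw [hu]; exact one_ne_zero) (hv.trans hu.symm)
      have hpv : ∀ b c : F, polar Q v (b • e + c • f) = c - b := by
        intro b c
        have := pf 1 (-1) 1 2 b c 0 0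
        simp only [zero_smul, add_zero] at this
        rw [hv', show b • e + c • f = b • e + c • f + (0 : F) • x + (0 : F) • y by module, pf]
        ring
      have hga : act Q g a = a := by
        have h1 : act Q (refl Q v (by rw [hv]; exact one_ne_zero)) a = a := by
          rw [act_refl, had, show e + f = (1 : F) • e + (1 : F) • f by module, hpv]; simp
        rw [act_mul, h1, act_refl, had, hu', show e + f = (1 : F) • e + (1 : F) • f + (0 : F) • x + (0 : F) • y by module, pf]
        simp
      have hgK : (g : GL ι F) ∈ Cfsg.Geo.subspaceStabilizer A ⊓ Cfsg.Geo.omegaGL ⇑Q := by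
        refine ⟨fun z => ?_, mem_omegaGL g hgc⟩
        show z ∈ A ↔ ((g : GL ι F) : Matrix ι ι F) *ᵥ z ∈ A
        rw [hA, Submodule.mem_span_singleton, Submodule.mem_span_singleton]
        constructor
        · rintro ⟨c, rfl⟩
          exact ⟨c, by rw [Matrix.mulVec_smul]; exact congrArg (c • ·) hga.symm⟩
        · rintro ⟨c, hc⟩
          refine ⟨c, mulVec_inj (g : GL ι F) ?_⟩
          rw [Matrix.mulVec_smul, ← hc]
          exact congrArg (c • ·) hga
      rw [← hEq] at hgK
      have hge : act Q g e ∈ W := (hgK.1 e).1 (hUW heU)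
      have hcalc : act Q g e = (2 : F) • e + (-1 : F) • f + (-2 : F) • x + (-1 : F) • y := by
        have h1 : act Q (refl Q v (by rw [hv]; exact one_ne_zero)) e = (2 : F) • e + (-1 : F) • f + (1 : F) • x + (2 : F) • y := by
          rw [act_refl, show polar Q v e = -1 by
            have := hpv 1 0; simpa using this, hv, hvd]
          simp only [inv_one, one_mul]
          module
        rw [act_mul, h1, act_refl, hu, hu', pf]
        simp only [inv_one, one_mul]
        module
      have h2 := hWspan _ hge
      have h3 := congrArg (fun z => polar Q z x) h2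
      simp only [polar_add_left, polar_smul_left, hex, hfx, smul_eq_mul, mul_zero, add_zero] at h3
      have h4 := pf 2 (-1) (-2) (-1) 0 0 1 0
      simp only [zero_smul, zero_add, add_zero, one_smul] at h4
      rw [← hcalc, h3] at h4
      exact one_ne_zero (α := F) (by linear_combination h4)
  · refine lt_of_le_of_ne inf_le_right fun hEq => ?_
    set u := x + y with hud
    set v := e + x + y with hvd
    have hu' : u = (0 : F) • e + (0 : F) • f + (1 : F) • x + (1 : F) • y := by rw [hud]; module
    have hv' : v = (1 : F) • e + (0 : F) • f + (1 : F) • x + (1 : F) • y := by rw [hvd]; module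
    have hu : Q u = 1 := by rw [hu', qf]; ring
    have hv : Q v = 1 := by rw [hv', qf]; ring
    set g := refl Q u (by rw [hu]; exact one_ne_zero) * refl Q v (by rw [hv]; exact one_ne_zero)
    have hgc : g ∈ commutator (O Q) := refl_pair_mem_commutator Q hQ (by rw [hu]; exact one_ne_zero) (hv.trans hu.symm)
    have hgK := mem_omegaGL g hgc
    rw [← hEq] at hgK
    have hga : act Q g a ∈ A := (hgK.1 a).1 (Submodule.mem_span_singleton_self a)
    have ha' : a = (1 : F) • e + (1 : F) • f + (0 : F) • x + (0 : F) • y := by rw [had]; module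
    have hcalc : act Q g a = (0 : F) • e + (1 : F) • f + (1 : F) • x + (1 : F) • y := by
      have h1 : act Q (refl Q v (by rw [hv]; exact one_ne_zero)) a = (0 : F) • e + (1 : F) • f + (-1 : F) • x + (-1 : F) • y := by
        rw [act_refl, hv, hv', ha', pf]
        simp only [inv_one, one_mul]
        module
      rw [act_mul, h1, act_refl, hu, hu', pf]
      simp only [inv_one, one_mul]
      module
    obtain ⟨c, hc⟩ := Submodule.mem_span_singleton.1 hga
    have h3 := congrArg (fun z => polar Q z y) hc
    have h4 := pf 0 1 1 1 0 0 0 1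
    simp only [zero_smul, zero_add, add_zero, one_smul] at h4
    rw [had] at h3
    simp only [polar_smul_left, polar_add_left, hey, hfy, smul_eq_mul, add_zero, mul_zero] at h3
    rw [← had] at *
    rw [hcalc] at h3
    simp only [zero_smul, zero_add, one_smul] at h3
    rw [h4] at h3
    exact one_ne_zero (α := F) (by linear_combination -h3)

end Cfsg.Agent.Classical.NotMax
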