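import Cfsg.Agent.Lib.Classical.NotMaxFrame
import Cfsg.Agent.Lib.Classical.NotMaxOrth
import Cfsg.Agent.Lib.Classical.OrthBasis

/-!
Orthogonal decompositions into three-dimensional pieces over three scalars.
-/

set_option autoImplicit false
set_option linter.style.haveILetI false
set_option linter.unusedSectionVars false

open Module Matrix QuadraticMap
open scoped commutatorElement

namespace Cfsg.Agent.Classical.NotMaxFrame

open NotMaxWreath

variable {F : Type*} [Field F] [Fintype F] {ι : Type} [Fintype ι] [DecidableEq ι]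

theorem quad_sum {κ : Type*} (s : Finset κ) (Q : QuadraticForm F (ι → F)) (a : κ → ι → F)
    (h : ∀ i ∈ s, ∀ j ∈ s, i ≠ j → polar Q (a i) (a j) = 0) : Q (∑ i ∈ s, a i) = ∑ i ∈ s, Q (a i) := by
  classical
  induction s using Finset.induction_on with
  | empty => simp
  | insert i s hi ih =>
    rw [Finset.sum_insert hi, Finset.sum_insert hi, QuadraticMap.map_add ⇑Q,
      ih fun a ha b hb => h a (Finset.mem_insert_of_mem ha) b (Finset.mem_insert_of_mem hb)]
    have : polar Q (a i) (∑ j ∈ s, a j) = 0 := by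
      show polarBilin Q (a i) _ = 0
      rw [map_sum]
      exact Finset.sum_eq_zero fun j hj =>
        h i (Finset.mem_insert_self i s) j (Finset.mem_insert_of_mem hj) fun e => hi (e ▸ hj)
    rw [this, add_zero]

theorem three_facts (hq : Fintype.card F = 3) : (3 : F) = 0 ∧ (2 : F) ≠ 0 ∧ ¬ IsSquare (2 : F) := by
  have h3 : (3 : F) = 0 := by
    have := FiniteField.cast_card_eq_zero F
    rw [hq] at this; exact_mod_cast this
  have h2 : (2 : F) ≠ 0 := fun h => one_ne_zero (α := F) (by linear_combination h3 - h)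
  refine ⟨h3, h2, ?_⟩
  rintro ⟨r, hr⟩
  have hr0 : r ≠ 0 := fun e => h2 (by rw [hr, e, mul_zero])
  have := FiniteField.pow_card_sub_one_eq_one r hr0
  rw [hq, show (3 : ℕ) - 1 = 2 from rfl, pow_two, ← hr] at this
  exact one_ne_zero (α := F) (by linear_combination this)

/-- An orthogonal basis of equal values. -/
theorem exists_equal_frame (hq : Fintype.card F = 3) (Q : QuadraticForm F (ι → F)) (W : Submodule F (ι → F))
    (hW : Cfsg.Geo.IsNondegenerateOn (polar ⇑Q) W) (hdim : finrank F W = 3) :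
    ∃ (c₀ : F) (v : Basis (Fin 3) F W), c₀ ≠ 0 ∧ (∀ l, Q (v l : ι → F) = c₀) ∧
      ∀ l l', l ≠ l' → polar Q (v l : ι → F) (v l') = 0 := by
  obtain ⟨h3, h2, hns⟩ := three_facts hq
  have hnd : OrthBasis.NondegOn (σ := RingHom.id F) (polarBilin Q) W := fun w hw h => by
    by_contra hne
    obtain ⟨-, x, hx, hx'⟩ := hW w hw hne
    exact hx' (h x hx)
  obtain ⟨b, hbW, hbo, hb1, hbl⟩ := OrthBasis.exists_diag (polarBilin Q) h2
    (LinearMap.BilinForm.isSymm_def.2 fun x y => polar_comm _ x y) hns 2 W hnd hdim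
  have hself : ∀ x, polarBilin Q x x = 2 * Q x := fun x => by
    show polar Q x x = _
    rw [polar_self, nsmul_eq_mul, Nat.cast_ofNat]
  have key : ∀ (a : Fin 3 → ι → F) (c₀ : F), c₀ ≠ 0 → (∀ l, a l ∈ W) → (∀ l, Q (a l) = c₀) →
      (∀ l l', l ≠ l' → polar Q (a l) (a l') = 0) →
      ∃ (c₀ : F) (v : Basis (Fin 3) F W), c₀ ≠ 0 ∧ (∀ l, Q (v l : ι → F) = c₀) ∧
        ∀ l l', l ≠ l' → polar Q (v l : ι → F) (v l') = 0 := by
    intro a c₀ hc haW hav hao
    have hli : LinearIndependent F fun l => (⟨a l, haW l⟩ : W) := by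
      rw [Fintype.linearIndependent_iff]
      intro g hg l
      have hg' := congrArg (fun z => polarBilin Q z (a l)) (congrArg Subtype.val hg)
      simp only [Submodule.coe_sum, Submodule.coe_smul, map_sum, map_smul, LinearMap.sum_apply,
        LinearMap.smul_apply, smul_eq_mul, Submodule.coe_zero, map_zero, LinearMap.zero_apply] at hg'
      rw [Finset.sum_eq_single l (fun l' _ hl' => by
        rw [show polarBilin Q (a l') (a l) = 0 from hao l' l hl', mul_zero]) (by simp), hself, hav] at hg'
      exact (mul_eq_zero.1 hg').resolve_right (mul_ne_zero h2 hc)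
    refine ⟨c₀, basisOfLinearIndependentOfCardEqFinrank hli (by rw [hdim, Fintype.card_fin]), hc, ?_, ?_⟩ <;>
      simp [coe_basisOfLinearIndependentOfCardEqFinrank, hav]
    exact hao
  have v0 : Q (b 0) = 2 := by
    have := hb1 0 (by decide)
    rw [hself] at this
    linear_combination 2 * this - Q (b 0) * h3
  have v1 : Q (b 1) = 2 := by
    have := hb1 1 (by decide)
    rw [hself] at this
    linear_combination 2 * this - Q (b 1) * h3
  rcases hbl with e | e <;> rw [hself] at e
  · refine key b 2 h2 hbW (fun l => ?_) hbo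
    fin_cases l
    · exact v0
    · exact v1
    · show Q (b (Fin.last 2)) = 2
      linear_combination 2 * e - Q (b (Fin.last 2)) * h3
  · have v2 : Q (b 2) = 1 := by
      show Q (b (Fin.last 2)) = 1
      linear_combination 2 * e - Q (b (Fin.last 2)) * h3 + h3
    have p01 : polar Q (b 0) (b 1) = 0 := hbo 0 1 (by decide)
    have p02 : polar Q (b 0) (b 2) = 0 := hbo 0 2 (by decide)
    have p12 : polar Q (b 1) (b 2) = 0 := hbo 1 2 (by decide)
    refine key ![b 0 + b 1, b 0 - b 1, b 2] 1 one_ne_zero (fun l => ?_) (fun l => ?_) (fun l l' hll => ?_)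
    · fin_cases l
      · exact add_mem (hbW 0) (hbW 1)
      · exact sub_mem (hbW 0) (hbW 1)
      · exact hbW 2
    · fin_cases l
      · show Q (b 0 + b 1) = 1
        rw [QuadraticMap.map_add ⇑Q, v0, v1, p01]; linear_combination h3
      · show Q (b 0 - b 1) = 1
        rw [sub_eq_add_neg, QuadraticMap.map_add ⇑Q, QuadraticMap.map_neg, v0, v1, polar_neg_right, p01]
        linear_combination h3
      · exact v2
    · have e00 : polar Q (b 0) (b 0) = 2 * Q (b 0) := hself _
      have e11 : polar Q (b 1) (b 1) = 2 * Q (b 1) := hself _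
      fin_cases l <;> fin_cases l' <;> first
        | exact absurd rfl hll
        | simp [polar_add_left, polar_add_right, polar_sub_left, polar_sub_right, polar_comm _ (b 1) (b 0),
            polar_comm _ (b 2) (b 0), polar_comm _ (b 2) (b 1), p01, p02, p12, e00, e11, v0, v1]

/-- The frame of all pieces. -/
theorem frame_blocks (hq : Fintype.card F = 3) (Q : QuadraticForm F (ι → F)) {t k : ℕ} (hk : k = 2 ∨ k = 3) (ht : 3 ≤ t)
    (D : Fin t → Submodule F (ι → F)) (hD : Cfsg.Geo.IsOrthogonalMDecomposition (⇑Q) k D)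
    (hfr : ∃ (c₀ : F) (v : Basis (Fin k) F (D ⟨0, by omega⟩)), c₀ ≠ 0 ∧ (∀ l, Q (v l : ι → F) = c₀) ∧
      ∀ l l', l ≠ l' → polar Q (v l : ι → F) (v l') = 0) :
    ∃ K : Subgroup (GL ι F), Cfsg.Geo.decompositionStabilizer D ⊓ Cfsg.Geo.omegaGL ⇑Q < K ∧
      K < Cfsg.Geo.omegaGL ⇑Q := by
  classical
  obtain ⟨hdec, hnd, horth⟩ := hD.decomp
  obtain ⟨c₀, v₀, hc₀, hv₀, ho₀⟩ := hfr
  choose e he using fun i => hD.isometric ⟨0, by omega⟩ i
  let v : ∀ i, Basis (Fin k) F (D i) := fun i => v₀.map (e i)
  have hv : ∀ i l, Q (v i l : ι → F) = c₀ := fun i l => by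
    show Q ((e i (v₀ l) : D i) : ι → F) = c₀
    rw [he, hv₀]
  have ho : ∀ i l l', l ≠ l' → polar Q (v i l : ι → F) (v i l') = 0 := fun i l l' h => by
    show polar Q ((e i (v₀ l) : D i) : ι → F) ((e i (v₀ l') : D i) : ι → F) = 0
    have := ho₀ l l' h
    simp only [polar, ← Submodule.coe_add, ← map_add, he] at this ⊢
    exact this
  obtain ⟨c, hc1, hc2, hc3⟩ := exists_coord hdec v
  obtain ⟨h3, h2, -⟩ := three_facts hq
  have hchi : ∀ a : F, chi (fun _ : Fin 1 => a) = a * a := fun a => by
    by_cases h : a = 0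
    · rw [h, mul_zero]; exact chi_zero
    · rw [chi_ne (fun e => h (congrFun e 0))]
      have := FiniteField.pow_card_sub_one_eq_one a h
      rw [hq, show (3 : ℕ) - 1 = 2 from rfl, pow_two] at this
      exact this.symm
  have hQ : ∀ u, Q u = c₀ * cnt (refineCoord c u) := by
    intro u
    have hu : u = ∑ p : Fin t × Fin k, c u p.1 p.2 • (v p.1 p.2 : ι → F) := by
      rw [Fintype.sum_prod_type]
      conv_lhs => rw [← c.symm_apply_apply u, ← Finset.univ_sum_single (c u), map_sum]
      simp only [hc1]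
    conv_lhs => rw [hu]
    rw [quad_sum, cnt_refine, Finset.mul_sum, Fintype.sum_prod_type]
    · refine Finset.sum_congr rfl fun i _ => ?_
      rw [Finset.mul_sum]
      refine Finset.sum_congr rfl fun l _ => ?_
      rw [QuadraticMap.map_smul, hv, hchi, smul_eq_mul]
      ring
    · rintro ⟨i, l⟩ - ⟨j, l'⟩ - hne
      rw [polar_smul_left, polar_smul_right]
      rcases eq_or_ne i j with rfl | hij
      · rw [ho i l l' fun e => hne (by rw [e])]; simp
      · rw [horth i j hij _ (v i l).2 _ (v j l').2]; simp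
  refine exists_between (by omega) ht D c hc2 hc3 (by rw [hq]; norm_num) ?_ _ ?_ ?_
  · intro N hN h1
    have hN3 : N ≤ 3 := by omega
    interval_cases N
    · simp at h1
    · rfl
    · exfalso
      rw [Nat.cast_ofNat] at h1
      exact one_ne_zero (α := F) (by linear_combination h1)
    · exfalso
      rw [Nat.cast_ofNat] at h1
      exact one_ne_zero (α := F) (by linear_combination h3 - h1)
  · intro A B hA hB
    let A' : Refl.O Q := ⟨A, fun x _ => by show Q _ = Q x; rw [hQ, hQ x]; exact congrArg (c₀ * ·) (hA x)⟩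
    let B' : Refl.O Q := ⟨B, fun x _ => by show Q _ = Q x; rw [hQ, hQ x]; exact congrArg (c₀ * ·) (hB x)⟩
    exact NotMax.mem_omegaGL ⁅A', B'⁆ (Subgroup.commutator_mem_commutator (Subgroup.mem_top _) (Subgroup.mem_top _))
  · intro g hg u
    have := NotMax.omega_isometry hg u
    rw [hQ, hQ u] at this
    exact mul_left_cancel₀ hc₀ this

/-- Three-dimensional pieces. -/
theorem three_blocks (hq : Fintype.card F = 3) (Q : QuadraticForm F (ι → F)) {t : ℕ} (ht : 3 ≤ t)
    (D : Fin t → Submodule F (ι → F)) (hD : Cfsg.Geo.IsOrthogonalMDecomposition (⇑Q) 3 D) :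
    ∃ K : Subgroup (GL ι F), Cfsg.Geo.decompositionStabilizer D ⊓ Cfsg.Geo.omegaGL ⇑Q < K ∧
      K < Cfsg.Geo.omegaGL ⇑Q :=
  frame_blocks hq Q (Or.inr rfl) ht D hD
    (exists_equal_frame hq Q _ (hD.decomp.nondegenerate _) (hD.decomp.decomp.finrank_eq _))

/-- An equal-valued frame of an anisotropic plane. -/
theorem exists_equal_frame_two (hq : Fintype.card F = 3) (Q : QuadraticForm F (ι → F)) (W : Submodule F (ι → F))
    (hW : Cfsg.Geo.IsNondegenerateOn (polar ⇑Q) W) (hdim : finrank F W = 2)
    (hm : ¬ Cfsg.Geo.IsPlusTypeOn (⇑Q) W) :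
    ∃ (c₀ : F) (v : Basis (Fin 2) F W), c₀ ≠ 0 ∧ (∀ l, Q (v l : ι → F) = c₀) ∧
      ∀ l l', l ≠ l' → polar Q (v l : ι → F) (v l') = 0 := by
  obtain ⟨h3, h2, hns⟩ := three_facts hq
  have hnd : OrthBasis.NondegOn (σ := RingHom.id F) (polarBilin Q) W := fun w hw h => by
    by_contra hne
    obtain ⟨-, x, hx, hx'⟩ := hW w hw hne
    exact hx' (h x hx)
  obtain ⟨b, hbW, hbo, hb1, hbl⟩ := OrthBasis.exists_diag (polarBilin Q) h2
    (LinearMap.BilinForm.isSymm_def.2 fun x y => polar_comm _ x y) hns 1 W hnd hdim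
  have hself : ∀ x, polarBilin Q x x = 2 * Q x := fun x => by
    show polar Q x x = _
    rw [polar_self, nsmul_eq_mul, Nat.cast_ofNat]
  have v0 : Q (b 0) = 2 := by
    have := hb1 0 (by decide)
    rw [hself] at this
    linear_combination 2 * this - Q (b 0) * h3
  have p01 : polar Q (b 0) (b 1) = 0 := hbo 0 1 (by decide)
  have v1 : Q (b 1) = 2 := by
    rcases hbl with e | e <;> rw [hself] at e
    · show Q (b (Fin.last 1)) = 2
      linear_combination 2 * e - Q (b (Fin.last 1)) * h3
    · exfalso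
      have v1 : Q (b 1) = 1 := by
        show Q (b (Fin.last 1)) = 1
        linear_combination 2 * e - Q (b (Fin.last 1)) * h3 + h3
      have hs : Q (b 0 + b 1) = 0 := by
        rw [QuadraticMap.map_add ⇑Q, v0, v1, p01]; linear_combination h3
      have hne : b 0 + b 1 ≠ 0 := fun e => by
        have := congrArg (fun z => polarBilin Q z (b 1)) e
        simp only [map_add, LinearMap.add_apply, map_zero, LinearMap.zero_apply, hself] at this
        rw [show polarBilin Q (b 0) (b 1) = 0 from p01, v1] at this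
        exact h2 (by linear_combination this)
      refine hm ⟨Submodule.span F {b 0 + b 1}, ?_, ?_, ?_⟩
      · rw [Submodule.span_le, Set.singleton_subset_iff]; exact add_mem (hbW 0) (hbW 1)
      · intro w hw
        obtain ⟨a, rfl⟩ := Submodule.mem_span_singleton.1 hw
        rw [QuadraticMap.map_smul, hs, smul_zero]
      · rw [finrank_span_singleton hne, hdim]
  have hv : ∀ l, Q (b l) = 2 := fun l => by fin_cases l; exacts [v0, v1]
  have hli : LinearIndependent F fun l => (⟨b l, hbW l⟩ : W) := by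
    rw [Fintype.linearIndependent_iff]
    intro g hg l
    have hg' := congrArg (fun z => polarBilin Q z (b l)) (congrArg Subtype.val hg)
    simp only [Submodule.coe_sum, Submodule.coe_smul, map_sum, map_smul, LinearMap.sum_apply,
      LinearMap.smul_apply, smul_eq_mul, Submodule.coe_zero, map_zero, LinearMap.zero_apply] at hg'
    rw [Finset.sum_eq_single l (fun l' _ hl' => by
      rw [show polarBilin Q (b l') (b l) = 0 from hbo l' l hl', mul_zero]) (by simp), hself, hv] at hg'
    exact (mul_eq_zero.1 hg').resolve_right (mul_ne_zero h2 h2)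
  refine ⟨2, basisOfLinearIndependentOfCardEqFinrank hli (by rw [hdim, Fintype.card_fin]), h2, ?_, ?_⟩ <;>
    simp [coe_basisOfLinearIndependentOfCardEqFinrank, hv]
  exact ⟨p01, (polar_comm _ _ _).trans p01⟩

end Cfsg.Agent.Classical.NotMaxFrame
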