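import Cfsg.Agent.Lib.Classical.NotMaxOrth
import Cfsg.Agent.Lib.Classical.PlusMaximal

/-!
Stabilisers in `Ω⁺` that fail to be maximal: the two families of maximal totally singular subspaces are
preserved by `Ω`.
-/

set_option autoImplicit false
set_option linter.style.haveILetI false
set_option linter.unusedSectionVars false

open Matrix QuadraticMap Module

namespace Cfsg.Agent.Classical.NotMax

variable {F : Type*} [Field F] [Fintype F] {ι : Type} [Fintype ι] [DecidableEq ι] {m : ℕ}
variable (Q : QuadraticForm F (ι → F)) (φ : (Fin m ⊕ Fin m → F) ≃ₗ[F] (ι → F))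
variable (hφ : ∀ v, Q (φ v) = Cfsg.quadFormPlus m F v)

open Refl PlusMax
open scoped commutatorElement

/-- An isometry read in standard coordinates. -/
noncomputable def stdMap (g : O Q) : (Fin m ⊕ Fin m → F) →ₗ[F] (Fin m ⊕ Fin m → F) :=
  φ.symm.toLinearMap.comp ((lin Q g).comp φ.toLinearMap)

theorem stdMap_apply (g : O Q) (v : Fin m ⊕ Fin m → F) : φ (stdMap Q φ g v) = act Q g (φ v) := by
  show φ (φ.symm (lin Q g (φ v))) = _
  rw [LinearEquiv.apply_symm_apply, lin_apply]

theorem stdMap_injective (g : O Q) : Function.Injective (stdMap Q φ g) := fun u v e => by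
  have h := congrArg φ e
  rw [stdMap_apply, stdMap_apply] at h
  exact φ.injective (mulVec_inj (g : GL ι F) h)

theorem stdMap_mul (g h : O Q) : stdMap Q φ (g * h) = (stdMap Q φ g).comp (stdMap Q φ h) := by
  refine LinearMap.ext fun v => φ.injective ?_
  rw [stdMap_apply, act_mul, LinearMap.comp_apply, stdMap_apply, stdMap_apply]

include hφ

theorem gen_map {U : Submodule F (Fin m ⊕ Fin m → F)} (hU : Gen U) (g : O Q) : Gen (U.map (stdMap Q φ g)) := by
  refine ⟨?_, ?_⟩
  · exact (LinearEquiv.finrank_eq (Submodule.equivMapOfInjective _ (stdMap_injective Q φ g) U).symm).trans hU.1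
  · rintro _ ⟨v, hv, rfl⟩
    rw [← hφ, stdMap_apply, Q_act, hφ]
    exact hU.2 v hv

theorem f_map (g : O Q) (U W : Submodule F (Fin m ⊕ Fin m → F)) :
    f (U.map (stdMap Q φ g)) (W.map (stdMap Q φ g)) = f U W := by
  rw [f, f, ← Submodule.map_inf _ (stdMap_injective Q φ g),
    LinearEquiv.finrank_eq (Submodule.equivMapOfInjective _ (stdMap_injective Q φ g) (U ⊓ W)).symm]

/-- Elements of `Ω` preserve both families of maximal totally singular subspaces. -/
theorem even_of_mem_commutator {g : O Q} (hg : g ∈ commutator (O Q)) {U : Submodule F (Fin m ⊕ Fin m → F)}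
    (hU : Gen U) : Even (f U (U.map (stdMap Q φ g))) := by
  let χ : O Q →* Multiplicative (ZMod 2) := MonoidHom.mk'
    (fun g => Multiplicative.ofAdd ((f U (U.map (stdMap Q φ g)) : ℕ) : ZMod 2)) fun a b => by
    rw [← ofAdd_add]
    congr 1
    have hp := parity hU (gen_map Q φ hφ hU a) (gen_map Q φ hφ hU (a * b))
    have e : f (U.map (stdMap Q φ a)) (U.map (stdMap Q φ (a * b))) = f U (U.map (stdMap Q φ b)) := by
      rw [stdMap_mul, Submodule.map_comp, f_map Q φ hφ]
    rw [e] at hp
    obtain ⟨k, hk⟩ := hp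
    have h0 : ((f U (U.map (stdMap Q φ a)) : ℕ) : ZMod 2) + (f U (U.map (stdMap Q φ b)) : ℕ) +
        (f U (U.map (stdMap Q φ (a * b))) : ℕ) = 0 := by
      rw [← Nat.cast_add, ← Nat.cast_add, hk, Nat.cast_add, CharTwo.add_self_eq_zero]
    rw [CharTwo.add_eq_zero] at h0
    exact h0.symm
  have h1 : χ g = 1 := Abelianization.commutator_subset_ker χ hg
  exact (ZMod.natCast_eq_zero_iff_even).1 h1

/-- Coordinate permutations commuting with the pairing. -/
def Mono : Subgroup (Equiv.Perm (Fin m ⊕ Fin m)) where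
  carrier := {π | ∀ x, π x.swap = (π x).swap}
  mul_mem' {a b} ha hb x := by simp [hb x, ha (b x)]
  one_mem' x := rfl
  inv_mem' {a} ha x := by
    apply a.injective
    rw [ha]
    simp

theorem plus_perm (π : Equiv.Perm (Fin m ⊕ Fin m)) (hπ : ∀ x, π x.swap = (π x).swap)
    (v : Fin m ⊕ Fin m → F) : Cfsg.quadFormPlus m F (fun x => v (π x)) = Cfsg.quadFormPlus m F v := by
  let σ : Fin m → Fin m := fun i => Sum.elim id id (π (.inl i))
  have key : ∀ i, v (π (.inl i)) * v (π (.inr i)) = v (.inl (σ i)) * v (.inr (σ i)) := by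
    intro i
    have h := hπ (.inl i)
    rw [Sum.swap_inl] at h
    rw [h]
    show _ = v (.inl (Sum.elim id id (π (.inl i)))) * v (.inr (Sum.elim id id (π (.inl i))))
    rcases π (.inl i) with j | j <;> simp [mul_comm]
  have hσ : Function.Injective σ := fun i j e => by
    have hi := hπ (.inl i)
    rw [Sum.swap_inl] at hi
    rcases h1 : π (.inl i) with a | a <;> rcases h2 : π (.inl j) with b | b <;> simp only [σ, h1, h2] at e <;>
      simp only [Sum.elim_inl, Sum.elim_inr, id] at e <;> subst e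
    · exact Sum.inl_injective (π.injective (h1.trans h2.symm))
    · rw [h1, Sum.swap_inl, ← h2] at hi; exact absurd (π.injective hi) Sum.inr_ne_inl
    · rw [h1, Sum.swap_inr, ← h2] at hi; exact absurd (π.injective hi) Sum.inr_ne_inl
    · exact Sum.inl_injective (π.injective (h1.trans h2.symm))
  show ∑ i, v (π (.inl i)) * v (π (.inr i)) = ∑ i, v (.inl i) * v (.inr i)
  simp_rw [key]
  exact (Equiv.ofBijective σ ⟨hσ, Finite.injective_iff_surjective.1 hσ⟩).sum_comp fun i => v (.inl i) * v (.inr i)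

/-- The action of coordinate permutations. -/
noncomputable def mono : Mono (m := m) →* O Q :=
  MonoidHom.mk' (fun π => ofLin Q ((φ.symm.trans (LinearEquiv.funCongrLeft F F (π.1)⁻¹)).trans φ)
      fun v => by
        rw [LinearEquiv.trans_apply, LinearEquiv.trans_apply, hφ]
        refine (plus_perm Q φ hφ _ ((Mono (m := m)).inv_mem π.2) _).trans ?_
        rw [← hφ]; exact congrArg Q (φ.apply_symm_apply v))
    fun a b => act_ext Q fun v => by
      rw [act_mul, act_ofLin, act_ofLin, act_ofLin]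
      simp only [LinearEquiv.trans_apply, LinearEquiv.symm_apply_apply]
      congr 1

theorem act_mono (π : Mono (m := m)) (v : Fin m ⊕ Fin m → F) :
    act Q (mono Q φ hφ π) (φ v) = φ (fun x => v ((π.1)⁻¹ x)) := by
  rw [mono]
  simp only [MonoidHom.mk'_apply, act_ofLin]
  simp [LinearEquiv.funCongrLeft_apply, LinearMap.funLeft]
  rfl

omit hφ in
/-- A permutation of the pairs. -/
def pairPerm (σ : Equiv.Perm (Fin m)) : Mono (m := m) :=
  ⟨Equiv.sumCongr σ σ, fun x => by cases x <;> rfl⟩

omit hφ in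
/-- Exchange the two members of the `i`-th pair. -/
def flip (i : Fin m) : Mono (m := m) :=
  ⟨Equiv.swap (.inl i) (.inr i), fun x => by
    rcases x with j | j <;> rcases eq_or_ne j i with rfl | h <;> simp [Equiv.swap_apply_of_ne_of_ne, *]⟩

theorem stdMap_mono_single (π : Mono (m := m)) (x : Fin m ⊕ Fin m) :
    stdMap Q φ (mono Q φ hφ π) (Pi.single x 1) = Pi.single (π.1 x) 1 := by
  apply φ.injective
  rw [stdMap_apply, act_mono]
  congr 1
  funext y
  simp [Pi.single_apply, Equiv.Perm.inv_def, Equiv.symm_apply_eq]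

/-- Some element of `Ω` moves the standard generator. -/
theorem exists_moving (hm : 2 ≤ m) : ∃ g ∈ commutator (O Q),
    (std (F := F) fun _ : Fin m => false).map (stdMap Q φ g) ≠ std fun _ => false := by
  let i : Fin m := ⟨0, by omega⟩
  let j : Fin m := ⟨1, by omega⟩
  have hij : j ≠ i := by simp [i, j, Fin.ext_iff]
  set a := mono Q φ hφ (flip i) with ha
  set b := mono Q φ hφ (pairPerm (Equiv.swap i j)) with hb
  refine ⟨⁅a, b⁆, Subgroup.commutator_mem_commutator (Subgroup.mem_top _) (Subgroup.mem_top _), fun e => ?_⟩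
  have hv : Pi.single (.inl i) 1 ∈ std (F := F) fun _ : Fin m => false := fun k => by simp
  have h := e ▸ Submodule.mem_map_of_mem (f := stdMap Q φ ⁅a, b⁆) hv
  have h2 : stdMap Q φ ⁅a, b⁆ (Pi.single (.inl i) 1) = Pi.single (.inr i) 1 := by
    rw [ha, hb, ← map_commutatorElement, stdMap_mono_single]
    simp [commutatorElement_def, flip, pairPerm, Equiv.Perm.inv_def, Equiv.swap_apply_of_ne_of_ne, hij, Ne.symm hij]
  rw [h2] at h
  have := h i
  simp at this

omit hφ in
theorem mem_stab_iff {W : Submodule F (ι → F)} {g : GL ι F} :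
    g ∈ Cfsg.Geo.subspaceStabilizer W ↔ W.map (Matrix.toLin' (g : Matrix ι ι F)) = W := by
  constructor
  · intro h
    ext v
    simp only [Submodule.mem_map, Matrix.toLin'_apply]
    constructor
    · rintro ⟨w, hw, rfl⟩; exact (h w).1 hw
    · intro hv
      refine ⟨((g⁻¹ : GL ι F) : Matrix ι ι F) *ᵥ v, (h _).2 ?_, ?_⟩
      · show (g : Matrix ι ι F) *ᵥ _ ∈ W
        rw [Matrix.mulVec_mulVec, ← Units.val_mul, mul_inv_cancel, Units.val_one, Matrix.one_mulVec]
        exact hv
      · rw [Matrix.mulVec_mulVec, ← Units.val_mul, mul_inv_cancel, Units.val_one, Matrix.one_mulVec]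
  · intro h v
    show v ∈ W ↔ (g : Matrix ι ι F) *ᵥ v ∈ W
    constructor
    · intro hv; rw [← h]; exact ⟨v, hv, Matrix.toLin'_apply _ _⟩
    · intro hv
      rw [← h] at hv
      obtain ⟨w, hw, e⟩ := hv
      rw [Matrix.toLin'_apply] at e
      exact mulVec_inj g e ▸ hw

theorem map_std_eq (g : O Q) {U U' : Submodule F (Fin m ⊕ Fin m → F)} :
    (U.map φ.toLinearMap).map (Matrix.toLin' ((g : GL ι F) : Matrix ι ι F)) = U'.map φ.toLinearMap ↔
      U.map (stdMap Q φ g) = U' := by
  rw [← Submodule.map_comp, ← (Submodule.map_injective_of_injective φ.injective).eq_iff (a := U.map (stdMap Q φ g)),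
    ← Submodule.map_comp]
  refine Iff.of_eq ?_
  congr 2
  exact LinearMap.ext fun v => by
    simp only [LinearMap.comp_apply, LinearEquiv.coe_coe, stdMap_apply, Matrix.toLin'_apply]
    rfl

/-- The common frame of both non-maximality arguments. -/
theorem exists_between (hm : 3 ≤ m) (H : Subgroup (GL ι F))
    (hsub : ∀ g : O Q, g ∈ commutator (O Q) → (g : GL ι F) ∈ H →
      (std (F := F) fun _ : Fin m => false).map (stdMap Q φ g) = std fun _ => false)
    (hne : ∃ g ∈ commutator (O Q), (g : GL ι F) ∉ H ∧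
      (std (F := F) fun _ : Fin m => false).map (stdMap Q φ g) = std fun _ => false) :
    ∃ K : Subgroup (GL ι F), H ⊓ Cfsg.Geo.omegaGL ⇑Q < K ∧ K < Cfsg.Geo.omegaGL ⇑Q := by
  set M := (std (F := F) fun _ : Fin m => false).map φ.toLinearMap with hM
  refine ⟨Cfsg.Geo.subspaceStabilizer M ⊓ Cfsg.Geo.omegaGL ⇑Q, ?_, ?_⟩
  · refine lt_of_le_of_ne (fun g hg => ⟨?_, hg.2⟩) fun e => ?_
    · obtain ⟨hgH, k, hk, rfl⟩ := hg
      exact mem_stab_iff.2 ((map_std_eq Q φ hφ k).2 (hsub k hk hgH))
    · obtain ⟨g, hg, hgH, hgM⟩ := hne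
      exact hgH (e.ge ⟨mem_stab_iff.2 ((map_std_eq Q φ hφ g).2 hgM), mem_omegaGL g hg⟩).1
  · refine lt_of_le_of_ne inf_le_right fun e => ?_
    obtain ⟨g, hg, hgM⟩ := exists_moving Q φ hφ (by omega)
    exact hgM ((map_std_eq Q φ hφ g).1 (mem_stab_iff.1 (e.ge (mem_omegaGL g hg)).1))

/-- The subspace spanned by all but the last singular coordinate vector. -/
theorem submax (hm : 3 ≤ m) (W : Submodule F (ι → F)) (hW : finrank F W + 1 = m)
    (hle : W ≤ (std (F := F) fun _ : Fin m => false).map φ.toLinearMap)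
    (hlast : ∃ i : Fin m, ∀ v ∈ W, φ.symm v (.inl i) = 0) :
    ∃ K : Subgroup (GL ι F), Cfsg.Geo.subspaceStabilizer W ⊓ Cfsg.Geo.omegaGL ⇑Q < K ∧
      K < Cfsg.Geo.omegaGL ⇑Q := by
  obtain ⟨l, hl⟩ := hlast
  set L := std (F := F) fun _ : Fin m => false with hL
  set W0 := W.map φ.symm.toLinearMap with hW0
  have hW0L : W0 ≤ L := by
    rintro _ ⟨v, hv, rfl⟩
    obtain ⟨u, hu, rfl⟩ := hle hv
    simpa using hu
  have hW0r : finrank F W0 + 1 = m := by rw [hW0, LinearEquiv.finrank_map_eq]; exact hW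
  have hW0W : W0.map φ.toLinearMap = W := by
    rw [hW0, ← Submodule.map_comp]; simp
  refine exists_between Q φ hφ hm _ (fun g hg hgW => ?_) ?_
  · have h0 : W0.map (stdMap Q φ g) = W0 := by
      refine (map_std_eq Q φ hφ g).1 ?_
      rw [hW0W]; exact mem_stab_iff.1 hgW
    have hgen := gen_map Q φ hφ (gen_std (F := F) fun _ : Fin m => false) g
    have hle2 : W0 ≤ L ⊓ L.map (stdMap Q φ g) := le_inf hW0L (h0 ▸ Submodule.map_mono hW0L)
    have h1 := Submodule.finrank_mono hle2
    have h2 : finrank F ↥(L ⊓ L.map (stdMap Q φ g)) ≤ m := f_le (gen_std _)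
    obtain ⟨k, hk⟩ := even_of_mem_commutator Q φ hφ hg (gen_std (F := F) fun _ : Fin m => false)
    have h1' := Nat.add_le_add_right h1 1
    rw [hW0r] at h1'
    have hf : f L (L.map (stdMap Q φ g)) ≤ 1 := Nat.sub_le_iff_le_add'.2 h1'
    have hf0 : f L (L.map (stdMap Q φ g)) = 0 := by rw [hL]; rw [hL] at hf; omega
    have h3 : finrank F ↥(L ⊓ L.map (stdMap Q φ g)) = m := le_antisymm h2 (Nat.sub_eq_zero_iff_le.1 hf0)
    have e1 : L ⊓ L.map (stdMap Q φ g) = L :=
      Submodule.eq_of_le_of_finrank_eq inf_le_left (by rw [h3, hL, (gen_std (F := F) _).1])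
    exact (Submodule.eq_of_le_of_finrank_eq (inf_eq_left.1 e1) (by rw [hgen.1, hL, (gen_std (F := F) _).1])).symm
  · -- a three-cycle of pairs moving the omitted index
    obtain ⟨a, b, hal, hbl, hab⟩ : ∃ a b : Fin m, a ≠ l ∧ b ≠ l ∧ a ≠ b := by
      obtain ⟨a, b, c, hab, hac, hbc⟩ : ∃ a b c : Fin m, a ≠ b ∧ a ≠ c ∧ b ≠ c :=
        ⟨⟨0, by omega⟩, ⟨1, by omega⟩, ⟨2, by omega⟩, by simp [Fin.ext_iff], by simp [Fin.ext_iff], by simp [Fin.ext_iff]⟩
      by_cases h : a = l
      · exact ⟨b, c, h ▸ hab.symm, h ▸ hac.symm, hbc⟩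
      by_cases h' : b = l
      · exact ⟨a, c, h, h' ▸ hbc.symm, hac⟩
      exact ⟨a, b, h, h', hab⟩
    set s := mono Q φ hφ (pairPerm (Equiv.swap a b)) with hs
    set t := mono Q φ hφ (pairPerm (Equiv.swap b l)) with ht
    set d : Equiv.Perm (Fin m) := ⁅Equiv.swap a b, Equiv.swap b l⁆ with hd
    have hact : ∀ v, stdMap Q φ ⁅s, t⁆ v = fun x => v (Equiv.sumCongr d⁻¹ d⁻¹ x) := fun v => by
      apply φ.injective
      rw [stdMap_apply, hs, ht, ← map_commutatorElement, act_mono]
      congr 1
      funext x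
      rw [hd]
      simp only [commutatorElement_def, Subgroup.coe_mul, Subgroup.coe_inv, _root_.mul_inv_rev, inv_inv, pairPerm]
      rcases x with k | k <;> simp [Equiv.Perm.inv_def]
    have hL' : L.map (stdMap Q φ ⁅s, t⁆) = L := by
      refine Submodule.eq_of_le_of_finrank_eq ?_ ?_
      · rintro _ ⟨v, hv, rfl⟩ k
        rw [hact]
        exact hv _
      · rw [(gen_map Q φ hφ (gen_std (F := F) fun _ : Fin m => false) _).1, hL, (gen_std (F := F) _).1]
    refine ⟨⁅s, t⁆, Subgroup.commutator_mem_commutator (Subgroup.mem_top _) (Subgroup.mem_top _), fun hH => ?_, hL'⟩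
    have h0 : W0.map (stdMap Q φ ⁅s, t⁆) = W0 := by
      refine (map_std_eq Q φ hφ _).1 ?_
      rw [hW0W]; exact mem_stab_iff.1 hH
    -- W0 consists of all vectors of L with vanishing l-th coordinate
    have hdl : d⁻¹ l ≠ l := by
      rw [hd, commutatorElement_def]
      simp [Equiv.Perm.inv_def, Equiv.swap_apply_of_ne_of_ne, hal.symm, hbl.symm, hal, hbl, hab, hab.symm]
    have hall : ∀ v ∈ L, v (.inl l) = 0 → v ∈ W0 := by
      intro v hv hv0
      have hlt : W0 < L := lt_of_le_of_ne hW0L fun e => by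
        rw [e, hL, (gen_std (F := F) _).1] at hW0r; omega
      let p : L →ₗ[F] F := (LinearMap.proj (Sum.inl l)).comp L.subtype
      have hker : (LinearMap.ker p).map L.subtype = W0 := by
        refine (Submodule.eq_of_le_of_finrank_le ?_ ?_).symm
        · intro w hw
          refine ⟨⟨w, hW0L hw⟩, ?_, rfl⟩
          show w (.inl l) = 0
          obtain ⟨u, hu, rfl⟩ := hw
          exact hl u hu
        · rw [Submodule.finrank_map_subtype_eq]
          have hr := LinearMap.finrank_range_add_finrank_ker p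
          have h1 : (1 : ℕ) ≤ finrank F (LinearMap.range p) := by
            rw [LinearMap.range_eq_top.2 fun c => ?_, finrank_top, finrank_self]
            exact ⟨⟨Pi.single (.inl l) c, fun k => by simp⟩, by simp [p]⟩
          have hLm : finrank F L = m := (gen_std (F := F) _).1
          have e1 := hr.trans hLm
          exact Nat.le_of_add_le_add_right (b := 1) (le_trans (show _ ≤ m by omega) hW0r.ge)
      rw [← hker]
      exact ⟨⟨v, hv⟩, hv0, rfl⟩
    set v : Fin m ⊕ Fin m → F := Pi.single (.inl (d⁻¹ l)) 1 with hv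
    have hvW : v ∈ W0 := hall v (fun k => by simp [hv]) (by rw [hv]; exact Pi.single_eq_of_ne (fun e => hdl (Sum.inl_injective e).symm) 1)
    have h5 : stdMap Q φ ⁅s, t⁆ v ∈ W0 := h0 ▸ Submodule.mem_map_of_mem hvW
    obtain ⟨u, hu, e⟩ := h5
    have h6 := hl u hu
    rw [show φ.symm u = _ from e, hact] at h6
    simp [hv] at h6

omit hφ in
/-- An elementary transformation of two pairs. -/
def shearLin (i j : Fin m) (t : F) : (Fin m ⊕ Fin m → F) →ₗ[F] (Fin m ⊕ Fin m → F) where
  toFun v := v + Pi.single (.inl i) (t * v (.inr j)) - Pi.single (.inl j) (t * v (.inr i))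
  map_add' u v := funext fun x => by
    simp only [Pi.add_apply, Pi.sub_apply, Pi.single_apply]; split_ifs <;> ring
  map_smul' c v := funext fun x => by
    simp only [Pi.add_apply, Pi.sub_apply, Pi.smul_apply, Pi.single_apply, smul_eq_mul, RingHom.id_apply]
    split_ifs <;> ring

omit hφ in
theorem shearLin_cancel (i j : Fin m) (t : F) (v : Fin m ⊕ Fin m → F) :
    shearLin i j t (shearLin i j (-t) v) = v := by
  funext x
  simp [shearLin, Pi.single_apply]
  split_ifs <;> ring

omit hφ in
/-- The same as an automorphism. -/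
def shearEquiv (i j : Fin m) (t : F) : (Fin m ⊕ Fin m → F) ≃ₗ[F] (Fin m ⊕ Fin m → F) :=
  LinearEquiv.ofLinearMap (shearLin i j t) (shearLin i j (-t)) (LinearMap.ext fun v => shearLin_cancel i j t v)
    (LinearMap.ext fun v => by
      have := shearLin_cancel i j (-t) v
      rwa [neg_neg] at this)

theorem shear_quad (i j : Fin m) (hij : i ≠ j) (t : F) (v : Fin m ⊕ Fin m → F) :
    Cfsg.quadFormPlus m F (shearLin i j t v) = Cfsg.quadFormPlus m F v := by
  show ∑ k, _ = ∑ k, _
  rw [← sub_eq_zero, ← Finset.sum_sub_distrib, Fintype.sum_eq_add i j hij (fun k hk => by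
    simp [shearLin, Pi.single_apply, hk.1, hk.2])]
  simp [shearLin, Pi.single_apply, hij, Ne.symm hij]
  ring

/-- The elementary transformation as an isometry. -/
noncomputable def shear (i j : Fin m) (hij : i ≠ j) (t : F) : O Q :=
  ofLin Q ((φ.symm.trans (shearEquiv i j t)).trans φ) fun w => by
    rw [LinearEquiv.trans_apply, LinearEquiv.trans_apply, hφ]
    refine (shear_quad Q φ hφ i j hij t _).trans ?_
    rw [← hφ]; exact congrArg Q (φ.apply_symm_apply w)

theorem act_shear (i j : Fin m) (hij : i ≠ j) (t : F) (v : Fin m ⊕ Fin m → F) :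
    act Q (shear Q φ hφ i j hij t) (φ v) = φ (shearLin i j t v) := by
  rw [shear, act_ofLin]
  simp only [LinearEquiv.trans_apply, LinearEquiv.symm_apply_apply]
  rfl

theorem shear_inv (i j : Fin m) (hij : i ≠ j) (t : F) :
    (shear Q φ hφ i j hij t)⁻¹ = shear Q φ hφ i j hij (-t) := by
  refine inv_eq_of_mul_eq_one_right (act_ext Q fun w => ?_)
  obtain ⟨v, rfl⟩ := φ.surjective w
  rw [act_mul, act_one, act_shear, act_shear, shearLin_cancel]

/-- Two complementary generators of odd dimension. -/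
theorem pairStab (hm : 3 ≤ m) (hodd : Odd m) (D : Fin 2 → Submodule F (ι → F))
    (h0 : D 0 = (std (F := F) fun _ : Fin m => false).map φ.toLinearMap)
    (h1 : D 1 = (std (F := F) fun _ : Fin m => true).map φ.toLinearMap) :
    ∃ K : Subgroup (GL ι F), Cfsg.Geo.decompositionStabilizer D ⊓ Cfsg.Geo.omegaGL ⇑Q < K ∧
      K < Cfsg.Geo.omegaGL ⇑Q := by
  have key : ∀ g : O Q, g ∈ commutator (O Q) → ∀ σ : Equiv.Perm (Fin 2),
      (∀ i, (D i).map (Matrix.toLin' ((g : GL ι F) : Matrix ι ι F)) = D (σ i)) → σ 0 = 0 := by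
    intro g hg σ hσ
    by_contra hne
    have hs : σ 0 = 1 := Fin.eq_one_of_ne_zero _ hne
    have e := hσ 0
    rw [hs, h0, h1, map_std_eq Q φ hφ] at e
    obtain ⟨k, hk⟩ := even_of_mem_commutator Q φ hφ hg (gen_std (F := F) fun _ : Fin m => false)
    rw [e, f] at hk
    have hz : std (F := F) (fun _ : Fin m => false) ⊓ std (fun _ => true) = ⊥ := by
      rw [Submodule.eq_bot_iff]
      rintro v ⟨ha, hb⟩
      funext x
      rcases x with i | i
      · simpa using hb i
      · simpa using ha i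
    rw [hz, finrank_bot] at hk
    obtain ⟨l, hl⟩ := hodd
    omega
  refine exists_between Q φ hφ hm _ (fun g hg hgD => ?_) ?_
  · obtain ⟨σ, hσ⟩ := hgD
    have e := hσ 0
    rw [key g hg σ hσ, h0, map_std_eq Q φ hφ] at e
    exact e
  · let i : Fin m := ⟨0, by omega⟩
    let j : Fin m := ⟨1, by omega⟩
    let l : Fin m := ⟨2, by omega⟩
    have hij : i ≠ j := by simp [i, j, Fin.ext_iff]
    have hil : i ≠ l := by simp [i, l, Fin.ext_iff]
    have hjl : j ≠ l := by simp [j, l, Fin.ext_iff]
    set a := shear Q φ hφ i j hij 1 with ha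
    set b := mono Q φ hφ (pairPerm (Equiv.swap j l)) with hb
    have hbinv : b⁻¹ = b := by
      rw [hb, ← map_inv]
      congr 1
    have hb' : ∀ v, stdMap Q φ b v = fun x => v (Equiv.sumCongr (Equiv.swap j l) (Equiv.swap j l) x) := fun v => by
      apply φ.injective
      rw [stdMap_apply, hb, act_mono]
      congr 1
    have hLmap : ∀ g : O Q, (∀ v ∈ std (F := F) (fun _ : Fin m => false), stdMap Q φ g v ∈ std (F := F) fun _ => false) →
        (std (F := F) fun _ : Fin m => false).map (stdMap Q φ g) = std fun _ => false := fun g hg => by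
      refine Submodule.eq_of_le_of_finrank_eq (by rintro _ ⟨v, hv, rfl⟩; exact hg v hv) ?_
      rw [(gen_map Q φ hφ (gen_std (F := F) fun _ : Fin m => false) _).1, (gen_std (F := F) _).1]
    have ha' : ∀ (t : F) (v), stdMap Q φ (shear Q φ hφ i j hij t) v = shearLin i j t v := fun t v => by
      apply φ.injective
      rw [stdMap_apply, act_shear]
    refine ⟨⁅a, b⁆, Subgroup.commutator_mem_commutator (Subgroup.mem_top _) (Subgroup.mem_top _), fun hH => ?_, ?_⟩
    · obtain ⟨σ, hσ⟩ := hH
      have hs0 := key _ (Subgroup.commutator_mem_commutator (Subgroup.mem_top _) (Subgroup.mem_top _)) σ hσ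
      have hs : σ 1 = 1 := Fin.eq_one_of_ne_zero _ fun e => by
        have := σ.injective (e.trans hs0.symm); simp at this
      have e := hσ 1
      rw [hs, h1, map_std_eq Q φ hφ] at e
      have hv : Pi.single (.inr j) 1 ∈ std (F := F) fun _ : Fin m => true := fun k => by simp
      have h := (e ▸ Submodule.mem_map_of_mem (f := stdMap Q φ ⁅a, b⁆) hv : _ ∈ std (F := F) fun _ : Fin m => true) i
      rw [commutatorElement_def, ha, shear_inv, hbinv, stdMap_mul, stdMap_mul, stdMap_mul] at h
      simp [LinearMap.comp_apply, hb', ha', shearLin, hij, hil, hjl, Ne.symm hij, Ne.symm hil, Ne.symm hjl,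
        Equiv.swap_apply_of_ne_of_ne, Pi.single_apply] at h
    · refine hLmap _ fun v hv => ?_
      have h1 : ∀ t : F, ∀ v ∈ std (F := F) (fun _ : Fin m => false),
          stdMap Q φ (shear Q φ hφ i j hij t) v ∈ std (F := F) fun _ => false := by
        intro t v hv k
        have hk := hv k
        simp only [Bool.false_eq_true, if_false] at hk ⊢
        rw [ha']
        simp [shearLin, hk]
      have h2 : ∀ v ∈ std (F := F) (fun _ : Fin m => false), stdMap Q φ b v ∈ std (F := F) fun _ => false := by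
        intro v hv k
        rw [hb']
        exact hv _
      rw [commutatorElement_def, ha, shear_inv, hbinv, stdMap_mul, stdMap_mul, stdMap_mul]
      exact h1 _ _ (h2 _ (h1 _ _ (h2 _ hv)))

end Cfsg.Agent.Classical.NotMax
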