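import Cfsg.Agent.Lib.Classical.NotMaxFrame
import Cfsg.Prelude.Def_ClassicalGeometry

/-!
Symplectic groups over two scalars: a decomposition into hyperbolic planes fixes a quadratic form.
-/

set_option autoImplicit false
set_option linter.style.haveILetI false
set_option linter.unusedSectionVars false

open Module Matrix
open scoped commutatorElement

namespace Cfsg.Agent.Classical.NotMaxSymp

open NotMaxWreath NotMaxFrame

variable {F : Type*} [Field F] [Fintype F] {ι : Type} [Fintype ι] [DecidableEq ι]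

theorem two_cases (hq : Fintype.card F = 2) (a : F) : a = 0 ∨ a = 1 := by
  by_cases h : a = 0
  · exact Or.inl h
  · right
    have := FiniteField.pow_card_sub_one_eq_one a h
    simpa [hq] using this

theorem two_zero (hq : Fintype.card F = 2) : (2 : F) = 0 := by
  have h := FiniteField.cast_card_eq_zero F
  rw [hq] at h; exact_mod_cast h

/-- Orthogonal hyperbolic planes over two scalars. -/
theorem wreath_two (hq : Fintype.card F = 2) (B : LinearMap.BilinForm F (ι → F)) (halt : ∀ v, B v v = 0)
    {t : ℕ} (ht : 5 ≤ t) (D : Fin t → Submodule F (ι → F))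
    (hD : Cfsg.Geo.IsNondegenerateMDecomposition (fun u v => B u v) 2 D) (G : Subgroup (GL ι F))
    (hG : ∀ g : GL ι F, g ∈ G ↔ ∀ u v, B ((g : Matrix ι ι F) *ᵥ u) ((g : Matrix ι ι F) *ᵥ v) = B u v) :
    ∃ K : Subgroup (GL ι F), Cfsg.Geo.decompositionStabilizer D ⊓ G < K ∧ K < G := by
  classical
  obtain ⟨hdec, hnd, horth⟩ := hD
  have h2 := two_zero hq
  let v : ∀ i, Basis (Fin 2) F (D i) := fun i => Module.finBasisOfFinrankEq F (D i) (hdec.finrank_eq i)
  obtain ⟨c, hc1, hc2, hc3⟩ := exists_coord hdec v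
  have hneg : ∀ x y, B y x = B x y := fun x y => by
    have h := halt (x + y)
    simp only [map_add, LinearMap.add_apply, halt] at h
    linear_combination h - (B x y) * h2
  have hone : ∀ i, B (v i 0 : ι → F) (v i 1) = 1 := by
    intro i
    rcases two_cases hq (B (v i 0 : ι → F) (v i 1)) with e | e
    · exfalso
      have hne : (v i 0 : ι → F) ≠ 0 := fun h => (v i).ne_zero 0 (Subtype.ext h)
      obtain ⟨-, x, hx, hxne⟩ := hnd i _ (v i 0).2 hne
      refine hxne ?_
      show B (v i 0 : ι → F) x = 0
      have hx' : x = ∑ l, (v i).repr ⟨x, hx⟩ l • (v i l : ι → F) := by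
        have := congrArg Subtype.val ((v i).sum_repr ⟨x, hx⟩)
        rw [Submodule.coe_sum] at this; exact this.symm
      rw [hx', Fin.sum_univ_two, map_add, map_smul, map_smul, halt, e]
      simp
    · exact e
  have hchi : ∀ w : Fin 2 → F, chi w = w 0 + w 1 + w 0 * w 1 := fun w => by
    by_cases h : w = 0
    · subst h; simp [chi_zero]
    · rw [chi_ne h]
      rcases two_cases hq (w 0) with p | p <;> rcases two_cases hq (w 1) with r | r <;> rw [p, r]
      · exact absurd (funext fun k => by fin_cases k <;> simp [p, r]) h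
      · ring
      · ring
      · linear_combination (-1 : F) * h2
  have hB : ∀ x y, B x y = cnt (c (x + y)) - cnt (c x) - cnt (c y) := by
    intro x y
    have hx : x = ∑ i, (c x i 0 • (v i 0 : ι → F) + c x i 1 • (v i 1 : ι → F)) := by
      conv_lhs => rw [← c.symm_apply_apply x, ← Finset.univ_sum_single (c x), map_sum]
      simp only [hc1, Fin.sum_univ_two]
    have hy : y = ∑ i, (c y i 0 • (v i 0 : ι → F) + c y i 1 • (v i 1 : ι → F)) := by
      conv_lhs => rw [← c.symm_apply_apply y, ← Finset.univ_sum_single (c y), map_sum]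
      simp only [hc1, Fin.sum_univ_two]
    conv_lhs => rw [hx, hy]
    rw [map_sum B, LinearMap.sum_apply, cnt, cnt, cnt, ← Finset.sum_sub_distrib, ← Finset.sum_sub_distrib]
    refine Finset.sum_congr rfl fun i _ => ?_
    rw [map_sum, Finset.sum_eq_single i]
    · simp only [map_add, map_smul, LinearMap.add_apply, LinearMap.smul_apply, smul_eq_mul, halt, hone,
        hneg (v i 0 : ι → F) (v i 1), hchi, Pi.add_apply]
      linear_combination (0 : F) * h2
    · intro j _ hj
      have ho : ∀ l l', B (v i l : ι → F) (v j l') = 0 := fun l l' => horth i j (Ne.symm hj) _ (v i l).2 _ (v j l').2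
      simp [ho]
    · simp
  let f : (ι → F) → F := fun u => cnt (c u)
  have hle : Cfsg.isometryGroup F f ≤ G := fun g hg => (hG g).2 fun x y => by
    have h : ∀ u, cnt (c ((g : Matrix ι ι F) *ᵥ u)) = cnt (c u) := fun u => hg u u
    rw [hB, hB, ← Matrix.mulVec_add, h, h, h]
  refine ⟨Cfsg.isometryGroup F f, lt_of_le_of_ne (fun g hg => ?_) fun e => ?_, lt_of_le_of_ne hle fun e => ?_⟩
  · obtain ⟨σ, hσ⟩ := (Subgroup.mem_inf.1 hg).1
    intro u _
    refine cnt_of_mapsTo c g σ (fun i y => ⟨_, hc3 (σ i) _ ?_⟩) u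
    rw [← hσ i]
    exact ⟨_, hc2 i y, Matrix.toLin'_apply _ _⟩
  · obtain ⟨A, B', hA, hB', hnot⟩ := exists_not_mapsTo c (by norm_num) ht (Or.inr ⟨rfl, hq⟩)
    have hmem : ⁅A, B'⁆ ∈ Cfsg.isometryGroup F f := by
      have hA' : A ∈ Cfsg.isometryGroup F f := fun u _ => hA u
      have hB'' : B' ∈ Cfsg.isometryGroup F f := fun u _ => hB' u
      rw [commutatorElement_def]
      exact mul_mem (mul_mem (mul_mem hA' hB'') (inv_mem hA')) (inv_mem hB'')
    rw [← e] at hmem
    obtain ⟨σ, hσ⟩ := (Subgroup.mem_inf.1 hmem).1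
    refine hnot ⟨σ, fun i y => ⟨_, hc3 (σ i) _ ?_⟩⟩
    rw [← hσ i]
    exact ⟨_, hc2 i y, Matrix.toLin'_apply _ _⟩
  · let i0 : Fin t := ⟨0, by omega⟩
    let i1 : Fin t := ⟨1, by omega⟩
    have h01 : i0 ≠ i1 := by simp [i0, i1, Fin.ext_iff]
    let e0 : Fin 2 → F := Pi.single 0 1
    let e1 : Fin 2 → F := Pi.single 1 1
    set z := c.symm (Pi.single i0 e0 + Pi.single i1 e0) with hz
    let T : (ι → F) →ₗ[F] (ι → F) :=
      { toFun := fun u => u + B u z • z
        map_add' := fun x y => by simp only [map_add, LinearMap.add_apply, add_smul]; abel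
        map_smul' := fun r x => by simp only [map_smul, LinearMap.smul_apply, RingHom.id_apply, smul_eq_mul, smul_add, smul_smul] }
    have hTT : ∀ u, T (T u) = u := fun u => by
      show u + B u z • z + B (u + B u z • z) z • z = u
      rw [map_add, LinearMap.add_apply, map_smul, LinearMap.smul_apply, halt, smul_zero, add_zero, add_assoc,
        ← add_smul, ← two_mul, h2, zero_mul, zero_smul, add_zero]
    have hM : LinearMap.toMatrix' T * LinearMap.toMatrix' T = 1 := by
      rw [← LinearMap.toMatrix'_comp, show T.comp T = LinearMap.id from LinearMap.ext hTT, LinearMap.toMatrix'_id]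
    let g : GL ι F := ⟨LinearMap.toMatrix' T, LinearMap.toMatrix' T, hM, hM⟩
    have hgv : ∀ u, (g : Matrix ι ι F) *ᵥ u = u + B u z • z := fun u => LinearMap.toMatrix'_mulVec T u
    have hg : g ∈ G := (hG g).2 fun x y => by
      rw [hgv, hgv]
      simp only [map_add, map_smul, LinearMap.add_apply, LinearMap.smul_apply, halt, smul_eq_mul, hneg y z]
      linear_combination (B x z * B y z) * h2
    rw [← e] at hg
    have h := hg (c.symm (Pi.single i0 e1)) 0
    change cnt (c ((g : Matrix ι ι F) *ᵥ _)) = cnt (c _) at h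
    have hBz : B (c.symm (Pi.single i0 e1)) z = 1 := by
      rw [hB, hz, ← map_add, LinearEquiv.apply_symm_apply, LinearEquiv.apply_symm_apply, LinearEquiv.apply_symm_apply,
        cnt, cnt, cnt, ← Finset.sum_sub_distrib, ← Finset.sum_sub_distrib,
        Fintype.sum_eq_single i0 (fun j hj => by simp [Pi.single_eq_of_ne hj, chi_zero])]
      simp [h01, hchi, e0, e1]
    rw [hgv, hBz, one_smul, map_add, hz, LinearEquiv.apply_symm_apply, LinearEquiv.apply_symm_apply] at h
    have hc' : ∀ w : Fin t → Fin 2 → F, cnt w = ∑ j, chi (w j) := fun _ => rfl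
    rw [hc', hc', Fintype.sum_eq_add i0 i1 h01 (fun j hj => by
        simp [Pi.single_eq_of_ne hj.1, Pi.single_eq_of_ne hj.2, chi_zero]),
      Fintype.sum_eq_single i0 (fun j hj => by rw [Pi.single_eq_of_ne hj, chi_zero])] at h
    simp [h01, h01.symm, hchi, e0, e1] at h
    exact one_ne_zero (α := F) (by linear_combination h - h2)

end Cfsg.Agent.Classical.NotMaxSymp
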