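import Cfsg.Prelude.Def_GeometricClasses

/-!
Tensor decompositions with a small factor carrying an invariant frame are not maximal.
-/

set_option autoImplicit false
set_option linter.unusedSectionVars false
set_option maxHeartbeats 1600000

open Module Matrix
open scoped Kronecker

namespace Cfsg.Agent.Classical.NotMaxTensor

variable {F : Type*} [Field F] [Fintype F] {ι : Type} [Fintype ι] [DecidableEq ι] {a s : ℕ}

local notation "V" => ι → F
local notation "Mat" => Matrix ι ι F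

/-- The pure tensors. -/
def pure (e : ι ≃ Fin a × Fin s) (P : GL ι F) (x : Fin a → F) (y : Fin s → F) : ι → F :=
  (P : Matrix ι ι F) *ᵥ ((fun p : Fin a × Fin s => x p.1 * y p.2) ∘ e)

theorem pure_add_left (e : ι ≃ Fin a × Fin s) (P : GL ι F) (x x' : Fin a → F) (y : Fin s → F) :
    pure e P (x + x') y = pure e P x y + pure e P x' y := by
  rw [pure, pure, pure, ← Matrix.mulVec_add]
  congr 1
  funext i
  simp [add_mul]

theorem pure_smul_left (e : ι ≃ Fin a × Fin s) (P : GL ι F) (r : F) (x : Fin a → F) (y : Fin s → F) :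
    pure e P (r • x) y = r • pure e P x y := by
  rw [pure, pure, ← Matrix.mulVec_smul]
  congr 1
  funext i
  simp [mul_assoc]

theorem pure_add_right (e : ι ≃ Fin a × Fin s) (P : GL ι F) (x : Fin a → F) (y y' : Fin s → F) :
    pure e P x (y + y') = pure e P x y + pure e P x y' := by
  rw [pure, pure, pure, ← Matrix.mulVec_add]
  congr 1
  funext i
  simp [mul_add]

theorem pure_smul_right (e : ι ≃ Fin a × Fin s) (P : GL ι F) (r : F) (x : Fin a → F) (y : Fin s → F) :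
    pure e P x (r • y) = r • pure e P x y := by
  rw [pure, pure, ← Matrix.mulVec_smul]
  congr 1
  funext i
  simp [mul_left_comm]

/-- Members of the tensor stabiliser map pure tensors to pure tensors. -/
theorem mem_pure (e : ι ≃ Fin a × Fin s) (P : GL ι F) {g : GL ι F}
    (hg : g ∈ Cfsg.Geo.tensorProductSubgroup a s e P) :
    ∃ (A : Matrix (Fin a) (Fin a) F) (B : Matrix (Fin s) (Fin s) F),
      ∀ x y, (g : Mat) *ᵥ pure e P x y = pure e P (A *ᵥ x) (B *ᵥ y) := by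
  obtain ⟨_, ⟨k, ⟨A, B, hk⟩, rfl⟩, rfl⟩ := hg
  refine ⟨A, B, fun x y => ?_⟩
  show ((P * Cfsg.Geo.glReindex e.symm k * P⁻¹ : GL ι F) : Mat) *ᵥ _ = _
  rw [pure, Units.val_mul, Units.val_mul, ← Matrix.mulVec_mulVec, ← Matrix.mulVec_mulVec,
    Matrix.mulVec_mulVec (((fun p : Fin a × Fin s => x p.1 * y p.2) ∘ e)), ← Units.val_mul, inv_mul_cancel,
    Units.val_one, Matrix.one_mulVec, pure]
  congr 1
  funext i
  show ((k : Matrix (Fin a × Fin s) (Fin a × Fin s) F).submatrix e.symm.symm e.symm.symm *ᵥ _) i = _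
  rw [Equiv.symm_symm, Matrix.submatrix_mulVec_equiv, Function.comp_apply, hk, Function.comp_assoc,
    Equiv.self_comp_symm, Function.comp_id, Function.comp_apply]
  simp only [Matrix.mulVec, dotProduct, Fintype.sum_prod_type, Matrix.kroneckerMap_apply, Finset.sum_mul_sum]
  exact Finset.sum_congr rfl fun i _ => Finset.sum_congr rfl fun j _ => by ring

/-- The form on pure tensors. -/
theorem form_pure (σ : F →+* F) {f : V → V → F} (e : ι ≃ Fin a × Fin s) (P : GL ι F)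
    {f₁ : (Fin a → F) → (Fin a → F) → F} {f₂ : (Fin s → F) → (Fin s → F) → F}
    (h₁ : ∀ x x', f₁ x x' = Cfsg.Geo.formOfGram σ (Cfsg.Geo.gramMatrix f₁) x x')
    (h₂ : ∀ y y', f₂ y y' = Cfsg.Geo.formOfGram σ (Cfsg.Geo.gramMatrix f₂) y y')
    (hT : Cfsg.Geo.IsTensorFormStructure σ f f₁ f₂ e P) :
    ∃ d : F, d ≠ 0 ∧ ∀ x y x' y', f (pure e P x y) (pure e P x' y') = d * (f₁ x x' * f₂ y y') := by
  obtain ⟨d, hd, h⟩ := hT
  refine ⟨d, hd, fun x y x' y' => ?_⟩
  rw [pure, pure, h, h₁, h₂]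
  congr 1
  simp only [Cfsg.Geo.formOfGram, Fintype.sum_prod_type, Matrix.kroneckerMap_apply, map_mul, Finset.sum_mul_sum]
  refine Finset.sum_congr rfl fun i _ => ?_
  exact Finset.sum_congr rfl fun j _ => Finset.sum_congr rfl fun k _ => Finset.sum_congr rfl fun l _ => by ring

/-- A form linear on the left and additive, semilinear on the right is given by its Gram matrix. -/
theorem eq_gram (σ : F →+* F) {κ : Type} [Fintype κ] [DecidableEq κ] {f : (κ → F) → (κ → F) → F}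
    (hl : ∀ x y v, f (x + y) v = f x v + f y v) (hls : ∀ (r : F) x v, f (r • x) v = r * f x v)
    (hr : ∀ v x y, f v (x + y) = f v x + f v y) (hrs : ∀ (r : F) v x, f v (r • x) = σ r * f v x) (x y : κ → F) :
    f x y = Cfsg.Geo.formOfGram σ (Cfsg.Geo.gramMatrix f) x y := by
  let L : (κ → F) → ((κ → F) →+ F) := fun v => AddMonoidHom.mk' (fun x => f x v) fun x y => hl x y v
  let R : (κ → F) → ((κ → F) →+ F) := fun v => AddMonoidHom.mk' (fun x => f v x) fun x y => hr v x y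
  have ex : ∀ z : κ → F, z = ∑ i, z i • (Pi.single i (1 : F) : κ → F) := fun z => by
    funext j
    simp [Finset.sum_apply, Pi.single_apply]
  conv_lhs => rw [ex x]
  show L y (∑ i, x i • (Pi.single i (1 : F) : κ → F)) = _
  rw [map_sum]
  refine Finset.sum_congr rfl fun i _ => ?_
  show f (x i • Pi.single i 1) y = _
  rw [hls]
  conv_lhs => rw [ex y]
  show x i * R (Pi.single i 1) (∑ j, y j • (Pi.single j (1 : F) : κ → F)) = _
  rw [map_sum, Finset.mul_sum]
  refine Finset.sum_congr rfl fun j _ => ?_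
  show x i * f (Pi.single i 1) (y j • Pi.single j 1) = _
  rw [hrs, Cfsg.Geo.gramMatrix]
  ring

/-- The coordinates of a frame of the small factor. -/
theorem exists_blocks (T : (Fin a → F) → (Fin s → F) → ι → F)
    (hT1 : ∀ x x' y, T (x + x') y = T x y + T x' y) (hT2 : ∀ (r : F) x y, T (r • x) y = r • T x y)
    {f : V → V → F} (hl : ∀ x y v, f (x + y) v = f x v + f y v) (hls : ∀ (r : F) x v, f (r • x) v = r * f x v)
    {f₁ : (Fin a → F) → (Fin a → F) → F} {f₂ : (Fin s → F) → (Fin s → F) → F}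
    {d : F} (hd : d ≠ 0) (hT : ∀ x y x' y', f (T x y) (T x' y') = d * (f₁ x x' * f₂ y y'))
    (h₁ : ∀ x, x ≠ 0 → ∃ x', f₁ x x' ≠ 0) (c : Fin s → Fin s → F) {κ : F} (hκ : κ ≠ 0)
    (hc : ∀ l k, f₂ (c l) (c k) = if l = k then κ else 0) (hcard : Fintype.card ι = s * a) :
    ∃ Φ : (Fin s → Fin a → F) ≃ₗ[F] (ι → F), ∀ l x, Φ (Pi.single l x) = T x (c l) := by
  classical
  let T₁ : Fin s → ((Fin a → F) →ₗ[F] (ι → F)) := fun l =>
    { toFun := fun x => T x (c l), map_add' := fun x x' => hT1 x x' _, map_smul' := fun r x => hT2 r x _ }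
  let Φ₀ : (Fin s → Fin a → F) →ₗ[F] (ι → F) := ∑ l, (T₁ l).comp (LinearMap.proj l)
  have hsingle : ∀ l x, Φ₀ (Pi.single l x) = T x (c l) := fun l x => by
    simp only [Φ₀, LinearMap.sum_apply, LinearMap.comp_apply, LinearMap.proj_apply]
    rw [Finset.sum_eq_single l (fun k _ hk => by rw [Pi.single_eq_of_ne hk, map_zero]) (by simp), Pi.single_eq_same]
    rfl
  have hval : ∀ z l x', f (Φ₀ z) (T x' (c l)) = d * κ * f₁ (z l) x' := fun z l x' => by
    let L : V →+ F := AddMonoidHom.mk' (fun x => f x (T x' (c l))) fun x y => hl x y _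
    show L (Φ₀ z) = _
    simp only [Φ₀, LinearMap.sum_apply, map_sum]
    rw [Finset.sum_eq_single l]
    · show f (T (z l) (c l)) (T x' (c l)) = _
      rw [hT, hc, if_pos rfl]; ring
    · intro k _ hk
      show f (T (z k) (c k)) (T x' (c l)) = 0
      rw [hT, hc, if_neg hk, mul_zero, mul_zero]
    · simp
  have hinj : Function.Injective Φ₀ := (injective_iff_map_eq_zero _).2 fun z hz => funext fun l => by
    by_contra hne
    obtain ⟨x', hx'⟩ := h₁ _ hne
    have h0 : f (Φ₀ z) (T x' (c l)) = 0 := by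
      rw [hz, ← zero_smul F (0 : V), hls, zero_mul]
    rw [hval] at h0
    exact mul_ne_zero (mul_ne_zero hd hκ) hx' h0
  refine ⟨LinearEquiv.ofInjectiveOfFinrankEq Φ₀ hinj ?_, fun l x => hsingle l x⟩
  rw [Module.finrank_pi_fintype, Module.finrank_pi]
  simp [hcard]

/-- The elements permuting the blocks. -/
def blockStab (Φ : (Fin s → Fin a → F) ≃ₗ[F] (ι → F)) : Subgroup (GL ι F) where
  carrier := {g | ∃ π : Equiv.Perm (Fin s), ∀ l x, ∃ y, (g : Mat) *ᵥ Φ (Pi.single l x) = Φ (Pi.single (π l) y)}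
  one_mem' := ⟨1, fun l x => ⟨x, by simp⟩⟩
  mul_mem' := by
    rintro g h ⟨π, hπ⟩ ⟨τ, hτ⟩
    refine ⟨τ.trans π, fun l x => ?_⟩
    obtain ⟨y, hy⟩ := hτ l x
    obtain ⟨z, hz⟩ := hπ (τ l) y
    exact ⟨z, by rw [Units.val_mul, ← Matrix.mulVec_mulVec, hy, hz]; rfl⟩
  inv_mem' := by
    rintro g ⟨π, hπ⟩
    refine ⟨π.symm, fun k y => ?_⟩
    choose Y hY using hπ (π.symm k)
    have hinj : Function.Injective Y := fun x x' e => by
      have h3 := congrArg (fun v => ((g⁻¹ : GL ι F) : Mat) *ᵥ v) ((hY x).trans (e ▸ (hY x').symm))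
      simp only [Matrix.mulVec_mulVec, ← Units.val_mul, inv_mul_cancel, Units.val_one, Matrix.one_mulVec] at h3
      exact Pi.single_injective _ (Φ.injective h3)
    obtain ⟨x, rfl⟩ := Finite.injective_iff_surjective.1 hinj y
    refine ⟨x, ?_⟩
    have h3 := hY x
    rw [Equiv.apply_symm_apply] at h3
    rw [← h3, Matrix.mulVec_mulVec, ← Units.val_mul, inv_mul_cancel, Units.val_one, Matrix.one_mulVec]

/-- A group permuting blocks by one map of the large factor is properly contained in the block stabiliser. -/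
theorem between (Φ : (Fin s → Fin a → F) ≃ₗ[F] (ι → F)) {i j : Fin s} (hij : i ≠ j) (H G : Subgroup (GL ι F))
    (hH : ∀ g ∈ H ⊓ G, ∃ (A : (Fin a → F) → Fin a → F) (π : Equiv.Perm (Fin s)) (r : Fin s → F),
      ∀ l x, (g : Mat) *ᵥ Φ (Pi.single l x) = Φ (Pi.single (π l) (r l • A x)))
    {u : GL ι F} (hu : u ∈ G) (hfix : ∀ l, l ≠ i → ∀ x, (u : Mat) *ᵥ Φ (Pi.single l x) = Φ (Pi.single l x))
    (hstay : ∀ x, ∃ y, (u : Mat) *ᵥ Φ (Pi.single i x) = Φ (Pi.single i y))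
    (hmove : ∀ c : F, ∃ x, (u : Mat) *ᵥ Φ (Pi.single i x) ≠ c • Φ (Pi.single i x))
    {w : GL ι F} (hw : w ∈ G) {k₁ k₂ : Fin s} (hk : k₁ ≠ k₂) {l : Fin s} {x : Fin a → F}
    (hw1 : Φ.symm ((w : Mat) *ᵥ Φ (Pi.single l x)) k₁ ≠ 0) (hw2 : Φ.symm ((w : Mat) *ᵥ Φ (Pi.single l x)) k₂ ≠ 0) :
    ∃ K : Subgroup (GL ι F), H ⊓ G < K ∧ K < G := by
  refine ⟨blockStab Φ ⊓ G, lt_of_le_of_ne (fun g hg => ⟨?_, hg.2⟩) fun e => ?_,
    lt_of_le_of_ne inf_le_right fun e => ?_⟩
  · obtain ⟨A, π, r, h⟩ := hH g hg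
    exact ⟨π, fun l x => ⟨_, h l x⟩⟩
  · have huK : u ∈ blockStab Φ ⊓ G := by
      refine ⟨⟨1, fun l x => ?_⟩, hu⟩
      rcases eq_or_ne l i with rfl | hl
      · exact hstay x
      · exact ⟨x, hfix l hl x⟩
    rw [← e] at huK
    obtain ⟨A, π, r, h⟩ := hH u huK
    obtain ⟨x₀, hx₀⟩ := hmove 1
    have hx₀0 : x₀ ≠ 0 := fun e' => hx₀ (by rw [e', Pi.single_zero, map_zero, Matrix.mulVec_zero, smul_zero])
    have hA : ∀ x, π j = j ∧ r j • A x = x ∨ x = 0 := by
      intro x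
      rcases eq_or_ne x 0 with hx | hx
      · exact Or.inr hx
      have h3 := Φ.injective ((hfix j hij.symm x).symm.trans (h j x))
      have hp : π j = j := by
        by_contra hp
        have := congrFun h3 j
        rw [Pi.single_eq_same, Pi.single_eq_of_ne (Ne.symm hp)] at this
        exact hx this
      rw [hp] at h3
      exact Or.inl ⟨hp, (Pi.single_injective _ h3).symm⟩
    have hrj : r j ≠ 0 := fun e' => by
      have := ((hA x₀).resolve_right hx₀0).2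
      rw [e', zero_smul] at this
      exact hx₀0 this.symm
    obtain ⟨x₁, hx₁⟩ := hmove (r i / r j)
    have hx₁0 : x₁ ≠ 0 := fun e' => hx₁ (by rw [e', Pi.single_zero, map_zero, Matrix.mulVec_zero, smul_zero])
    have hAx : A x₁ = (r j)⁻¹ • x₁ := by
      conv_rhs => rw [← ((hA x₁).resolve_right hx₁0).2]
      rw [inv_smul_smul₀ hrj]
    have h4 := h i x₁
    have hpi : π i = i := by
      by_contra hp
      obtain ⟨y, hy⟩ := hstay x₁
      have h5 := Φ.injective (hy.symm.trans h4)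
      have h6 := congrFun h5 i
      rw [Pi.single_eq_same, Pi.single_eq_of_ne (Ne.symm hp)] at h6
      rw [h6, Pi.single_zero, map_zero] at hy
      have h7 := congrArg (fun v => ((u⁻¹ : GL ι F) : Mat) *ᵥ v) hy
      simp only [Matrix.mulVec_mulVec, ← Units.val_mul, inv_mul_cancel, Units.val_one, Matrix.one_mulVec,
        Matrix.mulVec_zero] at h7
      exact hx₁0 (by simpa using congrFun (Φ.injective (h7.trans (map_zero Φ).symm)) i)
    rw [hpi, hAx, smul_smul, Pi.single_smul, map_smul] at h4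
    exact hx₁ (by rw [h4, div_eq_mul_inv])
  · obtain ⟨⟨π, hπ⟩, -⟩ := Subgroup.mem_inf.1 (e.ge hw)
    obtain ⟨y, hy⟩ := hπ l x
    rw [hy, LinearEquiv.symm_apply_apply] at hw1 hw2
    have e1 : π l = k₁ := by by_contra hne; exact hw1 (Pi.single_eq_of_ne (Ne.symm hne) _)
    have e2 : π l = k₂ := by by_contra hne; exact hw2 (Pi.single_eq_of_ne (Ne.symm hne) _)
    exact hk (e1.symm.trans e2)

/-- A similitude of a form with an orthogonal frame of equal norms permutes the frame. -/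
theorem frame_perm (σ : F →+* F) {f₂ : (Fin s → F) → (Fin s → F) → F}
    (hl : ∀ x y v, f₂ (x + y) v = f₂ x v + f₂ y v) (hls : ∀ (r : F) x v, f₂ (r • x) v = r * f₂ x v)
    (hr : ∀ v x y, f₂ v (x + y) = f₂ v x + f₂ v y) (hrs : ∀ (r : F) v x, f₂ v (r • x) = σ r * f₂ v x)
    (c : Basis (Fin s) F (Fin s → F)) {κ : F} (hκ : κ ≠ 0) (hc : ∀ l k, f₂ (c l) (c k) = if l = k then κ else 0)
    (hsq : ∀ r : F, r ≠ 0 → r * σ r = 1) (hN : ∀ N : ℕ, N ≤ s → (N : F) = 1 → N = 1)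
    (B : Matrix (Fin s) (Fin s) F) (hB : ∀ y y', f₂ (B *ᵥ y) (B *ᵥ y') = f₂ y y') :
    ∃ (π : Equiv.Perm (Fin s)) (r : Fin s → F), ∀ l, B *ᵥ c l = r l • c (π l) := by
  classical
  have hval : ∀ y y', f₂ y y' = κ * ∑ l, c.repr y l * σ (c.repr y' l) := fun y y' => by
    let L : (Fin s → F) → ((Fin s → F) →+ F) := fun v => AddMonoidHom.mk' (fun x => f₂ x v) fun x y => hl x y v
    let R : (Fin s → F) → ((Fin s → F) →+ F) := fun v => AddMonoidHom.mk' (fun x => f₂ v x) fun x y => hr v x y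
    conv_lhs => rw [← c.sum_repr y]
    show L y' (∑ l, c.repr y l • c l) = _
    rw [map_sum, Finset.mul_sum]
    refine Finset.sum_congr rfl fun l _ => ?_
    show f₂ (c.repr y l • c l) y' = _
    rw [hls]
    conv_lhs => rw [← c.sum_repr y']
    show c.repr y l * R (c l) (∑ k, c.repr y' k • c k) = _
    rw [map_sum, Finset.sum_eq_single l]
    · show c.repr y l * f₂ (c l) (c.repr y' l • c l) = _
      rw [hrs, hc, if_pos rfl]; ring
    · intro k _ hk
      show f₂ (c l) (c.repr y' k • c k) = 0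
      rw [hrs, hc, if_neg (Ne.symm hk), mul_zero]
    · simp
  have key : ∀ l, ∃ k, ∃ r : F, r ≠ 0 ∧ B *ᵥ c l = r • c k := by
    intro l
    set z := c.repr (B *ᵥ c l) with hz
    have h1 := hB (c l) (c l)
    rw [hc, if_pos rfl, hval] at h1
    have h2 : ∑ k, z k * σ (z k) = ((Finset.univ.filter fun k => z k ≠ 0).card : F) := by
      rw [Finset.natCast_card_filter]
      refine Finset.sum_congr rfl fun k _ => ?_
      split_ifs with h
      · exact hsq _ h
      · rw [not_not] at h; rw [h, zero_mul]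
    rw [h2] at h1
    have h3 := hN _ ((Finset.card_le_univ _).trans_eq (Fintype.card_fin s))
      (mul_left_cancel₀ hκ (h1.trans (mul_one κ).symm))
    obtain ⟨k, hk⟩ := Finset.card_eq_one.1 h3
    have hk' : ∀ m, z m ≠ 0 ↔ m = k := fun m => by
      have := congrArg (fun S : Finset (Fin s) => m ∈ S) hk
      simpa using this
    refine ⟨k, z k, (hk' k).2 rfl, ?_⟩
    conv_lhs => rw [← c.sum_repr (B *ᵥ c l)]
    refine Finset.sum_eq_single k (fun m _ hm => ?_) (by simp)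
    rw [← hz, show z m = 0 from not_not.1 fun h => hm ((hk' m).1 h), zero_smul]
  choose p r hr0 hp using key
  have hinj : Function.Injective p := fun l l' h => by
    by_contra hne
    have h1 := hB (c l) (c l')
    rw [hc, if_neg hne, hp, hp, h, hls, hrs, hc, if_pos rfl] at h1
    exact mul_ne_zero (hr0 l) (mul_ne_zero ((map_ne_zero σ).2 (hr0 l')) hκ) h1
  exact ⟨Equiv.ofBijective p (Finite.injective_iff_bijective.1 hinj), r, hp⟩

/-- The multiplier of the small factor. -/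
theorem exists_mult (T : (Fin a → F) → (Fin s → F) → ι → F) {f : V → V → F}
    {f₁ : (Fin a → F) → (Fin a → F) → F} {f₂ : (Fin s → F) → (Fin s → F) → F}
    {d : F} (hd : d ≠ 0) (hT : ∀ x y x' y', f (T x y) (T x' y') = d * (f₁ x x' * f₂ y y'))
    {x₀ x₀' : Fin a → F} (hx₀ : f₁ x₀ x₀' ≠ 0) {y₀ y₀' : Fin s → F} (hy₀ : f₂ y₀ y₀' ≠ 0) (g : GL ι F)
    (hg : ∀ u v, f ((g : Mat) *ᵥ u) ((g : Mat) *ᵥ v) = f u v) (A : Matrix (Fin a) (Fin a) F)
    (B : Matrix (Fin s) (Fin s) F) (hAB : ∀ x y, (g : Mat) *ᵥ T x y = T (A *ᵥ x) (B *ᵥ y)) :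
    ∃ μ : F, μ ≠ 0 ∧ ∀ y y', f₂ (B *ᵥ y) (B *ᵥ y') = μ * f₂ y y' := by
  have h : ∀ y y', f₁ (A *ᵥ x₀) (A *ᵥ x₀') * f₂ (B *ᵥ y) (B *ᵥ y') = f₁ x₀ x₀' * f₂ y y' := fun y y' => by
    have h1 := hg (T x₀ y) (T x₀' y')
    rw [hAB, hAB, hT, hT] at h1
    exact mul_left_cancel₀ hd h1
  have hν : f₁ (A *ᵥ x₀) (A *ᵥ x₀') ≠ 0 := fun e => by
    have := h y₀ y₀'
    rw [e, zero_mul] at this
    exact mul_ne_zero hx₀ hy₀ this.symm
  exact ⟨f₁ x₀ x₀' / f₁ (A *ᵥ x₀) (A *ᵥ x₀'), div_ne_zero hx₀ hν, fun y y' => by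
    rw [div_mul_eq_mul_div, eq_div_iff hν, ← h y y']; ring⟩

end Cfsg.Agent.Classical.NotMaxTensor

namespace Cfsg.Agent.Classical.NotMaxTensor

variable {F : Type*} [Field F] [Fintype F] {ι : Type} [Fintype ι] [DecidableEq ι] {a s : ℕ}

/-- Tensor stabilisers permute the frame blocks. -/
theorem frame_hH (T : (Fin a → F) → (Fin s → F) → ι → F)
    (hT3 : ∀ (r : F) x y, T x (r • y) = r • T x y) (hT2 : ∀ (r : F) x y, T (r • x) y = r • T x y)
    {f : (ι → F) → (ι → F) → F} {f₁ : (Fin a → F) → (Fin a → F) → F} {f₂ : (Fin s → F) → (Fin s → F) → F}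
    {d : F} (hd : d ≠ 0) (hT : ∀ x y x' y', f (T x y) (T x' y') = d * (f₁ x x' * f₂ y y'))
    {x₀ x₀' : Fin a → F} (hx₀ : f₁ x₀ x₀' ≠ 0) (c : Fin s → Fin s → F) (i : Fin s) (hci : f₂ (c i) (c i) ≠ 0)
    (hperm : ∀ (B : Matrix (Fin s) (Fin s) F) (μ : F), μ ≠ 0 → (∀ y y', f₂ (B *ᵥ y) (B *ᵥ y') = μ * f₂ y y') →
      ∃ (π : Equiv.Perm (Fin s)) (r : Fin s → F), ∀ l, B *ᵥ c l = r l • c (π l))
    (Φ : (Fin s → Fin a → F) ≃ₗ[F] (ι → F)) (hΦ : ∀ l x, Φ (Pi.single l x) = T x (c l))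
    (g : GL ι F) (hg : ∀ u v, f ((g : Matrix ι ι F) *ᵥ u) ((g : Matrix ι ι F) *ᵥ v) = f u v)
    (A : Matrix (Fin a) (Fin a) F) (B : Matrix (Fin s) (Fin s) F)
    (hAB : ∀ x y, (g : Matrix ι ι F) *ᵥ T x y = T (A *ᵥ x) (B *ᵥ y)) :
    ∃ (A : (Fin a → F) → Fin a → F) (π : Equiv.Perm (Fin s)) (r : Fin s → F),
      ∀ l x, (g : Matrix ι ι F) *ᵥ Φ (Pi.single l x) = Φ (Pi.single (π l) (r l • A x)) := by
  obtain ⟨μ, hμ, hB⟩ := exists_mult T hd hT hx₀ hci g hg A B hAB
  obtain ⟨π, r, hr⟩ := hperm B μ hμ hB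
  exact ⟨fun x => A *ᵥ x, π, r, fun l x => by rw [hΦ, hAB, hr, hT3, ← hT2, hΦ]⟩

end Cfsg.Agent.Classical.NotMaxTensor
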