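import Cfsg.Prelude.Def_Classical

/-!
Elimination in the isometry group of a form with hyperbolic pairs, using the elementary transformations.
-/

set_option autoImplicit false

open Matrix

namespace Cfsg.Agent.Classical.OrthGen

variable {F : Type*} [Field F] {ι : Type*} [Fintype ι] [DecidableEq ι] {m : ℕ}

/-- The pair an index belongs to. -/
def pidx (k : Fin m ⊕ Fin m) : ℕ := Sum.elim Fin.val Fin.val k

theorem pidx_swap (k : Fin m ⊕ Fin m) : pidx k.swap = pidx k := by cases k <;> rfl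

theorem pidx_lt (k : Fin m ⊕ Fin m) : pidx k < m := by cases k with | inl i => exact i.isLt | inr i => exact i.isLt

theorem swap_ne (k : Fin m ⊕ Fin m) : k.swap ≠ k := by cases k <;> simp

theorem eq_or_swap_of_pidx {k l : Fin m ⊕ Fin m} (h : pidx k = pidx l) : k = l ∨ k = l.swap := by
  cases k <;> cases l <;> simp_all [pidx, Fin.ext_iff]

/-- The unit vector at a coordinate. -/
def ev (F : Type*) [Field F] (i : ι) : ι → F := Pi.single i 1

theorem ev_self (i : ι) : ev F i i = 1 := Pi.single_eq_same i 1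

theorem ev_ne {i k : ι} (h : k ≠ i) : ev F i k = 0 := Pi.single_eq_of_ne h 1

/-- A group `E` of isometries containing the elementary transformations of the hyperbolic pairs. -/
structure Hyp (p : Fin m ⊕ Fin m → ι) (Q : (ι → F) → F) (E : Subgroup (GL ι F)) : Prop where
  inj : Function.Injective p
  add_single : ∀ (v : ι → F) (k : Fin m ⊕ Fin m) (c : F), Q (v + c • ev F (p k)) = Q v + c * v (p k.swap)
  single : ∀ k, Q (ev F (p k)) = 0
  iso : ∀ ε ∈ E, ∀ v, Q ((ε : Matrix ι ι F) *ᵥ v) = Q v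
  ops : ∀ (a b : Fin m ⊕ Fin m) (t : F), b ≠ a → b ≠ a.swap → ∃ ε ∈ E, ∀ (v : ι → F) (k : ι),
    ((ε : Matrix ι ι F) *ᵥ v) k =
      v k + (if k = p a then t * v (p b) else 0) - (if k = p b.swap then t * v (p a.swap) else 0)
  clearOut : ∀ (b : Fin m ⊕ Fin m) (w : ι → F), w (p b) = 1 → ∃ ε ∈ E,
    (∀ k, (∀ a, k ≠ p a) → ((ε : Matrix ι ι F) *ᵥ w) k = 0) ∧
    (∀ a, a ≠ b.swap → ((ε : Matrix ι ι F) *ᵥ w) (p a) = w (p a)) ∧
    ∀ u : ι → F, u (p b) = 0 → (∀ k, (∀ a, k ≠ p a) → u k = 0) → (ε : Matrix ι ι F) *ᵥ u = u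

/-- The unit vectors of the first `j` pairs are fixed. -/
def FixTo (p : Fin m ⊕ Fin m → ι) (j : ℕ) (g : GL ι F) : Prop :=
  ∀ k, pidx k < j → (g : Matrix ι ι F) *ᵥ ev F (p k) = ev F (p k)

variable {p : Fin m ⊕ Fin m → ι} {Q : (ι → F) → F} {E : Subgroup (GL ι F)}

theorem mulVec_mul (g h : GL ι F) (v : ι → F) :
    ((g * h : GL ι F) : Matrix ι ι F) *ᵥ v = (g : Matrix ι ι F) *ᵥ ((h : Matrix ι ι F) *ᵥ v) := by
  rw [Units.val_mul, Matrix.mulVec_mulVec]

theorem Hyp.fixed_coord (H : Hyp p Q E) {g : GL ι F} (hg : ∀ v, Q ((g : Matrix ι ι F) *ᵥ v) = Q v)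
    {k : Fin m ⊕ Fin m} (hk : (g : Matrix ι ι F) *ᵥ ev F (p k) = ev F (p k)) (v : ι → F) :
    ((g : Matrix ι ι F) *ᵥ v) (p k.swap) = v (p k.swap) := by
  have h := hg (v + (1 : F) • ev F (p k))
  rw [Matrix.mulVec_add, Matrix.mulVec_smul, hk, H.add_single, H.add_single, hg, one_mul, one_mul] at h
  exact add_left_cancel h

theorem Hyp.clear (H : Hyp p Q E) (b : Fin m ⊕ Fin m) (S : Finset (Fin m ⊕ Fin m))
    (hS : ∀ a ∈ S, a ≠ b ∧ a ≠ b.swap) :
    ∀ w : ι → F, w (p b) = 1 → ∃ ε ∈ E, (∀ a ∈ S, ((ε : Matrix ι ι F) *ᵥ w) (p a) = 0) ∧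
      (∀ k, (∀ a ∈ S, k ≠ p a) → k ≠ p b.swap → ((ε : Matrix ι ι F) *ᵥ w) k = w k) ∧
      ∀ u : ι → F, u (p b) = 0 → (∀ a ∈ S, u (p a.swap) = 0) → (ε : Matrix ι ι F) *ᵥ u = u := by
  induction S using Finset.induction_on with
  | empty => exact fun w _ => ⟨1, one_mem _, by simp, by simp, by simp⟩
  | @insert a S ha ih =>
    intro w hw
    obtain ⟨h1, h2⟩ := hS a (Finset.mem_insert_self a S)
    obtain ⟨ε, hε, e1, e2, e3⟩ := ih (fun x hx => hS x (Finset.mem_insert_of_mem hx)) w hw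
    set w' := (ε : Matrix ι ι F) *ᵥ w with hw'
    have hb : w' (p b) = 1 := by
      exact (e2 (p b) (fun x hx e => (hS x (Finset.mem_insert_of_mem hx)).1 (H.inj e).symm)
        (fun e => swap_ne b (H.inj e).symm)).trans hw
    obtain ⟨δ, hδ, hd⟩ := H.ops a b (-(w' (p a))) h1.symm (fun e => h2 (by rw [e, Sum.swap_swap]))
    refine ⟨δ * ε, mul_mem hδ hε, ?_, ?_, ?_⟩
    · intro x hx
      rw [mulVec_mul, ← hw', hd]
      have hxb : p x ≠ p b.swap := fun e => (hS x hx).2 (H.inj e)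
      rw [if_neg hxb, sub_zero]
      rcases Finset.mem_insert.mp hx with rfl | hx'
      · rw [if_pos rfl, hb]; ring
      · rw [if_neg (fun e => ha (by rw [← H.inj e]; exact hx')), add_zero]
        exact e1 x hx'
    · intro k hk hk'
      rw [mulVec_mul, ← hw', hd, if_neg (hk a (Finset.mem_insert_self a S)), if_neg hk', add_zero, sub_zero]
      exact e2 k (fun x hx => hk x (Finset.mem_insert_of_mem hx)) hk'
    · intro u hu hu'
      rw [mulVec_mul, e3 u hu fun x hx => hu' x (Finset.mem_insert_of_mem hx)]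
      funext k
      rw [hd, hu, hu' a (Finset.mem_insert_self a S)]
      simp

theorem Hyp.make_one (H : Hyp p Q E) {j : ℕ} (hj : j + 1 < m) {c : Fin m ⊕ Fin m} (hc : j ≤ pidx c) {w : ι → F}
    (hwc : w (p c) ≠ 0) :
    ∃ ε ∈ E, ((ε : Matrix ι ι F) *ᵥ w) (p (Sum.inl ⟨j, by omega⟩)) = 1 ∧
      ∀ u : ι → F, (∀ k, j ≤ pidx k → u (p k) = 0) → (ε : Matrix ι ι F) *ᵥ u = u := by
  set x : Fin m ⊕ Fin m := Sum.inl ⟨j, by omega⟩ with hx
  have hxp : pidx x = j := rfl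
  -- reach a coordinate of another pair
  obtain ⟨ε, hε, d, hd1, hd2, hd3, hfix⟩ : ∃ ε ∈ E, ∃ d, j ≤ pidx d ∧ pidx d ≠ j ∧
      ((ε : Matrix ι ι F) *ᵥ w) (p d) ≠ 0 ∧
      ∀ u : ι → F, (∀ k, j ≤ pidx k → u (p k) = 0) → (ε : Matrix ι ι F) *ᵥ u = u := by
    by_cases hcj : pidx c = j
    swap
    · exact ⟨1, one_mem _, c, hc, hcj, by simpa using hwc, by simp⟩
    set d : Fin m ⊕ Fin m := Sum.inl ⟨j + 1, hj⟩ with hd
    have hdp : pidx d = j + 1 := rfl
    by_cases hwd : w (p d) ≠ 0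
    · exact ⟨1, one_mem _, d, by omega, by omega, by simpa using hwd, by simp⟩
    push Not at hwd
    have hne : c ≠ d := fun e => by rw [e] at hcj; omega
    have hne' : c ≠ d.swap := fun e => by rw [e, pidx_swap] at hcj; omega
    obtain ⟨ε, hε, he⟩ := H.ops d c (w (p c))⁻¹ hne hne'
    refine ⟨ε, hε, d, by omega, by omega, ?_, fun u hu => ?_⟩
    · have hdc : p d ≠ p c.swap := fun e => hne' (by rw [H.inj e, Sum.swap_swap])
      rw [he, if_pos rfl, if_neg hdc, hwd, inv_mul_cancel₀ hwc]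
      simp
    · funext k
      rw [he, hu c (by omega), hu d.swap (by rw [pidx_swap]; omega)]
      simp
  set w' := (ε : Matrix ι ι F) *ᵥ w
  have hne : d ≠ x := fun e => hd2 (by rw [e, hxp])
  have hne' : d ≠ x.swap := fun e => hd2 (by rw [e, pidx_swap, hxp])
  obtain ⟨δ, hδ, he⟩ := H.ops x d ((1 - w' (p x)) / w' (p d)) hne hne'
  refine ⟨δ * ε, mul_mem hδ hε, ?_, fun u hu => ?_⟩
  · have hxd : p x ≠ p d.swap := fun e => hne' (by rw [H.inj e, Sum.swap_swap])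
    rw [mulVec_mul, he, if_pos rfl, if_neg hxd, div_mul_cancel₀ _ hd3]
    ring
  · rw [mulVec_mul, hfix u hu]
    funext k
    rw [he, hu d hd1, hu x.swap (by rw [pidx_swap, hxp])]
    simp

theorem eq_ev_add_of_zero (H : Hyp p Q E) {b : Fin m ⊕ Fin m} {w : ι → F} (hb : w (p b) = 1)
    (hin : ∀ a, a ≠ b → a ≠ b.swap → w (p a) = 0) (hout : ∀ k, (∀ a, k ≠ p a) → w k = 0) (hQ : Q w = 0) :
    w = ev F (p b) := by
  have hw : w = ev F (p b) + w (p b.swap) • ev F (p b.swap) := by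
    funext k
    simp only [Pi.add_apply, Pi.smul_apply, smul_eq_mul]
    by_cases hk : ∃ a, k = p a
    · obtain ⟨a, rfl⟩ := hk
      by_cases e1 : a = b
      · subst e1
        rw [hb, ev_self, ev_ne (fun e => swap_ne a (H.inj e).symm), mul_zero, add_zero]
      by_cases e2 : a = b.swap
      · subst e2
        rw [ev_self, ev_ne (fun e => swap_ne b (H.inj e)), mul_one, zero_add]
      rw [hin a e1 e2, ev_ne (fun e => e1 (H.inj e)), ev_ne (fun e => e2 (H.inj e)), mul_zero, add_zero]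
    · push Not at hk
      rw [hout k hk, ev_ne (hk b), ev_ne (hk b.swap), mul_zero, add_zero]
  rw [hw, H.add_single, H.single, zero_add, Sum.swap_swap, ev_self, mul_one] at hQ
  rw [hw, hQ, zero_smul, add_zero]

theorem Hyp.step (H : Hyp p Q E) {j : ℕ} (hj : j + 1 < m) {g : GL ι F}
    (hg : ∀ v, Q ((g : Matrix ι ι F) *ᵥ v) = Q v) (hfix : FixTo p j g)
    (hinner : ∀ w : ι → F, Q w = 0 → w ≠ 0 → ∃ a, w (p a) ≠ 0) :
    ∃ ε ∈ E, FixTo p (j + 1) (ε * g) := by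
  classical
  set x : Fin m ⊕ Fin m := Sum.inl ⟨j, by omega⟩ with hx
  have hxp : pidx x = j := rfl
  have isoMul : ∀ ε ∈ E, ∀ g' : GL ι F, (∀ v, Q ((g' : Matrix ι ι F) *ᵥ v) = Q v) →
      ∀ v, Q (((ε * g' : GL ι F) : Matrix ι ι F) *ᵥ v) = Q v := fun ε hε g' hg' v => by
    rw [mulVec_mul, H.iso ε hε, hg']
  have hlow : ∀ k, pidx k < j → ∀ v, ((g : Matrix ι ι F) *ᵥ v) (p k) = v (p k) := by
    intro k hk v
    have := H.fixed_coord hg (hfix k.swap (by rwa [pidx_swap])) v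
    rwa [Sum.swap_swap] at this
  set S : Finset (Fin m ⊕ Fin m) := Finset.univ.filter fun a => j < pidx a with hSdef
  have hS : ∀ b : Fin m ⊕ Fin m, pidx b = j → ∀ a ∈ S, a ≠ b ∧ a ≠ b.swap := by
    intro b hb a ha
    rw [hSdef, Finset.mem_filter] at ha
    exact ⟨fun e => by rw [e] at ha; omega, fun e => by rw [e, pidx_swap] at ha; omega⟩
  -- bring the image of a pair vector to itself
  have main : ∀ b : Fin m ⊕ Fin m, pidx b = j → ∀ g' : GL ι F, (∀ v, Q ((g' : Matrix ι ι F) *ᵥ v) = Q v) →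
      FixTo p j g' → ((g' : Matrix ι ι F) *ᵥ ev F (p b)) (p b) = 1 →
      ∃ ε ∈ E, FixTo p j (ε * g') ∧ ((ε * g' : GL ι F) : Matrix ι ι F) *ᵥ ev F (p b) = ev F (p b) ∧
        ∀ u : ι → F, u (p b) = 0 → (∀ k, (∀ a, k ≠ p a) → u k = 0) → (∀ a, j < pidx a → u (p a) = 0) →
          (ε : Matrix ι ι F) *ᵥ u = u := by
    intro b hbj g' hg' hfix' hb1
    set w := (g' : Matrix ι ι F) *ᵥ ev F (p b) with hw
    obtain ⟨ε₁, hε₁, c1, c2, c3⟩ := H.clear b S (hS b hbj) w hb1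
    set w₁ := (ε₁ : Matrix ι ι F) *ᵥ w
    have hw₁b : w₁ (p b) = 1 :=
      (c2 _ (fun a ha e => (hS b hbj a ha).1 (H.inj e).symm) (fun e => swap_ne b (H.inj e).symm)).trans hb1
    obtain ⟨ε₂, hε₂, o1, o2, o3⟩ := H.clearOut b w₁ hw₁b
    have hfixu : ∀ u : ι → F, u (p b) = 0 → (∀ k, (∀ a, k ≠ p a) → u k = 0) → (∀ a, j < pidx a → u (p a) = 0) →
        ((ε₂ * ε₁ : GL ι F) : Matrix ι ι F) *ᵥ u = u := by
      intro u hu hout hin
      rw [mulVec_mul, c3 u hu fun a ha => hin _ (by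
        rw [hSdef, Finset.mem_filter] at ha; rw [pidx_swap]; exact ha.2), o3 u hu hout]
    refine ⟨ε₂ * ε₁, mul_mem hε₂ hε₁, ?_, ?_, hfixu⟩
    · intro k hk
      rw [mulVec_mul, hfix' k hk]
      exact hfixu _ (ev_ne fun e => by rw [← H.inj e] at hk; omega) (fun l hl => ev_ne (hl k))
        fun a ha => ev_ne fun e => by rw [H.inj e] at ha; omega
    · rw [mulVec_mul, ← hw, mulVec_mul]
      refine eq_ev_add_of_zero H ?_ ?_ o1 ?_
      · rw [o2 b (swap_ne b).symm]; exact hw₁b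
      · intro a ha1 ha2
        rw [o2 a ha2]
        rcases lt_trichotomy (pidx a) j with h | h | h
        · have hlow' := H.fixed_coord hg' (hfix' a.swap (by rwa [pidx_swap])) (ev F (p b))
          rw [Sum.swap_swap] at hlow'
          rw [c2 _ (fun z hz e => by
            rw [← H.inj e, hSdef, Finset.mem_filter] at hz; omega) (fun e => ha2 (H.inj e)), hw, hlow',
            ev_ne fun e => ha1 (H.inj e)]
        · rcases eq_or_swap_of_pidx (h.trans hbj.symm) with e | e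
          · exact absurd e ha1
          · exact absurd e ha2
        · exact c1 a (by rw [hSdef, Finset.mem_filter]; exact ⟨Finset.mem_univ _, h⟩)
      · rw [H.iso ε₂ hε₂, H.iso ε₁ hε₁, hw, hg', H.single]
  -- a nonzero coordinate in the image of the first vector
  set w := (g : Matrix ι ι F) *ᵥ ev F (p x) with hw
  have hne : w ≠ 0 := by
    intro e
    have h' : ((g⁻¹ * g : GL ι F) : Matrix ι ι F) *ᵥ ev F (p x) = 0 := by rw [mulVec_mul, ← hw, e, Matrix.mulVec_zero]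
    rw [inv_mul_cancel, Units.val_one, Matrix.one_mulVec] at h'
    have := congrFun h' (p x)
    rw [ev_self] at this
    exact one_ne_zero this
  obtain ⟨c, hc⟩ := hinner w (by rw [hw, hg, H.single]) hne
  have hcj : j ≤ pidx c := by
    by_contra h
    push Not at h
    rw [hw, hlow c h, ev_ne (fun e => by rw [H.inj e, hxp] at h; omega)] at hc
    exact hc rfl
  obtain ⟨ε₀, hε₀, h1, hf0⟩ := H.make_one hj hcj hc
  have hfix0 : FixTo p j (ε₀ * g) := fun k hk => by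
    rw [mulVec_mul, hfix k hk]
    exact hf0 _ fun l hl => ev_ne fun e => by rw [H.inj e] at hl; omega
  obtain ⟨ε₁, hε₁, hfix1, hx1, -⟩ := main x hxp (ε₀ * g) (isoMul ε₀ hε₀ g hg) hfix0 (by rw [mulVec_mul, ← hw]; exact h1)
  -- then the partner
  have hg1 := isoMul ε₁ hε₁ _ (isoMul ε₀ hε₀ g hg)
  obtain ⟨ε₂, hε₂, hfix2, hy2, hu2⟩ := main x.swap (by rw [pidx_swap, hxp]) (ε₁ * (ε₀ * g)) hg1 hfix1 (by
    rw [H.fixed_coord hg1 hx1, ev_self])
  refine ⟨ε₂ * ε₁ * ε₀, mul_mem (mul_mem hε₂ hε₁) hε₀, fun k hk => ?_⟩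
  rw [show ε₂ * ε₁ * ε₀ * g = ε₂ * (ε₁ * (ε₀ * g)) by simp [mul_assoc]]
  rcases Nat.lt_succ_iff_lt_or_eq.mp hk with h | h
  · exact hfix2 k h
  rcases eq_or_swap_of_pidx (h.trans hxp.symm) with rfl | rfl
  · rw [mulVec_mul, hx1]
    exact hu2 _ (ev_ne fun e => swap_ne x (H.inj e)) (fun l hl => ev_ne (hl x))
      fun a ha => ev_ne fun e => by rw [H.inj e] at ha; omega
  · exact hy2

theorem Hyp.reduce (H : Hyp p Q E) {g : GL ι F} (hg : ∀ v, Q ((g : Matrix ι ι F) *ᵥ v) = Q v)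
    (hinner : ∀ w : ι → F, Q w = 0 → w ≠ 0 → ∃ a, w (p a) ≠ 0) :
    ∀ j, j < m → ∃ ε ∈ E, FixTo p j (ε * g)
  | 0, _ => ⟨1, one_mem _, fun k hk => absurd hk (Nat.not_lt_zero _)⟩
  | j + 1, hj => by
    obtain ⟨ε, hε, h⟩ := Hyp.reduce H hg hinner j (by omega)
    obtain ⟨δ, hδ, h'⟩ := H.step hj (g := ε * g) (fun v => by rw [mulVec_mul, H.iso ε hε, hg]) h hinner
    exact ⟨δ * ε, mul_mem hδ hε, by rwa [mul_assoc]⟩

/-- If every element is one of `E` times an element of an abelian-modulo-`E` set normalising `E`, the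
commutators lie in `E`. -/
theorem commutator_mem_of_factor {G : Type*} [Group G] {E : Subgroup G} (S : Set G)
    (hn : ∀ s ∈ S, s ∈ Subgroup.normalizer (E : Set G)) (hc : ∀ s ∈ S, ∀ s' ∈ S, s * s' * s⁻¹ * s'⁻¹ ∈ E)
    {g h : G} (hg : ∃ e ∈ E, ∃ s ∈ S, g = e * s) (hh : ∃ e ∈ E, ∃ s ∈ S, h = e * s) :
    g * h * g⁻¹ * h⁻¹ ∈ E := by
  obtain ⟨e, he, s, hs, rfl⟩ := hg
  obtain ⟨e', he', s', hs', rfl⟩ := hh
  have h1 := (Subgroup.mem_normalizer_iff.mp (hn s hs) e').mp he'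
  have h2 := (Subgroup.mem_normalizer_iff.mp (hn s' hs') e⁻¹).mp (inv_mem he)
  have := mul_mem (mul_mem (mul_mem (mul_mem he h1) (hc s hs s' hs')) h2) (inv_mem he')
  simpa [mul_assoc] using this

end Cfsg.Agent.Classical.OrthGen
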