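import Cfsg.Agent.Lib.Classical.OrthSum
import Cfsg.Agent.Lib.Classical.NotMaxOrth
import Cfsg.Agent.Lib.Classical.MaxLinTransv

/-!
Siegel transformations generate the commutator subgroup of an orthogonal group; stabilisers of totally singular
subspaces are maximal.
-/

set_option autoImplicit false
set_option linter.unusedSectionVars false
set_option linter.style.haveILetI false
set_option maxHeartbeats 400000

open Module Matrix QuadraticMap

namespace Cfsg.Agent.Classical.Siegel

open Refl MaxLin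
open scoped commutatorElement

variable {F : Type*} [Field F] [Fintype F] {ι : Type} [Fintype ι] [DecidableEq ι] (Q : QuadraticForm F (ι → F))

local notation "V" => ι → F

theorem polar_diag (x : V) : polar Q x x = 2 * Q x := by rw [polar_self, nsmul_eq_mul]; norm_num

theorem Q_add (x y : V) : Q (x + y) = Q x + Q y + polar Q x y := QuadraticMap.map_add (⇑Q) x y

theorem Q_smul (c : F) (x : V) : Q (c • x) = c ^ 2 * Q x := by
  rw [QuadraticMap.map_smul, smul_eq_mul, pow_two]

/-- The Siegel transformation as an invertible matrix. -/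
noncomputable def gSieg (a b : V) (ha : Q a = 0) (hab : polar Q a b = 0) : GL ι F :=
  transGL (-(polarBilin Q).flip b + Q b • (polarBilin Q).flip a) a
      (by simp [hab, polar_diag, ha]) *
    transGL ((polarBilin Q).flip a) b (by simpa [polar_comm (⇑Q) b a] using hab)

theorem gSieg_apply (a b : V) (ha : Q a = 0) (hab : polar Q a b = 0) (x : V) :
    (gSieg Q a b ha hab : Matrix ι ι F) *ᵥ x = x + polar Q x a • b - (polar Q x b + Q b * polar Q x a) • a := by
  rw [gSieg, Units.val_mul, ← Matrix.mulVec_mulVec, transGL_apply, transGL_apply]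
  simp only [LinearMap.add_apply, LinearMap.neg_apply, LinearMap.smul_apply, LinearMap.BilinForm.flip_apply,
    LinearMap.flip_apply, polarBilin_apply_apply, polar_add_left, polar_smul_left, smul_eq_mul,
    polar_comm (⇑Q) b a, hab, polar_diag]
  module

theorem gSieg_iso (a b : V) (ha : Q a = 0) (hab : polar Q a b = 0) (x : V) :
    Q ((gSieg Q a b ha hab : Matrix ι ι F) *ᵥ x) = Q x := by
  rw [gSieg_apply, sub_eq_add_neg, ← neg_smul, Q_add, Q_add, Q_smul, Q_smul, ha]
  simp only [polar_add_left, polar_smul_left, polar_smul_right, smul_eq_mul, polar_comm (⇑Q) b a, hab]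
  ring

/-- The Siegel transformation as an isometry. -/
noncomputable def sO (a b : V) (ha : Q a = 0) (hab : polar Q a b = 0) : O Q :=
  ⟨gSieg Q a b ha hab, fun x _ => gSieg_iso Q a b ha hab x⟩

theorem act_sO (a b : V) (ha : Q a = 0) (hab : polar Q a b = 0) (x : V) :
    act Q (sO Q a b ha hab) x = x + polar Q x a • b - (polar Q x b + Q b * polar Q x a) • a :=
  gSieg_apply Q a b ha hab x

theorem O_ext {g h : O Q} (e : ∀ x, act Q g x = act Q h x) : g = h := Subtype.ext (gl_ext e)

theorem act_smul (g : O Q) (c : F) (x : V) : act Q g (c • x) = c • act Q g x := Matrix.mulVec_smul _ _ _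

theorem act_inv' (g : O Q) (x : V) : act Q g⁻¹ (act Q g x) = x := by
  rw [← act_mul, inv_mul_cancel]; exact Matrix.one_mulVec x

theorem act_sub (g : O Q) (x y : V) : act Q g (x - y) = act Q g x - act Q g y := Matrix.mulVec_sub _ _ _

/-- The subgroup generated by the Siegel transformations. -/
def E : Subgroup (O Q) :=
  Subgroup.closure {g | ∃ (a b : V) (ha : Q a = 0) (hab : polar Q a b = 0), g = sO Q a b ha hab}

theorem sO_mem (a b : V) (ha : Q a = 0) (hab : polar Q a b = 0) : sO Q a b ha hab ∈ E Q :=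
  Subgroup.subset_closure ⟨a, b, ha, hab, rfl⟩

instance : (E Q).Normal := by
  refine ⟨fun x hx g => ?_⟩
  suffices E Q ≤ (E Q).comap (MulAut.conj g).toMonoidHom from this hx
  rw [E, Subgroup.closure_le]
  rintro _ ⟨a, b, ha, hab, rfl⟩
  have ha' : Q (act Q g a) = 0 := by rw [Q_act, ha]
  have hab' : polar Q (act Q g a) (act Q g b) = 0 := by rw [polar_act, hab]
  show g * sO Q a b ha hab * g⁻¹ ∈ E Q
  rw [show g * sO Q a b ha hab * g⁻¹ = sO Q _ _ ha' hab' from O_ext Q fun x => by
    obtain ⟨y, rfl⟩ : ∃ y, x = act Q g y := ⟨_, (act_inv Q g x).symm⟩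
    rw [act_mul, act_mul, act_inv', act_sO, act_sO, act_sub, act_add, act_smul, act_smul, polar_act, polar_act,
      Q_act]]
  exact sO_mem Q _ _ _ _

theorem one_step {p a b : V} (hp : Q p = 0) (hpa : polar Q p a = 1) (hpb : polar Q p b = 1) (hab : Q a = Q b) :
    ∃ (b' : V) (h : polar Q p b' = 0), act Q (sO Q p b' hp h) a = b := by
  refine ⟨b - a, by rw [polar_sub_right, hpb, hpa, sub_self], ?_⟩
  rw [act_sO, polar_comm (⇑Q) a p, hpa, one_smul, mul_one]
  have h1 : Q (b - a) = Q b + Q a - polar Q b a := by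
    rw [sub_eq_add_neg, Q_add, QuadraticMap.map_neg, polar_neg_right]; ring
  have h0 : polar Q a (b - a) + Q (b - a) = 0 := by
    rw [polar_sub_right, polar_diag, h1, hab, polar_comm (⇑Q) b a]; ring
  rw [h0, zero_smul, sub_zero, add_sub_cancel]

variable (hQ : (polarBilin Q).Nondegenerate)

include hQ

theorem eq_zero_of (x : V) (h : ∀ y, polar Q y x = 0) : x = 0 :=
  hQ.1 x fun y => by rw [polarBilin_apply_apply, polar_comm]; exact h y

theorem exists_polar_ne {x : V} (hx : x ≠ 0) : ∃ y, polar Q y x ≠ 0 := by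
  by_contra hc; push Not at hc; exact hx (eq_zero_of Q hQ x hc)

theorem exists_partner {a : V} (ha0 : a ≠ 0) (ha : Q a = 0) : ∃ c, Q c = 0 ∧ polar Q c a = 1 := by
  obtain ⟨y, hy⟩ := exists_polar_ne Q hQ ha0
  obtain ⟨y', h1⟩ : ∃ y', polar Q y' a = 1 :=
    ⟨(polar Q y a)⁻¹ • y, by rw [polar_smul_left, smul_eq_mul, inv_mul_cancel₀ hy]⟩
  refine ⟨y' + (-Q y') • a, ?_, ?_⟩
  · rw [Q_add, Q_smul, ha, polar_smul_right, smul_eq_mul, h1]; ring
  · rw [polar_add_left, polar_smul_left, polar_diag, ha, h1]; simp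

omit hQ in
theorem exists_zero_lin {m : ℕ} (L : Fin m → Dual F (ι → F)) (hm : m + 2 < Fintype.card ι) :
    ∃ x : V, x ≠ 0 ∧ Q x = 0 ∧ ∀ k, L k x = 0 := by
  classical
  obtain ⟨p, hp⟩ := CharP.exists F
  obtain ⟨-, hpp, -⟩ := FiniteField.card F p
  letI : LinearOrder ι := LinearOrder.lift' (Fintype.equivFin ι) (Equiv.injective _)
  set C : LinearMap.BilinForm F (ι → F) := Q.toBilin (Pi.basisFun F ι) with hC
  have hCQ : ∀ x, C x x = Q x := fun x => by
    conv_rhs => rw [← QuadraticMap.toQuadraticMap_toBilin Q (Pi.basisFun F ι)]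
    rw [LinearMap.BilinMap.toQuadraticMap_apply]
  let e : ι → V := fun i => Pi.single i 1
  have hsum : ∀ x : V, x = ∑ i, x i • e i := fun x => by
    funext j; simp [e, Finset.sum_apply, Pi.single_apply]
  let qp : MvPolynomial ι F :=
    ∑ i, ∑ j, MvPolynomial.C (C (e i) (e j)) * (MvPolynomial.X i * MvPolynomial.X j)
  have hqp : ∀ x : V, MvPolynomial.eval x qp = Q x := by
    intro x
    rw [← hCQ]
    conv_rhs => rw [hsum x]
    simp only [qp, map_sum, map_mul, MvPolynomial.eval_C, MvPolynomial.eval_X, map_smul, LinearMap.sum_apply,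
      LinearMap.smul_apply, smul_eq_mul, Finset.mul_sum]
    rw [Finset.sum_comm]
    refine Finset.sum_congr rfl fun i _ => Finset.sum_congr rfl fun j _ => ?_
    ring
  have hdeg : qp.totalDegree ≤ 2 :=
    MvPolynomial.totalDegree_finsetSum_le fun i _ => MvPolynomial.totalDegree_finsetSum_le fun j _ => by
      refine (MvPolynomial.totalDegree_mul _ _).trans ?_
      rw [MvPolynomial.totalDegree_C, zero_add]
      exact (MvPolynomial.totalDegree_mul _ _).trans (by simp)
  let lp : Dual F (ι → F) → MvPolynomial ι F := fun l => ∑ i, MvPolynomial.C (l (e i)) * MvPolynomial.X i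
  have hlp : ∀ (l : Dual F (ι → F)) (x : V), MvPolynomial.eval x (lp l) = l x := by
    intro l x
    conv_rhs => rw [hsum x]
    simp [lp, mul_comm]
  have hldeg : ∀ l : Dual F (ι → F), (lp l).totalDegree ≤ 1 := fun l =>
    MvPolynomial.totalDegree_finsetSum_le fun i _ => by
      refine (MvPolynomial.totalDegree_mul _ _).trans ?_
      simp
  let f : Option (Fin m) → MvPolynomial ι F := fun o => o.elim qp fun k => lp (L k)
  have hlt : ∑ i, (f i).totalDegree < Fintype.card ι := by
    refine lt_of_le_of_lt ?_ hm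
    rw [Fintype.sum_option, add_comm m]
    exact add_le_add hdeg ((Finset.sum_le_card_nsmul _ _ 1 fun k _ => hldeg _).trans (by simp))
  have hdvd := char_dvd_card_solutions_of_fintype_sum_lt p hlt
  have hzero : ∀ i, MvPolynomial.eval (0 : V) (f i) = 0 := by
    rintro (_ | k)
    · show MvPolynomial.eval (0 : V) qp = 0
      rw [hqp, QuadraticMap.map_zero]
    · show MvPolynomial.eval (0 : V) (lp (L k)) = 0
      rw [hlp, map_zero]
  have : ∃ x : {x : V // ∀ i, MvPolynomial.eval x (f i) = 0}, x ≠ ⟨0, hzero⟩ := by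
    refine Fintype.exists_ne_of_one_lt_card ?_ _
    exact lt_of_lt_of_le hpp.one_lt (Nat.le_of_dvd (Fintype.card_pos_iff.2 ⟨⟨0, hzero⟩⟩) hdvd)
  obtain ⟨⟨x, hx⟩, hne⟩ := this
  exact ⟨x, fun e0 => hne (Subtype.ext e0), by simpa [f, hqp] using hx none,
    fun k => by simpa [f, hlp] using hx (some k)⟩

theorem exists_p_orth {a b : V} (ha0 : a ≠ 0) (hab : ∀ r : F, b ≠ r • a) (ha : Q a = 0) (horth : polar Q a b = 0) :
    ∃ p, Q p = 0 ∧ polar Q p a = 1 ∧ polar Q p b = 1 := by
  obtain ⟨c, hc, hca⟩ := exists_partner Q hQ ha0 ha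
  obtain ⟨z, hza, hzb⟩ : ∃ z, polar Q z a = 0 ∧ polar Q z b ≠ 0 := by
    by_contra hh
    push Not at hh
    refine hab (polar Q c b) (sub_eq_zero.1 (eq_zero_of Q hQ _ fun x => ?_))
    have := hh (x - polar Q x a • c) (by rw [polar_sub_left, polar_smul_left, hca, smul_eq_mul, mul_one, sub_self])
    rw [polar_sub_left, polar_smul_left, smul_eq_mul] at this
    rw [polar_sub_right, polar_smul_right, smul_eq_mul, mul_comm]; exact this
  set y := c + ((1 - polar Q c b) / polar Q z b) • z
  have hya : polar Q y a = 1 := by rw [polar_add_left, polar_smul_left, hca, hza, smul_zero, add_zero]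
  have hyb : polar Q y b = 1 := by
    rw [polar_add_left, polar_smul_left, smul_eq_mul, div_mul_cancel₀ _ hzb, add_sub_cancel]
  refine ⟨y + (-Q y) • a, ?_, ?_, ?_⟩
  · rw [Q_add, Q_smul, ha, polar_smul_right, smul_eq_mul, hya]; ring
  · rw [polar_add_left, polar_smul_left, polar_diag, ha, hya]; simp
  · rw [polar_add_left, polar_smul_left, horth, hyb]; simp

variable (hn : 7 ≤ Fintype.card ι)

include hn

theorem trans_sing {a b : V} (ha0 : a ≠ 0) (hb0 : b ≠ 0) (ha : Q a = 0) (hb : Q b = 0) :
    ∃ e ∈ E Q, act Q e a = b := by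
  have one : ∀ a b : V, a ≠ 0 → Q a = 0 → Q b = 0 → polar Q a b = 0 → (∀ r : F, b ≠ r • a) →
      ∃ e ∈ E Q, act Q e a = b := by
    intro a b ha0 ha hb horth hab
    obtain ⟨p, hp, hpa, hpb⟩ := exists_p_orth Q hQ ha0 hab ha horth
    obtain ⟨b', h, e⟩ := one_step Q hp hpa hpb (ha.trans hb.symm)
    exact ⟨_, sO_mem Q p b' hp h, e⟩
  obtain ⟨c₁, hc₁, hc₁a⟩ := exists_partner Q hQ ha0 ha
  obtain ⟨c₂, hc₂, hc₂b⟩ := exists_partner Q hQ hb0 hb
  obtain ⟨d, hd0, hd, hL⟩ := exists_zero_lin Q ![(polarBilin Q).flip a, (polarBilin Q).flip b, polarBilin Q c₁,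
    polarBilin Q c₂] (by omega)
  have hda : polar Q d a = 0 := hL 0
  have hdb : polar Q d b = 0 := hL 1
  have hdc1 : polar Q c₁ d = 0 := hL 2
  have hdc2 : polar Q c₂ d = 0 := hL 3
  obtain ⟨e₁, he₁, ha'⟩ := one a d ha0 ha hd (by rw [polar_comm]; exact hda) (fun r e => hd0 (by
    rw [e, polar_smul_right, hc₁a, smul_eq_mul, mul_one] at hdc1
    rw [e, hdc1, zero_smul]))
  obtain ⟨e₂, he₂, hb'⟩ := one d b hd0 hd hb hdb (fun r e => by
    have : polar Q c₂ b = 0 := by rw [e, polar_smul_right, hdc2, smul_zero]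
    rw [hc₂b] at this
    exact one_ne_zero this)
  exact ⟨e₂ * e₁, mul_mem he₂ he₁, by rw [act_mul, ha', hb']⟩

omit hn in
theorem ts_dim {S : Submodule F (ι → F)} (hS : ∀ s ∈ S, Q s = 0) : 2 * finrank F S ≤ Fintype.card ι := by
  have hle : S ≤ LinearMap.BilinForm.orthogonal (polarBilin Q) S := fun x hx t ht => by
    show polar Q t x = 0
    rw [polar, hS _ (S.add_mem ht hx), hS _ ht, hS _ hx]; ring
  have := Submodule.finrank_mono hle
  rw [LinearMap.BilinForm.finrank_orthogonal hQ, finrank_pi] at this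
  omega

omit hn in
theorem exists_aniso_perp {m : ℕ} (W : Fin m → V) (hm : 2 * m < Fintype.card ι) :
    ∃ e, (∀ k, polar Q e (W k) = 0) ∧ Q e ≠ 0 := by
  by_contra hc
  push Not at hc
  let L : (ι → F) →ₗ[F] (Fin m → F) := LinearMap.pi fun k => (polarBilin Q).flip (W k)
  have h1 := ts_dim Q hQ (S := LinearMap.ker L) fun s hs => hc s fun k => congrFun hs k
  have h2 := LinearMap.finrank_range_add_finrank_ker L
  have h3 := Submodule.finrank_le (LinearMap.range L)
  rw [finrank_fin_fun] at h3
  rw [finrank_pi] at h2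
  omega

theorem exists_sing_nonorth {v : V} (hv : v ≠ 0) : ∃ p, Q p = 0 ∧ polar Q p v ≠ 0 := by
  by_contra hc
  push Not at hc
  obtain ⟨a, ha0, ha, -⟩ := exists_zero_lin Q (![] : Fin 0 → Dual F (ι → F)) (by omega)
  obtain ⟨c, hc', hca⟩ := exists_partner Q hQ ha0 ha
  have good : ∀ x, polar Q x a ≠ 0 → polar Q x v = 0 := fun x hx => by
    have h := hc (x + (-Q x / polar Q x a) • a) (by
      rw [Q_add, Q_smul, ha, polar_smul_right, smul_eq_mul]; field_simp; ring)
    rwa [polar_add_left, polar_smul_left, hc a ha, smul_zero, add_zero] at h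
  refine hv (eq_zero_of Q hQ v fun x => ?_)
  by_cases hx : polar Q x a = 0
  · have := good (x + c) (by rw [polar_add_left, hx, hca, zero_add]; exact one_ne_zero)
    rwa [polar_add_left, hc c hc', add_zero] at this
  · exact good x hx

/-- Every commutator of isometries is a product of Siegel transformations. -/
theorem commutator_le : commutator (O Q) ≤ E Q := by
  classical
  obtain ⟨a, ha0, ha, -⟩ := exists_zero_lin Q (![] : Fin 0 → Dual F (ι → F)) (by omega)
  obtain ⟨c, hc, hca⟩ := exists_partner Q hQ ha0 ha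
  have hc0 : c ≠ 0 := fun e => by rw [e, polar_zero_left] at hca; exact zero_ne_one hca
  have hac : polar Q a c = 1 := by rw [polar_comm]; exact hca
  have haa : polar Q a a = 0 := by rw [polar_diag, ha, mul_zero]
  have hcc : polar Q c c = 0 := by rw [polar_diag, hc, mul_zero]
  have hu : ∀ s : F, Q (a + s • c) = s := fun s => by
    rw [Q_add, Q_smul, ha, hc, polar_smul_right, smul_eq_mul, hac]; ring
  let π := QuotientGroup.mk' (E Q)
  have hpi : ∀ v (hv : Q v ≠ 0), π (refl Q v hv) = π (refl Q (a + Q v • c) (by rw [hu]; exact hv)) := by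
    intro v hv
    obtain ⟨p, hp, hpv⟩ := exists_sing_nonorth Q hQ hn (v := v) (fun e => hv (by rw [e, QuadraticMap.map_zero]))
    set p' := (polar Q p v)⁻¹ • p
    have hp' : Q p' = 0 := by rw [Q_smul, hp, mul_zero]
    have hpv' : polar Q p' v = 1 := by rw [polar_smul_left, smul_eq_mul, inv_mul_cancel₀ hpv]
    have hp'0 : p' ≠ 0 := fun e => by rw [e, polar_zero_left] at hpv'; exact zero_ne_one hpv'
    obtain ⟨e₁, he₁, hpc⟩ := trans_sing Q hQ hn hp'0 hc0 hp' hc
    have h1 : polar Q c (act Q e₁ v) = 1 := by rw [← hpc, polar_act]; exact hpv'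
    have h2 : polar Q c (a + Q v • c) = 1 := by rw [polar_add_right, polar_smul_right, hcc, hca]; simp
    obtain ⟨b', hb', he⟩ := one_step Q hc h1 h2 (by rw [Q_act, hu])
    set e := sO Q c b' hc hb' * e₁
    have hev : act Q e v = a + Q v • c := by rw [act_mul, he]
    have hconj : e * refl Q v hv * e⁻¹ = refl Q (a + Q v • c) (by rw [hu]; exact hv) := O_ext Q fun x => by
      obtain ⟨y, rfl⟩ : ∃ y, x = act Q e y := ⟨_, (act_inv Q e x).symm⟩
      rw [act_mul, act_mul, act_inv', act_refl, act_refl, act_sub, act_smul, hev, hu]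
      congr 2
      rw [← hev, polar_act]
    have he1 : π e = 1 := (QuotientGroup.eq_one_iff _).2 (mul_mem (sO_mem Q _ _ _ _) he₁)
    rw [← hconj, map_mul, map_mul, map_inv, he1]
    simp
  obtain ⟨y₁, hy1', hy1⟩ := exists_aniso_perp Q hQ ![a, c] (by omega)
  have hy1a : polar Q y₁ a = 0 := hy1' 0
  have hy1c : polar Q y₁ c = 0 := hy1' 1
  set b := y₁
  set k := Q b
  have hab : polar Q a b = 0 := by rw [polar_comm]; exact hy1a
  have hcb : polar Q c b = 0 := by rw [polar_comm]; exact hy1c
  let w : F → O Q := fun t => sO Q a (t • b) ha (by rw [polar_smul_right, hab, smul_zero]) *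
    sO Q c ((t * k)⁻¹ • b) hc (by rw [polar_smul_right, hcb, smul_zero]) *
    sO Q a (t • b) ha (by rw [polar_smul_right, hab, smul_zero])
  have hw : ∀ t, t ≠ 0 → act Q (w t) a = (-(t ^ 2 * k)⁻¹) • c ∧ act Q (w t) c = (-(t ^ 2 * k)) • a ∧
      ∀ z, polar Q z a = 0 → polar Q z c = 0 → act Q (w t) z = z - (polar Q z b / k) • b := by
    intro t ht
    have htk : t * k ≠ 0 := mul_ne_zero ht hy1
    refine ⟨?_, ?_, fun z hza hzc => ?_⟩ <;>
    · simp only [w, act_mul, act_sO, Q_smul, polar_add_left, polar_sub_left, polar_smul_left, polar_smul_right,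
        smul_eq_mul, haa, hac, hca, hcc, hab, hcb, hy1a, hy1c, polar_diag Q b]
      (try simp only [*])
      match_scalars <;> field_simp <;> ring
  have hsq : ∀ (s t : F) (hs : Q (a + s • c) ≠ 0) (ht : Q (a + t • c) ≠ 0),
      (refl Q _ hs * refl Q _ ht) * (refl Q _ hs * refl Q _ ht) ∈ E Q := by
    intro s t hs ht
    have hs0 : s ≠ 0 := by rw [hu] at hs; exact hs
    have ht0 : t ≠ 0 := by rw [hu] at ht; exact ht
    suffices refl Q _ hs * refl Q _ ht * (refl Q _ hs * refl Q _ ht) = w (t / s) * w 1 by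
      rw [this]
      exact mul_mem (mul_mem (mul_mem (sO_mem Q _ _ _ _) (sO_mem Q _ _ _ _)) (sO_mem Q _ _ _ _))
        (mul_mem (mul_mem (sO_mem Q _ _ _ _) (sO_mem Q _ _ _ _)) (sO_mem Q _ _ _ _))
    refine O_ext Q fun x => ?_
    set z := x - polar Q x c • a - polar Q x a • c with hz
    have hza : polar Q z a = 0 := by simp [hz, polar_sub_left, polar_smul_left, haa, hca]
    have hzc : polar Q z c = 0 := by simp [hz, polar_sub_left, polar_smul_left, hcc, hac]
    have hx : x = polar Q x c • a + polar Q x a • c + z := by rw [hz]; abel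
    obtain ⟨w1a, w1c, w1z⟩ := hw 1 one_ne_zero
    obtain ⟨wa, wc, wz⟩ := hw (t / s) (div_ne_zero ht0 hs0)
    have haz : polar Q a z = 0 := by rw [polar_comm]; exact hza
    have hcz : polar Q c z = 0 := by rw [polar_comm]; exact hzc
    have hbb : polar Q b b = 2 * k := polar_diag Q b
    have r1 : ∀ (r : F) (hr : Q (a + r • c) ≠ 0), act Q (refl Q _ hr) a = (-r) • c ∧
        act Q (refl Q _ hr) c = (-r⁻¹) • a ∧ act Q (refl Q _ hr) z = z := by
      intro r hr
      have hr0 : r ≠ 0 := by rw [hu] at hr; exact hr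
      simp only [act_refl, hu, polar_add_left, polar_smul_left, haa, hac, hca, hcc, haz, hcz, smul_eq_mul]
      refine ⟨?_, ?_, ?_⟩ <;> match_scalars <;> field_simp <;> ring
    obtain ⟨sa, sc, sz⟩ := r1 s hs
    obtain ⟨ta, tc, tz⟩ := r1 t ht
    rw [hx]
    simp only [act_mul, act_add, act_smul, sa, sc, sz, ta, tc, tz, w1a, w1c, w1z z hza hzc, act_sub]
    rw [wz z hza hzc, wz b hy1a hy1c, wa, wc, hbb]
    match_scalars <;> field_simp <;> ring
  have hinv : ∀ v (hv : Q v ≠ 0), refl Q v hv * refl Q v hv = 1 := fun v hv => O_ext Q fun x => by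
    rw [act_mul, act_refl, act_refl, polar_sub_right, polar_smul_right, polar_diag, smul_eq_mul]
    show _ = (1 : Matrix ι ι F) *ᵥ x
    rw [Matrix.one_mulVec]
    match_scalars <;> field_simp <;> ring
  have hcomm : ∀ u v (hu' : Q u ≠ 0) (hv : Q v ≠ 0), Commute (π (refl Q u hu')) (π (refl Q v hv)) := by
    intro u v hu' hv
    rw [hpi u hu', hpi v hv]
    set r := refl Q (a + Q u • c) (by rw [hu]; exact hu')
    set r' := refl Q (a + Q v • c) (by rw [hu]; exact hv)
    have h : π r * π r' * (π r * π r') = 1 := by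
      rw [← map_mul, ← map_mul]; exact (QuotientGroup.eq_one_iff _).2 (hsq _ _ _ _)
    have h1 : π r * π r = 1 := by rw [← map_mul, hinv, map_one]
    have h2 : π r' * π r' = 1 := by rw [← map_mul, hinv, map_one]
    show π r * π r' = π r' * π r
    rw [eq_comm, ← _root_.inv_inj, _root_.mul_inv_rev, inv_eq_of_mul_eq_one_right h1, inv_eq_of_mul_eq_one_right h2,
      inv_eq_of_mul_eq_one_right h]
  have hex : Fintype.card F ≠ 2 ∨ Fintype.card ι ≠ 4 := Or.inr (by omega)
  have hall : ∀ g h : O Q, Commute (π g) (π h) := by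
    have key : ∀ l : List {v : ι → F // Q v ≠ 0}, ∀ x, (∀ v (hv : Q v ≠ 0), Commute (π (refl Q v hv)) x) →
        Commute (π (Disc.reflList Q l)) x := by
      intro l
      induction l with
      | nil => intro x _; show Commute (π 1) x; rw [map_one]; exact Commute.one_left x
      | cons v l ih =>
        intro x hx
        show Commute (π (refl Q v.1 v.2 * Disc.reflList Q l)) x
        rw [map_mul]; exact (hx v.1 v.2).mul_left (ih x hx)
    intro g h
    obtain ⟨l, rfl⟩ := exists_reflList Q hQ hex g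
    obtain ⟨l', rfl⟩ := exists_reflList Q hQ hex h
    exact key l _ fun v hv => (key l' _ fun v' hv' => hcomm v' v hv' hv).symm
  rw [commutator_def, Subgroup.commutator_le]
  intro g _ h _
  refine (QuotientGroup.eq_one_iff _).1 ?_
  show π ⁅g, h⁆ = 1
  rw [map_commutatorElement]
  exact commutatorElement_eq_one_iff_commute.2 (hall g h)

theorem sO_mem_commutator (a b : V) (ha : Q a = 0) (hab : polar Q a b = 0) : sO Q a b ha hab ∈ commutator (O Q) := by
  have hex : Fintype.card F ≠ 2 ∨ Fintype.card ι ≠ 4 := Or.inr (by omega)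
  rcases eq_or_ne a 0 with rfl | ha0
  · rw [show sO Q 0 b ha hab = 1 from O_ext Q fun x => by
      rw [act_sO, polar_zero_right, zero_smul, smul_zero, add_zero, sub_zero]; exact (Matrix.one_mulVec x).symm]
    exact one_mem _
  have haa : polar Q a a = 0 := by rw [polar_diag, ha, mul_zero]
  have main : ∀ b (hab : polar Q a b = 0), Q b ≠ 0 → sO Q a b ha hab ∈ commutator (O Q) := by
    intro b hab hb
    have hba : polar Q b a = 0 := by rw [polar_comm]; exact hab
    have hb' : Q (b + (-Q b) • a) ≠ 0 := by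
      rw [Q_add, Q_smul, ha, polar_smul_right, hba]; simpa using hb
    have he : sO Q a b ha hab = Disc.reflList Q [⟨_, hb'⟩, ⟨b, hb⟩] := O_ext Q fun x => by
      show _ = act Q (refl Q _ hb' * (refl Q b hb * 1)) x
      rw [mul_one, act_mul, act_sO, act_refl, act_refl, Q_add, Q_smul, ha]
      simp only [polar_add_left, polar_smul_left, polar_smul_right, polar_sub_right, hba, hab, smul_eq_mul,
        polar_diag Q b, polar_comm (⇑Q) a x, polar_comm (⇑Q) b x]
      match_scalars <;> field_simp <;> ring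
    rw [he, reflList_mem_iff Q hQ (by omega) hex]
    refine ⟨by simp, ⟨Q b, ?_⟩⟩
    simp [Q_add, Q_smul, ha, polar_smul_right, hba]
  by_cases hb : Q b = 0
  · obtain ⟨e, he', he⟩ := exists_aniso_perp Q hQ ![a, b] (by omega)
    have hea : polar Q e a = 0 := he' 0
    have heb : polar Q e b = 0 := he' 1
    have hae : polar Q a e = 0 := by rw [polar_comm]; exact hea
    have hbe : polar Q b e = 0 := by rw [polar_comm]; exact heb
    have h1 : polar Q a (b - e) = 0 := by rw [polar_sub_right, hab, hae, sub_zero]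
    have hne : Q (b - e) ≠ 0 := by
      rw [sub_eq_add_neg, Q_add, QuadraticMap.map_neg, polar_neg_right, hb, hbe]; simpa using he
    have hsplit : sO Q a b ha hab = sO Q a (b - e) ha h1 * sO Q a e ha hae := O_ext Q fun x => by
      rw [act_mul, act_sO, act_sO, act_sO, sub_eq_add_neg b e, Q_add, QuadraticMap.map_neg]
      simp only [polar_add_left, polar_sub_left, polar_smul_left, polar_add_right, polar_neg_right, smul_eq_mul, haa,
        hea, hab, hae, hbe, heb, polar_diag Q e]
      module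
    rw [hsplit]
    exact mul_mem (main _ h1 hne) (main _ hae he)
  · exact main b hab hb

end Cfsg.Agent.Classical.Siegel
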