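import Cfsg.Agent.Lib.Classical.NotMaxTensorThree
import Cfsg.Agent.Lib.Classical.Siegel
import Cfsg.Agent.Lib.Classical.OrthGen

/-!
Orthogonal tensor decompositions with a three-dimensional factor over three scalars are not maximal.
-/

set_option autoImplicit false
set_option linter.unusedSectionVars false
set_option maxHeartbeats 1600000

open Module Matrix QuadraticMap

namespace Cfsg.Agent.Classical.NotMaxTensor

open Refl Siegel

variable {F : Type*} [Field F] [Fintype F] {ι : Type} [Fintype ι] [DecidableEq ι] {n₂ : ℕ}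

theorem orth_three (hq : Fintype.card F = 3) (Q : QuadraticForm F (ι → F)) (hQ : (polarBilin Q).Nondegenerate)
    (h2 : 4 ≤ n₂) (e : ι ≃ Fin 3 × Fin n₂) (P : GL ι F) (f₁ : (Fin 3 → F) → (Fin 3 → F) → F)
    (f₂ : (Fin n₂ → F) → (Fin n₂ → F) → F) (hf₁ : Cfsg.Geo.IsSymmetricForm f₁) (hf₂ : Cfsg.Geo.IsSymmetricForm f₂)
    (hT : Cfsg.Geo.IsTensorFormStructure id (polar ⇑Q) f₁ f₂ e P) :
    ∃ K : Subgroup (GL ι F), Cfsg.Geo.tensorProductSubgroup 3 n₂ e P ⊓ Cfsg.Geo.omegaGL (⇑Q) < K ∧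
      K < Cfsg.Geo.omegaGL (⇑Q) := by
  classical
  obtain ⟨h3, h20, -⟩ := NotMaxFrame.three_facts hq
  obtain ⟨c, κ, hκ, hc, hperm⟩ := three_frame hq hf₁
  obtain ⟨d, hd, hT'⟩ := form_pure (RingHom.id F) e P (sym_gram hf₁.bilinear) (sym_gram hf₂.bilinear) hT
  have hcard : Fintype.card ι = 3 * n₂ := by simpa using Fintype.card_congr e
  obtain ⟨Φ, hΦ⟩ := exists_blocks (fun x y => pure e P y x)
    (fun x x' y => pure_add_right e P y x x') (fun r x y => pure_smul_right e P r y x)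
    (f := polar ⇑Q) (fun x y v => polar_add_left Q x y v) (fun r x v => polar_smul_left Q r x v) hd
    (f₁ := f₂) (f₂ := f₁) (fun x y x' y' => by rw [hT']; ring) (fun x hx => (hf₂.nondegenerate x hx).2) c hκ hc
    (by rw [hcard])
  have hform : ∀ l x k x', polar Q (Φ (Pi.single l x)) (Φ (Pi.single k x')) =
      d * ((if l = k then κ else 0) * f₂ x x') := fun l x k x' => by rw [hΦ, hΦ, hT', hc]
  -- a singular vector of the large factor
  let B₂ : LinearMap.BilinForm F (Fin n₂ → F) := LinearMap.mk₂ F f₂ hf₂.bilinear.add_left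
    (fun r x y => hf₂.bilinear.smul_left r x y) hf₂.bilinear.add_right (fun r x y => hf₂.bilinear.smul_right r x y)
  obtain ⟨x₁, hx₁0, hx₁, -⟩ := exists_zero_lin (LinearMap.BilinMap.toQuadraticMap B₂)
    (![] : Fin 0 → Dual F (Fin n₂ → F)) (by simp; omega)
  have hx₁ : f₂ x₁ x₁ = 0 := hx₁
  obtain ⟨x₂, hx₂⟩ := (hf₂.nondegenerate x₁ hx₁0).1
  obtain ⟨y, hy, hyne⟩ : ∃ y, f₂ x₁ y = 0 ∧ y ∉ Submodule.span F {x₁} := by
    by_contra hne
    push Not at hne
    have hle : LinearMap.ker (B₂ x₁) ≤ Submodule.span F {x₁} := fun y hy => hne y hy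
    have h4 := Refl.le_finrank_ker (B₂ x₁)
    have h5 := (Submodule.finrank_mono hle).trans (finrank_span_le_card ({x₁} : Set (Fin n₂ → F)))
    simp at h5
    simp at h4
    omega
  have hQa : Q (Φ (Pi.single 0 x₁)) = 0 := by
    have h := hform 0 x₁ 0 x₁
    rw [polar_diag, hx₁, mul_zero, mul_zero] at h
    exact (mul_eq_zero.1 h).resolve_left h20
  have hab : polar Q (Φ (Pi.single 0 x₁)) (Φ (Pi.single 0 y)) = 0 := by rw [hform, hy]; ring
  have hab' : polar Q (Φ (Pi.single 0 x₁)) (Φ (Pi.single 1 x₁)) = 0 := by rw [hform, if_neg (by decide)]; ring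
  set u := sO Q (Φ (Pi.single 0 x₁)) (Φ (Pi.single 0 y)) hQa hab with hu
  set w := sO Q (Φ (Pi.single 0 x₁)) (Φ (Pi.single 1 x₁)) hQa hab' with hw
  have hmem : ∀ g : O Q, ∀ a b (ha : Q a = 0) (hb : polar Q a b = 0), g = sO Q a b ha hb →
      (g : GL ι F) ∈ Cfsg.Geo.omegaGL (⇑Q) := fun g a b ha hb hg =>
    NotMax.mem_omegaGL g (hg ▸ sO_mem_commutator Q hQ (by omega) a b ha hb)
  have hne : d * (κ * f₂ x₂ x₁) ≠ 0 := mul_ne_zero hd (mul_ne_zero hκ hx₂)
  have hf0 : ∀ z, f₂ 0 z = 0 := fun z => by simpa using hf₂.bilinear.smul_left 0 0 z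
  refine between Φ (i := 0) (j := 1) (by decide) _ _ ?_ (hmem u _ _ _ _ hu) (fun l hl x => ?_) (fun x => ?_)
    (fun r => ?_) (hmem w _ _ _ _ hw) (k₁ := 0) (k₂ := 1) (by decide) (l := 0) (x := x₂) ?_ ?_
  · rintro g ⟨hgT, hgS⟩
    obtain ⟨A, B, hAB⟩ := mem_pure e P hgT
    exact frame_hH (fun x y => pure e P y x)
      (fun r x y => pure_smul_left e P r y x) (fun r x y => pure_smul_right e P r y x) hd (f₁ := f₂) (f₂ := f₁)
      (fun x y x' y' => by rw [hT']; ring) hx₂ c 0 (by rw [hc, if_pos rfl]; exact hκ) hperm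
      Φ hΦ g (fun x y => NotMax.omega_polar hgS x y) B A (fun x y => hAB y x)
  · show act Q u _ = _
    rw [hu, act_sO, hform, hform, if_neg hl]; simp
  · show ∃ z, act Q u _ = _
    rw [hu, act_sO, ← map_smul, ← map_smul, ← map_add, ← map_sub, ← Pi.single_smul, ← Pi.single_smul,
      ← Pi.single_add, ← Pi.single_sub]
    exact ⟨_, rfl⟩
  · refine ⟨x₂, fun h => ?_⟩
    change act Q u _ = _ at h
    rw [hu, act_sO, hform, if_pos rfl, ← map_smul, ← map_smul, ← map_add, ← map_sub, ← map_smul, ← Pi.single_smul,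
      ← Pi.single_smul, ← Pi.single_smul, ← Pi.single_add, ← Pi.single_sub] at h
    have h3 := Pi.single_injective _ (Φ.injective h)
    have h4 := congrArg (fun z => f₂ z x₁) h3
    simp only [sub_eq_add_neg, ← neg_smul, hf₂.bilinear.add_left, hf₂.bilinear.smul_left, hx₁, hf₂.symm y x₁, hy,
      mul_zero, add_zero] at h4
    have hr : r = 1 := (mul_eq_right₀ hx₂).1 h4.symm
    rw [hr, one_smul, add_sub_assoc, add_eq_left, sub_eq_zero] at h3
    refine hyne (Submodule.mem_span_singleton.2 ⟨(d * (κ * f₂ x₂ x₁))⁻¹ *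
      (polar Q (Φ (Pi.single 0 x₂)) (Φ (Pi.single 0 y)) + Q (Φ (Pi.single 0 y)) * (d * (κ * f₂ x₂ x₁))), ?_⟩)
    rw [mul_smul, ← h3, inv_smul_smul₀ hne]
  · show Φ.symm (act Q w _) 0 ≠ 0
    rw [hw, act_sO, map_sub, map_add, map_smul, map_smul, LinearEquiv.symm_apply_apply, LinearEquiv.symm_apply_apply,
      LinearEquiv.symm_apply_apply]
    intro h
    simp at h
    have h4 := congrArg (fun z => f₂ z x₁) h
    simp only [sub_eq_add_neg, ← neg_smul, hf₂.bilinear.add_left, hf₂.bilinear.smul_left, hx₁, mul_zero, add_zero,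
      hf0] at h4
    exact hx₂ h4
  · show Φ.symm (act Q w _) 1 ≠ 0
    rw [hw, act_sO, map_sub, map_add, map_smul, map_smul, LinearEquiv.symm_apply_apply, LinearEquiv.symm_apply_apply,
      LinearEquiv.symm_apply_apply, hform 0 x₂ 0 x₁, if_pos rfl]
    simp [hx₁0, hd, hκ, hx₂]

end Cfsg.Agent.Classical.NotMaxTensor
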