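import Cfsg.Agent.Lib.Classical.NotMaxTensor
import Cfsg.Agent.Lib.Classical.NotMaxFrameOrth

/-!
Three-dimensional symmetric forms over three scalars: the frame of a tensor factor.
-/

set_option autoImplicit false
set_option linter.unusedSectionVars false
set_option maxHeartbeats 1600000

open Module Matrix

namespace Cfsg.Agent.Classical.NotMaxTensor

variable {F : Type*} [Field F] [Fintype F]

theorem sym_gram {s : ℕ} {f : (Fin s → F) → (Fin s → F) → F} (hf : Cfsg.Geo.IsBilinearForm f) (x y : Fin s → F) :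
    f x y = Cfsg.Geo.formOfGram (RingHom.id F) (Cfsg.Geo.gramMatrix f) x y :=
  eq_gram (RingHom.id F) hf.add_left hf.smul_left hf.add_right hf.smul_right x y

/-- The frame of a three-dimensional symmetric form over three scalars, permuted by every similitude. -/
theorem three_frame (hq : Fintype.card F = 3) {f₂ : (Fin 3 → F) → (Fin 3 → F) → F}
    (hf : Cfsg.Geo.IsSymmetricForm f₂) :
    ∃ (c : Basis (Fin 3) F (Fin 3 → F)) (κ : F), κ ≠ 0 ∧ (∀ l k, f₂ (c l) (c k) = if l = k then κ else 0) ∧
      ∀ (B : Matrix (Fin 3) (Fin 3) F) (μ : F), μ ≠ 0 → (∀ y y', f₂ (B *ᵥ y) (B *ᵥ y') = μ * f₂ y y') →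
        ∃ (π : Equiv.Perm (Fin 3)) (r : Fin 3 → F), ∀ l, B *ᵥ c l = r l • c (π l) := by
  classical
  obtain ⟨h3, h2, -⟩ := NotMaxFrame.three_facts hq
  let B₂ : LinearMap.BilinForm F (Fin 3 → F) := LinearMap.mk₂ F f₂ hf.bilinear.add_left
    (fun r x y => hf.bilinear.smul_left r x y) hf.bilinear.add_right (fun r x y => hf.bilinear.smul_right r x y)
  let Q : QuadraticForm F (Fin 3 → F) := LinearMap.BilinMap.toQuadraticMap B₂
  have hQ : ∀ x, Q x = f₂ x x := fun x => rfl
  have hpol : ∀ x y, QuadraticMap.polar Q x y = 2 * f₂ x y := fun x y => by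
    simp only [QuadraticMap.polar, hQ, hf.bilinear.add_left, hf.bilinear.add_right, hf.symm y x]
    ring
  have hW : Cfsg.Geo.IsNondegenerateOn (QuadraticMap.polar ⇑Q) (⊤ : Submodule F (Fin 3 → F)) := by
    intro w _ hne
    obtain ⟨⟨x, hx⟩, ⟨y, hy⟩⟩ := hf.nondegenerate w hne
    refine ⟨⟨x, Submodule.mem_top, ?_⟩, ⟨y, Submodule.mem_top, ?_⟩⟩
    · rw [hpol]; exact mul_ne_zero h2 hx
    · rw [hpol]; exact mul_ne_zero h2 hy
  obtain ⟨κ, v, hκ, hv, ho⟩ := NotMaxFrame.exists_equal_frame hq Q ⊤ hW (by rw [finrank_top, Module.finrank_fin_fun])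
  let c : Basis (Fin 3) F (Fin 3 → F) := v.map (LinearEquiv.ofTop ⊤ rfl)
  have hc : ∀ l k, f₂ (c l) (c k) = if l = k then κ else 0 := fun l k => by
    split_ifs with h
    · subst h; exact hv l
    · have := ho l k h
      rw [hpol] at this
      exact (mul_eq_zero.1 this).resolve_left h2
  refine ⟨c, κ, hκ, hc, fun B μ hμ hB => ?_⟩
  have hsq : ∀ r : F, r ≠ 0 → r * r = 1 := fun r hr => by
    have := FiniteField.pow_card_sub_one_eq_one r hr
    rwa [hq, show (3 : ℕ) - 1 = 2 from rfl, pow_two] at this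
  have hμ1 : μ = 1 := by
    let Z : Matrix (Fin 3) (Fin 3) F := Matrix.of fun l k => c.repr (B *ᵥ c l) k
    have hval : ∀ y y', f₂ y y' = κ * ∑ l, c.repr y l * c.repr y' l := fun y y' => by
      show B₂ y y' = _
      conv_lhs => rw [← c.sum_repr y, ← c.sum_repr y']
      simp only [map_sum, map_smul, LinearMap.sum_apply, LinearMap.smul_apply, smul_eq_mul,
        show ∀ l k, B₂ (c l) (c k) = if l = k then κ else 0 from hc, mul_ite, mul_zero, Finset.sum_ite_eq',
        Finset.sum_ite_eq, Finset.mem_univ, if_true, Finset.mul_sum]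
      exact Finset.sum_congr rfl fun l _ => by ring
    have hZ : Z * Zᵀ = μ • (1 : Matrix (Fin 3) (Fin 3) F) := by
      ext l k
      have h1 := hB (c l) (c k)
      rw [hval, hc] at h1
      simp only [Z, Matrix.mul_apply, Matrix.transpose_apply, Matrix.of_apply, Matrix.smul_apply, Matrix.one_apply,
        smul_eq_mul]
      refine mul_left_cancel₀ hκ (h1.trans ?_)
      split_ifs <;> ring
    have hd := congrArg Matrix.det hZ
    rw [Matrix.det_mul, Matrix.det_transpose, Matrix.det_smul, Matrix.det_one, Fintype.card_fin, mul_one] at hd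
    have hd0 : Z.det ≠ 0 := fun e => by
      rw [e, mul_zero] at hd
      exact pow_ne_zero 3 hμ hd.symm
    rw [hsq _ hd0, pow_succ, pow_two, hsq μ hμ, one_mul] at hd
    exact hd.symm
  refine frame_perm (RingHom.id F) hf.bilinear.add_left hf.bilinear.smul_left hf.bilinear.add_right
    hf.bilinear.smul_right c hκ hc hsq ?_ B (fun y y' => by rw [hB, hμ1, one_mul])
  intro N hN h1
  interval_cases N
  · simp at h1
  · rfl
  · exfalso
    rw [Nat.cast_ofNat] at h1
    exact one_ne_zero (α := F) (by linear_combination h1)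
  · exfalso
    rw [Nat.cast_ofNat] at h1
    exact one_ne_zero (α := F) (by linear_combination h3 - h1)

end Cfsg.Agent.Classical.NotMaxTensor
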