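import Cfsg.Agent.Lib.Classical.NotMaxFrame
import Cfsg.Prelude.Def_LieClassical

/-!
Unitary groups over four scalars: planes have exactly two non-isotropic lines.
-/

set_option autoImplicit false
set_option linter.style.haveILetI false
set_option linter.unusedSectionVars false

open Module Matrix
open scoped commutatorElement

namespace Cfsg.Agent.Classical.NotMaxUnitary

open NotMaxWreath NotMaxFrame

variable {F : Type*} [Field F] [Fintype F] {n : ℕ} (hF : Fintype.card F = 4)

local notation "h" => Cfsg.hermForm n F 2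

include hF

theorem two_eq_zero : (2 : F) = 0 := by
  have hc := FiniteField.cast_card_eq_zero F
  rw [hF] at hc; norm_num at hc
  exact mul_self_eq_zero.1 (show (2 : F) * 2 = 0 by rw [← hc]; norm_num)

theorem pow_four (a : F) : a ^ 4 = a := hF ▸ FiniteField.pow_card a

theorem h_add_left (x y z : Fin n → F) : h (x + y) z = h x z + h y z := by
  simp only [Cfsg.hermForm, Pi.add_apply, add_mul, Finset.sum_add_distrib]

theorem h_add_right (x y z : Fin n → F) : h x (y + z) = h x y + h x z := by
  simp only [Cfsg.hermForm, Pi.add_apply, ← Finset.sum_add_distrib]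
  refine Finset.sum_congr rfl fun i _ => ?_
  linear_combination (x i * (y i * z i)) * two_eq_zero hF

theorem h_smul_left (a : F) (x z : Fin n → F) : h (a • x) z = a * h x z := by
  simp only [Cfsg.hermForm, Pi.smul_apply, smul_eq_mul, Finset.mul_sum, mul_assoc]

theorem h_smul_right (a : F) (x z : Fin n → F) : h x (a • z) = a ^ 2 * h x z := by
  simp only [Cfsg.hermForm, Pi.smul_apply, smul_eq_mul, Finset.mul_sum]
  exact Finset.sum_congr rfl fun i _ => by ring

theorem h_swap (x y : Fin n → F) : h y x = (h x y) ^ 2 := by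
  have hadd : ∀ a b : F, (a + b) ^ 2 = a ^ 2 + b ^ 2 := fun a b => by
    linear_combination (a * b) * two_eq_zero hF
  let sq : F →+ F := AddMonoidHom.mk' (fun a => a ^ 2) hadd
  show _ = sq (h x y)
  rw [Cfsg.hermForm, Cfsg.hermForm, map_sum]
  refine Finset.sum_congr rfl fun i _ => ?_
  show y i * x i ^ 2 = (x i * y i ^ 2) ^ 2
  rw [mul_pow, ← pow_mul, pow_four hF]; ring

theorem h_self (x : Fin n → F) : h x x = 0 ∨ h x x = 1 := by
  have e := h_swap hF x x
  have : h x x * (h x x - 1) = 0 := by linear_combination -e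
  exact (mul_eq_zero.1 this).imp id sub_eq_zero.1

theorem h_eq_of_self {x y x' y' : Fin n → F} (e : ∀ a : F, h (a • x + y) (a • x + y) = h (a • x' + y') (a • x' + y'))
    (ex : h x x = h x' x') : h x y = h x' y' := by
  obtain ⟨w, hw0, hw1⟩ : ∃ w : F, w ≠ 0 ∧ w ≠ 1 := by
    classical
    by_contra hcon
    push Not at hcon
    have := Finset.card_le_card (fun a _ => by
      simp only [Finset.mem_insert, Finset.mem_singleton]
      exact (eq_or_ne a 0).imp id (hcon a) : (Finset.univ : Finset F) ⊆ {0, 1})
    rw [Finset.card_univ, hF] at this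
    have := this.trans Finset.card_le_two
    omega
  have ey : h y y = h y' y' := by simpa using e 0
  have key : ∀ a : F, a * h x y + (a * h x y) ^ 2 = a * h x' y' + (a * h x' y') ^ 2 := fun a => by
    have := e a
    simp only [h_add_left hF, h_add_right hF, h_smul_left hF, h_smul_right hF, h_swap hF x y, h_swap hF x' y',
      ex, ey] at this
    linear_combination this
  have k1 := key 1
  have k2 := key w
  have : (w - w ^ 2) * (h x y - h x' y') = 0 := by linear_combination k2 - w ^ 2 * k1
  refine sub_eq_zero.1 ((mul_eq_zero.1 this).resolve_left ?_)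
  rw [show w - w ^ 2 = w * (1 - w) by ring]
  exact mul_ne_zero hw0 (sub_ne_zero.2 (Ne.symm hw1))

/-- An orthonormal basis of a non-degenerate plane. -/
theorem exists_frame (W : Submodule F (Fin n → F)) (hW : Cfsg.Geo.IsNondegenerateOn h W) (hdim : finrank F W = 2) :
    ∃ v : Basis (Fin 2) F W, (∀ l, h (v l : Fin n → F) (v l) = 1) ∧
      ∀ l l', l ≠ l' → h (v l : Fin n → F) (v l') = 0 := by
  obtain ⟨a, ha, ha1⟩ : ∃ a ∈ W, h a a = 1 := by
    by_contra hcon
    push Not at hcon
    have hiso : ∀ x ∈ W, h x x = 0 := fun x hx => (h_self hF x).resolve_right (hcon x hx)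
    haveI : Nontrivial W := (Module.finrank_pos_iff (R := F)).1 (by omega)
    obtain ⟨⟨z, hz⟩, hz0⟩ := exists_ne (0 : W)
    obtain ⟨⟨x, hx, hxz⟩, -⟩ := hW z hz (fun e => hz0 (Subtype.ext e))
    refine hxz ((h_eq_of_self hF (x := x) (y := z) (x' := (0 : Fin n → F)) (y' := 0) (fun a => ?_) ?_).trans ?_)
    · rw [hiso _ (add_mem (W.smul_mem a hx) hz)]; simp [Cfsg.hermForm]
    · rw [hiso x hx]; simp [Cfsg.hermForm]
    · simp [Cfsg.hermForm]
  obtain ⟨z, hz, hza⟩ : ∃ z ∈ W, z ∉ Submodule.span F {a} := by
    by_contra hcon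
    push Not at hcon
    have := (Submodule.finrank_mono (show W ≤ Submodule.span F {a} from hcon)).trans
      (finrank_span_le_card ({a} : Set (Fin n → F)))
    simp at this
    omega
  set b := z + h z a • a with hb
  have hbW : b ∈ W := add_mem hz (W.smul_mem _ ha)
  have hba : h b a = 0 := by
    rw [hb, h_add_left hF, h_smul_left hF, ha1, mul_one]
    linear_combination (h z a) * two_eq_zero hF
  have hab : h a b = 0 := by rw [h_swap hF b a, hba]; ring
  have hli : LinearIndependent F ![(⟨a, ha⟩ : W), ⟨b, hbW⟩] := by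
    rw [LinearIndependent.pair_iff]
    intro s t hst
    have hst' : s • a + t • b = 0 := congrArg Subtype.val hst
    have ht : t = 0 := by
      by_contra ht
      refine hza (Submodule.mem_span_singleton.2 ⟨-(s / t) - h z a, ?_⟩)
      have hb2 : b = (-(s / t)) • a := by
        rw [← inv_smul_smul₀ ht b, show t • b = -(s • a) from eq_neg_of_add_eq_zero_right hst', smul_neg, smul_smul,
          neg_smul, div_eq_inv_mul]
      rw [sub_smul, ← hb2, hb, add_sub_cancel_right]
    refine ⟨?_, ht⟩
    rw [ht, zero_smul, add_zero] at hst'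
    by_contra hs
    have := congrArg (fun u => h u a) hst'
    simp only [h_smul_left hF, ha1] at this
    simp [Cfsg.hermForm] at this
    exact hs this
  let v := basisOfLinearIndependentOfCardEqFinrank hli (by rw [hdim, Fintype.card_fin])
  have hv0 : (v 0 : Fin n → F) = a := by simp [v, coe_basisOfLinearIndependentOfCardEqFinrank]
  have hv1 : (v 1 : Fin n → F) = b := by simp [v, coe_basisOfLinearIndependentOfCardEqFinrank]
  have hb1 : h b b = 1 := by
    rcases h_self hF b with e | e
    · exfalso
      have hb0 : b ≠ 0 := fun e0 => by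
        have := hli.ne_zero 1
        simp [e0] at this
      obtain ⟨⟨x, hx, hxb⟩, -⟩ := hW b hbW hb0
      refine hxb ?_
      have hx' : x = ∑ l, v.repr ⟨x, hx⟩ l • (v l : Fin n → F) := by
        have := congrArg Subtype.val (v.sum_repr ⟨x, hx⟩)
        rw [Submodule.coe_sum] at this; exact this.symm
      rw [hx', Fin.sum_univ_two, h_add_left hF, h_smul_left hF, h_smul_left hF, hv0, hv1, hab, e]
      simp
    · exact e
  refine ⟨v, fun l => ?_, fun l l' hl => ?_⟩
  · fin_cases l
    · show h (v 0 : Fin n → F) (v 0) = 1; rw [hv0, ha1]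
    · show h (v 1 : Fin n → F) (v 1) = 1; rw [hv1, hb1]
  · fin_cases l <;> fin_cases l' <;> first
      | exact absurd rfl hl
      | (show h (v 0 : Fin n → F) (v 1) = 0; rw [hv0, hv1, hab])
      | (show h (v 1 : Fin n → F) (v 0) = 0; rw [hv0, hv1, hba])

theorem plane_blocks {t : ℕ} (ht : 3 ≤ t) (D : Fin t → Submodule F (Fin n → F))
    (hD : Cfsg.Geo.IsNondegenerateMDecomposition h 2 D) :
    ∃ K : Subgroup (GL (Fin n) F),
      Cfsg.Geo.decompositionStabilizer D ⊓ (Cfsg.GU n F 2 ⊓ Cfsg.Geo.specialLinear (Fin n) F) < K ∧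
      K < Cfsg.GU n F 2 ⊓ Cfsg.Geo.specialLinear (Fin n) F := by
  classical
  obtain ⟨hdec, hnd, horth⟩ := hD
  choose v hv ho using fun i => exists_frame hF (D i) (hnd i) (hdec.finrank_eq i)
  obtain ⟨c, hc1, hc2, hc3⟩ := exists_coord hdec v
  have hchi : ∀ a : F, chi (fun _ : Fin 1 => a) = a * a ^ 2 := fun a => by
    by_cases e : a = 0
    · rw [e, zero_mul]; exact chi_zero
    · rw [chi_ne (fun e' => e (congrFun e' 0))]
      have := FiniteField.pow_card_sub_one_eq_one a e
      rw [hF, show (4 : ℕ) - 1 = 3 from rfl] at this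
      linear_combination -this
  have hQ : ∀ u, h u u = cnt (refineCoord c u) := by
    intro u
    set w : Fin t × Fin 2 → Fin n → F := fun p => (v p.1 p.2 : Fin n → F) with hw
    have hu : u = ∑ p : Fin t × Fin 2, c u p.1 p.2 • w p := by
      rw [Fintype.sum_prod_type]
      conv_lhs => rw [← c.symm_apply_apply u, ← Finset.univ_sum_single (c u), map_sum]
      simp only [hc1, hw]
    let L : (Fin n → F) → ((Fin n → F) →+ F) := fun z => AddMonoidHom.mk' (fun x => h x z) fun x y => h_add_left hF x y z
    let R : (Fin n → F) → ((Fin n → F) →+ F) := fun x => AddMonoidHom.mk' (fun z => h x z) fun y z => h_add_right hF x y z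
    conv_lhs => rw [hu]
    show L (∑ p, c u p.1 p.2 • w p) (∑ p, c u p.1 p.2 • w p) = _
    rw [map_sum, cnt_refine, Fintype.sum_prod_type (f := fun p : Fin t × Fin 2 =>
      L (∑ p, c u p.1 p.2 • w p) (c u p.1 p.2 • w p))]
    refine Finset.sum_congr rfl fun i _ => Finset.sum_congr rfl fun l _ => ?_
    show R (c u i l • w (i, l)) (∑ p, c u p.1 p.2 • w p) = _
    rw [map_sum, Finset.sum_eq_single (i, l)]
    · show h (c u i l • w (i, l)) (c u i l • w (i, l)) = _
      rw [h_smul_left hF, h_smul_right hF, hchi, show h (w (i, l)) (w (i, l)) = 1 from hv i l, mul_one]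
    · rintro ⟨j, l'⟩ - hne
      show h (c u i l • w (i, l)) (c u j l' • w (j, l')) = 0
      rw [h_smul_left hF, h_smul_right hF]
      rcases eq_or_ne i j with rfl | hij
      · rw [show h (w (i, l)) (w (i, l')) = 0 from ho i l l' fun e => hne (by rw [e])]; simp
      · rw [show h (w (i, l)) (w (j, l')) = 0 from horth i j hij _ (v i l).2 _ (v j l').2]; simp
    · simp
  refine exists_between le_rfl ht D c hc2 hc3 (by omega) ?_ _ ?_ ?_
  · intro N hN h1
    interval_cases N
    · simp at h1
    · rfl
    · exfalso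
      rw [Nat.cast_ofNat] at h1
      exact one_ne_zero (α := F) (by linear_combination two_eq_zero hF - h1)
  · intro A B hA hB
    have hGU : ∀ A : GL (Fin n) F, (∀ u, cnt (refineCoord c ((A : Matrix (Fin n) (Fin n) F) *ᵥ u)) = cnt (refineCoord c u)) →
        A ∈ Cfsg.GU n F 2 := by
      intro A hA x y
      show h ((A : Matrix (Fin n) (Fin n) F) *ᵥ x) ((A : Matrix (Fin n) (Fin n) F) *ᵥ y) = h x y
      refine h_eq_of_self hF (fun a => ?_) (by rw [hQ, hQ, hA])
      rw [← Matrix.mulVec_smul, ← Matrix.mulVec_add, hQ, hQ, hA]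
    refine Subgroup.mem_inf.2 ⟨?_, ?_⟩
    · rw [commutatorElement_def]
      exact mul_mem (mul_mem (mul_mem (hGU A hA) (hGU B hB)) (inv_mem (hGU A hA))) (inv_mem (hGU B hB))
    · rw [Cfsg.Geo.specialLinear, MonoidHom.mem_ker, map_commutatorElement,
        commutatorElement_eq_one_iff_mul_comm, mul_comm]
  · intro g hg u
    have e := (Subgroup.mem_inf.1 hg).1 u u
    change h ((g : Matrix (Fin n) (Fin n) F) *ᵥ u) ((g : Matrix (Fin n) (Fin n) F) *ᵥ u) = h u u at e
    rwa [hQ, hQ] at e

end Cfsg.Agent.Classical.NotMaxUnitary
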