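import Mathlib
import Cfsg.Prelude.Def_GeometricClasses
import Cfsg.Agent.Lib.Classical.FieldNotMax

/-!
Stabilisers of decompositions into small pieces over small fields preserve the number of non-zero components.
-/

set_option autoImplicit false
set_option linter.style.haveILetI false
set_option linter.unusedSectionVars false

open Module Matrix
open scoped commutatorElement

namespace Cfsg.Agent.Classical.NotMaxWreath

variable {F : Type*} [Field F] {t m : ℕ}

/-- The indicator of a non-zero vector. -/
noncomputable def chi (x : Fin m → F) : F := by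
  classical exact if x = 0 then 0 else 1

/-- The number of non-zero components. -/
noncomputable def cnt (x : Fin t → Fin m → F) : F := ∑ i, chi (x i)

theorem chi_zero : chi (0 : Fin m → F) = 0 := by classical simp [chi]

theorem chi_ne {x : Fin m → F} (h : x ≠ 0) : chi x = 1 := by classical simp [chi, h]

/-- Add the sum of the four window entries to each of them. -/
def window (w : Fin 4 ↪ Fin t) : (Fin t → Fin m → F) →ₗ[F] (Fin t → Fin m → F) where
  toFun x := fun i => x i + if ∃ a, w a = i then ∑ a, x (w a) else 0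
  map_add' x y := funext fun i => by
    simp only [Pi.add_apply]; split_ifs <;> simp [Finset.sum_add_distrib] <;> abel
  map_smul' c x := funext fun i => by
    simp only [Pi.smul_apply, RingHom.id_apply]; split_ifs <;> simp [Finset.smul_sum]

theorem window_apply (w : Fin 4 ↪ Fin t) (x : Fin t → Fin m → F) (a : Fin 4) :
    window w x (w a) = x (w a) + ∑ b, x (w b) := by
  simp [window]

theorem window_apply_off (w : Fin 4 ↪ Fin t) (x : Fin t → Fin m → F) {i : Fin t} (hi : ∀ a, w a ≠ i) :
    window w x i = x i := by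
  simp [window, hi]

theorem six_eq_zero [Fintype F] (hq : (m = 1 ∧ Fintype.card F ≤ 4) ∨ (m = 2 ∧ Fintype.card F = 2)) :
    (6 : F) = 0 ∧ ((2 : F) = 0 ∨ (3 : F) = 0) := by
  have hc := FiniteField.cast_card_eq_zero F
  have hlt := Fintype.one_lt_card (α := F)
  rcases (show Fintype.card F = 2 ∨ Fintype.card F = 3 ∨ Fintype.card F = 4 by omega) with e | e | e <;>
    rw [e] at hc <;> norm_num at hc
  · exact ⟨by linear_combination (3 : F) * hc, Or.inl hc⟩
  · exact ⟨by linear_combination (2 : F) * hc, Or.inr hc⟩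
  · have h2 : (2 : F) = 0 := by
      have : (2 : F) * 2 = 0 := by rw [← hc]; norm_num
      exact mul_self_eq_zero.1 this
    exact ⟨by linear_combination (3 : F) * h2, Or.inl h2⟩

theorem window_window [Fintype F] (hq : (m = 1 ∧ Fintype.card F ≤ 4) ∨ (m = 2 ∧ Fintype.card F = 2))
    (w : Fin 4 ↪ Fin t) (x : Fin t → Fin m → F) : window w (window w x) = x := by
  funext i
  by_cases h : ∃ a, w a = i
  · obtain ⟨a, rfl⟩ := h
    funext k
    simp only [window_apply, Fin.sum_univ_four, Pi.add_apply]
    linear_combination (x (w 0) k + x (w 1) k + x (w 2) k + x (w 3) k) * (six_eq_zero hq).1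
  · push Not at h
    rw [window_apply_off w _ h, window_apply_off w _ h]

theorem chi_sum [Fintype F] (hq : (m = 1 ∧ Fintype.card F ≤ 4) ∨ (m = 2 ∧ Fintype.card F = 2))
    (x : Fin 4 → Fin m → F) : ∑ a, chi (x a + ∑ b, x b) = ∑ a, chi (x a) := by
  classical
  have hlt := Fintype.one_lt_card (α := F)
  have hc := FiniteField.cast_card_eq_zero F
  have hsmall : ∀ a : F, a ≠ 0 → a ^ (Fintype.card F - 1) = 1 := fun a ha => FiniteField.pow_card_sub_one_eq_one a ha
  rcases hq with ⟨rfl, hle⟩ | ⟨rfl, e⟩
  · have hchi : ∀ v : Fin 1 → F, chi v = v 0 ^ (Fintype.card F - 1) := fun v => by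
      by_cases h : v = 0
      · subst h; rw [chi_zero, Pi.zero_apply, zero_pow (by omega)]
      · rw [chi_ne h, hsmall _ fun h0 => h (funext fun k => by rw [Subsingleton.elim k 0]; exact h0)]
    simp only [hchi, Fin.sum_univ_four, Pi.add_apply]
    generalize x 0 0 = a; generalize x 1 0 = b; generalize x 2 0 = c; generalize x 3 0 = d
    rcases (show Fintype.card F = 2 ∨ Fintype.card F = 3 ∨ Fintype.card F = 4 by omega) with e | e | e <;>
      rw [e] at hc ⊢ <;> norm_num at hc ⊢
    · linear_combination (2 * (a + b + c + d)) * hc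
    · linear_combination (2 * (a + b + c + d) ^ 2) * hc
    · have h2 : (2 : F) = 0 := mul_self_eq_zero.1 (by rw [← hc]; norm_num)
      linear_combination (5 * (a + b + c + d) ^ 3
        - 3 * (a + b + c + d) * (a * b + a * c + a * d + b * c + b * d + c * d)) * h2
  · have htwo : ∀ a : F, a = 0 ∨ a = 1 := fun a => by
      by_cases ha : a = 0
      · exact Or.inl ha
      · right; simpa [e] using hsmall a ha
    have h2 : (2 : F) = 0 := by rw [e] at hc; simpa using hc
    have hchi : ∀ v : Fin 2 → F, chi v = v 0 + v 1 + v 0 * v 1 := fun v => by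
      by_cases h : v = 0
      · subst h; simp [chi_zero]
      · rw [chi_ne h]
        rcases htwo (v 0) with p | p <;> rcases htwo (v 1) with r | r <;> rw [p, r]
        · exact absurd (funext fun k => by fin_cases k <;> simp [p, r]) h
        · ring
        · ring
        · linear_combination (-1 : F) * h2
    simp only [hchi, Fin.sum_univ_four, Pi.add_apply]
    generalize x 0 0 = a; generalize x 1 0 = b; generalize x 2 0 = c; generalize x 3 0 = d
    generalize x 0 1 = a'; generalize x 1 1 = b'; generalize x 2 1 = c'; generalize x 3 1 = d'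
    linear_combination (2 * (a + b + c + d) + 2 * (a' + b' + c' + d') + 3 * (a + b + c + d) * (a' + b' + c' + d')) * h2

theorem cnt_window [Fintype F] (hq : (m = 1 ∧ Fintype.card F ≤ 4) ∨ (m = 2 ∧ Fintype.card F = 2))
    (w : Fin 4 ↪ Fin t) (x : Fin t → Fin m → F) : cnt (window w x) = cnt x := by
  classical
  rw [cnt, cnt, ← Finset.sum_add_sum_compl (Finset.univ.map w), ← Finset.sum_add_sum_compl (Finset.univ.map w)]
  congr 1
  · rw [Finset.sum_map, Finset.sum_map]
    simp only [window_apply]
    exact chi_sum hq fun a => x (w a)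
  · refine Finset.sum_congr rfl fun i hi => ?_
    rw [window_apply_off]
    intro a e
    simp [← e] at hi

/-- Permute the components. -/
def permMap (σ : Equiv.Perm (Fin t)) : (Fin t → Fin m → F) →ₗ[F] (Fin t → Fin m → F) :=
  LinearMap.funLeft F (Fin m → F) σ

theorem cnt_perm (σ : Equiv.Perm (Fin t)) (x : Fin t → Fin m → F) : cnt (permMap σ x) = cnt x :=
  Equiv.sum_comp σ fun i => chi (x i)

variable {ι : Type} [Fintype ι] [DecidableEq ι] [Fintype F] (c : (ι → F) ≃ₗ[F] (Fin t → Fin m → F))

/-- An endomorphism in coordinates, as a matrix. -/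
noncomputable def mat (T : (Fin t → Fin m → F) →ₗ[F] (Fin t → Fin m → F)) : Matrix ι ι F :=
  LinearMap.toMatrix' (c.symm.toLinearMap.comp (T.comp c.toLinearMap))

theorem mat_mulVec (T : (Fin t → Fin m → F) →ₗ[F] (Fin t → Fin m → F)) (v : ι → F) :
    c (mat c T *ᵥ v) = T (c v) := by
  rw [mat, LinearMap.toMatrix'_mulVec]
  simp

/-- An involution in coordinates. -/
noncomputable def gl (T : (Fin t → Fin m → F) →ₗ[F] (Fin t → Fin m → F)) (hT : ∀ x, T (T x) = x) : GL ι F :=
  haveI h : mat c T * mat c T = 1 := Matrix.toLin'.injective (LinearMap.ext fun v => by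
    rw [Matrix.toLin'_apply, ← Matrix.mulVec_mulVec, Matrix.toLin'_one, LinearMap.id_apply]
    exact c.injective (by rw [mat_mulVec, mat_mulVec, hT]))
  ⟨mat c T, mat c T, h, h⟩

/-- Elements mapping the components onto each other keep the count. -/
theorem cnt_of_mapsTo (g : GL ι F) (σ : Equiv.Perm (Fin t))
    (hσ : ∀ i y, ∃ z, c ((g : Matrix ι ι F) *ᵥ c.symm (Pi.single i y)) = Pi.single (σ i) z) (v : ι → F) :
    cnt (c ((g : Matrix ι ι F) *ᵥ v)) = cnt (c v) := by
  classical
  choose z hz using hσ
  have hinj : Function.Injective fun v => c ((g : Matrix ι ι F) *ᵥ v) := fun u v e => by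
    have e' := congrArg (fun w => ((g⁻¹ : GL ι F) : Matrix ι ι F) *ᵥ w) (c.injective e)
    simpa [Matrix.mulVec_mulVec] using e'
  have hcomp : ∀ i, c ((g : Matrix ι ι F) *ᵥ v) (σ i) = z i (c v i) := by
    intro i
    conv_lhs => rw [← c.symm_apply_apply v, ← Finset.univ_sum_single (c v), map_sum, Matrix.mulVec_sum, map_sum]
    simp only [hz, Finset.sum_apply]
    rw [Finset.sum_eq_single i (fun j _ hj => Pi.single_eq_of_ne (σ.injective.ne (Ne.symm hj)) _)
      (fun h => absurd (Finset.mem_univ i) h), Pi.single_eq_same]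
  unfold cnt
  rw [← Equiv.sum_comp σ fun i => chi (c ((g : Matrix ι ι F) *ᵥ v) i)]
  refine Finset.sum_congr rfl fun i _ => ?_
  rw [hcomp]
  by_cases h : c v i = 0
  · have h0 := hz i 0
    rw [Pi.single_zero, map_zero, Matrix.mulVec_zero, map_zero, eq_comm, Pi.single_eq_zero_iff] at h0
    rw [h, h0]
  · rw [chi_ne h, chi_ne]
    intro h0
    have h1 := hz i (c v i)
    rw [h0, Pi.single_zero] at h1
    have h2 : c.symm (Pi.single i (c v i)) = 0 := hinj (h1.trans (by simp))
    simpa [h] using h2

/-- The frame of non-maximality. -/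
theorem exists_between (hm : 1 ≤ m) (ht : 5 ≤ t) {n : ℕ} (c : (Fin n → F) ≃ₗ[F] (Fin t → Fin m → F))
    (hq : (m = 1 ∧ Fintype.card F ≤ 4) ∨ (m = 2 ∧ Fintype.card F = 2))
    (H : Subgroup (GL (Fin n) F))
    (hH : ∀ g ∈ H, ∃ σ : Equiv.Perm (Fin t), ∀ i y, ∃ z,
      c ((g : Matrix (Fin n) (Fin n) F) *ᵥ c.symm (Pi.single i y)) = Pi.single (σ i) z) :
    ∃ K : Subgroup (GL (Fin n) F), H ⊓ Cfsg.Geo.specialLinear (Fin n) F < K ∧
      K < Cfsg.Geo.specialLinear (Fin n) F := by
  classical
  let f : (Fin n → F) → F := fun v => cnt (c v)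
  refine ⟨Cfsg.isometryGroup F f ⊓ Cfsg.Geo.specialLinear (Fin n) F, ?_, ?_⟩
  · refine lt_of_le_of_ne (fun g hg => ⟨fun u _ => ?_, hg.2⟩) fun e => ?_
    · obtain ⟨σ, hσ⟩ := hH g hg.1
      exact cnt_of_mapsTo c g σ hσ u
    -- a commutator of a window with a transposition
    let w : Fin 4 ↪ Fin t := ⟨fun a => ⟨a, by omega⟩, fun a b h => Fin.ext (by simpa using h)⟩
    let i4 : Fin t := ⟨4, by omega⟩
    have hi4 : ∀ a, w a ≠ i4 := fun a h => by
      have h' : (a : ℕ) = 4 := congrArg Fin.val h
      omega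
    set σ : Equiv.Perm (Fin t) := Equiv.swap (w 3) i4 with hσ
    set A := gl c (window w) (window_window hq w) with hA
    set B := gl c (permMap σ) (fun x => funext fun i => by
      show x (σ (σ i)) = x i
      rw [hσ, Equiv.swap_apply_self]) with hB
    have hAK : A ∈ Cfsg.isometryGroup F f := fun u _ => by
      show cnt (c (mat c (window w) *ᵥ u)) = cnt (c u)
      rw [mat_mulVec, cnt_window hq]
    have hBK : B ∈ Cfsg.isometryGroup F f := fun u _ => by
      show cnt (c (mat c (permMap σ) *ᵥ u)) = cnt (c u)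
      rw [mat_mulVec, cnt_perm]
    have hg : ⁅A, B⁆ ∈ Cfsg.isometryGroup F f ⊓ Cfsg.Geo.specialLinear (Fin n) F := by
      refine Subgroup.mem_inf.2 ⟨?_, ?_⟩
      · rw [commutatorElement_def]; exact mul_mem (mul_mem (mul_mem hAK hBK) (inv_mem hAK)) (inv_mem hBK)
      · rw [Cfsg.Geo.specialLinear, MonoidHom.mem_ker, map_commutatorElement,
          commutatorElement_eq_one_iff_mul_comm, mul_comm]
    rw [← e] at hg
    obtain ⟨τ, hτ⟩ := hH _ hg.1
    let y : Fin m → F := Pi.single ⟨0, hm⟩ 1
    obtain ⟨z, hz⟩ := hτ (w 0) y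
    have hval : c ((⁅A, B⁆ : GL (Fin n) F) *ᵥ c.symm (Pi.single (w 0) y) : Fin n → F) =
        window w (permMap σ (window w (permMap σ (Pi.single (w 0) y)))) := by
      show c ((mat c (window w) * mat c (permMap σ) * mat c (window w) * mat c (permMap σ)) *ᵥ _) = _
      rw [← Matrix.mulVec_mulVec, ← Matrix.mulVec_mulVec, ← Matrix.mulVec_mulVec, mat_mulVec, mat_mulVec,
        mat_mulVec, mat_mulVec, LinearEquiv.apply_symm_apply]
    rw [hval] at hz
    have d03 : w 0 ≠ w 3 := w.injective.ne (by decide)
    have d23 : w 2 ≠ w 3 := w.injective.ne (by decide)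
    have d13 : w 1 ≠ w 3 := w.injective.ne (by decide)
    have s0 : σ (w 0) = w 0 := Equiv.swap_apply_of_ne_of_ne d03 (hi4 0)
    have hx : permMap σ (Pi.single (w 0) y) = Pi.single (w 0) y := funext fun i => by
      show (Pi.single (w 0) y : Fin t → Fin m → F) (σ i) = _
      rcases eq_or_ne i (w 0) with rfl | h
      · rw [s0]
      · rw [Pi.single_eq_of_ne h, Pi.single_eq_of_ne]
        exact fun h' => h (σ.injective (h'.trans s0.symm))
    rw [hx] at hz
    have key : ∀ (i : Fin t), (window w (permMap σ (window w (Pi.single (w 0) y)))) i = 0 ∨ i = τ (w 0) := fun i => by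
      by_cases h : i = τ (w 0)
      · exact Or.inr h
      · left; rw [hz, Pi.single_eq_of_ne h]
    have v4 : window w (permMap σ (window w (Pi.single (w 0) y))) i4 = y := by
      rw [window_apply_off w _ hi4]
      show window w (Pi.single (w 0) y) (σ i4) = y
      rw [hσ, Equiv.swap_apply_right, window_apply]
      simp [Fin.sum_univ_four, w.injective.eq_iff]
    have v2 : window w (permMap σ (window w (Pi.single (w 0) y))) (w 2) = (5 : F) • y := by
      rw [window_apply]
      simp only [permMap, LinearMap.funLeft_apply, Fin.sum_univ_four]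
      rw [hσ, Equiv.swap_apply_left, Equiv.swap_apply_of_ne_of_ne d03 (hi4 0),
        Equiv.swap_apply_of_ne_of_ne d13 (hi4 1), Equiv.swap_apply_of_ne_of_ne d23 (hi4 2), window_apply_off w _ hi4]
      simp only [window_apply, Fin.sum_univ_four]
      simp [w.injective.eq_iff, Pi.single_eq_of_ne (Ne.symm (hi4 0))]
      module
    have hy : y ≠ 0 := fun h => by simpa [y] using congrFun h ⟨0, hm⟩
    have e4 : i4 = τ (w 0) := (key i4).resolve_left (by rw [v4]; exact hy)
    have e2 : w 2 = τ (w 0) := (key (w 2)).resolve_left (by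
      rw [v2, smul_eq_zero, not_or]
      refine ⟨fun h5 => one_ne_zero (α := F) ?_, hy⟩
      have h6 := (six_eq_zero hq).1
      linear_combination h6 - h5)
    exact hi4 2 (e2.trans e4.symm)
  · refine lt_of_le_of_ne inf_le_right fun e => ?_
    let i0 : Fin t := ⟨0, by omega⟩
    let i1 : Fin t := ⟨1, by omega⟩
    have h01 : i0 ≠ i1 := by simp [i0, i1, Fin.ext_iff]
    let y : Fin m → F := Pi.single ⟨0, hm⟩ 1
    have hy : y ≠ 0 := fun h => by simpa [y] using congrFun h ⟨0, hm⟩
    let N₀ : (Fin t → Fin m → F) →ₗ[F] (Fin t → Fin m → F) :=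
      { toFun := fun x => x i1 ⟨0, hm⟩ • Pi.single i0 y
        map_add' := fun a b => by rw [← add_smul]; rfl
        map_smul' := fun a b => by rw [RingHom.id_apply, smul_smul]; rfl }
    have hN : mat c N₀ * mat c N₀ = 0 := Matrix.toLin'.injective (LinearMap.ext fun v => by
      rw [Matrix.toLin'_apply, ← Matrix.mulVec_mulVec, map_zero, LinearMap.zero_apply]
      refine c.injective ?_
      rw [mat_mulVec, mat_mulVec, map_zero]
      simp [N₀, h01.symm])
    have hmem := FieldNotMax.unip_mem (mat c N₀) hN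
    rw [← e] at hmem
    have h := hmem.1 (c.symm (Pi.single i1 y)) 0
    change cnt (c ((1 + mat c N₀) *ᵥ _)) = cnt (c _) at h
    rw [Matrix.add_mulVec, Matrix.one_mulVec, map_add, mat_mulVec, LinearEquiv.apply_symm_apply] at h
    have e1 : N₀ (Pi.single i1 y) = Pi.single i0 y := by simp [N₀, y]
    rw [e1] at h
    have c1 : cnt (Pi.single i1 y : Fin t → Fin m → F) = 1 := by
      rw [cnt, Fintype.sum_eq_single i1 (fun j hj => by rw [Pi.single_eq_of_ne hj, chi_zero]), Pi.single_eq_same, chi_ne hy]
    have c2 : cnt (Pi.single i1 y + Pi.single i0 y : Fin t → Fin m → F) = 2 := by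
      rw [cnt, Fintype.sum_eq_add i1 i0 h01.symm (fun j hj => by
        rw [Pi.add_apply, Pi.single_eq_of_ne hj.1, Pi.single_eq_of_ne hj.2, add_zero, chi_zero])]
      simp [h01, h01.symm, chi_ne hy, one_add_one_eq_two]
    rw [c1, c2] at h
    exact one_ne_zero (α := F) (by linear_combination h)

end Cfsg.Agent.Classical.NotMaxWreath
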