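import Mathlib

/-!
Maps of the points of square norm in a space with an orthonormal basis that keep orthogonality are semilinear.
-/

set_option autoImplicit false
set_option linter.style.haveILetI false
set_option linter.unusedSectionVars false

open Matrix

namespace Cfsg.Agent.OddAut

variable {F : Type*} [Field F] {ι : Type} [Fintype ι] [DecidableEq ι]

/-- Vectors whose norm is a non-zero square. -/
def P1 (x : ι → F) : Prop := ∃ r : F, r ≠ 0 ∧ x ⬝ᵥ x = r * r

/-- Proportional vectors. -/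
def Par (v w : ι → F) : Prop := ∃ c : F, c ≠ 0 ∧ w = c • v

theorem Par.symm {v w : ι → F} (h : Par v w) : Par w v := by
  obtain ⟨c, hc, rfl⟩ := h
  exact ⟨c⁻¹, inv_ne_zero hc, (inv_smul_smul₀ hc v).symm⟩

theorem Par.trans {u v w : ι → F} (h : Par u v) (h' : Par v w) : Par u w := by
  obtain ⟨c, hc, rfl⟩ := h
  obtain ⟨d, hd, rfl⟩ := h'
  exact ⟨d * c, mul_ne_zero hd hc, smul_smul _ _ _⟩

theorem P1.ne_zero {x : ι → F} (h : P1 x) : x ≠ 0 := by
  rintro rfl
  obtain ⟨r, hr, e⟩ := h
  rw [zero_dotProduct] at e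
  exact mul_ne_zero hr hr e.symm

theorem p1_of_one {x : ι → F} (h : x ⬝ᵥ x = 1) : P1 x := ⟨1, one_ne_zero, by rw [h, mul_one]⟩

theorem p1_single (k : ι) : P1 (Pi.single k 1 : ι → F) := p1_of_one (by simp)

theorem quad2 [Fintype F] (hodd : Odd (Fintype.card F)) {a b : F} (ha : a ≠ 0) (hb : b ≠ 0) (c : F) :
    ∃ s t : F, a * (s * s) + b * (t * t) = c := by
  classical
  obtain ⟨s, t, h⟩ := FiniteField.exists_root_sum_quadratic (f := Polynomial.C a * Polynomial.X ^ 2)
    (g := Polynomial.C b * Polynomial.X ^ 2 - Polynomial.C c) (by simp [ha])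
    (by rw [Polynomial.degree_sub_C (by simp [hb])]; simp [hb]) (Nat.odd_iff.1 hodd)
  refine ⟨s, t, ?_⟩
  simp at h
  linear_combination h

theorem filler [Fintype F] (hodd : Odd (Fintype.card F)) (c : F) : ∃ y z : F, c + y * y + z * z = 1 := by
  obtain ⟨y, z, h⟩ := quad2 hodd one_ne_zero one_ne_zero (1 - c)
  exact ⟨y, z, by linear_combination h⟩

variable (hn : 7 ≤ Fintype.card ι)

include hn

theorem out2 (S : Finset ι) (hS : S.card ≤ 5) : ∃ a b, a ∉ S ∧ b ∉ S ∧ a ≠ b := by
  have h : 1 < Sᶜ.card := by rw [Finset.card_compl]; omega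
  obtain ⟨a, ha, b, hb, hab⟩ := Finset.one_lt_card.1 h
  exact ⟨a, b, Finset.mem_compl.1 ha, Finset.mem_compl.1 hb, hab⟩

theorem out3 (S : Finset ι) (hS : S.card ≤ 4) :
    ∃ a b c, a ∉ S ∧ b ∉ S ∧ c ∉ S ∧ a ≠ b ∧ a ≠ c ∧ b ≠ c := by
  have h : 2 < Sᶜ.card := by rw [Finset.card_compl]; omega
  obtain ⟨a, b, c, ha, hb, hc, hab, hac, hbc⟩ := Finset.two_lt_card_iff.1 h
  exact ⟨a, b, c, Finset.mem_compl.1 ha, Finset.mem_compl.1 hb, Finset.mem_compl.1 hc, hab, hac, hbc⟩

omit hn in
theorem card_le_five (a b c d e : ι) : ({a, b, c, d, e} : Finset ι).card ≤ 5 := Finset.card_le_five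

theorem diag_of_orth [Fintype F] (h2 : (2 : F) ≠ 0) (hodd : Odd (Fintype.card F)) (f : (ι → F) → ι → F)
    (hf : ∀ x, P1 x → P1 (f x))
    (hiff : ∀ x y, P1 x → P1 y → (f x ⬝ᵥ f y = 0 ↔ x ⬝ᵥ y = 0))
    (hbase : ∀ k, Par (f (Pi.single k 1)) (Pi.single k 1)) :
    ∃ (d : ι → F) (σ : F ≃+* F) (D : F), D ≠ 0 ∧ (∀ k, d k * d k = D) ∧
      ∀ x, P1 x → Par (fun k => d k * σ (x k)) (f x) := by
  classical
  have zero_iff : ∀ x, P1 x → ∀ k, f x k = 0 ↔ x k = 0 := by
    intro x hx k
    obtain ⟨c, hc, e⟩ := (hbase k).symm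
    have h := hiff _ x (p1_single k) hx
    rw [e, smul_dotProduct, single_dotProduct, single_dotProduct, one_mul, one_mul, smul_eq_mul] at h
    simpa [hc] using h
  choose Y Z hYZ using fun c : F => filler hodd c
  have hpairs : ∀ k l : ι, ∃ a b, a ∉ ({k, l} : Finset ι) ∧ b ∉ ({k, l} : Finset ι) ∧ a ≠ b := fun k l =>
    out2 hn _ (Finset.card_le_two.trans (by norm_num))
  choose J J' hJ hJ' hJJ using hpairs
  let pv : ι → ι → ι → ι → F → ι → F := fun k l j j' a =>
    Pi.single k 1 + Pi.single l (-a) + Pi.single j (Y (1 + a * a)) + Pi.single j' (Z (1 + a * a))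
  let r : ι → ι → ι → ι → F → F := fun k l j j' a => -(f (pv k l j j' a) l) / f (pv k l j j' a) k
  let Ok : ι → ι → ι → ι → Prop := fun k l j j' => k ≠ l ∧ j ≠ k ∧ j ≠ l ∧ j' ≠ k ∧ j' ≠ l ∧ j ≠ j'
  have pv_val : ∀ k l j j' a, Ok k l j j' → pv k l j j' a k = 1 ∧ pv k l j j' a l = -a ∧
      P1 (pv k l j j' a) ∧ ∀ o, o ≠ k → o ≠ l → o ≠ j → o ≠ j' → pv k l j j' a o = 0 := by
    rintro k l j j' a ⟨hkl, h1, h3, h4, h5, h6⟩
    refine ⟨by simp [pv, hkl, h1.symm, h4.symm], by simp [pv, hkl.symm, h3.symm, h5.symm], p1_of_one ?_,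
      fun o o1 o2 o3 o4 => by simp [pv, o1, o2, o3, o4]⟩
    simp only [pv, add_dotProduct, single_dotProduct, Pi.add_apply]
    simp [hkl, hkl.symm, h1, h1.symm, h3, h3.symm, h4, h4.symm, h5, h5.symm, h6, h6.symm]
    linear_combination hYZ (1 + a * a)
  have rat : ∀ k l j j', Ok k l j j' → ∀ x, P1 x → x j = 0 → x j' = 0 → x l ≠ 0 →
      f x k / f x l = r k l j j' (x k / x l) := by
    intro k l j j' ok x hx xj xj' xl
    obtain ⟨pk, pl, pP, pz⟩ := pv_val k l j j' (x k / x l) ok
    set p := pv k l j j' (x k / x l) with hp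
    have hkl := ok.1
    have e : p ⬝ᵥ x = 0 := by
      rw [dotProduct, Finset.sum_eq_add_of_mem k l (Finset.mem_univ _) (Finset.mem_univ _) hkl
        fun o _ ho => ?_]
      · rw [pk, pl]; field_simp; ring
      · rcases eq_or_ne o j with rfl | o1
        · rw [xj, mul_zero]
        rcases eq_or_ne o j' with rfl | o2
        · rw [xj', mul_zero]
        rw [pz o ho.1 ho.2 o1 o2, zero_mul]
    rw [← hiff p x pP hx, dotProduct, Finset.sum_eq_add_of_mem k l (Finset.mem_univ _) (Finset.mem_univ _) hkl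
      fun o _ ho => ?_] at e
    · have hA : f p k ≠ 0 := fun h => by
        rw [zero_iff p pP, pk] at h
        exact one_ne_zero h
      have hl : f x l ≠ 0 := fun h => xl ((zero_iff x hx l).1 h)
      show _ = -(f p l) / f p k
      rw [div_eq_div_iff hl hA]
      linear_combination e
    · rcases eq_or_ne o j with rfl | o1
      · rw [(zero_iff x hx o).2 xj, mul_zero]
      rcases eq_or_ne o j' with rfl | o2
      · rw [(zero_iff x hx o).2 xj', mul_zero]
      rw [(zero_iff p pP o).2 (pz o ho.1 ho.2 o1 o2), zero_mul]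
  have step : ∀ k l j j' i i', Ok k l j j' → Ok k l i i' → ({k, l, j, j', i, i'} : Finset ι).card ≤ 5 →
      ∀ a, r k l j j' a = r k l i i' a := by
    intro k l j j' i i' o1 o2 hS a
    obtain ⟨u, v, hu, hv, huv⟩ := out2 hn _ hS
    simp only [Finset.mem_insert, Finset.mem_singleton, not_or, ← ne_eq] at hu hv
    obtain ⟨uk, ul, uj, uj', ui, ui'⟩ := hu
    obtain ⟨vk, vl, vj, vj', vi, vi'⟩ := hv
    have hkl := o1.1
    set W : ι → F := Pi.single k a + Pi.single l 1 + Pi.single u (Y (a * a + 1)) + Pi.single v (Z (a * a + 1))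
      with hW
    have Wk : W k = a := by simp [hW, hkl, uk.symm, vk.symm]
    have Wl : W l = 1 := by simp [hW, hkl.symm, ul.symm, vl.symm]
    have Wz : ∀ o, o ≠ k → o ≠ l → o ≠ u → o ≠ v → W o = 0 := fun o a b c d => by simp [hW, a, b, c, d]
    have WP : P1 W := p1_of_one (by
      simp only [hW, add_dotProduct, single_dotProduct, Pi.add_apply]
      simp [hkl, hkl.symm, uk, uk.symm, ul, ul.symm, vk, vk.symm, vl, vl.symm, huv, huv.symm]
      linear_combination hYZ (a * a + 1))
    have hl : W l ≠ 0 := by rw [Wl]; exact one_ne_zero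
    have e1 := rat k l j j' o1 W WP (Wz _ o1.2.1 o1.2.2.1 uj.symm vj.symm)
      (Wz _ o1.2.2.2.1 o1.2.2.2.2.1 uj'.symm vj'.symm) hl
    have e2 := rat k l i i' o2 W WP (Wz _ o2.2.1 o2.2.2.1 ui.symm vi.symm)
      (Wz _ o2.2.2.2.1 o2.2.2.2.2.1 ui'.symm vi'.symm) hl
    rw [Wk, Wl, div_one] at e1 e2
    exact e1.symm.trans e2
  have five : ∀ (S : Finset ι) (a b c d e : ι), S ⊆ {a, b, c, d, e} → S.card ≤ 5 := fun S a b c d e h =>
    (Finset.card_le_card h).trans (card_le_five a b c d e)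
  have indep : ∀ k l j j' i i', Ok k l j j' → Ok k l i i' → ∀ a, r k l j j' a = r k l i i' a := by
    intro k l j j' i i' o1 o2 a
    rcases eq_or_ne i j with rfl | hij
    · exact step k l i j' i i' o1 o2 (five _ k l i j' i' (by
        intro o; simp only [Finset.mem_insert, Finset.mem_singleton]; tauto)) a
    have oM : Ok k l j i := ⟨o1.1, o1.2.1, o1.2.2.1, o2.2.1, o2.2.2.1, hij.symm⟩
    exact (step k l j j' j i o1 oM (five _ k l j j' i (by
        intro o; simp only [Finset.mem_insert, Finset.mem_singleton]; tauto)) a).trans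
      (step k l j i i i' oM o2 (five _ k l j i i' (by
        intro o; simp only [Finset.mem_insert, Finset.mem_singleton]; tauto)) a)
  let h : ι → ι → F → F := fun k l a => r k l (J k l) (J' k l) a
  have okJ : ∀ k l, k ≠ l → Ok k l (J k l) (J' k l) := fun k l hkl => by
    have a := hJ k l
    have b := hJ' k l
    simp only [Finset.mem_insert, Finset.mem_singleton, not_or, ← ne_eq] at a b
    exact ⟨hkl, a.1, a.2, b.1, b.2, hJJ k l⟩
  have h_zero : ∀ k l, k ≠ l → h k l 0 = 0 := fun k l hkl => by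
    obtain ⟨-, pl, pP, -⟩ := pv_val k l _ _ 0 (okJ k l hkl)
    show -(f _ l) / _ = 0
    rw [(zero_iff _ pP l).2 (by rw [pl, neg_zero]), neg_zero, zero_div]
  have h_ne : ∀ k l, k ≠ l → ∀ a : F, a ≠ 0 → h k l a ≠ 0 := fun k l hkl a ha => by
    obtain ⟨pk, pl, pP, -⟩ := pv_val k l _ _ a (okJ k l hkl)
    refine div_ne_zero (neg_ne_zero.2 fun e => ?_) fun e => ?_
    · rw [zero_iff _ pP, pl, neg_eq_zero] at e; exact ha e
    · rw [zero_iff _ pP, pk] at e; exact one_ne_zero e
  let Z2 : (ι → F) → Prop := fun x => ∃ a b, a ≠ b ∧ x a = 0 ∧ x b = 0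
  have ratio : ∀ x, P1 x → Z2 x → ∀ k l, k ≠ l → x l ≠ 0 → f x k / f x l = h k l (x k / x l) := by
    rintro x hx ⟨a, b, hab, xa, xb⟩ k l hkl hl
    by_cases hk : x k = 0
    · rw [(zero_iff x hx k).2 hk, zero_div, hk, zero_div, h_zero k l hkl]
    have ok : Ok k l a b := ⟨hkl, fun e => hk (e ▸ xa), fun e => hl (e ▸ xa), fun e => hk (e ▸ xb),
      fun e => hl (e ▸ xb), hab⟩
    exact (rat k l a b ok x hx xa xb hl).trans (indep _ _ _ _ _ _ ok (okJ k l hkl) _)
  have h_mul : ∀ j k l, j ≠ k → k ≠ l → j ≠ l → ∀ a b : F, h j l (a * b) = h j k a * h k l b := by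
    intro j k l hjk hkl hjl a b
    rcases eq_or_ne b 0 with rfl | hb
    · rw [mul_zero, h_zero j l hjl, h_zero k l hkl, mul_zero]
    obtain ⟨u, v, hu, hv, huv⟩ := out2 hn ({j, k, l} : Finset ι) (Finset.card_le_three.trans (by norm_num))
    simp only [Finset.mem_insert, Finset.mem_singleton, not_or, ← ne_eq] at hu hv
    obtain ⟨uj, uk, ul⟩ := hu
    obtain ⟨vj, vk, vl⟩ := hv
    obtain ⟨s, t, hs, ht, hst⟩ := out2 hn ({j, k, l, u, v} : Finset ι) (card_le_five j k l u v)
    simp only [Finset.mem_insert, Finset.mem_singleton, not_or, ← ne_eq] at hs ht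
    set c := a * b * (a * b) + b * b + 1 with hc
    set x : ι → F := Pi.single j (a * b) + Pi.single k b + Pi.single l 1 + Pi.single u (Y c) + Pi.single v (Z c)
      with hx
    have xj : x j = a * b := by simp [hx, hjk, hjl, uj.symm, vj.symm]
    have xk : x k = b := by simp [hx, hjk.symm, hkl, uk.symm, vk.symm]
    have xl : x l = 1 := by simp [hx, hjl.symm, hkl.symm, ul.symm, vl.symm]
    have xP : P1 x := p1_of_one (by
      simp only [hx, add_dotProduct, single_dotProduct, Pi.add_apply]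
      simp [hjk, hjk.symm, hkl, hkl.symm, hjl, hjl.symm, uj, uj.symm, uk, uk.symm, ul, ul.symm, vj, vj.symm, vk,
        vk.symm, vl, vl.symm, huv, huv.symm]
      linear_combination hYZ c + hc - hc)
    have xz : Z2 x := ⟨s, t, hst, by simp [hx, hs], by simp [hx, ht]⟩
    have r1 := ratio x xP xz j l hjl (by rw [xl]; exact one_ne_zero)
    have r2 := ratio x xP xz k l hkl (by rw [xl]; exact one_ne_zero)
    have r3 := ratio x xP xz j k hjk (by rw [xk]; exact hb)
    rw [xj, xl, div_one] at r1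
    rw [xk, xl, div_one] at r2
    rw [xj, xk, mul_div_cancel_right₀ _ hb] at r3
    have hk0 : f x k ≠ 0 := fun e => hb (by rw [← xk]; exact (zero_iff x xP k).1 e)
    rw [← r1, ← r2, ← r3, div_mul_div_cancel₀ hk0]
  have h_inv : ∀ k l, k ≠ l → ∀ a : F, a ≠ 0 → h l k a⁻¹ = (h k l a)⁻¹ := by
    intro k l hkl a ha
    obtain ⟨u, v, hu, hv, huv⟩ := out2 hn ({k, l} : Finset ι) (Finset.card_le_two.trans (by norm_num))
    simp only [Finset.mem_insert, Finset.mem_singleton, not_or, ← ne_eq] at hu hv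
    obtain ⟨uk, ul⟩ := hu
    obtain ⟨vk, vl⟩ := hv
    obtain ⟨s, t, hs, ht, hst⟩ := out2 hn ({k, l, u, v} : Finset ι) (Finset.card_le_four.trans (by norm_num))
    simp only [Finset.mem_insert, Finset.mem_singleton, not_or, ← ne_eq] at hs ht
    set x : ι → F := Pi.single k a + Pi.single l 1 + Pi.single u (Y (a * a + 1)) + Pi.single v (Z (a * a + 1))
      with hx
    have xk : x k = a := by simp [hx, hkl, uk.symm, vk.symm]
    have xl : x l = 1 := by simp [hx, hkl.symm, ul.symm, vl.symm]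
    have xP : P1 x := p1_of_one (by
      simp only [hx, add_dotProduct, single_dotProduct, Pi.add_apply]
      simp [hkl, hkl.symm, uk, uk.symm, ul, ul.symm, vk, vk.symm, vl, vl.symm, huv, huv.symm]
      linear_combination hYZ (a * a + 1))
    have xz : Z2 x := ⟨s, t, hst, by simp [hx, hs], by simp [hx, ht]⟩
    have r1 := ratio x xP xz k l hkl (by rw [xl]; exact one_ne_zero)
    have r2 := ratio x xP xz l k hkl.symm (by rw [xk]; exact ha)
    rw [xk, xl, div_one] at r1
    rw [xk, xl, one_div] at r2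
    rw [← r2, ← r1, inv_div]
  obtain ⟨l₀, k₀, -, -, hk₀l'⟩ := out2 hn ∅ (by simp)
  have hk₀l : k₀ ≠ l₀ := hk₀l'.symm
  obtain ⟨k₁, -, hk₁m, -, -⟩ := out2 hn ({l₀, k₀} : Finset ι) (Finset.card_le_two.trans (by norm_num))
  simp only [Finset.mem_insert, Finset.mem_singleton, not_or, ← ne_eq] at hk₁m
  obtain ⟨hk₁, hk₁'⟩ := hk₁m
  let d : ι → F := fun k => if k = l₀ then 1 else h k l₀ 1
  let φ : F → F := fun a => h k₀ l₀ a / h k₀ l₀ 1
  have dne : ∀ k, d k ≠ 0 := fun k => by
    simp only [d]; split_ifs with hk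
    · exact one_ne_zero
    · exact h_ne _ _ hk 1 one_ne_zero
  have hd : ∀ k, k ≠ l₀ → ∀ a, h k l₀ a = d k * φ a := by
    intro k hk a
    simp only [d, φ, if_neg hk]
    rcases eq_or_ne k k₀ with rfl | hk'
    · rw [mul_div_cancel₀ _ (h_ne _ _ hk 1 one_ne_zero)]
    have e1 := h_mul k k₀ l₀ hk' hk₀l hk 1 a
    have e2 := h_mul k k₀ l₀ hk' hk₀l hk 1 1
    rw [one_mul] at e1 e2
    rw [e1, e2]
    field_simp [h_ne _ _ hk₀l 1 one_ne_zero]
  have φ0 : φ 0 = 0 := by simp only [φ, h_zero _ _ hk₀l, zero_div]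
  have φ1 : φ 1 = 1 := div_self (h_ne _ _ hk₀l 1 one_ne_zero)
  have φmul : ∀ a b, φ (a * b) = φ a * φ b := by
    intro a b
    have e1 := h_mul k₁ k₀ l₀ hk₁' hk₀l hk₁ a b
    have e2 := h_mul k₁ k₀ l₀ hk₁' hk₀l hk₁ a 1
    rw [hd _ hk₁, hd _ hk₀l] at e1
    rw [mul_one, hd _ hk₁, hd _ hk₀l, φ1, mul_one] at e2
    refine mul_left_cancel₀ (dne k₁) ?_
    linear_combination e1 - φ b * e2
  have φne : ∀ a, a ≠ 0 → φ a ≠ 0 := fun a ha =>
    div_ne_zero (h_ne _ _ hk₀l a ha) (h_ne _ _ hk₀l 1 one_ne_zero)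
  have hkl_eq : ∀ k l, k ≠ l → ∀ a, h k l a = d k * φ a / d l := by
    intro k l hkl a
    rcases eq_or_ne l l₀ with rfl | hl
    · rw [hd k hkl, show d l = 1 from if_pos rfl, div_one]
    rcases eq_or_ne k l₀ with rfl | hk
    · rcases eq_or_ne a 0 with rfl | ha
      · rw [h_zero _ _ hkl, φ0, mul_zero, zero_div]
      have e := h_inv l k hl a⁻¹ (inv_ne_zero ha)
      rw [inv_inv, hd l hl] at e
      have e3 : φ a⁻¹ * φ a = 1 := by rw [← φmul, inv_mul_cancel₀ ha, φ1]
      rw [e, show d k = 1 from if_pos rfl, eq_inv_of_mul_eq_one_left e3, one_mul, _root_.mul_inv_rev, inv_inv,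
        div_eq_mul_inv]
    have e1 := h_mul k l l₀ hkl hl hk a 1
    rw [mul_one, hd k hk, hd l hl, φ1, mul_one] at e1
    rw [eq_div_iff (dne l), e1]
  have main2 : ∀ x, P1 x → Z2 x → Par (fun k => d k * φ (x k)) (f x) := by
    intro x hx hz
    obtain ⟨l, hl⟩ : ∃ l, x l ≠ 0 := Function.ne_iff.1 hx.ne_zero
    refine ⟨f x l / (d l * φ (x l)),
      div_ne_zero (fun e => hl ((zero_iff x hx l).1 e)) (mul_ne_zero (dne l) (φne _ hl)), funext fun k => ?_⟩
    show f x k = f x l / (d l * φ (x l)) * (d k * φ (x k))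
    have hfl : f x l ≠ 0 := fun e => hl ((zero_iff x hx l).1 e)
    rcases eq_or_ne k l with rfl | hkl
    · rw [div_mul_cancel₀ _ (mul_ne_zero (dne _) (φne _ hl))]
    have r := ratio x hx hz k l hkl hl
    have e : φ (x k / x l) * φ (x l) = φ (x k) := by rw [← φmul, div_mul_cancel₀ _ hl]
    rw [hkl_eq k l hkl, div_eq_div_iff hfl (dne l)] at r
    have hd' := dne l
    have hφ' := φne _ hl
    field_simp
    linear_combination φ (x l) * r + (d k * f x l) * e
  have hDf : ∀ x y, P1 x → P1 y → Z2 x → Z2 y →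
      ((fun k => d k * φ (x k)) ⬝ᵥ (fun k => d k * φ (y k)) = 0 ↔ x ⬝ᵥ y = 0) := by
    intro x y hx hy zx zy
    obtain ⟨c, hc, e⟩ := main2 x hx zx
    obtain ⟨c', hc', e'⟩ := main2 y hy zy
    rw [← hiff x y hx hy, e, e', smul_dotProduct, dotProduct_smul, smul_eq_mul, smul_eq_mul,
      mul_eq_zero, mul_eq_zero]
    simp [hc, hc']
  have key : ∀ i j k : ι, i ≠ j → i ≠ k → j ≠ k → ∀ u v w a b c : F,
      (d i * d i * (φ u * φ a) + d j * d j * (φ v * φ b) + d k * d k * (φ w * φ c) = 0 ↔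
        u * a + v * b + w * c = 0) := by
    intro i j k hij hik hjk u v w a b c
    obtain ⟨o1, o2, h1, h2', h12⟩ := out2 hn ({i, j, k} : Finset ι) (Finset.card_le_three.trans (by norm_num))
    simp only [Finset.mem_insert, Finset.mem_singleton, not_or, ← ne_eq] at h1 h2'
    obtain ⟨o1i, o1j, o1k⟩ := h1
    obtain ⟨o2i, o2j, o2k⟩ := h2'
    obtain ⟨o3, o4, h3, h4, h34⟩ := out2 hn ({i, j, k, o1, o2} : Finset ι) (card_le_five i j k o1 o2)
    simp only [Finset.mem_insert, Finset.mem_singleton, not_or, ← ne_eq] at h3 h4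
    obtain ⟨o3i, o3j, o3k, o31, o32⟩ := h3
    obtain ⟨o4i, o4j, o4k, o41, o42⟩ := h4
    set C := u * u + v * v + w * w
    set C' := a * a + b * b + c * c
    set x : ι → F := Pi.single i u + Pi.single j v + Pi.single k w + Pi.single o1 (Y C) + Pi.single o2 (Z C)
      with hx
    set y : ι → F := Pi.single i a + Pi.single j b + Pi.single k c + Pi.single o3 (Y C') + Pi.single o4 (Z C')
      with hy
    have xP : P1 x := p1_of_one (by
      simp only [hx, add_dotProduct, single_dotProduct, Pi.add_apply]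
      simp [hij, hij.symm, hik, hik.symm, hjk, hjk.symm, o1i, o1i.symm, o1j, o1j.symm, o1k, o1k.symm, o2i,
        o2i.symm, o2j, o2j.symm, o2k, o2k.symm, h12, h12.symm]
      linear_combination hYZ C)
    have yP : P1 y := p1_of_one (by
      simp only [hy, add_dotProduct, single_dotProduct, Pi.add_apply]
      simp [hij, hij.symm, hik, hik.symm, hjk, hjk.symm, o3i, o3i.symm, o3j, o3j.symm, o3k, o3k.symm, o4i,
        o4i.symm, o4j, o4j.symm, o4k, o4k.symm, h34, h34.symm]
      linear_combination hYZ C')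
    have e := hDf x y xP yP
      ⟨o3, o4, h34, by simp [hx, o3i, o3j, o3k, o31, o32], by simp [hx, o4i, o4j, o4k, o41, o42]⟩
      ⟨o1, o2, h12, by simp [hy, o1i, o1j, o1k, o31.symm, o41.symm],
        by simp [hy, o2i, o2j, o2k, o32.symm, o42.symm]⟩
    have hxy : x ⬝ᵥ y = u * a + v * b + w * c := by
      simp only [hx, hy, add_dotProduct, single_dotProduct, Pi.add_apply]
      simp [hij, hij.symm, hik, hik.symm, hjk, hjk.symm, o1i, o1j, o1k, o2i, o2j, o2k, o3i.symm, o3j.symm,
        o3k.symm, o4i.symm, o4j.symm, o4k.symm, o31.symm, o32.symm, o41.symm, o42.symm]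
    rw [hxy] at e
    rw [← e, dotProduct, ← Finset.sum_subset (Finset.subset_univ ({i, j, k} : Finset ι)) fun o _ ho => ?_,
      Finset.sum_insert (by simp [hij, hik]), Finset.sum_pair hjk]
    · have xi : x i = u := by simp [hx, hij, hik, o1i.symm, o2i.symm]
      have xj : x j = v := by simp [hx, hij.symm, hjk, o1j.symm, o2j.symm]
      have xk : x k = w := by simp [hx, hik.symm, hjk.symm, o1k.symm, o2k.symm]
      have yi : y i = a := by simp [hy, hij, hik, o3i.symm, o4i.symm]
      have yj : y j = b := by simp [hy, hij.symm, hjk, o3j.symm, o4j.symm]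
      have yk : y k = c := by simp [hy, hik.symm, hjk.symm, o3k.symm, o4k.symm]
      simp only [xi, xj, xk, yi, yj, yk]
      constructor <;> intro hh <;> linear_combination hh
    · simp only [Finset.mem_insert, Finset.mem_singleton, not_or, ← ne_eq] at ho
      rcases eq_or_ne o o1 with rfl | n1
      · simp [hy, o1i, o1j, o1k, o31.symm, o41.symm, φ0]
      rcases eq_or_ne o o2 with rfl | n2
      · simp [hy, o2i, o2j, o2k, o32.symm, o42.symm, φ0]
      simp [hx, ho.1, ho.2.1, ho.2.2, n1, n2, φ0]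
  have φneg : φ (-1) = -1 ∧ Function.Injective φ := by
    obtain ⟨i, j, k, -, -, -, hij, hik, hjk⟩ := out3 hn ∅ (by simp)
    have hu : ∀ u, φ u = 1 → u = 1 := by
      intro u hu
      have e1 := key i j k hij hik hjk 1 (-1) 0 1 1 0
      have e2 := key i j k hij hik hjk u (-1) 0 1 1 0
      rw [hu, φ1] at e2
      rw [φ1] at e1
      have := e1.2 (by ring)
      linear_combination e2.1 this
    have hinj : Function.Injective φ := fun a b hab => by
      rcases eq_or_ne b 0 with rfl | hb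
      · by_contra ha
        exact φne a ha (hab.trans φ0)
      have : φ (a / b) = 1 := mul_right_cancel₀ (φne b hb) (by rw [← φmul, div_mul_cancel₀ _ hb, hab, one_mul])
      exact (div_eq_one_iff_eq hb).1 (hu _ this)
    refine ⟨?_, hinj⟩
    have hsq : φ (-1) * φ (-1) = 1 := by rw [← φmul, neg_mul_neg, one_mul, φ1]
    rcases mul_self_eq_one_iff.1 hsq with h1 | h1
    · exact absurd (hu _ h1) fun e => h2 (by linear_combination -e)
    · exact h1
  obtain ⟨φm, φinj⟩ := φneg
  have hD : ∀ i k, d i * d i = d k * d k := by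
    intro i k
    rcases eq_or_ne i k with rfl | hik
    · rfl
    obtain ⟨j, -, hj, -, -⟩ := out2 hn ({i, k} : Finset ι) (Finset.card_le_two.trans (by norm_num))
    simp only [Finset.mem_insert, Finset.mem_singleton, not_or, ← ne_eq] at hj
    have := (key i j k hj.1.symm hik hj.2 1 0 (-1) 1 0 1).2 (by ring)
    rw [φ1, φ0, φm] at this
    linear_combination this
  have φadd : ∀ a b, φ (a + b) = φ a + φ b := by
    intro a b
    obtain ⟨i, j, k, -, -, -, hij, hik, hjk⟩ := out3 hn ∅ (by simp)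
    have e := (key i j k hij hik hjk 1 1 (-1) a b (a + b)).2 (by ring)
    rw [φ1, φm, ← hD i j, ← hD i k] at e
    refine mul_left_cancel₀ (mul_ne_zero (dne i) (dne i)) ?_
    linear_combination -e
  have φneg' : ∀ a, φ (-a) = -φ a := fun a => by rw [← neg_one_mul, φmul, φm, neg_one_mul]
  -- extending to all the points
  have cross : ∀ x, P1 x → ∀ i j, i ≠ j → ∀ y : ι → F, y i = 0 → y j = 0 → y ⬝ᵥ x = 0 →
      y ⬝ᵥ y = 1 - (x i * x i + x j * x j) →
      (∀ ε : F, (ε = 1 ∨ ε = -1) →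
        Par (fun k => d k * φ ((Pi.single i (x j) + Pi.single j (-x i) + ε • y : ι → F) k))
          (f (Pi.single i (x j) + Pi.single j (-x i) + ε • y))) →
      f x i * (d j * φ (x j)) = f x j * (d i * φ (x i)) := by
    intro x hx i j hij y yi yj yx yy hgood
    have hz : ∀ ε : F, (ε = 1 ∨ ε = -1) →
        (fun k => d k * φ ((Pi.single i (x j) + Pi.single j (-x i) + ε • y : ι → F) k)) ⬝ᵥ f x = 0 := by
      intro ε hε
      set v : ι → F := Pi.single i (x j) + Pi.single j (-x i) + ε • y with hv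
      have vP : P1 v := p1_of_one (by
        simp only [hv, add_dotProduct, dotProduct_add, single_dotProduct, smul_dotProduct, dotProduct_smul,
          dotProduct_single, smul_eq_mul, yy, Pi.single_apply]
        rcases hε with rfl | rfl <;> simp [hij, hij.symm, yi, yj] <;> ring)
      have vx : v ⬝ᵥ x = 0 := by
        simp only [hv, add_dotProduct, single_dotProduct, smul_dotProduct, yx, smul_zero]
        ring
      obtain ⟨c, hc, e⟩ := hgood ε hε
      have := (hiff v x vP hx).2 vx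
      rw [e, smul_dotProduct, smul_eq_mul, mul_eq_zero] at this
      exact this.resolve_left hc
    have e := congrArg₂ (· + ·) (hz 1 (Or.inl rfl)) (hz (-1) (Or.inr rfl))
    simp only [dotProduct, ← Finset.sum_add_distrib, zero_add] at e
    rw [Finset.sum_eq_add_of_mem i j (Finset.mem_univ _) (Finset.mem_univ _) hij fun o _ ho => ?_] at e
    · simp [hij, hij.symm, yi, yj, φneg'] at e
      refine mul_left_cancel₀ (mul_ne_zero h2 (dne i)) ?_
      linear_combination (d j) * e + (2 * f x j * φ (x i)) * hD j i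
    · simp [ho.1, ho.2, φneg', φadd]
  have finish : ∀ x, P1 x → (∀ i j, i ≠ j → f x i * (d j * φ (x j)) = f x j * (d i * φ (x i))) →
      Par (fun k => d k * φ (x k)) (f x) := by
    intro x hx hc
    obtain ⟨l, hl⟩ : ∃ l, x l ≠ 0 := Function.ne_iff.1 hx.ne_zero
    have hne := mul_ne_zero (dne l) (φne _ hl)
    refine ⟨f x l / (d l * φ (x l)), div_ne_zero (fun e => hl ((zero_iff x hx l).1 e)) hne, funext fun k => ?_⟩
    show f x k = f x l / (d l * φ (x l)) * (d k * φ (x k))
    rcases eq_or_ne k l with rfl | hkl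
    · rw [div_mul_cancel₀ _ hne]
    rw [div_mul_eq_mul_div, eq_div_iff hne]
    exact hc k l hkl
  have good : ∀ (x : ι → F) (a b c : ι), a ≠ b → a ≠ c → b ≠ c → ¬ Z2 x →
      ∃ k l, k ≠ l ∧ (k = a ∨ k = b) ∧ (l = b ∨ l = c) ∧ x k * x k + x l * x l ≠ 0 := by
    intro x a b c hab hac hbc hz
    by_contra hcon
    push Not at hcon
    have e1 := hcon a b hab (Or.inl rfl) (Or.inl rfl)
    have e2 := hcon a c hac (Or.inl rfl) (Or.inr rfl)
    have e3 := hcon b c hbc (Or.inr rfl) (Or.inr rfl)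
    have ha : x a * x a = 0 := mul_left_cancel₀ h2 (by linear_combination e1 + e2 - e3)
    have hb : x b * x b = 0 := by linear_combination e1 - ha
    exact hz ⟨a, b, hab, mul_self_eq_zero.1 ha, mul_self_eq_zero.1 hb⟩
  have main1 : ∀ x, P1 x → (∃ o, x o = 0) → Par (fun k => d k * φ (x k)) (f x) := by
    rintro x hx ⟨o, xo⟩
    by_cases hz : Z2 x
    · exact main2 x hx hz
    refine finish x hx fun i j hij => ?_
    rcases eq_or_ne i o with rfl | hio
    · rw [(zero_iff x hx i).2 xo, xo, φ0]; ring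
    rcases eq_or_ne j o with rfl | hjo
    · rw [(zero_iff x hx j).2 xo, xo, φ0]; ring
    obtain ⟨a, b, c, ha, hb, hc, hab, hac, hbc⟩ := out3 hn ({i, j, o} : Finset ι)
      (Finset.card_le_three.trans (by norm_num))
    simp only [Finset.mem_insert, Finset.mem_singleton, not_or, ← ne_eq] at ha hb hc
    obtain ⟨k, l, hkl, hk, hl, hB⟩ := good x a b c hab hac hbc hz
    have hk' : k ≠ i ∧ k ≠ j ∧ k ≠ o := by rcases hk with rfl | rfl <;> assumption
    have hl' : l ≠ i ∧ l ≠ j ∧ l ≠ o := by rcases hl with rfl | rfl <;> assumption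
    obtain ⟨ki, kj, ko⟩ := hk'
    obtain ⟨li, lj, lo⟩ := hl'
    obtain ⟨t, s, hts⟩ := quad2 hodd one_ne_zero hB (1 - (x i * x i + x j * x j))
    set y : ι → F := Pi.single o t + Pi.single k (s * x l) + Pi.single l (-(s * x k)) with hy
    have yz : ∀ q, q ≠ o → q ≠ k → q ≠ l → y q = 0 := fun q a b c => by simp [hy, a, b, c]
    refine cross x hx i j hij y (yz i hio ki.symm li.symm) (yz j hjo kj.symm lj.symm) ?_ ?_ fun ε hε => ?_
    · simp only [hy, add_dotProduct, single_dotProduct, xo]; ring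
    · simp only [hy, add_dotProduct, single_dotProduct, Pi.add_apply]
      simp [ko, ko.symm, lo, lo.symm, hkl, hkl.symm]
      linear_combination hts
    · obtain ⟨u, v, hu, hv, huv⟩ := out2 hn ({i, j, o, k, l} : Finset ι) (card_le_five i j o k l)
      simp only [Finset.mem_insert, Finset.mem_singleton, not_or, ← ne_eq] at hu hv
      refine main2 _ ?_ ⟨u, v, huv, by simp [hu, yz], by simp [hv, yz]⟩
      refine p1_of_one ?_
      have yy : y ⬝ᵥ y = 1 - (x i * x i + x j * x j) := by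
        simp only [hy, add_dotProduct, single_dotProduct, Pi.add_apply]
        simp [ko, ko.symm, lo, lo.symm, hkl, hkl.symm]
        linear_combination hts
      simp only [add_dotProduct, dotProduct_add, single_dotProduct, smul_dotProduct, dotProduct_smul,
        dotProduct_single, smul_eq_mul, yy, Pi.single_apply]
      rcases hε with rfl | rfl <;>
        simp [hij, hij.symm, yz i hio ki.symm li.symm, yz j hjo kj.symm lj.symm] <;> ring
  have main : ∀ x, P1 x → Par (fun k => d k * φ (x k)) (f x) := by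
    intro x hx
    by_cases h0 : ∃ o, x o = 0
    · exact main1 x hx h0
    have hz : ¬ Z2 x := fun ⟨a, _, _, ha, _⟩ => h0 ⟨a, ha⟩
    refine finish x hx fun i j hij => ?_
    obtain ⟨a, b, c, ha, hb, hc, hab, hac, hbc⟩ := out3 hn ({i, j} : Finset ι)
      (Finset.card_le_two.trans (by norm_num))
    simp only [Finset.mem_insert, Finset.mem_singleton, not_or, ← ne_eq] at ha hb hc
    obtain ⟨k, l, hkl, hk, hl, hB⟩ := good x a b c hab hac hbc hz
    have hk' : k ≠ i ∧ k ≠ j := by rcases hk with rfl | rfl <;> assumption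
    have hl' : l ≠ i ∧ l ≠ j := by rcases hl with rfl | rfl <;> assumption
    obtain ⟨ki, kj⟩ := hk'
    obtain ⟨li, lj⟩ := hl'
    obtain ⟨a', b', c', ha', hb', hc', hab', hac', hbc'⟩ := out3 hn ({i, j, k, l} : Finset ι)
      (Finset.card_le_four)
    simp only [Finset.mem_insert, Finset.mem_singleton, not_or, ← ne_eq] at ha' hb' hc'
    obtain ⟨p, q, hpq, hp, hq, hB'⟩ := good x a' b' c' hab' hac' hbc' hz
    have hp' : p ≠ i ∧ p ≠ j ∧ p ≠ k ∧ p ≠ l := by rcases hp with rfl | rfl <;> assumption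
    have hq' : q ≠ i ∧ q ≠ j ∧ q ≠ k ∧ q ≠ l := by rcases hq with rfl | rfl <;> assumption
    obtain ⟨pi, pj, pk, pl⟩ := hp'
    obtain ⟨qi, qj, qk, ql⟩ := hq'
    obtain ⟨t, s, hts⟩ := quad2 hodd hB hB' (1 - (x i * x i + x j * x j))
    set y : ι → F := Pi.single k (t * x l) + Pi.single l (-(t * x k)) + Pi.single p (s * x q) +
      Pi.single q (-(s * x p)) with hy
    have yz : ∀ r, r ≠ k → r ≠ l → r ≠ p → r ≠ q → y r = 0 := fun r a b c d => by simp [hy, a, b, c, d]
    have yi := yz i ki.symm li.symm pi.symm qi.symm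
    have yj := yz j kj.symm lj.symm pj.symm qj.symm
    have yy : y ⬝ᵥ y = 1 - (x i * x i + x j * x j) := by
      simp only [hy, add_dotProduct, single_dotProduct, Pi.add_apply]
      simp [hkl, hkl.symm, hpq, hpq.symm, pk, pk.symm, pl, pl.symm, qk, qk.symm, ql, ql.symm]
      linear_combination hts
    refine cross x hx i j hij y yi yj ?_ yy fun ε hε => ?_
    · simp only [hy, add_dotProduct, single_dotProduct]; ring
    · have hS : ({i, j, k, l, p, q} : Finset ι).card ≤ 6 := Finset.card_le_six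
      obtain ⟨o, ho⟩ : ∃ o, o ∉ ({i, j, k, l, p, q} : Finset ι) := by
        by_contra hcon
        push Not at hcon
        rw [Finset.eq_univ_of_forall hcon, Finset.card_univ] at hS
        omega
      simp only [Finset.mem_insert, Finset.mem_singleton, not_or, ← ne_eq] at ho
      refine main1 _ ?_ ⟨o, by simp [ho, yz]⟩
      refine p1_of_one ?_
      simp only [add_dotProduct, dotProduct_add, single_dotProduct, smul_dotProduct, dotProduct_smul,
        dotProduct_single, smul_eq_mul, yy, Pi.single_apply]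
      rcases hε with rfl | rfl <;> simp [hij, hij.symm, yi, yj] <;> ring
  exact ⟨d, { Equiv.ofBijective φ (Finite.injective_iff_bijective.1 φinj) with
    map_mul' := φmul, map_add' := φadd }, d l₀ * d l₀, mul_ne_zero (dne _) (dne _), fun k => hD k l₀, main⟩

end Cfsg.Agent.OddAut
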