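import Cfsg.Agent.Lib.Classical.Disc
import Cfsg.Agent.Lib.Classical.OrthCommutator

/-!
Orthogonal sums, the Levi subgroup of the hyperbolic group, and membership in the commutator subgroup.
-/

set_option autoImplicit false
set_option linter.style.haveILetI false

open Module QuadraticMap Matrix

namespace Cfsg.Agent.Classical.Refl

variable {F : Type*} [Field F] [Fintype F] {ι : Type} [Fintype ι] [DecidableEq ι] (Q : QuadraticForm F (ι → F))
variable (hQ : (polarBilin Q).Nondegenerate)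

include hQ

theorem exists_reflList (hex : Fintype.card F ≠ 2 ∨ Fintype.card ι ≠ 4) (g : O Q) :
    ∃ l : List {v : ι → F // Q v ≠ 0}, g = Disc.reflList Q l := by
  induction (eq_top Q hQ hex ▸ Subgroup.mem_top g : g ∈ R Q) using Subgroup.closure_induction_left with
  | one => exact ⟨[], rfl⟩
  | mul_left x hx y _ ih =>
    obtain ⟨v, hv, he⟩ := hx
    obtain rfl : x = refl Q v hv := Subtype.ext (Units.ext he)
    obtain ⟨l, rfl⟩ := ih
    exact ⟨⟨v, hv⟩ :: l, rfl⟩
  | inv_mul_cancel x hx y _ ih =>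
    obtain ⟨v, hv, he⟩ := hx
    obtain rfl : x = refl Q v hv := Subtype.ext (Units.ext he)
    obtain ⟨l, rfl⟩ := ih
    exact ⟨⟨v, hv⟩ :: l, by rw [refl_inv]; rfl⟩

theorem dickson_reflList' (hex : Fintype.card F ≠ 2 ∨ Fintype.card ι ≠ 4) :
    ∀ l : List {v : ι → F // Q v ≠ 0}, dickson Q hQ hex (Disc.reflList Q l) = (-1) ^ l.length
  | [] => map_one _
  | v :: l => by
    show dickson Q hQ hex (refl Q v.1 v.2 * Disc.reflList Q l) = _
    rw [map_mul, dickson_refl Q hQ hex v.1 v.2, dickson_reflList' hex l, List.length_cons, pow_succ, mul_comm]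

theorem reflList_mem_iff (hn : 2 ≤ Fintype.card ι) (hex : Fintype.card F ≠ 2 ∨ Fintype.card ι ≠ 4)
    (l : List {v : ι → F // Q v ≠ 0}) :
    Disc.reflList Q l ∈ commutator (O Q) ↔ Even l.length ∧ IsSquare ((l.map fun v => Q v.1).prod) := by
  by_cases h2 : (2 : F) = 0
  · have hch : ringChar F = 2 := CharP.ringChar_of_prime_eq_zero Nat.prime_two (by exact_mod_cast h2)
    haveI : CharP F 2 := ringChar.of_eq hch
    rw [← ker_dickson Q hQ (by omega) hex, MonoidHom.mem_ker, dickson_reflList' Q hQ hex]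
    refine ⟨fun h => ⟨?_, FiniteField.isSquare_of_char_two hch _⟩, fun h => h.1.neg_one_pow⟩
    rcases Nat.even_or_odd l.length with he | ho
    · exact he
    · rw [ho.neg_one_pow] at h; exact absurd h (by decide)
  · exact Disc.reflList_mem_commutator Q hQ h2 hn l

theorem sq_mem_commutator (hn : 2 ≤ Fintype.card ι) (hex : Fintype.card F ≠ 2 ∨ Fintype.card ι ≠ 4) (g : O Q) :
    g * g ∈ commutator (O Q) := by
  by_cases h2 : (2 : F) = 0
  · have hch : ringChar F = 2 := CharP.ringChar_of_prime_eq_zero Nat.prime_two (by exact_mod_cast h2)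
    haveI : CharP F 2 := ringChar.of_eq hch
    rw [← ker_dickson Q hQ (by omega) hex, MonoidHom.mem_ker, map_mul]
    exact Int.units_mul_self _
  · obtain ⟨u, w, hu, hw, huw⟩ := exists_classes Q hQ h2 hn
    rw [← ker_psi Q hQ h2 hu hw huw, MonoidHom.mem_ker, map_mul]
    exact Prod.ext (Int.units_mul_self _) (Int.units_mul_self _)

theorem dickson_eq_one (hex : Fintype.card F ≠ 2 ∨ Fintype.card ι ≠ 4) {g : O Q} (hg : g ∈ commutator (O Q)) :
    dickson Q hQ hex g = 1 :=
  Abelianization.commutator_subset_ker (dickson Q hQ hex) hg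

end Cfsg.Agent.Classical.Refl

namespace Cfsg.Agent.Classical.OrthSum

section sum

variable {F : Type*} [Field F] {κ μ : Type} [Fintype κ] [DecidableEq κ] [Fintype μ] [DecidableEq μ]
  (Q₁ : QuadraticForm F (κ → F)) (Q₂ : QuadraticForm F (μ → F))

/-- The orthogonal sum. -/
def Qs : QuadraticForm F (κ ⊕ μ → F) :=
  Q₁.comp (LinearMap.funLeft F F Sum.inl) + Q₂.comp (LinearMap.funLeft F F Sum.inr)

omit [Fintype κ] [DecidableEq κ] [Fintype μ] [DecidableEq μ] in
theorem Qs_apply (v : κ ⊕ μ → F) : Qs Q₁ Q₂ v = Q₁ (v ∘ Sum.inl) + Q₂ (v ∘ Sum.inr) := rfl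

omit [Fintype κ] [DecidableEq κ] [Fintype μ] [DecidableEq μ] in
theorem polar_Qs (u v : κ ⊕ μ → F) :
    polar (Qs Q₁ Q₂) u v = polar Q₁ (u ∘ Sum.inl) (v ∘ Sum.inl) + polar Q₂ (u ∘ Sum.inr) (v ∘ Sum.inr) := by
  simp only [polar, Qs_apply, Pi.add_comp]; ring

omit [Fintype κ] [DecidableEq κ] [Fintype μ] [DecidableEq μ] in
theorem Qs_nondeg (h₁ : (polarBilin Q₁).Nondegenerate) (h₂ : (polarBilin Q₂).Nondegenerate) :
    (polarBilin (Qs Q₁ Q₂)).Nondegenerate := by
  have h : ∀ u, (∀ v, polar (Qs Q₁ Q₂) u v = 0) → u = 0 := fun u hu => by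
    have e1 : u ∘ Sum.inl = 0 := h₁.1 _ fun y => by
      have h := hu (Sum.elim y 0)
      rw [polar_Qs, Sum.elim_comp_inl, Sum.elim_comp_inr, polar_zero_right, add_zero] at h
      exact h
    have e2 : u ∘ Sum.inr = 0 := h₂.1 _ fun y => by
      have h := hu (Sum.elim 0 y)
      rw [polar_Qs, Sum.elim_comp_inl, Sum.elim_comp_inr, polar_zero_right, zero_add] at h
      exact h
    funext i
    rcases i with i | i
    · exact congrFun e1 i
    · exact congrFun e2 i
  exact ⟨h, fun y hy => h y fun x => by rw [polar_comm]; exact hy x⟩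

/-- The matrix of `diag(g₁, 1)`. -/
def blockL : Cfsg.isometryGroup F ⇑Q₁ →* Matrix (κ ⊕ μ) (κ ⊕ μ) F where
  toFun g := fromBlocks ((g : GL κ F) : Matrix κ κ F) 0 0 1
  map_one' := fromBlocks_one
  map_mul' g h := by simp [fromBlocks_multiply]

/-- The matrix of `diag(1, g₂)`. -/
def blockR : Cfsg.isometryGroup F ⇑Q₂ →* Matrix (κ ⊕ μ) (κ ⊕ μ) F where
  toFun g := fromBlocks 1 0 0 ((g : GL μ F) : Matrix μ μ F)
  map_one' := fromBlocks_one
  map_mul' g h := by simp [fromBlocks_multiply]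

/-- The embedding of the first summand. -/
def inl : Cfsg.isometryGroup F ⇑Q₁ →* Cfsg.isometryGroup F ⇑(Qs Q₁ Q₂) :=
  (blockL (μ := μ) Q₁).toHomUnits.codRestrict _ fun g => fun u _ => by
    show Qs Q₁ Q₂ (fromBlocks ((g : GL κ F) : Matrix κ κ F) 0 0 1 *ᵥ u) = Qs Q₁ Q₂ u
    rw [fromBlocks_mulVec, Qs_apply, Qs_apply]
    simp only [Sum.elim_comp_inl, Sum.elim_comp_inr, zero_mulVec, add_zero, zero_add, one_mulVec]
    congr 1
    exact g.2 (u ∘ Sum.inl) (u ∘ Sum.inl)

/-- The embedding of the second summand. -/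
def inr : Cfsg.isometryGroup F ⇑Q₂ →* Cfsg.isometryGroup F ⇑(Qs Q₁ Q₂) :=
  (blockR (κ := κ) Q₂).toHomUnits.codRestrict _ fun g => fun u _ => by
    show Qs Q₁ Q₂ (fromBlocks 1 0 0 ((g : GL μ F) : Matrix μ μ F) *ᵥ u) = Qs Q₁ Q₂ u
    rw [fromBlocks_mulVec, Qs_apply, Qs_apply]
    simp only [Sum.elim_comp_inl, Sum.elim_comp_inr, zero_mulVec, add_zero, zero_add, one_mulVec]
    congr 1
    exact g.2 (u ∘ Sum.inr) (u ∘ Sum.inr)

theorem inl_coe (g : Cfsg.isometryGroup F ⇑Q₁) :
    ((inl Q₁ Q₂ g : GL (κ ⊕ μ) F) : Matrix (κ ⊕ μ) (κ ⊕ μ) F) = fromBlocks ((g : GL κ F) : Matrix κ κ F) 0 0 1 := rfl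

theorem inr_coe (g : Cfsg.isometryGroup F ⇑Q₂) :
    ((inr Q₁ Q₂ g : GL (κ ⊕ μ) F) : Matrix (κ ⊕ μ) (κ ⊕ μ) F) = fromBlocks 1 0 0 ((g : GL μ F) : Matrix μ μ F) := rfl

theorem inl_mul_inr_coe (g : Cfsg.isometryGroup F ⇑Q₁) (h : Cfsg.isometryGroup F ⇑Q₂) :
    (((inl Q₁ Q₂ g * inr Q₁ Q₂ h) : Cfsg.isometryGroup F ⇑(Qs Q₁ Q₂)) : GL (κ ⊕ μ) F).1 =
      fromBlocks ((g : GL κ F) : Matrix κ κ F) 0 0 ((h : GL μ F) : Matrix μ μ F) := by
  show ((inl Q₁ Q₂ g : GL (κ ⊕ μ) F) : Matrix (κ ⊕ μ) (κ ⊕ μ) F) * ((inr Q₁ Q₂ h : GL (κ ⊕ μ) F) : Matrix (κ ⊕ μ) (κ ⊕ μ) F) = _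
  rw [inl_coe, inr_coe, fromBlocks_multiply]
  simp

variable [Fintype F]

omit [Fintype μ] [DecidableEq μ] [DecidableEq κ] [Fintype κ] [Fintype F] in
theorem Qs_elim (v : κ → F) : Qs Q₁ Q₂ (Sum.elim v 0) = Q₁ v := by
  rw [Qs_apply, Sum.elim_comp_inl, Sum.elim_comp_inr, QuadraticMap.map_zero, add_zero]

theorem inl_refl (v : κ → F) (hv : Q₁ v ≠ 0) :
    inl Q₁ Q₂ (Refl.refl Q₁ v hv) = Refl.refl (Qs Q₁ Q₂) (Sum.elim v 0) (by rwa [Qs_elim]) := by
  refine Refl.act_ext _ fun y => ?_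
  rw [Refl.act_refl, Qs_elim, polar_Qs, Sum.elim_comp_inl, Sum.elim_comp_inr, polar_zero_left, add_zero]
  show fromBlocks ((Refl.refl Q₁ v hv : GL κ F) : Matrix κ κ F) 0 0 1 *ᵥ y = _
  rw [fromBlocks_mulVec]
  have h := Refl.act_refl Q₁ v hv (y ∘ Sum.inl)
  simp only [zero_mulVec, add_zero, zero_add, one_mulVec]
  rw [show ((Refl.refl Q₁ v hv : GL κ F) : Matrix κ κ F) *ᵥ (y ∘ Sum.inl) = _ from h]
  funext i
  rcases i with i | i <;> simp

theorem inl_reflList (l : List {v : κ → F // Q₁ v ≠ 0}) :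
    inl Q₁ Q₂ (Disc.reflList Q₁ l) =
      Disc.reflList (Qs Q₁ Q₂) (l.map fun v => ⟨Sum.elim v.1 0, by rw [Qs_elim]; exact v.2⟩) := by
  induction l with
  | nil => exact map_one _
  | cons v l ih =>
    show inl Q₁ Q₂ (Refl.refl Q₁ v.1 v.2 * Disc.reflList Q₁ l) = _
    rw [map_mul, inl_refl, ih]; rfl

end sum

section levi

variable {F : Type*} [Field F] {m : ℕ}

/-- The matrix of `diag(A, A⁻ᵀ)`. -/
def leviBlock : GL (Fin m) F →* Matrix (Fin m ⊕ Fin m) (Fin m ⊕ Fin m) F where
  toFun A := fromBlocks (A : Matrix (Fin m) (Fin m) F) 0 0 (((A⁻¹ : GL (Fin m) F) : Matrix (Fin m) (Fin m) F))ᵀ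
  map_one' := by simp
  map_mul' A B := by simp [fromBlocks_multiply, _root_.mul_inv_rev, transpose_mul]

/-- The Levi subgroup. -/
def levi : GL (Fin m) F →* Cfsg.isometryGroup F ⇑(PlusMax.QP (F := F) (m := m)) :=
  leviBlock.toHomUnits.codRestrict _ fun A => fun u _ => by
    show PlusMax.QP (fromBlocks (A : Matrix (Fin m) (Fin m) F) 0 0 (((A⁻¹ : GL (Fin m) F) : Matrix (Fin m) (Fin m) F))ᵀ *ᵥ u) = PlusMax.QP u
    rw [fromBlocks_mulVec, PlusMax.QP_apply, PlusMax.QP_apply]
    simp only [Cfsg.quadFormPlus, zero_mulVec, add_zero, zero_add, Sum.elim_inl, Sum.elim_inr]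
    show ((A : Matrix (Fin m) (Fin m) F) *ᵥ (u ∘ Sum.inl)) ⬝ᵥ ((((A⁻¹ : GL (Fin m) F) : Matrix (Fin m) (Fin m) F))ᵀ *ᵥ (u ∘ Sum.inr)) = (u ∘ Sum.inl) ⬝ᵥ (u ∘ Sum.inr)
    rw [mulVec_transpose, dotProduct_comm, ← dotProduct_mulVec, mulVec_mulVec, ← Units.val_mul, inv_mul_cancel,
      Units.val_one, one_mulVec, dotProduct_comm]

theorem levi_coe (A : GL (Fin m) F) : ((levi A : GL (Fin m ⊕ Fin m) F) : Matrix (Fin m ⊕ Fin m) (Fin m ⊕ Fin m) F) =
    fromBlocks (A : Matrix (Fin m) (Fin m) F) 0 0 ((A : Matrix (Fin m) (Fin m) F)⁻¹)ᵀ := by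
  rw [← Matrix.coe_units_inv]; rfl

variable [Fintype F]

theorem dsign_levi (A : GL (Fin m) F) : Refl.dsign (PlusMax.QP (F := F) (m := m)) (levi A) = 1 := by
  set M : Matrix (Fin m) (Fin m) F := (A : Matrix (Fin m) (Fin m) F)
  let K₁ : Submodule F (Fin m → F) := LinearMap.ker (Matrix.mulVecLin (M - 1))
  let K₂ : Submodule F (Fin m → F) := LinearMap.ker (Matrix.mulVecLin (Mᵀ - 1))
  have hrank : finrank F K₁ = finrank F K₂ := by
    have h1 := LinearMap.finrank_range_add_finrank_ker (Matrix.mulVecLin (M - 1))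
    have h2 := LinearMap.finrank_range_add_finrank_ker (Matrix.mulVecLin (Mᵀ - 1))
    have h3 : (Mᵀ - 1).rank = (M - 1).rank := by
      rw [← Matrix.rank_transpose (M - 1), transpose_sub, transpose_one]
    unfold Matrix.rank at h3
    show finrank F ↥(LinearMap.ker (Matrix.mulVecLin (M - 1))) = finrank F ↥(LinearMap.ker (Matrix.mulVecLin (Mᵀ - 1)))
    omega
  have hK₂ : ∀ y : Fin m → F, y ∈ K₂ ↔ (((A⁻¹ : GL (Fin m) F) : Matrix (Fin m) (Fin m) F))ᵀ *ᵥ y = y := fun y => by
    show (Mᵀ - 1) *ᵥ y = 0 ↔ _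
    rw [sub_mulVec, one_mulVec, sub_eq_zero]
    constructor
    · intro h
      conv_lhs => rw [← h]
      rw [mulVec_mulVec, ← transpose_mul, ← Units.val_mul, mul_inv_cancel, Units.val_one, transpose_one, one_mulVec]
    · intro h
      conv_lhs => rw [← h]
      rw [mulVec_mulVec, ← transpose_mul, ← Units.val_mul, inv_mul_cancel, Units.val_one, transpose_one, one_mulVec]
  have hfix : ∀ u, u ∈ Refl.Fix _ (levi A) ↔ (u ∘ Sum.inl) ∈ K₁ ∧ (u ∘ Sum.inr) ∈ K₂ := fun u => by
    rw [Refl.mem_Fix, hK₂]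
    show leviBlock A *ᵥ u = u ↔ (M - 1) *ᵥ (u ∘ Sum.inl) = 0 ∧ _
    rw [show leviBlock A = fromBlocks M 0 0 (((A⁻¹ : GL (Fin m) F) : Matrix (Fin m) (Fin m) F))ᵀ from rfl,
      fromBlocks_mulVec, sub_mulVec, one_mulVec, sub_eq_zero, funext_iff, funext_iff, funext_iff]
    simp [Sum.forall]
  let e : Refl.Fix _ (levi A) ≃ₗ[F] K₁ × K₂ :=
    { toFun := fun u => (⟨_, ((hfix u.1).1 u.2).1⟩, ⟨_, ((hfix u.1).1 u.2).2⟩)
      map_add' := fun u v => rfl
      map_smul' := fun c u => rfl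
      invFun := fun p => ⟨Sum.elim p.1.1 p.2.1, (hfix _).2 ⟨by rw [Sum.elim_comp_inl]; exact p.1.2, by rw [Sum.elim_comp_inr]; exact p.2.2⟩⟩
      left_inv := fun u => Subtype.ext (Sum.elim_comp_inl_inr u.1)
      right_inv := fun p => rfl }
  rw [Refl.dsign, e.finrank_eq, finrank_prod, hrank, Fintype.card_sum, Even.neg_one_pow]
  exact ⟨Fintype.card (Fin m) + finrank F K₂, by omega⟩

theorem levi_mem_iff (hm : 1 ≤ m) (hex : Fintype.card F ≠ 2 ∨ m ≠ 2) (A : GL (Fin m) F) :
    levi A ∈ commutator (Refl.O (PlusMax.QP (F := F) (m := m))) ↔ IsSquare (A : Matrix (Fin m) (Fin m) F).det := by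
  classical
  have hex' : Fintype.card F ≠ 2 ∨ Fintype.card (Fin m ⊕ Fin m) ≠ 4 := by
    rcases hex with h | h
    · exact Or.inl h
    · right; rw [Fintype.card_sum, Fintype.card_fin]; omega
  set Q := PlusMax.QP (F := F) (m := m)
  have hQ := PlusMax.nondeg (F := F) (m := m)
  have hn : 2 ≤ Fintype.card (Fin m ⊕ Fin m) := by rw [Fintype.card_sum, Fintype.card_fin]; omega
  by_cases h2 : (2 : F) = 0
  · have hch : ringChar F = 2 := CharP.ringChar_of_prime_eq_zero Nat.prime_two (by exact_mod_cast h2)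
    haveI : CharP F 2 := ringChar.of_eq hch
    refine iff_of_true ?_ (FiniteField.isSquare_of_char_two hch _)
    rw [← Refl.ker_dickson Q hQ (by omega) hex', MonoidHom.mem_ker]
    exact dsign_levi A
  obtain ⟨u, hu⟩ := Refl.represents Q hQ h2 hn (one_ne_zero (α := F))
  obtain ⟨b, hb, hb'⟩ := Refl.exists_not_cls h2 (one_ne_zero (α := F))
  obtain ⟨w, hw⟩ := Refl.represents Q hQ h2 hn hb
  have hu0 : Q u ≠ 0 := by rw [hu]; exact one_ne_zero
  have hw0 : Q w ≠ 0 := by rw [hw]; exact hb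
  have hchi : ∀ A : GL (Fin m) F, Refl.chi Q 1 (levi A) = Disc.sgn (A : Matrix (Fin m) (Fin m) F).det := by
    suffices h : ∀ M : Matrix (Fin m) (Fin m) F, M.det ≠ 0 → ∀ hM : M.det ≠ 0,
        Refl.chi Q 1 (levi (Matrix.GeneralLinearGroup.mkOfDetNeZero M hM)) = Disc.sgn M.det by
      intro A
      have h' : (A : Matrix (Fin m) (Fin m) F).det ≠ 0 := ((Matrix.isUnit_iff_isUnit_det _).1 A.isUnit).ne_zero
      have e : Matrix.GeneralLinearGroup.mkOfDetNeZero _ h' = A := Units.ext rfl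
      conv_lhs => rw [← e]
      exact h _ h' h'
    intro M hM
    refine diagonal_transvection_induction_of_det_ne_zero (fun M => ∀ hM : M.det ≠ 0,
      Refl.chi Q 1 (levi (Matrix.GeneralLinearGroup.mkOfDetNeZero M hM)) = Disc.sgn M.det) M hM ?_ ?_ ?_
    · -- diagonal matrices
      intro D hD _
      have hD0 : ∀ i, D i ≠ 0 := fun i => by
        rw [det_diagonal] at hD
        exact Finset.prod_ne_zero_iff.1 hD i (Finset.mem_univ i)
      suffices hs : ∀ s : Finset (Fin m), ∀ (E : Fin m → F), (∀ i, E i ≠ 0) → (∀ i ∉ s, E i = 1) →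
          ∀ hE : (diagonal E).det ≠ 0,
          Refl.chi Q 1 (levi (Matrix.GeneralLinearGroup.mkOfDetNeZero (diagonal E) hE)) = Disc.sgn (diagonal E).det by
        exact hs Finset.univ D hD0 (fun i hi => absurd (Finset.mem_univ i) hi) hD
      intro s
      induction s using Finset.induction with
      | empty =>
        intro E _ hE1 hE
        have : E = 1 := funext fun i => hE1 i (Finset.notMem_empty i)
        subst this
        rw [show Matrix.GeneralLinearGroup.mkOfDetNeZero (diagonal (1 : Fin m → F)) hE = 1 from Units.ext (by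
          show diagonal (1 : Fin m → F) = 1
          exact diagonal_one), map_one, map_one]
        simp [Disc.sgn]
      | @insert i s hi ih =>
        intro E hE0 hE1 hE
        set d := E i
        set E' := Function.update E i 1
        have hE' : ∀ j, E' j ≠ 0 := fun j => by
          by_cases h : j = i
          · subst h; simp [E']
          · simp [E', h, hE0 j]
        set D1 : Fin m → F := Function.update 1 i d
        have hD1 : (diagonal D1).det ≠ 0 := by
          rw [det_diagonal, Finset.prod_ne_zero_iff]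
          intro j _
          by_cases h : j = i
          · subst h; simpa [D1, d] using hE0 _
          · simp [D1, h]
        have hE'd : (diagonal E').det ≠ 0 := by
          rw [det_diagonal, Finset.prod_ne_zero_iff]; exact fun j _ => hE' j
        have hprod : diagonal E = diagonal D1 * diagonal E' := by
          rw [diagonal_mul_diagonal]; congr 1; funext j
          by_cases h : j = i
          · subst h; simp [D1, E', d]
          · simp [D1, E', h]
        have hmk : Matrix.GeneralLinearGroup.mkOfDetNeZero (diagonal E) hE =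
            Matrix.GeneralLinearGroup.mkOfDetNeZero (diagonal D1) hD1 * Matrix.GeneralLinearGroup.mkOfDetNeZero (diagonal E') hE'd :=
          Units.ext hprod
        rw [hmk, map_mul, map_mul, hprod, det_mul, Disc.sgn_mul h2 hD1 hE'd,
          ih E' hE' (fun j hj => by
            by_cases h : j = i
            · subst h; simp [E']
            · simp only [E', Function.update_of_ne h]; exact hE1 j (by simp [h, hj])) hE'd]
        congr 1
        -- two reflections in the hyperbolic plane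
        have hd : d ≠ 0 := hE0 i
        set v1 : Fin m ⊕ Fin m → F := Pi.single (Sum.inl i) 1 - Pi.single (Sum.inr i) 1
        set v2 : Fin m ⊕ Fin m → F := Pi.single (Sum.inl i) 1 - d • Pi.single (Sum.inr i) 1
        have hQ1 : Q v1 = -1 := by simp [Q, v1, PlusMax.QP_apply, Cfsg.quadFormPlus, Pi.single_apply]
        have hQ2 : Q v2 = -d := by simp [Q, v2, PlusMax.QP_apply, Cfsg.quadFormPlus, Pi.single_apply]
        have hv1 : Q v1 ≠ 0 := by rw [hQ1]; exact neg_ne_zero.2 one_ne_zero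
        have hv2 : Q v2 ≠ 0 := by rw [hQ2]; exact neg_ne_zero.2 hd
        have he : levi (Matrix.GeneralLinearGroup.mkOfDetNeZero (diagonal D1) hD1) = Disc.reflList Q [⟨v1, hv1⟩, ⟨v2, hv2⟩] := by
          refine Refl.act_ext Q fun y => ?_
          show ((levi (Matrix.GeneralLinearGroup.mkOfDetNeZero (diagonal D1) hD1) : GL (Fin m ⊕ Fin m) F) : Matrix _ _ F) *ᵥ y =
            Refl.act Q (Refl.refl Q v1 hv1 * (Refl.refl Q v2 hv2 * 1)) y
          rw [mul_one, Refl.act_mul, Refl.act_refl, Refl.act_refl, hQ1, hQ2, levi_coe, fromBlocks_mulVec]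
          have hinv : (diagonal D1)⁻¹ = diagonal (fun j => (D1 j)⁻¹) := inv_eq_right_inv (by
            rw [diagonal_mul_diagonal, ← diagonal_one]; congr 1; funext j
            by_cases h : j = i
            · subst h; simp [D1, hd]
            · simp [D1, h])
          rw [show ((Matrix.GeneralLinearGroup.mkOfDetNeZero (diagonal D1) hD1 : GL (Fin m) F) : Matrix (Fin m) (Fin m) F) = diagonal D1 from rfl,
            hinv, diagonal_transpose]
          funext j
          rcases j with j | j <;> by_cases h : j = i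
          · subst h
            simp [D1, v1, v2, Q, PlusMax.polar_QP, PlusMax.QP_apply, Cfsg.quadFormPlus, mulVec_diagonal, Pi.single_apply, sub_mul, Finset.sum_sub_distrib, mul_sub]
            field_simp; ring
          · simp [D1, v1, v2, mulVec_diagonal, Pi.single_apply, h]
          · subst h
            simp [D1, v1, v2, Q, PlusMax.polar_QP, PlusMax.QP_apply, Cfsg.quadFormPlus, mulVec_diagonal, Pi.single_apply, sub_mul, Finset.sum_sub_distrib, mul_sub]
            field_simp; ring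
          · simp [D1, v1, v2, mulVec_diagonal, Pi.single_apply, h]
        rw [he, Disc.chi_reflList Q hQ h2]
        simp [hQ1, hQ2, det_diagonal, D1, Finset.prod_update_of_mem]
    · -- transvections are squares
      intro t hdet
      rw [TransvectionStruct.det, show Disc.sgn (1 : F) = 1 by simp [Disc.sgn]]
      have hh : ((Matrix.transvection t.i t.j (t.c / 2)) : Matrix (Fin m) (Fin m) F).det ≠ 0 := by
        rw [det_transvection_of_ne t.i t.j t.hij]; exact one_ne_zero
      have e : Matrix.GeneralLinearGroup.mkOfDetNeZero t.toMatrix hdet =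
          Matrix.GeneralLinearGroup.mkOfDetNeZero _ hh * Matrix.GeneralLinearGroup.mkOfDetNeZero _ hh := Units.ext (by
        show t.toMatrix = Matrix.transvection t.i t.j (t.c / 2) * Matrix.transvection t.i t.j (t.c / 2)
        rw [transvection_mul_transvection_same t.i t.j t.hij, ← add_div, ← two_mul, mul_div_cancel_left₀ _ h2]
        rfl)
      rw [e, map_mul, map_mul, Int.units_mul_self]
    · intro A B hA hB ihA ihB hAB
      rw [show Matrix.GeneralLinearGroup.mkOfDetNeZero (A * B) hAB =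
        Matrix.GeneralLinearGroup.mkOfDetNeZero A hA * Matrix.GeneralLinearGroup.mkOfDetNeZero B hB from Units.ext rfl,
        map_mul, map_mul, ihA hA, ihB hB, det_mul, Disc.sgn_mul h2 hA hB]
  rw [← Refl.ker_psi Q hQ h2 hu0 hw0 (by rw [hu, hw]; exact hb'), MonoidHom.mem_ker, hu, Refl.psi, MonoidHom.prod_apply,
    Prod.mk_eq_one, hchi, show Refl.dickson Q hQ (Refl.hex' Q hQ h2) (levi A) = 1 from dsign_levi A]
  unfold Disc.sgn
  split_ifs with h <;> simp [h]

end levi

end Cfsg.Agent.Classical.OrthSum
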