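import Cfsg.Agent.Lib.Classical.OddAutExp
import Cfsg.Agent.Lib.Classical.OddAutFrame
import Cfsg.Agent.Lib.Classical.OrthSum
import Cfsg.Agent.Lib.Classical.OmegaCenter

/-!
Involutions of `Ω_{2m+1}(q)` with a one-dimensional fixed space: they form an invariant class.
-/

set_option autoImplicit false
set_option linter.style.haveILetI false
set_option linter.unusedSectionVars false

open Matrix QuadraticMap Module

namespace Cfsg.Agent.OddAut

open Cfsg.Agent.Classical Cfsg.Agent.Classical.Refl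

variable {F : Type*} [Field F] [Fintype F] {ι : Type} [Fintype ι] [DecidableEq ι] (Q : QuadraticForm F (ι → F))

/-- Minus the identity. -/
noncomputable def negI : O Q :=
  ⟨-1, fun u _ => by
    show Q ((-1 : Matrix ι ι F) *ᵥ u) = Q u
    rw [neg_mulVec, one_mulVec, QuadraticMap.map_neg]⟩

theorem act_negI (y : ι → F) : act Q (negI Q) y = -y := by
  show (-1 : Matrix ι ι F) *ᵥ y = -y
  rw [neg_mulVec, one_mulVec]

theorem act_neg' (g : O Q) (y : ι → F) : act Q g (-y) = -act Q g y := Matrix.mulVec_neg _ _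

theorem act_smul' (g : O Q) (a : F) (y : ι → F) : act Q g (a • y) = a • act Q g y := Matrix.mulVec_smul _ _ _

theorem act_eq_zero' (g : O Q) {y : ι → F} (h : act Q g y = 0) : y = 0 := by
  rw [← act_inv Q g⁻¹ y, inv_inv, h]
  exact Matrix.mulVec_zero _

/-- Minus a reflection. -/
noncomputable def sref (x : ι → F) (hx : Q x ≠ 0) : O Q := negI Q * refl Q x hx

theorem act_sref (x : ι → F) (hx : Q x ≠ 0) (y : ι → F) :
    act Q (sref Q x hx) y = ((Q x)⁻¹ * polar Q x y) • x - y := by
  rw [sref, act_mul, act_negI, act_refl, neg_sub]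

theorem sref_sq (x : ι → F) (hx : Q x ≠ 0) : sref Q x hx * sref Q x hx = 1 := act_ext Q fun y => by
  rw [act_mul, sref, act_mul, act_negI, act_mul, act_negI, act_neg', neg_neg, refl_refl, act_one]

theorem sref_conj (g : O Q) (x : ι → F) (hx : Q x ≠ 0) :
    g * sref Q x hx * g⁻¹ = sref Q (act Q g x) (by rwa [Q_act]) := act_ext Q fun y => by
  conv_rhs => rw [act_sref, ← act_inv Q g y, polar_act, Q_act]
  rw [act_mul, act_mul, act_sref, sub_eq_add_neg, act_add, act_smul', act_neg', act_inv, ← sub_eq_add_neg]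

theorem par_of_sref_eq (h2 : (2 : F) ≠ 0) {x y : ι → F} (hx : Q x ≠ 0) (hy : Q y ≠ 0)
    (h : sref Q x hx = sref Q y hy) : Par x y := by
  have e := congrArg (fun g => act Q g y) h
  simp only [act_sref, WittExt.polar_self_eq] at e
  have e' : ((Q x)⁻¹ * polar Q x y) • x = (2 : F) • y := by
    rw [sub_left_inj] at e
    rw [e]
    congr 1
    field_simp
  have ha : (Q x)⁻¹ * polar Q x y ≠ 0 := fun ha => by
    rw [ha, zero_smul, eq_comm, smul_eq_zero] at e'
    exact hy (by rw [e'.resolve_left h2, QuadraticMap.map_zero])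
  exact ⟨(2 : F)⁻¹ * ((Q x)⁻¹ * polar Q x y), mul_ne_zero (inv_ne_zero h2) ha, by
    rw [mul_smul, e', inv_smul_smul₀ h2]⟩

theorem sref_smul (x : ι → F) (hx : Q x ≠ 0) (a : F) (ha : a ≠ 0) :
    sref Q (a • x) (by rw [QuadraticMap.map_smul, smul_eq_mul]; exact mul_ne_zero (mul_ne_zero ha ha) hx) =
      sref Q x hx := by
  rw [sref, sref, refl_smul Q x hx ha]

theorem sref_comm_iff (h2 : (2 : F) ≠ 0) {x y : ι → F} (hx : Q x ≠ 0) (hy : Q y ≠ 0) :
    Commute (sref Q x hx) (sref Q y hy) ↔ polar Q x y = 0 ∨ Par x y := by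
  constructor
  · intro h
    have e : sref Q (act Q (sref Q x hx) y) (by rwa [Q_act]) = sref Q y hy := by
      rw [← sref_conj Q (sref Q x hx) y hy, h.eq, mul_inv_cancel_right]
    obtain ⟨a, ha, e'⟩ := par_of_sref_eq Q h2 (by rwa [Q_act]) hy e
    rw [act_sref, smul_sub, smul_smul] at e'
    by_cases hp : polar Q x y = 0
    · exact Or.inl hp
    refine Or.inr ?_
    set b := a * ((Q x)⁻¹ * polar Q x y) with hb
    have hb0 : b ≠ 0 := mul_ne_zero ha (mul_ne_zero (inv_ne_zero hx) hp)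
    have e2 : (1 + a) • y = b • x := by linear_combination (norm := module) e'
    have h1a : 1 + a ≠ 0 := fun h0 => by
      rw [h0, zero_smul, eq_comm, smul_eq_zero] at e2
      exact hx (by rw [e2.resolve_left hb0, QuadraticMap.map_zero])
    exact ⟨(1 + a)⁻¹ * b, mul_ne_zero (inv_ne_zero h1a) hb0, by rw [mul_smul, ← e2, inv_smul_smul₀ h1a]⟩
  · rintro (h | ⟨a, ha, rfl⟩)
    · refine act_ext Q fun z => ?_
      rw [act_mul, act_mul, act_sref, act_sref, act_sref, act_sref, polar_sub_right, polar_sub_right,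
        polar_smul_right, polar_smul_right, polar_comm (⇑Q) y x, h, smul_zero, smul_zero, zero_sub, zero_sub]
      module
    · rw [sref_smul Q x hx a ha]

section fixed

variable (hQ : (polarBilin Q).Nondegenerate) (h2 : (2 : F) ≠ 0)

/-- The negated space. -/
def Wm (s : O Q) : Submodule F (ι → F) := LinearMap.ker (lin Q s + LinearMap.id)

theorem mem_Wm (s : O Q) (x : ι → F) : x ∈ Wm Q s ↔ act Q s x = -x := by
  rw [Wm, LinearMap.mem_ker, LinearMap.add_apply, lin_apply, LinearMap.id_apply, add_eq_zero_iff_eq_neg]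

variable {s : O Q} (hs : s * s = 1)

include h2 in
theorem polar_Fix_Wm {x y : ι → F} (hx : x ∈ Fix Q s) (hy : y ∈ Wm Q s) : polar Q x y = 0 := by
  rw [mem_Fix] at hx
  rw [mem_Wm] at hy
  have e := polar_act Q s x y
  rw [hx, hy, polar_neg_right] at e
  exact (mul_eq_zero.1 (show (2 : F) * polar Q x y = 0 by linear_combination -e)).resolve_left h2

include h2 hs

theorem isCompl_Fix_Wm : IsCompl (Fix Q s) (Wm Q s) := by
  constructor
  · rw [Submodule.disjoint_def]
    intro x hx hx'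
    rw [mem_Fix] at hx
    rw [mem_Wm, hx, eq_neg_iff_add_eq_zero, ← two_smul F] at hx'
    exact (smul_eq_zero.1 hx').resolve_left h2
  · rw [codisjoint_iff, eq_top_iff]
    intro x _
    have hss : act Q s (act Q s x) = x := by rw [← act_mul, hs, act_one]
    refine Submodule.mem_sup.2 ⟨(2 : F)⁻¹ • (x + act Q s x), ?_, (2 : F)⁻¹ • (x - act Q s x), ?_, ?_⟩
    · rw [mem_Fix, act_smul', act_add, hss, add_comm]
    · rw [mem_Wm, act_smul', sub_eq_add_neg, act_add, act_neg', hss, ← smul_neg, neg_add, neg_neg, add_comm]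
    · rw [← smul_add, add_add_sub_cancel, ← two_smul F, inv_smul_smul₀ h2]

theorem finrank_Fix_add : finrank F (Fix Q s) + finrank F (Wm Q s) = Fintype.card ι := by
  rw [Submodule.finrank_add_eq_of_isCompl (isCompl_Fix_Wm Q h2 hs), finrank_pi]

include hQ

theorem nondeg_res (W W' : Submodule F (ι → F)) (h : IsCompl W W') (ho : ∀ x ∈ W, ∀ y ∈ W', polar Q x y = 0) :
    (polarBilin (Q.comp W.subtype)).Nondegenerate := by
  have hp : ∀ x y : W, polar (Q.comp W.subtype) x y = polar Q (x : ι → F) y := fun x y => by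
    simp [polar]
  have h1 : ∀ x : W, (∀ y, polar (Q.comp W.subtype) x y = 0) → x = 0 := fun x hx => Subtype.ext <| hQ.1 _ fun v => by
    have hv : v ∈ W ⊔ W' := h.sup_eq_top ▸ Submodule.mem_top
    obtain ⟨a, ha, b, hb, rfl⟩ := Submodule.mem_sup.1 hv
    show polar Q (x : ι → F) (a + b) = 0
    rw [polar_add_right, ho _ x.2 b hb, add_zero, ← hp x ⟨a, ha⟩, hx]
  exact ⟨h1, fun y hy => h1 y fun x => by rw [polar_comm]; exact hy x⟩

omit hQ

/-- The centraliser of an involution. -/
theorem card_cent : Nat.card (Subgroup.centralizer ({s} : Set (O Q))) =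
    Nat.card (OrthOrder.Iso (Q.comp (Fix Q s).subtype)) * Nat.card (OrthOrder.Iso (Q.comp (Wm Q s).subtype)) := by
  have hc := isCompl_Fix_Wm Q h2 hs
  set E := Submodule.prodEquivOfIsCompl (Fix Q s) (Wm Q s) hc with hE
  have hcom : ∀ g : Subgroup.centralizer ({s} : Set (O Q)), ∀ x, act Q s (act Q (g : O Q) x) =
      act Q (g : O Q) (act Q s x) := fun g x => by
    rw [← act_mul, ← act_mul, (Subgroup.mem_centralizer_singleton_iff.1 g.2)]
  have hp : ∀ g : Subgroup.centralizer ({s} : Set (O Q)), ∀ x ∈ Fix Q s, act Q (g : O Q) x ∈ Fix Q s := fun g x hx => by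
    rw [mem_Fix] at hx ⊢
    rw [hcom, hx]
  have hm : ∀ g : Subgroup.centralizer ({s} : Set (O Q)), ∀ x ∈ Wm Q s, act Q (g : O Q) x ∈ Wm Q s := fun g x hx => by
    rw [mem_Wm] at hx ⊢
    rw [hcom, hx, act_neg']
  let res : ∀ (W : Submodule F (ι → F)) (g : O Q), (∀ x ∈ W, act Q g x ∈ W) → (∀ x ∈ W, act Q g⁻¹ x ∈ W) →
      OrthOrder.Iso (Q.comp W.subtype) := fun W g h h' =>
    ⟨{ toFun := fun x => ⟨act Q g x, h x x.2⟩
       map_add' := fun x y => Subtype.ext (act_add Q g x y)
       map_smul' := fun a x => Subtype.ext (act_smul' Q g a x)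
       invFun := fun x => ⟨act Q g⁻¹ x, h' x x.2⟩
       left_inv := fun x => Subtype.ext (show act Q g⁻¹ (act Q g x) = x by rw [← act_mul, inv_mul_cancel, act_one])
       right_inv := fun x => Subtype.ext (act_inv Q g x) }, fun x => Q_act Q g x⟩
  let glue : OrthOrder.Iso (Q.comp (Fix Q s).subtype) × OrthOrder.Iso (Q.comp (Wm Q s).subtype) → O Q := fun ab =>
    ofLin Q (E.symm.trans ((LinearEquiv.prodCongr ab.1.1 ab.2.1).trans E)) fun v => by
      obtain ⟨⟨a, b⟩, rfl⟩ := E.surjective v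
      rw [LinearEquiv.trans_apply, LinearEquiv.trans_apply, E.symm_apply_apply, LinearEquiv.prodCongr_apply, hE,
        Submodule.coe_prodEquivOfIsCompl', Submodule.coe_prodEquivOfIsCompl']
      rw [QuadraticMap.map_add (⇑Q), QuadraticMap.map_add (⇑Q), polar_Fix_Wm Q h2 (ab.1.1 a).2 (ab.2.1 b).2,
        polar_Fix_Wm Q h2 a.2 b.2]
      have e1 := ab.1.2 a
      have e2 := ab.2.2 b
      simp only [QuadraticMap.comp_apply, Submodule.coe_subtype] at e1 e2
      rw [e1, e2]
  have hglue : ∀ ab (a : Fix Q s) (b : Wm Q s), act Q (glue ab) ((a : ι → F) + b) =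
      (ab.1.1 a : ι → F) + (ab.2.1 b : ι → F) := fun ab a b => by
    rw [← Submodule.coe_prodEquivOfIsCompl' (Fix Q s) (Wm Q s) hc (a, b), act_ofLin, ← hE]
    simp [hE]
  have hall : ∀ v, ∃ (a : Fix Q s) (b : Wm Q s), (a : ι → F) + b = v := fun v => by
    obtain ⟨⟨a, b⟩, rfl⟩ := E.surjective v
    exact ⟨a, b, rfl⟩
  have hs1 : ∀ a : Fix Q s, act Q s a = (a : ι → F) := fun a => (mem_Fix Q s _).1 a.2
  have hs2 : ∀ b : Wm Q s, act Q s b = -(b : ι → F) := fun b => (mem_Wm Q s _).1 b.2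
  rw [← Nat.card_prod]
  refine Nat.card_congr
    { toFun := fun g => (res _ g (hp g) (hp g⁻¹), res _ g (hm g) (hm g⁻¹))
      invFun := fun ab => ⟨glue ab, Subgroup.mem_centralizer_singleton_iff.2 <| act_ext Q fun v => ?_⟩
      left_inv := fun g => Subtype.ext (act_ext Q fun v => ?_)
      right_inv := fun ab => ?_ }
  · obtain ⟨a, b, rfl⟩ := hall v
    rw [act_mul, act_mul, hglue, act_add, hs1, hs2, ← Submodule.coe_neg, hglue, map_neg, Submodule.coe_neg,
      act_add, hs1, hs2]
  · obtain ⟨a, b, rfl⟩ := hall v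
    rw [hglue, act_add]
    rfl
  · refine Prod.ext (Subtype.ext (LinearEquiv.ext fun a => Subtype.ext ?_))
      (Subtype.ext (LinearEquiv.ext fun b => Subtype.ext ?_))
    · show act Q (glue ab) (a : ι → F) = _
      have e := hglue ab a 0
      rwa [map_zero, Submodule.coe_zero, add_zero, add_zero] at e
    · show act Q (glue ab) (b : ι → F) = _
      have e := hglue ab 0 b
      rwa [map_zero, Submodule.coe_zero, zero_add, zero_add] at e

end fixed

/-! ### The class in `Ω` -/

variable (hQ : (polarBilin Q).Nondegenerate) (h2 : (2 : F) ≠ 0) {m : ℕ} (hn : Fintype.card ι = 2 * m + 1)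
  (hm : 3 ≤ m) {c : F} (hc : c ≠ 0) (P : GL ι F) (hP : ∀ x, Q ((P : Matrix ι ι F) *ᵥ x) = c * (x ⬝ᵥ x))

include hQ h2 hn hm hc hP

/-- Minus a reflection lies in `Ω` exactly for one square class. -/
theorem sref_mem_iff (x : ι → F) (hx : Q x ≠ 0) : sref Q x hx ∈ commutator (O Q) ↔ IsSquare (c * Q x) := by
  obtain ⟨g, b, l, hg, hgl, hlen, hb, hprod⟩ := Disc.exists_neg_one Q hQ h2
  have e : negI Q = g := Subtype.ext (Units.ext (by rw [hg]; rfl))
  have hcm : sref Q x hx = refl Q x hx * negI Q := act_ext Q fun y => by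
    rw [sref, act_mul, act_mul, act_negI, act_negI, act_neg']
  rw [hcm, e, hgl]
  show Disc.reflList Q (⟨x, hx⟩ :: l) ∈ _ ↔ _
  rw [Disc.reflList_mem_commutator Q hQ h2 (by omega), List.length_cons, hlen, hn, List.map_cons, List.prod_cons,
    hprod]
  let e' : (ι → F) ≃ₗ[F] (ι → F) :=
    { Matrix.toLin' (P : Matrix ι ι F) with
      invFun := fun v => ((P⁻¹ : GL ι F) : Matrix ι ι F) *ᵥ v
      left_inv := fun v => by
        show _ *ᵥ (Matrix.toLin' _ v) = v
        rw [Matrix.toLin'_apply, mulVec_mulVec, Units.inv_mul, one_mulVec]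
      right_inv := fun v => by
        show Matrix.toLin' _ _ = v
        rw [Matrix.toLin'_apply, mulVec_mulVec, Units.mul_inv, one_mulVec] }
  let b' := (Pi.basisFun F ι).map e'
  have hb' : ∀ i, b' i = (P : Matrix ι ι F) *ᵥ Pi.single i 1 := fun i => by
    simp [b', e', Pi.basisFun_apply]
  have horth : ∀ i j, i ≠ j → polar Q (b' i) (b' j) = 0 := fun i j hij => by
    rw [hb', hb', polar, ← mulVec_add, hP, hP, hP, add_dotProduct, dotProduct_add, dotProduct_add,
      single_dotProduct, single_dotProduct, single_dotProduct, single_dotProduct]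
    simp [hij, hij.symm]
    ring
  obtain ⟨a, ha, ea⟩ := Disc.disc_change Q b b'
  rw [Disc.disc_orth Q b hb, Disc.disc_orth Q b' horth] at ea
  have hQb : ∀ i, Q (b' i) = c := fun i => by rw [hb', hP]; simp
  rw [Finset.prod_congr rfl fun i _ => hQb i, Finset.prod_const, Finset.card_univ, hn] at ea
  have e2 : ∏ i, Q (b i) = c * (a * c ^ m) * (a * c ^ m) :=
    mul_left_cancel₀ (pow_ne_zero (2 * m + 1) h2) (by linear_combination ea)
  have hne : a * c ^ m ≠ 0 := mul_ne_zero ha (pow_ne_zero _ hc)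
  rw [e2]
  constructor
  · rintro ⟨-, t, ht⟩
    exact ⟨t / (a * c ^ m), by field_simp; linear_combination ht⟩
  · rintro ⟨t, ht⟩
    exact ⟨⟨m + 1, by ring⟩, t * (a * c ^ m), by linear_combination (a * c ^ m) * (a * c ^ m) * ht⟩

/-- The condition on points. -/
def InP (c : F) (x : ι → F) : Prop := Q x ≠ 0 ∧ IsSquare (c * Q x)

/-- The involution of a point. -/
noncomputable def sv (x : ι → F) (hx : InP Q c x) : commutator (O Q) :=
  ⟨sref Q x hx.1, (sref_mem_iff Q hQ h2 hn hm hc P hP x hx.1).2 hx.2⟩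

theorem center_bot : Subgroup.center (commutator (O Q)) = ⊥ := by
  refine Subgroup.card_eq_one.1 (card_center_eq_one Q hQ (by omega) fun g hg he => ?_)
  obtain ⟨g0, b, l, hg0, hgl, hlen, -, -⟩ := Disc.exists_neg_one Q hQ h2
  have e : g = Disc.reflList Q l := hgl ▸ Subtype.ext (Units.ext (he.trans hg0.symm))
  rw [e, Disc.reflList_mem_commutator Q hQ h2 (by omega), hlen, hn] at hg
  exact absurd hg.1 (by simp [Nat.even_add_one])

omit hn hm hc hP P in
theorem card_cent_exp (p : ℕ) [Fact p.Prime] [CharP F p] (hι : 2 ≤ Fintype.card ι) (t : commutator (O Q))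
    (ht : t * t = 1) :
    ∃ w, ¬ p ∣ w ∧ Nat.card (Subgroup.centralizer ({t} : Set (commutator (O Q)))) =
      Fintype.card F ^ (ex (finrank F (Fix Q (t : O Q))) + ex (finrank F (Wm Q (t : O Q)))) * w := by
  have hs : (t : O Q) * t = 1 := congrArg Subtype.val ht
  have hc' := isCompl_Fix_Wm Q h2 hs
  obtain ⟨w1, hw1, e1⟩ := exists_exp p h2 _ (nondeg_res Q hQ h2 hs _ _ hc' fun x hx y hy => polar_Fix_Wm Q h2 hx hy)
  obtain ⟨w2, hw2, e2⟩ := exists_exp p h2 _ (nondeg_res Q hQ h2 hs _ _ hc'.symm fun x hx y hy => by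
    rw [polar_comm]; exact polar_Fix_Wm Q h2 hy hx)
  have e := card_cent Q h2 hs
  rw [e1, e2] at e
  set C := Subgroup.centralizer ({(t : O Q)} : Set (O Q)) with hC
  have hmap : (Subgroup.centralizer ({t} : Set (commutator (O Q)))).map (commutator (O Q)).subtype =
      C ⊓ commutator (O Q) := by
    ext g
    constructor
    · rintro ⟨g', hg', rfl⟩
      refine Subgroup.mem_inf.mpr ⟨?_, g'.2⟩
      rw [hC, Subgroup.mem_centralizer_singleton_iff]
      exact congrArg Subtype.val (Subgroup.mem_centralizer_singleton_iff.1 hg')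
    · intro hg
      obtain ⟨h1, h3⟩ := Subgroup.mem_inf.mp hg
      rw [hC, Subgroup.mem_centralizer_singleton_iff] at h1
      exact ⟨⟨g, h3⟩, Subgroup.mem_centralizer_singleton_iff.2 (Subtype.ext h1), rfl⟩
  have hcard := ((commutator (O Q)).subgroupOf C).card_mul_index
  have heq : Nat.card ((commutator (O Q)).subgroupOf C) =
      Nat.card (Subgroup.centralizer ({t} : Set (commutator (O Q)))) := by
    rw [← Subgroup.card_subtype, ← Subgroup.card_subtype (commutator (O Q)), hmap, Subgroup.subgroupOf_map_subtype,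
      inf_comm]
  rw [heq] at hcard
  have hdvd : ((commutator (O Q)).subgroupOf C).index ∣ 4 :=
    (index_commutator Q hQ h2 hι) ▸ Subgroup.relIndex_dvd_index_of_normal (commutator (O Q)) C
  set d := ((commutator (O Q)).subgroupOf C).index with hd
  set X := Nat.card (Subgroup.centralizer ({t} : Set (commutator (O Q)))) with hX
  have hp := (Fact.out : p.Prime)
  have hpd : ¬ p ∣ d := fun h => by
    have h4 : p ∣ 2 * 2 := h.trans hdvd
    rcases (Nat.Prime.dvd_mul hp).1 h4 with h' | h' <;>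
      exact p_ne_two p h2 ((Nat.prime_dvd_prime_iff_eq hp Nat.prime_two).1 h')
  set q := Fintype.card F
  set k := ex (finrank F (Fix Q (t : O Q))) + ex (finrank F (Wm Q (t : O Q)))
  have hX' : X * d = q ^ k * (w1 * w2) := by rw [hcard, e]; ring
  have hcop : Nat.Coprime (q ^ k) d := by
    obtain ⟨f, -, hF⟩ := FiniteField.card F p
    rw [show q = p ^ (f : ℕ) from hF, ← pow_mul]
    exact Nat.Coprime.pow_left _ (hp.coprime_iff_not_dvd.2 hpd)
  obtain ⟨w, hw⟩ : q ^ k ∣ X := hcop.dvd_of_dvd_mul_right ⟨w1 * w2, hX'⟩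
  refine ⟨w, fun h => ?_, hw⟩
  rw [hw, mul_assoc] at hX'
  have := Nat.eq_of_mul_eq_mul_left (pow_pos Fintype.card_pos k) hX'
  exact ((Nat.Prime.dvd_mul hp).1 (this ▸ h.mul_right d)).elim hw1 hw2

theorem finrank_sv (x : ι → F) (hx : InP Q c x) :
    finrank F (Fix Q (sref Q x hx.1)) = 1 ∧ finrank F (Wm Q (sref Q x hx.1)) = 2 * m := by
  have hx0 : x ≠ 0 := fun e => hx.1 (by rw [e, QuadraticMap.map_zero])
  have e : Fix Q (sref Q x hx.1) = F ∙ x := by
    refine le_antisymm (fun y hy => ?_) ?_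
    · rw [mem_Fix, act_sref, sub_eq_iff_eq_add, ← two_smul F] at hy
      rw [Submodule.mem_span_singleton]
      exact ⟨(2 : F)⁻¹ * ((Q x)⁻¹ * polar Q x y), by rw [mul_smul, hy, inv_smul_smul₀ h2]⟩
    · rw [Submodule.span_singleton_le_iff_mem, mem_Fix, act_sref, WittExt.polar_self_eq, sub_eq_iff_eq_add,
        ← two_smul F]
      congr 1
      field_simp [hx.1]
  have h1 : finrank F (Fix Q (sref Q x hx.1)) = 1 := by rw [e, finrank_span_singleton hx0]
  have := finrank_Fix_add Q h2 (sref_sq Q x hx.1)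
  exact ⟨h1, by omega⟩

/-- The involutions of the class are recognised by the order of the centraliser. -/
theorem exists_sv_of_exp (p : ℕ) [Fact p.Prime] [CharP F p] (t : commutator (O Q)) (ht : t * t = 1) (w : ℕ)
    (hw : ¬ p ∣ w) (h : Nat.card (Subgroup.centralizer ({t} : Set (commutator (O Q)))) =
      Fintype.card F ^ ex (2 * m) * w) :
    ∃ (x : ι → F) (hx : InP Q c x), t = sv Q hQ h2 hn hm hc P hP x hx := by
  obtain ⟨w', hw', h'⟩ := card_cent_exp Q hQ h2 p (by omega) t ht
  have hk := pow_mul_inj p hw' hw (h'.symm.trans h)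
  have hs : (t : O Q) * t = 1 := congrArg Subtype.val ht
  have hsum := finrank_Fix_add Q h2 hs
  have hc' := isCompl_Fix_Wm Q h2 hs
  rw [hn] at hsum
  set a := finrank F (Fix Q (t : O Q)) with ha
  set b := finrank F (Wm Q (t : O Q)) with hb
  have key : ∀ i j : ℕ, i + j = m → ex (2 * i) + ex (2 * j + 1) = ex (2 * m) → j = 0 := by
    intro i j hij he
    rw [ex_even, ex_odd, ex_even, ← hij, show (i + j) * (i + j) = i * i + 2 * (i * j) + j * j by ring] at he
    have h1 := Nat.le_mul_self i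
    have h2' := Nat.le_mul_self j
    by_contra hj
    have e : i * 2 * j = 1 * j := by
      rw [show i * 2 * j = 2 * (i * j) by ring]
      omega
    have := Nat.eq_of_mul_eq_mul_right (Nat.pos_of_ne_zero hj) e
    omega
  have hab : a = 1 ∨ b = 1 := by
    rcases Nat.even_or_odd' a with ⟨i, hi | hi⟩
    · refine Or.inr ?_
      have hb' : b = 2 * (m - i) + 1 := by omega
      have := key i (m - i) (by omega) (by rw [← hi, ← hb', hk])
      omega
    · refine Or.inl ?_
      have hb' : b = 2 * (m - i) := by omega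
      have := key (m - i) i (by omega) (by rw [← hi, ← hb', add_comm, hk])
      omega
  have hline : ∀ (W W' : Submodule F (ι → F)), IsCompl W W' → (∀ x ∈ W, ∀ y ∈ W', polar Q x y = 0) →
      finrank F W = 1 → ∃ v, Q v ≠ 0 ∧ v ∈ W ∧ ∀ y, ∃ r : F, ∃ y' ∈ W', y = r • v + y' := by
    intro W W' hW ho h1
    obtain ⟨v, hv0, hv⟩ := finrank_eq_one_iff'.1 h1
    refine ⟨v, fun hQv => hv0 (Subtype.ext (hQ.1 _ fun z => ?_)), v.2, fun y => ?_⟩
    · have hz : z ∈ W ⊔ W' := hW.sup_eq_top ▸ Submodule.mem_top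
      obtain ⟨z1, h3, z2, h4, rfl⟩ := Submodule.mem_sup.1 hz
      obtain ⟨r, hr⟩ := hv ⟨z1, h3⟩
      show polar Q (v : ι → F) (z1 + z2) = 0
      rw [polar_add_right, ho _ v.2 z2 h4, show z1 = r • (v : ι → F) from (congrArg Subtype.val hr).symm,
        polar_smul_right, WittExt.polar_self_eq, hQv, mul_zero, smul_zero, add_zero]
    · have hy : y ∈ W ⊔ W' := hW.sup_eq_top ▸ Submodule.mem_top
      obtain ⟨y1, h3, y2, h4, rfl⟩ := Submodule.mem_sup.1 hy
      obtain ⟨r, hr⟩ := hv ⟨y1, h3⟩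
      exact ⟨r, y2, h4, by rw [← show r • (v : ι → F) = y1 from congrArg Subtype.val hr]⟩
  rcases hab with h1 | h1
  · obtain ⟨v, hQv, hv, hy⟩ := hline _ _ hc' (fun x hx y hy => polar_Fix_Wm Q h2 hx hy) h1
    have e : (t : O Q) = sref Q v hQv := act_ext Q fun y => by
      obtain ⟨r, y', hy', rfl⟩ := hy y
      rw [act_add, act_smul', (mem_Fix Q _ _).1 hv, (mem_Wm Q _ _).1 hy', act_sref, polar_add_right,
        polar_smul_right, WittExt.polar_self_eq, polar_Fix_Wm Q h2 hv hy', smul_eq_mul, add_zero,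
        show (Q v)⁻¹ * (r * (2 * Q v)) = r + r by field_simp; ring]
      module
    exact ⟨v, ⟨hQv, (sref_mem_iff Q hQ h2 hn hm hc P hP v hQv).1 (e ▸ t.2)⟩, Subtype.ext e⟩
  · exfalso
    obtain ⟨v, hQv, hv, hy⟩ := hline _ _ hc'.symm
      (fun x hx y hy => by rw [polar_comm]; exact polar_Fix_Wm Q h2 hy hx) h1
    have e : (t : O Q) = Disc.reflList Q [⟨v, hQv⟩] := act_ext Q fun y => by
      obtain ⟨r, y', hy', rfl⟩ := hy y
      show _ = act Q (refl Q v hQv * 1) _
      rw [mul_one, act_add, act_smul', (mem_Wm Q _ _).1 hv, (mem_Fix Q _ _).1 hy', act_refl, polar_add_right,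
        polar_smul_right, WittExt.polar_self_eq, polar_comm (⇑Q) v y', polar_Fix_Wm Q h2 hy' hv, smul_eq_mul,
        add_zero, show (Q v)⁻¹ * (r * (2 * Q v)) = r + r by field_simp; ring]
      module
    have := (Disc.reflList_mem_commutator Q hQ h2 (by omega) _).1 (e ▸ t.2)
    simp at this

/-- Automorphisms keep the class. -/
theorem exists_image (α : MulAut (commutator (O Q))) (x : ι → F) (hx : InP Q c x) :
    ∃ (y : ι → F) (hy : InP Q c y),
      α (sv Q hQ h2 hn hm hc P hP x hx) = sv Q hQ h2 hn hm hc P hP y hy := by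
  obtain ⟨p, hp⟩ := CharP.exists F
  haveI : Fact p.Prime := ⟨CharP.char_is_prime F p⟩
  set s := sv Q hQ h2 hn hm hc P hP x hx with hs
  have hsq : s * s = 1 := Subtype.ext (sref_sq Q x hx.1)
  obtain ⟨w, hw, h⟩ := card_cent_exp Q hQ h2 p (by omega) s hsq
  obtain ⟨r1, r2⟩ := finrank_sv Q hQ h2 hn hm hc P hP x hx
  rw [show ((s : commutator (O Q)) : O Q) = sref Q x hx.1 from rfl, r1, r2,
    show ex 1 = 0 from rfl, zero_add] at h
  refine exists_sv_of_exp Q hQ h2 hn hm hc P hP p (α s) (by rw [← map_mul, hsq, map_one]) w hw ?_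
  rw [← h]
  refine (Nat.card_congr (Equiv.subtypeEquiv α.toEquiv fun g => ?_)).symm
  rw [Subgroup.mem_centralizer_singleton_iff, Subgroup.mem_centralizer_singleton_iff]
  show _ ↔ α g * α s = α s * α g
  rw [← map_mul, ← map_mul, α.injective.eq_iff]

end Cfsg.Agent.OddAut
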