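import Cfsg.Prelude.Def_LieTypeDatum
import Cfsg.Prelude.Def_KGroupFacts
import Cfsg.Agent.Lib.Classical.OddAutInv
import Cfsg.Agent.Lib.Classical.NotMaxOrth

/-!
The automorphism group of `Ω_{2m+1}(q)`, `q` odd, `m ≥ 3`: semilinear isometries.
-/

set_option autoImplicit false
set_option linter.style.haveILetI false
set_option linter.unusedSectionVars false

open Matrix QuadraticMap Module

namespace Cfsg.Agent.OddAut

open Cfsg.Agent.Classical Cfsg.Agent.Classical.Refl

/-- The indices. -/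
abbrev Io (m : ℕ) : Type := Unit ⊕ (Fin m ⊕ Fin m)

variable {F : Type*} [Field F] {m : ℕ}

/-- The isometries. -/
abbrev Is (m : ℕ) (F : Type*) [Field F] : Subgroup (GL (Io m) F) := Cfsg.isometryGroup F (Cfsg.quadFormOdd m F)

/-- The special isometries. -/
abbrev SOo (m : ℕ) (F : Type*) [Field F] : Type _ := ↥(Cfsg.specialIsometryGroup F (Cfsg.quadFormOdd m F))

local notation "MM" => Matrix (Io m) (Io m) F

/-- The matrix of an isometry. -/
def matI (g : Is m F) : Matrix (Io m) (Io m) F := ((g : GL (Io m) F) : Matrix (Io m) (Io m) F)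

theorem matI_inj {g h : Is m F} (e : matI g = matI h) : g = h := Subtype.ext (Units.ext e)

theorem q_hom {R : Type*} [Field R] (σ : R →+* F) (v : Io m → R) :
    Cfsg.quadFormOdd m F (σ ∘ v) = σ (Cfsg.quadFormOdd m R v) := by
  simp [Cfsg.quadFormOdd, map_sum, map_mul, map_pow, map_add]

theorem surj_comp (σ : F ≃+* F) (u : Io m → F) : ∃ u', u = σ ∘ u' :=
  ⟨σ.symm ∘ u, funext fun i => (σ.apply_symm_apply _).symm⟩

theorem map_mulVec' {R : Type*} [Field R] (σ : R →+* F) (M : Matrix (Io m) (Io m) R) (x : Io m → R) :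
    M.map σ *ᵥ (σ ∘ x) = σ ∘ (M *ᵥ x) :=
  funext fun i => (RingHom.map_mulVec σ M x i).symm

theorem map_mem (σ : F ≃+* F) (g : Is m F) :
    GeneralLinearGroup.map σ.toRingHom (g : GL (Io m) F) ∈ Is m F := fun u _ => by
  obtain ⟨u, rfl⟩ := surj_comp σ u
  show Cfsg.quadFormOdd m F (((g : GL (Io m) F) : MM).map σ.toRingHom *ᵥ (σ.toRingHom ∘ u)) = _
  rw [map_mulVec', q_hom, show Cfsg.quadFormOdd m F (((g : GL (Io m) F) : MM) *ᵥ u) = _ from g.2 u u]
  exact (q_hom σ.toRingHom u).symm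

/-- A field automorphism on the isometries. -/
def fieldI (σ : F ≃+* F) : Is m F ≃* Is m F where
  toFun g := ⟨_, map_mem σ g⟩
  invFun g := ⟨_, map_mem σ.symm g⟩
  left_inv g := matI_inj (Matrix.ext fun i j => σ.symm_apply_apply _)
  right_inv g := matI_inj (Matrix.ext fun i j => σ.apply_symm_apply _)
  map_mul' g h := Subtype.ext (map_mul (GeneralLinearGroup.map σ.toRingHom) _ _)

theorem fieldI_mat (σ : F ≃+* F) (g : Is m F) : matI (fieldI σ g) = (matI g).map σ := rfl

theorem fieldI_special (σ : F ≃+* F) (g : SOo m F) :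
    fieldI σ g.1 ∈ Cfsg.specialIsometryGroup F (Cfsg.quadFormOdd m F) := by
  have h : ((g.1 : GL (Io m) F) : MM).det = 1 := congrArg Units.val (MonoidHom.mem_ker.1 g.2)
  refine MonoidHom.mem_ker.2 (Units.ext ?_)
  show (σ.toRingHom.mapMatrix ((g.1 : GL (Io m) F) : MM)).det = 1
  rw [← RingHom.map_det, h, map_one]

/-- Field automorphisms acting on the special isometries. -/
def fieldHom : (F ≃+* F) →* MulAut (SOo m F) where
  toFun σ :=
    { toFun := fun g => ⟨fieldI σ g.1, fieldI_special σ g⟩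
      invFun := fun g => ⟨fieldI σ⁻¹ g.1, fieldI_special σ⁻¹ g⟩
      left_inv := fun g => Subtype.ext ((fieldI (m := m) σ).symm_apply_apply g.1)
      right_inv := fun g => Subtype.ext ((fieldI (m := m) σ).apply_symm_apply g.1)
      map_mul' := fun g h => Subtype.ext (map_mul (fieldI σ) g.1 h.1) }
  map_one' := MulEquiv.ext fun g => Subtype.ext (matI_inj rfl)
  map_mul' σ τ := MulEquiv.ext fun g => Subtype.ext (matI_inj rfl)

/-- Semilinear isometries. -/
abbrev Semi (m : ℕ) (F : Type*) [Field F] : Type _ := SOo m F ⋊[fieldHom (F := F) (m := m)] (F ≃+* F)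

/-- A semilinear map. -/
def actS (g : Is m F) (σ : F ≃+* F) (x : Io m → F) : Io m → F := matI g *ᵥ (σ ∘ x)

/-- The automorphism of the isometries given by a semilinear isometry. -/
def autI (g : Is m F) (σ : F ≃+* F) : Is m F ≃* Is m F := (fieldI σ).trans (MulAut.conj g)

theorem autI_mat (g : Is m F) (σ : F ≃+* F) (s : Is m F) :
    matI (autI g σ s) = matI g * (matI s).map σ * matI g⁻¹ := rfl

theorem actS_mulVec (g : Is m F) (σ : F ≃+* F) (s : Is m F) (x : Io m → F) :
    matI (autI g σ s) *ᵥ actS g σ x = actS g σ (matI s *ᵥ x) := by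
  rw [autI_mat, actS, actS, mulVec_mulVec, mul_assoc, show matI g⁻¹ * matI g = 1 from
    congrArg (fun z : Is m F => matI z) (inv_mul_cancel g), mul_one, ← mulVec_mulVec]
  congr 1
  exact map_mulVec' σ.toRingHom _ _

theorem commutator_mem {G : Type*} [Group G] (ψ : G ≃* G) {x : G} (hx : x ∈ commutator G) :
    ψ x ∈ commutator G := by
  have h := Subgroup.mem_map_of_mem ψ.toMonoidHom hx
  rwa [commutator_def, Subgroup.map_commutator, Subgroup.map_top_of_surjective _ ψ.surjective] at h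

/-- The automorphism of `Ω` given by a semilinear isometry. -/
def autT (ψ : Is m F ≃* Is m F) : MulAut (Cfsg.Omega F (Cfsg.quadFormOdd m F)) where
  toFun s := ⟨ψ s.1, commutator_mem ψ s.2⟩
  invFun s := ⟨ψ.symm s.1, commutator_mem ψ.symm s.2⟩
  left_inv s := Subtype.ext (ψ.symm_apply_apply _)
  right_inv s := Subtype.ext (ψ.apply_symm_apply _)
  map_mul' s t := Subtype.ext (map_mul ψ _ _)

/-- The automorphism of `PΩ` given by a semilinear isometry. -/
noncomputable def autP (ψ : Is m F ≃* Is m F) : MulAut (Cfsg.POmega F (Cfsg.quadFormOdd m F)) :=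
  QuotientGroup.congr _ _ (autT ψ) (Subgroup.characteristic_iff_map_eq.1 inferInstance _)

theorem autP_mk (ψ : Is m F ≃* Is m F) (s : Cfsg.Omega F (Cfsg.quadFormOdd m F)) :
    autP ψ (QuotientGroup.mk s) = QuotientGroup.mk (autT ψ s) := rfl

/-- The action of semilinear isometries on `PΩ`. -/
noncomputable def Psi : Semi m F →* MulAut (Cfsg.POmega F (Cfsg.quadFormOdd m F)) where
  toFun a := autP (autI a.left.1 a.right)
  map_one' := MulEquiv.ext fun x => by
    obtain ⟨s, rfl⟩ := QuotientGroup.mk_surjective x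
    rw [autP_mk, MulAut.one_apply]
    refine congrArg _ (Subtype.ext (matI_inj ?_))
    show (1 : MM) * (matI s.1).map id * matI 1⁻¹ = matI s.1
    rw [one_mul, inv_one, Matrix.map_id]
    exact mul_one _
  map_mul' a b := MulEquiv.ext fun x => by
    obtain ⟨s, rfl⟩ := QuotientGroup.mk_surjective x
    rw [MulAut.mul_apply, autP_mk, autP_mk, autP_mk]
    refine congrArg _ (Subtype.ext ?_)
    show MulAut.conj (a.left.1 * fieldI a.right b.left.1) (fieldI (a.right * b.right) s.1) =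
      MulAut.conj a.left.1 (fieldI a.right (MulAut.conj b.left.1 (fieldI b.right s.1)))
    rw [show fieldI (a.right * b.right) s.1 = fieldI a.right (fieldI b.right s.1) from Subtype.ext (Units.ext rfl)]
    simp [MulAut.conj_apply, map_mul, map_inv, mul_assoc]

theorem Psi_mk (a : Semi m F) (s : Cfsg.Omega F (Cfsg.quadFormOdd m F)) :
    Psi a (QuotientGroup.mk s) = QuotientGroup.mk (autT (autI a.left.1 a.right) s) := rfl

theorem Psi_induced (a : Semi m F) :
    Cfsg.IsInducedBySemilinearPOmega (Cfsg.quadFormOdd m F) (a.left.1 : GL (Io m) F) a.right (Psi a) := by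
  intro s s' h
  rw [Psi_mk]
  exact congrArg _ (Subtype.ext (matI_inj h.symm))

section finite

variable [Fintype F] (h2 : (2 : F) ≠ 0) (hm : 3 ≤ m)

/-- The form. -/
def Qo : QuadraticForm F (Io m → F) := NotMax.toQ (NotMax.quadFormOdd_nondeg h2)

theorem Qo_nondeg : (polarBilin (Qo (m := m) h2)).Nondegenerate := NotMax.toQ_nondeg _

omit [Fintype F] in
theorem card_Io : Fintype.card (Io m) = 2 * m + 1 := by simp [Io]; omega

include h2 hm

theorem odd_card : Odd (Fintype.card F) := by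
  obtain ⟨p, hp⟩ := CharP.exists F
  haveI : Fact p.Prime := ⟨CharP.char_is_prime F p⟩
  obtain ⟨n, -, hn⟩ := FiniteField.card F p
  rw [hn]
  exact ((Fact.out : p.Prime).eq_two_or_odd'.resolve_left (p_ne_two p h2)).pow

/-- The form has a frame of constant norm. -/
theorem exists_frame : ∃ (c : F) (P : GL (Io m) F), c ≠ 0 ∧
    ∀ x : Io m → F, Qo (m := m) h2 ((P : MM) *ᵥ x) = c * (x ⬝ᵥ x) := by
  classical
  let D : QuadraticForm F (Io m → F) := QuadraticMap.weightedSumSquares F fun _ : Io m => (1 : F)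
  have hD : ∀ x, D x = x ⬝ᵥ x := fun x => by
    simp [D, QuadraticMap.weightedSumSquares_apply, dotProduct]
  have hDn : (polarBilin D).Nondegenerate := by
    have h1 : ∀ x, (∀ y, polar D x y = 0) → x = 0 := fun x hx => funext fun i => by
      have := hx (Pi.single i 1)
      rw [polar, hD, hD, hD, add_dotProduct, dotProduct_add, dotProduct_add, dotProduct_single,
        single_dotProduct, single_dotProduct, mul_one, one_mul] at this
      exact (mul_eq_zero.1 (show (2 : F) * x i = 0 by linear_combination this)).resolve_left h2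
    exact ⟨h1, fun y hy => h1 y fun x => by rw [polar_comm]; exact hy x⟩
  have hd : finrank F (Io m → F) = 2 * m + 1 := by rw [finrank_pi, card_Io]
  obtain ⟨c1, φ1, hc1, h1⟩ := WittDec.exists_equiv_odd (Qo h2) (Qo_nondeg h2) hd
  obtain ⟨c2, φ2, hc2, h3⟩ := WittDec.exists_equiv_odd D hDn hd
  set a := c1 / c2 with ha
  have ha0 : a ≠ 0 := div_ne_zero hc1 hc2
  let w : Fin m ⊕ Fin m → F := Sum.elim (fun _ => a) (fun _ => 1)
  have hw : ∀ s, w s ≠ 0 := fun s => by rcases s with i | i <;> simp [w, ha0]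
  let ψ : ((Fin m ⊕ Fin m → F) × F) ≃ₗ[F] ((Fin m ⊕ Fin m → F) × F) :=
    LinearEquiv.prodCongr (LinearEquiv.piCongrRight fun s => LinearEquiv.smulOfNeZero F F (w s) (hw s))
      (LinearEquiv.refl F F)
  let e := (φ2.symm.trans ψ).trans φ1
  let P : GL (Io m) F := Matrix.GeneralLinearGroup.mkOfDetNeZero (LinearMap.toMatrix' e.toLinearMap) (by
    rw [LinearMap.det_toMatrix']; exact (LinearEquiv.isUnit_det' e).ne_zero)
  refine ⟨a, P, ha0, fun x => ?_⟩
  show Qo h2 (LinearMap.toMatrix' e.toLinearMap *ᵥ x) = _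
  rw [LinearMap.toMatrix'_mulVec, ← hD]
  obtain ⟨p, rfl⟩ := φ2.surjective x
  show Qo h2 (φ1 (ψ (φ2.symm (φ2 p)))) = _
  rw [φ2.symm_apply_apply, h1, h3]
  simp [ψ, Cfsg.quadFormPlus, w, mul_add, Finset.mul_sum, mul_assoc]
  rw [ha]
  field_simp

omit hm in
theorem normalise (g : GL (Io m) F) {μ : F} (hμ : μ ≠ 0)
    (hg : ∀ v, Cfsg.quadFormOdd m F ((g : MM) *ᵥ v) = μ * Cfsg.quadFormOdd m F v) :
    ∃ (a : F) (k : SOo m F), a ≠ 0 ∧ matI k.1 = a • (g : MM) := by
  have h : ∀ i j, polar (Qo h2) ((g : MM) *ᵥ Pi.single i 1) ((g : MM) *ᵥ Pi.single j 1) =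
      μ * polar (Qo (m := m) h2) (Pi.single i 1) (Pi.single j 1) := fun i j => by
    show polar (Cfsg.quadFormOdd m F) _ _ = μ * polar (Cfsg.quadFormOdd m F) _ _
    simp only [polar]
    rw [← mulVec_add, hg, hg, hg]
    ring
  have hG : (g : MM)ᵀ * Quad.gram (Qo h2) * (g : MM) = μ • Quad.gram (Qo h2) := by
    ext i j
    have hp := h i j
    rw [Quad.polar_eq_gram, Quad.polar_eq_gram, ← vecMul_transpose, ← dotProduct_mulVec, mulVec_mulVec,
      mulVec_mulVec, Matrix.mul_assoc] at hp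
    simpa [Matrix.mul_assoc] using hp
  have hdet := congrArg Matrix.det hG
  rw [det_mul, det_mul, det_transpose, det_smul, card_Io] at hdet
  set δ := (g : MM).det with hδ
  have e : δ * δ = μ ^ (2 * m + 1) :=
    mul_right_cancel₀ (Quad.det_gram_ne_zero (Qo (m := m) h2) (Qo_nondeg h2)) (by linear_combination hdet)
  have hδ0 : δ ≠ 0 := fun h0 => pow_ne_zero (2 * m + 1) hμ (by rw [← e, h0, zero_mul])
  set a := μ ^ m / δ with ha
  have ha0 : a ≠ 0 := div_ne_zero (pow_ne_zero _ hμ) hδ0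
  have haμ : a * a * μ = 1 := by
    rw [ha]
    field_simp
    linear_combination -e
  have hk : (a • (g : MM)).det = 1 := by
    rw [det_smul, card_Io, ← hδ]
    have : a ^ (2 * m + 1) * δ = (a * a * μ) ^ m * (a * δ / μ ^ m) := by
      field_simp
      ring
    rw [this, haμ, one_pow, one_mul, ha, div_mul_cancel₀ _ hδ0, div_self (pow_ne_zero _ hμ)]
  let k : Is m F := ⟨Matrix.GeneralLinearGroup.mkOfDetNeZero (a • (g : MM)) (by rw [hk]; exact one_ne_zero),
    fun u _ => by
      show Qo h2 ((a • (g : MM)) *ᵥ u) = Qo h2 u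
      rw [smul_mulVec, QuadraticMap.map_smul, smul_eq_mul, show Qo h2 ((g : MM) *ᵥ u) = μ * Qo h2 u from hg u,
        ← mul_assoc, haμ, one_mul]⟩
  exact ⟨a, ⟨k, MonoidHom.mem_ker.2 (Units.ext hk)⟩, ha0, rfl⟩

omit hm in
theorem det_omega (s : Cfsg.Omega F (Cfsg.quadFormOdd m F)) :
    s.1 ∈ Cfsg.specialIsometryGroup F (Cfsg.quadFormOdd m F) :=
  Abelianization.commutator_subset_ker (Matrix.GeneralLinearGroup.det.comp (Is m F).subtype) s.2

variable {c : F} (hc : c ≠ 0) (P : GL (Io m) F) (hP : ∀ x : Io m → F, Qo (m := m) h2 ((P : Matrix (Io m) (Io m) F) *ᵥ x) = c * (x ⬝ᵥ x))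

include hc hP

theorem inP_iff (x : Io m → F) : InP (Qo h2) c ((P : MM) *ᵥ x) ↔ P1 x := by
  rw [InP, hP]
  constructor
  · rintro ⟨h0, r, hr⟩
    have hx : x ⬝ᵥ x ≠ 0 := right_ne_zero_of_mul h0
    refine ⟨r / c, div_ne_zero (fun h => ?_) hc, by field_simp; linear_combination hr⟩
    rw [h, mul_zero] at hr
    exact mul_ne_zero hc h0 hr
  · rintro ⟨r, hr, e⟩
    rw [e]
    exact ⟨mul_ne_zero hc (mul_ne_zero hr hr), c * r, by ring⟩

theorem polar_frame (x y : Io m → F) :
    polar (Qo h2) ((P : MM) *ᵥ x) ((P : MM) *ᵥ y) = 2 * c * (x ⬝ᵥ y) := by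
  rw [polar, ← mulVec_add, hP, hP, hP, add_dotProduct, dotProduct_add, dotProduct_add, dotProduct_comm y x]
  ring

/-- A semilinear isometry fixing the points of the class is trivial. -/
theorem point_fix (a : Semi m F) (h : ∀ y, InP (Qo h2) c y → Par y (actS a.left.1 a.right y)) : a = 1 := by
  classical
  have hn7 : 7 ≤ Fintype.card (Io m) := by rw [card_Io]; omega
  set σ := a.right
  set A := actS a.left.1 σ
  have Aadd : ∀ x y, A (x + y) = A x + A y := fun x y => by
    show matI a.left.1 *ᵥ (σ ∘ (x + y)) = _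
    rw [show σ ∘ (x + y) = (σ ∘ x) + (σ ∘ y) from funext fun i => by simp, mulVec_add]; rfl
  have Asmul : ∀ (t : F) x, A (t • x) = σ t • A x := fun t x => by
    show matI a.left.1 *ᵥ (σ ∘ (t • x)) = _
    rw [show σ ∘ (t • x) = σ t • (σ ∘ x) from funext fun i => by simp, mulVec_smul]; rfl
  let b : Io m → Io m → F := fun i => (P : MM) *ᵥ Pi.single i 1
  have hb : ∀ i, ∃ l, A (b i) = l • b i := fun i => by
    obtain ⟨l, -, e⟩ := h _ ((inP_iff h2 hm hc P hP _).2 (p1_single i))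
    exact ⟨l, e⟩
  choose l hl using hb
  have key : ∀ i j, i ≠ j → ∀ t : F, σ t * l j = t * l i := by
    intro i j hij t
    obtain ⟨u, v, hu, hv, huv⟩ := out2 hn7 ({i, j} : Finset (Io m)) (Finset.card_le_two.trans (by norm_num))
    simp only [Finset.mem_insert, Finset.mem_singleton, not_or, ← ne_eq] at hu hv
    obtain ⟨y, z, hyz⟩ := filler (odd_card h2 hm) (1 + t * t)
    set x : Io m → F := Pi.single i 1 + t • Pi.single j 1 + y • Pi.single u 1 + z • Pi.single v 1 with hx
    have xP : P1 x := p1_of_one (by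
      simp only [hx, add_dotProduct, smul_dotProduct, single_dotProduct, Pi.add_apply, Pi.smul_apply, smul_eq_mul]
      simp [hij, hij.symm, hu.1, hu.1.symm, hu.2, hu.2.symm, hv.1, hv.1.symm, hv.2, hv.2.symm, huv, huv.symm]
      linear_combination hyz)
    obtain ⟨r, -, e⟩ := h _ ((inP_iff h2 hm hc P hP _).2 xP)
    rw [show (P : MM) *ᵥ x = b i + t • b j + y • b u + z • b v by
      simp [hx, b, mulVec_add, mulVec_smul], Aadd, Aadd, Aadd, Asmul, Asmul, Asmul, hl, hl, hl, hl] at e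
    have e2 : (P : MM) *ᵥ (l i • Pi.single i 1 + (σ t * l j) • Pi.single j 1 + (σ y * l u) • Pi.single u 1 +
        (σ z * l v) • Pi.single v 1) = (P : MM) *ᵥ (r • x) := by
      rw [mulVec_smul]
      simp only [mulVec_add, mulVec_smul, mul_smul]
      rw [show (P : MM) *ᵥ x = b i + t • b j + y • b u + z • b v by simp [hx, b, mulVec_add, mulVec_smul]]
      exact e
    have e3 := congrArg (((P⁻¹ : GL (Io m) F) : MM) *ᵥ ·) e2
    simp only [mulVec_mulVec, Units.inv_mul, one_mulVec] at e3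
    have ei := congrFun e3 i
    have ej := congrFun e3 j
    simp [hx, hij, hij.symm, hu.1.symm, hu.2.symm, hv.1.symm, hv.2.symm] at ei ej
    rw [ej, ei]
    ring
  have hl0 : ∀ i, l i ≠ 0 := fun i h0 => by
    obtain ⟨r, hr, e⟩ := h _ ((inP_iff h2 hm hc P hP _).2 (p1_single i))
    have hne : b i ≠ 0 := fun h' => by
      have := (inP_iff h2 hm hc P hP _).2 (p1_single (F := F) i)
      exact this.1 (by rw [show (P : MM) *ᵥ Pi.single i 1 = 0 from h', QuadraticMap.map_zero])
    rw [show A ((P : MM) *ᵥ Pi.single i 1) = l i • b i from hl i, h0, zero_smul] at e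
    exact (smul_ne_zero hr hne) e.symm
  obtain ⟨i, j, k, -, -, -, hij, hik, hjk⟩ := out3 hn7 ∅ (by simp)
  have hl1 : ∀ i j, l i = l j := fun i j => by
    rcases eq_or_ne i j with rfl | hij
    · rfl
    have := key i j hij 1
    rwa [map_one, one_mul, one_mul, eq_comm] at this
  have hσ : σ = 1 := RingEquiv.ext fun t => by
    have := key i j hij t
    rw [hl1 i j] at this
    exact mul_right_cancel₀ (hl0 j) this
  have hA : ∀ x, matI a.left.1 *ᵥ x = l i • x := fun x => by
    have e : Matrix.toLin' (matI a.left.1 * (P : MM)) = Matrix.toLin' (l i • (P : MM)) :=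
      (Pi.basisFun F (Io m)).ext fun k => by
        rw [Pi.basisFun_apply, Matrix.toLin'_apply, Matrix.toLin'_apply, ← mulVec_mulVec, smul_mulVec, hl1 i k]
        have := hl k
        rw [show A (b k) = matI a.left.1 *ᵥ (σ ∘ b k) from rfl, hσ] at this
        exact this
    have e' := congrArg (fun L : (Io m → F) →ₗ[F] _ => L (((P⁻¹ : GL (Io m) F) : MM) *ᵥ x)) e
    simp only [Matrix.toLin'_apply, smul_mulVec, ← mulVec_mulVec] at e'
    rwa [mulVec_mulVec x (P : MM), Units.mul_inv, one_mulVec] at e'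
  have hsq : l i * l i = 1 := by
    have h1 := a.left.1.2 ((P : MM) *ᵥ Pi.single i 1) ((P : MM) *ᵥ Pi.single i 1)
    change Qo h2 (matI a.left.1 *ᵥ _) = Qo h2 _ at h1
    rw [hA, QuadraticMap.map_smul, hP, smul_eq_mul, single_dotProduct] at h1
    simp at h1
    exact mul_right_cancel₀ hc (h1.trans (one_mul c).symm)
  have hd : (matI a.left.1).det = 1 := congrArg Units.val (MonoidHom.mem_ker.1 a.left.2)
  have hM : matI a.left.1 = l i • (1 : MM) :=
    Matrix.toLin'.injective (LinearMap.ext fun x => by simp [Matrix.toLin'_apply, hA, smul_mulVec])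
  rw [hM, det_smul, det_one, mul_one, card_Io, pow_succ, two_mul, pow_add, ← mul_pow, hsq, one_pow, one_mul] at hd
  rw [hd, one_smul] at hM
  exact SemidirectProduct.ext (Subtype.ext (matI_inj hM)) hσ

theorem inP_actS (a : Semi m F) {y : Io m → F} (hy : InP (Qo h2) c y) :
    ∃ t : F, t ≠ 0 ∧ Qo h2 (actS a.left.1 a.right y) = t ∧ t = a.right (Qo h2 y) := by
  refine ⟨_, (map_ne_zero a.right).2 hy.1, ?_, rfl⟩
  show Cfsg.quadFormOdd m F (matI a.left.1 *ᵥ (a.right ∘ y)) = _
  exact (a.left.1.2 (a.right ∘ y) (a.right ∘ y)).trans (q_hom a.right.toRingHom y)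

/-- The quotient by the trivial centre. -/
theorem mk_bij : Function.Bijective
    (QuotientGroup.mk' (Subgroup.center (Cfsg.Omega F (Cfsg.quadFormOdd m F)))) := by
  refine ⟨(MonoidHom.ker_eq_bot_iff _).1 ?_, QuotientGroup.mk'_surjective _⟩
  rw [QuotientGroup.ker_mk']
  exact center_bot (Qo h2) (Qo_nondeg h2) h2 card_Io hm hc P hP

/-- Every automorphism comes from a semilinear isometry. -/
theorem surjective_aux : Function.Surjective (Psi (F := F) (m := m)) := by
  classical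
  intro β
  have hn7 : 7 ≤ Fintype.card (Io m) := by rw [card_Io]; omega
  let e0 : Cfsg.Omega F (Cfsg.quadFormOdd m F) ≃* Cfsg.POmega F (Cfsg.quadFormOdd m F) :=
    MulEquiv.ofBijective _ (mk_bij h2 hm hc P hP)
  let α : MulAut (Cfsg.Omega F (Cfsg.quadFormOdd m F)) := (e0.trans β).trans e0.symm
  let S : ∀ y, InP (Qo h2) c y → Cfsg.Omega F (Cfsg.quadFormOdd m F) :=
    sv (Qo h2) (Qo_nondeg h2) h2 card_Io hm hc P hP
  have himg := exists_image (Qo h2) (Qo_nondeg h2) h2 card_Io hm hc P hP α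
  choose! fv hfv hfe using himg
  change ∀ (x : Io m → F) (hx : InP (Qo h2) c x), α (S x hx) = S (fv x) (hfv x hx) at hfe
  have orth_iff : ∀ x y (hx : InP (Qo h2) c x) (hy : InP (Qo h2) c y),
      polar (Qo h2) x y = 0 ↔ (Commute (S x hx) (S y hy) ∧ S x hx ≠ S y hy) := by
    intro x y hx hy
    have hcomm : Commute (S x hx) (S y hy) ↔ Commute (sref (Qo h2) x hx.1) (sref (Qo h2) y hy.1) :=
      ⟨fun h => congrArg Subtype.val h, fun h => Subtype.ext h⟩
    rw [hcomm, sref_comm_iff (Qo h2) h2 hx.1 hy.1]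
    constructor
    · intro h
      refine ⟨Or.inl h, fun e => ?_⟩
      obtain ⟨t, ht, rfl⟩ := par_of_sref_eq (Qo h2) h2 hx.1 hy.1 (congrArg Subtype.val e)
      rw [polar_smul_right, WittExt.polar_self_eq, smul_eq_mul] at h
      exact mul_ne_zero ht (mul_ne_zero h2 hx.1) h
    · rintro ⟨h | ⟨t, ht, rfl⟩, hne⟩
      · exact h
      · exact absurd (Subtype.ext (sref_smul (Qo h2) x hx.1 t ht).symm) hne
  have hforth : ∀ x y (hx : InP (Qo h2) c x) (hy : InP (Qo h2) c y),
      (polar (Qo h2) (fv x) (fv y) = 0 ↔ polar (Qo h2) x y = 0) := by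
    intro x y hx hy
    rw [orth_iff _ _ (hfv x hx) (hfv y hy), orth_iff x y hx hy, ← hfe x hx, ← hfe y hy, ne_eq,
      α.injective.eq_iff]
    refine and_congr_left fun _ => ⟨fun h => ?_, fun h => ?_⟩
    · show S x hx * S y hy = S y hy * S x hx
      apply α.injective
      rw [map_mul, map_mul]
      exact h
    · show α _ * α _ = α _ * α _
      rw [← map_mul, ← map_mul]
      exact congrArg α h
  have hE : ∀ i, InP (Qo h2) c ((P : MM) *ᵥ Pi.single i 1) := fun i =>
    (inP_iff h2 hm hc P hP _).2 (p1_single i)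
  have hscale : ∀ i, ∃ t : F, t ≠ 0 ∧ Qo h2 (t • fv ((P : MM) *ᵥ Pi.single i 1)) = c := by
    intro i
    obtain ⟨h0, r, hr⟩ := hfv _ (hE i)
    have hr0 : r ≠ 0 := fun h => by rw [h, mul_zero] at hr; exact mul_ne_zero hc h0 hr
    refine ⟨c / r, div_ne_zero hc hr0, ?_⟩
    rw [QuadraticMap.map_smul, smul_eq_mul]
    field_simp
    linear_combination hr
  choose sc hsc hscq using hscale
  let M : MM := Matrix.of fun r k => (sc k • fv ((P : MM) *ᵥ Pi.single k 1)) r
  have hMe : ∀ k, M *ᵥ Pi.single k 1 = sc k • fv ((P : MM) *ᵥ Pi.single k 1) := fun k => by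
    rw [mulVec_single_one]; rfl
  have hMp : ∀ x y, polar (Qo h2) (M *ᵥ x) (M *ᵥ y) = polar (Qo h2) ((P : MM) *ᵥ x) ((P : MM) *ᵥ y) := by
    intro x y
    have e : (polarBilin (Qo (m := m) h2)).compl₁₂ (Matrix.toLin' M) (Matrix.toLin' M) =
        (polarBilin (Qo (m := m) h2)).compl₁₂ (Matrix.toLin' (P : MM)) (Matrix.toLin' (P : MM)) := by
      refine LinearMap.ext_basis (Pi.basisFun F _) (Pi.basisFun F _) fun k l => ?_
      simp only [LinearMap.compl₁₂_apply, Pi.basisFun_apply, Matrix.toLin'_apply, polarBilin_apply_apply, hMe,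
        polar_frame h2 hm hc P hP]
      rcases eq_or_ne k l with rfl | hkl
      · rw [WittExt.polar_self_eq, hscq]; simp
      · rw [polar_smul_left, polar_smul_right, (hforth _ _ (hE k) (hE l)).2 (by
          rw [polar_frame h2 hm hc P hP]; simp [hkl]), smul_zero, smul_zero]
        simp [hkl]
    exact LinearMap.congr_fun₂ e x y
  have hMq : ∀ x, Qo h2 (M *ᵥ x) = c * (x ⬝ᵥ x) := fun x => by
    have := hMp x x
    rw [polar_frame h2 hm hc P hP, WittExt.polar_self_eq, mul_assoc] at this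
    exact mul_left_cancel₀ h2 this
  have hMdet : M.det ≠ 0 := by
    intro h
    obtain ⟨y, hy, h0⟩ := exists_mulVec_eq_zero_iff.2 h
    refine hy (funext fun i => ?_)
    have := hMp y (Pi.single i 1)
    rw [h0, polar_zero_left, polar_frame h2 hm hc P hP, dotProduct_single, mul_one, eq_comm] at this
    exact (mul_eq_zero.1 this).resolve_left (mul_ne_zero h2 hc)
  let Mg : GL (Io m) F := GeneralLinearGroup.mkOfDetNeZero M hMdet
  let f : (Io m → F) → Io m → F := fun x => ((Mg⁻¹ : GL (Io m) F) : MM) *ᵥ fv ((P : MM) *ᵥ x)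
  have hMf : ∀ x, M *ᵥ f x = fv ((P : MM) *ᵥ x) := fun x => by
    show (Mg : MM) *ᵥ _ = _
    rw [mulVec_mulVec, Units.mul_inv, one_mulVec]
  have hf : ∀ x, P1 x → P1 (f x) := by
    intro x hx
    obtain ⟨h0, r, hr⟩ := hfv _ ((inP_iff h2 hm hc P hP x).2 hx)
    rw [← hMf x, hMq] at h0 hr
    refine ⟨r / c, div_ne_zero (fun h => ?_) hc, by field_simp; linear_combination hr⟩
    rw [h, mul_zero] at hr
    exact mul_ne_zero hc h0 hr
  have hiff : ∀ x y, P1 x → P1 y → (f x ⬝ᵥ f y = 0 ↔ x ⬝ᵥ y = 0) := by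
    intro x y hx hy
    have := hforth _ _ ((inP_iff h2 hm hc P hP x).2 hx) ((inP_iff h2 hm hc P hP y).2 hy)
    rw [← hMf x, ← hMf y, hMp, polar_frame h2 hm hc P hP, polar_frame h2 hm hc P hP] at this
    simpa [h2, hc] using this
  have hbase : ∀ k, Par (f (Pi.single k 1)) (Pi.single k 1) := fun k => by
    refine ⟨sc k, hsc k, ?_⟩
    show _ = sc k • ((Mg⁻¹ : GL (Io m) F) : MM) *ᵥ fv _
    rw [← mulVec_smul, ← hMe, mulVec_mulVec, show M = (Mg : MM) from rfl, Units.inv_mul, one_mulVec]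
  obtain ⟨d, σ, D, hD0, hD, hmain⟩ := diag_of_orth hn7 h2 (odd_card h2 hm) f hf hiff hbase
  have hd0 : ∀ k, d k ≠ 0 := fun k h => hD0 (by rw [← hD k, h, zero_mul])
  let Pi' : GL (Io m) F := GeneralLinearGroup.map σ.toRingHom P⁻¹
  let T0 : GL (Io m) F := Mg * GeneralLinearGroup.mkOfDetNeZero (Matrix.diagonal d) (by
    rw [det_diagonal]; exact Finset.prod_ne_zero_iff.2 fun k _ => hd0 k) * Pi'
  have hT0 : ∀ v : Io m → F, (T0 : MM) *ᵥ (σ ∘ v) =
      M *ᵥ (fun k => d k * σ ((((P⁻¹ : GL (Io m) F) : MM) *ᵥ v) k)) := by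
    intro v
    show (M * Matrix.diagonal d * (((P⁻¹ : GL (Io m) F) : MM).map σ.toRingHom)) *ᵥ (σ.toRingHom ∘ v) = _
    rw [← mulVec_mulVec, map_mulVec', ← mulVec_mulVec]
    congr 1
    exact funext fun k => mulVec_diagonal _ _ _
  have hcσ : σ c ≠ 0 := (map_ne_zero σ).2 hc
  obtain ⟨t, k, ht, hk⟩ := normalise h2 T0 (μ := c * D / σ c) (div_ne_zero (mul_ne_zero hc hD0) hcσ) (by
    intro v
    obtain ⟨v, rfl⟩ := surj_comp σ v
    obtain ⟨w, rfl⟩ : ∃ w, v = (P : MM) *ᵥ w := ⟨((P⁻¹ : GL (Io m) F) : MM) *ᵥ v, by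
      rw [mulVec_mulVec, Units.mul_inv, one_mulVec]⟩
    rw [hT0, mulVec_mulVec, Units.inv_mul, one_mulVec]
    show Qo h2 _ = _
    rw [hMq, show Cfsg.quadFormOdd m F (σ ∘ ((P : MM) *ᵥ w)) = σ (Qo h2 ((P : MM) *ᵥ w)) from
      q_hom σ.toRingHom _, hP, map_mul, dotProduct, dotProduct, map_sum, div_mul_eq_mul_div, ← mul_assoc,
      eq_div_iff hcσ, Finset.mul_sum, Finset.sum_mul, Finset.mul_sum]
    refine Finset.sum_congr rfl fun i _ => ?_
    rw [map_mul, ← hD i]
    ring)
  let a : Semi m F := ⟨k, σ⟩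
  have hpt : ∀ y, InP (Qo h2) c y → Par (actS k.1 σ y) (fv y) := by
    intro y hy
    obtain ⟨w, rfl⟩ : ∃ w, y = (P : MM) *ᵥ w := ⟨((P⁻¹ : GL (Io m) F) : MM) *ᵥ y, by
      rw [mulVec_mulVec, Units.mul_inv, one_mulVec]⟩
    obtain ⟨r, hr, e⟩ := hmain w ((inP_iff h2 hm hc P hP w).1 hy)
    refine ⟨r / t, div_ne_zero hr ht, ?_⟩
    rw [← hMf, e, actS, hk, smul_mulVec, hT0, smul_smul, div_mul_cancel₀ _ ht, mulVec_mulVec w _ (P : MM),
      Units.inv_mul, one_mulVec, mulVec_smul]
  refine ⟨a, MulEquiv.ext fun x => ?_⟩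
  obtain ⟨s, rfl⟩ := QuotientGroup.mk_surjective x
  have hα : QuotientGroup.mk (α s) = β (QuotientGroup.mk s) := e0.apply_symm_apply _
  rw [Psi_mk, ← hα]
  refine congrArg _ ?_
  set t' : Cfsg.Omega F (Cfsg.quadFormOdd m F) := autT (autI k.1 σ) s
  let z : SOo m F := ⟨t'.1⁻¹ * (α s).1, mul_mem (inv_mem (det_omega h2 t')) (det_omega h2 (α s))⟩
  suffices hz : (⟨z, 1⟩ : Semi m F) = 1 by
    have := congrArg (fun u : Semi m F => u.left.1) hz
    exact Subtype.ext (inv_mul_eq_one.1 this)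
  refine point_fix h2 hm hc P hP _ fun y hy => ?_
  obtain ⟨u, huP, hu⟩ : ∃ u, InP (Qo h2) c u ∧ actS k.1 σ u = y := by
    have hmaps : ∀ u, InP (Qo h2) c u → InP (Qo h2) c (actS k.1 σ u) := by
      intro u hu
      obtain ⟨r, hr, e⟩ := (hpt u hu).symm
      obtain ⟨h0, q, hq⟩ := hfv u hu
      rw [e]
      refine ⟨by rw [QuadraticMap.map_smul, smul_eq_mul]; exact mul_ne_zero (mul_ne_zero hr hr) h0, r * q, ?_⟩
      rw [QuadraticMap.map_smul, smul_eq_mul]
      linear_combination (r * r) * hq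
    let Φ : {u // InP (Qo h2) c u} → {u // InP (Qo h2) c u} := fun u => ⟨_, hmaps u.1 u.2⟩
    have hinj : Function.Injective Φ := by
      intro u v huv
      have e : actS k.1 σ u.1 = actS k.1 σ v.1 := congrArg Subtype.val huv
      have e' := congrArg (matI k.1⁻¹ *ᵥ ·) e
      simp only [actS, mulVec_mulVec, show matI k.1⁻¹ * matI k.1 = 1 from
        congrArg (fun z : Is m F => matI z) (inv_mul_cancel k.1), one_mulVec] at e'
      exact Subtype.ext (funext fun i => σ.injective (congrFun e' i))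
    obtain ⟨u, hu⟩ := (Finite.injective_iff_surjective.1 hinj) ⟨y, hy⟩
    exact ⟨u.1, u.2, congrArg Subtype.val hu⟩
  have hsy : InP (Qo h2) c (matI s.1 *ᵥ u) := by
    have e : Qo h2 (matI s.1 *ᵥ u) = Qo h2 u := s.1.2 u u
    exact ⟨e ▸ huP.1, e ▸ huP.2⟩
  have e1 : α (S _ hsy) = α s * α (S _ huP) * (α s)⁻¹ := by
    rw [← map_inv, ← map_mul, ← map_mul]
    exact congrArg α (Subtype.ext (sref_conj (Qo h2) s.1 u huP.1).symm)
  rw [hfe _ hsy, hfe _ huP] at e1
  have e2 : sref (Qo h2) (fv (matI s.1 *ᵥ u)) (hfv _ hsy).1 =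
      sref (Qo h2) (act (Qo h2) (α s).1 (fv u)) (fun h => (hfv _ huP).1 ((Q_act (Qo h2) (α s).1 (fv u)).symm.trans h)) :=
    (congrArg Subtype.val e1).trans (sref_conj (Qo h2) _ _ (hfv _ huP).1)
  have p1 := par_of_sref_eq (Qo h2) h2 _ _ e2
  obtain ⟨r, hr, er⟩ := hpt u huP
  have p2 : Par (actS k.1 σ (matI s.1 *ᵥ u)) (matI (α s).1 *ᵥ (r • y)) := by
    rw [← hu, ← er]
    exact (hpt _ hsy).trans p1
  obtain ⟨l, hl, el⟩ := p2
  refine ⟨l / r, div_ne_zero hl hr, ?_⟩
  show matI (t'.1⁻¹ * (α s).1) *ᵥ y = _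
  rw [show matI (t'.1⁻¹ * (α s).1) = matI t'.1⁻¹ * matI (α s).1 from rfl, ← mulVec_mulVec]
  have e3 : matI (α s).1 *ᵥ y = (l / r) • matI t'.1 *ᵥ y := by
    rw [show matI t'.1 *ᵥ y = actS k.1 σ (matI s.1 *ᵥ u) by rw [← hu]; exact actS_mulVec k.1 σ s.1 u,
      div_eq_inv_mul, mul_smul, ← el, mulVec_smul, inv_smul_smul₀ hr]
  rw [e3, mulVec_smul, mulVec_mulVec, show matI t'.1⁻¹ * matI t'.1 = 1 from
    congrArg (fun z : Is m F => matI z) (inv_mul_cancel t'.1), one_mulVec]

/-- The map from semilinear isometries is injective. -/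
theorem injective_aux : Function.Injective (Psi (F := F) (m := m)) := by
  rw [injective_iff_map_eq_one]
  intro a ha
  refine point_fix h2 hm hc P hP a fun y hy => ?_
  set S : Cfsg.Omega F (Cfsg.quadFormOdd m F) := sv (Qo h2) (Qo_nondeg h2) h2 card_Io hm hc P hP y hy
  have e1 : autT (autI a.left.1 a.right) S = S := (mk_bij h2 hm hc P hP).1 (by
    show QuotientGroup.mk _ = QuotientGroup.mk _
    rw [← Psi_mk, ha]; rfl)
  have hQ : Qo h2 (actS a.left.1 a.right y) ≠ 0 := by
    obtain ⟨t, ht, e, -⟩ := inP_actS h2 hm hc P hP a hy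
    rw [e]; exact ht
  have hpol : ∀ x, polar (Qo h2) (actS a.left.1 a.right y) (actS a.left.1 a.right x) =
      a.right (polar (Qo h2) y x) := by
    intro x
    have hq : ∀ z, Qo h2 (actS a.left.1 a.right z) = a.right (Qo h2 z) := fun z =>
      (a.left.1.2 (a.right ∘ z) (a.right ∘ z)).trans (q_hom a.right.toRingHom z)
    rw [polar, polar, show actS a.left.1 a.right y + actS a.left.1 a.right x = actS a.left.1 a.right (y + x) by
      rw [actS, actS, actS, ← mulVec_add]
      congr 1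
      exact funext fun i => (map_add a.right _ _).symm, hq, hq, hq, map_sub, map_sub]
  refine par_of_sref_eq (Qo h2) h2 hy.1 hQ (act_ext (Qo h2) fun z => ?_)
  obtain ⟨x, rfl⟩ : ∃ x, z = actS a.left.1 a.right x := ⟨a.right.symm ∘ (matI a.left.1⁻¹ *ᵥ z), by
    rw [actS, show a.right ∘ (a.right.symm ∘ (matI a.left.1⁻¹ *ᵥ z)) = _ from
      funext fun i => a.right.apply_symm_apply _, mulVec_mulVec, show matI a.left.1 * matI a.left.1⁻¹ = 1 from
      congrArg (fun z : Is m F => matI z) (mul_inv_cancel a.left.1), one_mulVec]⟩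
  conv_lhs => rw [show sref (Qo h2) y hy.1 = S.1 from rfl, ← congrArg Subtype.val e1]
  show matI (autI a.left.1 a.right S.1) *ᵥ actS a.left.1 a.right x = _
  rw [actS_mulVec, show matI S.1 *ᵥ x = act (Qo h2) (sref (Qo h2) y hy.1) x from rfl, act_sref, act_sref, hpol,
    show Qo h2 (actS a.left.1 a.right y) = a.right (Qo h2 y) from
      (a.left.1.2 (a.right ∘ y) (a.right ∘ y)).trans (q_hom a.right.toRingHom y), ← map_inv₀ a.right, ← map_mul, actS,
    actS, actS, ← mulVec_smul, ← mulVec_sub]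
  congr 1
  exact funext fun i => by simp

omit hc hP

theorem Psi_bijective : Function.Bijective (Psi (F := F) (m := m)) := by
  obtain ⟨c, P, hc, hP⟩ := exists_frame (m := m) h2 hm
  exact ⟨injective_aux h2 hm hc P hP, surjective_aux h2 hm hc P hP⟩

/-- There are no other automorphisms than the semilinear ones. -/
theorem gamma_top : Cfsg.gammaPOmega F (Cfsg.quadFormOdd m F) = ⊤ := by
  refine (Subgroup.eq_top_iff' _).2 fun β => ?_
  obtain ⟨a, rfl⟩ := (Psi_bijective h2 hm).2 β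
  refine Subgroup.subset_closure ⟨(a.left.1 : GL (Io m) F), a.right, ⟨1, fun v => ?_⟩, Psi_induced a⟩
  rw [Units.val_one, one_mul]
  exact (a.left.1.2 (a.right ∘ v) (a.right ∘ v)).trans (q_hom a.right.toRingHom v)

end finite

end Cfsg.Agent.OddAut
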