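import Cfsg.Agent.Lib.Classical.OrthOrder

/-!
The characteristic part of the order of a finite orthogonal group of odd characteristic.
-/

set_option autoImplicit false
set_option linter.style.haveILetI false

open Module QuadraticMap

namespace Cfsg.Agent.OddAut

open Classical

variable {F : Type*} [Field F] [Fintype F] (p : ℕ) [hp : Fact p.Prime] [CharP F p]

theorem card_cast : ((Fintype.card F : ℕ) : F) = 0 := Nat.cast_card_eq_zero F

omit [Fintype F] in
theorem p_ne_two (h2 : (2 : F) ≠ 0) : p ≠ 2 := by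
  rintro rfl
  exact h2 (by exact_mod_cast CharP.cast_eq_zero F 2)

theorem exists_exp_aux (h2 : (2 : F) ≠ 0) {d : ℕ} (G : QuadraticForm F (Fin d → F))
    (hG : (polarBilin G).Nondegenerate) (u : ℕ) (hu : ¬ p ∣ u) (h0 : Nat.card (OrthOrder.Iso G) = u) :
    ∀ k : ℕ, ∃ w : ℕ, ¬ p ∣ w ∧
      Nat.card (OrthOrder.Iso (OrthOrder.Qk G k)) = Fintype.card F ^ (k * k - k + d * k) * w
  | 0 => ⟨u, hu, by rw [OrthOrder.card_zero, h0]; simp⟩
  | k + 1 => by
    obtain ⟨w, hw, hk⟩ := exists_exp_aux h2 G hG u hu h0 k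
    set N := Nat.card (QuadZeros.T (⇑G) (k + 1)) with hN
    have hN1 : ¬ p ∣ N - 1 := by
      have hz : (0 : F) = 0 := rfl
      have hpos : 1 ≤ N := Nat.one_le_iff_ne_zero.2 (Nat.card_ne_zero.2
        ⟨⟨⟨(0, 0), by simp [map_zero]⟩⟩, inferInstance⟩)
      have hc : (Nat.card (QuadZeros.T (⇑G) (k + 1)) : F) = -((Nat.card (Fin d → F) : F) * (Fintype.card F : F) ^ (2 * k)) := by
        have h := congrArg (fun z : ℤ => (z : F)) (QuadZeros.card_succ (⇑G) k)
        push_cast at h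
        rw [h, card_cast]; ring
      rw [← CharP.cast_eq_zero_iff F p, Nat.cast_sub hpos, hc, Nat.card_fun, Nat.card_fin,
        Nat.card_eq_fintype_card (α := F), Nat.cast_pow, card_cast, ← pow_add, Nat.cast_one]
      rcases Nat.eq_zero_or_pos (d + 2 * k) with h | h
      · rw [h, pow_zero]
        intro e
        exact h2 (by linear_combination -e)
      · rw [zero_pow h.ne']
        simp
    refine ⟨(N - 1) * w, fun h => ((Nat.Prime.dvd_mul hp.out).1 h).elim hN1 hw, ?_⟩
    rw [OrthOrder.card_succ G hG k, hk, ← hN]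
    have e : (k + 1) * (k + 1) - (k + 1) + d * (k + 1) = 2 * k + d + (k * k - k + d * k) := by
      have h1 : k ≤ k * k := Nat.le_mul_self k
      have h2 : (k + 1) * (k + 1) = k * k + 2 * k + 1 := by ring
      have h3 : d * (k + 1) = d * k + d := by ring
      omega
    rw [e, pow_add]
    ring

/-- The exponent of `q` in the order of an orthogonal group. -/
def ex (n : ℕ) : ℕ := (n - 1) ^ 2 / 4

theorem ex_even (k : ℕ) : ex (2 * k) = k * k - k := by
  rcases k with _ | k
  · rfl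
  · have : (2 * (k + 1) - 1) ^ 2 = 4 * (k * k + k) + 1 := by
      rw [show 2 * (k + 1) - 1 = 2 * k + 1 by omega]; ring
    rw [ex, this]
    have : (k + 1) * (k + 1) = k * k + 2 * k + 1 := by ring
    omega

theorem ex_odd (k : ℕ) : ex (2 * k + 1) = k * k := by
  rw [ex, show (2 * k + 1 - 1) ^ 2 = 4 * (k * k) by rw [Nat.add_sub_cancel]; ring]
  omega

theorem exists_exp (h2 : (2 : F) ≠ 0) {V : Type*} [AddCommGroup V] [Module F V] [FiniteDimensional F V]
    (Q : QuadraticForm F V) (hQ : (polarBilin Q).Nondegenerate) :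
    ∃ w : ℕ, ¬ p ∣ w ∧ Nat.card (OrthOrder.Iso Q) = Fintype.card F ^ ex (finrank F V) * w := by
  classical
  obtain ⟨k, d, G, hd, hA⟩ := WittDec.exists_decomp Q hQ
  have hdim := hd.finrank_eq
  have hd2 := hd.aniso_le_two hQ hA
  have hG := hd.nondeg hQ
  obtain ⟨φ, hφ⟩ := hd
  have hiso : Nat.card (OrthOrder.Iso Q) = Nat.card (OrthOrder.Iso (OrthOrder.Qk G k)) :=
    OrthOrder.card_iso_congr Q (OrthOrder.Qk G k) φ fun v => by rw [hφ, OrthOrder.Qk_apply]
  have hp1 := hp.out.one_lt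
  have hp2 := p_ne_two p h2
  have hq : p ∣ Fintype.card F := (CharP.cast_eq_zero_iff F p _).1 card_cast
  have hbase : ∃ u, ¬ p ∣ u ∧ Nat.card (OrthOrder.Iso G) = u := by
    refine ⟨_, ?_, rfl⟩
    interval_cases d
    · haveI : Subsingleton (OrthOrder.Iso G) := ⟨fun g h => Subtype.ext (LinearEquiv.ext fun v =>
        funext fun i => i.elim0)⟩
      rw [Nat.card_eq_one_iff_unique.2 ⟨inferInstance, ⟨⟨LinearEquiv.refl F _, fun _ => rfl⟩⟩⟩]
      exact fun h => hp.out.ne_one (Nat.dvd_one.1 h)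
    · let e : Fin 1 → F := fun _ => 1
      have hv : ∀ v : Fin 1 → F, v = v 0 • e := fun v => funext fun i => by fin_cases i; simp [e]
      have hc : G e ≠ 0 := fun h => one_ne_zero (congrFun (hA e h) 0)
      rw [OrthOrder.card_iso_line (G e) hc h2 G fun v => by
        conv_lhs => rw [hv v, QuadraticMap.map_smul, smul_eq_mul]
        ring]
      exact fun h => hp2 ((Nat.prime_dvd_prime_iff_eq hp.out Nat.prime_two).1 h)
    · obtain ⟨⟨ζ, hζ⟩, hψ⟩ := WittDec.exists_plane_equiv G hG hA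
      obtain ⟨ψ, hψ⟩ := hψ ζ hζ
      rw [OrthOrder.card_iso_congr G (WittDec.plane 1 ζ) ψ hψ]
      have hab : ∀ z₁ z₂ : F, z₁ ^ 2 + 1 * z₁ * z₂ + ζ * z₂ ^ 2 = 0 → z₁ = 0 ∧ z₂ = 0 := by
        intro z₁ z₂ e
        by_cases hz : z₂ = 0
        · subst hz; exact ⟨by simpa using e, rfl⟩
        · exact absurd (by field_simp; linear_combination e) (hζ (z₁ / z₂))
      rw [show Nat.card {g : (Fin 2 → F) ≃ₗ[F] (Fin 2 → F) // ∀ v, WittDec.plane 1 ζ (g v) = WittDec.plane 1 ζ v} =
        2 * (Fintype.card F + 1) from OrthOrder.card_iso_plane 1 ζ hab]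
      intro h
      rcases (Nat.Prime.dvd_mul hp.out).1 h with h | h
      · exact hp2 ((Nat.prime_dvd_prime_iff_eq hp.out Nat.prime_two).1 h)
      · exact hp.out.ne_one (Nat.dvd_one.1 ((Nat.dvd_add_right hq).1 h))
  obtain ⟨u, hu, h0⟩ := hbase
  obtain ⟨w, hw, h⟩ := exists_exp_aux p h2 G hG u hu h0 k
  refine ⟨w, hw, ?_⟩
  rw [hiso, h, hdim]
  congr 2
  have h1 : k ≤ k * k := Nat.le_mul_self k
  interval_cases d
  · rw [Nat.add_zero, ex_even]; omega
  · rw [ex_odd]; omega
  · rw [show 2 * k + 2 = 2 * (k + 1) by ring, ex_even, show (k + 1) * (k + 1) = k * k + 2 * k + 1 by ring]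
    omega

theorem pow_mul_inj {a b u v : ℕ} (hu : ¬ p ∣ u) (hv : ¬ p ∣ v)
    (h : Fintype.card F ^ a * u = Fintype.card F ^ b * v) : a = b := by
  obtain ⟨f, -, hF⟩ := FiniteField.card F p
  have hp0 := hp.out.ne_zero
  have hval : ∀ c w, ¬ p ∣ w → padicValNat p (Fintype.card F ^ c * w) = f * c := by
    intro c w hw
    have hw0 : w ≠ 0 := fun e => hw (e ▸ dvd_zero p)
    rw [hF, ← pow_mul, padicValNat.mul (pow_ne_zero _ hp0) hw0, padicValNat.prime_pow,
      padicValNat.eq_zero_of_not_dvd hw, add_zero]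
  have := congrArg (padicValNat p) h
  rw [hval a u hu, hval b v hv] at this
  exact Nat.eq_of_mul_eq_mul_left f.pos this

end Cfsg.Agent.OddAut
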