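import Mathlib

/-!
Transvection groups of `PSL_n(F)`: the subgroup attached to an incident point–hyperplane pair,
when two of them are equal, and when they generate only transvections.
-/

set_option autoImplicit false

open Matrix

namespace Cfsg.Agent.TransvGroup

variable {F : Type*} [Field F] {ι : Type*} [Fintype ι] [DecidableEq ι]

/-- The matrix of a transvection. -/
def tvM (v φ : ι → F) : Matrix ι ι F := 1 + vecMulVec v φ

theorem tvM_mulVec (v φ x : ι → F) : tvM v φ *ᵥ x = x + (φ ⬝ᵥ x) • v := by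
  rw [tvM, add_mulVec, one_mulVec, vecMulVec_mulVec]
  funext i
  simp [mul_comm]

theorem det_tvM {v φ : ι → F} (h : φ ⬝ᵥ v = 0) : (tvM v φ).det = 1 := by
  rw [tvM, vecMulVec_eq Unit, det_one_add_replicateCol_mul_replicateRow, h, add_zero]

theorem tvM_mul_tvM (v φ w ψ : ι → F) :
    tvM v φ * tvM w ψ = 1 + vecMulVec v φ + vecMulVec w ψ + (φ ⬝ᵥ w) • vecMulVec v ψ := by
  rw [tvM, tvM, mul_add, add_mul, add_mul, one_mul, one_mul, mul_one,
    vecMulVec_mul_vecMulVec, vecMulVec_smul]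
  abel

theorem tvM_add_left {v w φ : ι → F} (hv : φ ⬝ᵥ w = 0) :
    tvM v φ * tvM w φ = tvM (v + w) φ := by
  rw [tvM_mul_tvM, hv, zero_smul, add_zero, tvM, add_vecMulVec, add_assoc]

theorem tvM_add_right {v φ ψ : ι → F} (hv : φ ⬝ᵥ v = 0) :
    tvM v φ * tvM v ψ = tvM v (φ + ψ) := by
  rw [tvM_mul_tvM, hv, zero_smul, add_zero, tvM, vecMulVec_add, add_assoc]

theorem tvM_smul (t : F) (v φ : ι → F) : tvM (t • v) φ = tvM v (t • φ) := by
  rw [tvM, tvM, smul_vecMulVec, vecMulVec_smul]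

/-- A transvection as an element of `SL`. -/
def tv (v φ : ι → F) (h : φ ⬝ᵥ v = 0) : SpecialLinearGroup ι F := ⟨tvM v φ, det_tvM h⟩

theorem tv_coe (v φ : ι → F) (h : φ ⬝ᵥ v = 0) : (tv v φ h : Matrix ι ι F) = tvM v φ := rfl

/-- Equality in `PSL` up to a scalar. -/
theorem mk_eq_mk_iff [Nonempty ι] {A B : SpecialLinearGroup ι F} :
    (QuotientGroup.mk A : ProjectiveSpecialLinearGroup ι F) = QuotientGroup.mk B ↔
      ∃ r : F, (B : Matrix ι ι F) = r • (A : Matrix ι ι F) := by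
  rw [QuotientGroup.eq, Matrix.SpecialLinearGroup.mem_center_iff]
  have key : A * (A⁻¹ * B) = B := by group
  constructor
  · rintro ⟨r, -, hr⟩
    refine ⟨r, ?_⟩
    conv_lhs => rw [← key, Matrix.SpecialLinearGroup.coe_mul, ← hr]
    rw [scalar_apply, ← smul_one_eq_diagonal, mul_smul_comm, mul_one]
  · rintro ⟨r, hr⟩
    refine ⟨r, ?_, ?_⟩
    · have := congrArg det hr
      rwa [det_smul, A.det_coe, B.det_coe, mul_one, eq_comm] at this
    · rw [Matrix.SpecialLinearGroup.coe_mul, hr, mul_smul_comm, ← Matrix.SpecialLinearGroup.coe_mul,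
        inv_mul_cancel, Matrix.SpecialLinearGroup.coe_one, scalar_apply, ← smul_one_eq_diagonal]

/-- The two vectors span the same line. -/
def Par (v w : ι → F) : Prop := ∃ c : F, c ≠ 0 ∧ w = c • v

omit [Fintype ι] [DecidableEq ι] in
theorem Par.refl (v : ι → F) : Par v v := ⟨1, one_ne_zero, (one_smul F v).symm⟩

omit [Fintype ι] [DecidableEq ι] in
theorem Par.symm {v w : ι → F} (h : Par v w) : Par w v := by
  obtain ⟨c, hc, rfl⟩ := h
  exact ⟨c⁻¹, inv_ne_zero hc, (inv_smul_smul₀ hc v).symm⟩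

omit [Fintype ι] [DecidableEq ι] in
theorem Par.trans {u v w : ι → F} (h : Par u v) (h' : Par v w) : Par u w := by
  obtain ⟨c, hc, rfl⟩ := h
  obtain ⟨d, hd, rfl⟩ := h'
  exact ⟨d * c, mul_ne_zero hd hc, (mul_smul d c u).symm⟩

omit [Fintype ι] [DecidableEq ι] in
theorem par_of_smul {v w : ι → F} (hw : w ≠ 0) {c : F} (h : w = c • v) : Par v w :=
  ⟨c, fun hc => hw (by rw [h, hc, zero_smul]), h⟩

omit [Fintype ι] [DecidableEq ι] in
theorem par_of_mul_eq {v w : ι → F} (hv : v ≠ 0) (hw : w ≠ 0)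
    (h : ∀ i j, v i * w j = v j * w i) : Par v w := by
  obtain ⟨i, hi⟩ := Function.ne_iff.1 hv
  refine par_of_smul hw (c := w i / v i) (funext fun j => ?_)
  simp only [Pi.smul_apply, smul_eq_mul]
  rw [div_mul_eq_mul_div, eq_div_iff (by simpa using hi)]
  linear_combination h i j

/-- A non-zero linear form takes the value one. -/
theorem exists_dot_one {φ : ι → F} (hφ : φ ≠ 0) : ∃ x : ι → F, φ ⬝ᵥ x = 1 := by
  obtain ⟨i, hi⟩ := Function.ne_iff.1 hφ
  refine ⟨Pi.single i (φ i)⁻¹, ?_⟩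
  rw [dotProduct_single, mul_inv_cancel₀ (by simpa using hi)]

/-- A form outside the line of another takes the value one on its kernel. -/
theorem exists_dot_zero_one {φ ψ : ι → F} (hφ : φ ≠ 0) (hψ : ψ ≠ 0) (h : ¬Par φ ψ) :
    ∃ x : ι → F, φ ⬝ᵥ x = 0 ∧ ψ ⬝ᵥ x = 1 := by
  by_contra hc
  push Not at hc
  refine h (par_of_mul_eq hφ hψ fun i j => ?_)
  by_contra hne
  set d := φ i * ψ j - φ j * ψ i with hd
  have hd0 : d ≠ 0 := sub_ne_zero.2 hne
  refine hc (Pi.single j (φ i / d) - Pi.single i (φ j / d)) ?_ ?_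
  · rw [dotProduct_sub, dotProduct_single, dotProduct_single]; ring
  · rw [dotProduct_sub, dotProduct_single, dotProduct_single, ← mul_div_assoc, ← mul_div_assoc,
      ← sub_div, div_eq_one_iff_eq hd0, hd]
    ring

/-- In dimension at least three two forms have a common non-zero zero. -/
theorem exists_dot_zero_zero (h3 : 3 ≤ Fintype.card ι) (φ ψ : ι → F) :
    ∃ x : ι → F, x ≠ 0 ∧ φ ⬝ᵥ x = 0 ∧ ψ ⬝ᵥ x = 0 := by
  let L : (ι → F) →ₗ[F] F × F :=
    { toFun := fun x => (φ ⬝ᵥ x, ψ ⬝ᵥ x)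
      map_add' := fun x y => by simp [dotProduct_add]
      map_smul' := fun c x => by simp [dotProduct_smul] }
  have hn : ¬Function.Injective L := fun hi => by
    have := LinearMap.finrank_le_finrank_of_injective hi
    rw [Module.finrank_prod, Module.finrank_self, Module.finrank_pi] at this
    omega
  rw [← LinearMap.ker_eq_bot, Submodule.eq_bot_iff] at hn
  push Not at hn
  obtain ⟨x, hx, hx0⟩ := hn
  have := LinearMap.mem_ker.1 hx
  exact ⟨x, hx0, congrArg Prod.fst this, congrArg Prod.snd this⟩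

theorem vecMulVec_sq_zero {v φ : ι → F} (h : φ ⬝ᵥ v = 0) :
    vecMulVec v φ * vecMulVec v φ = 0 := by
  rw [vecMulVec_mul_vecMulVec, h, zero_smul, vecMulVec_zero]

/-- A scalar multiple of a unipotent of square-zero type is one only for the scalar one. -/
theorem eq_one_of_smul [Nonempty ι] {N N' : Matrix ι ι F} (hN : N * N = 0) (hN' : N' * N' = 0)
    {r : F} (h : 1 + N' = r • (1 + N)) : r = 1 ∧ N' = N := by
  have h1 : N' = (r - 1) • (1 : Matrix ι ι F) + r • N := by
    rw [sub_smul, one_smul, smul_add] at *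
    linear_combination (norm := abel) h
  have hz : ((r - 1) ^ 2) • (1 : Matrix ι ι F) = -(2 * (r - 1) * r) • N := by
    have hN'2 : N' * N' = 0 := hN'
    rw [h1, add_mul, mul_add, mul_add] at hN'2
    simp only [smul_mul_assoc, mul_smul_comm, mul_one, one_mul, smul_smul, hN, smul_zero,
      add_zero] at hN'2
    linear_combination (norm := module) hN'2
  have h4 := congrArg (fun X => X * X) hz
  simp only [smul_mul_assoc, mul_smul_comm, mul_one, smul_smul, hN, smul_zero] at h4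
  have hr : r = 1 := by
    rcases smul_eq_zero.1 h4 with h5 | h5
    · exact sub_eq_zero.1 (pow_eq_zero_iff two_ne_zero |>.1 (mul_self_eq_zero.1 h5))
    · exact absurd h5 one_ne_zero
  refine ⟨hr, ?_⟩
  rw [h1, hr]; simp

theorem vecMulVec_par {v w φ ψ : ι → F} (hv : v ≠ 0) (hw : w ≠ 0) (hφ : φ ≠ 0) (hψ : ψ ≠ 0)
    (h : vecMulVec v φ = vecMulVec w ψ) : Par v w ∧ Par φ ψ := by
  constructor
  · obtain ⟨x, hx⟩ := exists_dot_one hψ
    refine par_of_smul hw (c := φ ⬝ᵥ x) ?_
    have := congrArg (fun M => M *ᵥ x) h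
    simp only [vecMulVec_mulVec, op_smul_eq_smul, hx, one_smul] at this
    exact this.symm
  · obtain ⟨x, hx⟩ := exists_dot_one hw
    refine par_of_smul hψ (c := x ⬝ᵥ v) ?_
    have := congrArg (fun M => x ᵥ* M) h
    simp only [vecMul_vecMulVec, dotProduct_comm x w, hx, one_smul] at this
    exact this.symm

variable (F ι) in
/-- An incident pair of a point and a hyperplane. -/
structure Flag where
  v : ι → F
  φ : ι → F
  hv : v ≠ 0
  hφ : φ ≠ 0
  h : φ ⬝ᵥ v = 0

/-- The transvection group of an incident pair in `PSL`. -/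
def rootSet (a : Flag F ι) : Set (ProjectiveSpecialLinearGroup ι F) :=
  {x | ∃ (t : F) (A : SpecialLinearGroup ι F),
    (A : Matrix ι ι F) = tvM (t • a.v) a.φ ∧ x = QuotientGroup.mk A}

theorem Flag.h_smul (a : Flag F ι) (t : F) : a.φ ⬝ᵥ (t • a.v) = 0 := by
  rw [dotProduct_smul, a.h, smul_zero]

/-- The element of a transvection group with a given parameter. -/
def el (a : Flag F ι) (t : F) : ProjectiveSpecialLinearGroup ι F :=
  QuotientGroup.mk (tv (t • a.v) a.φ (a.h_smul t))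

theorem el_mem (a : Flag F ι) (t : F) : el a t ∈ rootSet a :=
  ⟨t, _, rfl, rfl⟩

theorem eq_el {a : Flag F ι} {x : ProjectiveSpecialLinearGroup ι F} (hx : x ∈ rootSet a) :
    ∃ t, x = el a t := by
  obtain ⟨t, A, hA, rfl⟩ := hx
  exact ⟨t, congrArg _ (Subtype.ext hA)⟩

theorem el_zero (a : Flag F ι) : el a 0 = 1 := by
  rw [el, show tv ((0 : F) • a.v) a.φ (a.h_smul 0) = 1 from Subtype.ext (by simp [tv, tvM])]
  rfl

theorem el_add (a : Flag F ι) (s t : F) : el a (s + t) = el a s * el a t := by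
  rw [el, el, el, ← QuotientGroup.mk_mul]
  congr 1
  apply Subtype.ext
  rw [Matrix.SpecialLinearGroup.coe_mul]
  simp only [tv_coe]
  rw [tvM_add_left (a.h_smul t), ← add_smul]

variable [Nonempty ι]

theorem tvM_unique {v φ w ψ : ι → F} (h₁ : φ ⬝ᵥ v = 0) (h₂ : ψ ⬝ᵥ w = 0)
    {A B : SpecialLinearGroup ι F} (hA : (A : Matrix ι ι F) = tvM v φ)
    (hB : (B : Matrix ι ι F) = tvM w ψ)
    (h : (QuotientGroup.mk A : ProjectiveSpecialLinearGroup ι F) = QuotientGroup.mk B) :
    vecMulVec w ψ = vecMulVec v φ := by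
  obtain ⟨r, hr⟩ := mk_eq_mk_iff.1 h
  rw [hA, hB] at hr
  exact (eq_one_of_smul (vecMulVec_sq_zero h₁) (vecMulVec_sq_zero h₂) hr).2

theorem el_injective (a : Flag F ι) : Function.Injective (el a) := by
  intro s t h
  have h' := tvM_unique (a.h_smul s) (a.h_smul t) rfl rfl h
  rw [smul_vecMulVec, smul_vecMulVec] at h'
  exact (smul_left_injective F (vecMulVec_ne_zero a.hv a.hφ) h').symm

theorem el_ne_one (a : Flag F ι) {t : F} (ht : t ≠ 0) : el a t ≠ 1 := fun h =>
  ht (el_injective a (h.trans (el_zero a).symm))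

theorem rootSet_eq_iff {a b : Flag F ι} :
    rootSet a = rootSet b ↔ Par a.v b.v ∧ Par a.φ b.φ := by
  constructor
  · intro h
    obtain ⟨t, ht⟩ := eq_el (h ▸ el_mem a 1 : el a 1 ∈ rootSet b)
    have ht0 : t ≠ 0 := fun h0 => el_ne_one a one_ne_zero (by rw [ht, h0, el_zero])
    have h' := tvM_unique (a.h_smul 1) (b.h_smul t) rfl rfl ht
    rw [one_smul] at h'
    obtain ⟨h1, h2⟩ := vecMulVec_par a.hv (smul_ne_zero ht0 b.hv) a.hφ b.hφ h'.symm
    exact ⟨h1.trans (Par.symm ⟨t, ht0, rfl⟩), h2⟩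
  · rintro ⟨⟨c, hc, hv⟩, ⟨d, hd, hφ⟩⟩
    ext x
    constructor
    · rintro ⟨t, A, hA, rfl⟩
      refine ⟨t / (c * d), A, ?_, rfl⟩
      rw [hA, hv, hφ, ← tvM_smul, smul_smul, smul_smul]
      congr 2
      field_simp
    · rintro ⟨t, A, hA, rfl⟩
      refine ⟨t * (c * d), A, ?_, rfl⟩
      rw [hA, hv, hφ, ← tvM_smul, smul_smul, smul_smul]
      congr 2
      ring

/-- An element is a transvection or trivial. -/
def IsTr (x : ProjectiveSpecialLinearGroup ι F) : Prop :=
  x = 1 ∨ ∃ a : Flag F ι, x ∈ rootSet a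

/-- Two sets commute and have only transvections as products. -/
def Share (X Y : Set (ProjectiveSpecialLinearGroup ι F)) : Prop :=
  ∀ x ∈ X, ∀ y ∈ Y, x * y = y * x ∧ IsTr (x * y)

theorem share_of_par_left {a b : Flag F ι} (h : Par a.v b.v) :
    Share (rootSet a) (rootSet b) := by
  obtain ⟨c, hc, hv⟩ := h
  intro x hx y hy
  obtain ⟨s, rfl⟩ := eq_el hx
  obtain ⟨t, rfl⟩ := eq_el hy
  have hb : b.φ ⬝ᵥ a.v = 0 := by
    have := b.h
    rwa [hv, dotProduct_smul, smul_eq_mul, mul_eq_zero, or_iff_right hc] at this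
  have e : tvM (t • b.v) b.φ = tvM a.v ((t * c) • b.φ) := by
    rw [hv, smul_smul, tvM_smul]
  have e' : tvM (s • a.v) a.φ = tvM a.v (s • a.φ) := tvM_smul _ _ _
  have ha : (s • a.φ) ⬝ᵥ a.v = 0 := by rw [smul_dotProduct, a.h, smul_zero]
  have hb' : ((t * c) • b.φ) ⬝ᵥ a.v = 0 := by rw [smul_dotProduct, hb, smul_zero]
  constructor
  · rw [el, el, ← QuotientGroup.mk_mul, ← QuotientGroup.mk_mul]
    congr 1
    apply Subtype.ext
    rw [Matrix.SpecialLinearGroup.coe_mul, Matrix.SpecialLinearGroup.coe_mul]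
    simp only [tv_coe]
    rw [e, e', tvM_add_right ha, tvM_add_right hb', add_comm]
  · by_cases hz : s • a.φ + (t * c) • b.φ = 0
    · left
      rw [el, el, ← QuotientGroup.mk_mul, ← QuotientGroup.mk_one]
      congr 1
      apply Subtype.ext
      rw [Matrix.SpecialLinearGroup.coe_mul, Matrix.SpecialLinearGroup.coe_one]
      simp only [tv_coe]
      rw [e, e', tvM_add_right ha, hz, tvM, vecMulVec_zero, add_zero]
    · refine Or.inr ⟨⟨a.v, _, a.hv, hz, by rw [add_dotProduct, ha, hb', add_zero]⟩, 1,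
        tv (s • a.v) a.φ (a.h_smul s) * tv (t • b.v) b.φ (b.h_smul t), ?_, rfl⟩
      rw [Matrix.SpecialLinearGroup.coe_mul]
      simp only [tv_coe]
      rw [e, e', tvM_add_right ha, one_smul]

theorem share_of_par_right {a b : Flag F ι} (h : Par a.φ b.φ) :
    Share (rootSet a) (rootSet b) := by
  obtain ⟨c, hc, hφ⟩ := h
  intro x hx y hy
  obtain ⟨s, rfl⟩ := eq_el hx
  obtain ⟨t, rfl⟩ := eq_el hy
  have hb : a.φ ⬝ᵥ b.v = 0 := by
    have := b.h
    rwa [hφ, smul_dotProduct, smul_eq_mul, mul_eq_zero, or_iff_right hc] at this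
  have e : tvM (t • b.v) b.φ = tvM ((c * t) • b.v) a.φ := by
    rw [hφ, ← tvM_smul, smul_smul]
  have ha := a.h_smul s
  have hb' : a.φ ⬝ᵥ ((c * t) • b.v) = 0 := by rw [dotProduct_smul, hb, smul_zero]
  constructor
  · rw [el, el, ← QuotientGroup.mk_mul, ← QuotientGroup.mk_mul]
    congr 1
    apply Subtype.ext
    rw [Matrix.SpecialLinearGroup.coe_mul, Matrix.SpecialLinearGroup.coe_mul]
    simp only [tv_coe]
    rw [e, tvM_add_left hb', tvM_add_left ha, add_comm]
  · by_cases hz : s • a.v + (c * t) • b.v = 0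
    · left
      rw [el, el, ← QuotientGroup.mk_mul, ← QuotientGroup.mk_one]
      congr 1
      apply Subtype.ext
      rw [Matrix.SpecialLinearGroup.coe_mul, Matrix.SpecialLinearGroup.coe_one]
      simp only [tv_coe]
      rw [e, tvM_add_left hb', hz, tvM, zero_vecMulVec, add_zero]
    · refine Or.inr ⟨⟨_, a.φ, hz, a.hφ, by rw [dotProduct_add, ha, hb', add_zero]⟩, 1,
        tv (s • a.v) a.φ (a.h_smul s) * tv (t • b.v) b.φ (b.h_smul t), ?_, rfl⟩
      rw [Matrix.SpecialLinearGroup.coe_mul]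
      simp only [tv_coe]
      rw [e, tvM_add_left hb', one_smul]

theorem par_of_share (h3 : 3 ≤ Fintype.card ι) {a b : Flag F ι}
    (h : Share (rootSet a) (rootSet b)) : Par a.v b.v ∨ Par a.φ b.φ := by
  by_contra hc
  rw [not_or] at hc
  obtain ⟨hv, hφ⟩ := hc
  obtain ⟨hcomm, htr⟩ := h _ (el_mem a 1) _ (el_mem b 1)
  obtain ⟨x₁, h11, h12⟩ := exists_dot_zero_one a.hφ b.hφ hφ
  obtain ⟨x₂, h21, h22⟩ := exists_dot_zero_one b.hφ a.hφ fun h' => hφ h'.symm
  obtain ⟨x, hx, hxa, hxb⟩ := exists_dot_zero_zero h3 a.φ b.φ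
  rw [el, el, ← QuotientGroup.mk_mul, ← QuotientGroup.mk_mul] at hcomm
  obtain ⟨r, hr⟩ := mk_eq_mk_iff.1 hcomm
  rw [Matrix.SpecialLinearGroup.coe_mul, Matrix.SpecialLinearGroup.coe_mul] at hr
  simp only [tv_coe, one_smul] at hr
  have key : ∀ y, tvM b.v b.φ *ᵥ (tvM a.v a.φ *ᵥ y) =
      r • (tvM a.v a.φ *ᵥ (tvM b.v b.φ *ᵥ y)) := fun y => by
    rw [mulVec_mulVec, mulVec_mulVec, hr, smul_mulVec]
  have hr1 : r = 1 := by
    have := key x
    simp only [tvM_mulVec, hxa, hxb, zero_smul, add_zero] at this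
    by_contra hr'
    refine hx (funext fun i => ?_)
    have h5 := congrFun this i
    simp only [Pi.smul_apply, smul_eq_mul] at h5
    exact (mul_eq_zero.1 (by linear_combination -h5 : (r - 1) * x i = 0)).resolve_left
      (sub_ne_zero.2 hr')
  subst hr1
  have hab : a.φ ⬝ᵥ b.v = 0 := by
    have := key x₁
    simp only [tvM_mulVec, dotProduct_add, dotProduct_smul, h11, h12, zero_smul, one_smul,
      add_zero, smul_eq_mul, mul_one, zero_add] at this
    have h6 : (a.φ ⬝ᵥ b.v) • a.v = 0 := by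
      rw [eq_comm, ← sub_eq_zero] at this
      rw [← this]; abel
    exact (smul_eq_zero.1 h6).resolve_right a.hv
  have hba : b.φ ⬝ᵥ a.v = 0 := by
    have := key x₂
    simp only [tvM_mulVec, dotProduct_add, dotProduct_smul, h21, h22, zero_smul, one_smul,
      add_zero, smul_eq_mul, mul_one, zero_add] at this
    have h6 : (b.φ ⬝ᵥ a.v) • b.v = 0 := by
      rw [← sub_eq_zero] at this
      rw [← this]; abel
    exact (smul_eq_zero.1 h6).resolve_right b.hv
  have hN : (vecMulVec a.v a.φ + vecMulVec b.v b.φ) * (vecMulVec a.v a.φ + vecMulVec b.v b.φ)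
      = 0 := by
    rw [add_mul, mul_add, mul_add, vecMulVec_mul_vecMulVec, vecMulVec_mul_vecMulVec,
      vecMulVec_mul_vecMulVec, vecMulVec_mul_vecMulVec, a.h, b.h, hab, hba]
    simp
  have hprod : tvM a.v a.φ * tvM b.v b.φ = 1 + (vecMulVec a.v a.φ + vecMulVec b.v b.φ) := by
    rw [tvM_mul_tvM, hab, zero_smul, add_zero, add_assoc]
  have fin : ∀ N' : Matrix ι ι F, N' * N' = 0 → ∀ r : F,
      1 + N' = r • (tvM a.v a.φ * tvM b.v b.φ) →
      N' = vecMulVec a.v a.φ + vecMulVec b.v b.φ := fun N' hN' r hr' =>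
    (eq_one_of_smul hN hN' (hprod ▸ hr')).2
  rcases htr with htr | ⟨e, he⟩
  · rw [el, el, ← QuotientGroup.mk_mul, ← QuotientGroup.mk_one] at htr
    obtain ⟨r, hr'⟩ := mk_eq_mk_iff.1 htr
    simp only [Matrix.SpecialLinearGroup.coe_mul, Matrix.SpecialLinearGroup.coe_one, tv_coe, one_smul] at hr'
    have h7 := congrArg (fun M => M *ᵥ x₁) (fin 0 (mul_zero 0) r (by rwa [add_zero]))
    simp only [zero_mulVec, add_mulVec, vecMulVec_mulVec, op_smul_eq_smul, h11, h12, zero_smul,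
      one_smul, zero_add] at h7
    exact b.hv h7.symm
  · obtain ⟨t, A, hA, he⟩ := he
    rw [el, el, ← QuotientGroup.mk_mul] at he
    obtain ⟨r, hr'⟩ := mk_eq_mk_iff.1 he
    simp only [hA, Matrix.SpecialLinearGroup.coe_mul, tv_coe, one_smul] at hr'
    have h7 := fin _ (vecMulVec_sq_zero (e.h_smul t)) r hr'
    have e1 := congrArg (fun M => M *ᵥ x₁) h7
    have e2 := congrArg (fun M => M *ᵥ x₂) h7
    simp only [add_mulVec, vecMulVec_mulVec, op_smul_eq_smul, h11, h12, h21, h22, zero_smul,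
      one_smul, zero_add, add_zero, smul_smul] at e1 e2
    exact hv ((par_of_smul a.hv e2.symm).symm.trans (par_of_smul b.hv e1.symm))

theorem share_iff (h3 : 3 ≤ Fintype.card ι) {a b : Flag F ι} :
    Share (rootSet a) (rootSet b) ↔ Par a.v b.v ∨ Par a.φ b.φ :=
  ⟨par_of_share h3, fun h => h.elim share_of_par_left share_of_par_right⟩

end Cfsg.Agent.TransvGroup
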