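import Mathlib
import Cfsg.Prelude.Def_LieTypeDatum
import Cfsg.Agent.S0263
import Cfsg.Agent.Lib.Classical.Linear
import Cfsg.Agent.Lib.Classical.TransvGroup

/-!
Automorphisms of `PSL_n(F)`: the semilinear ones, inverse transpose, and the fact that every
automorphism permutes the transvection groups.
-/

set_option autoImplicit false

open Matrix

namespace Cfsg.Agent.PSLAut

open TransvGroup

variable {F : Type*} [Field F] {n : ℕ}

/-- An automorphism of `SL` on `PSL`. -/
noncomputable def descend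
    (e : Matrix.SpecialLinearGroup (Fin n) F ≃* Matrix.SpecialLinearGroup (Fin n) F) :
    MulAut (ProjectiveSpecialLinearGroup (Fin n) F) :=
  QuotientGroup.congr _ _ e (Subgroup.characteristic_iff_map_eq.1 inferInstance e)

theorem descend_mk (e : Matrix.SpecialLinearGroup (Fin n) F ≃* Matrix.SpecialLinearGroup (Fin n) F)
    (s : Matrix.SpecialLinearGroup (Fin n) F) :
    descend e (QuotientGroup.mk s) = QuotientGroup.mk (e s) := rfl

/-- A field automorphism on `SL`. -/
def fieldSL (σ : F ≃+* F) :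
    Matrix.SpecialLinearGroup (Fin n) F ≃* Matrix.SpecialLinearGroup (Fin n) F where
  toFun s := ⟨(s : Matrix (Fin n) (Fin n) F).map σ, by
    rw [show (s : Matrix (Fin n) (Fin n) F).map σ = σ.toRingHom.mapMatrix s from rfl,
      ← RingHom.map_det, s.det_coe, map_one]⟩
  invFun s := ⟨(s : Matrix (Fin n) (Fin n) F).map σ.symm, by
    rw [show (s : Matrix (Fin n) (Fin n) F).map σ.symm = σ.symm.toRingHom.mapMatrix s from rfl,
      ← RingHom.map_det, s.det_coe, map_one]⟩
  left_inv s := Subtype.ext (Matrix.ext fun i j => σ.symm_apply_apply _)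
  right_inv s := Subtype.ext (Matrix.ext fun i j => σ.apply_symm_apply _)
  map_mul' s t := Subtype.ext (map_mul σ.toRingHom.mapMatrix _ _)

/-- Conjugation by an invertible matrix on `SL`. -/
def conjSL (g : GL (Fin n) F) :
    Matrix.SpecialLinearGroup (Fin n) F ≃* Matrix.SpecialLinearGroup (Fin n) F where
  toFun s := ⟨(g : Matrix (Fin n) (Fin n) F) * s * ((g⁻¹ : GL (Fin n) F) : Matrix (Fin n) (Fin n) F),
    by rw [det_units_conj, s.det_coe]⟩
  invFun s := ⟨((g⁻¹ : GL (Fin n) F) : Matrix (Fin n) (Fin n) F) * s * (g : Matrix (Fin n) (Fin n) F),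
    by rw [det_units_conj', s.det_coe]⟩
  left_inv s := Subtype.ext <| by simp [mul_assoc]
  right_inv s := Subtype.ext <| by simp [mul_assoc]
  map_mul' s t := Subtype.ext <| by
    show (g : Matrix (Fin n) (Fin n) F) * ((s : Matrix (Fin n) (Fin n) F) * t) *
        ((g⁻¹ : GL (Fin n) F) : Matrix (Fin n) (Fin n) F) =
      ((g : Matrix (Fin n) (Fin n) F) * s * ((g⁻¹ : GL (Fin n) F) : Matrix (Fin n) (Fin n) F)) *
      ((g : Matrix (Fin n) (Fin n) F) * t * ((g⁻¹ : GL (Fin n) F) : Matrix (Fin n) (Fin n) F))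
    simp [mul_assoc]

/-- The automorphism of `PSL` induced by a semilinear map. -/
noncomputable def semi (g : GL (Fin n) F) (σ : F ≃+* F) :
    MulAut (ProjectiveSpecialLinearGroup (Fin n) F) :=
  descend ((fieldSL σ).trans (conjSL g))

/-- The value of a semilinear automorphism on matrices. -/
theorem semi_mk (g : GL (Fin n) F) (σ : F ≃+* F) (s s' : Matrix.SpecialLinearGroup (Fin n) F)
    (h : (s' : Matrix (Fin n) (Fin n) F) = (g : Matrix (Fin n) (Fin n) F) *
      (s : Matrix (Fin n) (Fin n) F).map σ * ((g⁻¹ : GL (Fin n) F) : Matrix (Fin n) (Fin n) F)) :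
    semi g σ (QuotientGroup.mk s) = QuotientGroup.mk s' :=
  (descend_mk _ s).trans (congrArg _ (Subtype.ext h.symm))

theorem semi_mk' (g : GL (Fin n) F) (σ : F ≃+* F) (s : Matrix.SpecialLinearGroup (Fin n) F) :
    ∃ s' : Matrix.SpecialLinearGroup (Fin n) F, (s' : Matrix (Fin n) (Fin n) F) =
      (g : Matrix (Fin n) (Fin n) F) * (s : Matrix (Fin n) (Fin n) F).map σ *
        ((g⁻¹ : GL (Fin n) F) : Matrix (Fin n) (Fin n) F) ∧
      semi g σ (QuotientGroup.mk s) = QuotientGroup.mk s' :=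
  ⟨conjSL g (fieldSL σ s), rfl, rfl⟩

theorem semi_ext (β : MulAut (ProjectiveSpecialLinearGroup (Fin n) F)) (g : GL (Fin n) F)
    (σ : F ≃+* F) (h : IsInducedBySemilinearPSL g σ β) : β = semi g σ := by
  refine MulEquiv.ext fun x => ?_
  obtain ⟨s, rfl⟩ := QuotientGroup.mk_surjective x
  obtain ⟨s', hs', he⟩ := semi_mk' g σ s
  rw [he, h s s' hs']

theorem semi_mul (g h : GL (Fin n) F) (σ τ : F ≃+* F) :
    semi g σ * semi h τ = semi (g * Matrix.GeneralLinearGroup.map σ.toRingHom h) (σ * τ) := by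
  refine semi_ext _ _ _ fun s s' hs' => ?_
  obtain ⟨t, ht, he⟩ := semi_mk' h τ s
  rw [MulAut.mul_apply, he]
  refine semi_mk g σ t s' ?_
  rw [hs', ht, show ((h : Matrix (Fin n) (Fin n) F) * (s : Matrix (Fin n) (Fin n) F).map τ *
    ((h⁻¹ : GL (Fin n) F) : Matrix (Fin n) (Fin n) F)).map σ = σ.toRingHom.mapMatrix _ from rfl,
    map_mul, map_mul, _root_.mul_inv_rev, Units.val_mul, Units.val_mul, ← map_inv]
  simp only [mul_assoc]
  rfl

theorem semi_one : semi (1 : GL (Fin n) F) (1 : F ≃+* F) = 1 := by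
  refine (semi_ext _ _ _ fun s s' hs' => ?_).symm
  rw [MulAut.one_apply]
  congr 1
  refine Subtype.ext ?_
  rw [hs']
  simp

theorem conj_eq_semi (G : Matrix.SpecialLinearGroup (Fin n) F) :
    MulAut.conj (QuotientGroup.mk G : ProjectiveSpecialLinearGroup (Fin n) F) =
      semi (Matrix.SpecialLinearGroup.toGL G) 1 := by
  refine semi_ext _ _ _ fun s s' hs' => ?_
  rw [MulAut.conj_apply, ← QuotientGroup.mk_inv, ← QuotientGroup.mk_mul, ← QuotientGroup.mk_mul]
  congr 1
  refine Subtype.ext ?_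
  rw [hs', ← map_inv, Matrix.SpecialLinearGroup.coe_mul, Matrix.SpecialLinearGroup.coe_mul]
  rfl

/-- Inverse transpose on `SL`. -/
def itSL : Matrix.SpecialLinearGroup (Fin n) F ≃* Matrix.SpecialLinearGroup (Fin n) F where
  toFun s := (s⁻¹).transpose
  invFun s := (s⁻¹).transpose
  left_inv s := by
    refine Subtype.ext ?_
    simp [Matrix.SpecialLinearGroup.coe_inv, adjugate_transpose]
    rw [← Matrix.SpecialLinearGroup.coe_inv, ← Matrix.SpecialLinearGroup.coe_inv, inv_inv]
  right_inv s := by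
    refine Subtype.ext ?_
    simp [Matrix.SpecialLinearGroup.coe_inv, adjugate_transpose]
    rw [← Matrix.SpecialLinearGroup.coe_inv, ← Matrix.SpecialLinearGroup.coe_inv, inv_inv]
  map_mul' s t := by
    refine Subtype.ext ?_
    rw [_root_.mul_inv_rev, Matrix.SpecialLinearGroup.coe_mul, Matrix.SpecialLinearGroup.coe_transpose,
      Matrix.SpecialLinearGroup.coe_transpose, Matrix.SpecialLinearGroup.coe_transpose,
      Matrix.SpecialLinearGroup.coe_mul, transpose_mul]

/-- Inverse transpose on `PSL`. -/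
noncomputable def it : MulAut (ProjectiveSpecialLinearGroup (Fin n) F) := descend itSL

theorem it_mk (s s' : Matrix.SpecialLinearGroup (Fin n) F)
    (h : (s' : Matrix (Fin n) (Fin n) F) =
      ((s⁻¹ : Matrix.SpecialLinearGroup (Fin n) F) : Matrix (Fin n) (Fin n) F).transpose) :
    it (QuotientGroup.mk s) = QuotientGroup.mk s' :=
  (descend_mk _ s).trans (congrArg _ (Subtype.ext h.symm))

theorem it_isInverseTranspose :
    IsInverseTransposeAutPSL (it : MulAut (ProjectiveSpecialLinearGroup (Fin n) F)) :=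
  fun s s' h => it_mk s s' h

theorem it_mul_it : (it : MulAut (ProjectiveSpecialLinearGroup (Fin n) F)) * it = 1 := by
  refine MulEquiv.ext fun x => ?_
  obtain ⟨s, rfl⟩ := QuotientGroup.mk_surjective x
  rw [MulAut.mul_apply, MulAut.one_apply, it, descend_mk, descend_mk]
  exact congrArg _ ((itSL (F := F) (n := n)).left_inv s)

/-! ### Action on transvection groups -/

theorem map_tvM (σ : F ≃+* F) (v φ : Fin n → F) :
    (tvM v φ).map σ = tvM (σ ∘ v) (σ ∘ φ) := by
  refine Matrix.ext fun i j => ?_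
  simp only [tvM, map_apply, Matrix.add_apply, vecMulVec_apply, map_add, map_mul, Function.comp_apply]
  congr 1
  rw [one_apply, apply_ite σ, map_one, map_zero]

theorem conj_tvM (g : GL (Fin n) F) (v φ : Fin n → F) :
    (g : Matrix (Fin n) (Fin n) F) * tvM v φ * ((g⁻¹ : GL (Fin n) F) : Matrix (Fin n) (Fin n) F) =
      tvM ((g : Matrix (Fin n) (Fin n) F) *ᵥ v)
        (φ ᵥ* ((g⁻¹ : GL (Fin n) F) : Matrix (Fin n) (Fin n) F)) := by
  rw [tvM, tvM, mul_add, mul_one, add_mul, mul_vecMulVec, vecMulVec_mul, Units.mul_inv]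

/-- The image of an incident pair under a semilinear map. -/
def semiFlag (g : GL (Fin n) F) (σ : F ≃+* F) (a : Flag F (Fin n)) : Flag F (Fin n) where
  v := (g : Matrix (Fin n) (Fin n) F) *ᵥ (σ ∘ a.v)
  φ := (σ ∘ a.φ) ᵥ* ((g⁻¹ : GL (Fin n) F) : Matrix (Fin n) (Fin n) F)
  hv h := a.hv <| by
    have h' := congrArg (fun x => ((g⁻¹ : GL (Fin n) F) : Matrix (Fin n) (Fin n) F) *ᵥ x) h
    simp only [mulVec_mulVec, Units.inv_mul, one_mulVec, mulVec_zero] at h'
    exact funext fun i => σ.injective ((congrFun h' i).trans (map_zero σ).symm)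
  hφ h := a.hφ <| by
    have h' := congrArg (fun x => x ᵥ* (g : Matrix (Fin n) (Fin n) F)) h
    simp only [vecMul_vecMul, Units.inv_mul, vecMul_one, zero_vecMul] at h'
    exact funext fun i => σ.injective ((congrFun h' i).trans (map_zero σ).symm)
  h := by
    rw [dotProduct_mulVec, vecMul_vecMul, Units.inv_mul, vecMul_one]
    have := congrArg σ a.h
    rw [map_zero] at this
    rw [← this]
    simp [dotProduct]

theorem semi_el (g : GL (Fin n) F) (σ : F ≃+* F) (a : Flag F (Fin n)) (t : F) :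
    semi g σ (el a t) = el (semiFlag g σ a) (σ t) := by
  refine semi_mk g σ _ _ ?_
  rw [tv_coe, tv_coe, map_tvM, conj_tvM, show σ ∘ (t • a.v) = σ t • (σ ∘ a.v) from
    funext fun i => by simp, mulVec_smul]
  rfl

theorem image_rootSet_of_el {α : MulAut (ProjectiveSpecialLinearGroup (Fin n) F)}
    {a b : Flag F (Fin n)} (f : F → F) (hf : Function.Surjective f)
    (h : ∀ t, α (el a t) = el b (f t)) : α '' rootSet a = rootSet b := by
  refine Set.Subset.antisymm ?_ ?_
  · rintro _ ⟨x, hx, rfl⟩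
    obtain ⟨t, rfl⟩ := eq_el hx
    rw [h]
    exact el_mem _ _
  · intro x hx
    obtain ⟨t, rfl⟩ := eq_el hx
    obtain ⟨s, rfl⟩ := hf t
    exact ⟨el a s, el_mem a s, h s⟩

theorem semi_image (g : GL (Fin n) F) (σ : F ≃+* F) (a : Flag F (Fin n)) :
    semi g σ '' rootSet a = rootSet (semiFlag g σ a) :=
  image_rootSet_of_el σ σ.surjective (semi_el g σ a)

/-- The dual pair. -/
def dualFlag (a : Flag F (Fin n)) : Flag F (Fin n) :=
  ⟨a.φ, a.v, a.hφ, a.hv, by rw [dotProduct_comm, a.h]⟩

theorem it_el (a : Flag F (Fin n)) (t : F) : it (el a t) = el (dualFlag a) (-t) := by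
  refine it_mk _ _ ?_
  have hinv : (tv (t • a.v) a.φ (a.h_smul t))⁻¹ = tv ((-t) • a.v) a.φ (a.h_smul (-t)) := by
    refine inv_eq_of_mul_eq_one_right (Subtype.ext ?_)
    rw [Matrix.SpecialLinearGroup.coe_mul, Matrix.SpecialLinearGroup.coe_one, tv_coe, tv_coe,
      tvM_add_left (a.h_smul (-t)), ← add_smul, add_neg_cancel, zero_smul]
    simp [tvM]
  rw [hinv, tv_coe, tv_coe]
  simp only [dualFlag, tvM, transpose_add, transpose_one, transpose_smul, transpose_vecMulVec,
    smul_vecMulVec, vecMulVec_smul]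

theorem it_image (a : Flag F (Fin n)) : it '' rootSet a = rootSet (dualFlag a) :=
  image_rootSet_of_el (fun t => -t) neg_surjective (it_el a)

/-- The pair of two basis vectors. -/
def stdFlag (i j : Fin n) (h : i ≠ j) : Flag F (Fin n) :=
  ⟨Pi.single i 1, Pi.single j 1, Pi.single_ne_zero_iff.2 one_ne_zero,
    Pi.single_ne_zero_iff.2 one_ne_zero, by simp [h.symm, h]⟩

theorem stdFlag_coe (i j : Fin n) (h : i ≠ j) (t : F) :
    tvM (t • (stdFlag (F := F) i j h).v) (stdFlag (F := F) i j h).φ =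
      (Matrix.SpecialLinearGroup.transvection h t : Matrix (Fin n) (Fin n) F) := by
  rw [Matrix.SpecialLinearGroup.transvection_coe, tvM, stdFlag]
  refine congrArg (1 + ·) (Matrix.ext fun a b => ?_)
  simp only [vecMulVec_apply, Matrix.single_apply, Pi.smul_apply, smul_eq_mul, Pi.single_apply]
  by_cases h1 : a = i <;> by_cases h2 : b = j
  · simp [h1, h2]
  · simp [h1, h2, Ne.symm h2]
  · simp [h1, h2, Ne.symm h1]
  · simp [h1, h2, Ne.symm h1]

theorem el_stdFlag (i j : Fin n) (h : i ≠ j) (t : F) :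
    el (stdFlag i j h) t = QuotientGroup.mk (Matrix.SpecialLinearGroup.transvection h t) :=
  congrArg _ (Subtype.ext (stdFlag_coe i j h t))

/-! ### The unipotent upper triangular group -/

variable [Finite F]

variable (F n) in
/-- The unipotent upper triangular matrices. -/
def U : Subgroup (Matrix.SpecialLinearGroup (Fin n) F) :=
  let M : Submonoid (Matrix.SpecialLinearGroup (Fin n) F) :=
    { carrier := {A | (A : Matrix (Fin n) (Fin n) F).BlockTriangular id ∧
        ∀ i, (A : Matrix (Fin n) (Fin n) F) i i = 1}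
      mul_mem' := fun {A B} hA hB => by
        refine ⟨by rw [Matrix.SpecialLinearGroup.coe_mul]; exact hA.1.mul hB.1, fun i => ?_⟩
        rw [Matrix.SpecialLinearGroup.coe_mul, mul_apply, Finset.sum_eq_single i ?_ ?_, hA.2, hB.2,
          one_mul]
        · intro k _ hk
          rcases lt_or_gt_of_ne hk with hk | hk
          · rw [hA.1 (show id k < id i from hk), zero_mul]
          · rw [hB.1 (show id i < id k from hk), mul_zero]
        · intro h; exact absurd (Finset.mem_univ i) h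
      one_mem' := ⟨by rw [Matrix.SpecialLinearGroup.coe_one]; exact blockTriangular_one,
        fun i => by simp⟩ }
  { M with
    inv_mem' := fun {x} hx => (Submonoid.powers_le.2 hx)
      ((mem_powers_iff_mem_zpowers).2 (inv_mem (Subgroup.mem_zpowers x))) }

theorem mem_U {A : Matrix.SpecialLinearGroup (Fin n) F} :
    A ∈ U F n ↔ (A : Matrix (Fin n) (Fin n) F).BlockTriangular id ∧
      ∀ i, (A : Matrix (Fin n) (Fin n) F) i i = 1 := Iff.rfl

theorem card_pairs : Nat.card {p : Fin n × Fin n // p.1 < p.2} = n * (n - 1) / 2 := by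
  have e : {p : Fin n × Fin n // p.1 < p.2} ≃ Σ j : Fin n, Fin j :=
    { toFun := fun p => ⟨p.1.2, ⟨p.1.1, p.2⟩⟩
      invFun := fun s => ⟨(⟨s.2, s.2.2.trans s.1.2⟩, s.1), s.2.2⟩
      left_inv := fun p => rfl
      right_inv := fun s => rfl }
  rw [Nat.card_congr e, Nat.card_eq_fintype_card, Fintype.card_sigma]
  simp only [Fintype.card_fin]
  rw [Fin.sum_univ_eq_sum_range (fun i => i), Finset.sum_range_id]

theorem card_U : Nat.card (U F n) = Nat.card F ^ (n * (n - 1) / 2) := by
  rw [← card_pairs (n := n), ← Nat.card_fun]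
  refine Nat.card_eq_of_bijective
    (fun A p => (A.1 : Matrix (Fin n) (Fin n) F) p.1.1 p.1.2) ⟨fun A B h => ?_, fun f => ?_⟩
  · refine Subtype.ext (Subtype.ext (Matrix.ext fun i j => ?_))
    rcases lt_trichotomy i j with hij | rfl | hij
    · exact congrFun h ⟨(i, j), hij⟩
    · exact (A.2.2 i).trans (B.2.2 i).symm
    · exact (A.2.1 (show id j < id i from hij)).trans (B.2.1 (show id j < id i from hij)).symm
  · let M : Matrix (Fin n) (Fin n) F := Matrix.of fun i j =>
      if h : i < j then f ⟨(i, j), h⟩ else if i = j then 1 else 0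
    have hM : M.BlockTriangular id := fun i j (hij : j < i) => by
      simp [M, hij.not_gt, hij.ne']
    have hd : ∀ i, M i i = 1 := fun i => by simp [M]
    refine ⟨⟨⟨M, by rw [det_of_upperTriangular hM, Finset.prod_eq_one fun i _ => hd i]⟩, hM, hd⟩,
      funext fun p => ?_⟩
    show M p.1.1 p.1.2 = f p
    simp [M, p.2]

theorem eq_one_of_mem_center {A : Matrix.SpecialLinearGroup (Fin n) F} (hA : A ∈ U F n)
    (hc : A ∈ Subgroup.center (Matrix.SpecialLinearGroup (Fin n) F)) : A = 1 := by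
  obtain ⟨r, -, hr⟩ := Matrix.SpecialLinearGroup.mem_center_iff.1 hc
  refine Subtype.ext (hr.symm.trans ?_)
  rcases isEmpty_or_nonempty (Fin n) with h | ⟨⟨i⟩⟩
  · exact Subsingleton.elim _ _
  · have := hA.2 i
    rw [← hr] at this
    simp at this
    simp [this]

variable (F n) in
/-- The image of the unipotent upper triangular group. -/
noncomputable def UP : Subgroup (ProjectiveSpecialLinearGroup (Fin n) F) :=
  (U F n).map (QuotientGroup.mk' _)

theorem card_UP : Nat.card (UP F n) = Nat.card F ^ (n * (n - 1) / 2) := by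
  rw [UP, ← Subgroup.range_subtype (U F n), ← MonoidHom.range_comp]
  rw [Nat.card_congr (MonoidHom.ofInjective ?_).toEquiv.symm, card_U]
  rw [injective_iff_map_eq_one]
  intro A hA
  exact Subtype.ext (eq_one_of_mem_center A.2 ((QuotientGroup.eq_one_iff A.1).1 hA))

theorem exists_conj_UP (p : ℕ) [Fact p.Prime] [CharP F p] [Nonempty (Fin n)]
    (α : MulAut (ProjectiveSpecialLinearGroup (Fin n) F)) :
    ∃ G, (UP F n).map α.toMonoidHom = (UP F n).map (MulAut.conj G).toMonoidHom := by
  cases nonempty_fintype F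
  have hcard : Nat.card (UP F n) =
      p ^ (Nat.card (ProjectiveSpecialLinearGroup (Fin n) F)).factorization p := by
    have hgl : Nat.card (UP F n) =
        p ^ (Nat.card (Matrix.GeneralLinearGroup (Fin n) F)).factorization p := by
      rw [card_UP, Nat.card_eq_fintype_card,
        ← S0263.result rfl p n (default : Sylow p (Matrix.GeneralLinearGroup (Fin n) F)),
        Sylow.card_eq_multiplicity]
    rw [hgl]
    obtain ⟨f, hp, hf⟩ := FiniteField.card F p
    have hq : ¬p ∣ Fintype.card F - 1 := fun hd => by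
      have := Nat.dvd_sub (show p ∣ Fintype.card F from hf ▸ dvd_pow_self p f.ne_zero) hd
      rw [Nat.sub_sub_self Fintype.card_pos] at this
      exact hp.not_dvd_one this
    have hg : ¬p ∣ Nat.gcd (Fintype.card (Fin n)) (Fintype.card F - 1) := fun hd =>
      hq (hd.trans (Nat.gcd_dvd_right _ _))
    have h1 : Fintype.card F - 1 ≠ 0 := fun h => hq (h ▸ dvd_zero p)
    have h2 : Nat.gcd (Fintype.card (Fin n)) (Fintype.card F - 1) ≠ 0 := fun h => hg (h ▸ dvd_zero p)
    rw [Classical.card_GL_eq_mul_card_SL, ← Classical.card_PSL_mul,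
      Nat.factorization_mul h1 (mul_ne_zero h2 Nat.card_pos.ne'), Finsupp.add_apply,
      Nat.factorization_mul h2 Nat.card_pos.ne', Finsupp.add_apply,
      Nat.factorization_eq_zero_of_not_dvd hq, Nat.factorization_eq_zero_of_not_dvd hg,
      zero_add, zero_add]
  let P : Sylow p (ProjectiveSpecialLinearGroup (Fin n) F) := Sylow.ofCard (UP F n) hcard
  let Q : Sylow p (ProjectiveSpecialLinearGroup (Fin n) F) :=
    Sylow.ofCard ((UP F n).map α.toMonoidHom)
      ((Nat.card_congr (α.subgroupMap (UP F n)).toEquiv).symm.trans hcard)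
  obtain ⟨G, hG⟩ := MulAction.exists_smul_eq (ProjectiveSpecialLinearGroup (Fin n) F) P Q
  refine ⟨G, ?_⟩
  have := congrArg (fun S : Sylow p _ => (S : Subgroup (ProjectiveSpecialLinearGroup (Fin n) F))) hG
  exact this.symm

/-- The elements commuting with all of a set, inside it. -/
def zset {G : Type*} [Group G] (H : Subgroup G) : Set G :=
  {x | x ∈ H ∧ ∀ y ∈ H, x * y = y * x}

theorem image_zset {G : Type*} [Group G] (H : Subgroup G) (α : MulAut G) :
    α '' zset H = zset (H.map α.toMonoidHom) := by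
  refine Set.Subset.antisymm ?_ ?_
  · rintro _ ⟨x, ⟨hx, hc⟩, rfl⟩
    refine ⟨Subgroup.mem_map_of_mem _ hx, ?_⟩
    rintro _ ⟨y, hy, rfl⟩
    show α x * α y = α y * α x
    rw [← map_mul, ← map_mul, hc y hy]
  · rintro _ ⟨⟨x, hx, rfl⟩, hc⟩
    refine ⟨x, ⟨hx, fun y hy => α.injective ?_⟩, rfl⟩
    rw [map_mul, map_mul]
    exact hc _ (Subgroup.mem_map_of_mem _ hy)

variable (F) in
/-- The pair of the first point and the last hyperplane. -/
def corner (hn : 2 ≤ n) : Flag F (Fin n) :=
  stdFlag ⟨0, by omega⟩ ⟨n - 1, by omega⟩ (by simp [Fin.ext_iff]; omega)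

theorem transvection_mem_U {i j : Fin n} (h : i < j) (t : F) :
    Matrix.SpecialLinearGroup.transvection h.ne t ∈ U F n := by
  refine mem_U.2 ⟨fun a b (hab : b < a) => ?_, fun a => ?_⟩
  · rw [Matrix.SpecialLinearGroup.transvection_coe]
    have : ¬(i = a ∧ j = b) := fun ⟨h1, h2⟩ => by subst h1 h2; exact lt_asymm h hab
    simp [hab.ne', this]
  · rw [Matrix.SpecialLinearGroup.transvection_coe]
    have : ¬(i = a ∧ j = a) := fun ⟨h1, h2⟩ => h.ne (h1.trans h2.symm)
    simp [this]

theorem zset_UP (hn : 2 ≤ n) : zset (UP F n) = rootSet (corner F hn) := by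
  haveI : Nonempty (Fin n) := ⟨⟨0, by omega⟩⟩
  obtain ⟨o, ho⟩ : ∃ o : Fin n, o = ⟨0, by omega⟩ := ⟨_, rfl⟩
  obtain ⟨l, hl⟩ : ∃ l : Fin n, l = ⟨n - 1, by omega⟩ := ⟨_, rfl⟩
  have hol : o < l := by rw [Fin.lt_def, ho, hl]; simp; omega
  have hcor : corner F hn = stdFlag o l hol.ne := by subst ho hl; rfl
  have hle : ∀ a, a ≠ o → o < a := fun a ha =>
    lt_of_le_of_ne (by rw [Fin.le_def, ho]; simp) (Ne.symm ha)
  have hge : ∀ b, b ≠ l → b < l := fun b hb =>
    lt_of_le_of_ne (by rw [Fin.le_def, hl]; simp; omega) hb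
  clear ho hl
  rw [hcor]
  refine Set.Subset.antisymm ?_ ?_
  · rintro _ ⟨⟨u, hu, rfl⟩, hc⟩
    have hcomm : ∀ i j : Fin n, (h : i < j) →
        (u : Matrix (Fin n) (Fin n) F) * Matrix.single i j 1 =
          Matrix.single i j 1 * (u : Matrix (Fin n) (Fin n) F) := fun i j h => by
      have hx := transvection_mem_U h (1 : F)
      have e := hc _ (Subgroup.mem_map_of_mem _ hx)
      rw [← map_mul, ← map_mul] at e
      obtain ⟨r, hr⟩ := mk_eq_mk_iff.1 e
      have hd := congrFun (congrFun hr o) o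
      rw [Matrix.smul_apply, (mem_U.1 ((U F n).mul_mem hu hx)).2,
        (mem_U.1 ((U F n).mul_mem hx hu)).2, smul_eq_mul, mul_one] at hd
      rw [← hd, one_smul, Matrix.SpecialLinearGroup.coe_mul, Matrix.SpecialLinearGroup.coe_mul,
        Matrix.SpecialLinearGroup.transvection_coe, mul_add, add_mul, mul_one, one_mul,
        add_right_inj] at hr
      exact hr.symm
    refine ⟨(u : Matrix (Fin n) (Fin n) F) o l, u, ?_, rfl⟩
    rw [stdFlag_coe, Matrix.SpecialLinearGroup.transvection_coe]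
    refine Matrix.ext fun a b => ?_
    rw [Matrix.add_apply]
    rcases lt_trichotomy a b with hab | rfl | hab
    · rw [one_apply_ne hab.ne, zero_add]
      by_cases hc' : a = o ∧ b = l
      · obtain ⟨rfl, rfl⟩ := hc'
        rw [Matrix.single_apply_same]
      · rw [Matrix.single_apply_of_ne o l _ a b fun ⟨h1, h2⟩ => hc' ⟨h1.symm, h2.symm⟩]
        rcases not_and_or.1 hc' with ha | hb
        · have := congrFun (congrFun (hcomm o a (hle a ha)) o) b
          rwa [single_mul_apply_same, mul_single_apply_of_ne _ _ _ _ _ hab.ne', one_mul,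
            eq_comm] at this
        · have := congrFun (congrFun (hcomm b l (hge b hb)) a) l
          rwa [mul_single_apply_same, single_mul_apply_of_ne _ _ _ _ _ hab.ne, mul_one] at this
    · rw [(mem_U.1 hu).2, one_apply_eq,
        Matrix.single_apply_of_ne o l _ a a fun ⟨h1, h2⟩ => hol.ne (h1.trans h2.symm), add_zero]
    · rw [(mem_U.1 hu).1 (show id b < id a from hab), one_apply_ne hab.ne',
        Matrix.single_apply_of_ne o l _ a b fun ⟨h1, h2⟩ => by
          subst h1 h2; exact lt_asymm hol hab, add_zero]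
  · intro x hx
    obtain ⟨t, rfl⟩ := eq_el hx
    rw [el_stdFlag]
    refine ⟨Subgroup.mem_map_of_mem _ (transvection_mem_U hol t), ?_⟩
    rintro _ ⟨u, hu, rfl⟩
    rw [QuotientGroup.mk'_apply, ← QuotientGroup.mk_mul, ← QuotientGroup.mk_mul]
    congr 1
    refine Subtype.ext ?_
    rw [Matrix.SpecialLinearGroup.coe_mul, Matrix.SpecialLinearGroup.coe_mul,
      Matrix.SpecialLinearGroup.transvection_coe, mul_add, add_mul, mul_one, one_mul,
      add_right_inj]
    refine Matrix.ext fun a b => ?_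
    rcases eq_or_ne a o with rfl | ha
    · rw [single_mul_apply_same]
      rcases eq_or_ne b l with rfl | hb
      · rw [mul_single_apply_same, (mem_U.1 hu).2, (mem_U.1 hu).2, one_mul, mul_one]
      · rw [mul_single_apply_of_ne _ _ _ _ _ hb,
          (mem_U.1 hu).1 (show id b < id l from hge b hb), mul_zero]
    · rw [single_mul_apply_of_ne _ _ _ _ _ ha]
      rcases eq_or_ne b l with rfl | hb
      · rw [mul_single_apply_same, (mem_U.1 hu).1 (show id o < id a from hle a ha), zero_mul]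
      · rw [mul_single_apply_of_ne _ _ _ _ _ hb]

/-- An invertible matrix with a given non-zero row fixing a vector orthogonal to it. -/
theorem exists_row (φ : Fin n → F) (hφ : φ ≠ 0) (l : Fin n) :
    ∃ C : Matrix (Fin n) (Fin n) F, C.det ≠ 0 ∧ C l = φ ∧
      ∀ o, o ≠ l → φ o = 0 → ∀ a, C a o = if a = o then 1 else 0 := by
  obtain ⟨j, hj⟩ := Function.ne_iff.1 hφ
  let P : Matrix (Fin n) (Fin n) F := Equiv.Perm.permMatrix F (Equiv.swap j l)
  have hsum : (∑ k, φ (Equiv.swap j l k) • P k) = φ := by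
    funext b
    rw [Finset.sum_apply, Finset.sum_eq_single (Equiv.swap j l b)]
    · simp [P, PEquiv.toMatrix_apply]
    · intro k _ hk
      have hne : Equiv.swap j l k ≠ b := fun h => hk (by rw [← h]; simp)
      have hz : P k b = 0 := by
        simp [P, PEquiv.toMatrix_apply, hne]
      simp [hz]
    · simp
  refine ⟨P.updateRow l φ, ?_, updateRow_self, ?_⟩
  · rw [← hsum, det_updateRow_sum, Equiv.swap_apply_right, smul_eq_mul]
    refine mul_ne_zero (by simpa using hj) ?_
    rw [det_permutation]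
    rcases Int.units_eq_one_or (Equiv.Perm.sign (Equiv.swap j l)) with h | h <;> simp [h]
  · intro o hol ho a
    rcases eq_or_ne a l with rfl | ha
    · rw [updateRow_self, ho, if_neg hol.symm]
    · rw [updateRow_ne ha]
      have hoj : o ≠ j := fun h => hj (by rw [← h, ho]; simp)
      have : Equiv.swap j l a = o ↔ a = o := by
        rw [Equiv.swap_apply_eq_iff, Equiv.swap_apply_of_ne_of_ne hoj hol]
      show P a o = _
      simp [P, PEquiv.toMatrix_apply, Pi.single_apply]
      rcases eq_or_ne a o with h | h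
      · simp [h]; subst h; exact this.2 rfl
      · simp [h]; exact fun h' => h (this.1 h')

theorem exists_flag_transitive (hn : 2 ≤ n) (a : Flag F (Fin n)) :
    ∃ B : Matrix.SpecialLinearGroup (Fin n) F,
      rootSet (semiFlag (Matrix.SpecialLinearGroup.toGL B) 1 (corner F hn)) = rootSet a := by
  haveI : Nonempty (Fin n) := ⟨⟨0, by omega⟩⟩
  set o : Fin n := ⟨0, by omega⟩
  set l : Fin n := ⟨n - 1, by omega⟩
  have hol : o ≠ l := by simp [o, l, Fin.ext_iff]; omega
  obtain ⟨R, hR, hRo, -⟩ := exists_row a.v a.hv o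
  have hB₁ : Rᵀ *ᵥ Pi.single o 1 = a.v := by
    rw [mulVec_single_one]; exact funext fun i => congrFun hRo i
  have hψ0 : a.φ ᵥ* Rᵀ ≠ 0 := fun h => by
    have := congrArg (fun x => x ᵥ* (Rᵀ)⁻¹) h
    simp only [vecMul_vecMul, zero_vecMul, mul_nonsing_inv _ (isUnit_iff_ne_zero.2
      (det_transpose R ▸ hR : Rᵀ.det ≠ 0)), vecMul_one] at this
    exact a.hφ this
  have hψo : (a.φ ᵥ* Rᵀ) o = 0 := by
    have h1 : (a.φ ᵥ* Rᵀ) ⬝ᵥ Pi.single o 1 = 0 := by rw [← dotProduct_mulVec, hB₁, a.h]
    rwa [dotProduct_single, mul_one] at h1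
  obtain ⟨C, hC, hCl, hCo⟩ := exists_row (a.φ ᵥ* Rᵀ) hψ0 l
  set B₀ : Matrix (Fin n) (Fin n) F := Rᵀ * C⁻¹ with hB₀
  have hB₀det : B₀.det ≠ 0 := by
    rw [hB₀, det_mul, det_transpose, det_nonsing_inv]
    simp [hR, hC]
  have hCo' : C *ᵥ Pi.single o 1 = Pi.single o 1 := by
    funext i; rw [mulVec_single_one]; simp [Matrix.col, hCo o hol hψo i, Pi.single_apply]
  have hv₀ : B₀ *ᵥ Pi.single o 1 = a.v := by
    rw [hB₀, ← mulVec_mulVec]
    nth_rewrite 1 [← hCo']
    rw [mulVec_mulVec (M := C⁻¹), nonsing_inv_mul _ (isUnit_iff_ne_zero.2 hC), one_mulVec, hB₁]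
  have hφ₀ : a.φ ᵥ* B₀ = Pi.single l 1 := by
    rw [hB₀, ← vecMul_vecMul, ← hCl, show C l = Pi.single l 1 ᵥ* C by
      rw [single_one_vecMul]; rfl, vecMul_vecMul, mul_nonsing_inv _ (isUnit_iff_ne_zero.2 hC),
      vecMul_one]
  set d : Fin n → F := Function.update 1 l (B₀.det)⁻¹ with hd
  have hdet : (B₀ * diagonal d).det = 1 := by
    rw [det_mul, det_diagonal, hd, Finset.prod_update_of_mem (Finset.mem_univ l)]
    simp [hB₀det]
  refine ⟨⟨_, hdet⟩, ?_⟩
  set B : GL (Fin n) F := Matrix.SpecialLinearGroup.toGL ⟨_, hdet⟩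
  have hBv : (B : Matrix (Fin n) (Fin n) F) = B₀ * diagonal d := rfl
  have e1 : a.φ ᵥ* (B : Matrix (Fin n) (Fin n) F) = (B₀.det)⁻¹ • Pi.single l 1 := by
    rw [hBv, ← vecMul_vecMul, hφ₀]
    funext i
    rcases eq_or_ne i l with rfl | hi <;> simp [vecMul_diagonal, hd, *]
  refine rootSet_eq_iff.2 ⟨⟨1, one_ne_zero, ?_⟩, ⟨B₀.det⁻¹, inv_ne_zero hB₀det, ?_⟩⟩
  · rw [one_smul]
    show a.v = (B : Matrix (Fin n) (Fin n) F) *ᵥ ((1 : F ≃+* F) ∘ Pi.single o 1)
    rw [hBv, show ((1 : F ≃+* F) ∘ Pi.single o (1:F)) = Pi.single o 1 from rfl, ← mulVec_mulVec]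
    rw [show diagonal d *ᵥ Pi.single o 1 = Pi.single o (1:F) from funext fun i => by
      rcases eq_or_ne i o with rfl | hi <;> simp [mulVec_diagonal, hd, *], hv₀]
  · show a.φ = B₀.det⁻¹ • (((1 : F ≃+* F) ∘ Pi.single l 1) ᵥ*
      ((B⁻¹ : GL (Fin n) F) : Matrix (Fin n) (Fin n) F))
    rw [show ((1 : F ≃+* F) ∘ Pi.single l (1:F)) = Pi.single l 1 from rfl, ← smul_vecMul, ← e1,
      vecMul_vecMul, Units.mul_inv, vecMul_one]

/-- Every automorphism permutes the transvection groups. -/
theorem exists_image_flag (hn : 2 ≤ n) (α : MulAut (ProjectiveSpecialLinearGroup (Fin n) F))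
    (a : Flag F (Fin n)) : ∃ b : Flag F (Fin n), α '' rootSet a = rootSet b := by
  haveI : Nonempty (Fin n) := ⟨⟨0, by omega⟩⟩
  obtain ⟨p, _⟩ := CharP.exists F
  haveI : Fact p.Prime := ⟨CharP.char_is_prime F p⟩
  obtain ⟨B, hB⟩ := exists_flag_transitive hn a
  rw [← semi_image, ← conj_eq_semi] at hB
  obtain ⟨G, hG⟩ := exists_conj_UP p α
  have hc : α '' rootSet (corner F hn) = MulAut.conj G '' rootSet (corner F hn) := by
    rw [← zset_UP hn, image_zset, image_zset, hG]
  obtain ⟨G₀, rfl⟩ := QuotientGroup.mk_surjective G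
  obtain ⟨H₀, hH₀⟩ := QuotientGroup.mk_surjective
    (α (QuotientGroup.mk B : ProjectiveSpecialLinearGroup (Fin n) F))
  refine ⟨semiFlag (Matrix.SpecialLinearGroup.toGL (H₀ * G₀)) 1 (corner F hn), ?_⟩
  rw [← semi_image, ← conj_eq_semi, QuotientGroup.mk_mul, hH₀, map_mul, ← hB, MulAut.coe_mul,
    Set.image_comp, ← hc, Set.image_image, Set.image_image]
  refine Set.image_congr fun x _ => ?_
  simp [MulAut.conj_apply, map_mul]

end Cfsg.Agent.PSLAut
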