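import Mathlib
import Cfsg.Agent.Lib.Classical.PSLAut

/-!
An automorphism of `PSL_n(F)` composed with a semilinear one and possibly inverse transpose fixes
every elementary transvection: the automorphism theorem for `PSL_n(F)`.
-/

set_option autoImplicit false

open Matrix

namespace Cfsg.Agent.PSLMon

open TransvGroup PSLAut

variable {F : Type*} [Field F] {n : ℕ}

theorem par_single {i k : Fin n} (h : Par (Pi.single i (1 : F)) (Pi.single k 1)) : i = k := by
  obtain ⟨c, -, hc⟩ := h
  by_contra hne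
  have := congrFun hc k
  simp [Ne.symm hne] at this

theorem share_image [Nonempty (Fin n)] [Finite F] (hn : 2 ≤ n)
    (α : MulAut (ProjectiveSpecialLinearGroup (Fin n) F))
    {X Y : Set (ProjectiveSpecialLinearGroup (Fin n) F)} (h : Share X Y) :
    Share (α '' X) (α '' Y) := by
  rintro _ ⟨x, hx, rfl⟩ _ ⟨y, hy, rfl⟩
  obtain ⟨h1, h2⟩ := h x hx y hy
  refine ⟨by rw [← map_mul, ← map_mul, h1], ?_⟩
  rw [← map_mul]
  rcases h2 with h2 | ⟨a, ha⟩
  · exact Or.inl (by rw [h2, map_one])
  · obtain ⟨b, hb⟩ := exists_image_flag hn α a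
    exact Or.inr ⟨b, hb ▸ Set.mem_image_of_mem α ha⟩

theorem share_image_iff [Nonempty (Fin n)] [Finite F] (hn : 2 ≤ n)
    (α : MulAut (ProjectiveSpecialLinearGroup (Fin n) F))
    {X Y : Set (ProjectiveSpecialLinearGroup (Fin n) F)} :
    Share (α '' X) (α '' Y) ↔ Share X Y := by
  refine ⟨fun h => ?_, share_image hn α⟩
  have := share_image hn α⁻¹ h
  rwa [← Set.image_comp, ← Set.image_comp, ← MulAut.coe_mul, inv_mul_cancel, MulAut.coe_one,
    Set.image_id, Set.image_id] at this

/-- Two families of relations coming from shared rows and columns: one is rows, the other columns. -/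
theorem rows_dichotomy (h3 : 3 ≤ n) (V P : ∀ i j : Fin n, i ≠ j → (Fin n → F))
    (hA : ∀ i j h k l h', Par (V i j h) (V k l h') ∨ Par (P i j h) (P k l h') ↔ i = k ∨ j = l)
    (hB : ∀ i j h k l h', Par (V i j h) (V k l h') → Par (P i j h) (P k l h') → i = k ∧ j = l) :
    (∀ i j h k l h', (i = k → Par (V i j h) (V k l h')) ∧ (j = l → Par (P i j h) (P k l h'))) ∨
      (∀ i j h k l h', (i = k → Par (P i j h) (P k l h')) ∧ (j = l → Par (V i j h) (V k l h'))) := by
  have third : ∀ a b : Fin n, ∃ c, c ≠ a ∧ c ≠ b := fun a b => by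
    obtain ⟨c, -, hc⟩ := Finset.exists_mem_notMem_of_card_lt_card
      (s := ({a, b} : Finset (Fin n))) (t := Finset.univ)
      (by
        have := Finset.card_le_two (a := a) (b := b)
        rw [Finset.card_univ, Fintype.card_fin]; omega)
    exact ⟨c, by simp_all⟩
  -- a row is uniform
  have row : ∀ i j k (hj : i ≠ j) (hk : i ≠ k), j ≠ k → Par (V i j hj) (V i k hk) →
      ∀ l (hl : i ≠ l), Par (V i j hj) (V i l hl) := by
    intro i j k hj hk hjk hV l hl
    rcases (hA i j hj i l hl).2 (Or.inl rfl) with h | h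
    · exact h
    rcases (hA i k hk i l hl).2 (Or.inl rfl) with h' | h'
    · exact hV.trans h'
    · exact absurd ((hB i j hj i k hk hV (h.trans h'.symm)).2) hjk
  have row' : ∀ i, (∀ j k (hj : i ≠ j) (hk : i ≠ k), Par (V i j hj) (V i k hk)) ∨
      (∀ j k (hj : i ≠ j) (hk : i ≠ k), Par (P i j hj) (P i k hk)) := by
    intro i
    by_cases h : ∃ j k, ∃ (hj : i ≠ j) (hk : i ≠ k), j ≠ k ∧ Par (V i j hj) (V i k hk)
    · obtain ⟨j, k, hj, hk, hjk, hV⟩ := h
      exact Or.inl fun a b ha hb =>
        (row i j k hj hk hjk hV a ha).symm.trans (row i j k hj hk hjk hV b hb)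
    · push Not at h
      refine Or.inr fun j k hj hk => ?_
      rcases eq_or_ne j k with rfl | hjk
      · exact Par.refl _
      · exact ((hA i j hj i k hk).2 (Or.inl rfl)).resolve_left (h j k hj hk hjk)
  have all : (∀ i j k (hj : i ≠ j) (hk : i ≠ k), Par (V i j hj) (V i k hk)) ∨
      (∀ i j k (hj : i ≠ j) (hk : i ≠ k), Par (P i j hj) (P i k hk)) := by
    by_contra hc
    push Not at hc
    obtain ⟨⟨a, ja, ka, hja, hka, hna⟩, ⟨b, jb, kb, hjb, hkb, hnb⟩⟩ := hc
    have hPa := (row' a).resolve_left fun h => hna (h _ _ _ _)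
    have hVb := (row' b).resolve_right fun h => hnb (h _ _ _ _)
    rcases eq_or_ne a b with rfl | hab
    · exact hna (hVb _ _ _ _)
    obtain ⟨k, hka', hkb'⟩ := third a b
    rcases (hA b k hkb'.symm a k hka'.symm).2 (Or.inr rfl) with h | h
    · rcases (hA b a hab.symm a k hka'.symm).1
          (Or.inl ((hVb a k hab.symm hkb'.symm).trans h)) with e | e
      · exact hab e.symm
      · exact hka' e.symm
    · rcases (hA b k hkb'.symm a b hab).1 (Or.inr (h.trans (hPa k b hka'.symm hab))) with e | e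
      · exact hab e.symm
      · exact hkb' e
  have col : ∀ (V P : ∀ i j : Fin n, i ≠ j → (Fin n → F)),
      (∀ i j h k l h', Par (V i j h) (V k l h') ∨ Par (P i j h) (P k l h') ↔ i = k ∨ j = l) →
      (∀ i j k (hj : i ≠ j) (hk : i ≠ k), Par (V i j hj) (V i k hk)) →
      ∀ i j h k l h', (i = k → Par (V i j h) (V k l h')) ∧ (j = l → Par (P i j h) (P k l h')) := by
    intro V P hA hrow i j h k l h'
    refine ⟨fun e => by subst e; exact hrow i j l h h', fun e => ?_⟩
    subst e
    rcases eq_or_ne i k with rfl | hik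
    · exact Par.refl _
    refine ((hA i j h k j h').2 (Or.inr rfl)).resolve_left fun hV => ?_
    obtain ⟨m, hmk, hmj⟩ := third k j
    rcases (hA i j h k m hmk.symm).1 (Or.inl (hV.trans (hrow k j m h' hmk.symm))) with e | e
    · exact hik e
    · exact hmj e.symm
  rcases all with h | h
  · exact Or.inl (col V P hA h)
  · exact Or.inr (col P V (fun i j a k l b => or_comm.trans (hA i j a k l b)) h)

/-- In dimension two the kernel of a non-zero form is a line. -/
theorem par_of_two {φ v w : Fin 2 → F} (hφ : φ ≠ 0) (hv : v ≠ 0) (hw : w ≠ 0)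
    (h₁ : φ ⬝ᵥ v = 0) (h₂ : φ ⬝ᵥ w = 0) : Par v w := by
  simp only [dotProduct, Fin.sum_univ_two] at h₁ h₂
  have key : v 0 * w 1 = v 1 * w 0 := by
    by_cases h0 : φ 0 = 0
    · have h1 : φ 1 ≠ 0 := fun h1 => hφ (by funext i; fin_cases i <;> simpa)
      refine mul_left_cancel₀ h1 ?_
      linear_combination v 0 * h₂ - w 0 * h₁
    · refine mul_left_cancel₀ h0 ?_
      linear_combination w 1 * h₁ - v 1 * h₂
  refine par_of_mul_eq hv hw fun i j => ?_
  fin_cases i <;> fin_cases j <;> first | rfl | exact key | exact key.symm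

variable [Finite F]

/-- An automorphism maps the elementary groups to those of some point and hyperplane frames, up to
inverse transpose. -/
theorem exists_frame (hn : 2 ≤ n) (β : MulAut (ProjectiveSpecialLinearGroup (Fin n) F)) :
    ∃ e : MulAut (ProjectiveSpecialLinearGroup (Fin n) F), (e = 1 ∨ 3 ≤ n ∧ e = it) ∧
      ∃ V P : Fin n → Fin n → F, (∀ i, P i ⬝ᵥ V i ≠ 0) ∧
        ∀ i j (h : i ≠ j), ∃ c : Flag F (Fin n), c.v = V i ∧ c.φ = P j ∧
          (e * β) '' rootSet (stdFlag i j h) = rootSet c := by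
  haveI : Nonempty (Fin n) := ⟨⟨0, by omega⟩⟩
  choose b hb using fun i j (h : i ≠ j) => exists_image_flag hn β (stdFlag i j h)
  have hinj : ∀ i j h k l h', Par (b i j h).v (b k l h').v → Par (b i j h).φ (b k l h').φ →
      i = k ∧ j = l := fun i j h k l h' h1 h2 => by
    have := rootSet_eq_iff.2 ⟨h1, h2⟩
    rw [← hb, ← hb] at this
    obtain ⟨e1, e2⟩ := rootSet_eq_iff.1 ((Set.image_injective.2 β.injective) this)
    exact ⟨par_single e1, par_single e2⟩
  have third : ∀ a : Fin n, ∃ c, a ≠ c := fun a => by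
    haveI : Nontrivial (Fin n) := Fin.nontrivial_iff_two_le.2 hn
    exact (exists_ne a).imp fun c hc => hc.symm
  choose s hs using third
  rcases Nat.lt_or_ge n 3 with h2 | h3
  · obtain rfl : n = 2 := by omega
    refine ⟨1, Or.inl rfl, fun i => (b i (s i) (hs i)).v, fun j => (b (s j) j (hs j).symm).φ,
      fun i h0 => ?_, fun i j h => ?_⟩
    · have e1 : Par (b i (s i) (hs i)).v (b (s i) i (hs i).symm).v :=
        par_of_two (b (s i) i (hs i).symm).hφ (b i (s i) (hs i)).hv (b (s i) i (hs i).symm).hv h0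
          (b (s i) i (hs i).symm).h
      have e2 : Par (b i (s i) (hs i)).φ (b (s i) i (hs i).symm).φ :=
        par_of_two (b i (s i) (hs i)).hv (b i (s i) (hs i)).hφ (b (s i) i (hs i).symm).hφ
          (by rw [dotProduct_comm]; exact (b i (s i) (hs i)).h) (by rw [dotProduct_comm]; exact h0)
      exact hs i (hinj _ _ _ _ _ _ e1 e2).1
    · obtain rfl : j = s i := by
        have := hs i; revert this h; generalize s i = m; revert i j m; decide
      refine ⟨b i (s i) h, rfl, ?_, by rw [one_mul, hb]⟩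
      have : s (s i) = i := by
        have := hs (s i); revert this h; generalize s i = m; generalize s m = k
        revert i m k; decide
      simp only [this]
  · have hA : ∀ i j h k l h', Par (b i j h).v (b k l h').v ∨ Par (b i j h).φ (b k l h').φ ↔
        i = k ∨ j = l := fun i j h k l h' => by
      rw [← share_iff (by simpa using h3), ← hb, ← hb, share_image_iff hn,
        share_iff (by simpa using h3)]
      exact ⟨fun h => h.imp par_single par_single,
        fun h => h.imp (fun e => by subst e; exact Par.refl _) (fun e => by subst e; exact Par.refl _)⟩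
    -- choose the version in which rows share the point
    obtain ⟨e, he, c, hc, hrow⟩ : ∃ e : MulAut (ProjectiveSpecialLinearGroup (Fin n) F),
        (e = 1 ∨ 3 ≤ n ∧ e = it) ∧ ∃ c : ∀ i j : Fin n, i ≠ j → Flag F (Fin n),
          (∀ i j h, (e * β) '' rootSet (stdFlag i j h) = rootSet (c i j h)) ∧
          ∀ i j h k l h', (i = k → Par (c i j h).v (c k l h').v) ∧
            (j = l → Par (c i j h).φ (c k l h').φ) := by
      rcases rows_dichotomy h3 (fun i j h => (b i j h).v) (fun i j h => (b i j h).φ) hA hinj with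
        hd | hd
      · exact ⟨1, Or.inl rfl, b, fun i j h => by rw [one_mul, hb], hd⟩
      · exact ⟨it, Or.inr ⟨h3, rfl⟩, fun i j h => dualFlag (b i j h), fun i j h => by
          rw [MulAut.coe_mul, Set.image_comp, hb, it_image], hd⟩
    refine ⟨e, he, fun i => (c i (s i) (hs i)).v, fun j => (c (s j) j (hs j).symm).φ,
      fun i h0 => ?_, fun i j h => ?_⟩
    · let f : Flag F (Fin n) := ⟨_, _, (c i (s i) (hs i)).hv, (c (s i) i (hs i).symm).hφ, h0⟩
      obtain ⟨w, hw⟩ := exists_image_flag hn (e * β)⁻¹ f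
      have hw' : (e * β) '' rootSet w = rootSet f := by
        rw [← hw, ← Set.image_comp, ← MulAut.coe_mul, mul_inv_cancel, MulAut.coe_one, Set.image_id]
      have key : ∀ j, i ≠ j → Par w.v (Pi.single i (1 : F)) ∨ Par w.φ (Pi.single j (1 : F)) := by
        intro j hj
        refine par_of_share (by simpa using h3) (b := stdFlag i j hj) ((share_image_iff hn (e * β)).1 ?_)
        rw [hw', hc]
        exact share_of_par_left ((hrow _ _ _ _ _ _).1 rfl)
      have key' : ∀ k, k ≠ i → Par w.v (Pi.single k (1 : F)) ∨ Par w.φ (Pi.single i (1 : F)) := by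
        intro k hk
        refine par_of_share (by simpa using h3) (b := stdFlag k i hk) ((share_image_iff hn (e * β)).1 ?_)
        rw [hw', hc]
        exact share_of_par_right ((hrow _ _ _ _ _ _).2 rfl)
      obtain ⟨j, k, hji, hki, hjk⟩ : ∃ j k : Fin n, i ≠ j ∧ i ≠ k ∧ j ≠ k := by
        obtain ⟨k, -, hk⟩ := Finset.exists_mem_notMem_of_card_lt_card
          (s := ({i, s i} : Finset (Fin n))) (t := Finset.univ)
          (by
            have := Finset.card_le_two (a := i) (b := s i)
            rw [Finset.card_univ, Fintype.card_fin]; omega)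
        simp only [Finset.mem_insert, Finset.mem_singleton, not_or] at hk
        exact ⟨s i, k, hs i, Ne.symm hk.1, Ne.symm hk.2⟩
      have h1 : Par w.v (Pi.single i (1 : F)) := by
        by_contra hne
        exact hjk (par_single (((key j hji).resolve_left hne).symm.trans
          ((key k hki).resolve_left hne)))
      have h2' : Par w.φ (Pi.single i (1 : F)) := by
        by_contra hne
        exact hjk (par_single (((key' j hji.symm).resolve_right hne).symm.trans
          ((key' k hki.symm).resolve_right hne)))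
      obtain ⟨x, hx, hv⟩ := h1.symm
      obtain ⟨y, hy, hφ⟩ := h2'.symm
      have := w.h
      rw [hv, hφ, smul_dotProduct, dotProduct_smul] at this
      simp [hx, hy] at this
    · obtain ⟨x, hx, hv⟩ := (hrow i j h i (s i) (hs i)).1 rfl
      obtain ⟨y, hy, hφ⟩ := (hrow i j h (s j) j (hs j).symm).2 rfl
      refine ⟨⟨_, _, (c i (s i) (hs i)).hv, (c (s j) j (hs j).symm).hφ, ?_⟩, rfl, rfl, ?_⟩
      · rw [hv, hφ, smul_dotProduct, dotProduct_smul, (c i j h).h, smul_zero, smul_zero]
      · rw [hc]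
        exact rootSet_eq_iff.2 ⟨⟨x, hx, hv⟩, ⟨y, hy, hφ⟩⟩

/-- Up to inverse transpose and a semilinear automorphism, an automorphism fixes every elementary
group. -/
theorem exists_fix_groups (hn : 2 ≤ n) (β : MulAut (ProjectiveSpecialLinearGroup (Fin n) F)) :
    ∃ e : MulAut (ProjectiveSpecialLinearGroup (Fin n) F), (e = 1 ∨ 3 ≤ n ∧ e = it) ∧
      ∃ g : GL (Fin n) F, ∀ i j (h : i ≠ j),
        (semi g 1 * (e * β)) '' rootSet (stdFlag i j h) = rootSet (stdFlag i j h) := by
  haveI : Nonempty (Fin n) := ⟨⟨0, by omega⟩⟩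
  obtain ⟨e, he, V, P, hd, hfr⟩ := exists_frame hn β
  refine ⟨e, he, ?_⟩
  let M : Matrix (Fin n) (Fin n) F := Matrix.of fun a i => V i a
  let H : Matrix (Fin n) (Fin n) F := Matrix.of P
  have hHM : H * M = diagonal fun i => P i ⬝ᵥ V i := by
    refine Matrix.ext fun j i => ?_
    rw [mul_apply']
    rcases eq_or_ne j i with rfl | hji
    · rw [diagonal_apply_eq]; rfl
    · rw [diagonal_apply_ne _ hji]
      obtain ⟨c, hv, hφ, -⟩ := hfr i j hji.symm
      show P j ⬝ᵥ V i = 0
      rw [← hv, ← hφ, c.h]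
  have hdet : H.det * M.det ≠ 0 := by
    rw [← det_mul, hHM, det_diagonal]
    exact Finset.prod_ne_zero_iff.2 fun i _ => hd i
  let g : GL (Fin n) F := Matrix.GeneralLinearGroup.mkOfDetNeZero M (right_ne_zero_of_mul hdet)
  have hg : (g : Matrix (Fin n) (Fin n) F) = M := rfl
  refine ⟨g⁻¹, fun i j h => ?_⟩
  obtain ⟨c, hv, hφ, hc⟩ := hfr i j h
  rw [MulAut.coe_mul, Set.image_comp, hc, semi_image]
  refine rootSet_eq_iff.2 ⟨⟨1, one_ne_zero, ?_⟩, ⟨(P j ⬝ᵥ V j)⁻¹, inv_ne_zero (hd j), ?_⟩⟩
  · rw [one_smul]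
    show Pi.single i 1 = ((g⁻¹ : GL (Fin n) F) : Matrix (Fin n) (Fin n) F) *ᵥ ((1 : F ≃+* F) ∘ c.v)
    have e1 : ((1 : F ≃+* F) ∘ c.v) = (g : Matrix (Fin n) (Fin n) F) *ᵥ Pi.single i 1 := by
      rw [hg, mulVec_single_one, hv]; rfl
    rw [e1, mulVec_mulVec, Units.inv_mul, one_mulVec]
  · show Pi.single j 1 = (P j ⬝ᵥ V j)⁻¹ • (((1 : F ≃+* F) ∘ c.φ) ᵥ*
      (((g⁻¹)⁻¹ : GL (Fin n) F) : Matrix (Fin n) (Fin n) F))
    rw [inv_inv, show ((1 : F ≃+* F) ∘ c.φ) = P j from hφ, hg]
    funext a
    have e2 : (P j ᵥ* M) a = (diagonal fun i => P i ⬝ᵥ V i) j a := by rw [← hHM, mul_apply']; rfl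
    rw [Pi.smul_apply, e2]
    rcases eq_or_ne j a with rfl | hja
    · simp [hd j]
    · simp [hja, Ne.symm hja]

theorem el_std_eq {i j : Fin n} (h : i ≠ j) (t : F) :
    el (stdFlag i j h) t = QuotientGroup.mk (Matrix.SpecialLinearGroup.transvection h t) :=
  el_stdFlag i j h t

omit [Finite F] in
theorem el_comm_rel {i j k : Fin n} (hik : i ≠ k) (hkj : k ≠ j) (hij : i ≠ j) (s t : F) :
    el (stdFlag i k hik) s * el (stdFlag k j hkj) t * el (stdFlag i k hik) (-s) *
        el (stdFlag k j hkj) (-t) = el (stdFlag i j hij) (s * t) := by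
  simp only [el_stdFlag, ← QuotientGroup.mk_mul]
  congr 1
  refine Classical.SL_ext_smul fun w => ?_
  simp only [mul_smul, Classical.transvection_smul]
  funext l
  simp only [Pi.add_apply, Pi.smul_apply, smul_eq_mul]
  by_cases hli : l = i
  · subst hli
    simp [hik, hik.symm, hij, hij.symm, hkj, hkj.symm]
    ring
  by_cases hlk : l = k
  · subst hlk
    simp [hik, hik.symm, hij, hij.symm, hkj, hkj.symm]
  · simp [hli, hlk]

omit [Finite F] in
theorem semi_diag_el (d : Fin n → Fˣ) {i j : Fin n} (h : i ≠ j) (t : F) :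
    semi (Units.map (diagonalRingHom (Fin n) F).toMonoidHom (MulEquiv.piUnits.symm d)) 1
        (el (stdFlag i j h) t) = el (stdFlag i j h) ((d i : F) * t * ((d j)⁻¹ : Fˣ)) := by
  refine semi_mk _ _ _ _ ?_
  rw [tv_coe, tv_coe, stdFlag_coe, stdFlag_coe, Matrix.SpecialLinearGroup.transvection_coe,
    Matrix.SpecialLinearGroup.transvection_coe]
  show 1 + Matrix.single i j _ = diagonal (fun a => (d a : F)) *
    ((1 + Matrix.single i j t).map id) * diagonal (fun a => (((d a)⁻¹ : Fˣ) : F))
  rw [Matrix.map_id]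
  refine Matrix.ext fun a b => ?_
  rw [mul_diagonal, diagonal_mul, Matrix.add_apply, Matrix.add_apply]
  rcases eq_or_ne a b with rfl | hab
  · have : ¬(i = a ∧ j = a) := fun ⟨h1, h2⟩ => h (h1.trans h2.symm)
    simp [this]
  · rw [one_apply_ne hab, zero_add, zero_add]
    by_cases hc : i = a ∧ j = b
    · obtain ⟨rfl, rfl⟩ := hc
      simp [mul_assoc]
    · rw [Matrix.single_apply_of_ne i j _ a b hc, Matrix.single_apply_of_ne i j _ a b hc,
        mul_zero, zero_mul]

omit [Finite F] in
theorem two_rel {a c s r : F} (hs : s ≠ 0)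
    (h : el (stdFlag (n := 2) 0 1 zero_ne_one) a * el (stdFlag 1 0 one_ne_zero) c *
        el (stdFlag 0 1 zero_ne_one) a * el (stdFlag 0 1 zero_ne_one) s =
      el (stdFlag (n := 2) 1 0 one_ne_zero) r * (el (stdFlag 0 1 zero_ne_one) a *
        el (stdFlag 1 0 one_ne_zero) c * el (stdFlag 0 1 zero_ne_one) a)) :
    1 + a * c = 0 ∧ (c = -1 → a = 1 → r = -s) := by
  simp only [el_stdFlag, ← QuotientGroup.mk_mul] at h
  obtain ⟨l, hl⟩ := mk_eq_mk_iff.1 h
  simp only [Matrix.SpecialLinearGroup.coe_mul, Matrix.SpecialLinearGroup.transvection_coe] at hl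
  have e00 := congrFun (congrFun hl 0) 0
  have e01 := congrFun (congrFun hl 0) 1
  have e11 := congrFun (congrFun hl 1) 1
  simp [mul_apply, Fin.sum_univ_two] at e00 e01 e11
  have h0 : 1 + a * c = 0 := by
    by_contra hne
    have hl1 : l = 1 := mul_right_cancel₀ hne (by linear_combination -e00)
    rw [hl1] at e01
    exact hne ((mul_eq_zero.1 (by linear_combination -e01 : (1 + a * c) * s = 0)).resolve_right hs)
  refine ⟨h0, ?_⟩
  rintro rfl rfl
  have hl1 : l = 1 := by linear_combination -e01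
  rw [hl1] at e11
  linear_combination e11

omit [Finite F] in
theorem two_rel' (a u : F) (ha : a ≠ 0) :
    el (stdFlag (n := 2) 0 1 zero_ne_one) a * el (stdFlag 1 0 one_ne_zero) (-a⁻¹) *
        el (stdFlag 0 1 zero_ne_one) a * el (stdFlag 0 1 zero_ne_one) u =
      el (stdFlag (n := 2) 1 0 one_ne_zero) (-u * a⁻¹ ^ 2) * (el (stdFlag 0 1 zero_ne_one) a *
        el (stdFlag 1 0 one_ne_zero) (-a⁻¹) * el (stdFlag 0 1 zero_ne_one) a) := by
  simp only [el_stdFlag, ← QuotientGroup.mk_mul]
  congr 1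
  refine Subtype.ext ?_
  simp only [Matrix.SpecialLinearGroup.coe_mul, Matrix.SpecialLinearGroup.transvection_coe]
  refine Matrix.ext fun i j => ?_
  fin_cases i <;> fin_cases j <;> simp [mul_apply, Fin.sum_univ_two] <;> field_simp <;>
    first | ring1 | simp

/-- An additive bijection commuting with inversion and fixing one is multiplicative. -/
theorem map_mul_of_hua (f : F →+ F) (hf : Function.Bijective f) (h1 : f 1 = 1)
    (hinv : ∀ x, f x⁻¹ = (f x)⁻¹) : ∀ x y, f (x * y) = f x * f y := by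
  have aba : ∀ a b, f (a ^ 2 * b) = f a ^ 2 * f b := by
    intro a b
    by_cases ha : a = 0
    · simp [ha]
    by_cases hb : b = 0
    · simp [hb]
    by_cases hab : a * b = 1
    · rw [show a ^ 2 * b = a by linear_combination a * hab,
        show b = a⁻¹ from eq_inv_of_mul_eq_one_right hab, hinv]
      have : f a ≠ 0 := fun h => ha (hf.1 (h.trans (map_zero f).symm))
      field_simp
    have key : ∀ a b : F, a ≠ 0 → b ≠ 0 → a * b ≠ 1 →
        a - (a⁻¹ + (b⁻¹ - a)⁻¹)⁻¹ = a ^ 2 * b := by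
      intro a b ha hb hab
      have hd : b⁻¹ - a ≠ 0 := fun h => hab (by rw [← sub_eq_zero.1 h, inv_mul_cancel₀ hb])
      have e : a⁻¹ + (b⁻¹ - a)⁻¹ = (a * (1 - a * b))⁻¹ := by
        have : (1 : F) - a * b ≠ 0 := sub_ne_zero.2 (Ne.symm hab)
        field_simp
        ring
      rw [e, inv_inv]; ring
    have hfa : f a ≠ 0 := fun h => ha (hf.1 (h.trans (map_zero f).symm))
    have hfb : f b ≠ 0 := fun h => hb (hf.1 (h.trans (map_zero f).symm))
    have hfab : f a * f b ≠ 1 := fun h => hab (by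
      have : f b = f a⁻¹ := by rw [hinv]; exact eq_inv_of_mul_eq_one_right h
      rw [hf.1 this, mul_inv_cancel₀ ha])
    rw [← key a b ha hb hab, ← key (f a) (f b) hfa hfb hfab, map_sub, hinv, map_add, hinv, hinv,
      map_sub, hinv]
  intro x y
  cases nonempty_fintype F
  obtain ⟨p, _⟩ := CharP.exists F
  by_cases h2 : ringChar F = 2
  · obtain ⟨c, rfl⟩ := FiniteField.isSquare_of_char_two h2 x
    have h := aba c y
    have h' := aba c 1
    rw [mul_one, h1, mul_one] at h'
    rw [← sq, h, h']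
  · have h20 : (2 : F) ≠ 0 := Ring.two_ne_zero h2
    have hsq : ∀ a, f (a ^ 2) = f a ^ 2 := fun a => by
      have := aba a 1
      rwa [h1, mul_one, mul_one] at this
    have e : f ((x + y) ^ 2) = f (x ^ 2) + (f (x * y) + f (x * y)) + f (y ^ 2) := by
      rw [show (x + y) ^ 2 = x ^ 2 + (x * y + x * y) + y ^ 2 by ring, map_add, map_add, map_add]
    rw [hsq, hsq, hsq, map_add] at e
    exact mul_left_cancel₀ h20 (by linear_combination -e)

/-- The parameters of an automorphism fixing the elementary groups of dimension two. -/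
theorem fix_two (γ : MulAut (ProjectiveSpecialLinearGroup (Fin 2) F))
    (f : ∀ i j : Fin 2, i ≠ j → F → F)
    (hf : ∀ i j h t, γ (el (stdFlag i j h) t) = el (stdFlag i j h) (f i j h t))
    (hinj : ∀ i j h, Function.Injective (f i j h))
    (hadd : ∀ i j h s t, f i j h (s + t) = f i j h s + f i j h t)
    (hz1 : f 0 1 zero_ne_one 1 = 1) :
    ∃ φ : F → F, (∀ x y, φ (x * y) = φ x * φ y) ∧ ∀ i j h, f i j h = φ := by
  have hzero : ∀ i j h, f i j h 0 = 0 := fun i j h => by
    have := hadd i j h 0 0; rw [add_zero] at this; exact left_eq_add.1 this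
  have hneg : ∀ i j h t, f i j h (-t) = -f i j h t := fun i j h t =>
    eq_neg_of_add_eq_zero_left (by rw [← hadd, neg_add_cancel, hzero])
  set x := f 0 1 zero_ne_one with hx
  set y := f 1 0 one_ne_zero with hy
  have hnz : ∀ u, u ≠ 0 → x u ≠ 0 := fun u hu h => hu (hinj _ _ _ (h.trans (hzero _ _ _).symm))
  have key : ∀ a u : F, a ≠ 0 → u ≠ 0 →
      1 + x a * y (-a⁻¹) = 0 ∧ (y (-a⁻¹) = -1 → x a = 1 → y (-u * a⁻¹ ^ 2) = -x u) := by
    intro a u ha hu
    have e := congrArg γ (two_rel' a u ha)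
    rw [map_mul, map_mul, map_mul, map_mul, map_mul, map_mul, hf, hf, hf, hf] at e
    exact two_rel (hnz u hu) e
  have hb : ∀ a : F, a ≠ 0 → y (-a⁻¹) = -(x a)⁻¹ := by
    intro a ha
    have h' := (key a 1 ha one_ne_zero).1
    have := hnz a ha
    refine mul_left_cancel₀ this ?_
    rw [mul_neg, mul_inv_cancel₀ this]
    linear_combination h'
  have hbf : ∀ u, y u = x u := by
    intro u
    rcases eq_or_ne u 0 with rfl | hu
    · rw [hy, hx, hzero, hzero]
    have h' := (key 1 u one_ne_zero hu).2 (by rw [hb 1 one_ne_zero, hz1, inv_one]) hz1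
    rw [inv_one, one_pow, mul_one, hy, hneg] at h'
    exact neg_injective h'
  refine ⟨x, map_mul_of_hua
    { toFun := x, map_zero' := hzero _ _ _, map_add' := hadd _ _ _ }
    (Finite.injective_iff_bijective.1 (hinj _ _ _)) hz1 fun u => ?_, fun i j h => ?_⟩
  · show x u⁻¹ = (x u)⁻¹
    rcases eq_or_ne u 0 with rfl | hu
    · simp [hx, hzero]
    · have := hb u hu
      rw [hbf, hx, hneg, ← hx] at this
      exact neg_injective this
  · fin_cases i <;> fin_cases j
    · exact absurd rfl h
    · rfl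
    · exact funext hbf
    · exact absurd rfl h

/-- The parameters of an automorphism fixing the elementary groups of dimension at least three. -/
theorem fix_three (h3 : 3 ≤ n) (γ : MulAut (ProjectiveSpecialLinearGroup (Fin n) F))
    (f : ∀ i j : Fin n, i ≠ j → F → F)
    (hf : ∀ i j h t, γ (el (stdFlag i j h) t) = el (stdFlag i j h) (f i j h t))
    (hadd : ∀ i j h s t, f i j h (s + t) = f i j h s + f i j h t) (z : Fin n)
    (hz1 : ∀ j h, f z j h 1 = 1) :
    ∃ φ : F → F, (∀ x y, φ (x * y) = φ x * φ y) ∧ ∀ i j h, f i j h = φ := by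
  haveI : Nonempty (Fin n) := ⟨z⟩
  have hzero : ∀ i j h, f i j h 0 = 0 := fun i j h => by
    have := hadd i j h 0 0; rw [add_zero] at this; exact left_eq_add.1 this
  have hneg : ∀ i j h t, f i j h (-t) = -f i j h t := fun i j h t =>
    eq_neg_of_add_eq_zero_left (by rw [← hadd, neg_add_cancel, hzero])
  have hrel : ∀ i j k (hij : i ≠ j) (hik : i ≠ k) (hkj : k ≠ j) (s t : F),
      f i j hij (s * t) = f i k hik s * f k j hkj t := by
    intro i j k hij hik hkj s t
    have e := congrArg γ (el_comm_rel hik hkj hij s t)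
    rw [map_mul, map_mul, map_mul, hf, hf, hf, hf, hf, hneg, hneg, el_comm_rel hik hkj hij] at e
    exact (el_injective _ e).symm
  have third : ∀ a b : Fin n, ∃ c, c ≠ a ∧ c ≠ b := fun a b => by
    obtain ⟨c, -, hc⟩ := Finset.exists_mem_notMem_of_card_lt_card
      (s := ({a, b} : Finset (Fin n))) (t := Finset.univ)
      (by
        have := Finset.card_le_two (a := a) (b := b)
        rw [Finset.card_univ, Fintype.card_fin]; omega)
    exact ⟨c, by simp_all⟩
  have h11 : ∀ i j h, f i j h 1 = 1 := by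
    have hin : ∀ k j (hkj : k ≠ j), z ≠ j → z ≠ k → f k j hkj 1 = 1 := fun k j hkj hj hk => by
      have := hrel z j k hj hk hkj 1 1
      rwa [mul_one, hz1, hz1, one_mul, eq_comm] at this
    intro i j h
    rcases eq_or_ne z i with rfl | hi
    · exact hz1 j h
    rcases eq_or_ne z j with rfl | hj
    · obtain ⟨m, hmi, hmz⟩ := third i z
      have := hrel i m z hmi.symm h hmz.symm 1 1
      rwa [mul_one, hz1, mul_one, hin i m hmi.symm hmz.symm hi, eq_comm] at this
    · exact hin i j h hj hi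
  have hrow : ∀ i j k (hij : i ≠ j) (hik : i ≠ k), f i j hij = f i k hik := by
    intro i j k hij hik
    rcases eq_or_ne k j with rfl | hkj
    · rfl
    funext t
    have := hrel i j k hij hik hkj t 1
    rwa [mul_one, h11, mul_one] at this
  have hcol : ∀ i j k (hij : i ≠ j) (hkj : k ≠ j), f i j hij = f k j hkj := by
    intro i j k hij hkj
    rcases eq_or_ne i k with rfl | hik
    · rfl
    funext t
    have := hrel i j k hij hik hkj 1 t
    rwa [one_mul, h11, one_mul] at this
  obtain ⟨o, ho, -⟩ := third z z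
  have hall : ∀ i j h, f i j h = f z o ho.symm := by
    intro i j h
    rcases eq_or_ne z j with rfl | hj
    · obtain ⟨k, hki, hkz⟩ := third i z
      rw [hrow i z k h hki.symm, hcol i k z hki.symm hkz.symm]
      exact hrow z k o hkz.symm ho.symm
    · rw [hcol i j z h hj]
      exact hrow z j o hj ho.symm
  refine ⟨f z o ho.symm, fun x y => ?_, hall⟩
  obtain ⟨k, hkz, hko⟩ := third z o
  have := hrel z o k ho.symm hkz.symm hko x y
  rwa [hall z k, hall k o] at this

/-- An automorphism fixing every elementary group is induced by a semilinear map. -/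
theorem exists_semi_of_fix (hn : 2 ≤ n) (α : MulAut (ProjectiveSpecialLinearGroup (Fin n) F))
    (hα : ∀ i j (h : i ≠ j), α '' rootSet (stdFlag i j h) = rootSet (stdFlag i j h)) :
    ∃ (g : GL (Fin n) F) (σ : F ≃+* F), α = semi g σ := by
  haveI : Nonempty (Fin n) := ⟨⟨0, by omega⟩⟩
  haveI : Nontrivial (Fin n) := Fin.nontrivial_iff_two_le.2 hn
  have hex : ∀ i j (h : i ≠ j) (t : F), ∃ s, α (el (stdFlag i j h) t) = el (stdFlag i j h) s :=
    fun i j h t => eq_el (hα i j h ▸ Set.mem_image_of_mem α (el_mem _ t))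
  choose f₀ hf₀ using hex
  obtain ⟨z, hzv⟩ : ∃ z : Fin n, (z : ℕ) = 0 := ⟨⟨0, by omega⟩, rfl⟩
  have hne : ∀ i j (h : i ≠ j), f₀ i j h 1 ≠ 0 := fun i j h h0 => by
    have := hf₀ i j h 1
    rw [h0, el_zero] at this
    exact el_ne_one _ one_ne_zero (α.injective (this.trans (map_one α).symm))
  obtain ⟨d, hd1, hd⟩ : ∃ d : Fin n → Fˣ, d z = 1 ∧ ∀ j (h : z ≠ j), (d j : F) = f₀ z j h 1 :=
    ⟨fun j => if h : z = j then 1 else Units.mk0 (f₀ z j h 1) (hne z j h), by simp,
      fun j h => by simp [h]⟩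
  let D : GL (Fin n) F := Units.map (diagonalRingHom (Fin n) F).toMonoidHom (MulEquiv.piUnits.symm d)
  suffices ∃ σ : F ≃+* F, semi D 1 * α = semi 1 σ by
    obtain ⟨σ, hσ⟩ := this
    refine ⟨D⁻¹ * Matrix.GeneralLinearGroup.map (1 : F ≃+* F).toRingHom 1, 1 * σ, ?_⟩
    rw [← semi_mul, ← hσ, ← mul_assoc, semi_mul,
      show Matrix.GeneralLinearGroup.map (1 : F ≃+* F).toRingHom D = D from Units.ext rfl,
      inv_mul_cancel, one_mul, semi_one, one_mul]
  -- the parameters after normalising
  obtain ⟨f, hfdef⟩ : ∃ f : ∀ i j : Fin n, i ≠ j → F → F,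
      ∀ i j h t, f i j h t = (d i : F) * f₀ i j h t * ((d j)⁻¹ : Fˣ) := ⟨_, fun _ _ _ _ => rfl⟩
  have hf : ∀ i j h t, (semi D 1 * α) (el (stdFlag i j h) t) = el (stdFlag i j h) (f i j h t) :=
    fun i j h t => by rw [MulAut.mul_apply, hf₀, hfdef]; exact semi_diag_el d h _
  generalize semi D 1 * α = γ at hf ⊢
  have hinj : ∀ i j h, Function.Injective (f i j h) := fun i j h s t e =>
    el_injective _ (γ.injective (by rw [hf, hf, e]))
  have hadd : ∀ i j h s t, f i j h (s + t) = f i j h s + f i j h t := fun i j h s t =>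
    el_injective (stdFlag i j h) (by rw [← hf, el_add, map_mul, hf, hf, el_add])
  have hz1 : ∀ j h, f z j h 1 = 1 := fun j h => by
    rw [hfdef, hd1, ← hd j h]
    simp
  obtain ⟨φ, hmul, heq⟩ : ∃ φ : F → F, (∀ x y, φ (x * y) = φ x * φ y) ∧
      ∀ i j h, f i j h = φ := by
    rcases Nat.lt_or_ge n 3 with h2 | h3
    · obtain rfl : n = 2 := by omega
      obtain rfl : z = 0 := Fin.ext hzv
      exact fix_two γ f hf hinj hadd (hz1 1 zero_ne_one)
    · exact fix_three h3 γ f hf hadd z hz1
  obtain ⟨o, ho⟩ : ∃ o, z ≠ o := (exists_ne z).imp fun _ h => h.symm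
  have hadd' : ∀ x y, φ (x + y) = φ x + φ y := heq z o ho ▸ hadd z o ho
  have hbij : Function.Bijective φ := heq z o ho ▸ Finite.injective_iff_bijective.1 (hinj z o ho)
  let σ : F ≃+* F :=
    { Equiv.ofBijective φ hbij with map_mul' := hmul, map_add' := hadd' }
  refine ⟨σ, ?_⟩
  have key : ∀ A : Matrix.SpecialLinearGroup (Fin n) F,
      γ (QuotientGroup.mk A) = semi 1 σ (QuotientGroup.mk A) := by
    intro A
    refine Classical.SL_transvection_induction
      (fun A => γ (QuotientGroup.mk A) = semi 1 σ (QuotientGroup.mk A)) (fun i j h c => ?_)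
      (fun A B hA hB => by rw [QuotientGroup.mk_mul, map_mul, map_mul, hA, hB]) A
    have hs : semiFlag (1 : GL (Fin n) F) σ (stdFlag i j h) = stdFlag i j h := by
      simp only [semiFlag, stdFlag, inv_one, Units.val_one, one_mulVec, vecMul_one]
      congr 1 <;> funext a <;> simp [Pi.single_apply, apply_ite σ]
    rw [← el_stdFlag, hf, semi_el, hs, heq]
    rfl
  exact MulEquiv.ext fun x => QuotientGroup.induction_on x key

theorem semi_inv_eq (g : GL (Fin n) F) (σ : F ≃+* F) :
    ∃ (g' : GL (Fin n) F) (σ' : F ≃+* F), (semi g σ)⁻¹ = semi g' σ' := by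
  refine ⟨Matrix.GeneralLinearGroup.map σ.symm.toRingHom g⁻¹, σ⁻¹, ?_⟩
  refine inv_eq_of_mul_eq_one_right ?_
  rw [semi_mul, mul_inv_cancel]
  refine Eq.trans ?_ semi_one
  congr 1
  refine Units.ext (Matrix.ext fun i j => ?_)
  rw [Units.val_mul]
  have : ((Matrix.GeneralLinearGroup.map σ.toRingHom
      (Matrix.GeneralLinearGroup.map σ.symm.toRingHom g⁻¹) : GL (Fin n) F) :
      Matrix (Fin n) (Fin n) F) = ((g⁻¹ : GL (Fin n) F) : Matrix (Fin n) (Fin n) F) :=
    Matrix.ext fun a b => σ.apply_symm_apply _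
  rw [this, Units.mul_inv]
  rfl

/-- The automorphisms of `PSL_n(F)`. -/
theorem aut_eq (hn : 2 ≤ n) (β : MulAut (ProjectiveSpecialLinearGroup (Fin n) F)) :
    ∃ (g : GL (Fin n) F) (σ : F ≃+* F), β = semi g σ ∨ 3 ≤ n ∧ β = semi g σ * it := by
  obtain ⟨e, he, g, hg⟩ := exists_fix_groups hn β⁻¹
  obtain ⟨h, σ, hσ⟩ := exists_semi_of_fix hn _ hg
  obtain ⟨k, τ, hk⟩ := semi_inv_eq h σ
  refine ⟨k * Matrix.GeneralLinearGroup.map τ.toRingHom g, τ * 1, ?_⟩
  have hb : β = (semi k τ * semi g 1) * e := by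
    rw [← hk, ← hσ]; group
  rw [semi_mul] at hb
  rcases he with rfl | ⟨h3, rfl⟩
  · exact Or.inl (hb.trans (mul_one _))
  · exact Or.inr ⟨h3, hb⟩

end Cfsg.Agent.PSLMon
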