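import Mathlib
import Cfsg.Prelude.Def_KGroupFacts
import Cfsg.Agent.Lib.Classical.PSLMon

/-!
The outer automorphism group of `PSL_n(F)` for `n ≥ 3`: diagonal, field and graph parts.
-/

set_option autoImplicit false

open Matrix

namespace Cfsg.Agent.PSLOut

open TransvGroup PSLAut PSLMon

variable {F : Type*} [Field F] {n : ℕ}

/-- The diagonal matrix of a family of units. -/
def diagGL (d : Fin n → Fˣ) : GL (Fin n) F :=
  Units.map (diagonalRingHom (Fin n) F).toMonoidHom (MulEquiv.piUnits.symm d)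

theorem eq_one_of_semi_eq_one (h2 : 2 ≤ n) {g : GL (Fin n) F} {σ : F ≃+* F} (h : semi g σ = 1) :
    σ = 1 ∧ ∃ c : Fˣ, g = GeneralLinearGroup.scalar (Fin n) c := by
  haveI : Nonempty (Fin n) := ⟨⟨0, by omega⟩⟩
  haveI : Nontrivial (Fin n) := Fin.nontrivial_iff_two_le.2 h2
  have hdiag : ∀ i, ∃ a : Fˣ, (g : Matrix (Fin n) (Fin n) F) *ᵥ Pi.single i 1 = (a : F) • Pi.single i 1 := by
    intro i
    obtain ⟨j, hj⟩ := exists_ne i
    have e := semi_image g σ (stdFlag i j hj.symm)
    rw [h, MulAut.coe_one, Set.image_id] at e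
    obtain ⟨c, hc, hv⟩ := (rootSet_eq_iff.1 e).1
    refine ⟨Units.mk0 c hc, ?_⟩
    rw [Units.val_mk0, ← show (g : Matrix (Fin n) (Fin n) F) *ᵥ (σ ∘ Pi.single i 1) =
      c • Pi.single i 1 from hv]
    congr 1; funext k; simp [Pi.single_apply, apply_ite σ]
  choose a ha using hdiag
  have hg : g = diagGL a := Units.ext <| Matrix.ext fun k i => by
    have := congrFun (ha i) k
    rw [mulVec_single_one] at this
    rw [show (g : Matrix (Fin n) (Fin n) F) k i = _ from this]
    show _ = diagonal (fun i => (a i : F)) k i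
    rcases eq_or_ne k i with rfl | hki <;> simp [*]
  have key : ∀ i j, i ≠ j → ∀ t : F, (a i : F) * σ t * ((a j)⁻¹ : Fˣ) = t := by
    intro i j hij t
    have hs : semiFlag (1 : GL (Fin n) F) σ (stdFlag i j hij) = stdFlag i j hij := by
      simp only [semiFlag, stdFlag, inv_one, Units.val_one, one_mulVec, vecMul_one]
      congr 1 <;> funext a <;> simp [Pi.single_apply, apply_ite σ]
    have e : semi g σ = semi g 1 * semi 1 σ := by rw [semi_mul, one_mul, map_one, mul_one]
    have e' : semi g σ (el (stdFlag i j hij) t) = el (stdFlag i j hij) t := by rw [h]; rfl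
    rw [e, MulAut.mul_apply, semi_el 1 σ, hs, hg] at e'
    exact el_injective _ ((semi_diag_el a hij _).symm.trans e')
  have ha' : ∀ i j, a i = a j := fun i j => by
    rcases eq_or_ne i j with rfl | hij
    · rfl
    · have := key i j hij 1
      rw [map_one, mul_one, ← Units.val_mul] at this
      exact mul_inv_eq_one.1 (Units.ext this)
  obtain ⟨i, j, hij⟩ := exists_pair_ne (Fin n)
  refine ⟨RingEquiv.ext fun t => ?_, a i, ?_⟩
  · have := key i j hij t
    rw [ha' i j, mul_comm (a j : F), mul_assoc, ← Units.val_mul, mul_inv_cancel, Units.val_one,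
      mul_one] at this
    exact this
  · rw [hg]
    refine Units.ext ?_
    rw [GeneralLinearGroup.coe_scalar, scalar_apply]
    exact congrArg diagonal (funext fun k => congrArg Units.val (ha' k i))

theorem semi_ne_it (h3 : 3 ≤ n) (g : GL (Fin n) F) (σ : F ≃+* F) : semi g σ ≠ it := by
  intro h
  haveI : Nonempty (Fin n) := ⟨⟨0, by omega⟩⟩
  have key : ∀ j, (hj : (⟨0, by omega⟩ : Fin n) ≠ j) →
      Par ((g : Matrix (Fin n) (Fin n) F) *ᵥ (σ ∘ Pi.single ⟨0, by omega⟩ 1)) (Pi.single j 1) := by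
    intro j hj
    have e : rootSet (semiFlag g σ (stdFlag _ j hj)) = rootSet (dualFlag (stdFlag _ j hj)) := by
      rw [← semi_image, ← it_image, h]
    exact (rootSet_eq_iff.1 e).1
  have h12 := (key ⟨1, by omega⟩ (by simp [Fin.ext_iff])).symm.trans
    (key ⟨2, by omega⟩ (by simp [Fin.ext_iff]))
  exact absurd (par_single h12) (by simp [Fin.ext_iff])

theorem map_itSL (σ : F ≃+* F) (s : Matrix.SpecialLinearGroup (Fin n) F) :
    fieldSL σ (itSL s) = itSL (fieldSL σ s) := by
  have h : (fieldSL σ (s⁻¹) : Matrix.SpecialLinearGroup (Fin n) F) = (fieldSL σ s)⁻¹ := map_inv _ _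
  refine Subtype.ext ?_
  show ((s⁻¹ : Matrix.SpecialLinearGroup (Fin n) F) : Matrix (Fin n) (Fin n) F)ᵀ.map σ =
    (((fieldSL σ s)⁻¹ : Matrix.SpecialLinearGroup (Fin n) F) : Matrix (Fin n) (Fin n) F)ᵀ
  rw [← h]
  rfl

/-- The contragredient of an invertible matrix. -/
def ct (g : GL (Fin n) F) : GL (Fin n) F :=
  ⟨((g⁻¹ : GL (Fin n) F) : Matrix (Fin n) (Fin n) F)ᵀ, (g : Matrix (Fin n) (Fin n) F)ᵀ,
    by rw [← transpose_mul, Units.mul_inv, transpose_one],
    by rw [← transpose_mul, Units.inv_mul, transpose_one]⟩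

theorem it_semi (g : GL (Fin n) F) (σ : F ≃+* F) :
    (it : MulAut (ProjectiveSpecialLinearGroup (Fin n) F)) * semi g σ = semi (ct g) σ * it := by
  refine MulEquiv.ext fun x => ?_
  obtain ⟨s, rfl⟩ := QuotientGroup.mk_surjective x
  simp only [MulAut.mul_apply, semi, it, descend_mk, MulEquiv.trans_apply, map_itSL]
  congr 1
  have h : ((conjSL g (fieldSL σ s))⁻¹ : Matrix.SpecialLinearGroup (Fin n) F) =
    conjSL g (fieldSL σ s)⁻¹ := (map_inv _ _).symm
  refine Subtype.ext ?_
  show (((conjSL g (fieldSL σ s))⁻¹ : Matrix.SpecialLinearGroup (Fin n) F) :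
    Matrix (Fin n) (Fin n) F)ᵀ = ((g⁻¹ : GL (Fin n) F) : Matrix (Fin n) (Fin n) F)ᵀ *
      (((fieldSL σ s)⁻¹ : Matrix.SpecialLinearGroup (Fin n) F) : Matrix (Fin n) (Fin n) F)ᵀ *
      (g : Matrix (Fin n) (Fin n) F)ᵀ
  rw [h]
  show ((g : Matrix (Fin n) (Fin n) F) * _ * ((g⁻¹ : GL (Fin n) F) : Matrix (Fin n) (Fin n) F))ᵀ = _
  rw [transpose_mul, transpose_mul, mul_assoc]

theorem exists_it_semi (g : GL (Fin n) F) (σ : F ≃+* F) :
    ∃ g' : GL (Fin n) F, it * semi g σ = semi g' σ * it := ⟨ct g, it_semi g σ⟩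

variable (F n) in
/-- The group of order two generated by inverse transpose. -/
noncomputable def pw : Multiplicative (ZMod 2) →* MulAut (ProjectiveSpecialLinearGroup (Fin n) F) where
  toFun ε := if ε = 1 then 1 else it
  map_one' := if_pos rfl
  map_mul' a b := by
    have cases2 : ∀ x : Multiplicative (ZMod 2), x = 1 ∨ x = Multiplicative.ofAdd 1 := by decide
    have hne : (Multiplicative.ofAdd 1 : Multiplicative (ZMod 2)) ≠ 1 := by decide
    have hsq : (Multiplicative.ofAdd 1 : Multiplicative (ZMod 2)) * Multiplicative.ofAdd 1 = 1 := by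
      decide
    rcases cases2 a with rfl | rfl <;> rcases cases2 b with rfl | rfl
    · simp
    · simp
    · simp
    · rw [if_neg hne, hsq, if_pos rfl, it_mul_it]

theorem exists_pw_semi (ε : Multiplicative (ZMod 2)) (g : GL (Fin n) F) (σ : F ≃+* F) :
    ∃ g' : GL (Fin n) F, pw F n ε * semi g σ = semi g' σ * pw F n ε := by
  by_cases h : ε = 1
  · exact ⟨g, by simp [h]⟩
  · simp only [pw, MonoidHom.coe_mk, OneHom.coe_mk, if_neg h]
    exact exists_it_semi g σ

theorem rep_unique (h3 : 3 ≤ n) {g h : GL (Fin n) F} {σ τ : F ≃+* F}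
    {ε δ : Multiplicative (ZMod 2)} (he : semi g σ * pw F n ε = semi h τ * pw F n δ) :
    σ = τ ∧ ε = δ := by
  have cases2 : ∀ x : Multiplicative (ZMod 2), x = 1 ∨ x = Multiplicative.ofAdd 1 := by decide
  have hne : (Multiplicative.ofAdd 1 : Multiplicative (ZMod 2)) ≠ 1 := by decide
  have hinv : ∀ (g : GL (Fin n) F) (σ : F ≃+* F), ∃ g', (semi g σ)⁻¹ = semi g' σ⁻¹ := by
    intro g σ
    refine ⟨GeneralLinearGroup.map σ.symm.toRingHom g⁻¹, inv_eq_of_mul_eq_one_left ?_⟩
    rw [semi_mul, inv_mul_cancel, show (σ⁻¹ : F ≃+* F).toRingHom = σ.symm.toRingHom from rfl,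
      ← map_mul, inv_mul_cancel, map_one, semi_one]
  obtain ⟨h', hh⟩ := hinv h τ
  have he' : semi (h' * GeneralLinearGroup.map (τ⁻¹ : F ≃+* F).toRingHom g) (τ⁻¹ * σ) =
      pw F n δ * (pw F n ε)⁻¹ := by
    rw [← semi_mul, ← hh, eq_mul_inv_iff_mul_eq, mul_assoc, inv_mul_eq_iff_eq_mul]
    exact he
  have hεδ : ε = δ := by
    by_contra hne'
    have : δ * ε⁻¹ = Multiplicative.ofAdd 1 :=
      (cases2 _).resolve_left fun e => hne' (mul_inv_eq_one.1 e).symm
    rw [← map_inv, ← map_mul, this] at he'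
    refine semi_ne_it h3 _ _ (he'.trans ?_)
    simp only [pw, MonoidHom.coe_mk, OneHom.coe_mk, if_neg hne]
  refine ⟨?_, hεδ⟩
  rw [hεδ, mul_inv_cancel] at he'
  exact (inv_mul_eq_one.1 (eq_one_of_semi_eq_one (by omega) he').1).symm

variable [Finite F]

theorem exists_rep (h3 : 3 ≤ n) (β : MulAut (ProjectiveSpecialLinearGroup (Fin n) F)) :
    ∃ p : (F ≃+* F) × Multiplicative (ZMod 2), ∃ g, β = semi g p.1 * pw F n p.2 := by
  obtain ⟨g, σ, rfl | ⟨-, rfl⟩⟩ := aut_eq (by omega) β
  · exact ⟨⟨σ, 1⟩, g, by rw [map_one, mul_one]⟩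
  · refine ⟨⟨σ, Multiplicative.ofAdd 1⟩, g, congrArg _ ?_⟩
    simp only [pw, MonoidHom.coe_mk, OneHom.coe_mk]
    exact (if_neg (by decide)).symm

theorem rep_choose (h3 : 3 ≤ n) {g : GL (Fin n) F} {σ : F ≃+* F} {ε : Multiplicative (ZMod 2)}
    {β : MulAut (ProjectiveSpecialLinearGroup (Fin n) F)} (h : β = semi g σ * pw F n ε) :
    (exists_rep h3 β).choose = (σ, ε) := by
  obtain ⟨g', hg'⟩ := (exists_rep h3 β).choose_spec
  obtain ⟨h1, h2⟩ := rep_unique h3 (hg'.symm.trans h)
  exact Prod.ext h1 h2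

/-- The field and graph part of an automorphism. -/
noncomputable def part (h3 : 3 ≤ n) :
    MulAut (ProjectiveSpecialLinearGroup (Fin n) F) →* (F ≃+* F) × Multiplicative (ZMod 2) where
  toFun β := (exists_rep h3 β).choose
  map_one' := rep_choose h3 (g := 1) (by rw [semi_one, map_one, mul_one])
  map_mul' a b := by
    obtain ⟨⟨σ, ε⟩, g, ha⟩ := exists_rep h3 a
    obtain ⟨⟨τ, δ⟩, h, hb⟩ := exists_rep h3 b
    obtain ⟨h', hh⟩ := exists_pw_semi ε h τ
    rw [rep_choose h3 ha, rep_choose h3 hb]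
    refine rep_choose h3 (g := g * GeneralLinearGroup.map σ.toRingHom h') ?_
    rw [ha, hb, ← semi_mul, map_mul, mul_assoc, ← mul_assoc (pw F n ε), hh]
    simp only [mul_assoc]

theorem part_eq (h3 : 3 ≤ n) {g : GL (Fin n) F} {σ : F ≃+* F} {ε : Multiplicative (ZMod 2)}
    {β : MulAut (ProjectiveSpecialLinearGroup (Fin n) F)} (h : β = semi g σ * pw F n ε) :
    part h3 β = (σ, ε) := rep_choose h3 h

theorem inn_le_ker (h3 : 3 ≤ n) :
    Cfsg.Inn (ProjectiveSpecialLinearGroup (Fin n) F) ≤ (part (F := F) h3).ker := by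
  rintro _ ⟨x, rfl⟩
  obtain ⟨G, rfl⟩ := QuotientGroup.mk_surjective x
  exact part_eq h3 (ε := 1) (by rw [map_one, mul_one]; exact conj_eq_semi G)

variable (F n) in
/-- The diagonal automorphisms in the outer automorphism group. -/
noncomputable def outDiag : GL (Fin n) F →* Cfsg.Out (ProjectiveSpecialLinearGroup (Fin n) F) :=
  (QuotientGroup.mk' _).comp
    { toFun := fun g => semi g 1
      map_one' := semi_one
      map_mul' := fun g h => by
        rw [semi_mul, one_mul,
          show GeneralLinearGroup.map (1 : F ≃+* F).toRingHom h = h from Units.ext rfl] }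

theorem outDiag_apply (g : GL (Fin n) F) :
    outDiag F n g = QuotientGroup.mk (semi g 1) := rfl

theorem ker_outDiag (h2 : 2 ≤ n) :
    (outDiag F n).ker = (powMonoidHom n : Fˣ →* Fˣ).range.comap GeneralLinearGroup.det := by
  ext g
  rw [MonoidHom.mem_ker, outDiag_apply, QuotientGroup.eq_one_iff, Subgroup.mem_comap]
  constructor
  · rintro ⟨x, hx⟩
    obtain ⟨G, rfl⟩ := QuotientGroup.mk_surjective x
    rw [conj_eq_semi] at hx
    have hq : semi ((Matrix.SpecialLinearGroup.toGL G)⁻¹ * g) 1 = 1 := by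
      have e : semi ((Matrix.SpecialLinearGroup.toGL G)⁻¹) 1 * semi g 1 = 1 := by
        rw [← hx, semi_mul, one_mul, show GeneralLinearGroup.map (1 : F ≃+* F).toRingHom
          (Matrix.SpecialLinearGroup.toGL G) = Matrix.SpecialLinearGroup.toGL G from Units.ext rfl,
          inv_mul_cancel, semi_one]
      rwa [semi_mul, one_mul,
        show GeneralLinearGroup.map (1 : F ≃+* F).toRingHom g = g from Units.ext rfl] at e
    obtain ⟨-, c, hc⟩ := eq_one_of_semi_eq_one h2 hq
    refine ⟨c, ?_⟩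
    have := congrArg GeneralLinearGroup.det hc
    rw [map_mul, map_inv, Matrix.SpecialLinearGroup.coeToGL_det, inv_one, one_mul] at this
    rw [this, powMonoidHom_apply]
    refine Units.ext ?_
    show (c : F) ^ n = (GeneralLinearGroup.scalar (Fin n) c : Matrix (Fin n) (Fin n) F).det
    rw [GeneralLinearGroup.coe_scalar, scalar_apply, det_diagonal, Finset.prod_const,
      Finset.card_univ, Fintype.card_fin]
  · rintro ⟨c, hc⟩
    have hdet : (((GeneralLinearGroup.scalar (Fin n) c)⁻¹ * g : GL (Fin n) F) :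
        Matrix (Fin n) (Fin n) F).det = 1 := by
      have e : GeneralLinearGroup.det ((GeneralLinearGroup.scalar (Fin n) c)⁻¹ * g) = 1 := by
        rw [map_mul, map_inv, inv_mul_eq_one, ← hc, powMonoidHom_apply]
        refine Units.ext ?_
        show (GeneralLinearGroup.scalar (Fin n) c : Matrix (Fin n) (Fin n) F).det = (c : F) ^ n
        rw [GeneralLinearGroup.coe_scalar, scalar_apply, det_diagonal, Finset.prod_const,
          Finset.card_univ, Fintype.card_fin]
      exact congrArg Units.val e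
    let G : Matrix.SpecialLinearGroup (Fin n) F := ⟨_, hdet⟩
    refine ⟨QuotientGroup.mk G, (conj_eq_semi G).trans ?_⟩
    refine semi_ext _ g 1 fun s s' hs' => ?_
    refine semi_mk _ _ _ _ ?_
    rw [hs', show Matrix.SpecialLinearGroup.toGL G =
      (GeneralLinearGroup.scalar (Fin n) c)⁻¹ * g from Units.ext rfl, _root_.mul_inv_rev, inv_inv,
      Units.val_mul, Units.val_mul, ← map_inv, GeneralLinearGroup.coe_scalar,
      GeneralLinearGroup.coe_scalar]
    have hcomm : ∀ (r : F) (M : Matrix (Fin n) (Fin n) F), scalar (Fin n) r * M = r • M :=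
      fun r M => by rw [scalar_apply, ← smul_one_eq_diagonal, smul_mul_assoc, one_mul]
    have hcomm' : ∀ (r : F) (M : Matrix (Fin n) (Fin n) F), M * scalar (Fin n) r = r • M :=
      fun r M => by rw [scalar_apply, ← smul_one_eq_diagonal, mul_smul_comm, mul_one]
    simp only [hcomm, hcomm', mul_smul_comm, smul_mul_assoc, smul_smul]
    simp [mul_assoc]

theorem det_diagGL (d : Fin n → Fˣ) :
    GeneralLinearGroup.det (diagGL d) = ∏ i, d i := by
  refine Units.ext ?_
  show (diagonal fun i => (d i : F)).det = _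
  rw [det_diagonal, Units.coe_prod]

/-- The structure of the outer automorphism group. -/
theorem out_structure [Fintype F] {p f : ℕ} [Fact p.Prime] (hf : 1 ≤ f)
    (hF : Fintype.card F = p ^ f) (hn : 3 ≤ n) :
    ∃ φ : Cfsg.Out (ProjectiveSpecialLinearGroup (Fin n) F) →* Multiplicative (ZMod f × ZMod 2),
      Function.Surjective φ ∧ IsCyclic φ.ker ∧ Nat.card φ.ker = Nat.gcd n (p ^ f - 1) := by
  obtain ⟨p', hp'⟩ := CharP.exists F
  obtain ⟨m, hpp, hm⟩ := FiniteField.card F p'
  obtain rfl : p' = p := (Nat.prime_eq_prime_of_dvd_pow hpp Fact.out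
    (hm.symm.trans hF ▸ dvd_pow_self p' m.ne_zero))
  letI := ZMod.algebra F p'
  have hfr : Module.finrank (ZMod p') F = f := by
    have e := Module.card_eq_pow_finrank (K := ZMod p') (V := F)
    rw [hF, ZMod.card] at e
    exact (Nat.pow_right_injective hpp.two_le e).symm
  let r : (F ≃+* F) ≃* (F ≃ₐ[ZMod p'] F) :=
    { toFun := fun φ => AlgEquiv.ofRingEquiv (f := φ) fun x =>
        RingHom.congr_fun (Subsingleton.elim ((φ : F →+* F).comp (algebraMap (ZMod p') F)) (algebraMap (ZMod p') F)) x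
      invFun := fun ψ => ψ.toRingEquiv
      left_inv := fun φ => RingEquiv.ext fun _ => rfl
      right_inv := fun ψ => AlgEquiv.ext fun _ => rfl
      map_mul' := fun _ _ => AlgEquiv.ext fun _ => rfl }
  have hcyc : IsCyclic (F ≃ₐ[ZMod p'] F) := inferInstance
  have hcard : Nat.card (F ≃ₐ[ZMod p'] F) = f := by rw [IsGalois.card_aut_eq_finrank, hfr]
  let e : (F ≃+* F) ≃* Multiplicative (ZMod f) := r.trans (hcard ▸ (zmodCyclicMulEquiv hcyc).symm)
  let e2 : (F ≃+* F) × Multiplicative (ZMod 2) ≃* Multiplicative (ZMod f × ZMod 2) :=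
    (e.prodCongr (MulEquiv.refl _)).trans (MulEquiv.prodMultiplicative _ _).symm
  let Φ : Cfsg.Out (ProjectiveSpecialLinearGroup (Fin n) F) →* (F ≃+* F) × Multiplicative (ZMod 2) :=
    QuotientGroup.lift _ (part hn) (inn_le_ker hn)
  refine ⟨e2.toMonoidHom.comp Φ, e2.surjective.comp fun q =>
    ⟨QuotientGroup.mk (semi 1 q.1 * pw F n q.2), part_eq hn rfl⟩, ?_⟩
  let z : Fin n := ⟨0, by omega⟩
  let dz : Fˣ →* GL (Fin n) F :=
    { toFun := fun u => diagGL (Function.update 1 z u)
      map_one' := by rw [Function.update_eq_self_iff.2 (by rfl)]; exact map_one _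
      map_mul' := fun u v => by
        rw [diagGL, diagGL, diagGL, ← map_mul, ← map_mul]
        congr 2
        rw [← Function.update_mul, one_mul] }
  have hdet : ∀ u, GeneralLinearGroup.det (dz u) = u := fun u => by
    show GeneralLinearGroup.det (diagGL (Function.update 1 z u)) = u
    rw [det_diagGL, Finset.prod_update_of_mem (Finset.mem_univ z)]
    simp
  let D := (outDiag F n).comp dz
  have hk : (e2.toMonoidHom.comp Φ).ker = D.range := by
    ext x
    induction x using QuotientGroup.induction_on with | H α =>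
    rw [MonoidHom.mem_ker, MonoidHom.comp_apply, MulEquiv.coe_toMonoidHom, MulEquiv.map_eq_one_iff]
    show part hn α = 1 ↔ _
    constructor
    · intro h
      obtain ⟨q, g, hα⟩ := exists_rep hn α
      rw [part_eq hn hα] at h
      refine ⟨GeneralLinearGroup.det g, ?_⟩
      rw [hα, (Prod.mk.inj h).1, (Prod.mk.inj h).2, map_one, mul_one]
      show outDiag F n _ = outDiag F n g
      rw [← mul_inv_eq_one, ← map_inv, ← map_mul, ← MonoidHom.mem_ker, ker_outDiag (by omega)]
      refine ⟨1, ?_⟩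
      rw [map_one, map_mul, map_inv, hdet, mul_inv_cancel]
    · rintro ⟨u, hu⟩
      have e' : Φ (QuotientGroup.mk α) = Φ (QuotientGroup.mk (semi (dz u) 1)) := congrArg Φ hu.symm
      exact (show part hn α = part hn (semi (dz u) 1) from e').trans
        (part_eq hn (ε := 1) (by rw [map_one, mul_one]))
  rw [hk, ← hF]
  refine ⟨isCyclic_of_surjective _ D.rangeRestrict_surjective, ?_⟩
  rw [← Subgroup.index_ker, ← MonoidHom.comap_ker, ker_outDiag (by omega), Subgroup.comap_comap,
    show (GeneralLinearGroup.det).comp dz = MonoidHom.id Fˣ from MonoidHom.ext hdet,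
    Subgroup.comap_id]
  have h1 := (powMonoidHom n : Fˣ →* Fˣ).range.card_mul_index
  have h2 := (powMonoidHom n : Fˣ →* Fˣ).ker.card_mul_index
  rw [Subgroup.index_ker, IsCyclic.card_powMonoidHom_ker] at h2
  rw [← h2, mul_comm (Nat.gcd _ _)] at h1
  rw [Nat.eq_of_mul_eq_mul_left Nat.card_pos h1, Classical.card_units_eq, Nat.gcd_comm]

end Cfsg.Agent.PSLOut
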