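import Mathlib
import Cfsg.Prelude.Def_LieTypeDatum
import Cfsg.Agent.Lib.Classical.PSLOut
import Cfsg.Agent.Lib.Classical.OrthBasis

/-!
Lang's theorem for `GL_n` and field or graph-field automorphisms of `PSL_n(F)` of prime order.
-/

set_option autoImplicit false

open Matrix

namespace Cfsg.Agent.PSLField

open TransvGroup PSLAut PSLMon PSLOut

variable {F : Type*} [Field F] {n : ℕ}

/-- A field automorphism on invertible matrices. -/
def gm (σ : F ≃+* F) : GL (Fin n) F →* GL (Fin n) F := GeneralLinearGroup.map σ.toRingHom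

theorem gm_coe (σ : F ≃+* F) (g : GL (Fin n) F) :
    (gm σ g : Matrix (Fin n) (Fin n) F) = (g : Matrix (Fin n) (Fin n) F).map σ := rfl

theorem gm_one (g : GL (Fin n) F) : gm (1 : F ≃+* F) g = g := Units.ext rfl

theorem gm_gm (σ τ : F ≃+* F) (g : GL (Fin n) F) : gm σ (gm τ g) = gm (σ * τ) g := Units.ext rfl

theorem semi_mul' (g h : GL (Fin n) F) (σ τ : F ≃+* F) :
    semi g σ * semi h τ = semi (g * gm σ h) (σ * τ) := semi_mul g h σ τ

variable (F n) in
/-- Inner-diagonal automorphisms as a homomorphism. -/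
noncomputable def dg : GL (Fin n) F →* MulAut (ProjectiveSpecialLinearGroup (Fin n) F) where
  toFun g := semi g 1
  map_one' := semi_one
  map_mul' g h := by rw [semi_mul', one_mul, gm_one]

theorem dg_apply (g : GL (Fin n) F) : dg F n g = semi g 1 := rfl

theorem isInnerDiag (g : GL (Fin n) F) : Cfsg.IsInnerDiagonalAutPSL (dg F n g) :=
  ⟨g, fun s s' h => semi_mk g 1 s s' (by rw [h]; rfl)⟩

theorem eq_dg {β : MulAut (ProjectiveSpecialLinearGroup (Fin n) F)}
    (h : Cfsg.IsInnerDiagonalAutPSL β) : ∃ g, β = dg F n g := by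
  obtain ⟨g, hg⟩ := h
  exact ⟨g, semi_ext β g 1 fun s s' e => hg s s' (by rw [e]; rfl)⟩

theorem inndiag_eq : Cfsg.inndiagPSL n F = (dg F n).range := by
  refine le_antisymm ((Subgroup.closure_le _).2 fun β hβ => ?_) ?_
  · obtain ⟨g, rfl⟩ := eq_dg hβ
    exact ⟨g, rfl⟩
  · rintro _ ⟨g, rfl⟩
    exact Subgroup.subset_closure (isInnerDiag g)

theorem std_eq {σ : F ≃+* F} {β : MulAut (ProjectiveSpecialLinearGroup (Fin n) F)}
    (h : Cfsg.IsStdFieldAutPSL σ β) : β = semi 1 σ :=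
  semi_ext β 1 σ fun s s' e => h s s' (by rw [e]; simp)

theorem it_eq {β : MulAut (ProjectiveSpecialLinearGroup (Fin n) F)}
    (h : Cfsg.IsInverseTransposeAutPSL β) : β = it := by
  refine MulEquiv.ext fun x => ?_
  obtain ⟨s, rfl⟩ := QuotientGroup.mk_surjective x
  exact (h s (s⁻¹).transpose rfl).trans (it_mk s (s⁻¹).transpose rfl).symm

theorem dg_conj (h g : GL (Fin n) F) (σ : F ≃+* F) :
    dg F n h * semi g σ * (dg F n h)⁻¹ = semi (h * g * gm σ h⁻¹) σ := by
  rw [← map_inv, dg_apply, dg_apply, semi_mul', gm_one, one_mul, semi_mul', mul_one]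

theorem semi_inv' (g : GL (Fin n) F) (σ : F ≃+* F) :
    (semi g σ)⁻¹ = semi (gm σ⁻¹ g⁻¹) σ⁻¹ := by
  refine inv_eq_of_mul_eq_one_left ?_
  rw [semi_mul', ← map_mul, inv_mul_cancel, map_one, inv_mul_cancel, semi_one]

theorem dg_scalar (c : Fˣ) : dg F n (GeneralLinearGroup.scalar (Fin n) c) = 1 := by
  refine (semi_ext _ _ _ fun s s' e => ?_).symm
  rw [MulAut.one_apply]
  congr 1
  refine Subtype.ext ?_
  rw [e, ← map_inv, GeneralLinearGroup.coe_scalar, GeneralLinearGroup.coe_scalar]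
  have h1 : ((1 : F ≃+* F) : F → F) = id := rfl
  rw [h1, Matrix.map_id, scalar_apply, scalar_apply, ← smul_one_eq_diagonal, ← smul_one_eq_diagonal]
  simp [smul_smul]

theorem semi_eq_iff (h2 : 2 ≤ n) {g h : GL (Fin n) F} {σ τ : F ≃+* F} :
    semi g σ = semi h τ ↔ σ = τ ∧ ∃ c : Fˣ, h = GeneralLinearGroup.scalar (Fin n) c * g := by
  constructor
  · intro e
    have e' : semi g σ * (semi h τ)⁻¹ = 1 := by rw [e, mul_inv_cancel]
    rw [semi_inv', semi_mul'] at e'
    obtain ⟨hσ, c, hc⟩ := eq_one_of_semi_eq_one h2 e'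
    have hστ : σ = τ := mul_inv_eq_one.1 hσ
    subst hστ
    refine ⟨rfl, c⁻¹, ?_⟩
    rw [gm_gm, mul_inv_cancel, gm_one] at hc
    rw [map_inv, ← hc, _root_.mul_inv_rev, inv_inv, inv_mul_cancel_right]
  · rintro ⟨rfl, c, rfl⟩
    have e : semi (GeneralLinearGroup.scalar (Fin n) c * g) σ =
        semi (GeneralLinearGroup.scalar (Fin n) c) 1 * semi g σ := by
      rw [semi_mul', gm_one, one_mul]
    rw [e, ← dg_apply, dg_scalar, one_mul]

/-! ### Norms and fixed vectors of a semilinear map of finite order -/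

/-- The partial norms of a field automorphism. -/
def nrm (σ : F ≃+* F) (k : ℕ) (a : F) : F := ∏ i ∈ Finset.range k, (σ ^ i) a

theorem nrm_succ (σ : F ≃+* F) (k : ℕ) (a : F) : nrm σ (k + 1) a = a * σ (nrm σ k a) := by
  rw [nrm, nrm, Finset.prod_range_succ', map_prod, mul_comm]
  congr 1
  exact Finset.prod_congr rfl fun i _ => by rw [pow_succ']; rfl

theorem nrm_mul (σ : F ≃+* F) (k : ℕ) (a b : F) : nrm σ k (a * b) = nrm σ k a * nrm σ k b := by
  simp only [nrm, map_mul, Finset.prod_mul_distrib]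

theorem span_fixed {V : Type*} [AddCommGroup V] [Module F V] (σ : F ≃+* F) (T : V →+ V)
    (hT : ∀ (a : F) v, T (a • v) = σ a • T v) {r : ℕ} (hr : 0 < r) (hord : orderOf σ = r)
    (hTr : ∀ v, T^[r] v = v) : Submodule.span F {v | T v = v} = ⊤ := by
  by_contra hne
  obtain ⟨f, hf0, hf⟩ := Submodule.exists_dual_map_eq_bot_of_lt_top (lt_top_iff_ne_top.2 hne)
    inferInstance
  obtain ⟨v, hv⟩ : ∃ v, f v ≠ 0 := by
    by_contra hc; push Not at hc; exact hf0 (LinearMap.ext hc)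
  have hpow : ∀ (a : F), T (∑ i ∈ Finset.range r, (σ ^ i) a • T^[i] v) =
      ∑ i ∈ Finset.range r, (σ ^ i) a • T^[i] v := by
    intro a
    rw [map_sum]
    have h1 : ∀ i, T ((σ ^ i) a • T^[i] v) = (σ ^ (i + 1)) a • T^[i + 1] v := fun i => by
      rw [hT, Function.iterate_succ_apply', pow_succ']; rfl
    simp only [h1]
    have h2 := Finset.sum_range_succ' (fun i => (σ ^ i) a • T^[i] v) r
    rw [Finset.sum_range_succ, hTr, ← hord, pow_orderOf_eq_one, hord] at h2
    simp only [pow_zero, Function.iterate_zero_apply] at h2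
    exact (add_right_cancel h2).symm
  have hli : LinearIndependent F
      (fun i : Fin r => (((σ ^ (i : ℕ) : F ≃+* F).toRingHom.toMonoidHom : F →* F) : F → F)) :=
    (linearIndependent_monoidHom F F).comp _ fun i j e => Fin.ext <| by
      have := congrArg (fun φ : F →* F => (φ : F → F)) e
      exact pow_injOn_Iio_orderOf (by rw [hord]; exact i.2) (by rw [hord]; exact j.2)
        (RingEquiv.ext fun a => congrFun this a)
  have hz := Fintype.linearIndependent_iff.1 hli (fun i => f (T^[(i : ℕ)] v)) (funext fun a => by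
    rw [Finset.sum_apply, Pi.zero_apply]
    have hm : f (∑ i ∈ Finset.range r, (σ ^ i) a • T^[i] v) ∈
        (Submodule.span F {v | T v = v}).map f :=
      Submodule.mem_map_of_mem (Submodule.subset_span (hpow a))
    rw [hf, Submodule.mem_bot, map_sum, ← Fin.sum_univ_eq_sum_range] at hm
    rw [← hm]
    refine Finset.sum_congr rfl fun i _ => ?_
    rw [map_smul, smul_eq_mul, Pi.smul_apply, smul_eq_mul, mul_comm]
    rfl) ⟨0, hr⟩
  exact hv hz

/-- Hilbert's theorem 90. -/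
theorem exists_div {σ : F ≃+* F} {r : ℕ} (hr : 0 < r) (hord : orderOf σ = r) {u : F}
    (hu : nrm σ r u = 1) : ∃ x : F, x ≠ 0 ∧ u * σ x = x := by
  let T : F →+ F := (AddMonoidHom.mulLeft u).comp σ.toRingHom.toAddMonoidHom
  have hT : ∀ x, T x = u * σ x := fun x => rfl
  have hit : ∀ k x, T^[k] x = nrm σ k u * (σ ^ k) x := by
    intro k
    induction k with
    | zero => intro x; simp [nrm]
    | succ k ih =>
      intro x
      rw [Function.iterate_succ_apply', ih, hT, nrm_succ, map_mul, mul_assoc, pow_succ']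
      rfl
  have hs := span_fixed σ T (fun a v => by
    rw [hT, hT, smul_eq_mul, smul_eq_mul, map_mul]; ring) hr hord (fun v => by
    rw [hit, hu, one_mul, ← hord, pow_orderOf_eq_one]; rfl)
  by_contra hc
  push Not at hc
  have hle : Submodule.span F {v | T v = v} ≤ ⊥ := Submodule.span_le.2 fun v hv => by
    by_contra h0
    exact hc v (by simpa using h0) hv
  rw [hs] at hle
  exact one_ne_zero ((Submodule.mem_bot F).1 (hle (Submodule.mem_top : (1 : F) ∈ ⊤)))

/-- Norms onto the fixed field are surjective. -/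
theorem exists_nrm [Finite F] {σ : F ≃+* F} {r : ℕ} (hr : 0 < r) (hord : orderOf σ = r) {c : F}
    (hc : c ≠ 0) (hfix : σ c = c) : ∃ a : F, a ≠ 0 ∧ nrm σ r a = c := by
  let S : Fˣ →* Fˣ := Units.map σ.toRingHom.toMonoidHom
  let H : Fˣ →* Fˣ := MonoidHom.id Fˣ / S
  let N : Fˣ →* Fˣ :=
    { toFun := fun u => Units.mk0 (nrm σ r u) (Finset.prod_ne_zero_iff.2 fun i _ => (map_ne_zero (σ ^ i).toRingHom).2 u.ne_zero)
      map_one' := Units.ext (by simp [nrm])
      map_mul' := fun u v => Units.ext (nrm_mul σ r u v) }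
  have hN : ∀ u : Fˣ, ((N u : Fˣ) : F) = nrm σ r u := fun u => rfl
  have hS : ∀ u : Fˣ, σ (nrm σ r u) = nrm σ r u := fun u => by
    have h1 := nrm_succ σ r (u : F)
    rw [nrm, Finset.prod_range_succ, ← hord, pow_orderOf_eq_one, hord, mul_comm] at h1
    exact (mul_left_cancel₀ u.ne_zero h1).symm
  have hker : N.ker ≤ H.range := fun u hu => by
    have := congrArg (fun x : Fˣ => (x : F)) (MonoidHom.mem_ker.1 hu)
    obtain ⟨x, hx, hxu⟩ := exists_div hr hord (show nrm σ r u = 1 from this)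
    refine ⟨Units.mk0 x hx, Units.ext ?_⟩
    show x * ((S (Units.mk0 x hx))⁻¹ : Fˣ) = u
    rw [Units.val_inv_eq_inv_val, show ((S (Units.mk0 x hx) : Fˣ) : F) = σ x from rfl,
      mul_inv_eq_iff_eq_mul₀ (by simpa using hx), hxu]
  have hle : N.range ≤ H.ker := by
    rintro _ ⟨u, rfl⟩
    rw [MonoidHom.mem_ker]
    refine Units.ext ?_
    show (N u : F) * ((S (N u))⁻¹ : Fˣ) = 1
    rw [Units.val_inv_eq_inv_val, show ((S (N u) : Fˣ) : F) = σ (N u : F) from rfl, hN, hS]
    exact mul_inv_cancel₀ (Finset.prod_ne_zero_iff.2 fun i _ => (map_ne_zero (σ ^ i).toRingHom).2 u.ne_zero)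
  have h1 := Subgroup.card_mul_index N.ker
  have h2 := Subgroup.card_mul_index H.ker
  rw [Subgroup.index_ker] at h1 h2
  have h3 := Subgroup.card_le_of_le hker
  have hge : Nat.card H.ker ≤ Nat.card N.range := by
    have hp : 0 < Nat.card H.range := Nat.card_pos
    nlinarith [Nat.card_pos (α := N.range)]
  have hmem : Units.mk0 c hc ∈ H.ker := by
    rw [MonoidHom.mem_ker]
    refine Units.ext ?_
    show c * ((S (Units.mk0 c hc))⁻¹ : Fˣ) = 1
    rw [Units.val_inv_eq_inv_val, show ((S (Units.mk0 c hc) : Fˣ) : F) = σ c from rfl, hfix,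
      mul_inv_cancel₀ hc]
  rw [← Subgroup.eq_of_le_of_card_ge hle hge] at hmem
  obtain ⟨a, ha⟩ := hmem
  exact ⟨a, a.ne_zero, congrArg (fun x : Fˣ => (x : F)) ha⟩

/-- Lang's theorem for `GL_n`. -/
theorem exists_lang {σ : F ≃+* F} {r : ℕ} (hr : 0 < r) (hord : orderOf σ = r) (g : GL (Fin n) F)
    (hg : ∀ v : Fin n → F,
      (fun w => (g : Matrix (Fin n) (Fin n) F) *ᵥ (σ ∘ w))^[r] v = v) :
    ∃ B : GL (Fin n) F, g * gm σ B = B := by
  classical
  let T : (Fin n → F) →+ (Fin n → F) :=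
    { toFun := fun w => (g : Matrix (Fin n) (Fin n) F) *ᵥ (σ ∘ w)
      map_zero' := by rw [show σ ∘ (0 : Fin n → F) = 0 from funext fun i => map_zero σ, mulVec_zero]
      map_add' := fun v w => by
        rw [show σ ∘ (v + w) = σ ∘ v + σ ∘ w from funext fun i => map_add σ _ _, mulVec_add] }
  have hs := span_fixed σ T (fun a v => by
    show (g : Matrix (Fin n) (Fin n) F) *ᵥ (σ ∘ (a • v)) = _
    rw [show σ ∘ (a • v) = σ a • (σ ∘ v) from funext fun i => map_mul σ _ _, mulVec_smul]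
    rfl) hr hord hg
  obtain ⟨b, hb, hbs, hbi⟩ := exists_linearIndependent F {v | T v = v}
  rw [hs] at hbs
  let bas : Module.Basis b F (Fin n → F) := Module.Basis.mk hbi (by rw [Subtype.range_coe, hbs])
  let e : Fin n ≃ b := (Pi.basisFun F (Fin n)).indexEquiv bas
  let M : Matrix (Fin n) (Fin n) F := Matrix.of fun i j => (e j : Fin n → F) i
  have hM : IsUnit M := by
    rw [← Matrix.linearIndependent_cols_iff_isUnit]
    exact hbi.comp e e.injective
  refine ⟨hM.unit, Units.ext (Matrix.ext fun i j => ?_)⟩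
  rw [Units.val_mul, gm_coe, IsUnit.unit_spec, mul_apply']
  exact congrFun (hb (e j).2) i

theorem pow_semi (g : GL (Fin n) F) (σ : F ≃+* F) (k : ℕ) :
    ∃ N : GL (Fin n) F, semi g σ ^ k = semi N (σ ^ k) ∧
      ∀ v, (fun w => (g : Matrix (Fin n) (Fin n) F) *ᵥ (σ ∘ w))^[k] v =
        (N : Matrix (Fin n) (Fin n) F) *ᵥ ((σ ^ k : F ≃+* F) ∘ v) := by
  induction k with
  | zero => exact ⟨1, by rw [pow_zero, pow_zero, semi_one], fun v => by simp⟩
  | succ k ih =>
    obtain ⟨N, h1, h2⟩ := ih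
    refine ⟨g * gm σ N, by rw [pow_succ', h1, semi_mul', pow_succ'], fun v => ?_⟩
    rw [Function.iterate_succ_apply', h2, Units.val_mul, ← mulVec_mulVec]
    congr 1
    funext i
    simp only [Function.comp_apply, gm_coe, mulVec, dotProduct, map_sum, map_mul, map_apply,
      pow_succ', RingAut.mul_apply]

theorem sigma_pow (h2 : 2 ≤ n) {g : GL (Fin n) F} {σ : F ≃+* F} {k : ℕ}
    (h : semi g σ ^ k = 1) : σ ^ k = 1 := by
  obtain ⟨N, hN, -⟩ := pow_semi g σ k
  rw [hN] at h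
  exact (eq_one_of_semi_eq_one h2 h).1

/-- A semilinear automorphism of prime order is conjugate to a field automorphism. -/
theorem exists_conj_field [Finite F] (h2 : 2 ≤ n) {g : GL (Fin n) F} {σ : F ≃+* F} {r : ℕ}
    (hr : r.Prime) (hσ : σ ≠ 1) (h : semi g σ ^ r = 1) :
    ∃ B : GL (Fin n) F, semi g σ = dg F n B * semi 1 σ * (dg F n B)⁻¹ := by
  haveI : Nonempty (Fin n) := ⟨⟨0, by omega⟩⟩
  have hord : orderOf σ = r := (hr.eq_one_or_self_of_dvd _
    (orderOf_dvd_of_pow_eq_one (sigma_pow h2 h))).resolve_left fun e => hσ (orderOf_eq_one_iff.1 e)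
  obtain ⟨N, hN, hT⟩ := pow_semi g σ r
  rw [hN] at h
  obtain ⟨hσr, c, hc⟩ := eq_one_of_semi_eq_one h2 h
  set T := fun w => (g : Matrix (Fin n) (Fin n) F) *ᵥ (σ ∘ w)
  have hT' : ∀ v, T^[r] v = (c : F) • v := fun v => by
    rw [hT, hσr, hc, GeneralLinearGroup.coe_scalar, scalar_apply, ← smul_one_eq_diagonal,
      smul_mulVec, one_mulVec]
    rfl
  have hTs : ∀ (a : F) v, T (a • v) = σ a • T v := fun a v => by
    show (g : Matrix (Fin n) (Fin n) F) *ᵥ (σ ∘ (a • v)) = _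
    rw [show σ ∘ (a • v) = σ a • (σ ∘ v) from funext fun i => map_mul σ _ _, mulVec_smul]
  have hfix : σ c = c := by
    let v : Fin n → F := fun _ => 1
    have e1 := hT' (T v)
    rw [Function.Commute.iterate_self T r v, hT', hTs] at e1
    have hne : T v ≠ 0 := fun e => by
      have := congrArg (fun w => ((g⁻¹ : GL (Fin n) F) : Matrix (Fin n) (Fin n) F) *ᵥ w) e
      simp only [T, mulVec_mulVec, Units.inv_mul, one_mulVec, mulVec_zero] at this
      exact one_ne_zero ((map_one σ).symm.trans (congrFun this ⟨0, by omega⟩))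
    exact smul_left_injective F hne e1
  obtain ⟨a, ha, hac⟩ := exists_nrm hr.pos hord (inv_ne_zero c.ne_zero)
    (by rw [map_inv₀, hfix])
  let g' : GL (Fin n) F := GeneralLinearGroup.scalar (Fin n) (Units.mk0 a ha) * g
  have hg' : semi g σ = semi g' σ := (semi_eq_iff h2).2 ⟨rfl, Units.mk0 a ha, rfl⟩
  have hit : ∀ k v, (fun w => (g' : Matrix (Fin n) (Fin n) F) *ᵥ (σ ∘ w))^[k] v =
      nrm σ k a • T^[k] v := by
    intro k
    induction k with
    | zero => intro v; simp [nrm]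
    | succ k ih =>
      intro v
      rw [Function.iterate_succ_apply', ih, Function.iterate_succ_apply', nrm_succ, mul_smul,
        ← hTs]
      show (g' : Matrix (Fin n) (Fin n) F) *ᵥ _ = a • ((g : Matrix (Fin n) (Fin n) F) *ᵥ _)
      rw [Units.val_mul, ← mulVec_mulVec, GeneralLinearGroup.coe_scalar, scalar_apply,
        ← smul_one_eq_diagonal, smul_mulVec, one_mulVec]
      rfl
  obtain ⟨B, hB⟩ := exists_lang hr.pos hord g' fun v => by
    rw [hit, hac, hT', inv_smul_smul₀ c.ne_zero]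
  refine ⟨B, ?_⟩
  rw [dg_conj, mul_one, hg', map_inv, eq_mul_inv_of_mul_eq hB]

/-- The normal form of a field automorphism. -/
theorem field_form [Finite F] (h2 : 2 ≤ n) {x : MulAut (ProjectiveSpecialLinearGroup (Fin n) F)}
    (hx : Cfsg.IsFieldAutClassPSL x) :
    ∃ (g : GL (Fin n) F) (σ : F ≃+* F), σ ≠ 1 ∧ x = semi g σ := by
  obtain ⟨α, σ, hσ, hα⟩ := hx
  have hx' : x = α⁻¹ * semi 1 σ * α := by rw [← std_eq hα]; group
  have key : ∀ (h : GL (Fin n) F) (τ : F ≃+* F),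
      ∃ g σ', σ' ≠ 1 ∧ (semi h τ)⁻¹ * semi 1 σ * semi h τ = semi g σ' := fun h τ =>
    ⟨_, τ⁻¹ * σ * τ, fun e => hσ (by
      have : τ * (τ⁻¹ * σ * τ) * τ⁻¹ = τ * 1 * τ⁻¹ := by rw [e]
      simp only [mul_assoc, mul_inv_cancel_left, mul_inv_cancel, mul_one] at this
      exact this), by rw [semi_inv', semi_mul', semi_mul']⟩
  obtain ⟨h, τ, rfl | ⟨-, rfl⟩⟩ := aut_eq h2 α
  · obtain ⟨g, σ', hσ', he⟩ := key h τ
    exact ⟨g, σ', hσ', hx'.trans he⟩
  · obtain ⟨g, σ', hσ', he⟩ := key h τ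
    refine ⟨ct g, σ', hσ', ?_⟩
    rw [hx', _root_.mul_inv_rev, inv_eq_of_mul_eq_one_right it_mul_it,
      show it * (semi h τ)⁻¹ * semi 1 σ * (semi h τ * it) =
        it * ((semi h τ)⁻¹ * semi 1 σ * semi h τ) * it by group,
      he, it_semi, mul_assoc, it_mul_it, mul_one]

/-- The normal form of a graph-field automorphism. -/
theorem graphField_form [Finite F] (h2 : 2 ≤ n)
    {x : MulAut (ProjectiveSpecialLinearGroup (Fin n) F)} (hx : Cfsg.IsGraphFieldAutClassPSL x) :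
    ∃ (g : GL (Fin n) F) (σ : F ≃+* F), σ ≠ 1 ∧ x = semi g σ * it := by
  obtain ⟨-, α, φ, γ, σ, hσ, hφ, hγ, hα⟩ := hx
  have hx' : x = α⁻¹ * (semi 1 σ * it) * α := by rw [← std_eq hφ, ← it_eq hγ, ← hα]; group
  have key : ∀ (h : GL (Fin n) F) (τ : F ≃+* F),
      ∃ g σ', σ' ≠ 1 ∧ (semi h τ)⁻¹ * (semi 1 σ * it) * semi h τ = semi g σ' * it := fun h τ =>
    ⟨_, τ⁻¹ * σ * τ, fun e => hσ (by
      have : τ * (τ⁻¹ * σ * τ) * τ⁻¹ = τ * 1 * τ⁻¹ := by rw [e]
      simp only [mul_assoc, mul_inv_cancel_left, mul_inv_cancel, mul_one] at this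
      exact this), by
      rw [← mul_assoc, mul_assoc, it_semi, ← mul_assoc, semi_inv', semi_mul', semi_mul']⟩
  obtain ⟨h, τ, rfl | ⟨-, rfl⟩⟩ := aut_eq h2 α
  · obtain ⟨g, σ', hσ', he⟩ := key h τ
    exact ⟨g, σ', hσ', hx'.trans he⟩
  · obtain ⟨g, σ', hσ', he⟩ := key h τ
    refine ⟨ct g, σ', hσ', ?_⟩
    rw [hx', _root_.mul_inv_rev, inv_eq_of_mul_eq_one_right it_mul_it,
      show it * (semi h τ)⁻¹ * (semi 1 σ * it) * (semi h τ * it) =
        it * ((semi h τ)⁻¹ * (semi 1 σ * it) * semi h τ) * it by group,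
      he, ← mul_assoc, it_semi, mul_assoc (semi (ct g) σ'), it_mul_it, mul_one]

theorem herm_sum (σ : F ≃+* F) (M : Matrix (Fin n) (Fin n) F) (x y : Fin n → F) :
    (σ ∘ x) ⬝ᵥ M *ᵥ y = ∑ i, ∑ j, σ (x i) * M i j * y j := by
  simp only [dotProduct, mulVec, Function.comp_apply, Finset.mul_sum, mul_assoc]

/-- All non-degenerate Hermitian matrices are congruent. -/
theorem exists_herm [Finite F] {σ : F ≃+* F} (hσ : σ ≠ 1) (hσ2 : σ * σ = 1) (M : GL (Fin n) F)
    (hM : (M : Matrix (Fin n) (Fin n) F)ᵀ.map σ = M) :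
    ∃ B : GL (Fin n) F, (M : Matrix (Fin n) (Fin n) F) =
      (B : Matrix (Fin n) (Fin n) F) * (B : Matrix (Fin n) (Fin n) F)ᵀ.map σ := by
  have hσσ : ∀ a, σ (σ a) = a := fun a => RingEquiv.congr_fun hσ2 a
  let B : (Fin n → F) →ₛₗ[σ.toRingHom] (Fin n → F) →ₗ[F] F :=
    LinearMap.mk₂'ₛₗ σ.toRingHom (RingHom.id F)
      (fun x y => (σ ∘ x) ⬝ᵥ (M : Matrix (Fin n) (Fin n) F) *ᵥ y)
      (fun x x' y => by
        rw [show σ ∘ (x + x') = σ ∘ x + σ ∘ x' from funext fun i => map_add σ _ _, add_dotProduct])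
      (fun c x y => by
        rw [show σ ∘ (c • x) = σ c • (σ ∘ x) from funext fun i => map_mul σ _ _, smul_dotProduct]
        rfl)
      (fun x y y' => by rw [mulVec_add, dotProduct_add])
      (fun c x y => by rw [mulVec_smul, dotProduct_smul]; rfl)
  have hB : ∀ x y, B x y = (σ ∘ x) ⬝ᵥ (M : Matrix (Fin n) (Fin n) F) *ᵥ y := fun x y => rfl
  have hS : B.IsSymm := ⟨fun x y => by
    show σ (B x y) = B y x
    rw [hB, hB, herm_sum, herm_sum, map_sum]
    simp only [map_sum, map_mul, hσσ]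
    rw [Finset.sum_comm]
    refine Finset.sum_congr rfl fun j _ => Finset.sum_congr rfl fun i _ => ?_
    have := congrFun (congrFun hM j) i
    simp only [map_apply, transpose_apply] at this
    rw [this]; ring⟩
  have hne : σ.toRingHom ≠ RingHom.id F := fun e => hσ (RingEquiv.ext fun a => RingHom.congr_fun e a)
  have hnd : Classical.OrthBasis.NondegOn B ⊤ := fun w _ hw => by
    have h0 : (σ ∘ w) ᵥ* (M : Matrix (Fin n) (Fin n) F) = 0 := by
      funext j
      have h := hw (Pi.single j 1) Submodule.mem_top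
      rw [hB, dotProduct_mulVec, dotProduct_single, mul_one] at h
      exact h
    have h1 := congrArg (fun z => z ᵥ* ((M⁻¹ : GL (Fin n) F) : Matrix (Fin n) (Fin n) F)) h0
    simp only [vecMul_vecMul, Units.mul_inv, vecMul_one, zero_vecMul] at h1
    exact funext fun i => σ.injective ((congrFun h1 i).trans (map_zero σ).symm)
  obtain ⟨b, -, hb⟩ := Classical.OrthBasis.exists_orthonormal B hne hσσ hS n ⊤ hnd
    (by rw [finrank_top, Module.finrank_fin_fun])
  let P : Matrix (Fin n) (Fin n) F := Matrix.of fun i j => b j i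
  have hP : (P.map σ)ᵀ * (M : Matrix (Fin n) (Fin n) F) * P = 1 := Matrix.ext fun i j => by
    rw [one_apply, ← hb i j, hB, herm_sum]
    simp only [mul_apply, Finset.sum_mul, transpose_apply, map_apply, P, of_apply]
    exact Finset.sum_comm
  have hd : P.det ≠ 0 := fun h => by
    have := congrArg det hP
    rw [det_mul, h, mul_zero, det_one] at this
    exact zero_ne_one this
  let Pu : GL (Fin n) F := GeneralLinearGroup.mkOfDetNeZero P hd
  let Bu : GL (Fin n) F := ct (gm σ Pu)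
  refine ⟨Bu, ?_⟩
  have h1 : (Bu : Matrix (Fin n) (Fin n) F) = ((gm σ Pu⁻¹ : GL (Fin n) F) : Matrix (Fin n) (Fin n) F)ᵀ := by
    rw [map_inv]; rfl
  have h2 : ((Bu : Matrix (Fin n) (Fin n) F)ᵀ).map σ = ((Pu⁻¹ : GL (Fin n) F) : Matrix (Fin n) (Fin n) F) := by
    rw [h1, transpose_transpose, gm_coe]
    exact Matrix.ext fun i j => hσσ _
  have h3 : (Bu : Matrix (Fin n) (Fin n) F) * (P.map σ)ᵀ = 1 := by
    rw [h1, ← transpose_mul, show P.map σ = ((gm σ Pu : GL (Fin n) F) : Matrix (Fin n) (Fin n) F) from rfl,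
      ← Units.val_mul, ← map_mul, mul_inv_cancel, map_one, Units.val_one, transpose_one]
  rw [h2]
  calc (M : Matrix (Fin n) (Fin n) F)
      = (Bu : Matrix (Fin n) (Fin n) F) * (P.map σ)ᵀ * M * (P * ((Pu⁻¹ : GL (Fin n) F) : Matrix (Fin n) (Fin n) F)) := by
        rw [h3, one_mul, show P = (Pu : Matrix (Fin n) (Fin n) F) from rfl, Units.mul_inv, mul_one]
    _ = (Bu : Matrix (Fin n) (Fin n) F) * ((P.map σ)ᵀ * M * P) * ((Pu⁻¹ : GL (Fin n) F) : Matrix (Fin n) (Fin n) F) := by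
        simp only [mul_assoc]
    _ = _ := by rw [hP, mul_one]

/-- A graph-field automorphism of prime order has order two and is conjugate to the standard one. -/
theorem exists_conj_graphField [Finite F] (h3 : 3 ≤ n) {g : GL (Fin n) F} {σ : F ≃+* F} {r : ℕ}
    (hr : r.Prime) (hσ : σ ≠ 1) (h : (semi g σ * it) ^ r = 1) :
    r = 2 ∧ σ * σ = 1 ∧ ∃ B : GL (Fin n) F,
      semi g σ * it = dg F n B * (semi 1 σ * it) * (dg F n B)⁻¹ := by
  haveI : Nonempty (Fin n) := ⟨⟨0, by omega⟩⟩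
  have h2 : 2 ≤ n := by omega
  have hsq : (semi g σ * it) * (semi g σ * it) = semi (g * gm σ (ct g)) (σ * σ) := by
    rw [mul_assoc, ← mul_assoc it, it_semi, mul_assoc (semi (ct g) σ), it_mul_it, mul_one,
      semi_mul']
  have hr2 : r = 2 := by
    by_contra hne
    obtain ⟨k, rfl⟩ := hr.odd_of_ne_two hne
    obtain ⟨N, hN, -⟩ := pow_semi (g * gm σ (ct g)) (σ * σ) k
    rw [pow_succ, pow_mul, sq, hsq, hN, ← mul_assoc, semi_mul'] at h
    have := (mul_eq_one_iff_eq_inv.1 h).trans (inv_eq_of_mul_eq_one_right it_mul_it)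
    exact semi_ne_it h3 _ _ this
  subst hr2
  rw [sq, hsq] at h
  obtain ⟨hσ2, c, hc⟩ := eq_one_of_semi_eq_one h2 h
  have hσσ : ∀ a, σ (σ a) = a := fun a => RingEquiv.congr_fun hσ2 a
  have hord : orderOf σ = 2 := orderOf_eq_prime (by rw [sq, hσ2]) hσ
  -- `g = c • σ(g)ᵀ`
  have hgc : (g : Matrix (Fin n) (Fin n) F) = (c : F) • (g : Matrix (Fin n) (Fin n) F)ᵀ.map σ := by
    have e : g = GeneralLinearGroup.scalar (Fin n) c * (gm σ (ct g))⁻¹ := eq_mul_inv_of_mul_eq hc
    conv_lhs => rw [e]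
    rw [Units.val_mul, ← map_inv, GeneralLinearGroup.coe_scalar, scalar_apply,
      ← smul_one_eq_diagonal, smul_mul_assoc, one_mul]
    rfl
  have hcc : (c : F) * σ c = 1 := by
    have e2 := congrArg (fun X : Matrix (Fin n) (Fin n) F => Xᵀ.map σ) hgc
    have e3 : (((c : F) • (g : Matrix (Fin n) (Fin n) F)ᵀ.map σ)ᵀ).map σ =
        σ c • (g : Matrix (Fin n) (Fin n) F) := Matrix.ext fun i j => by simp [hσσ]
    have e4 : (g : Matrix (Fin n) (Fin n) F) = ((c : F) * σ c) • (g : Matrix (Fin n) (Fin n) F) := by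
      conv_lhs => rw [hgc, show (g : Matrix (Fin n) (Fin n) F)ᵀ.map σ = σ c • (g : Matrix (Fin n) (Fin n) F) from
        e2.trans e3]
      rw [smul_smul]
    have hg0 : (g : Matrix (Fin n) (Fin n) F) ≠ 0 := g.ne_zero
    refine smul_left_injective F hg0 ?_
    show ((c : F) * σ c) • _ = (1 : F) • _
    rw [one_smul, ← e4]
  obtain ⟨x, hx, hxc⟩ := exists_div two_pos hord (u := (c : F)) (by
    rw [show (2 : ℕ) = 0 + 1 + 1 from rfl, nrm_succ, nrm_succ]
    simpa [nrm] using hcc)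
  let M : GL (Fin n) F := GeneralLinearGroup.scalar (Fin n) (Units.mk0 x⁻¹ (inv_ne_zero hx)) * g
  have hMv : (M : Matrix (Fin n) (Fin n) F) = x⁻¹ • (g : Matrix (Fin n) (Fin n) F) := by
    rw [Units.val_mul, GeneralLinearGroup.coe_scalar, scalar_apply, ← smul_one_eq_diagonal,
      smul_mul_assoc, one_mul]
    rfl
  have hMh : (M : Matrix (Fin n) (Fin n) F)ᵀ.map σ = M := by
    rw [hMv]
    have : (x⁻¹ • (g : Matrix (Fin n) (Fin n) F))ᵀ.map σ =
        (σ x)⁻¹ • (g : Matrix (Fin n) (Fin n) F)ᵀ.map σ := Matrix.ext fun i j => by simp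
    rw [this]
    conv_rhs => rw [hgc, smul_smul]
    congr 1
    have hσx : σ x ≠ 0 := by simpa using hx
    field_simp
    linear_combination -hxc
  obtain ⟨B, hB⟩ := exists_herm hσ hσ2 M hMh
  refine ⟨rfl, hσ2, B, ?_⟩
  rw [← mul_assoc, mul_assoc _ it, ← map_inv, dg_apply, dg_apply, semi_mul', gm_one, one_mul,
    mul_one, it_semi, ← mul_assoc, semi_mul', mul_one]
  congr 1
  refine (semi_eq_iff h2).2 ⟨rfl, Units.mk0 x⁻¹ (inv_ne_zero hx), Units.ext ?_⟩
  show ((B * gm σ (ct B⁻¹) : GL (Fin n) F) : Matrix (Fin n) (Fin n) F) = (M : Matrix (Fin n) (Fin n) F)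
  rw [hB, Units.val_mul, gm_coe]
  congr 2

/-- An element of the inner-diagonal coset has order `r` exactly when it is conjugate to `x`. -/
theorem coset_conj [Finite F] (h2 : 2 ≤ n)
    {x δ : MulAut (ProjectiveSpecialLinearGroup (Fin n) F)}
    (hx : Cfsg.IsFieldAutClassPSL x ∨ Cfsg.IsGraphFieldAutClassPSL x) {r : ℕ} (hr : r.Prime)
    (hxr : orderOf x = r) (hδ : δ ∈ Cfsg.inndiagPSL n F) :
    orderOf (δ * x) = r ↔ Cfsg.IsConjUnder (Cfsg.inndiagPSL n F) x (δ * x) := by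
  refine ⟨fun ho => ?_, ?_⟩
  swap
  · rintro ⟨h, -, e⟩
    rw [e, ← hxr]
    exact orderOf_injective (MulAut.conj h).toMonoidHom (MulAut.conj h).injective x
  rw [inndiag_eq] at hδ ⊢
  obtain ⟨h, rfl⟩ := hδ
  have conj : ∀ {a b z : MulAut (ProjectiveSpecialLinearGroup (Fin n) F)} {B B' : GL (Fin n) F},
      a = dg F n B * z * (dg F n B)⁻¹ → b = dg F n B' * z * (dg F n B')⁻¹ →
      Cfsg.IsConjUnder (dg F n).range a b := fun {a b z B B'} ha hb =>
    ⟨dg F n (B' * B⁻¹), ⟨_, rfl⟩, by rw [hb, ha, map_mul, map_inv]; group⟩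
  have hp := pow_orderOf_eq_one (dg F n h * x)
  rw [ho] at hp
  have hp' := pow_orderOf_eq_one x
  rw [hxr] at hp'
  rcases hx with hx | hx
  · obtain ⟨g, σ, hσ, rfl⟩ := field_form h2 hx
    obtain ⟨B, hB⟩ := exists_conj_field h2 hr hσ hp'
    rw [dg_apply, semi_mul', one_mul, gm_one] at hp ⊢
    obtain ⟨B', hB'⟩ := exists_conj_field h2 hr hσ hp
    exact conj hB hB'
  · have h3 := hx.1
    obtain ⟨g, σ, hσ, rfl⟩ := graphField_form h2 hx
    obtain ⟨-, -, B, hB⟩ := exists_conj_graphField h3 hr hσ hp'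
    rw [← mul_assoc, dg_apply, semi_mul', one_mul, gm_one] at hp ⊢
    obtain ⟨-, -, B', hB'⟩ := exists_conj_graphField h3 hr hσ hp
    exact conj hB hB'

end Cfsg.Agent.PSLField
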