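import Cfsg.Agent.Lib.Classical.DicksonCentralizer
import Cfsg.Agent.Lib.Classical.SL2Two
import Cfsg.Agent.Lib.Classical.Linear
import Cfsg.Agent.Lib.Classical.DicksonMax
import Cfsg.Prelude.Def_KGroupFacts
import Mathlib.FieldTheory.Finite.GaloisField
import Mathlib.FieldTheory.Galois.Basic

/-!
The automorphisms of `PSL₂(F)`.
-/

set_option autoImplicit false
set_option linter.style.haveILetI false
set_option linter.unusedSectionVars false

open scoped MatrixGroups Classical Pointwise
open Matrix OnePoint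

noncomputable section

namespace Cfsg.Agent.Classical.PSLTwoAut

open Dickson

variable {F : Type*} [Field F] [Fintype F]

local notation "G2" => Matrix.ProjectiveSpecialLinearGroup (Fin 2) F
local notation "S2" => Matrix.SpecialLinearGroup (Fin 2) F

/-- The inclusion in `PGL₂`. -/
def th : G2 →* PGL(2, F) := ProjectiveSpecialLinearGroup.toPGL

theorem th_injective : Function.Injective (th (F := F)) := ProjectiveSpecialLinearGroup.toPGL_injective

theorem th_proj (A : S2) : th (SL2Two.proj A) = ProjGenLinGroup.mk (SpecialLinearGroup.toGL A) := rfl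

/-- Upper unitriangular matrices. -/
def uS (a : F) : S2 := ⟨!![1, a; 0, 1], by simp [Matrix.det_fin_two]⟩

/-- Lower unitriangular matrices. -/
def lS (a : F) : S2 := ⟨!![1, 0; a, 1], by simp [Matrix.det_fin_two]⟩

def uG (a : F) : G2 := SL2Two.proj (uS a)

def lG (a : F) : G2 := SL2Two.proj (lS a)

theorem uS_mul (a b : F) : uS a * uS b = uS (a + b) := by
  apply Subtype.ext
  rw [SL2.coe_mul']
  ext i j
  fin_cases i <;> fin_cases j <;> simp [uS, Matrix.mul_apply, Fin.sum_univ_two, add_comm]

theorem uG_mul (a b : F) : uG a * uG b = uG (a + b) := by rw [uG, uG, uG, ← map_mul, uS_mul]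

theorem th_uG (a : F) : th (uG a) = aff 1 a := by
  rw [uG, th_proj, aff]
  congr 1
  ext i j
  show (uS a).1 i j = _
  fin_cases i <;> fin_cases j <;> simp [uS, affGL_coe]

/-- The exchange of zero and infinity. -/
def swap : PGL(2, F) := ProjGenLinGroup.mk (invGL (1 : F) one_ne_zero)

theorem swap_infty : (swap : PGL(2, F)) • (∞ : OnePoint F) = ((0 : F) : OnePoint F) := by
  rw [swap, mk_smul', smul_infty_eq_ite, invGL_coe]; simp

theorem swap_zero : (swap : PGL(2, F)) • ((0 : F) : OnePoint F) = (∞ : OnePoint F) := by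
  rw [swap, mk_smul', smul_some_eq_ite, invGL_coe]; simp

theorem swap_mul_self : (swap : PGL(2, F)) * swap = 1 := by
  rw [swap, ← map_mul, ← ProjGenLinGroup.mk_one]
  congr 1
  ext i j
  fin_cases i <;> fin_cases j <;> simp [invGL_coe, Matrix.mul_apply, Fin.sum_univ_two]

theorem swap_inv : (swap : PGL(2, F))⁻¹ = swap := inv_eq_of_mul_eq_one_right swap_mul_self

theorem th_lG (a : F) : th (lG a) = swap * aff 1 a * swap := by
  rw [lG, th_proj, aff, swap, ← map_mul, ← map_mul]
  congr 1
  ext i j
  show (lS a).1 i j = _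
  fin_cases i <;> fin_cases j <;> simp [lS, affGL_coe, invGL_coe, Matrix.mul_apply, Fin.sum_univ_two]

theorem lG_mul (a b : F) : lG a * lG b = lG (a + b) := by
  apply th_injective
  rw [map_mul, th_lG, th_lG, th_lG,
    show swap * aff 1 a * swap * (swap * aff 1 b * swap) = swap * aff 1 a * (swap * swap) * aff 1 b * (swap : PGL(2, F)) by group,
    swap_mul_self, mul_one, mul_assoc (swap : PGL(2, F)) (aff 1 a), aff_mul, one_mul, Units.val_one, one_mul, add_comm]

theorem uG_injective : Function.Injective (uG (F := F)) := fun a b h => by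
  have h' := congrArg th h
  rw [th_uG, th_uG, aff_eq_iff] at h'
  exact h'.2

theorem lG_injective : Function.Injective (lG (F := F)) := fun a b h => by
  have h' := congrArg th h
  rw [th_lG, th_lG] at h'
  have h2 := mul_left_cancel (mul_right_cancel h')
  rw [aff_eq_iff] at h2
  exact h2.2

theorem exists_uG {x : G2} (h : IsTr (∞ : OnePoint F) (th x)) : ∃ a, x = uG a := by
  obtain ⟨s, a, hs⟩ := exists_aff (th x) h.1
  rw [hs, isTr_infty_aff] at h
  exact ⟨a, th_injective (by rw [hs, h, th_uG])⟩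

theorem exists_lG {x : G2} (h : IsTr ((0 : F) : OnePoint F) (th x)) : ∃ a, x = lG a := by
  have h' := isTr_conj swap h
  rw [swap_zero] at h'
  obtain ⟨s, a, hs⟩ := exists_aff _ h'.1
  rw [hs, isTr_infty_aff] at h'
  subst h'
  refine ⟨a, th_injective ?_⟩
  rw [th_lG, ← hs, swap_inv,
    show swap * (swap * th x * swap) * swap = (swap * swap) * th x * ((swap : PGL(2, F)) * swap) by group,
    swap_mul_self, one_mul, mul_one]

theorem isTr_uG (a : F) : IsTr (∞ : OnePoint F) (th (uG a)) := by rw [th_uG, isTr_infty_aff]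

theorem isTr_lG (a : F) : IsTr ((0 : F) : OnePoint F) (th (lG a)) := by
  have h := isTr_conj (swap : PGL(2, F)) ((isTr_infty_aff (K := F) 1 a).2 rfl)
  rwa [swap_infty, swap_inv, ← th_lG] at h

theorem gen_induction (P : G2 → Prop) (hu : ∀ a, P (uG a)) (hl : ∀ a, P (lG a))
    (hmul : ∀ x y, P x → P y → P (x * y)) (x : G2) : P x := by
  obtain ⟨A, rfl⟩ := SL2Two.proj_surjective x
  refine SL_transvection_induction (fun A => P (SL2Two.proj A)) (fun i j hij c => ?_)
    (fun A B hA hB => by rw [map_mul]; exact hmul _ _ hA hB) A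
  fin_cases i <;> fin_cases j
  · exact absurd rfl hij
  · convert hu c using 1
    rw [uG]; congr 1
    apply Subtype.ext
    ext a b
    fin_cases a <;> fin_cases b <;> simp [uS, SpecialLinearGroup.transvection_coe]
  · convert hl c using 1
    rw [lG]; congr 1
    apply Subtype.ext
    ext a b
    fin_cases a <;> fin_cases b <;> simp [lS, SpecialLinearGroup.transvection_coe]
  · exact absurd rfl hij

theorem mulAut_ext {α β : MulAut G2} (hu : ∀ a, α (uG a) = β (uG a)) (hl : ∀ a, α (lG a) = β (lG a)) :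
    α = β :=
  MulEquiv.ext (gen_induction (fun x => α x = β x) hu hl fun x y hx hy => by rw [map_mul, map_mul, hx, hy])

/-! ### Field and diagonal automorphisms -/

theorem map_center (φ : F →+* F) :
    Subgroup.center S2 ≤ (Subgroup.center S2).comap (SpecialLinearGroup.map φ) := by
  intro g hg
  rcases (SL2Two.mem_center_iff g).1 hg with rfl | rfl
  · exact one_mem _
  · refine (SL2Two.mem_center_iff _).2 (Or.inr (Subtype.ext ?_))
    ext i j
    fin_cases i <;> fin_cases j <;> simp [SL2Two.coe_negOne]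

/-- The action of a ring endomorphism. -/
def fieldHom (φ : F →+* F) : G2 →* G2 := QuotientGroup.map _ _ (SpecialLinearGroup.map φ) (map_center φ)

theorem fieldHom_proj (φ : F →+* F) (A : S2) :
    fieldHom φ (SL2Two.proj A) = SL2Two.proj (SpecialLinearGroup.map φ A) := rfl

theorem fieldHom_uG (φ : F →+* F) (a : F) : fieldHom φ (uG a) = uG (φ a) := by
  rw [uG, fieldHom_proj, uG]; congr 1
  apply Subtype.ext
  ext i j
  show φ ((uS a).1 i j) = _
  fin_cases i <;> fin_cases j <;> simp [uS]

theorem fieldHom_lG (φ : F →+* F) (a : F) : fieldHom φ (lG a) = lG (φ a) := by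
  rw [lG, fieldHom_proj, lG]; congr 1
  apply Subtype.ext
  ext i j
  show φ ((lS a).1 i j) = _
  fin_cases i <;> fin_cases j <;> simp [lS]

theorem fieldHom_comp (φ ψ : F →+* F) (x : G2) : fieldHom φ (fieldHom ψ x) = fieldHom (φ.comp ψ) x :=
  gen_induction (fun x => fieldHom φ (fieldHom ψ x) = fieldHom (φ.comp ψ) x)
    (fun a => by simp [fieldHom_uG]) (fun a => by simp [fieldHom_lG])
    (fun x y hx hy => by rw [map_mul, map_mul, map_mul, hx, hy]) x

theorem fieldHom_id (x : G2) : fieldHom (RingHom.id F) x = x :=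
  gen_induction (fun x => fieldHom (RingHom.id F) x = x)
    (fun a => by simp [fieldHom_uG]) (fun a => by simp [fieldHom_lG])
    (fun x y hx hy => by rw [map_mul, hx, hy]) x

/-- Field automorphisms. -/
def fieldAut (φ : F ≃+* F) : MulAut G2 where
  toFun := fieldHom (φ : F →+* F)
  invFun := fieldHom (φ.symm : F →+* F)
  left_inv x := by
    rw [fieldHom_comp, show (φ.symm : F →+* F).comp φ = RingHom.id F from RingHom.ext φ.symm_apply_apply, fieldHom_id]
  right_inv x := by
    rw [fieldHom_comp, show (φ : F →+* F).comp φ.symm = RingHom.id F from RingHom.ext φ.apply_symm_apply, fieldHom_id]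
  map_mul' := map_mul _

theorem fieldAut_apply (φ : F ≃+* F) (x : G2) : fieldAut φ x = fieldHom (φ : F →+* F) x := rfl

theorem fieldAut_mul (φ ψ : F ≃+* F) : fieldAut (φ * ψ) = fieldAut φ * fieldAut ψ :=
  mulAut_ext (fun a => by simp [fieldAut_apply, fieldHom_uG])
    (fun a => by simp [fieldAut_apply, fieldHom_lG])

theorem th_fieldAut (φ : F ≃+* F) (x : G2) :
    th (fieldAut φ x) = ProjGenLinGroup.map (φ : F →+* F) (th x) := by
  obtain ⟨A, rfl⟩ := SL2Two.proj_surjective x
  rw [fieldAut_apply, fieldHom_proj, th_proj, th_proj, ProjGenLinGroup.map_mk]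
  congr 1
  ext i j
  simp

theorem conj_mem_range (g : PGL(2, F)) (x : G2) : ∃ y, th y = g * th x * g⁻¹ := by
  obtain ⟨A, rfl⟩ := SL2Two.proj_surjective x
  induction g using ProjGenLinGroup.induction_on with | mk γ =>
  refine ⟨SL2Two.proj ⟨(γ : Matrix (Fin 2) (Fin 2) F) * (A : Matrix (Fin 2) (Fin 2) F) * ((γ⁻¹ : GL (Fin 2) F) : Matrix (Fin 2) (Fin 2) F), ?_⟩, ?_⟩
  · rw [Matrix.det_mul, Matrix.det_mul, A.2, mul_one, ← Matrix.det_mul, ← Units.val_mul, mul_inv_cancel, Units.val_one,
      Matrix.det_one]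
  · refine (th_proj _).trans ?_
    rw [th_proj, ← map_inv, ← map_mul, ← map_mul]
    congr 1
    exact Units.ext rfl

/-- Conjugation by an element of `PGL₂`. -/
def diagHom (g : PGL(2, F)) : G2 →* G2 where
  toFun x := (conj_mem_range g x).choose
  map_one' := th_injective ((conj_mem_range g 1).choose_spec.trans (by simp))
  map_mul' x y := th_injective ((conj_mem_range g _).choose_spec.trans (by
    rw [map_mul, map_mul, (conj_mem_range g x).choose_spec, (conj_mem_range g y).choose_spec]
    group))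

theorem th_diagHom (g : PGL(2, F)) (x : G2) : th (diagHom g x) = g * th x * g⁻¹ :=
  (conj_mem_range g x).choose_spec

/-- The automorphisms induced by `PGL₂`. -/
def diagAut : PGL(2, F) →* MulAut G2 where
  toFun g :=
    { toFun := diagHom g
      invFun := diagHom g⁻¹
      left_inv := fun x => th_injective (by rw [th_diagHom, th_diagHom]; group)
      right_inv := fun x => th_injective (by rw [th_diagHom, th_diagHom]; group)
      map_mul' := map_mul _ }
  map_one' := MulEquiv.ext fun x => th_injective (by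
    show th (diagHom 1 x) = th x
    rw [th_diagHom]; group)
  map_mul' g h := MulEquiv.ext fun x => th_injective (by
    show th (diagHom (g * h) x) = th (diagHom g (diagHom h x))
    rw [th_diagHom, th_diagHom, th_diagHom]; group)

theorem th_diagAut (g : PGL(2, F)) (x : G2) : th (diagAut g x) = g * th x * g⁻¹ := th_diagHom g x

theorem diagAut_th (x : G2) : diagAut (th x) = MulAut.conj x :=
  MulEquiv.ext fun y => th_injective (by rw [th_diagAut, MulAut.conj_apply, map_mul, map_mul, map_inv])

theorem fieldAut_comm (φ : F ≃+* F) (g : PGL(2, F)) :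
    fieldAut φ * diagAut g = diagAut (ProjGenLinGroup.map (φ : F →+* F) g) * fieldAut φ := by
  refine MulEquiv.ext fun x => th_injective ?_
  rw [MulAut.mul_apply, MulAut.mul_apply, th_fieldAut, th_diagAut, th_diagAut, th_fieldAut, map_mul,
    map_mul, map_inv]

/-- Uniqueness of the decomposition. -/
theorem eq_one_of_diag_field (g : PGL(2, F)) (φ : F ≃+* F) (h : diagAut g * fieldAut φ = 1) :
    g = 1 ∧ φ = 1 := by
  have hu : ∀ a, g * th (uG (φ a)) * g⁻¹ = th (uG a) := fun a => by
    have h' := congrArg (fun β : MulAut G2 => th (β (uG a))) h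
    simpa [th_diagAut, fieldAut_apply, fieldHom_uG] using h'
  have hl : g * th (lG (φ 1)) * g⁻¹ = th (lG 1) := by
    have h' := congrArg (fun β : MulAut G2 => th (β (lG 1))) h
    simpa [th_diagAut, fieldAut_apply, fieldHom_lG] using h'
  have hne1 : th (uG (1 : F)) ≠ 1 := fun e => by
    rw [th_uG, aff_eq_one_iff] at e; exact one_ne_zero e.2
  have hne2 : th (lG (1 : F)) ≠ 1 := fun e => by
    rw [th_lG, mul_eq_one_iff_eq_inv, swap_inv, mul_eq_left, aff_eq_one_iff] at e
    exact one_ne_zero e.2
  have hi : g • (∞ : OnePoint F) = ∞ := by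
    have h' := isTr_conj g (isTr_uG (φ 1))
    rw [hu 1] at h'
    exact (((isTr_uG (1 : F)).2 _ h'.1).resolve_right hne1)
  have h0 : g • ((0 : F) : OnePoint F) = ((0 : F) : OnePoint F) := by
    have h' := isTr_conj g (isTr_lG (φ 1))
    rw [hl] at h'
    exact (((isTr_lG (1 : F)).2 _ h'.1).resolve_right hne2)
  obtain ⟨s, rfl⟩ := fix_infty_zero hi h0
  have hs : ∀ a, (s : F) * φ a = a := fun a => by
    have h' := hu a
    rw [th_uG, th_uG, mul_inv_eq_iff_eq_mul, aff_mul, aff_mul, aff_eq_iff] at h'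
    simpa using h'.2
  have hs1 : s = 1 := Units.ext (by simpa using hs 1)
  subst hs1
  exact ⟨aff_one, RingEquiv.ext fun a => by simpa using hs a⟩

/-! ### The main theorem -/

/-- The upper unitriangular subgroup. -/
def uHom : Multiplicative F →* G2 where
  toFun a := uG (Multiplicative.toAdd a)
  map_one' := th_injective (by rw [th_uG, toAdd_one, aff_one, map_one])
  map_mul' a b := by rw [toAdd_mul, uG_mul]

/-- The lower unitriangular subgroup. -/
def lHom : Multiplicative F →* G2 where
  toFun a := lG (Multiplicative.toAdd a)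
  map_one' := th_injective (by rw [th_lG, toAdd_one, aff_one, mul_one, swap_mul_self, map_one])
  map_mul' a b := by rw [toAdd_mul, lG_mul]

theorem card_range_eq (h : Multiplicative F →* G2) (hh : Function.Injective h) {p : ℕ} [Fact p.Prime] [CharP F p] :
    Nat.card h.range = p ^ (Nat.card G2).factorization p := by
  obtain ⟨n, hp, hn⟩ := FiniteField.card F p
  rw [← Nat.card_congr (MonoidHom.ofInjective hh).toEquiv]
  show Nat.card F = _
  rw [Nat.card_eq_fintype_card, hn]
  congr 1
  have hG := SL2.card_PSL2_mul (F := F)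
  have hq := Fintype.one_lt_card (α := F)
  have hpq : p ∣ Fintype.card F := hn ▸ dvd_pow_self p n.ne_zero
  have hsq : ¬ p ∣ Fintype.card F ^ 2 - 1 := fun hd => by
    have h1 : p ∣ Fintype.card F ^ 2 - (Fintype.card F ^ 2 - 1) := Nat.dvd_sub (hpq.trans (dvd_pow_self _ two_ne_zero)) hd
    rw [Nat.sub_sub_self (Nat.one_le_pow _ _ (by omega))] at h1
    exact hp.ne_one (Nat.dvd_one.1 h1)
  have hg : ¬ p ∣ Nat.gcd 2 (Fintype.card F - 1) := fun hd => by
    have h1 := (hd.trans (Nat.gcd_dvd_right _ _))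
    have h2 : p ∣ Fintype.card F - (Fintype.card F - 1) := Nat.dvd_sub hpq h1
    rw [Nat.sub_sub_self (by omega)] at h2
    exact hp.ne_one (Nat.dvd_one.1 h2)
  have h' := congrArg (fun N => N.factorization p) hG
  haveI : Finite G2 := Finite.of_surjective _ SL2Two.proj_surjective
  have hsq0 : Fintype.card F ^ 2 - 1 ≠ 0 := fun e => hsq (e ▸ dvd_zero p)
  simp only [Nat.factorization_mul (Nat.gcd_ne_zero_left two_ne_zero) Nat.card_pos.ne',
    Nat.factorization_mul (show Fintype.card F ≠ 0 by omega) hsq0, Finsupp.add_apply,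
    Nat.factorization_eq_zero_of_not_dvd hg, Nat.factorization_eq_zero_of_not_dvd hsq,
    zero_add, add_zero] at h'
  rw [hn, Nat.Prime.factorization_pow hp, Finsupp.single_eq_same] at h'
  exact h'.symm

/-- An automorphism sends unitriangular subgroups to translations at some point. -/
theorem exists_point (h : Multiplicative F →* G2) (hh : Function.Injective h) (α : MulAut G2) :
    ∃ k : G2, ∀ a, IsTr (th k • (∞ : OnePoint F)) (th (α (h a))) := by
  haveI : Finite G2 := Finite.of_surjective _ SL2Two.proj_surjective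
  obtain ⟨p, hp⟩ := CharP.exists F
  obtain ⟨n, hpp, hn⟩ := FiniteField.card F p
  haveI : Fact p.Prime := ⟨hpp⟩
  let U : Sylow p G2 := Sylow.ofCard (uHom (F := F)).range (card_range_eq _ (fun a b e => Multiplicative.toAdd.injective (uG_injective e)))
  let V : Sylow p G2 := Sylow.ofCard (α.toMonoidHom.comp h).range
    (card_range_eq _ (α.injective.comp hh))
  obtain ⟨k, hk⟩ := MulAction.exists_smul_eq G2 U V
  refine ⟨k, fun a => ?_⟩
  have hm : α (h a) ∈ (V : Subgroup G2) := ⟨a, rfl⟩
  rw [← hk, Sylow.coe_subgroup_smul, Subgroup.mem_pointwise_smul_iff_inv_smul_mem] at hm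
  obtain ⟨b, hb⟩ := hm
  have e : α (h a) = k * uG (Multiplicative.toAdd b) * k⁻¹ := by
    change uG (Multiplicative.toAdd b) = (MulAut.conj k)⁻¹ • α (h a) at hb
    rw [hb, ← map_inv]
    show _ = k * (k⁻¹ * α (h a) * k⁻¹⁻¹) * k⁻¹
    group
  rw [e, map_mul, map_mul, map_inv]
  exact isTr_conj _ (isTr_uG _)

theorem NS_coe {a : F} (ha : a ≠ 0) :
    ((uS a * lS (-1 / a) * uS a : S2) : Matrix (Fin 2) (Fin 2) F) = !![0, a; -1 / a, 0] := by
  rw [SL2.coe_mul', SL2.coe_mul']
  ext i j
  fin_cases i <;> fin_cases j <;> simp [uS, lS, Matrix.mul_apply, Fin.sum_univ_two] <;> field_simp <;> (try ring) <;> simp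

theorem weyl_conj {a : F} (ha : a ≠ 0) (x : F) :
    uG a * lG (-1 / a) * uG a * uG x = lG (-x / a ^ 2) * (uG a * lG (-1 / a) * uG a) := by
  simp only [uG, lG, ← map_mul]
  congr 1
  apply Subtype.ext
  rw [SL2.coe_mul', SL2.coe_mul' (lS _), NS_coe ha]
  ext i j
  fin_cases i <;> fin_cases j <;> simp [uS, lS, Matrix.mul_apply, Fin.sum_univ_two] <;> field_simp

/-- An automorphism preserving both root groups with `u 1 ↦ u 1` is a field automorphism. -/
theorem exists_field_of_normalized (α : MulAut G2) (hU : ∀ a, ∃ b, α (uG a) = uG b)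
    (hL : ∀ a, ∃ b, α (lG a) = lG b) (h1 : α (uG 1) = uG 1) : ∃ φ : F ≃+* F, α = fieldAut φ := by
  choose f hf using hU
  choose g hg using hL
  have hf1 : f 1 = 1 := uG_injective ((hf 1).symm.trans h1)
  have fadd : ∀ a b, f (a + b) = f a + f b := fun a b => uG_injective (by
    rw [← uG_mul, ← hf, ← hf, ← hf, ← map_mul, uG_mul])
  have finj : Function.Injective f := fun a b e => uG_injective (α.injective (by rw [hf, hf, e]))
  have ginj : Function.Injective g := fun a b e => lG_injective (α.injective (by rw [hg, hg, e]))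
  have f0 : f 0 = 0 := by have := fadd 0 0; simpa using this
  have g0 : g 0 = 0 := lG_injective (by
    have e : lG (0 : F) = 1 := th_injective (by rw [th_lG, aff_one, mul_one, swap_mul_self, map_one])
    rw [← hg, e, map_one])
  have fne : ∀ a, a ≠ 0 → f a ≠ 0 := fun a ha e => ha (finj (e.trans f0.symm))
  have gne : ∀ a, a ≠ 0 → g a ≠ 0 := fun a ha e => ha (ginj (e.trans g0.symm))
  have him : ∀ a x, a ≠ 0 → uG (f a) * lG (g (-1 / a)) * uG (f a) * uG (f x) =
      lG (g (-x / a ^ 2)) * (uG (f a) * lG (g (-1 / a)) * uG (f a)) := fun a x ha => by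
    rw [← hf, ← hf, ← hg, ← hg, ← map_mul, ← map_mul, ← map_mul, ← map_mul, weyl_conj ha]
  have hgf : ∀ a, a ≠ 0 → g (-1 / a) = -1 / f a := by
    intro a ha
    set B := g (-1 / a) with hB
    have hB0 : B ≠ 0 := gne _ (div_ne_zero (by simp) ha)
    set m := uG (f a) * lG B * uG (f a) with hm
    have hconj : th (lG (g (-1 / a ^ 2))) = th m * th (uG (f 1)) * (th m)⁻¹ := by
      rw [eq_mul_inv_iff_mul_eq, ← map_mul, ← map_mul, hm, him a 1 ha]
    have ht := isTr_conj (th m) (isTr_uG (f 1))
    rw [← hconj] at ht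
    have hne : th (lG (g (-1 / a ^ 2))) ≠ 1 := fun e => by
      rw [th_lG, mul_eq_one_iff_eq_inv, swap_inv, mul_eq_left, aff_eq_one_iff] at e
      exact gne _ (div_ne_zero (by simp) (pow_ne_zero 2 ha)) e.2
    have h0 := ((isTr_lG _).2 _ ht.1).resolve_right hne
    rw [hm, map_mul, map_mul, mul_smul, mul_smul, th_uG, aff_smul_infty, th_lG, mul_smul, mul_smul, swap_infty,
      aff_smul_coe, mul_zero, zero_add] at h0
    rw [swap, mk_smul', smul_some_eq_ite, invGL_coe] at h0
    simp [hB0] at h0
    rw [aff_smul_coe, OnePoint.coe_eq_coe, Units.val_one, one_mul] at h0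
    rw [eq_div_iff (fne a ha)]
    field_simp at h0
    linear_combination h0
  have key : ∀ a x, a ≠ 0 → x ≠ 0 → f (a ^ 2 / x) * f x = f a ^ 2 := by
    intro a x ha hx
    have hfa := fne a ha
    have hb : a ^ 2 / x ≠ 0 := div_ne_zero (pow_ne_zero 2 ha) hx
    have h' := him a x ha
    rw [hgf a ha, weyl_conj hfa] at h'
    have h2 := lG_injective (mul_right_cancel h')
    have e2 : g (-x / a ^ 2) = -1 / f (a ^ 2 / x) := by
      rw [← hgf _ hb]; congr 1; field_simp
    rw [e2] at h2
    have hfb := fne _ hb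
    field_simp at h2
    linear_combination -h2
  have fsq : ∀ a y, f (a ^ 2 * y) = f a ^ 2 * f y := by
    intro a y
    by_cases ha : a = 0
    · subst ha; simp [f0]
    by_cases hy : y = 0
    · subst hy; simp [f0]
    have h1' := key 1 y one_ne_zero hy
    rw [one_pow, hf1, one_pow, one_div] at h1'
    have h2' := key a y⁻¹ ha (inv_ne_zero hy)
    rw [div_inv_eq_mul] at h2'
    have : f y * f y⁻¹ = 1 := by rw [mul_comm]; exact h1'
    linear_combination f y * h2' - f (a ^ 2 * y) * this
  have fmul : ∀ a b, f (a * b) = f a * f b := by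
    by_cases h2 : (2 : F) = 0
    · obtain ⟨p, hp⟩ := CharP.exists F
      obtain ⟨n, hpp, hn⟩ := FiniteField.card F p
      have hp2 : ringChar F = 2 := by
        haveI : Fact p.Prime := ⟨hpp⟩
        have : ((2 : ℕ) : F) = 0 := by exact_mod_cast h2
        rw [CharP.cast_eq_zero_iff F p] at this
        rw [ringChar.eq F p]
        exact (Nat.prime_dvd_prime_iff_eq hpp Nat.prime_two).1 this
      intro a b
      obtain ⟨r, rfl⟩ := FiniteField.isSquare_of_char_two hp2 a
      have hr := fsq r b
      have hr1 := fsq r 1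
      rw [hf1, mul_one, mul_one] at hr1
      rw [← pow_two, hr, hr1]
    · intro a b
      have e1 := fsq (a + b) 1
      have e2 := fsq a 1
      have e3 := fsq b 1
      rw [hf1, mul_one, mul_one] at e1 e2 e3
      rw [show (a + b) ^ 2 = a ^ 2 + b ^ 2 + (a * b + a * b) by ring, fadd, fadd, fadd, fadd, e2, e3] at e1
      refine mul_left_cancel₀ h2 ?_
      linear_combination e1
  let φ₀ : F →+* F :=
    { toFun := f, map_one' := hf1, map_mul' := fmul, map_zero' := f0, map_add' := fadd }
  refine ⟨RingEquiv.ofBijective φ₀ (Finite.injective_iff_bijective.1 finj), mulAut_ext (fun a => ?_) fun a => ?_⟩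
  · rw [hf, fieldAut_apply, fieldHom_uG]; rfl
  · rw [hg, fieldAut_apply, fieldHom_lG]
    congr 1
    by_cases ha : a = 0
    · subst ha; rw [g0, map_zero]
    have hb : -1 / a ≠ 0 := div_ne_zero (by simp) ha
    have e := hgf _ hb
    rw [show -1 / (-1 / a) = a by field_simp] at e
    rw [e]
    show _ = φ₀ a
    have hf' : f (-1 / a) = φ₀ (-1 / a) := rfl
    rw [hf', map_div₀, map_neg, map_one]
    field_simp

/-- Every automorphism is a product of a diagonal and a field automorphism. -/
theorem exists_decomp (α : MulAut G2) : ∃ (g : PGL(2, F)) (φ : F ≃+* F), α = diagAut g * fieldAut φ := by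
  haveI : Finite G2 := Finite.of_surjective _ SL2Two.proj_surjective
  obtain ⟨h, hh⟩ := exists_point uHom (fun a b e => Multiplicative.toAdd.injective (uG_injective e)) α
  set α₁ := diagAut (th h)⁻¹ * α with hα₁
  have hU1 : ∀ a, IsTr (∞ : OnePoint F) (th (α₁ (uG a))) := fun a => by
    have h' := isTr_conj (th h)⁻¹ (hh (Multiplicative.ofAdd a))
    rw [inv_smul_smul] at h'
    rw [hα₁, MulAut.mul_apply, th_diagAut]
    exact h'
  obtain ⟨k, hk⟩ := exists_point lHom (fun a b e => Multiplicative.toAdd.injective (lG_injective e)) α₁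
  obtain ⟨r, hr⟩ : ∃ r : F, th k • (∞ : OnePoint F) = (r : OnePoint F) := by
    cases hz : th k • (∞ : OnePoint F) with
    | coe r => exact ⟨r, rfl⟩
    | infty =>
      exfalso
      have h' := hk (Multiplicative.ofAdd 1)
      rw [hz] at h'
      obtain ⟨y, hy⟩ := exists_uG h'
      choose b hb using fun a => exists_uG (hU1 a)
      have hbs : Function.Surjective b := Finite.injective_iff_surjective.1 fun a a' e =>
        uG_injective (α₁.injective (by rw [hb, hb, e]))
      obtain ⟨a, rfl⟩ := hbs y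
      rw [← hb] at hy
      have e := congrArg th (α₁.injective hy)
      have ht := isTr_uG (F := F) a
      rw [← e] at ht
      have hne : th (lHom (Multiplicative.ofAdd (1 : F))) ≠ 1 := fun e' =>
        one_ne_zero (lG_injective (th_injective (e'.trans (by rw [th_lG, aff_one, mul_one, swap_mul_self]))))
      rcases (isTr_lG (1 : F)).2 _ ht.1 with e2 | e2
      · exact infty_ne_coe _ e2
      · exact hne e2
  set α₂ := diagAut (aff 1 (-r)) * α₁ with hα₂
  have hU2 : ∀ a, ∃ b, α₂ (uG a) = uG b := fun a => exists_uG (by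
    have h' := isTr_conj (aff 1 (-r)) (hU1 a)
    rw [aff_smul_infty] at h'
    rw [hα₂, MulAut.mul_apply, th_diagAut]
    exact h')
  have hL2 : ∀ a, ∃ b, α₂ (lG a) = lG b := fun a => exists_lG (by
    have h' := isTr_conj (aff 1 (-r)) (hk (Multiplicative.ofAdd a))
    rw [hr, aff_smul_coe, Units.val_one, one_mul, add_neg_cancel] at h'
    rw [hα₂, MulAut.mul_apply, th_diagAut]
    exact h')
  obtain ⟨t, ht⟩ := hU2 1
  have ht0 : t ≠ 0 := fun e => one_ne_zero (uG_injective (α₂.injective (ht.trans (by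
    rw [e, show uG (0 : F) = 1 from th_injective (by rw [th_uG, aff_one, map_one]), map_one]))))
  set s : Fˣ := (Units.mk0 t ht0)⁻¹ with hs
  set α₃ := diagAut (aff s 0) * α₂ with hα₃
  have hdu : ∀ b, diagAut (aff s 0) (uG b) = uG ((s : F) * b) := fun b => th_injective (by
    rw [th_diagAut, th_uG, th_uG, mul_inv_eq_iff_eq_mul, aff_mul, aff_mul, aff_eq_iff]; simp)
  have hdl : ∀ b, ∃ b', diagAut (aff s 0) (lG b) = lG b' := fun b => exists_lG (by
    have h' := isTr_conj (aff s 0) (isTr_lG b)
    rw [aff_smul_coe, mul_zero, add_zero] at h'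
    rwa [th_diagAut])
  have hU3 : ∀ a, ∃ b, α₃ (uG a) = uG b := fun a => by
    obtain ⟨b, hb⟩ := hU2 a
    exact ⟨_, by rw [hα₃, MulAut.mul_apply, hb, hdu]⟩
  have hL3 : ∀ a, ∃ b, α₃ (lG a) = lG b := fun a => by
    obtain ⟨b, hb⟩ := hL2 a
    obtain ⟨b', hb'⟩ := hdl b
    exact ⟨b', by rw [hα₃, MulAut.mul_apply, hb, hb']⟩
  obtain ⟨φ, hφ⟩ := exists_field_of_normalized α₃ hU3 hL3
    (by rw [hα₃, MulAut.mul_apply, ht, hdu, hs]; congr 1; simp [ht0])
  refine ⟨th h * (aff 1 (-r))⁻¹ * (aff s 0)⁻¹, φ, ?_⟩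
  rw [← hφ, hα₃, hα₂, hα₁, map_mul, map_mul, map_inv, map_inv, map_inv]
  group

/-! ### The outer automorphism group -/

theorem decomp_unique {g g' : PGL(2, F)} {φ φ' : F ≃+* F}
    (h : diagAut g * fieldAut φ = diagAut g' * fieldAut φ') : φ = φ' := by
  let FA : (F ≃+* F) →* MulAut G2 := MonoidHom.mk' fieldAut fieldAut_mul
  have h' : diagAut (g'⁻¹ * g) * fieldAut (φ * φ'⁻¹) = 1 := by
    show diagAut (g'⁻¹ * g) * FA (φ * φ'⁻¹) = 1
    rw [map_mul, map_inv, map_mul, map_inv,
      show (diagAut g')⁻¹ * diagAut g * (FA φ * (FA φ')⁻¹) = (diagAut g')⁻¹ * (diagAut g * FA φ) * (FA φ')⁻¹ by group,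
      show diagAut g * FA φ = diagAut g' * FA φ' from h]
    group
  exact mul_inv_eq_one.1 (eq_one_of_diag_field _ _ h').2

/-- The field automorphism component of an automorphism. -/
def fieldPartFun (α : MulAut G2) : F ≃+* F := (exists_decomp α).choose_spec.choose

theorem fieldPartFun_eq (g : PGL(2, F)) (φ : F ≃+* F) : fieldPartFun (diagAut g * fieldAut φ) = φ :=
  decomp_unique (exists_decomp (diagAut g * fieldAut φ)).choose_spec.choose_spec.symm

/-- The field automorphism component, as a homomorphism. -/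
def fieldPart : MulAut G2 →* (F ≃+* F) :=
  MonoidHom.mk' fieldPartFun fun α β => by
    obtain ⟨g, φ, rfl⟩ := exists_decomp α
    obtain ⟨h, ψ, rfl⟩ := exists_decomp β
    rw [fieldPartFun_eq, fieldPartFun_eq,
      show diagAut g * fieldAut φ * (diagAut h * fieldAut ψ) = diagAut g * (fieldAut φ * diagAut h) * fieldAut ψ by group,
      fieldAut_comm, ← mul_assoc, ← map_mul, mul_assoc, ← fieldAut_mul, fieldPartFun_eq]

theorem fieldPart_eq (g : PGL(2, F)) (φ : F ≃+* F) : fieldPart (diagAut g * fieldAut φ) = φ := fieldPartFun_eq g φ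

theorem fieldAut_one : fieldAut (1 : F ≃+* F) = 1 :=
  (MonoidHom.mk' fieldAut fieldAut_mul).map_one

theorem fieldPart_eq_one_iff (α : MulAut G2) : fieldPart α = 1 ↔ ∃ g, α = diagAut g := by
  constructor
  · intro h
    obtain ⟨g, φ, rfl⟩ := exists_decomp α
    rw [fieldPart_eq] at h
    exact ⟨g, by rw [h, fieldAut_one, mul_one]⟩
  · rintro ⟨g, rfl⟩
    conv_lhs => rw [← mul_one (diagAut g), ← fieldAut_one]
    exact fieldPart_eq g 1

theorem inn_le_ker : Cfsg.Inn G2 ≤ (fieldPart (F := F)).ker := by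
  rintro _ ⟨x, rfl⟩
  exact (fieldPart_eq_one_iff _).2 ⟨th x, (diagAut_th x).symm⟩

theorem diagAut_injective : Function.Injective (diagAut (F := F)) :=
  (injective_iff_map_eq_one _).2 fun g h => (eq_one_of_diag_field g 1 (by rw [fieldAut_one, mul_one, h])).1

/-- The images of the diagonal automorphisms in the outer automorphism group. -/
def outDiag : PGL(2, F) →* Cfsg.Out G2 := (QuotientGroup.mk' (Cfsg.Inn G2)).comp diagAut

theorem ker_outDiag : (outDiag (F := F)).ker = (th (F := F)).range := by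
  ext g
  rw [MonoidHom.mem_ker, outDiag, MonoidHom.comp_apply, QuotientGroup.mk'_apply, QuotientGroup.eq_one_iff]
  constructor
  · rintro ⟨x, hx⟩
    exact ⟨x, diagAut_injective ((diagAut_th x).trans hx)⟩
  · rintro ⟨x, rfl⟩
    exact ⟨x, (diagAut_th x).symm⟩

theorem card_range_outDiag : Nat.card (outDiag (F := F)).range = Nat.gcd 2 (Fintype.card F - 1) := by
  have h1 := Subgroup.card_eq_card_quotient_mul_card_subgroup (outDiag (F := F)).ker
  rw [Nat.card_congr (QuotientGroup.quotientKerEquivRange (outDiag (F := F))).toEquiv, ker_outDiag,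
    ← Nat.card_congr (MonoidHom.ofInjective th_injective).toEquiv, Dickson.card_PGL2,
    ← SL2.card_PSL2_mul] at h1
  exact (Nat.eq_of_mul_eq_mul_right (by
    haveI : Finite G2 := Finite.of_surjective _ SL2Two.proj_surjective
    exact Nat.card_pos) h1).symm

theorem out_structure {p f : ℕ} [Fact p.Prime] (hf : 1 ≤ f) (hF : Fintype.card F = p ^ f) :
    ∃ φ : Cfsg.Out G2 →* Multiplicative (ZMod f),
      Function.Surjective φ ∧ IsCyclic φ.ker ∧ Nat.card φ.ker = Nat.gcd 2 (p ^ f - 1) := by
  obtain ⟨p', hp'⟩ := CharP.exists F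
  obtain ⟨n, hpp, hn⟩ := FiniteField.card F p'
  obtain rfl : p' = p := (Nat.prime_eq_prime_of_dvd_pow hpp Fact.out
    (hn.symm.trans hF ▸ dvd_pow_self p' n.ne_zero))
  letI := ZMod.algebra F p'
  have hfr : Module.finrank (ZMod p') F = f := by
    have e := Module.card_eq_pow_finrank (K := ZMod p') (V := F)
    rw [hF, ZMod.card] at e
    exact (Nat.pow_right_injective hpp.two_le e).symm
  let r : (F ≃+* F) ≃* (F ≃ₐ[ZMod p'] F) :=
    { toFun := fun φ => AlgEquiv.ofRingEquiv (f := φ) fun x =>
        RingHom.congr_fun (Subsingleton.elim ((φ : F →+* F).comp (algebraMap (ZMod p') F)) (algebraMap (ZMod p') F)) x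
      invFun := fun ψ => ψ.toRingEquiv
      left_inv := fun φ => RingEquiv.ext fun _ => rfl
      right_inv := fun ψ => AlgEquiv.ext fun _ => rfl
      map_mul' := fun _ _ => AlgEquiv.ext fun _ => rfl }
  haveI : IsGalois (ZMod p') F := inferInstance
  have hcyc : IsCyclic (F ≃ₐ[ZMod p'] F) := inferInstance
  have hcard : Nat.card (F ≃ₐ[ZMod p'] F) = f := by rw [IsGalois.card_aut_eq_finrank, hfr]
  let e : (F ≃+* F) ≃* Multiplicative (ZMod f) := r.trans (hcard ▸ (zmodCyclicMulEquiv hcyc).symm)
  let Φ : Cfsg.Out G2 →* (F ≃+* F) := QuotientGroup.lift (Cfsg.Inn G2) fieldPart inn_le_ker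
  refine ⟨e.toMonoidHom.comp Φ, e.surjective.comp ?_, ?_⟩
  · intro ψ
    exact ⟨QuotientGroup.mk (diagAut 1 * fieldAut ψ), fieldPart_eq 1 ψ⟩
  have hk : (e.toMonoidHom.comp Φ).ker = (outDiag (F := F)).range := by
    ext x
    induction x using QuotientGroup.induction_on with | H α =>
    rw [MonoidHom.mem_ker, MonoidHom.comp_apply, MulEquiv.coe_toMonoidHom, MulEquiv.map_eq_one_iff]
    show fieldPart α = 1 ↔ _
    rw [fieldPart_eq_one_iff]
    constructor
    · rintro ⟨g, rfl⟩; exact ⟨g, rfl⟩
    · rintro ⟨g, hg⟩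
      obtain ⟨x, hx⟩ := QuotientGroup.eq.1 hg
      refine ⟨g * th x, ?_⟩
      rw [map_mul, diagAut_th, show MulAut.conj x = (diagAut g)⁻¹ * α from hx, mul_inv_cancel_left]
  rw [hk, ← hF]
  refine ⟨?_, card_range_outDiag⟩
  have hc := card_range_outDiag (F := F)
  rcases (Nat.dvd_prime Nat.prime_two).1 (Nat.gcd_dvd_left 2 (Fintype.card F - 1)) with h | h
  · rw [h] at hc
    haveI := (Nat.card_eq_one_iff_unique.1 hc).1
    infer_instance
  · rw [h] at hc
    haveI : Fact (Nat.Prime 2) := ⟨Nat.prime_two⟩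
    exact isCyclic_of_prime_card hc

end Cfsg.Agent.Classical.PSLTwoAut
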