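import Mathlib
import Cfsg.Prelude.Def_LieTypeDatum
import Cfsg.Agent.Lib.Classical.PSLField
import Cfsg.Agent.Lib.Classical.PSLTwoAut
import Cfsg.Agent.Lib.Classical.Unitary

/-!
Centralisers and class splitting of field and graph-field automorphisms of `PSL_n(F)`, and the
order of `Aut PSL_n(F)`.
-/

set_option autoImplicit false

open Matrix

namespace Cfsg.Agent.PSLFieldCent

open TransvGroup PSLAut PSLMon PSLOut PSLField

/-- The number of classes into which a class splits, as an index. -/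
theorem split_count {A X : Type*} [Group A] [Group X] (φ : A →* X) (K : Subgroup X)
    (hK : K ≤ φ.range) (hN : (K.comap φ).Normal) (x : X) :
    Cfsg.splitClassCount φ.range K x =
      (K.comap φ ⊔ (Subgroup.centralizer {x}).comap φ).index := by
  haveI := hN
  set M := K.comap φ ⊔ (Subgroup.centralizer {x}).comap φ with hM
  have rep : ∀ y : {y : X // Cfsg.IsConjUnder φ.range x y}, ∃ a, y.1 = φ a * x * (φ a)⁻¹ := by
    rintro ⟨y, h, ⟨a, rfl⟩, hy⟩
    exact ⟨a, hy⟩
  choose rp hrp using rep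
  have hcen : ∀ c, c ∈ (Subgroup.centralizer {x}).comap φ ↔ φ c * x * (φ c)⁻¹ = x := fun c => by
    rw [Subgroup.mem_comap, Subgroup.mem_centralizer_singleton_iff, mul_inv_eq_iff_eq_mul]
  refine Nat.card_congr
    { toFun := Quot.lift (fun y => (QuotientGroup.mk (rp y) : A ⧸ M)) ?_
      invFun := Quotient.lift (fun a => Quot.mk _ ⟨φ a * x * (φ a)⁻¹, φ a, ⟨a, rfl⟩, rfl⟩) ?_
      left_inv := ?_
      right_inv := ?_ }
  · rintro y z ⟨k, hk, he⟩
    obtain ⟨l, rfl⟩ := hK hk
    rw [QuotientGroup.eq]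
    have h2 : (rp z)⁻¹ * l * rp y ∈ (Subgroup.centralizer {x}).comap φ := by
      rw [hcen]
      rw [hrp y, hrp z] at he
      calc φ ((rp z)⁻¹ * l * rp y) * x * (φ ((rp z)⁻¹ * l * rp y))⁻¹
          = (φ (rp z))⁻¹ * (φ l * (φ (rp y) * x * (φ (rp y))⁻¹) * (φ l)⁻¹) * φ (rp z) := by
            simp only [map_mul, map_inv]; group
        _ = x := by rw [← he]; group
    have h3 : (rp z)⁻¹ * l⁻¹ * rp z ∈ K.comap φ := by
      have := hN.conj_mem l⁻¹ (inv_mem (show l ∈ K.comap φ from hk)) (rp z)⁻¹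
      rwa [inv_inv] at this
    have h4 := inv_mem (mul_mem (Subgroup.mem_sup_left h3 : _ ∈ M) (Subgroup.mem_sup_right h2))
    convert h4 using 1
    group
  · intro a b hab
    refine Quot.sound ?_
    have hab' : a⁻¹ * b ∈ M := QuotientGroup.leftRel_apply.1 hab
    rw [hM, Subgroup.mem_sup_of_normal_left] at hab'
    obtain ⟨l, hl, c, hc, e⟩ := hab'
    have hb : b = a * l * a⁻¹ * a * c := by rw [← mul_inv_cancel_left a b, ← e]; group
    refine ⟨φ (a * l * a⁻¹), hN.conj_mem l hl a, ?_⟩
    show φ b * x * (φ b)⁻¹ = φ (a * l * a⁻¹) * (φ a * x * (φ a)⁻¹) * (φ (a * l * a⁻¹))⁻¹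
    conv_rhs => rw [← (hcen c).1 hc]
    rw [hb]
    simp only [map_mul, map_inv]
    group
  · intro y
    induction y using Quot.ind with
    | _ y => exact congrArg (Quot.mk _) (Subtype.ext (hrp y).symm)
  · intro a
    induction a using QuotientGroup.induction_on with
    | H a =>
      refine QuotientGroup.eq.2 (Subgroup.mem_sup_right ((hcen _).2 ?_))
      have := hrp ⟨φ a * x * (φ a)⁻¹, φ a, ⟨a, rfl⟩, rfl⟩
      simp only at this
      rw [map_mul, map_inv]
      generalize φ (rp _) = w at this ⊢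
      calc _ = w⁻¹ * (φ a * x * (φ a)⁻¹) * w := by group
        _ = x := by rw [this]; group

/-- The index of a join in a cyclic group. -/
theorem index_sup_cyclic {Z : Type*} [CommGroup Z] [IsCyclic Z] (H K : Subgroup Z) :
    (H ⊔ K).index = Nat.gcd H.index K.index := by
  refine Nat.dvd_antisymm (Nat.dvd_gcd (Subgroup.index_dvd_of_le le_sup_left)
    (Subgroup.index_dvd_of_le le_sup_right)) ?_
  obtain ⟨g, hg⟩ := IsCyclic.exists_generator (α := Z)
  have hidx : ∀ S : Subgroup Z, S.index = orderOf (QuotientGroup.mk g : Z ⧸ S) := fun S => by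
    rw [Subgroup.index]
    refine (orderOf_eq_card_of_forall_mem_zpowers fun y => ?_).symm
    induction y using QuotientGroup.induction_on with
    | H z =>
      obtain ⟨k, rfl⟩ := Subgroup.mem_zpowers_iff.1 (hg z)
      exact ⟨k, rfl⟩
  have hdiv : ∀ (S : Subgroup Z) (k : ℤ), g ^ k ∈ S → (S.index : ℤ) ∣ k := by
    intro S k hk
    rw [hidx, orderOf_dvd_iff_zpow_eq_one, ← QuotientGroup.mk_zpow, QuotientGroup.eq_one_iff]
    exact hk
  have hpow : g ^ (H ⊔ K).index ∈ H ⊔ K := (H ⊔ K).pow_index_mem g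
  obtain ⟨a, ha, b, hb, e⟩ := Subgroup.mem_sup.1 hpow
  obtain ⟨k, rfl⟩ := Subgroup.mem_zpowers_iff.1 (hg a)
  obtain ⟨l, rfl⟩ := Subgroup.mem_zpowers_iff.1 (hg b)
  have e' : g ^ (k + l - ((H ⊔ K).index : ℤ)) = 1 := by
    rw [_root_.zpow_sub, _root_.zpow_add, _root_.zpow_natCast, e, mul_inv_cancel]
  have hk : (Nat.gcd H.index K.index : ℤ) ∣ k :=
    (Int.natCast_dvd_natCast.2 (Nat.gcd_dvd_left _ _)).trans (hdiv H k ha)
  have hl : (Nat.gcd H.index K.index : ℤ) ∣ l :=
    (Int.natCast_dvd_natCast.2 (Nat.gcd_dvd_right _ _)).trans (hdiv K l hb)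
  have ho : (Nat.gcd H.index K.index : ℤ) ∣ k + l - ((H ⊔ K).index : ℤ) := by
    refine (Int.natCast_dvd_natCast.2 ((Nat.gcd_dvd_left _ _).trans ?_)).trans
      (orderOf_dvd_iff_zpow_eq_one.2 e')
    rw [hidx]
    exact orderOf_map_dvd (QuotientGroup.mk' H) g
  have := Int.dvd_sub (dvd_add hk hl) ho
  rw [sub_sub_cancel] at this
  exact Int.natCast_dvd_natCast.1 this

variable {F : Type*} [Field F] {n : ℕ}

theorem inn_comap (h2 : 2 ≤ n) [Finite F] :
    (Cfsg.Inn (ProjectiveSpecialLinearGroup (Fin n) F)).comap (dg F n) =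
      (powMonoidHom n : Fˣ →* Fˣ).range.comap GeneralLinearGroup.det := by
  rw [← ker_outDiag h2]
  ext g
  rw [Subgroup.mem_comap, MonoidHom.mem_ker, outDiag_apply, QuotientGroup.eq_one_iff]
  rfl

theorem inn_le_range : Cfsg.Inn (ProjectiveSpecialLinearGroup (Fin n) F) ≤ (dg F n).range := by
  rintro _ ⟨x, rfl⟩
  obtain ⟨G, rfl⟩ := QuotientGroup.mk_surjective x
  exact ⟨_, (conj_eq_semi G).symm⟩

theorem index_pow [Finite F] :
    (powMonoidHom n : Fˣ →* Fˣ).range.index = Nat.gcd n (Nat.card F - 1) := by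
  have h1 := (powMonoidHom n : Fˣ →* Fˣ).range.card_mul_index
  have h2 := (powMonoidHom n : Fˣ →* Fˣ).ker.card_mul_index
  rw [Subgroup.index_ker, IsCyclic.card_powMonoidHom_ker] at h2
  rw [← h2, mul_comm (Nat.gcd _ _)] at h1
  rw [Nat.eq_of_mul_eq_mul_left Nat.card_pos h1, Nat.card_units, Nat.gcd_comm]

/-- Class splitting in terms of determinants. -/
theorem split_det [Finite F] (h2 : 2 ≤ n) (x : MulAut (ProjectiveSpecialLinearGroup (Fin n) F)) :
    Cfsg.splitClassCount (Cfsg.inndiagPSL n F) (Cfsg.Inn (ProjectiveSpecialLinearGroup (Fin n) F)) x =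
      ((powMonoidHom n : Fˣ →* Fˣ).range ⊔
        ((Subgroup.centralizer {x}).comap (dg F n)).map GeneralLinearGroup.det).index := by
  haveI : Nonempty (Fin n) := ⟨⟨0, by omega⟩⟩
  rw [inndiag_eq, split_count (dg F n) _ inn_le_range
    (by rw [inn_comap h2]; exact Subgroup.Normal.comap inferInstance _) x, inn_comap h2]
  set P := (powMonoidHom n : Fˣ →* Fˣ).range
  set C := (Subgroup.centralizer {x}).comap (dg F n)
  have hsurj : Function.Surjective (GeneralLinearGroup.det : GL (Fin n) F →* Fˣ) :=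
    GeneralLinearGroup.det_surjective
  have e : P.comap GeneralLinearGroup.det ⊔ C =
      (P ⊔ C.map GeneralLinearGroup.det).comap GeneralLinearGroup.det := by
    have h3 : (P ⊔ C.map GeneralLinearGroup.det) = (P.comap GeneralLinearGroup.det ⊔ C).map
        GeneralLinearGroup.det := by
      rw [Subgroup.map_sup, Subgroup.map_comap_eq_self_of_surjective hsurj]
    rw [h3, Subgroup.comap_map_eq_self]
    exact le_sup_of_le_left (fun g hg => by rw [Subgroup.mem_comap, MonoidHom.mem_ker.1 hg]; exact one_mem _)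
  rw [e, Subgroup.index_comap_of_surjective _ hsurj]

theorem det_conj_map (B : GL (Fin n) F) (z : MulAut (ProjectiveSpecialLinearGroup (Fin n) F)) :
    ((Subgroup.centralizer {dg F n B * z * (dg F n B)⁻¹}).comap (dg F n)).map GeneralLinearGroup.det =
      ((Subgroup.centralizer {z}).comap (dg F n)).map GeneralLinearGroup.det := by
  ext u
  simp only [Subgroup.mem_map, Subgroup.mem_comap, Subgroup.mem_centralizer_singleton_iff]
  constructor
  · rintro ⟨g, hg, rfl⟩
    refine ⟨B⁻¹ * g * B, ?_, by simp [mul_comm]⟩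
    simp only [map_mul, map_inv]
    have := congrArg (fun w => (dg F n B)⁻¹ * w * dg F n B) hg
    simp only [mul_assoc, inv_mul_cancel_left, inv_mul_cancel, mul_one] at this ⊢
    exact this
  · rintro ⟨g, hg, rfl⟩
    refine ⟨B * g * B⁻¹, ?_, by simp [mul_comm]⟩
    simp only [map_mul, map_inv]
    calc dg F n B * dg F n g * (dg F n B)⁻¹ * (dg F n B * z * (dg F n B)⁻¹)
        = dg F n B * (dg F n g * z) * (dg F n B)⁻¹ := by group
      _ = _ := by rw [hg]; group

/-- Centralisers in the inner-diagonal group of conjugate automorphisms. -/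
noncomputable def centConj (B : GL (Fin n) F) (z : MulAut (ProjectiveSpecialLinearGroup (Fin n) F)) :
    ↥((dg F n).range ⊓ Subgroup.centralizer {z}) ≃*
      ↥((dg F n).range ⊓ Subgroup.centralizer {dg F n B * z * (dg F n B)⁻¹}) :=
  ((MulAut.conj (dg F n B)).subgroupMap _).trans (MulEquiv.subgroupCongr (by
    ext w
    rw [Subgroup.mem_map]
    simp only [Subgroup.mem_inf, Subgroup.mem_centralizer_singleton_iff, MonoidHom.coe_coe,
      MulAut.conj_apply]
    constructor
    · rintro ⟨v, ⟨hv, hvz⟩, rfl⟩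
      refine ⟨mul_mem (mul_mem ⟨B, rfl⟩ hv) (inv_mem ⟨B, rfl⟩), ?_⟩
      calc _ = dg F n B * (v * z) * (dg F n B)⁻¹ := by group
        _ = _ := by rw [hvz]; group
    · rintro ⟨hw, hwz⟩
      refine ⟨(dg F n B)⁻¹ * w * dg F n B, ⟨mul_mem (mul_mem (inv_mem ⟨B, rfl⟩) hw) ⟨B, rfl⟩, ?_⟩,
        by group⟩
      calc _ = (dg F n B)⁻¹ * (w * (dg F n B * z * (dg F n B)⁻¹)) * dg F n B := by group
        _ = _ := by rw [hwz]; group))

/-- The fixed field of a field automorphism. -/
theorem exists_fixed [Finite F] (σ : F ≃+* F) :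
    ∃ E : Subfield F, (∀ a, a ∈ E ↔ σ a = a) ∧ Nat.card E ^ orderOf σ = Nat.card F := by
  haveI : Finite (F ≃+* F) := Finite.of_injective (fun φ => (φ : F → F)) DFunLike.coe_injective
  let G : Subgroup (RingAut F) := Subgroup.zpowers σ
  haveI : Fintype G := Fintype.ofFinite G
  refine ⟨FixedPoints.subfield G F, fun a => ⟨fun h => h ⟨σ, Subgroup.mem_zpowers σ⟩, fun h => ?_⟩, ?_⟩
  · intro m
    have hst : (Subgroup.zpowers σ : Subgroup (RingAut F)) ≤ MulAction.stabilizer (RingAut F) a :=
      Subgroup.zpowers_le.2 h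
    exact hst m.2
  · have e := Module.natCard_eq_pow_finrank (K := FixedPoints.subfield G F) (V := F)
    rw [e, FixedPoints.finrank_eq_card, ← Nat.card_eq_fintype_card, Nat.card_zpowers]

/-- An embedding of a field of the size of the fixed field. -/
theorem exists_fixed_emb [Fintype F] {σ : F ≃+* F} {p f r : ℕ} [hp : Fact p.Prime]
    (hF : Fintype.card F = p ^ f) (hr : 0 < r) (hord : orderOf σ = r) (F₀ : Type*) [Field F₀]
    [Fintype F₀] (hF₀ : Fintype.card F₀ = p ^ (f / r)) :
    r ∣ f ∧ ∃ i : F₀ →+* F, ∀ a, (∃ b, i b = a) ↔ σ a = a := by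
  obtain ⟨E, hmem, hcard⟩ := exists_fixed σ
  rw [hord, Nat.card_eq_fintype_card (α := F), hF] at hcard
  obtain ⟨k, -, hk⟩ := (Nat.dvd_prime_pow hp.out).1 (show Nat.card E ∣ p ^ f from
    hcard ▸ dvd_pow_self _ hr.ne')
  rw [hk, ← pow_mul] at hcard
  have hkf := Nat.pow_right_injective hp.out.two_le hcard
  refine ⟨⟨k, by rw [← hkf, mul_comm]⟩, ?_⟩
  letI : Fintype E := Fintype.ofFinite E
  have hcE : Fintype.card F₀ = Fintype.card E := by
    rw [hF₀, ← Nat.card_eq_fintype_card, hk, ← hkf, Nat.mul_div_cancel _ hr]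
  refine ⟨E.subtype.comp (FiniteField.ringEquivOfCardEq hcE).toRingHom, fun a => ?_⟩
  rw [← hmem]
  constructor
  · rintro ⟨b, rfl⟩
    exact (FiniteField.ringEquivOfCardEq hcE b).2
  · intro ha
    exact ⟨(FiniteField.ringEquivOfCardEq hcE).symm ⟨a, ha⟩, by simp⟩

theorem dg_eq_one_iff (h2 : 2 ≤ n) {g : GL (Fin n) F} :
    dg F n g = 1 ↔ ∃ c : Fˣ, g = GeneralLinearGroup.scalar (Fin n) c :=
  ⟨fun h => (eq_one_of_semi_eq_one h2 h).2, fun ⟨c, hc⟩ => by rw [hc, dg_scalar]⟩

theorem scalar_coe (c : Fˣ) (g : GL (Fin n) F) :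
    ((GeneralLinearGroup.scalar (Fin n) c * g : GL (Fin n) F) : Matrix (Fin n) (Fin n) F) =
      (c : F) • (g : Matrix (Fin n) (Fin n) F) := by
  rw [Units.val_mul, GeneralLinearGroup.coe_scalar, scalar_apply, ← smul_one_eq_diagonal,
    smul_mul_assoc, one_mul]

theorem det_scalar (c : Fˣ) : GeneralLinearGroup.det (GeneralLinearGroup.scalar (Fin n) c) = c ^ n := by
  refine Units.ext ?_
  show (GeneralLinearGroup.scalar (Fin n) c : Matrix (Fin n) (Fin n) F).det = (c : F) ^ n
  rw [GeneralLinearGroup.coe_scalar, scalar_apply, det_diagonal, Finset.prod_const,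
    Finset.card_univ, Fintype.card_fin]

theorem gm_scalar (σ : F ≃+* F) (c : Fˣ) :
    gm σ (GeneralLinearGroup.scalar (Fin n) c) =
      GeneralLinearGroup.scalar (Fin n) (Units.map σ.toRingHom.toMonoidHom c) := by
  refine Units.ext ?_
  rw [gm_coe, GeneralLinearGroup.coe_scalar, GeneralLinearGroup.coe_scalar, scalar_apply,
    scalar_apply, diagonal_map (map_zero σ)]
  rfl

/-- Matrices commuting with a field automorphism. -/
theorem field_cent [Finite F] (h2 : 2 ≤ n) {σ : F ≃+* F} {r : ℕ} (hr : 0 < r) (hord : orderOf σ = r)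
    {F₀ : Type*} [Field F₀] (i : F₀ →+* F) (hi : ∀ a, (∃ b, i b = a) ↔ σ a = a) (g : GL (Fin n) F) :
    g ∈ (Subgroup.centralizer {semi 1 σ}).comap (dg F n) ↔
      ∃ (c : Fˣ) (A : GL (Fin n) F₀), g = GeneralLinearGroup.scalar (Fin n) c * GeneralLinearGroup.map i A := by
  haveI : Nonempty (Fin n) := ⟨⟨0, by omega⟩⟩
  rw [Subgroup.mem_comap, Subgroup.mem_centralizer_singleton_iff, dg_apply, semi_mul', semi_mul',
    gm_one, mul_one, one_mul, one_mul, mul_one, semi_eq_iff h2, and_iff_right rfl]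
  constructor
  · rintro ⟨c, hc⟩
    have hc' : ∀ a b, σ ((g : Matrix (Fin n) (Fin n) F) a b) = c * (g : Matrix (Fin n) (Fin n) F) a b := by
      intro a b
      have := congrArg (fun X : GL (Fin n) F => (X : Matrix (Fin n) (Fin n) F) a b) hc
      simp only [scalar_coe, Matrix.smul_apply, smul_eq_mul, gm_coe, map_apply] at this
      exact this
    have hiter : ∀ k a b, (σ ^ k) ((g : Matrix (Fin n) (Fin n) F) a b) =
        nrm σ k c * (g : Matrix (Fin n) (Fin n) F) a b := by
      intro k
      induction k with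
      | zero => intro a b; simp [nrm]
      | succ k ih =>
        intro a b
        rw [pow_succ', RingAut.mul_apply, ih, map_mul, hc', nrm_succ]
        ring
    obtain ⟨a, b, hab⟩ : ∃ a b, (g : Matrix (Fin n) (Fin n) F) a b ≠ 0 := by
      by_contra hcon
      push Not at hcon
      exact g.ne_zero (Matrix.ext hcon)
    have hn1 : nrm σ r c = 1 := by
      have := hiter r a b
      rw [← hord, pow_orderOf_eq_one, hord, RingAut.one_apply] at this
      exact mul_right_cancel₀ hab (this.symm.trans (one_mul _).symm)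
    obtain ⟨x, hx, hxc⟩ := exists_div hr hord hn1
    have hfix : ∀ a b, ∃ y, i y = x * (g : Matrix (Fin n) (Fin n) F) a b := fun a b =>
      (hi _).2 (by rw [map_mul, hc']; linear_combination (g : Matrix (Fin n) (Fin n) F) a b * hxc)
    choose y hy using hfix
    have hM : (Matrix.of y).map i = x • (g : Matrix (Fin n) (Fin n) F) := Matrix.ext fun a b => hy a b
    have hd : (Matrix.of y).det ≠ 0 := fun h => by
      have e := congrArg det hM
      rw [← RingHom.mapMatrix_apply, ← RingHom.map_det, h, map_zero, det_smul] at e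
      exact mul_ne_zero (pow_ne_zero _ hx) (GeneralLinearGroup.det g).ne_zero e.symm
    refine ⟨(Units.mk0 x hx)⁻¹, GeneralLinearGroup.mkOfDetNeZero _ hd, Units.ext ?_⟩
    rw [scalar_coe]
    show _ = ((Units.mk0 x hx)⁻¹ : Fˣ).val • (Matrix.of y).map i
    rw [hM, smul_smul, Units.val_inv_eq_inv_val, Units.val_mk0, inv_mul_cancel₀ hx, one_smul]
  · rintro ⟨c, A, rfl⟩
    refine ⟨Units.map σ.toRingHom.toMonoidHom c * c⁻¹, ?_⟩
    rw [map_mul (gm σ), gm_scalar, ← mul_assoc, ← map_mul, inv_mul_cancel_right]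
    congr 1
    exact Units.ext (Matrix.ext fun a b => (hi _).1 ⟨_, rfl⟩)

/-- Field automorphisms of prime order: centraliser and class splitting. -/
theorem field_main [Fintype F] (h2 : 2 ≤ n) {p f : ℕ} [Fact p.Prime] (hF : Fintype.card F = p ^ f)
    {x : MulAut (ProjectiveSpecialLinearGroup (Fin n) F)} (hx : Cfsg.IsFieldAutClassPSL x) {r : ℕ}
    (hr : r.Prime) (hxr : orderOf x = r) (F₀ : Type*) [Field F₀] [Fintype F₀]
    (hF₀ : Fintype.card F₀ = p ^ (f / r)) :
    r ∣ f ∧ Nonempty (↥(Cfsg.inndiagPSL n F ⊓ Subgroup.centralizer {x}) ≃*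
      Matrix.ProjGenLinGroup (Fin n) F₀) ∧
    Cfsg.splitClassCount (Cfsg.inndiagPSL n F) (Cfsg.Inn (ProjectiveSpecialLinearGroup (Fin n) F)) x =
      Nat.gcd n ((p ^ f - 1) / (p ^ (f / r) - 1)) := by
  haveI : Nonempty (Fin n) := ⟨⟨0, by omega⟩⟩
  obtain ⟨g, σ, hσ, rfl⟩ := field_form h2 hx
  have hp' := pow_orderOf_eq_one (semi g σ)
  rw [hxr] at hp'
  have hord : orderOf σ = r := (hr.eq_one_or_self_of_dvd _
    (orderOf_dvd_of_pow_eq_one (sigma_pow h2 hp'))).resolve_left fun e => hσ (orderOf_eq_one_iff.1 e)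
  obtain ⟨B, hB⟩ := exists_conj_field h2 hr hσ hp'
  obtain ⟨hrf, i, hi⟩ := exists_fixed_emb hF hr.pos hord F₀ hF₀
  rw [hB]
  refine ⟨hrf, ⟨?_⟩, ?_⟩
  · rw [inndiag_eq]
    refine (centConj B (semi 1 σ)).symm.trans (MulEquiv.symm ?_)
    let Ψ : GL (Fin n) F₀ →* ↥((dg F n).range ⊓ Subgroup.centralizer {semi 1 σ}) :=
      ((dg F n).comp (GeneralLinearGroup.map i)).codRestrict _ fun A =>
        ⟨⟨_, rfl⟩, (field_cent h2 hr.pos hord i hi _).2 ⟨1, A, by rw [map_one, one_mul]⟩⟩
    have hsurj : Function.Surjective Ψ := by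
      rintro ⟨w, ⟨h, rfl⟩, hw⟩
      obtain ⟨c, A, rfl⟩ := (field_cent h2 hr.pos hord i hi h).1 hw
      refine ⟨A, Subtype.ext ?_⟩
      show dg F n (GeneralLinearGroup.map i A) = dg F n (_ * _)
      rw [map_mul, dg_scalar, one_mul]
    have hker : Ψ.ker = Subgroup.center (GL (Fin n) F₀) := by
      ext A
      rw [MonoidHom.mem_ker, GeneralLinearGroup.center_eq_range_scalar]
      constructor
      · intro hA
        obtain ⟨c, hc⟩ := (dg_eq_one_iff h2).1 (congrArg Subtype.val hA)
        have hc' : ∀ a b, i ((A : Matrix (Fin n) (Fin n) F₀) a b) = if a = b then (c : F) else 0 := by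
          intro a b
          have := congrArg (fun X : GL (Fin n) F => (X : Matrix (Fin n) (Fin n) F) a b) hc
          simp only [GeneralLinearGroup.coe_scalar, scalar_apply, diagonal_apply] at this
          exact this
        let z : Fin n := ⟨0, by omega⟩
        have hz : (A : Matrix (Fin n) (Fin n) F₀) z z ≠ 0 := fun h => by
          have := hc' z z
          rw [h, map_zero, if_pos rfl] at this
          exact c.ne_zero this.symm
        refine ⟨Units.mk0 _ hz, Units.ext (Matrix.ext fun a b => i.injective ?_)⟩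
        rw [GeneralLinearGroup.coe_scalar, scalar_apply, diagonal_apply, apply_ite i, map_zero,
          Units.val_mk0, hc' z z, if_pos rfl, hc' a b]
      · rintro ⟨c, rfl⟩
        refine Subtype.ext ((dg_eq_one_iff h2).2 ⟨Units.map i.toMonoidHom c, Units.ext ?_⟩)
        show ((GeneralLinearGroup.scalar (Fin n) c : GL (Fin n) F₀) : Matrix (Fin n) (Fin n) F₀).map i = _
        rw [GeneralLinearGroup.coe_scalar, GeneralLinearGroup.coe_scalar, scalar_apply, scalar_apply,
          diagonal_map (map_zero i)]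
        rfl
    exact (QuotientGroup.quotientMulEquivOfEq hker.symm).trans
      (QuotientGroup.quotientKerEquivOfSurjective Ψ hsurj)
  · rw [split_det h2, det_conj_map]
    let R : Subgroup Fˣ := (Units.map i.toMonoidHom).range
    have e : (powMonoidHom n : Fˣ →* Fˣ).range ⊔
        ((Subgroup.centralizer {semi 1 σ}).comap (dg F n)).map GeneralLinearGroup.det =
        (powMonoidHom n : Fˣ →* Fˣ).range ⊔ R := by
      refine le_antisymm (sup_le le_sup_left ?_) (sup_le le_sup_left ?_)
      · rintro _ ⟨h, hh, rfl⟩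
        obtain ⟨c, A, rfl⟩ := (field_cent h2 hr.pos hord i hi h).1 hh
        rw [map_mul, det_scalar]
        refine mul_mem (Subgroup.mem_sup_left ⟨c, rfl⟩) (Subgroup.mem_sup_right ⟨GeneralLinearGroup.det A, ?_⟩)
        exact (GeneralLinearGroup.map_det i A).symm
      · rintro _ ⟨u, rfl⟩
        obtain ⟨A, rfl⟩ := GeneralLinearGroup.det_surjective (n := Fin n) u
        refine Subgroup.mem_sup_right ⟨GeneralLinearGroup.map i A,
          (field_cent h2 hr.pos hord i hi _).2 ⟨1, A, by rw [map_one, one_mul]⟩, ?_⟩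
        exact GeneralLinearGroup.map_det i A
    rw [e, index_sup_cyclic, index_pow, Nat.card_eq_fintype_card, hF]
    have hR : Nat.card R = p ^ (f / r) - 1 := by
      have hinj : Function.Injective (Units.map i.toMonoidHom) := fun a b h =>
        Units.ext (i.injective (congrArg Units.val h))
      rw [← Nat.card_congr (MonoidHom.ofInjective hinj).toEquiv, Nat.card_units,
        Nat.card_eq_fintype_card, hF₀]
    have h5 := R.card_mul_index
    rw [hR, Nat.card_units, Nat.card_eq_fintype_card, hF] at h5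
    have hpos : 0 < p ^ (f / r) - 1 := hR ▸ Nat.card_pos
    rw [← Nat.div_eq_of_eq_mul_right hpos h5.symm, Nat.gcd_assoc]
    congr 1
    exact Nat.gcd_eq_right ⟨p ^ (f / r) - 1, by rw [← h5]; rw [Nat.mul_div_cancel_left _ hpos, mul_comm]⟩

/-! ### Graph-field automorphisms -/

/-- Inverse transpose followed by the field automorphism. -/
def th (σ : F ≃+* F) (g : GL (Fin n) F) : GL (Fin n) F := gm σ (ct g)

theorem ct_mul (g h : GL (Fin n) F) : ct (g * h) = ct g * ct h := by
  refine Units.ext ?_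
  show (((g * h)⁻¹ : GL (Fin n) F) : Matrix (Fin n) (Fin n) F)ᵀ =
    ((g⁻¹ : GL (Fin n) F) : Matrix (Fin n) (Fin n) F)ᵀ * ((h⁻¹ : GL (Fin n) F) : Matrix (Fin n) (Fin n) F)ᵀ
  rw [_root_.mul_inv_rev, Units.val_mul, transpose_mul]

theorem ct_scalar (c : Fˣ) : ct (GeneralLinearGroup.scalar (Fin n) c) = GeneralLinearGroup.scalar (Fin n) c⁻¹ := by
  refine Units.ext ?_
  show ((((GeneralLinearGroup.scalar (Fin n) c)⁻¹ : GL (Fin n) F)) : Matrix (Fin n) (Fin n) F)ᵀ = _
  rw [← map_inv, GeneralLinearGroup.coe_scalar, scalar_apply, diagonal_transpose]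

theorem th_scalar (σ : F ≃+* F) (c : Fˣ) (g : GL (Fin n) F) :
    th σ (GeneralLinearGroup.scalar (Fin n) c * g) =
      GeneralLinearGroup.scalar (Fin n) (Units.map σ.toRingHom.toMonoidHom c)⁻¹ * th σ g := by
  rw [th, ct_mul, map_mul, ct_scalar, gm_scalar, map_inv, th]

theorem th_th {σ : F ≃+* F} (hσ2 : σ * σ = 1) (g : GL (Fin n) F) : th σ (th σ g) = g := by
  refine Units.ext (Matrix.ext fun a b => ?_)
  exact RingEquiv.congr_fun hσ2 _

theorem det_th (σ : F ≃+* F) (g : GL (Fin n) F) :
    GeneralLinearGroup.det (th σ g) =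
      (Units.map σ.toRingHom.toMonoidHom (GeneralLinearGroup.det g))⁻¹ := by
  rw [th, gm, GeneralLinearGroup.map_det, ← map_inv, ← map_inv]
  congr 1
  refine Units.ext ?_
  show ((g⁻¹ : GL (Fin n) F) : Matrix (Fin n) (Fin n) F)ᵀ.det = _
  rw [det_transpose]
  rfl

/-- Matrices commuting with the standard graph-field automorphism. -/
theorem graph_cent [Finite F] (h2 : 2 ≤ n) {σ : F ≃+* F} (hσ : σ ≠ 1) (hσ2 : σ * σ = 1)
    (g : GL (Fin n) F) :
    g ∈ (Subgroup.centralizer {semi 1 σ * it}).comap (dg F n) ↔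
      ∃ (c : Fˣ) (u : GL (Fin n) F), th σ u = u ∧ g = GeneralLinearGroup.scalar (Fin n) c * u := by
  haveI : Nonempty (Fin n) := ⟨⟨0, by omega⟩⟩
  rw [Subgroup.mem_comap, Subgroup.mem_centralizer_singleton_iff, dg_apply, ← mul_assoc, semi_mul',
    mul_assoc (semi 1 σ), it_semi, ← mul_assoc, semi_mul', mul_left_inj, gm_one, mul_one, one_mul,
    one_mul, mul_one, semi_eq_iff h2, and_iff_right rfl]
  constructor
  · rintro ⟨c, hc⟩
    have hc' : th σ g = GeneralLinearGroup.scalar (Fin n) c * g := hc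
    have hcc : Units.map σ.toRingHom.toMonoidHom c = c := by
      have e := congrArg (th σ) hc'
      rw [th_th hσ2, th_scalar, hc', ← mul_assoc, ← map_mul] at e
      have e2 : GeneralLinearGroup.scalar (Fin n) ((Units.map σ.toRingHom.toMonoidHom c)⁻¹ * c) = 1 :=
        mul_eq_right.1 e.symm
      have e3 := congrArg (fun X : GL (Fin n) F =>
        (X : Matrix (Fin n) (Fin n) F) ⟨0, by omega⟩ ⟨0, by omega⟩) e2
      simp only [GeneralLinearGroup.coe_scalar, scalar_apply, diagonal_apply_eq, Units.val_one,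
        one_apply_eq] at e3
      exact inv_mul_eq_one.1 (Units.ext e3)
    obtain ⟨a, ha, hac⟩ := exists_nrm two_pos (orderOf_eq_prime (by rw [sq, hσ2]) hσ) c.ne_zero
      (congrArg Units.val hcc)
    rw [show (2 : ℕ) = 0 + 1 + 1 from rfl, nrm_succ, nrm_succ] at hac
    simp [nrm] at hac
    refine ⟨(Units.mk0 a ha)⁻¹, GeneralLinearGroup.scalar (Fin n) (Units.mk0 a ha) * g, ?_,
      by rw [map_inv, inv_mul_cancel_left]⟩
    rw [th_scalar, hc', ← mul_assoc, ← map_mul]
    congr 2
    refine Units.ext ?_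
    rw [Units.val_mul, Units.val_inv_eq_inv_val, Units.coe_map, Units.val_mk0, ← hac]
    show (σ a)⁻¹ * (a * σ a) = a
    rw [mul_comm a, inv_mul_cancel_left₀ (by simpa using ha)]
  · rintro ⟨c, u, hu, rfl⟩
    refine ⟨(Units.map σ.toRingHom.toMonoidHom c)⁻¹ * c⁻¹, ?_⟩
    show th σ _ = _
    rw [th_scalar, hu, ← mul_assoc, ← map_mul, inv_mul_cancel_right]

theorem mem_GU [Fintype F] {q : ℕ} (hq : Fintype.card F = q ^ 2) {σ : F ≃+* F}
    (hσ2 : σ * σ = 1) (hpow : ∀ a, σ a = a ^ q) (u : GL (Fin n) F) :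
    u ∈ Cfsg.GU n F q ↔ th σ u = u := by
  have h1 : u ∈ Cfsg.GU n F q ↔
      (u : Matrix (Fin n) (Fin n) F)ᵀ * (u : Matrix (Fin n) (Fin n) F).map σ = 1 := by
    rw [Classical.Unitary.mem_GU_iff hq, ← Matrix.ext_iff]
    refine forall_congr' fun i => forall_congr' fun j => ?_
    simp only [Cfsg.hermForm, ← hpow, mul_apply, transpose_apply, map_apply, one_apply]
  have h2 : th σ u = u ↔ ct u = gm σ u := by
    constructor
    · intro h
      conv_rhs => rw [← h]
      rw [th, gm_gm, hσ2, gm_one]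
    · intro h
      rw [th, h, gm_gm, hσ2, gm_one]
  rw [h1, h2]
  constructor
  · intro h
    refine Units.ext ?_
    show ((u⁻¹ : GL (Fin n) F) : Matrix (Fin n) (Fin n) F)ᵀ = _
    rw [gm_coe]
    calc ((u⁻¹ : GL (Fin n) F) : Matrix (Fin n) (Fin n) F)ᵀ
        = ((u⁻¹ : GL (Fin n) F) : Matrix (Fin n) (Fin n) F)ᵀ * ((u : Matrix (Fin n) (Fin n) F)ᵀ *
            (u : Matrix (Fin n) (Fin n) F).map σ) := by rw [h, mul_one]
      _ = _ := by rw [← mul_assoc, ← transpose_mul, Units.mul_inv, transpose_one, one_mul]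
  · intro h
    rw [← gm_coe, ← h]
    show (u : Matrix (Fin n) (Fin n) F)ᵀ * ((u⁻¹ : GL (Fin n) F) : Matrix (Fin n) (Fin n) F)ᵀ = 1
    rw [← transpose_mul, Units.inv_mul, transpose_one]

/-- Involutory graph-field automorphisms. -/
theorem graphField_main [Fintype F] (h3 : 3 ≤ n) {p f : ℕ} [hp : Fact p.Prime]
    (hF : Fintype.card F = p ^ f) {x : MulAut (ProjectiveSpecialLinearGroup (Fin n) F)}
    (hx : Cfsg.IsGraphFieldAutClassPSL x) (hx2 : orderOf x = 2) :
    Even f ∧ (∀ y : MulAut (ProjectiveSpecialLinearGroup (Fin n) F),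
      Cfsg.IsGraphFieldAutClassPSL y → orderOf y = 2 → Cfsg.IsConjUnder (Cfsg.inndiagPSL n F) x y) ∧
    Nonempty (↥(Cfsg.inndiagPSL n F ⊓ Subgroup.centralizer {x}) ≃* Cfsg.PGU n F (p ^ (f / 2))) ∧
    Cfsg.splitClassCount (Cfsg.inndiagPSL n F) (Cfsg.Inn (ProjectiveSpecialLinearGroup (Fin n) F)) x =
      Nat.gcd n (p ^ (f / 2) - 1) := by
  haveI : Nonempty (Fin n) := ⟨⟨0, by omega⟩⟩
  have h2 : 2 ≤ n := by omega
  obtain ⟨g, σ, hσ, rfl⟩ := graphField_form h2 hx
  have hp' := pow_orderOf_eq_one (semi g σ * it)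
  rw [hx2] at hp'
  obtain ⟨-, hσ2, B, hB⟩ := exists_conj_graphField h3 Nat.prime_two hσ hp'
  have hord : orderOf σ = 2 := orderOf_eq_prime (by rw [sq, hσ2]) hσ
  obtain ⟨E, hmem, hcard⟩ := exists_fixed σ
  rw [hord, Nat.card_eq_fintype_card (α := F), hF] at hcard
  obtain ⟨k, -, hk⟩ := (Nat.dvd_prime_pow hp.out).1 (show Nat.card E ∣ p ^ f from
    hcard ▸ dvd_pow_self _ two_ne_zero)
  rw [hk, ← pow_mul] at hcard
  have hkf := Nat.pow_right_injective hp.out.two_le hcard
  have hk2 : f / 2 = k := by omega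
  rw [hk2]
  have hq : Fintype.card F = (p ^ k) ^ 2 := by rw [hF, ← pow_mul, hkf]
  letI : Fintype E := Fintype.ofFinite E
  have hpowE : ∀ a : F, σ a = a → a ^ p ^ k = a := fun a ha => by
    have := congrArg Subtype.val (FiniteField.pow_card (⟨a, (hmem a).2 ha⟩ : E))
    rwa [← Nat.card_eq_fintype_card, hk, SubmonoidClass.coe_pow] at this
  have hσσ : ∀ a, σ (σ a) = a := fun a => RingEquiv.congr_fun hσ2 a
  obtain ⟨Φ, hΦ, -, -⟩ := Classical.Unitary.exists_frob hq
  have hk1 : 1 < p ^ k := Classical.Unitary.one_lt_q hq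
  have hfix : ∀ a, Φ a = a → σ a = a := by
    intro a ha
    classical
    by_contra hne
    have hS : (Finset.univ.filter fun z : F => σ z = z) ⊂ Finset.univ.filter fun z : F => z ^ p ^ k = z := by
      refine Finset.ssubset_iff_subset_ne.2 ⟨fun z hz => by simp_all, fun h => hne ?_⟩
      have : a ∈ Finset.univ.filter fun z : F => σ z = z := by rw [h]; simpa [← hΦ]
      simpa using this
    have h1 := Finset.card_lt_card hS
    have h2' : (Finset.univ.filter fun z : F => z ^ p ^ k = z).card ≤ p ^ k := by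
      refine le_trans (Finset.card_le_card fun z hz => ?_)
        ((Multiset.toFinset_card_le _).trans ((Polynomial.card_roots' (Polynomial.X ^ (p ^ k) - Polynomial.X : Polynomial F)).trans_eq
          (FiniteField.X_pow_card_sub_X_natDegree_eq F hk1)))
      simp only [Finset.mem_filter] at hz
      rw [Multiset.mem_toFinset, Polynomial.mem_roots (FiniteField.X_pow_card_sub_X_ne_zero F hk1)]
      simp [sub_eq_zero, hz.2]
    have h3' : (Finset.univ.filter fun z : F => σ z = z).card = p ^ k := by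
      rw [← hk, Nat.card_eq_fintype_card]
      exact (Fintype.card_of_subtype _ (fun z => by simp [hmem])).symm
    omega
  have hpow : ∀ a, σ a = a ^ p ^ k := by
    intro a
    rw [← hΦ]
    have e : ∀ z, σ z = z → Φ z = z := fun z hz => (hΦ z).trans (hpowE z hz)
    have es := e (a + σ a) (by rw [map_add, hσσ, add_comm])
    have et := e (a * σ a) (by rw [map_mul, hσσ, mul_comm])
    rw [map_add] at es
    rw [map_mul] at et
    rcases mul_eq_zero.1 (show (Φ a - a) * (Φ a - σ a) = 0 by
      linear_combination Φ a * es - et) with h | h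
    · rw [sub_eq_zero.1 h, hfix a (sub_eq_zero.1 h)]
    · exact (sub_eq_zero.1 h).symm
  refine ⟨⟨k, by omega⟩, fun y hy hy2 => ?_, ?_, ?_⟩
  · obtain ⟨g', σ', hσ', rfl⟩ := graphField_form h2 hy
    have hq' := pow_orderOf_eq_one (semi g' σ' * it)
    rw [hy2] at hq'
    obtain ⟨-, hσ2', B', hB'⟩ := exists_conj_graphField h3 Nat.prime_two hσ' hq'
    have hσe : σ' = σ := by
      obtain ⟨E', hmem', hcard'⟩ := exists_fixed σ'
      rw [orderOf_eq_prime (by rw [sq, hσ2']) hσ', Nat.card_eq_fintype_card (α := F), hF,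
        ← hcard, pow_mul] at hcard'
      have hk' : Nat.card E' = p ^ k := Nat.pow_left_injective two_ne_zero hcard'
      letI : Fintype E' := Fintype.ofFinite E'
      refine RingEquiv.ext fun a => ?_
      have hσσ' : ∀ a, σ' (σ' a) = a := fun a => RingEquiv.congr_fun hσ2' a
      have e : ∀ z, σ' z = z → σ z = z := fun z hz => by
        have := congrArg Subtype.val (FiniteField.pow_card (⟨z, (hmem' z).2 hz⟩ : E'))
        rw [← Nat.card_eq_fintype_card, hk', SubmonoidClass.coe_pow] at this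
        rw [hpow]; exact this
      have es := e (a + σ' a) (by rw [map_add, hσσ', add_comm])
      have et := e (a * σ' a) (by rw [map_mul, hσσ', mul_comm])
      rw [map_add] at es
      rw [map_mul] at et
      rcases mul_eq_zero.1 (show (σ a - a) * (σ a - σ' a) = 0 by
        linear_combination σ a * es - et) with h | h
      · rw [sub_eq_zero.1 h]
        by_contra hne
        -- then `σ` fixes everything
        refine hσ (RingEquiv.ext fun b => ?_)
        have esb := e (b + σ' b) (by rw [map_add, hσσ', add_comm])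
        have etb := e (b * σ' b) (by rw [map_mul, hσσ', mul_comm])
        rw [map_add] at esb
        rw [map_mul] at etb
        rcases mul_eq_zero.1 (show (σ b - b) * (σ b - σ' b) = 0 by
          linear_combination σ b * esb - etb) with h' | h'
        · rw [RingAut.one_apply]; exact sub_eq_zero.1 h'
        · have esab := e (a + b + σ' (a + b)) (by rw [map_add σ' (a + b), hσσ', add_comm])
          have etab := e ((a + b) * σ' (a + b)) (by rw [map_mul σ' (a + b), hσσ', mul_comm])
          rw [map_add] at esab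
          rw [map_mul] at etab
          rw [RingAut.one_apply]
          rcases mul_eq_zero.1 (show (σ (a + b) - (a + b)) * (σ (a + b) - σ' (a + b)) = 0 by
            linear_combination σ (a + b) * esab - etab) with h'' | h''
          · rw [map_add] at h''; linear_combination h'' - h
          · rw [map_add, map_add] at h''
            exact absurd (by linear_combination -h'' + h + h') hne
      · exact (sub_eq_zero.1 h).symm
    rw [hσe] at hB'
    exact ⟨dg F n (B' * B⁻¹), by rw [inndiag_eq]; exact ⟨_, rfl⟩,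
      by rw [hσe, hB', hB, map_mul, map_inv]; group⟩
  · rw [hB, inndiag_eq]
    refine ⟨(centConj B (semi 1 σ * it)).symm.trans (MulEquiv.symm ?_)⟩
    let Ψ : Cfsg.GU n F (p ^ k) →* ↥((dg F n).range ⊓ Subgroup.centralizer {semi 1 σ * it}) :=
      ((dg F n).comp (Cfsg.GU n F (p ^ k)).subtype).codRestrict _ fun u =>
        ⟨⟨_, rfl⟩, (graph_cent h2 hσ hσ2 _).2
          ⟨1, u.1, (mem_GU hq hσ2 hpow _).1 u.2, by rw [map_one, one_mul]; rfl⟩⟩
    have hsurj : Function.Surjective Ψ := by
      rintro ⟨w, ⟨h, rfl⟩, hw⟩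
      obtain ⟨c, u, hu, rfl⟩ := (graph_cent h2 hσ hσ2 h).1 hw
      refine ⟨⟨u, (mem_GU hq hσ2 hpow _).2 hu⟩, Subtype.ext ?_⟩
      show dg F n u = dg F n (_ * _)
      rw [map_mul, dg_scalar, one_mul]
    have hker : Ψ.ker = (Cfsg.Geo.scalars (Fin n) F).subgroupOf (Cfsg.GU n F (p ^ k)) := by
      ext u
      rw [MonoidHom.mem_ker, Subgroup.mem_subgroupOf]
      constructor
      · intro hu
        obtain ⟨c, hc⟩ := (dg_eq_one_iff h2).1 (congrArg Subtype.val hu)
        exact ⟨c, hc.symm⟩
      · rintro ⟨c, hc⟩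
        exact Subtype.ext ((dg_eq_one_iff h2).2 ⟨c, hc.symm⟩)
    exact (QuotientGroup.quotientMulEquivOfEq hker.symm).trans
      (QuotientGroup.quotientKerEquivOfSurjective Ψ hsurj)
  · rw [hB, split_det h2, det_conj_map]
    let N : Fˣ →* Fˣ := MonoidHom.id Fˣ * Units.map σ.toRingHom.toMonoidHom
    have hN : ∀ u : Fˣ, ((N u : Fˣ) : F) = u * σ u := fun u => rfl
    have e : (powMonoidHom n : Fˣ →* Fˣ).range ⊔
        ((Subgroup.centralizer {semi 1 σ * it}).comap (dg F n)).map GeneralLinearGroup.det =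
        (powMonoidHom n : Fˣ →* Fˣ).range ⊔ N.ker := by
      refine le_antisymm (sup_le le_sup_left ?_) (sup_le le_sup_left ?_)
      · rintro _ ⟨h, hh, rfl⟩
        obtain ⟨c, u, hu, rfl⟩ := (graph_cent h2 hσ hσ2 h).1 hh
        rw [map_mul, det_scalar]
        refine mul_mem (Subgroup.mem_sup_left ⟨c, rfl⟩) (Subgroup.mem_sup_right (MonoidHom.mem_ker.2 ?_))
        have := det_th σ u
        rw [hu] at this
        show GeneralLinearGroup.det u * Units.map σ.toRingHom.toMonoidHom (GeneralLinearGroup.det u) = 1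
        conv_lhs => arg 1; rw [this]
        exact inv_mul_cancel _
      · intro v hv
        let d : Fin n → Fˣ := Function.update 1 ⟨0, by omega⟩ v
        have hd : GeneralLinearGroup.det (diagGL d) = v := by
          rw [det_diagGL, Finset.prod_update_of_mem (Finset.mem_univ _)]
          simp
        have hv' : (v : F) * σ v = 1 := congrArg Units.val (MonoidHom.mem_ker.1 hv)
        have hth : th σ (diagGL d) = diagGL d := by
          refine Units.ext ?_
          show (diagonal fun a => (((d a)⁻¹ : Fˣ) : F))ᵀ.map σ = diagonal fun a => (d a : F)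
          rw [diagonal_transpose, diagonal_map (map_zero σ)]
          refine congrArg diagonal (funext fun a => ?_)
          simp only [Function.comp_apply, d, Function.update_apply]
          split_ifs
          · rw [Units.val_inv_eq_inv_val, map_inv₀]
            exact inv_eq_of_mul_eq_one_left hv'
          · simp
        exact Subgroup.mem_sup_right ⟨diagGL d,
          (graph_cent h2 hσ hσ2 _).2 ⟨1, _, hth, by rw [map_one, one_mul]⟩, hd⟩
    rw [e, index_sup_cyclic, index_pow, Nat.card_eq_fintype_card, hF, Subgroup.index_ker]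
    have hrange : Nat.card N.range = p ^ k - 1 := by
      let ψ : Eˣ →* Fˣ := Units.map E.subtype.toMonoidHom
      have hr1 : N.range = ψ.range := by
        refine le_antisymm ?_ ?_
        · rintro _ ⟨u, rfl⟩
          have hmu : (u : F) * σ u ∈ E := (hmem _).2 (by rw [map_mul, hσσ, mul_comm])
          exact ⟨Units.mk0 ⟨_, hmu⟩ fun h => (N u).ne_zero (congrArg Subtype.val h), Units.ext rfl⟩
        · rintro _ ⟨u, rfl⟩
          obtain ⟨a, ha, hac⟩ := exists_nrm two_pos hord (ψ u).ne_zero ((hmem _).1 u.1.2)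
          rw [show (2 : ℕ) = 0 + 1 + 1 from rfl, nrm_succ, nrm_succ] at hac
          simp [nrm] at hac
          exact ⟨Units.mk0 a ha, Units.ext hac⟩
      have hinj : Function.Injective ψ := fun a b h =>
        Units.ext (E.subtype.injective (congrArg Units.val h))
      rw [hr1, ← Nat.card_congr (MonoidHom.ofInjective hinj).toEquiv, Nat.card_units, hk]
    rw [hrange, Nat.gcd_assoc]
    congr 1
    refine Nat.gcd_eq_right ?_
    rw [← hkf, pow_mul]
    simpa using Nat.sub_dvd_pow_sub_pow (p ^ k) 1 2 |> fun h => h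

theorem card_gal {p f : ℕ} [Fintype F] [hp : Fact p.Prime] (hF : Fintype.card F = p ^ f) :
    Nat.card (F ≃+* F) = f := by
  haveI : CharP F p := charP_of_card_eq_prime_pow hF
  letI := ZMod.algebra F p
  have hfr : Module.finrank (ZMod p) F = f := by
    have e := Module.card_eq_pow_finrank (K := ZMod p) (V := F)
    rw [hF, ZMod.card] at e
    exact (Nat.pow_right_injective hp.out.two_le e).symm
  let r : (F ≃+* F) ≃ (F ≃ₐ[ZMod p] F) :=
    { toFun := fun φ => AlgEquiv.ofRingEquiv (f := φ) fun x =>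
        RingHom.congr_fun (Subsingleton.elim ((φ : F →+* F).comp (algebraMap (ZMod p) F)) (algebraMap (ZMod p) F)) x
      invFun := fun ψ => ψ.toRingEquiv
      left_inv := fun φ => RingEquiv.ext fun _ => rfl
      right_inv := fun ψ => AlgEquiv.ext fun _ => rfl }
  rw [Nat.card_congr r, IsGalois.card_aut_eq_finrank, hfr]

theorem card_range_dg [Finite F] (h2 : 2 ≤ n) :
    Nat.card (dg F n).range = Nat.card (Matrix.ProjGenLinGroup (Fin n) F) := by
  have hker : (dg F n).ker = Subgroup.center (GL (Fin n) F) := by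
    haveI : Nonempty (Fin n) := ⟨⟨0, by omega⟩⟩
    ext g
    rw [MonoidHom.mem_ker, dg_eq_one_iff h2, GeneralLinearGroup.center_eq_range_scalar]
    exact exists_congr fun c => eq_comm
  rw [← Subgroup.index_ker, hker]
  rfl

/-- The order of the automorphism group. -/
theorem card_aut [Fintype F] (h2 : 2 ≤ n) {p f : ℕ} [Fact p.Prime] (hF : Fintype.card F = p ^ f) :
    Nat.card (MulAut (ProjectiveSpecialLinearGroup (Fin n) F)) =
      (if n = 2 then 1 else 2) * f * Nat.card (Matrix.ProjGenLinGroup (Fin n) F) := by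
  rcases Nat.lt_or_ge n 3 with hn | h3
  · obtain rfl : n = 2 := by omega
    open Classical.PSLTwoAut in
    (have hsurj : Function.Surjective (fieldPart (F := F)) := fun φ => ⟨diagAut 1 * fieldAut φ, fieldPart_eq 1 φ⟩
     have hker : (fieldPart (F := F)).ker = (diagAut (F := F)).range := by
       ext α
       rw [MonoidHom.mem_ker, fieldPart_eq_one_iff]
       exact exists_congr fun g => eq_comm
     rw [if_pos rfl, one_mul, ← Subgroup.card_mul_index (fieldPart (F := F)).ker, Subgroup.index_ker,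
       MonoidHom.range_eq_top.2 hsurj, Subgroup.card_top, card_gal hF, hker,
       ← Nat.card_congr (MonoidHom.ofInjective diagAut_injective).toEquiv, mul_comm])
  · have hsurj : Function.Surjective (part (F := F) h3) := fun q =>
      ⟨semi 1 q.1 * pw F n q.2, part_eq h3 rfl⟩
    have hker : (part (F := F) h3).ker = (dg F n).range := by
      ext α
      rw [MonoidHom.mem_ker]
      constructor
      · intro h
        obtain ⟨q, g, hα⟩ := exists_rep h3 α
        rw [part_eq h3 hα] at h
        exact ⟨g, by rw [hα, (Prod.mk.inj h).1, (Prod.mk.inj h).2, map_one, mul_one]; rfl⟩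
      · rintro ⟨g, rfl⟩
        exact part_eq h3 (ε := 1) (by rw [map_one, mul_one]; rfl)
    rw [if_neg (by omega), ← Subgroup.card_mul_index (part (F := F) h3).ker, Subgroup.index_ker,
      MonoidHom.range_eq_top.2 hsurj, Subgroup.card_top, Nat.card_prod, card_gal hF,
      Nat.card_congr Multiplicative.toAdd, Nat.card_zmod, hker, card_range_dg h2]
    ring

end Cfsg.Agent.PSLFieldCent
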