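import Cfsg.Agent.Lib.Classical.OddAutOut
import Cfsg.Agent.Lib.Classical.PSLFieldCent

/-!
Field automorphisms of prime order of `Ω_{2m+1}(q)`, `q` odd.
-/

set_option autoImplicit false
set_option linter.style.haveILetI false
set_option linter.unusedSectionVars false

open Matrix QuadraticMap Module

namespace Cfsg.Agent.OddAut

open Cfsg.Agent.Classical Cfsg.Agent.Classical.Refl
open PSLField (span_fixed)

variable {F : Type*} [Field F] {m : ℕ}

local notation "MM" => Matrix (Io m) (Io m) F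

section embed

variable {F₀ : Type*} [Field F₀] (i : F₀ →+* F)

theorem polar_hom (u v : Io m → F₀) :
    polar (Cfsg.quadFormOdd m F) (i ∘ u) (i ∘ v) = i (polar (Cfsg.quadFormOdd m F₀) u v) := by
  rw [polar, polar, show (i ∘ u) + (i ∘ v) = i ∘ (u + v) from funext fun k => (map_add i _ _).symm,
    q_hom, q_hom, q_hom, map_sub, map_sub]

theorem single_hom (k : Io m) : (Pi.single k 1 : Io m → F) = i ∘ (Pi.single k 1 : Io m → F₀) :=
  funext fun j => by simp [Pi.single_apply, apply_ite i]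

theorem mat_ext_hom {A B : MM} (h : ∀ y : Io m → F₀, A *ᵥ (i ∘ y) = B *ᵥ (i ∘ y)) : A = B :=
  Matrix.toLin'.injective ((Pi.basisFun F (Io m)).ext fun k => by
    rw [Pi.basisFun_apply, Matrix.toLin'_apply, Matrix.toLin'_apply, single_hom i, h])

variable [Fintype F] (h2 : (2 : F) ≠ 0)

include h2

/-- Forms agreeing over a subfield agree. -/
theorem form_ext (A : MM) (c : F)
    (h : ∀ y : Io m → F₀, Cfsg.quadFormOdd m F (A *ᵥ (i ∘ y)) = c * Cfsg.quadFormOdd m F (i ∘ y))
    (x : Io m → F) : Cfsg.quadFormOdd m F (A *ᵥ x) = c * Cfsg.quadFormOdd m F x := by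
  have e : (polarBilin (Qo (m := m) h2)).compl₁₂ (Matrix.toLin' A) (Matrix.toLin' A) =
      c • polarBilin (Qo (m := m) h2) := by
    refine LinearMap.ext_basis (Pi.basisFun F _) (Pi.basisFun F _) fun k l => ?_
    simp only [LinearMap.compl₁₂_apply, Pi.basisFun_apply, Matrix.toLin'_apply, polarBilin_apply_apply,
      LinearMap.smul_apply, smul_eq_mul]
    rw [single_hom i k, single_hom i l]
    show polar (Cfsg.quadFormOdd m F) _ _ = c * polar (Cfsg.quadFormOdd m F) _ _
    simp only [polar]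
    rw [← mulVec_add, show (i ∘ (Pi.single k 1 : Io m → F₀)) + (i ∘ Pi.single l 1) =
      i ∘ ((Pi.single k 1 : Io m → F₀) + Pi.single l 1) from funext fun j => (map_add i _ _).symm, h, h, h]
    ring
  have hp := LinearMap.congr_fun₂ e x x
  simp only [LinearMap.compl₁₂_apply, Matrix.toLin'_apply, polarBilin_apply_apply, LinearMap.smul_apply,
    smul_eq_mul, WittExt.polar_self_eq] at hp
  exact mul_left_cancel₀ h2 (show (2 : F) * Qo (m := m) h2 (A *ᵥ x) = 2 * (c * Qo (m := m) h2 x) by
    linear_combination hp)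

theorem mapI_mem (g : Is m F₀) : GeneralLinearGroup.map i (g : GL (Io m) F₀) ∈ Is m F := fun u _ => by
  show Cfsg.quadFormOdd m F ((((g : GL (Io m) F₀) : Matrix (Io m) (Io m) F₀).map i) *ᵥ u) = _
  rw [form_ext i h2 _ 1 (fun y => by
    rw [map_mulVec', q_hom, one_mul, q_hom]
    exact congrArg i (g.2 y y)) u, one_mul]

/-- Isometries over a subfield. -/
def mapI : Is m F₀ →* Is m F where
  toFun g := ⟨_, mapI_mem i h2 g⟩
  map_one' := Subtype.ext (map_one _)
  map_mul' _ _ := Subtype.ext (map_mul _ _ _)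

theorem mapI_special (g : SOo m F₀) :
    mapI i h2 g.1 ∈ Cfsg.specialIsometryGroup F (Cfsg.quadFormOdd m F) := by
  have h : ((g.1 : GL (Io m) F₀) : Matrix (Io m) (Io m) F₀).det = 1 :=
    congrArg Units.val (MonoidHom.mem_ker.1 g.2)
  refine MonoidHom.mem_ker.2 (Units.ext ?_)
  show (i.mapMatrix ((g.1 : GL (Io m) F₀) : Matrix (Io m) (Io m) F₀)).det = 1
  rw [← RingHom.map_det, h, map_one]

/-- Special isometries over a subfield. -/
def mapS : SOo m F₀ →* SOo m F where
  toFun g := ⟨mapI i h2 g.1, mapI_special i h2 g⟩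
  map_one' := Subtype.ext (map_one _)
  map_mul' _ _ := Subtype.ext (map_mul _ _ _)

theorem mapS_injective : Function.Injective (mapS (m := m) i h2) := fun g h e => by
  refine Subtype.ext (matI_inj (Matrix.ext fun a b => i.injective ?_))
  exact congrFun (congrFun (congrArg (fun z : SOo m F => matI z.1) e) a) b

end embed

section fixed

variable {F₀ : Type*} [Field F₀] [Fintype F] [Fintype F₀] (i : F₀ →+* F) (σ : F ≃+* F)
  (hi : ∀ a, (∃ b, i b = a) ↔ σ a = a) (h2 : (2 : F) ≠ 0) (hm : 3 ≤ m)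

include hi h2 hm

theorem two_ne_fixed : (2 : F₀) ≠ 0 := fun h => h2 (by rw [← map_ofNat i 2, h, map_zero])

theorem fixed_iff (g : SOo m F) : fieldHom σ g = g ↔ g ∈ (mapS (m := m) i h2).range := by
  constructor
  · intro hg
    have hfix : ∀ a b, ∃ y, i y = matI g.1 a b := fun a b =>
      (hi _).2 (congrFun (congrFun (congrArg (fun z : SOo m F => matI z.1) hg) a) b)
    choose y hy using hfix
    have hM : (Matrix.of y).map i = matI g.1 := Matrix.ext fun a b => hy a b
    have hd : (Matrix.of y).det = 1 := i.injective (by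
      rw [RingHom.map_det, RingHom.mapMatrix_apply, hM, map_one]
      exact congrArg Units.val (MonoidHom.mem_ker.1 g.2))
    let M : GL (Io m) F₀ := GeneralLinearGroup.mkOfDetNeZero (Matrix.of y) (by rw [hd]; exact one_ne_zero)
    have hMm : M ∈ Is m F₀ := fun u _ => i.injective (by
      show i (Cfsg.quadFormOdd m F₀ (Matrix.of y *ᵥ u)) = i (Cfsg.quadFormOdd m F₀ u)
      rw [← q_hom, ← map_mulVec', hM, ← q_hom]
      exact g.1.2 (i ∘ u) (i ∘ u))
    exact ⟨⟨⟨M, hMm⟩, MonoidHom.mem_ker.2 (Units.ext hd)⟩, Subtype.ext (matI_inj hM)⟩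
  · rintro ⟨g, rfl⟩
    exact Subtype.ext (matI_inj (Matrix.ext fun a b => (hi _).1 ⟨_, rfl⟩))

/-- Lang's theorem for the special orthogonal group. -/
theorem exists_lang {r : ℕ} (hr : 0 < r) (hord : orderOf σ = r) (g : SOo m F)
    (hg : ∀ v, (actS g.1 σ)^[r] v = v) : ∃ B : SOo m F, g * fieldHom σ B = B := by
  classical
  have hfi : ∀ a, σ (i a) = i a := fun a => (hi _).1 ⟨a, rfl⟩
  let T : (Io m → F) →+ (Io m → F) :=
    { toFun := actS g.1 σ
      map_zero' := by
        show matI g.1 *ᵥ (σ ∘ 0) = 0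
        rw [show σ ∘ (0 : Io m → F) = 0 from funext fun j => map_zero σ, mulVec_zero]
      map_add' := fun x y => by
        show matI g.1 *ᵥ (σ ∘ (x + y)) = _
        rw [show σ ∘ (x + y) = (σ ∘ x) + (σ ∘ y) from funext fun j => map_add σ _ _, mulVec_add]; rfl }
  have hs := span_fixed σ T (fun a v => by
    show matI g.1 *ᵥ (σ ∘ (a • v)) = _
    rw [show σ ∘ (a • v) = σ a • (σ ∘ v) from funext fun j => map_mul σ _ _, mulVec_smul]; rfl) hr hord hg
  obtain ⟨s, hsub, hspan, hli⟩ := exists_linearIndependent F {v : Io m → F | T v = v}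
  rw [hs] at hspan
  haveI : Finite s := Subtype.finite
  letI := Fintype.ofFinite s
  let b0 : Basis s F (Io m → F) := Basis.mk hli (by rw [Subtype.range_coe, hspan])
  have hcard : Fintype.card s = Fintype.card (Io m) := by
    rw [← finrank_eq_card_basis b0, finrank_pi]
  let e := Fintype.equivOfCardEq hcard
  let U : MM := Matrix.of fun r k => ((e.symm k : s) : Io m → F) r
  have hUe : ∀ k, U *ᵥ Pi.single k 1 = ((e.symm k : s) : Io m → F) := fun k => by rw [mulVec_single_one]; rfl
  have hUT : matI g.1 * U.map σ = U := Matrix.ext fun a k => by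
    show (matI g.1 *ᵥ (σ ∘ fun r => U r k)) a = U a k
    exact congrFun (hsub (e.symm k).2) a
  have hUinj : ∀ x, U *ᵥ x = 0 → x = 0 := fun x hx => by
    have h' : ∑ k, x k • ((e.symm k : s) : Io m → F) = 0 := by
      rw [← hx]
      conv_rhs => rw [pi_eq_sum_univ' x, mulVec_sum]
      simp only [mulVec_smul, hUe]
    exact funext fun k => Fintype.linearIndependent_iff.1
      (hli.comp e.symm e.symm.injective) x h' k
  have hfix : ∀ y : Io m → F₀, ∃ c, i c = Cfsg.quadFormOdd m F (U *ᵥ (i ∘ y)) := fun y => by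
    refine (hi _).2 ?_
    rw [← show Cfsg.quadFormOdd m F (σ ∘ (U *ᵥ (i ∘ y))) = σ (Cfsg.quadFormOdd m F (U *ᵥ (i ∘ y))) from
      q_hom σ.toRingHom _]
    have e1 : σ ∘ (U *ᵥ (i ∘ y)) = U.map σ *ᵥ (i ∘ y) := by
      rw [show σ ∘ (U *ᵥ (i ∘ y)) = U.map σ *ᵥ (σ ∘ (i ∘ y)) from (map_mulVec' σ.toRingHom U _).symm]
      congr 1
      exact funext fun j => hfi _
    rw [e1]
    conv_rhs => rw [← hUT, ← mulVec_mulVec]
    exact (g.1.2 _ (U.map σ *ᵥ (i ∘ y))).symm
  choose q0 hq0 using hfix
  have hadd : ∀ u v : Io m → F₀, (i ∘ (u + v)) = (i ∘ u) + (i ∘ v) := fun u v => funext fun j => map_add i _ _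
  have hsmul : ∀ (a : F₀) (u : Io m → F₀), (i ∘ (a • u)) = i a • (i ∘ u) := fun a u =>
    funext fun j => map_mul i _ _
  have hpol : ∀ u v, i (polar q0 u v) = polar (Qo (m := m) h2) (U *ᵥ (i ∘ u)) (U *ᵥ (i ∘ v)) := fun u v => by
    rw [polar, polar, map_sub, map_sub, hq0, hq0, hq0, hadd, mulVec_add]; rfl
  let Q0 : QuadraticForm F₀ (Io m → F₀) := QuadraticMap.ofPolar q0
    (fun a u => i.injective (by
      rw [hq0, hsmul, mulVec_smul, smul_eq_mul, map_mul, map_mul, hq0]
      exact (Qo (m := m) h2).map_smul (i a) _))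
    (fun u u' v => i.injective (by
      rw [hpol, map_add, hpol, hpol, hadd, mulVec_add, polar_add_left]))
    (fun a u v => i.injective (by
      rw [hpol, smul_eq_mul, map_mul, hpol, hsmul, mulVec_smul, polar_smul_left, smul_eq_mul]))
  have h20 := two_ne_fixed i σ hi h2 hm
  have hQ0 : (polarBilin Q0).Nondegenerate := by
    have h1 : ∀ u, (∀ v, polar Q0 u v = 0) → u = 0 := fun u hu => by
      have hU : U *ᵥ (i ∘ u) = 0 := (Qo_nondeg (m := m) h2).1 _ fun w => by
        obtain ⟨x, rfl⟩ : ∃ x, U *ᵥ x = w :=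
          ((LinearMap.injective_iff_surjective (f := Matrix.toLin' U)).1 fun a b hab => sub_eq_zero.1
            (hUinj _ (by rw [mulVec_sub, ← Matrix.toLin'_apply U a, ← Matrix.toLin'_apply U b, hab, sub_self])))
            w |>.imp fun x hx => by rwa [Matrix.toLin'_apply] at hx
        rw [pi_eq_sum_univ' x, mulVec_sum, map_sum]
        refine Finset.sum_eq_zero fun k _ => ?_
        rw [mulVec_smul, map_smul, single_hom i k]
        show x k • polar (Qo (m := m) h2) _ _ = 0
        rw [← hpol, show polar q0 u _ = polar Q0 u _ from rfl, hu, map_zero, smul_zero]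
      exact funext fun j => i.injective (by
        rw [show i (u j) = (i ∘ u) j from rfl, hUinj _ hU, Pi.zero_apply, Pi.zero_apply, map_zero])
    exact ⟨h1, fun y hy => h1 y fun x => by rw [polar_comm]; exact hy x⟩
  have hd : finrank F₀ (Io m → F₀) = 2 * m + 1 := by rw [finrank_pi, card_Io]
  obtain ⟨c, φ, hc, hφ⟩ := WittDec.exists_equiv_odd Q0 hQ0 hd
  let V0 : (Io m → F₀) →ₗ[F₀] (Io m → F₀) :=
    φ.toLinearMap.comp (LinearMap.prod
      (LinearMap.pi fun s => Sum.elim (fun j => c • LinearMap.proj (Sum.inr (Sum.inl j)))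
        (fun j => LinearMap.proj (Sum.inr (Sum.inr j))) s)
      (LinearMap.proj (Sum.inl ())))
  have hV0 : ∀ y, q0 (V0 y) = c * Cfsg.quadFormOdd m F₀ y := fun y => by
    show Q0 (φ _) = _
    rw [hφ]
    simp [Cfsg.quadFormPlus, Cfsg.quadFormOdd, mul_add, Finset.mul_sum, mul_assoc]
    ring
  let W : MM := U * (LinearMap.toMatrix' V0).map i
  have hWT : matI g.1 * W.map σ = W := by
    have e1 : W.map σ = U.map σ * (LinearMap.toMatrix' V0).map i := by
      show σ.toRingHom.mapMatrix (U * _) = _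
      rw [map_mul]
      congr 1
      exact Matrix.ext fun a b => hfi _
    rw [e1, ← mul_assoc, hUT]
  have hWQ : ∀ x, Cfsg.quadFormOdd m F (W *ᵥ x) = i c * Cfsg.quadFormOdd m F x := by
    refine form_ext i h2 W (i c) fun y => ?_
    rw [show W *ᵥ (i ∘ y) = U *ᵥ (i ∘ (V0 y)) by
      rw [← mulVec_mulVec, map_mulVec', LinearMap.toMatrix'_mulVec], ← hq0, hV0, map_mul, q_hom]
  have hic : i c ≠ 0 := (map_ne_zero i).2 hc
  have hWinj : W.det ≠ 0 := by
    intro h
    obtain ⟨x, hx, h0⟩ := exists_mulVec_eq_zero_iff.2 h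
    refine hx ((Qo_nondeg (m := m) h2).1 x fun z => ?_)
    show polar (Cfsg.quadFormOdd m F) x z = 0
    have : i c * polar (Cfsg.quadFormOdd m F) x z = 0 := by
      rw [polar, mul_sub, mul_sub, ← hWQ, ← hWQ, ← hWQ, mulVec_add, h0, zero_add, sub_right_comm, sub_self,
        zero_sub, show Cfsg.quadFormOdd m F 0 = 0 from QuadraticMap.map_zero (Qo (m := m) h2), neg_zero]
    exact (mul_eq_zero.1 this).resolve_left hic
  obtain ⟨a, B, ha, hB⟩ := normalise h2 (GeneralLinearGroup.mkOfDetNeZero W hWinj) hic hWQ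
  change matI B.1 = a • W at hB
  refine ⟨B, ?_⟩
  have hρ : matI (g * fieldHom σ B).1 = (σ a / a) • matI B.1 := by
    show matI g.1 * (matI B.1).map σ = _
    rw [hB, show (a • W).map σ = σ a • W.map σ from Matrix.ext fun x y => map_mul σ _ _, mul_smul_comm, hWT,
      smul_smul, div_mul_cancel₀ _ ha]
  set ρ := σ a / a with hρdef
  have hdet : ρ ^ (2 * m + 1) = 1 := by
    have h := congrArg Matrix.det hρ
    rw [det_smul, card_Io, show (matI (g * fieldHom σ B).1).det = 1 from
      congrArg Units.val (MonoidHom.mem_ker.1 (g * fieldHom σ B).2),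
      show (matI B.1).det = 1 from congrArg Units.val (MonoidHom.mem_ker.1 B.2), mul_one] at h
    exact h.symm
  have hsq : ρ * ρ = 1 := by
    obtain ⟨v, hv⟩ := exists_nonsingular (Qo (m := m) h2) (Qo_nondeg h2) (by rw [card_Io]; omega)
    have h1 : Qo (m := m) h2 (matI (g * fieldHom σ B).1 *ᵥ v) = Qo h2 v := (g * fieldHom σ B).1.2 v v
    have h3 : Qo (m := m) h2 (matI B.1 *ᵥ v) = Qo h2 v := B.1.2 v v
    rw [hρ, smul_mulVec, QuadraticMap.map_smul, h3, smul_eq_mul] at h1
    exact mul_right_cancel₀ hv (h1.trans (one_mul _).symm)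
  rw [pow_succ, two_mul, pow_add, ← mul_pow, hsq, one_pow, one_mul] at hdet
  refine Subtype.ext (matI_inj ?_)
  rw [hρ, hdet, one_smul]

end fixed

variable [Fintype F] (h2 : (2 : F) ≠ 0) (hm : 3 ≤ m)

include h2 hm

theorem field_form {x : MulAut (Cfsg.POmega F (Cfsg.quadFormOdd m F))}
    (hx : Cfsg.IsFieldAutClassPOmega (Cfsg.quadFormOdd m F) x) :
    ∃ a : Semi m F, a.right ≠ 1 ∧ Psi a = x := by
  obtain ⟨α, φ, σ, hσ, hφ, e⟩ := hx
  obtain ⟨A, rfl⟩ := (Psi_bijective h2 hm).2 α
  have hφ' : φ = Psi (SemidirectProduct.inr σ : Semi m F) := MulEquiv.ext fun z => by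
    obtain ⟨s, rfl⟩ := QuotientGroup.mk_surjective z
    rw [Psi_mk]
    refine hφ s _ ?_
    show matI (1 : Is m F) * (matI s.1).map σ * matI (1 : Is m F)⁻¹ = _
    rw [inv_one]
    show (1 : MM) * _ * (1 : MM) = _
    rw [one_mul, mul_one]
    rfl
  refine ⟨A⁻¹ * SemidirectProduct.inr σ * A, fun h => hσ ?_, ?_⟩
  · have h' : A.right⁻¹ * σ * A.right = 1 := h
    have : σ = 1 := by
      calc σ = A.right * (A.right⁻¹ * σ * A.right) * A.right⁻¹ := by group
        _ = 1 := by rw [h']; group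
    exact this
  · rw [map_mul, map_mul, map_inv, ← hφ', ← e]; group

theorem inl_mul_inr_conj (B : SOo m F) (σ : F ≃+* F) :
    (SemidirectProduct.inl B * SemidirectProduct.inr σ * (SemidirectProduct.inl B)⁻¹ : Semi m F) =
      ⟨B * fieldHom σ B⁻¹, σ⟩ := by
  rw [← map_inv]
  refine SemidirectProduct.ext ?_ ?_ <;> simp

/-- A semilinear isometry of prime order with field part is conjugate to a field automorphism. -/
theorem exists_conj_field {F₀ : Type*} [Field F₀] [Fintype F₀] (i : F₀ →+* F) {a : Semi m F}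
    (hi : ∀ t, (∃ b, i b = t) ↔ a.right t = t) {r : ℕ} (hr : r.Prime) (hσ : a.right ≠ 1) (h : a ^ r = 1) :
    ∃ B : SOo m F, a = SemidirectProduct.inl B * SemidirectProduct.inr a.right *
      (SemidirectProduct.inl B)⁻¹ := by
  have hpow : ∀ k : ℕ, (a ^ k).right = a.right ^ k := fun k => map_pow SemidirectProduct.rightHom a k
  have hord : orderOf a.right = r := (hr.eq_one_or_self_of_dvd _ (orderOf_dvd_of_pow_eq_one (by
    rw [← hpow, h]; rfl))).resolve_left fun e => hσ (orderOf_eq_one_iff.1 e)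
  have hit : ∀ (k : ℕ) v, (actS a.left.1 a.right)^[k] v = actS (a ^ k).left.1 (a ^ k).right v := by
    intro k
    induction k with
    | zero =>
      intro v
      show v = (1 : MM) *ᵥ v
      rw [one_mulVec]
    | succ k ih =>
      intro v
      rw [Function.iterate_succ_apply', ih, pow_succ', SemidirectProduct.mul_left, SemidirectProduct.mul_right]
      show matI a.left.1 *ᵥ (a.right ∘ (matI (a ^ k).left.1 *ᵥ ((a ^ k).right ∘ v))) =
        (matI a.left.1 * (matI (a ^ k).left.1).map a.right) *ᵥ ((a.right * (a ^ k).right : F ≃+* F) ∘ v)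
      rw [← mulVec_mulVec]
      congr 1
      exact (map_mulVec' a.right.toRingHom _ _).symm
  obtain ⟨B, hB⟩ := exists_lang i a.right hi h2 hm hr.pos hord a.left fun v => by
    rw [hit, h]
    show (1 : MM) *ᵥ v = v
    rw [one_mulVec]
  refine ⟨B, ?_⟩
  rw [inl_mul_inr_conj h2 hm, map_inv]
  exact SemidirectProduct.ext (eq_mul_inv_of_mul_eq hB) rfl

theorem exists_fix (σ : F ≃+* F) : ∃ (E : Subfield F), ∀ t, (∃ b : E, E.subtype b = t) ↔ σ t = t := by
  obtain ⟨E, hE, -⟩ := PSLFieldCent.exists_fixed σ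
  exact ⟨E, fun t => ⟨fun ⟨b, hb⟩ => hb ▸ (hE _).1 b.2, fun ht => ⟨⟨t, (hE t).2 ht⟩, rfl⟩⟩⟩

/-- An element of the inner-diagonal coset has order `r` exactly when it is conjugate to `x`. -/
theorem coset_conj {x δ : MulAut (Cfsg.POmega F (Cfsg.quadFormOdd m F))}
    (hx : Cfsg.IsFieldAutClassPOmega (Cfsg.quadFormOdd m F) x) {r : ℕ} (hr : r.Prime) (hxr : orderOf x = r)
    (hδ : δ ∈ Cfsg.inndiagPOmegaOdd m F) :
    orderOf (δ * x) = r ↔ Cfsg.IsConjUnder (Cfsg.inndiagPOmegaOdd m F) x (δ * x) := by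
  refine ⟨fun ho => ?_, ?_⟩
  swap
  · rintro ⟨h, -, e⟩
    rw [e, ← hxr]
    exact orderOf_injective (MulAut.conj h).toMonoidHom (MulAut.conj h).injective x
  rw [inndiag_eq h2 hm] at hδ ⊢
  obtain ⟨k, rfl⟩ := hδ
  obtain ⟨a, hσ, rfl⟩ := field_form h2 hm hx
  obtain ⟨E, hE⟩ := exists_fix h2 hm a.right
  letI : Fintype E := Fintype.ofFinite E
  have hmul : dgO k * Psi a = Psi (SemidirectProduct.inl k * a) := (map_mul Psi _ _).symm
  have hσ' : (SemidirectProduct.inl k * a : Semi m F).right = a.right := one_mul _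
  have hp : (SemidirectProduct.inl k * a : Semi m F) ^ r = 1 := (Psi_bijective h2 hm).1 (by
    rw [map_pow, ← hmul, map_one, ← ho, pow_orderOf_eq_one])
  have hp' : a ^ r = 1 := (Psi_bijective h2 hm).1 (by rw [map_pow, map_one, ← hxr, pow_orderOf_eq_one])
  obtain ⟨B, hB⟩ := exists_conj_field h2 hm E.subtype hE hr hσ hp'
  obtain ⟨B', hB'⟩ := exists_conj_field h2 hm E.subtype (a := SemidirectProduct.inl k * a)
    (by rw [hσ']; exact hE) hr (by rw [hσ']; exact hσ) hp
  rw [hσ'] at hB'
  refine ⟨dgO (B' * B⁻¹), ⟨_, rfl⟩, ?_⟩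
  rw [hmul, hB']
  conv_rhs => rw [hB]
  show _ = Psi (SemidirectProduct.inl (B' * B⁻¹)) * _ * (Psi (SemidirectProduct.inl (B' * B⁻¹)))⁻¹
  simp only [map_mul, map_inv]
  group

theorem mem_cent_iff (σ : F ≃+* F) (B k : SOo m F) :
    dgO k ∈ Subgroup.centralizer {Psi (SemidirectProduct.inl B * SemidirectProduct.inr σ *
        (SemidirectProduct.inl B)⁻¹ : Semi m F)} ↔ fieldHom σ (B⁻¹ * k * B) = B⁻¹ * k * B := by
  rw [Subgroup.mem_centralizer_singleton_iff,
    show dgO k = Psi (SemidirectProduct.inl k : Semi m F) from rfl, ← map_mul, ← map_mul,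
    (Psi_bijective h2 hm).1.eq_iff]
  set b : Semi m F := SemidirectProduct.inl B
  set s : Semi m F := SemidirectProduct.inr σ
  set z : Semi m F := SemidirectProduct.inl k
  have e : z * (b * s * b⁻¹) = b * s * b⁻¹ * z ↔ (b⁻¹ * z * b) * s = s * (b⁻¹ * z * b) := by
    constructor <;> intro h
    · calc (b⁻¹ * z * b) * s = b⁻¹ * (z * (b * s * b⁻¹)) * b := by group
        _ = _ := by rw [h]; group
    · calc z * (b * s * b⁻¹) = b * ((b⁻¹ * z * b) * s) * b⁻¹ := by group
        _ = _ := by rw [h]; group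
  rw [e, show b⁻¹ * z * b = SemidirectProduct.inl (B⁻¹ * k * B) by simp only [map_mul, map_inv, b, z]]
  constructor
  · intro h
    have := congrArg SemidirectProduct.left h
    simpa [s] using this.symm
  · intro h
    refine SemidirectProduct.ext ?_ ?_ <;> simp [s]
    rw [map_mul, map_mul, map_inv] at h
    exact h.symm

/-- Field automorphisms of prime order: centraliser and class splitting. -/
theorem field_main {p f : ℕ} [hp : Fact p.Prime] (hF : Fintype.card F = p ^ f) (hf : 1 ≤ f)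
    {x : MulAut (Cfsg.POmega F (Cfsg.quadFormOdd m F))}
    (hx : Cfsg.IsFieldAutClassPOmega (Cfsg.quadFormOdd m F) x) {r : ℕ} (hr : r.Prime) (hxr : orderOf x = r)
    (F₀ : Type*) [Field F₀] [Fintype F₀] (hF₀ : Fintype.card F₀ = p ^ (f / r)) :
    r ∣ f ∧
    Nonempty (↥(Cfsg.inndiagPOmegaOdd m F ⊓ Subgroup.centralizer {x}) ≃* ↥(Cfsg.inndiagPOmegaOdd m F₀)) ∧
    (Odd r → Cfsg.splitClassCount (Cfsg.inndiagPOmegaOdd m F)
      (Cfsg.Inn (Cfsg.POmega F (Cfsg.quadFormOdd m F))) x = 1) ∧
    (r = 2 → Cfsg.splitClassCount (Cfsg.inndiagPOmegaOdd m F)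
      (Cfsg.Inn (Cfsg.POmega F (Cfsg.quadFormOdd m F))) x = 2) := by
  obtain ⟨a, hσ, rfl⟩ := field_form h2 hm hx
  have hp' : a ^ r = 1 := (Psi_bijective h2 hm).1 (by rw [map_pow, map_one, ← hxr, pow_orderOf_eq_one])
  have hord : orderOf a.right = r := (hr.eq_one_or_self_of_dvd _ (orderOf_dvd_of_pow_eq_one (by
    rw [show a.right ^ r = SemidirectProduct.rightHom (a ^ r) from
      (map_pow SemidirectProduct.rightHom a r).symm, hp', map_one]))).resolve_left
      fun e => hσ (orderOf_eq_one_iff.1 e)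
  obtain ⟨hrf, i, hi⟩ := PSLFieldCent.exists_fixed_emb hF hr.pos hord F₀ hF₀
  set σ := a.right with hσdef
  have h20 := two_ne_fixed i σ hi h2 hm
  obtain ⟨B, hB⟩ := exists_conj_field h2 hm i hi hr hσ hp'
  rw [hB, inndiag_eq h2 hm]
  have hcent : ∀ k : SOo m F, dgO k ∈ Subgroup.centralizer {Psi (SemidirectProduct.inl B *
      SemidirectProduct.inr σ * (SemidirectProduct.inl B)⁻¹ : Semi m F)} ↔
      B⁻¹ * k * B ∈ (mapS (m := m) i h2).range := fun k => by
    rw [mem_cent_iff h2 hm σ B k, fixed_iff i σ hi h2 hm]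
  refine ⟨hrf, ?_, ?_⟩
  · rw [inndiag_eq (F := F₀) h20 hm]
    let Φ : SOo m F₀ →* ↥((dgO (F := F) (m := m)).range ⊓ Subgroup.centralizer
        {Psi (SemidirectProduct.inl B * SemidirectProduct.inr σ * (SemidirectProduct.inl B)⁻¹ : Semi m F)}) :=
      ((dgO.comp (MulAut.conj B).toMonoidHom).comp (mapS i h2)).codRestrict _ fun A =>
        Subgroup.mem_inf.mpr ⟨⟨_, rfl⟩, (hcent _).2 ⟨A, by
          show _ = B⁻¹ * (B * mapS i h2 A * B⁻¹) * B
          group⟩⟩
    have hbij : Function.Bijective Φ := by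
      constructor
      · intro A A' e
        exact mapS_injective i h2 ((MulAut.conj B).injective (dgO_injective h2 hm (congrArg Subtype.val e)))
      · rintro ⟨w, hw⟩
        obtain ⟨⟨k, rfl⟩, hk⟩ := Subgroup.mem_inf.mp hw
        obtain ⟨A, hA⟩ := (hcent k).1 hk
        refine ⟨A, Subtype.ext ?_⟩
        show dgO (B * mapS i h2 A * B⁻¹) = dgO k
        rw [hA]
        congr 1
        group
    exact ⟨(MulEquiv.ofBijective Φ hbij).symm.trans (MonoidHom.ofInjective (dgO_injective h20 hm))⟩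
  · have hsplit := PSLFieldCent.split_count (dgO (F := F) (m := m)) _ (inn_le_range h2 hm)
      (by rw [comap_inn h2 hm]; exact TS_normal) (Psi (SemidirectProduct.inl B * SemidirectProduct.inr σ *
        (SemidirectProduct.inl B)⁻¹ : Semi m F))
    rw [hsplit, comap_inn h2 hm]
    haveI := TS_normal (F := F) (m := m)
    have hi2 := index_TS (F := F) (m := m) h2 hm
    obtain ⟨u, hu⟩ := represents (Qo (m := m) h20) (Qo_nondeg h20) h20 (by rw [card_Io]; omega)
      (one_ne_zero (α := F₀))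
    obtain ⟨β, hβ, hβ'⟩ := exists_not_cls h20 (one_ne_zero (α := F₀))
    obtain ⟨w, hw⟩ := represents (Qo (m := m) h20) (Qo_nondeg h20) h20 (by rw [card_Io]; omega) hβ
    have hu0 : Qo (m := m) h20 u ≠ 0 := by rw [hu]; exact one_ne_zero
    have hw0 : Qo (m := m) h20 w ≠ 0 := by rw [hw]; exact hβ
    let l0 : List {v : Io m → F₀ // Qo (m := m) h20 v ≠ 0} := [⟨u, hu0⟩, ⟨w, hw0⟩]
    have hk0 : Disc.reflList (Qo (m := m) h20) l0 ∈ Cfsg.specialIsometryGroup F₀ (Cfsg.quadFormOdd m F₀) := by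
      refine MonoidHom.mem_ker.2 (Units.ext ?_)
      show (Cfsg.reflectionMatrix _ u * (Cfsg.reflectionMatrix _ w * 1)).det = 1
      rw [det_mul, det_mul, det_one, Quad.reflection_det (Qo (m := m) h20) hu0,
        Quad.reflection_det (Qo (m := m) h20) hw0]
      ring
    set k0 : SOo m F₀ := ⟨_, hk0⟩ with hk0def
    have hn0 : 2 ≤ Fintype.card (Io m) := by rw [card_Io]; omega
    have hk0n : k0 ∉ TS m F₀ := by
      rw [mem_TS]
      intro h
      have := ((Disc.reflList_mem_commutator (Qo (m := m) h20) (Qo_nondeg h20) h20 hn0 l0).1 h).2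
      simp [l0, hu, hw] at this
      exact hβ' (by obtain ⟨s, hs⟩ := this; exact ⟨s, by rw [mul_one]; exact hs.symm⟩)
    have hQi : ∀ y : Io m → F₀, Qo (m := m) h2 (i ∘ y) = i (Qo (m := m) h20 y) := fun y => q_hom i y
    have hiu : Qo (m := m) h2 (i ∘ u) ≠ 0 := by rw [hQi, hu, map_one]; exact one_ne_zero
    have hiw : Qo (m := m) h2 (i ∘ w) ≠ 0 := by rw [hQi, hw]; exact (map_ne_zero i).2 hβ
    have href : ∀ (v : Io m → F₀) (hv : Qo (m := m) h20 v ≠ 0) (hiv : Qo (m := m) h2 (i ∘ v) ≠ 0),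
        mapI i h2 (refl (Qo (m := m) h20) v hv) = refl (Qo (m := m) h2) (i ∘ v) hiv := by
      intro v hv hiv
      refine matI_inj (mat_ext_hom i fun y => ?_)
      show ((matI (refl (Qo (m := m) h20) v hv)).map i) *ᵥ (i ∘ y) = act (Qo (m := m) h2) _ (i ∘ y)
      rw [map_mulVec', act_refl, hQi,
        show polar (Qo (m := m) h2) (i ∘ v) (i ∘ y) = i (polar (Qo (m := m) h20) v y) from polar_hom i v y,
        ← map_inv₀ i, ← map_mul]
      show i ∘ (act (Qo (m := m) h20) _ y) = _
      rw [act_refl]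
      exact funext fun j => by simp
    have hk0i : mapS i h2 k0 ∈ TS m F ↔ IsSquare (i β) := by
      rw [mem_TS, show (mapS i h2 k0).1 = Disc.reflList (Qo (m := m) h2) [⟨i ∘ u, hiu⟩, ⟨i ∘ w, hiw⟩] from ?_]
      · refine (Disc.reflList_mem_commutator (Qo (m := m) h2) (Qo_nondeg h2) h2 hn0 _).trans ?_
        simp [hQi, hu, hw]
      · show mapI i h2 (refl _ u hu0 * (refl _ w hw0 * 1)) = refl _ _ hiu * (refl _ _ hiw * 1)
        rw [mul_one, mul_one]
        exact (map_mul (mapI i h2) _ _).trans (congrArg₂ (· * ·) (href u hu0 hiu) (href w hw0 hiw))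
    set Z := (Subgroup.centralizer {Psi (SemidirectProduct.inl B * SemidirectProduct.inr σ *
      (SemidirectProduct.inl B)⁻¹ : Semi m F)}).comap dgO with hZdef
    refine ⟨fun hodd => ?_, fun h2r => ?_⟩
    · have hnot : ¬ IsSquare (i β) := by
        rintro ⟨z, hz⟩
        have hσz : σ z = z := by
          have e : σ z * σ z = z * z := by rw [← map_mul, ← hz, (hi _).1 ⟨β, rfl⟩]
          rcases mul_self_eq_mul_self_iff.1 e with h | h
          · exact h
          · exfalso
            have hiter : ∀ n : ℕ, (σ ^ n) z = (-1) ^ n * z := by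
              intro n
              induction n with
              | zero => simp
              | succ n ih => rw [pow_succ', RingAut.mul_apply, ih, map_mul, map_pow, map_neg, map_one, h]; ring
            have := hiter r
            rw [← hord, pow_orderOf_eq_one, hord, RingAut.one_apply, hodd.neg_one_pow, neg_one_mul] at this
            have hz0 : z ≠ 0 := fun h0 => (map_ne_zero i).2 hβ (by rw [hz, h0, mul_zero])
            exact hz0 ((mul_eq_zero.1 (show (2 : F) * z = 0 by linear_combination this)).resolve_left h2)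
        obtain ⟨b, rfl⟩ := (hi _).2 hσz
        exact hβ' ⟨b, by rw [mul_one]; exact (i.injective (by rw [map_mul, hz])).symm⟩
      have hne : TS m F ≠ TS m F ⊔ Z := by
        intro e
        refine hnot (hk0i.1 ?_)
        have hz : B * mapS i h2 k0 * B⁻¹ ∈ Z := (hcent _).2 ⟨k0, by group⟩
        have h3 : B * mapS i h2 k0 * B⁻¹ ∈ TS m F := e.symm ▸ Subgroup.mem_sup_right hz
        have := (TS_normal (F := F) (m := m)).conj_mem _ h3 B⁻¹
        simpa [mul_assoc] using this
      have hd := Subgroup.index_dvd_of_le (le_sup_left : TS m F ≤ TS m F ⊔ Z)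
      rw [hi2] at hd
      rcases (Nat.dvd_prime Nat.prime_two).1 hd with h | h
      · exact h
      · exfalso
        have hle : TS m F ≤ TS m F ⊔ Z := le_sup_left
        have hrel := Subgroup.relIndex_mul_index hle
        rw [h, hi2] at hrel
        exact hne (le_antisymm hle (Subgroup.relIndex_eq_one.1 (by omega)))
    · subst h2r
      have hsq : IsSquare (i β) := by
        obtain ⟨t, rfl⟩ := hrf
        rw [Nat.mul_div_cancel_left t two_pos] at hF₀
        have hch : ringChar F ≠ 2 := ringChar_ne_two h2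
        rw [FiniteField.isSquare_iff hch ((map_ne_zero i).2 hβ), hF, pow_mul', ← hF₀]
        obtain ⟨j, hj⟩ : Odd (Fintype.card F₀) := odd_card (m := m) h20 hm
        have e : Fintype.card F₀ ^ 2 / 2 = (Fintype.card F₀ - 1) * (j + 1) := by
          rw [hj, show (2 * j + 1) ^ 2 = 2 * (2 * j * (j + 1)) + 1 by ring, Nat.add_sub_cancel]
          omega
        rw [e, pow_mul, ← map_pow, FiniteField.pow_card_sub_one_eq_one β hβ, map_one, one_pow]
      have hle : Z ≤ TS m F := by
        intro k hk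
        obtain ⟨A, hA⟩ := (hcent k).1 hk
        haveI := TS_normal (F := F₀) (m := m)
        have h0 : ∀ A ∈ TS m F₀, mapS i h2 A ∈ TS m F := fun A hA => by
          rw [mem_TS] at hA ⊢
          have h' : (commutator (Is m F₀)).map (mapI i h2) ≤ commutator (Is m F) := by
            rw [commutator_def, Subgroup.map_commutator]
            exact Subgroup.commutator_mono le_top le_top
          exact h' (Subgroup.mem_map_of_mem (mapI i h2) hA)
        have hAT : mapS i h2 A ∈ TS m F := by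
          by_cases hA0 : A ∈ TS m F₀
          · exact h0 A hA0
          · have h1 : A * k0 ∈ TS m F₀ := by
              rw [Subgroup.mul_mem_iff_of_index_two (index_TS h20 hm)]
              exact iff_of_false hA0 hk0n
            have := h0 _ h1
            rw [map_mul] at this
            exact (Subgroup.mul_mem_cancel_right _ (hk0i.2 hsq)).1 this
        rw [hA] at hAT
        have := (TS_normal (F := F) (m := m)).conj_mem _ hAT B
        simpa [mul_assoc] using this
      rw [sup_eq_left.2 hle, hi2]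

end Cfsg.Agent.OddAut
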