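import Cfsg.Agent.Lib.Classical.SympAutBase

/-!
A map of points preserving orthogonality for an alternating form is a semilinear similitude.
-/

set_option autoImplicit false
set_option linter.style.haveILetI false
set_option linter.unusedSectionVars false

open Matrix

namespace Cfsg.Agent.PSpAut

open Classical.Sp

variable {F : Type*} [Field F] {m : ℕ}

local notation "bs" => sympB F m

local notation "MM" => Matrix (Fin m ⊕ Fin m) (Fin m ⊕ Fin m) F

/-- The partner of an index. -/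
def op (k : Fin m ⊕ Fin m) : Fin m ⊕ Fin m := k.swap

/-- The sign of an index. -/
def sg (F : Type*) [Field F] : Fin m ⊕ Fin m → F := Sum.elim (fun _ => 1) (fun _ => -1)

theorem sg_ne (k : Fin m ⊕ Fin m) : sg F k ≠ 0 := by rcases k with i | i <;> simp [sg]

theorem b_single (k : Fin m ⊕ Fin m) (x : Vec F m) : bs (Pi.single (op k) 1) x = sg F k * x k := by
  rcases k with i | i <;> simp [sympB_sum, op, sg, Pi.single_apply, ite_mul]

theorem op_op (k : Fin m ⊕ Fin m) : op (op k) = k := Sum.swap_swap k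

theorem op_inj {k l : Fin m ⊕ Fin m} (h : op k = op l) : k = l := by rw [← op_op k, h, op_op]

theorem b_pair (k l : Fin m ⊕ Fin m) (a b : F) (x : Vec F m) :
    bs (a • Pi.single (op k) 1 + b • Pi.single (op l) 1) x = a * (sg F k * x k) + b * (sg F l * x l) := by
  simp only [map_add, map_smul, LinearMap.add_apply, LinearMap.smul_apply, smul_eq_mul, b_single]

/-- A map preserving orthogonality and fixing the base points acts coordinatewise on each line. -/
theorem diag_of_orth [Finite F] (hm : 2 ≤ m) (f : Vec F m → Vec F m) (hf0 : ∀ v, v ≠ 0 → f v ≠ 0)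
    (hiff : ∀ u v, u ≠ 0 → v ≠ 0 → (bs (f u) (f v) = 0 ↔ bs u v = 0))
    (hsurj : ∀ w, w ≠ 0 → ∃ v, v ≠ 0 ∧ Par (f v) w)
    (hbase : ∀ k, Par (f (Pi.single k 1)) (Pi.single k 1)) :
    ∃ (d : Fin m ⊕ Fin m → F) (σ : F ≃+* F), (∀ k, d k ≠ 0) ∧
      (∃ D : F, D ≠ 0 ∧ ∀ i : Fin m, d (Sum.inl i) * d (Sum.inr i) = D) ∧
      ∀ v, v ≠ 0 → Par (fun k => d k * σ (v k)) (f v) := by
  classical
  haveI := Fintype.ofFinite F
  have hstd : ∀ k, (Pi.single k 1 : Vec F m) ≠ 0 := fun k => by simp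
  have zero_iff : ∀ x, x ≠ 0 → ∀ k, f x k = 0 ↔ x k = 0 := by
    intro x hx k
    obtain ⟨c, hc, e⟩ := (hbase (op k)).symm
    have h := hiff _ x (hstd (op k)) hx
    rw [e, map_smul,
      LinearMap.smul_apply, smul_eq_mul, b_single, b_single] at h
    simpa [hc, sg_ne] using h
  have par_of : ∀ u v, u ≠ 0 → v ≠ 0 → Par (f u) (f v) → Par u v := by
    rintro u v hu hv ⟨c, hc, e⟩
    refine par_of_perp hv fun x hx hxu => ?_
    rw [← hiff x v hx hv, e, map_smul, smul_eq_mul, (hiff x u hx hu).2 hxu, mul_zero]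
  -- the ratio of two coordinates only depends on the ratio in the argument
  let h : (Fin m ⊕ Fin m) → (Fin m ⊕ Fin m) → F → F := fun k l a =>
    f (Pi.single l 1 + a • Pi.single k 1) k / f (Pi.single l 1 + a • Pi.single k 1) l
  have hpt : ∀ k l, k ≠ l → ∀ a : F, (Pi.single l 1 + a • Pi.single k 1 : Vec F m) ≠ 0 := by
    intro k l hkl a e
    simpa [hkl.symm] using congrFun e l
  have hsupp : ∀ k l, k ≠ l → ∀ a : F, ∀ j, j ≠ k → j ≠ l →
      f (Pi.single l 1 + a • Pi.single k 1) j = 0 := by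
    intro k l hkl a j h1 h2
    exact (zero_iff _ (hpt k l hkl a) j).2 (by simp [h1, h2])
  have ratio : ∀ x, x ≠ 0 → ∀ k l, k ≠ l → x l ≠ 0 → f x k / f x l = h k l (x k / x l) := by
    intro x hx k l hkl hl
    set a := x k / x l with ha
    set x' : Vec F m := Pi.single l 1 + a • Pi.single k 1 with hx'
    have hx'0 := hpt k l hkl a
    have hl' : x' l = 1 := by simp [hx', hkl.symm]
    have hk' : x' k = a := by simp [hx', hkl]
    by_cases hk : x k = 0
    · have ha0 : a = 0 := by rw [ha, hk, zero_div]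
      show f x k / f x l = f x' k / f x' l
      rw [(zero_iff x hx k).2 hk, (zero_iff x' hx'0 k).2 (hk'.trans ha0), zero_div, zero_div]
    set p : Vec F m := (sg F l * x l) • Pi.single (op k) 1 + (-(sg F k * x k)) • Pi.single (op l) 1 with hp
    have hopne : op k ≠ op l := fun e => hkl (op_inj e)
    have hp0 : p ≠ 0 := fun e => by
      have := congrFun e (op k)
      simp [hp, hopne, sg_ne, hl] at this
    have hq : f p = f p (op k) • Pi.single (op k) 1 + f p (op l) • Pi.single (op l) 1 := by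
      funext j
      rcases eq_or_ne j (op k) with rfl | h1
      · simp [hopne]
      rcases eq_or_ne j (op l) with rfl | h2
      · simp [hopne.symm]
      · simp [h1, h2, (zero_iff p hp0 j).2 (by simp [hp, h1, h2])]
    have e1 : bs p x = 0 := by rw [hp, b_pair]; ring
    have e2 : bs p x' = 0 := by rw [hp, b_pair, hl', hk', ha]; field_simp; ring
    rw [← hiff p x hp0 hx, hq, b_pair] at e1
    rw [← hiff p x' hp0 hx'0, hq, b_pair] at e2
    have hP : f p (op k) ≠ 0 := fun e => by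
      have := (zero_iff p hp0 _).1 e
      simp [hp, hopne, sg_ne, hl] at this
    have hfl : f x l ≠ 0 := fun e => hl ((zero_iff x hx l).1 e)
    have hfl' : f x' l ≠ 0 := fun e => by
      have := (zero_iff x' hx'0 l).1 e
      rw [hl'] at this
      exact one_ne_zero this
    show f x k / f x l = f x' k / f x' l
    rw [div_eq_div_iff hfl hfl']
    refine mul_left_cancel₀ (mul_ne_zero hP (sg_ne (F := F) k)) ?_
    linear_combination f x' l * e1 - f x l * e2
  have h_zero : ∀ k l, k ≠ l → h k l 0 = 0 := fun k l hkl => by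
    show _ / _ = _
    rw [(zero_iff _ (hpt k l hkl 0) k).2 (by simp [hkl]), zero_div]
  have h_ne : ∀ k l, k ≠ l → ∀ a : F, a ≠ 0 → h k l a ≠ 0 := fun k l hkl a ha => by
    refine div_ne_zero (fun e => ha ?_) (fun e => ?_)
    · simpa [hkl] using (zero_iff _ (hpt k l hkl a) k).1 e
    · simpa [hkl.symm] using (zero_iff _ (hpt k l hkl a) l).1 e
  have h_mul : ∀ j k l, j ≠ k → k ≠ l → j ≠ l → ∀ a b : F, h j l (a * b) = h j k a * h k l b := by
    intro j k l hjk hkl hjl a b
    rcases eq_or_ne b 0 with rfl | hb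
    · rw [mul_zero, h_zero j l hjl, h_zero k l hkl, mul_zero]
    set x : Vec F m := Pi.single l 1 + b • Pi.single k 1 + (a * b) • Pi.single j 1 with hx
    have xl : x l = 1 := by simp [hx, hkl.symm, hjl.symm]
    have xk : x k = b := by simp [hx, hkl, hjk.symm]
    have xj : x j = a * b := by simp [hx, hjk, hjl]
    have hx0 : x ≠ 0 := fun e => by rw [e] at xl; simp at xl
    have r1 := ratio x hx0 j l hjl (by rw [xl]; exact one_ne_zero)
    have r2 := ratio x hx0 k l hkl (by rw [xl]; exact one_ne_zero)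
    have r3 := ratio x hx0 j k hjk (by rw [xk]; exact hb)
    rw [xj, xl, div_one] at r1
    rw [xk, xl, div_one] at r2
    rw [xj, xk, mul_div_cancel_right₀ _ hb] at r3
    have hk0 : f x k ≠ 0 := fun e => hb (by rw [← xk]; exact (zero_iff x hx0 k).1 e)
    rw [← r1, ← r2, ← r3, div_mul_div_cancel₀ hk0]
  have h_inv : ∀ k l, k ≠ l → ∀ a : F, a ≠ 0 → h l k a⁻¹ = (h k l a)⁻¹ := by
    intro k l hkl a ha
    set x : Vec F m := Pi.single l 1 + a • Pi.single k 1 with hx
    have xl : x l = 1 := by simp [hx, hkl.symm]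
    have xk : x k = a := by simp [hx, hkl]
    have r1 := ratio x (hpt k l hkl a) l k hkl.symm (by rw [xk]; exact ha)
    rw [xl, xk, one_div] at r1
    show _ = (f x k / f x l)⁻¹
    rw [← r1, inv_div]
  -- the pivot
  set l₀ : Fin m ⊕ Fin m := Sum.inl ⟨0, by omega⟩ with hl₀
  set k₀ : Fin m ⊕ Fin m := Sum.inl ⟨1, by omega⟩ with hk₀
  have hk₀l : k₀ ≠ l₀ := by simp [hk₀, hl₀]
  let d : Fin m ⊕ Fin m → F := fun k => if k = l₀ then 1 else h k l₀ 1
  let φ : F → F := fun a => h k₀ l₀ a / h k₀ l₀ 1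
  have dne : ∀ k, d k ≠ 0 := fun k => by
    simp only [d]; split_ifs with hk
    · exact one_ne_zero
    · exact h_ne _ _ hk 1 one_ne_zero
  have hd : ∀ k, k ≠ l₀ → ∀ a, h k l₀ a = d k * φ a := by
    intro k hk a
    simp only [d, φ, if_neg hk]
    rcases eq_or_ne k k₀ with rfl | hk'
    · rw [mul_div_cancel₀ _ (h_ne _ _ hk 1 one_ne_zero)]
    have e1 := h_mul k k₀ l₀ hk' hk₀l hk 1 a
    have e2 := h_mul k k₀ l₀ hk' hk₀l hk 1 1
    rw [one_mul] at e1 e2
    rw [e1, e2]
    field_simp [h_ne _ _ hk₀l 1 one_ne_zero]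
  obtain ⟨k₁, hk₁, hk₁'⟩ : ∃ k, k ≠ l₀ ∧ k ≠ k₀ := ⟨Sum.inr ⟨0, by omega⟩, by simp [hl₀], by simp [hk₀]⟩
  have φ0 : φ 0 = 0 := by simp only [φ, h_zero _ _ hk₀l, zero_div]
  have φ1 : φ 1 = 1 := div_self (h_ne _ _ hk₀l 1 one_ne_zero)
  have φmul : ∀ a b, φ (a * b) = φ a * φ b := by
    intro a b
    have e1 := h_mul k₁ k₀ l₀ hk₁' hk₀l hk₁ a b
    have e2 := h_mul k₁ k₀ l₀ hk₁' hk₀l hk₁ a 1
    rw [hd _ hk₁, hd _ hk₀l] at e1
    rw [mul_one, hd _ hk₁, hd _ hk₀l, φ1, mul_one] at e2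
    refine mul_left_cancel₀ (dne k₁) ?_
    linear_combination e1 - φ b * e2
  have φne : ∀ a, a ≠ 0 → φ a ≠ 0 := fun a ha =>
    div_ne_zero (h_ne _ _ hk₀l a ha) (h_ne _ _ hk₀l 1 one_ne_zero)
  have hkl_eq : ∀ k l, k ≠ l → ∀ a, h k l a = d k * φ a / d l := by
    intro k l hkl a
    rcases eq_or_ne l l₀ with rfl | hl
    · rw [hd k hkl, show d l₀ = 1 from if_pos rfl, div_one]
    rcases eq_or_ne k l₀ with rfl | hk
    · rcases eq_or_ne a 0 with rfl | ha
      · rw [h_zero _ _ hkl, φ0, mul_zero, zero_div]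
      have e := h_inv l l₀ hl a⁻¹ (inv_ne_zero ha)
      rw [inv_inv, hd l hl] at e
      have e3 : φ a⁻¹ * φ a = 1 := by rw [← φmul, inv_mul_cancel₀ ha, φ1]
      rw [e, show d l₀ = 1 from if_pos rfl, eq_inv_of_mul_eq_one_left e3, one_mul, _root_.mul_inv_rev, inv_inv,
        div_eq_mul_inv]
    have e1 := h_mul k l l₀ hkl hl hk a 1
    rw [mul_one, hd k hk, hd l hl, φ1, mul_one] at e1
    rw [eq_div_iff (dne l), e1]
  have main : ∀ x, x ≠ 0 → Par (fun k => d k * φ (x k)) (f x) := by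
    intro x hx
    obtain ⟨l, hl⟩ : ∃ l, x l ≠ 0 := Function.ne_iff.1 hx
    refine ⟨f x l / (d l * φ (x l)),
      div_ne_zero (fun e => hl ((zero_iff x hx l).1 e)) (mul_ne_zero (dne l) (φne _ hl)), funext fun k => ?_⟩
    show f x k = f x l / (d l * φ (x l)) * (d k * φ (x k))
    have hfl : f x l ≠ 0 := fun e => hl ((zero_iff x hx l).1 e)
    rcases eq_or_ne k l with rfl | hkl
    · rw [div_mul_cancel₀ _ (mul_ne_zero (dne _) (φne _ hl))]
    have r := ratio x hx k l hkl hl
    have e : φ (x k / x l) * φ (x l) = φ (x k) := by rw [← φmul, div_mul_cancel₀ _ hl]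
    rw [hkl_eq k l hkl, div_eq_div_iff hfl (dne l)] at r
    have hd' := dne l
    have hφ' := φne _ hl
    field_simp
    linear_combination φ (x l) * r + (d k * f x l) * e
  have φinj : Function.Injective φ := by
    intro a b hab
    rcases eq_or_ne a 0 with rfl | ha
    · by_contra hb
      exact φne b (Ne.symm hb) (hab.symm.trans φ0)
    rcases eq_or_ne b 0 with rfl | hb
    · exact absurd (hab.trans φ0) (φne a ha)
    have hp : ∀ t : F, (fun k => d k * φ ((Pi.single l₀ 1 + t • Pi.single k₀ 1 : Vec F m) k)) =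
        Pi.single l₀ (d l₀) + Pi.single k₀ (d k₀ * φ t) := fun t => funext fun k => by
      rcases eq_or_ne k l₀ with rfl | h1
      · simp [hk₀l.symm, φ1]
      rcases eq_or_ne k k₀ with rfl | h2
      · simp [hk₀l]
      · simp [h1, h2, φ0]
    have h1 := main _ (hpt k₀ l₀ hk₀l a)
    have h2 := main _ (hpt k₀ l₀ hk₀l b)
    rw [hp, hab, ← hp] at h1
    obtain ⟨c, -, e⟩ := par_of _ _ (hpt k₀ l₀ hk₀l a) (hpt k₀ l₀ hk₀l b) (h1.symm.trans h2)
    have e1 := congrFun e l₀
    have e2 := congrFun e k₀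
    simp [hk₀l, hk₀l.symm] at e1 e2
    rw [e2, ← e1, one_mul]
  -- additivity
  have hDf : ∀ x y, x ≠ 0 → y ≠ 0 → bs x y = 0 →
      bs (fun k => d k * φ (x k)) (fun k => d k * φ (y k)) = 0 := by
    intro x y hx hy hxy
    obtain ⟨c, hc, e⟩ := (main x hx).symm
    obtain ⟨c', hc', e'⟩ := (main y hy).symm
    rw [e, e', map_smul, map_smul, LinearMap.smul_apply, (hiff x y hx hy).2 hxy, smul_zero, smul_zero]
  have key : ∀ i j : Fin m, i ≠ j → ∀ a b : F,
      d (Sum.inl i) * d (Sum.inr i) * φ (a + b) =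
        d (Sum.inl i) * d (Sum.inr i) * φ a + d (Sum.inl j) * d (Sum.inr j) * φ b := by
    intro i j hij a b
    set x : Vec F m := Pi.single (Sum.inl i) 1 + Pi.single (Sum.inl j) 1 + Pi.single (Sum.inr i) 1 with hx
    set y : Vec F m := Pi.single (Sum.inr i) a + Pi.single (Sum.inr j) b + Pi.single (Sum.inl i) (a + b) with hy
    rcases eq_or_ne y 0 with hy0 | hy0
    · have h1 := congrFun hy0 (Sum.inr i)
      have h2 := congrFun hy0 (Sum.inr j)
      simp [hy, hij, hij.symm] at h1 h2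
      simp [h1, h2, φ0]
    have hx0 : x ≠ 0 := fun e => by simpa [hx, hij] using congrFun e (Sum.inl i)
    have hsum : ∀ u v : Vec F m, (∀ k, k ≠ i → k ≠ j → u (Sum.inl k) = 0) → (∀ k, k ≠ i → u (Sum.inr k) = 0) →
        bs u v = u (Sum.inr i) * v (Sum.inl i) -
          (u (Sum.inl i) * v (Sum.inr i) + u (Sum.inl j) * v (Sum.inr j)) := by
      intro u v h1 h2
      rw [sympB_sum, Finset.sum_eq_single i (fun k _ hk => by rw [h2 k hk, zero_mul]) (by simp),
        Finset.sum_eq_add_of_mem i j (Finset.mem_univ _) (Finset.mem_univ _) hij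
          (fun k _ hk => by rw [h1 k hk.1 hk.2, zero_mul])]
    have x1 : ∀ k, k ≠ i → k ≠ j → x (Sum.inl k) = 0 := fun k h1 h2 => by simp [hx, h1, h2]
    have x2 : ∀ k, k ≠ i → x (Sum.inr k) = 0 := fun k h1 => by simp [hx, h1]
    have xi : x (Sum.inl i) = 1 := by simp [hx, hij]
    have xj : x (Sum.inl j) = 1 := by simp [hx, hij.symm]
    have xr : x (Sum.inr i) = 1 := by simp [hx]
    have yi : y (Sum.inr i) = a := by simp [hy, hij]
    have yj : y (Sum.inr j) = b := by simp [hy, hij.symm]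
    have yl : y (Sum.inl i) = a + b := by simp [hy]
    have hxy : bs x y = 0 := by rw [hsum x y x1 x2, xi, xj, xr, yi, yj, yl]; ring
    have := hDf x y hx0 hy0 hxy
    rw [hsum _ _ (fun k h1 h2 => by rw [x1 k h1 h2, φ0, mul_zero]) (fun k h1 => by rw [x2 k h1, φ0, mul_zero]),
      xi, xj, xr, yi, yj, yl, φ1] at this
    linear_combination this
  have hDeq : ∀ i j : Fin m, d (Sum.inl i) * d (Sum.inr i) = d (Sum.inl j) * d (Sum.inr j) := by
    intro i j
    rcases eq_or_ne i j with rfl | hij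
    · rfl
    have := key i j hij 0 1
    rwa [zero_add, φ0, φ1, mul_zero, zero_add, mul_one, mul_one] at this
  have φadd : ∀ a b, φ (a + b) = φ a + φ b := by
    intro a b
    have e := key ⟨0, by omega⟩ ⟨1, by omega⟩ (by simp) a b
    rw [← hDeq ⟨0, by omega⟩ ⟨1, by omega⟩, ← mul_add] at e
    exact mul_left_cancel₀ (mul_ne_zero (dne _) (dne _)) e
  exact ⟨d, { Equiv.ofBijective φ (Finite.injective_iff_bijective.1 φinj) with
    map_mul' := φmul, map_add' := φadd }, dne,
    ⟨_, mul_ne_zero (dne _) (dne _), fun i => hDeq i ⟨0, by omega⟩⟩, main⟩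

/-- A map of points preserving orthogonality is induced by a semilinear similitude. -/
theorem exists_semi_of_orth [Finite F] (hm : 2 ≤ m) (f : Vec F m → Vec F m) (hf0 : ∀ v, v ≠ 0 → f v ≠ 0)
    (hiff : ∀ u v, u ≠ 0 → v ≠ 0 → (bs (f u) (f v) = 0 ↔ bs u v = 0))
    (hsurj : ∀ w, w ≠ 0 → ∃ v, v ≠ 0 ∧ Par (f v) w) :
    ∃ (g : Cfsg.GSp m F) (σ : F ≃+* F), ∀ v, v ≠ 0 → Par (act (g : GL (Fin m ⊕ Fin m) F) σ v) (f v) := by
  classical
  have hstd : ∀ k, (Pi.single k 1 : Vec F m) ≠ 0 := fun k => by simp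
  have hB : ∀ k l : Fin m ⊕ Fin m, bs (Pi.single k 1) (Pi.single l 1) =
      if l = op k then sg F (op k) else 0 := by
    intro k l
    conv_lhs => rw [← op_op k, b_single]
    rcases eq_or_ne l (op k) with rfl | hne
    · simp
    · simp [hne, hne.symm]
  let c : Fin m → F := fun i => bs (f (Pi.single (Sum.inr i) 1)) (f (Pi.single (Sum.inl i) 1))
  have hc : ∀ i, c i ≠ 0 := fun i h => by
    have := (hiff _ _ (hstd _) (hstd _)).1 h
    rw [hB] at this
    simp [op, sg] at this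
  let b : Fin m ⊕ Fin m → Vec F m := Sum.elim (fun i => (c i)⁻¹ • f (Pi.single (Sum.inl i) 1))
    (fun i => f (Pi.single (Sum.inr i) 1))
  have hb : ∀ k l, bs (b k) (b l) = bs (Pi.single k 1 : Vec F m) (Pi.single l 1) := by
    have hz : ∀ k l, l ≠ op k → bs (f (Pi.single k 1)) (f (Pi.single l 1)) = 0 := fun k l h =>
      (hiff _ _ (hstd _) (hstd _)).2 (by rw [hB, if_neg h])
    intro k l
    rw [hB]
    rcases k with i | i <;> rcases l with j | j
    · simp only [b, Sum.elim_inl, map_smul, LinearMap.smul_apply, hz (Sum.inl i) (Sum.inl j) (by simp [op])]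
      simp [op]
    · rcases eq_or_ne j i with rfl | hne
      · simp only [b, Sum.elim_inl, Sum.elim_inr, map_smul, LinearMap.smul_apply]
        rw [b_symm, smul_eq_mul, mul_neg, show bs _ _ = c j from rfl, inv_mul_cancel₀ (hc j)]
        simp [op, sg]
      · simp only [b, Sum.elim_inl, Sum.elim_inr, map_smul, LinearMap.smul_apply,
          hz (Sum.inl i) (Sum.inr j) (by simp [op, hne])]
        simp [op, hne]
    · rcases eq_or_ne j i with rfl | hne
      · simp only [b, Sum.elim_inl, Sum.elim_inr, map_smul]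
        rw [show bs _ _ = c j from rfl, smul_eq_mul, inv_mul_cancel₀ (hc j)]
        simp [op, sg]
      · simp only [b, Sum.elim_inl, Sum.elim_inr, map_smul, hz (Sum.inr i) (Sum.inl j) (by simp [op, hne])]
        simp [op, hne]
    · simp only [b, Sum.elim_inr, hz (Sum.inr i) (Sum.inr j) (by simp [op])]
      simp [op]
  let M : MM := Matrix.of fun r k => b k r
  have hMe : ∀ k, M *ᵥ Pi.single k 1 = b k := fun k => by rw [mulVec_single_one]; rfl
  have hMmem : M ∈ Matrix.symplecticGroup (Fin m) F := by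
    rw [mem_symplectic_iff]
    intro u v
    have e : (bs).compl₁₂ (Matrix.toLin' M) (Matrix.toLin' M) = bs := by
      refine LinearMap.ext_basis (Pi.basisFun F _) (Pi.basisFun F _) fun k l => ?_
      simp only [LinearMap.compl₁₂_apply, Pi.basisFun_apply, Matrix.toLin'_apply, hMe, hb]
    exact LinearMap.congr_fun₂ e u v
  set P : Sy m F := ⟨M, hMmem⟩
  have hP : ∀ k, mat P *ᵥ Pi.single k 1 = b k := hMe
  have hPb : ∀ k, Par (mat P⁻¹ *ᵥ f (Pi.single k 1)) (Pi.single k 1) := by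
    intro k
    rcases k with i | i
    · refine ⟨(c i)⁻¹, inv_ne_zero (hc i), ?_⟩
      rw [← mulVec_smul, show (c i)⁻¹ • f (Pi.single (Sum.inl i) 1) = b (Sum.inl i) from rfl, ← hP,
        mat_inv_mulVec]
    · refine ⟨1, one_ne_zero, ?_⟩
      rw [one_smul, show f (Pi.single (Sum.inr i) 1) = b (Sum.inr i) from rfl, ← hP, mat_inv_mulVec]
  have hinv : ∀ x, mat P *ᵥ (mat P⁻¹ *ᵥ x) = x := fun x => by rw [mulVec_mulVec, mat_mul_inv, one_mulVec]
  obtain ⟨d, σ, hd0, ⟨D, hD0, hD⟩, hmain⟩ := diag_of_orth hm (fun v => mat P⁻¹ *ᵥ f v)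
    (fun v hv h => hf0 v hv ((mat_mulVec_eq_zero _).1 h))
    (fun u v hu hv => by rw [mat_pres]; exact hiff u v hu hv)
    (fun w hw => by
      obtain ⟨v, hv, r, hr, e⟩ := hsurj (mat P *ᵥ w) (fun h => hw ((mat_mulVec_eq_zero _).1 h))
      refine ⟨v, hv, r, hr, ?_⟩
      show w = r • mat P⁻¹ *ᵥ f v
      rw [← mulVec_smul, ← e, mat_inv_mulVec])
    hPb
  let T : GL (Fin m ⊕ Fin m) F := GeneralLinearGroup.mkOfDetNeZero (mat P * Matrix.diagonal d) (by
    rw [det_mul, det_diagonal]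
    refine mul_ne_zero ?_ (Finset.prod_ne_zero_iff.2 fun k _ => hd0 k)
    intro h
    have := congrArg Matrix.det (mat_inv_mul P)
    rw [det_mul, h, mul_zero, det_one] at this
    exact zero_ne_one this)
  have hdiag : ∀ u v, bs (Matrix.diagonal d *ᵥ u) (Matrix.diagonal d *ᵥ v) = D * bs u v := by
    intro u v
    simp only [sympB_sum, mulVec_diagonal, mul_sub, Finset.mul_sum, ← hD]
    congr 1
    all_goals refine Finset.sum_congr rfl fun i _ => ?_
    all_goals rw [← hD i]
    all_goals ring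
  have hT : T ∈ Cfsg.GSp m F := ⟨Units.mk0 D hD0, fun u v => by
    rw [← sympB_apply, ← sympB_apply]
    show bs ((mat P * Matrix.diagonal d) *ᵥ u) ((mat P * Matrix.diagonal d) *ᵥ v) = D * bs u v
    rw [← mulVec_mulVec, ← mulVec_mulVec, mat_pres, hdiag]⟩
  refine ⟨⟨T, hT⟩, σ, fun v hv => ?_⟩
  obtain ⟨r, hr, e⟩ := hmain v hv
  refine ⟨r, hr, ?_⟩
  rw [← hinv (f v), e, mulVec_smul]
  show r • mat P *ᵥ _ = r • (mat P * Matrix.diagonal d) *ᵥ (σ ∘ v)
  rw [← mulVec_mulVec]
  congr 2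
  funext k
  rw [mulVec_diagonal]
  rfl

end Cfsg.Agent.PSpAut
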