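import Cfsg.Agent.Lib.Classical.SympAutTransv
import Cfsg.Agent.Lib.Classical.SympAutOrth

/-!
The automorphism theorem for `PSp_{2m}(q)`.
-/

set_option autoImplicit false
set_option linter.style.haveILetI false
set_option linter.unusedSectionVars false

open Matrix

namespace Cfsg.Agent.PSpAut

open Classical.Sp

variable {F : Type*} [Field F] [Fintype F] {m : ℕ}

local notation "bs" => sympB F m

local notation "MM" => Matrix (Fin m ⊕ Fin m) (Fin m ⊕ Fin m) F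

/-- Automorphisms preserving the transvection classes. -/
def KeepsTransv (α : MulAut (Cfsg.PSp m F)) : Prop :=
  ∀ v : Vec F m, v ≠ 0 → ∀ c : F, c ≠ 0 → ∃ (w : Vec F m) (c' : F), w ≠ 0 ∧ c' ≠ 0 ∧ α (cls v c) = cls w c'

variable (hm : 2 ≤ m)

include hm

theorem keeps_of_main (h : ¬ (m = 2 ∧ (2 : F) = 0)) (α : MulAut (Cfsg.PSp m F)) : KeepsTransv α := by
  intro v hv c hc
  rcases image_cls_type hm α hv hc with h' | ⟨h1, h2, -⟩
  · exact h'
  · exact absurd ⟨h1, h2⟩ h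

/-- An automorphism keeping transvection classes, with its inverse, is semilinear. -/
theorem aut_eq_of_keeps (α : MulAut (Cfsg.PSp m F)) (hα : KeepsTransv α) (hβ : KeepsTransv α⁻¹) :
    ∃ (g : Cfsg.GSp m F) (σ : F ≃+* F), α = semi g σ := by
  classical
  have h1 : ∀ v : Vec F m, v ≠ 0 → ∃ (w : Vec F m) (c' : F), w ≠ 0 ∧ c' ≠ 0 ∧ α (cls v 1) = cls w c' :=
    fun v hv => hα v hv 1 one_ne_zero
  choose! f cf hf hcf hfe using h1
  have hcomm : ∀ {x y : Cfsg.PSp m F}, Commute (α x) (α y) ↔ Commute x y := fun {x y} => by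
    show α x * α y = α y * α x ↔ x * y = y * x
    rw [← map_mul, ← map_mul, α.injective.eq_iff]
  have hiff : ∀ u v, u ≠ 0 → v ≠ 0 → (bs (f u) (f v) = 0 ↔ bs u v = 0) := fun u v hu hv => by
    rw [← comm_iff hm (hf u hu) (hf v hv) (hcf u hu) (hcf v hv), ← hfe u hu, ← hfe v hv, hcomm,
      comm_iff hm hu hv one_ne_zero one_ne_zero]
  have hsurj : ∀ w, w ≠ 0 → ∃ v, v ≠ 0 ∧ Par (f v) w := by
    intro w hw
    obtain ⟨v, c, hv, hc, e⟩ := hβ w hw 1 one_ne_zero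
    have e' : α (cls v c) = cls w 1 := by rw [← e]; exact α.apply_symm_apply _
    refine ⟨v, hv, par_of_perp hw fun y hy hyv => ?_⟩
    obtain ⟨x, d, hx, hd, ex⟩ := hβ y hy 1 one_ne_zero
    have ex' : α (cls x d) = cls y 1 := by rw [← ex]; exact α.apply_symm_apply _
    have h2 : Commute (cls y 1) (cls (f v) (cf v)) :=
      (comm_iff hm hy (hf v hv) one_ne_zero (hcf v hv)).2 hyv
    rw [← ex', ← hfe v hv, hcomm, comm_iff hm hx hv hd one_ne_zero] at h2
    rw [← comm_iff hm hy hw one_ne_zero one_ne_zero, ← ex', ← e', hcomm, comm_iff hm hx hv hd hc]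
    exact h2
  obtain ⟨g, σ, hgσ⟩ := exists_semi_of_orth hm f hf hiff hsurj
  refine ⟨g, σ, MulEquiv.ext fun x => ?_⟩
  obtain ⟨s, rfl⟩ := QuotientGroup.mk_surjective x
  obtain ⟨s', hs', he⟩ := semi_mk' g σ s
  obtain ⟨t, ht⟩ := QuotientGroup.mk_surjective (α (QuotientGroup.mk s))
  rw [← ht, he, ← inv_mul_eq_one, ← QuotientGroup.mk_inv, ← QuotientGroup.mk_mul]
  refine mk_eq_one_of_fix_points _ fun u hu => ?_
  obtain ⟨v, rfl⟩ := act_surj (g : GL (Fin m ⊕ Fin m) F) σ u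
  have hv : v ≠ 0 := fun h => hu (act_eq_zero.2 h)
  have hsv : mat s *ᵥ v ≠ 0 := fun h => hv ((mat_mulVec_eq_zero _).1 h)
  have p1 := hgσ v hv
  have p2 := hgσ _ hsv
  rw [← act_mulVec g σ hs'] at p2
  have e : cls (mat t *ᵥ f v) (cf v) = cls (f (mat s *ᵥ v)) (cf (mat s *ᵥ v)) := by
    rw [← hfe _ hsv, ← conj_cls s v 1, map_mul, map_mul, map_inv, hfe v hv, ← ht, conj_cls]
  have p3 := par_of_tv_eq_mul hm (fun h => hf v hv ((mat_mulVec_eq_zero _).1 h)) (hf _ hsv) (hcf v hv)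
    (hcf _ hsv) e
  obtain ⟨r, hr, er⟩ := p1
  have p4 : Par (mat t *ᵥ act (g : GL (Fin m ⊕ Fin m) F) σ v) (mat t *ᵥ f v) := ⟨r, hr, by rw [er, mulVec_smul]⟩
  obtain ⟨l, hl, el⟩ := (p4.trans p3).trans p2.symm
  refine ⟨l, hl, ?_⟩
  rw [mat_mul, ← mulVec_mulVec, el, mulVec_smul, mat_inv_mulVec]

theorem aut_eq (h : ¬ (m = 2 ∧ (2 : F) = 0)) (α : MulAut (Cfsg.PSp m F)) :
    ∃ (g : Cfsg.GSp m F) (σ : F ≃+* F), α = semi g σ :=
  aut_eq_of_keeps hm α (keeps_of_main hm h α) (keeps_of_main hm h α⁻¹)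

theorem conj_injective :
    Function.Injective (MulAut.conj : Cfsg.PSp m F →* MulAut (Cfsg.PSp m F)) := by
  rw [injective_iff_map_eq_one]
  intro z hz
  obtain ⟨s, rfl⟩ := QuotientGroup.mk_surjective z
  refine mk_eq_one_of_fix_points s fun v hv => ?_
  have h := congrArg (fun β : MulAut (Cfsg.PSp m F) => β (cls v 1)) hz
  simp only [MulAut.conj_apply, conj_cls, MulAut.one_apply] at h
  exact par_of_tv_eq_mul hm hv (fun h => hv ((mat_mulVec_eq_zero _).1 h)) one_ne_zero one_ne_zero h.symm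

theorem gamma_top (h : ¬ (m = 2 ∧ (2 : F) = 0)) : Cfsg.gammaPSp m F = ⊤ := by
  refine (Subgroup.eq_top_iff' _).2 fun β => ?_
  obtain ⟨g, σ, rfl⟩ := aut_eq hm h β
  exact Subgroup.subset_closure ⟨g, σ, g.2, fun s s' hs' => semi_mk g σ s s' hs'⟩

end Cfsg.Agent.PSpAut
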