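import Cfsg.Prelude.Def_KGroupFacts
import Cfsg.Agent.Lib.Classical.SympAut

/-!
Multipliers, inner-diagonal automorphisms and the group of semilinear automorphisms of `PSp_{2m}(q)`.
-/

set_option autoImplicit false
set_option linter.style.haveILetI false
set_option linter.unusedSectionVars false

open Matrix

namespace Cfsg.Agent.PSpAut

open Classical.Sp

variable {F : Type*} [Field F] {m : ℕ}

local notation "bs" => sympB F m

local notation "MM" => Matrix (Fin m ⊕ Fin m) (Fin m ⊕ Fin m) F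

/-- A symplectic element as a similitude. -/
noncomputable def toG (s : Sy m F) : Cfsg.GSp m F :=
  ⟨⟨mat s, mat s⁻¹, mat_mul_inv s, mat_inv_mul s⟩, ⟨1, fun u v => by
    rw [← sympB_apply, ← sympB_apply, Units.val_one, one_mul]; exact mat_pres s u v⟩⟩

theorem toG_mat (s : Sy m F) : ((toG s : GL (Fin m ⊕ Fin m) F) : MM) = mat s := rfl

theorem conj_eq_semi (s : Sy m F) :
    MulAut.conj (QuotientGroup.mk s : Cfsg.PSp m F) = semi (toG s) 1 := by
  refine semi_ext _ _ _ fun t t' ht' => ?_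
  rw [MulAut.conj_apply, ← QuotientGroup.mk_inv, ← QuotientGroup.mk_mul, ← QuotientGroup.mk_mul]
  congr 1
  refine mat_inj ?_
  rw [ht', mat_mul, mat_mul]
  rfl

/-- Inner-diagonal automorphisms as a homomorphism. -/
noncomputable def dgS : Cfsg.GSp m F →* MulAut (Cfsg.PSp m F) where
  toFun g := semi g 1
  map_one' := semi_one
  map_mul' g h := by rw [semi_mul, one_mul, fieldGSp_one]

theorem dgS_apply (g : Cfsg.GSp m F) : dgS g = semi g 1 := rfl

theorem inndiag_eq : Cfsg.inndiagPSp m F = (dgS (F := F) (m := m)).range := by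
  refine le_antisymm ((Subgroup.closure_le _).2 fun β hβ => ?_) ?_
  · obtain ⟨g, hg, h⟩ := hβ
    exact ⟨⟨g, hg⟩, (semi_ext β ⟨g, hg⟩ 1 fun s s' e => h s s' (by simpa [mat] using e)).symm⟩
  · rintro _ ⟨g, rfl⟩
    exact Subgroup.subset_closure ⟨g, g.2, fun s s' e => semi_mk g 1 s s' (by simpa [mat] using e)⟩

theorem inn_le_range : Cfsg.Inn (Cfsg.PSp m F) ≤ (dgS (F := F) (m := m)).range := by
  rintro _ ⟨x, rfl⟩
  obtain ⟨s, rfl⟩ := QuotientGroup.mk_surjective x
  exact ⟨toG s, (conj_eq_semi s).symm⟩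

/-- The automorphisms given by semilinear similitudes. -/
noncomputable def semiSub : Subgroup (MulAut (Cfsg.PSp m F)) where
  carrier := {β | ∃ (g : Cfsg.GSp m F) (σ : F ≃+* F), β = semi g σ}
  one_mem' := ⟨1, 1, semi_one.symm⟩
  mul_mem' := by
    rintro _ _ ⟨g, σ, rfl⟩ ⟨h, τ, rfl⟩
    exact ⟨_, _, semi_mul g h σ τ⟩
  inv_mem' := by
    rintro _ ⟨g, σ, rfl⟩
    refine ⟨fieldGSp σ⁻¹ g⁻¹, σ⁻¹, inv_eq_of_mul_eq_one_left ?_⟩
    rw [semi_mul, inv_mul_cancel, ← map_mul, inv_mul_cancel, map_one, semi_one]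

theorem semi_mem (g : Cfsg.GSp m F) (σ : F ≃+* F) : semi g σ ∈ semiSub := ⟨g, σ, rfl⟩

theorem inn_le_semiSub : Cfsg.Inn (Cfsg.PSp m F) ≤ semiSub := fun β hβ => by
  obtain ⟨g, rfl⟩ := inn_le_range hβ
  exact semi_mem g 1

variable (hm : 2 ≤ m)

include hm

/-- The multiplier of a similitude. -/
noncomputable def mu : Cfsg.GSp m F →* Fˣ where
  toFun g := Units.mk0 (bs (((g : GL (Fin m ⊕ Fin m) F) : MM) *ᵥ Pi.single (Sum.inr ⟨0, by omega⟩) 1)
      (((g : GL (Fin m ⊕ Fin m) F) : MM) *ᵥ Pi.single (Sum.inl ⟨0, by omega⟩) 1)) (by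
    obtain ⟨c, hc⟩ := gsp_spec g.2
    rw [hc]
    simp [sympB_sum, Pi.single_apply])
  map_one' := Units.ext (by simp [sympB_sum, Pi.single_apply, Matrix.one_apply])
  map_mul' g h := Units.ext (by
    obtain ⟨c, hc⟩ := gsp_spec g.2
    obtain ⟨d, hd⟩ := gsp_spec h.2
    simp only [Units.val_mk0, Units.val_mul, Subgroup.coe_mul, ← mulVec_mulVec, hc, hd]
    simp [sympB_sum, Pi.single_apply])

theorem mu_spec (g : Cfsg.GSp m F) (u v : Vec F m) :
    bs (((g : GL (Fin m ⊕ Fin m) F) : MM) *ᵥ u) (((g : GL (Fin m ⊕ Fin m) F) : MM) *ᵥ v) =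
      (mu hm g : F) * bs u v := by
  obtain ⟨c, hc⟩ := gsp_spec g.2
  rw [hc, show (mu hm g : F) = bs _ _ from rfl, hc]
  simp [sympB_sum, Pi.single_apply]

theorem mu_toG (s : Sy m F) : mu hm (toG s) = 1 := Units.ext (by
  show bs (mat s *ᵥ _) (mat s *ᵥ _) = 1
  rw [mat_pres]
  simp [sympB_sum, Pi.single_apply])

theorem mu_scalar {g : Cfsg.GSp m F} {c : F} (h : ((g : GL (Fin m ⊕ Fin m) F) : MM) = c • 1) :
    (mu hm g : F) = c * c := by
  show bs _ _ = _
  rw [h, smul_mulVec, smul_mulVec, one_mulVec, one_mulVec]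
  simp [sympB_sum, Pi.single_apply]

theorem mu_field (σ : F ≃+* F) (g : Cfsg.GSp m F) : (mu hm (fieldGSp σ g) : F) = σ (mu hm g) := by
  show bs ((((g : GL (Fin m ⊕ Fin m) F) : MM).map σ) *ᵥ _) ((((g : GL (Fin m ⊕ Fin m) F) : MM).map σ) *ᵥ _) = σ (bs _ _)
  rw [← bs_comp, ← map_mulVec', ← map_mulVec']
  congr 3 <;> funext i <;> simp [Pi.single_apply, apply_ite σ]

theorem mu_surjective : Function.Surjective (mu (F := F) hm) := fun c => by
  let d : Fin m ⊕ Fin m → F := Sum.elim (fun _ => 1) (fun _ => (c : F))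
  let T : GL (Fin m ⊕ Fin m) F := GeneralLinearGroup.mkOfDetNeZero (Matrix.diagonal d) (by
    rw [det_diagonal]
    refine Finset.prod_ne_zero_iff.2 fun k _ => ?_
    rcases k with i | i <;> simp [d])
  have hT : T ∈ Cfsg.GSp m F := ⟨c, fun u v => by
    rw [← sympB_apply, ← sympB_apply]
    show bs (Matrix.diagonal d *ᵥ u) (Matrix.diagonal d *ᵥ v) = c * bs u v
    simp [sympB_sum, mulVec_diagonal, d, mul_sub, Finset.mul_sum, mul_assoc, mul_left_comm]⟩
  refine ⟨⟨T, hT⟩, Units.ext ?_⟩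
  show bs (Matrix.diagonal d *ᵥ _) (Matrix.diagonal d *ᵥ _) = c
  simp [sympB_sum, mulVec_diagonal, d, Pi.single_apply]

theorem eq_smul_of_dgS {g h : Cfsg.GSp m F} (e : dgS g = dgS h) :
    ∃ c : F, ((h⁻¹ * g : Cfsg.GSp m F) : GL (Fin m ⊕ Fin m) F).1 = c • 1 := by
  have e2 : dgS (h⁻¹ * g) = 1 := by rw [map_mul, map_inv, e, inv_mul_cancel]
  exact (eq_one_of_semi_eq_one hm e2).2

/-- Inner automorphisms correspond to square multipliers. -/
theorem comap_inn : (Cfsg.Inn (Cfsg.PSp m F)).comap dgS =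
    ((powMonoidHom 2 : Fˣ →* Fˣ).range).comap (mu hm) := by
  ext g
  rw [Subgroup.mem_comap, Subgroup.mem_comap]
  constructor
  · rintro ⟨x, hx⟩
    obtain ⟨s, rfl⟩ := QuotientGroup.mk_surjective x
    rw [conj_eq_semi] at hx
    obtain ⟨c, hc⟩ := eq_smul_of_dgS hm (g := g) (h := toG s) hx.symm
    have e := mu_scalar hm hc
    rw [map_mul, map_inv, mu_toG, inv_one, one_mul] at e
    have hc0 : c ≠ 0 := fun h0 => (mu hm g).ne_zero (by rw [e, h0, mul_zero])
    exact ⟨Units.mk0 c hc0, Units.ext (by simp [e, pow_two])⟩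
  · rintro ⟨c, hc⟩
    have hμ : (mu hm g : F) = (c : F) * c := by rw [← hc]; simp [pow_two]
    let M : MM := ((c⁻¹ : Fˣ) : F) • ((g : GL (Fin m ⊕ Fin m) F) : MM)
    have hM : M ∈ Matrix.symplecticGroup (Fin m) F := (mem_symplectic_iff m M).2 fun u v => by
      simp only [M, smul_mulVec, map_smul, LinearMap.smul_apply, smul_eq_mul, mu_spec hm, hμ]
      simp [← mul_assoc]
    let s : Sy m F := ⟨M, hM⟩
    refine ⟨QuotientGroup.mk s, (conj_eq_semi s).trans ?_⟩
    refine semi_ext _ g 1 fun t t' ht' => semi_mk _ _ _ _ ?_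
    have hinv : (((toG s : GL (Fin m ⊕ Fin m) F)⁻¹ : GL (Fin m ⊕ Fin m) F) : MM) =
        (c : F) • (((g : GL (Fin m ⊕ Fin m) F)⁻¹ : GL (Fin m ⊕ Fin m) F) : MM) := by
      refine left_inv_eq_right_inv (Units.inv_mul _) ?_
      show M * _ = 1
      rw [smul_mul_smul_comm, Units.inv_mul, one_smul, Units.mul_inv]
    rw [ht', hinv, toG_mat]
    show _ = M * _ * _
    rw [smul_mul_assoc, smul_mul_assoc, mul_smul_comm, smul_smul, Units.inv_mul, one_smul]

theorem rep_unique {g h : Cfsg.GSp m F} {σ τ : F ≃+* F} (he : semi g σ = semi h τ) : σ = τ := by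
  have hinv : semi (fieldGSp σ⁻¹ g⁻¹) σ⁻¹ * semi g σ = 1 := by
    rw [semi_mul, inv_mul_cancel, ← map_mul, inv_mul_cancel, map_one, semi_one]
  rw [he, semi_mul] at hinv
  exact inv_mul_eq_one.1 (eq_one_of_semi_eq_one hm hinv).1

theorem rep_choose {g : Cfsg.GSp m F} {σ : F ≃+* F} {β : semiSub (F := F) (m := m)}
    (h : (β : MulAut (Cfsg.PSp m F)) = semi g σ) : β.2.choose_spec.choose = σ :=
  rep_unique hm (β.2.choose_spec.choose_spec.symm.trans h)

/-- The field part of a semilinear automorphism. -/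
noncomputable def part : semiSub (F := F) (m := m) →* (F ≃+* F) where
  toFun β := β.2.choose_spec.choose
  map_one' := rep_choose hm (g := 1) semi_one.symm
  map_mul' a b := by
    obtain ⟨g, σ, ha⟩ := a.2
    obtain ⟨h, τ, hb⟩ := b.2
    rw [rep_choose hm ha, rep_choose hm hb]
    exact rep_choose hm (by rw [Subgroup.coe_mul, ha, hb, semi_mul])

theorem part_eq {g : Cfsg.GSp m F} {σ : F ≃+* F} {β : semiSub (F := F) (m := m)}
    (h : (β : MulAut (Cfsg.PSp m F)) = semi g σ) : part hm β = σ := rep_choose hm h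

variable [Fintype F]

omit hm in
/-- The automorphisms of a finite field form a cyclic group. -/
theorem exists_field_aut {p f : ℕ} [Fact p.Prime] (hf : 1 ≤ f) (hF : Fintype.card F = p ^ f) :
    Nonempty ((F ≃+* F) ≃* Multiplicative (ZMod f)) := by
  obtain ⟨p', hp'⟩ := CharP.exists F
  obtain ⟨k, hpp, hk⟩ := FiniteField.card F p'
  obtain rfl : p' = p := (Nat.prime_eq_prime_of_dvd_pow hpp Fact.out
    (hk.symm.trans hF ▸ dvd_pow_self p' k.ne_zero))
  letI := ZMod.algebra F p'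
  have hfr : Module.finrank (ZMod p') F = f := by
    have e := Module.card_eq_pow_finrank (K := ZMod p') (V := F)
    rw [hF, ZMod.card] at e
    exact (Nat.pow_right_injective hpp.two_le e).symm
  let r : (F ≃+* F) ≃* (F ≃ₐ[ZMod p'] F) :=
    { toFun := fun φ => AlgEquiv.ofRingEquiv (f := φ) fun x =>
        RingHom.congr_fun (Subsingleton.elim ((φ : F →+* F).comp (algebraMap (ZMod p') F)) (algebraMap (ZMod p') F)) x
      invFun := fun ψ => ψ.toRingEquiv
      left_inv := fun φ => RingEquiv.ext fun _ => rfl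
      right_inv := fun ψ => AlgEquiv.ext fun _ => rfl
      map_mul' := fun _ _ => AlgEquiv.ext fun _ => rfl }
  have hcyc : IsCyclic (F ≃ₐ[ZMod p'] F) := inferInstance
  have hcard : Nat.card (F ≃ₐ[ZMod p'] F) = f := by rw [IsGalois.card_aut_eq_finrank, hfr]
  exact ⟨r.trans (hcard ▸ (zmodCyclicMulEquiv hcyc).symm)⟩

omit hm in
theorem card_field_aut {p f : ℕ} [Fact p.Prime] (hf : 1 ≤ f) (hF : Fintype.card F = p ^ f) :
    Nat.card (F ≃+* F) = f := by
  obtain ⟨e⟩ := exists_field_aut hf hF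
  rw [Nat.card_congr e.toEquiv, Nat.card_congr (Multiplicative.toAdd (α := ZMod f)), Nat.card_zmod]

theorem card_range_dgS : Nat.card (dgS (F := F) (m := m)).range =
    Nat.gcd 2 (Nat.card F - 1) * Nat.card (Cfsg.PSp m F) := by
  have h1 : (Cfsg.Inn (Cfsg.PSp m F)).relIndex (dgS (F := F) (m := m)).range = Nat.gcd 2 (Nat.card F - 1) := by
    rw [← Subgroup.index_comap, comap_inn hm, Subgroup.index_comap_of_surjective _ (mu_surjective hm)]
    have h1 := ((powMonoidHom 2 : Fˣ →* Fˣ).range).card_mul_index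
    have h2 := ((powMonoidHom 2 : Fˣ →* Fˣ).ker).card_mul_index
    rw [Subgroup.index_ker, IsCyclic.card_powMonoidHom_ker, mul_comm] at h2
    rw [← h2] at h1
    rw [Nat.eq_of_mul_eq_mul_left Nat.card_pos h1, Nat.card_units, Nat.gcd_comm]
  have h2 := ((Cfsg.Inn (Cfsg.PSp m F)).subgroupOf (dgS (F := F) (m := m)).range).card_mul_index
  rw [Nat.card_congr (Subgroup.subgroupOfEquivOfLe inn_le_range).toEquiv,
    show Nat.card (Cfsg.Inn (Cfsg.PSp m F)) = Nat.card (Cfsg.PSp m F) from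
      (Nat.card_congr (MonoidHom.ofInjective (conj_injective hm)).toEquiv).symm] at h2
  rw [← h2, mul_comm (Nat.gcd _ _), ← h1]
  rfl

/-- The number of semilinear automorphisms. -/
theorem card_semiSub {p f : ℕ} [Fact p.Prime] (hf : 1 ≤ f) (hF : Fintype.card F = p ^ f) :
    Nat.card (semiSub (F := F) (m := m)) = Nat.gcd 2 (p ^ f - 1) * f * Nat.card (Cfsg.PSp m F) := by
  have hs : Function.Surjective (part (F := F) hm) := fun σ => ⟨⟨semi 1 σ, semi_mem 1 σ⟩, part_eq hm rfl⟩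
  have hk : (part (F := F) hm).ker.map (semiSub (F := F) (m := m)).subtype = (dgS (F := F) (m := m)).range := by
    ext β
    constructor
    · rintro ⟨⟨_, g, σ, rfl⟩, hb, rfl⟩
      have : σ = 1 := (part_eq hm (β := ⟨_, g, σ, rfl⟩) rfl).symm.trans hb
      exact ⟨g, by rw [this]; rfl⟩
    · rintro ⟨g, rfl⟩
      exact ⟨⟨dgS g, semi_mem g 1⟩, part_eq hm rfl, rfl⟩
  rw [← (part (F := F) hm).ker.index_mul_card, Subgroup.index_ker, MonoidHom.range_eq_top.2 hs, Subgroup.card_top,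
    card_field_aut hf hF, ← Subgroup.card_subtype, hk, card_range_dgS hm, Nat.card_eq_fintype_card (α := F), hF]
  ring

end Cfsg.Agent.PSpAut
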