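import Cfsg.Agent.Lib.Classical.OddAut
import Cfsg.Agent.Lib.Classical.SympAutOut

/-!
Inner-diagonal and outer automorphisms of `Ω_{2m+1}(q)`, `q` odd.
-/

set_option autoImplicit false
set_option linter.style.haveILetI false
set_option linter.unusedSectionVars false

open Matrix QuadraticMap Module

namespace Cfsg.Agent.OddAut

open Cfsg.Agent.Classical Cfsg.Agent.Classical.Refl

variable {F : Type*} [Field F] {m : ℕ}

local notation "MM" => Matrix (Io m) (Io m) F

/-- Inner-diagonal automorphisms as a homomorphism. -/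
noncomputable def dgO : SOo m F →* MulAut (Cfsg.POmega F (Cfsg.quadFormOdd m F)) :=
  (Psi (F := F) (m := m)).comp SemidirectProduct.inl

theorem dgO_mk (k : SOo m F) (s : Cfsg.Omega F (Cfsg.quadFormOdd m F)) :
    dgO k (QuotientGroup.mk s) = QuotientGroup.mk (autT (autI k.1 1) s) := rfl

/-- `Ω` inside the special isometries. -/
def TS (m : ℕ) (F : Type*) [Field F] : Subgroup (SOo m F) :=
  (Cfsg.Omega F (Cfsg.quadFormOdd m F)).subgroupOf (Cfsg.specialIsometryGroup F (Cfsg.quadFormOdd m F))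

theorem TS_normal : (TS m F).Normal := Subgroup.normal_subgroupOf

theorem mem_TS (k : SOo m F) : k ∈ TS m F ↔ k.1 ∈ Cfsg.Omega F (Cfsg.quadFormOdd m F) :=
  Subgroup.mem_subgroupOf

theorem fieldHom_mem_TS (σ : F ≃+* F) (k : SOo m F) (h : k ∈ TS m F) : fieldHom σ k ∈ TS m F :=
  (mem_TS _).2 (commutator_mem (fieldI σ) ((mem_TS _).1 h))

variable [Fintype F] (h2 : (2 : F) ≠ 0) (hm : 3 ≤ m)

include h2 hm

/-- All automorphisms, as semilinear isometries. -/
noncomputable def eAut : Semi m F ≃* MulAut (Cfsg.POmega F (Cfsg.quadFormOdd m F)) :=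
  MulEquiv.ofBijective _ (Psi_bijective h2 hm)

theorem eAut_apply (a : Semi m F) : eAut h2 hm a = Psi a := rfl

theorem dgO_injective : Function.Injective (dgO (F := F) (m := m)) :=
  (Psi_bijective h2 hm).1.comp SemidirectProduct.inl_injective

theorem inndiag_eq : Cfsg.inndiagPOmegaOdd m F = (dgO (F := F) (m := m)).range := by
  refine le_antisymm ((Subgroup.closure_le _).2 fun β hβ => ?_) ?_
  · obtain ⟨g, ⟨μ, hμ⟩, hβ⟩ := hβ
    obtain ⟨a, k, ha, hk⟩ := normalise h2 g μ.ne_zero hμ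
    refine ⟨k, MulEquiv.ext fun x => ?_⟩
    obtain ⟨s, rfl⟩ := QuotientGroup.mk_surjective x
    refine (hβ s (autT (autI k.1 1) s) ?_).symm
    have hinv : matI k.1⁻¹ = a⁻¹ • ((g⁻¹ : GL (Io m) F) : MM) := by
      refine left_inv_eq_right_inv (congrArg (fun z : Is m F => matI z) (inv_mul_cancel k.1)) ?_
      show matI k.1 * _ = 1
      rw [hk, smul_mul_smul_comm, mul_inv_cancel₀ ha, one_smul, Units.mul_inv]
    show matI k.1 * (matI s.1).map id * matI k.1⁻¹ = _
    rw [Matrix.map_id, hk, hinv, smul_mul_assoc, smul_mul_smul_comm, mul_inv_cancel₀ ha, one_smul]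
    rfl
  · rintro _ ⟨k, rfl⟩
    refine Subgroup.subset_closure ⟨(k.1 : GL (Io m) F), ⟨1, fun v => ?_⟩,
      Psi_induced (SemidirectProduct.inl k : Semi m F)⟩
    rw [Units.val_one, one_mul]
    exact k.1.2 v v

theorem conj_eq (t : Cfsg.Omega F (Cfsg.quadFormOdd m F)) :
    MulAut.conj (QuotientGroup.mk t : Cfsg.POmega F (Cfsg.quadFormOdd m F)) = dgO ⟨t.1, det_omega h2 t⟩ := by
  refine MulEquiv.ext fun x => ?_
  obtain ⟨s, rfl⟩ := QuotientGroup.mk_surjective x
  rw [dgO_mk, MulAut.conj_apply, ← QuotientGroup.mk_inv, ← QuotientGroup.mk_mul, ← QuotientGroup.mk_mul]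
  refine congrArg _ (Subtype.ext (matI_inj ?_))
  show matI t.1 * matI s.1 * matI t.1⁻¹ = matI t.1 * (matI s.1).map id * matI t.1⁻¹
  rw [Matrix.map_id]

theorem inn_eq : Cfsg.Inn (Cfsg.POmega F (Cfsg.quadFormOdd m F)) = (TS m F).map dgO := by
  ext β
  constructor
  · rintro ⟨x, rfl⟩
    obtain ⟨t, rfl⟩ := QuotientGroup.mk_surjective x
    exact ⟨⟨t.1, det_omega h2 t⟩, (mem_TS _).2 t.2, (conj_eq h2 hm t).symm⟩
  · rintro ⟨k, hk, rfl⟩
    exact ⟨QuotientGroup.mk (⟨k.1, (mem_TS k).1 hk⟩ : Cfsg.Omega F (Cfsg.quadFormOdd m F)), conj_eq h2 hm _⟩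

theorem inn_le_range : Cfsg.Inn (Cfsg.POmega F (Cfsg.quadFormOdd m F)) ≤ (dgO (F := F) (m := m)).range := by
  rw [inn_eq h2 hm]
  exact Subgroup.map_le_range _ _

theorem comap_inn : (Cfsg.Inn (Cfsg.POmega F (Cfsg.quadFormOdd m F))).comap dgO = TS m F := by
  rw [inn_eq h2 hm, Subgroup.comap_map_eq_self_of_injective (dgO_injective h2 hm)]

theorem card_Omega : Nat.card (Cfsg.POmega F (Cfsg.quadFormOdd m F)) =
    Nat.card (Cfsg.Omega F (Cfsg.quadFormOdd m F)) := by
  obtain ⟨c, P, hc, hP⟩ := exists_frame (m := m) h2 hm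
  exact (Nat.card_eq_of_bijective _ (mk_bij h2 hm hc P hP)).symm

theorem index_special : (Cfsg.specialIsometryGroup F (Cfsg.quadFormOdd m F)).index = 2 := by
  classical
  rw [Cfsg.specialIsometryGroup, Subgroup.index_ker]
  obtain ⟨v, hv⟩ := exists_nonsingular (Qo (m := m) h2) (Qo_nondeg h2) (by rw [card_Io]; omega)
  have hset : ((Matrix.GeneralLinearGroup.det.comp (Is m F).subtype).range : Set Fˣ) = {1, -1} := by
    ext u
    constructor
    · rintro ⟨g, rfl⟩
      rcases mul_self_eq_one_iff.1 (Quad.det_sq_eq_one (Qo (m := m) h2) (Qo_nondeg h2) fun x => g.2 x x) with h | h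
      · exact Or.inl (Units.ext h)
      · exact Or.inr (Units.ext h)
    · rintro (rfl | rfl)
      · exact one_mem _
      · exact ⟨refl (Qo (m := m) h2) v hv, Units.ext (Quad.reflection_det (Qo (m := m) h2) hv)⟩
  rw [← SetLike.coe_sort_coe, hset, Nat.card_coe_set_eq, Set.ncard_pair]
  intro h
  have h' : (1 : F) = -1 := congrArg Units.val h
  exact h2 (by linear_combination h')

theorem index_TS : (TS m F).index = 2 := by
  have hle : Cfsg.Omega F (Cfsg.quadFormOdd m F) ≤ Cfsg.specialIsometryGroup F (Cfsg.quadFormOdd m F) :=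
    fun x hx => det_omega h2 ⟨x, hx⟩
  have h := Subgroup.relIndex_mul_index hle
  rw [index_special h2 hm, show (Cfsg.Omega F (Cfsg.quadFormOdd m F)).index = 4 from
    index_commutator (Qo (m := m) h2) (Qo_nondeg h2) h2 (by rw [card_Io]; omega)] at h
  show (Cfsg.Omega F (Cfsg.quadFormOdd m F)).relIndex _ = 2
  omega

theorem card_SO : Nat.card (SOo m F) = 2 * Nat.card (Cfsg.POmega F (Cfsg.quadFormOdd m F)) := by
  have h := (TS m F).index_mul_card
  rw [index_TS h2 hm] at h
  rw [← h, card_Omega h2 hm]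
  congr 1
  exact Nat.card_congr (Subgroup.subgroupOfEquivOfLe (fun x hx => det_omega h2 ⟨x, hx⟩)).toEquiv

/-- The order of the automorphism group. -/
theorem card_aut {p f : ℕ} [Fact p.Prime] (hf : 1 ≤ f) (hF : Fintype.card F = p ^ f) :
    Nat.card (MulAut (Cfsg.POmega F (Cfsg.quadFormOdd m F))) =
      2 * f * Nat.card (Cfsg.POmega F (Cfsg.quadFormOdd m F)) := by
  rw [← Nat.card_congr (eAut h2 hm).toEquiv, SemidirectProduct.card, card_SO h2 hm,
    PSpAut.card_field_aut hf hF]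
  ring

theorem mk_field (σ : F ≃+* F) (k : SOo m F) :
    haveI := TS_normal (F := F) (m := m)
    (QuotientGroup.mk (fieldHom σ k) : SOo m F ⧸ TS m F) = QuotientGroup.mk k := by
  haveI := TS_normal (F := F) (m := m)
  rw [QuotientGroup.eq, Subgroup.mul_mem_iff_of_index_two (index_TS h2 hm), inv_mem_iff]
  refine ⟨fun h => ?_, fieldHom_mem_TS σ k⟩
  have := fieldHom_mem_TS σ⁻¹ _ h
  rwa [← MulAut.mul_apply, ← map_mul, inv_mul_cancel, map_one, MulAut.one_apply] at this

/-- The outer automorphism group. -/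
theorem out_equiv {p f : ℕ} [Fact p.Prime] (hf : 1 ≤ f) (hF : Fintype.card F = p ^ f) :
    Nonempty (Cfsg.Out (Cfsg.POmega F (Cfsg.quadFormOdd m F)) ≃* Multiplicative (ZMod 2 × ZMod f)) := by
  haveI := TS_normal (F := F) (m := m)
  haveI : Fact (Nat.Prime 2) := ⟨Nat.prime_two⟩
  have hcard : Nat.card (SOo m F ⧸ TS m F) = 2 := index_TS h2 hm
  have hcyc : IsCyclic (SOo m F ⧸ TS m F) := isCyclic_of_prime_card hcard
  let e2 : (SOo m F ⧸ TS m F) ≃* Multiplicative (ZMod 2) :=
    mulEquivOfPrimeCardEq (p := 2) hcard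
      (by rw [Nat.card_congr (Multiplicative.toAdd (α := ZMod 2)), Nat.card_zmod])
  obtain ⟨eG⟩ := PSpAut.exists_field_aut (F := F) hf hF
  let Θ : Semi m F →* Multiplicative (ZMod 2) × Multiplicative (ZMod f) :=
    { toFun := fun a => (e2 (QuotientGroup.mk a.left), eG a.right)
      map_one' := by
        show (e2 (QuotientGroup.mk 1), eG 1) = 1
        rw [QuotientGroup.mk_one, map_one, map_one]; rfl
      map_mul' := fun a b => by
        show (e2 (QuotientGroup.mk (a.left * fieldHom a.right b.left)), eG (a.right * b.right)) = _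
        rw [QuotientGroup.mk_mul, mk_field h2 hm, map_mul, map_mul]; rfl }
  have hsurj : Function.Surjective Θ := by
    rintro ⟨u, v⟩
    obtain ⟨k, hk⟩ := QuotientGroup.mk_surjective (e2.symm u)
    refine ⟨⟨k, eG.symm v⟩, Prod.ext ?_ (eG.apply_symm_apply v)⟩
    show e2 (QuotientGroup.mk k) = u
    rw [hk, e2.apply_symm_apply]
  have hker : Θ.ker.map (eAut h2 hm).toMonoidHom = Cfsg.Inn (Cfsg.POmega F (Cfsg.quadFormOdd m F)) := by
    rw [inn_eq h2 hm, show (dgO (F := F) (m := m)) = (eAut h2 hm).toMonoidHom.comp SemidirectProduct.inl from rfl,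
      ← Subgroup.map_map]
    congr 1
    ext a
    constructor
    · intro ha
      have h1 := congrArg Prod.fst (MonoidHom.mem_ker.1 ha)
      have h3 := congrArg Prod.snd (MonoidHom.mem_ker.1 ha)
      change e2 (QuotientGroup.mk a.left) = 1 at h1
      change eG a.right = 1 at h3
      rw [map_eq_one_iff _ e2.injective, QuotientGroup.eq_one_iff] at h1
      rw [map_eq_one_iff _ eG.injective] at h3
      exact ⟨a.left, h1, SemidirectProduct.ext rfl h3.symm⟩
    · rintro ⟨k, hk, rfl⟩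
      refine MonoidHom.mem_ker.2 ?_
      show (e2 (QuotientGroup.mk k), eG 1) = 1
      rw [(QuotientGroup.eq_one_iff k).2 hk, map_one, map_one]; rfl
  exact ⟨((QuotientGroup.congr Θ.ker (Cfsg.Inn (Cfsg.POmega F (Cfsg.quadFormOdd m F))) (eAut h2 hm) hker).symm.trans
    (QuotientGroup.quotientKerEquivOfSurjective Θ hsurj)).trans
      (MulEquiv.prodMultiplicative (ZMod 2) (ZMod f)).symm⟩

end Cfsg.Agent.OddAut
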