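import Cfsg.Agent.Lib.Classical.OddAut

/-!
Simplicity of `PΩ_{2m+1}(q)`, `q` odd: a normal subgroup joins two points of the class, hence all of them.
-/

set_option autoImplicit false
set_option linter.style.haveILetI false
set_option linter.unusedSectionVars false

open Matrix QuadraticMap Module

namespace Cfsg.Agent.OddAut

open Cfsg.Agent.Classical Cfsg.Agent.Classical.Refl

section general

variable {F : Type*} [Field F] [Fintype F] {ι : Type} [Fintype ι] [DecidableEq ι] (Q : QuadraticForm F (ι → F))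
  (hQ : (polarBilin Q).Nondegenerate) (h2 : (2 : F) ≠ 0) (hn : 7 ≤ Fintype.card ι)

include hQ h2 hn

/-- The orthogonal of two vectors represents everything. -/
theorem perp_two {x y : ι → F} (hx : Q x ≠ 0) (d : F) :
    ∃ v, polar Q x v = 0 ∧ polar Q y v = 0 ∧ Q v = d := by
  let φ : (ι → F) →ₗ[F] F × F := (polarBilin Q x).prod (polarBilin Q y)
  set W := LinearMap.ker φ with hW
  have memW : ∀ v, v ∈ W ↔ polar Q x v = 0 ∧ polar Q y v = 0 := fun v => by
    simp [hW, φ, LinearMap.mem_ker, Prod.ext_iff]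
  let R : Submodule F (ι → F) := W ⊓ Submodule.span F {x, y}
  have hRW : R ≤ W := inf_le_left
  obtain ⟨C, hC⟩ := (R.comap W.subtype).exists_isCompl
  set W0 : Submodule F (ι → F) := C.map W.subtype
  have hxR : x ∉ R := fun h => by
    have := ((memW x).1 (hRW h)).1
    rw [WittExt.polar_self_eq] at this
    exact mul_ne_zero h2 hx this
  have hdimR : finrank F R ≤ 1 := by
    have hlt : finrank F R < finrank F (Submodule.span F ({x, y} : Set (ι → F))) :=
      Submodule.finrank_lt_finrank_of_lt (lt_of_le_of_ne inf_le_right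
        fun h => hxR (h ▸ Submodule.subset_span (Set.mem_insert _ _)))
    classical
    have h2' : finrank F (Submodule.span F ({x, y} : Set (ι → F))) ≤ 2 := by
      have := finrank_span_finset_le_card (R := F) ({x, y} : Finset (ι → F))
      rw [Finset.coe_pair] at this
      exact this.trans Finset.card_le_two
    omega
  have hdimW : 5 ≤ finrank F W := by
    have h := LinearMap.finrank_range_add_finrank_ker φ
    have h' := Submodule.finrank_le (LinearMap.range φ)
    rw [finrank_prod, finrank_self] at h'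
    rw [finrank_pi, ← hW] at h
    omega
  have hdim0 : 3 ≤ finrank F W0 := by
    rw [Submodule.finrank_map_subtype_eq]
    have h := Submodule.finrank_add_eq_of_isCompl hC
    have h' : finrank F (R.comap W.subtype) = finrank F R :=
      (Submodule.comapSubtypeEquivOfLe hRW).finrank_eq
    omega
  obtain ⟨z, hzW0, hz0, hz⟩ := WittDec.exists_singular_mem Q W0 hdim0
  have hzW : z ∈ W := Submodule.map_subtype_le _ _ hzW0
  have hpart : ∃ v ∈ W, polar Q z v ≠ 0 := by
    by_contra hcon
    push Not at hcon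
    have hzR : z ∈ R := by
      refine Submodule.mem_inf.2 ⟨hzW, ?_⟩
      by_contra hspan
      obtain ⟨f, hfz, hf⟩ := Submodule.exists_dual_map_eq_bot_of_notMem hspan inferInstance
      obtain ⟨v, hv⟩ := WittExt.exists_polar_eq Q hQ f
      have hvW : v ∈ W := (memW v).2 ⟨by
          rw [polar_comm, hv]
          have : f x ∈ Submodule.map f (Submodule.span F {x, y}) := ⟨x, Submodule.subset_span (by simp), rfl⟩
          rwa [hf, Submodule.mem_bot] at this, by
          rw [polar_comm, hv]
          have : f y ∈ Submodule.map f (Submodule.span F {x, y}) := ⟨y, Submodule.subset_span (by simp), rfl⟩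
          rwa [hf, Submodule.mem_bot] at this⟩
      exact hfz (by rw [← hv, polar_comm]; exact hcon v hvW)
    obtain ⟨z', hz', rfl⟩ := hzW0
    have : z' ∈ R.comap W.subtype ⊓ C := Submodule.mem_inf.2 ⟨hzR, hz'⟩
    rw [hC.inf_eq_bot, Submodule.mem_bot] at this
    exact hz0 (by rw [this, map_zero])
  obtain ⟨v, hvW, hv⟩ := hpart
  obtain ⟨e1, e2⟩ := (memW v).1 hvW
  obtain ⟨f1, f2⟩ := (memW z).1 hzW
  have hv' : polar Q v z ≠ 0 := by rwa [polar_comm]
  refine ⟨v + ((d - Q v) / polar Q z v) • z, ?_, ?_, ?_⟩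
  · rw [polar_add_right, polar_smul_right, e1, f1, smul_zero, add_zero]
  · rw [polar_add_right, polar_smul_right, e2, f2, smul_zero, add_zero]
  · rw [QuadraticMap.map_add (⇑Q), QuadraticMap.map_smul, hz, polar_smul_right, polar_comm, smul_eq_mul, smul_eq_mul]
    field_simp
    ring

/-- Witt transitivity inside `Ω`. -/
theorem omega_move {x y x' y' : ι → F} (hli : LinearIndependent F ![x, y]) (hli' : LinearIndependent F ![x', y'])
    (hx : Q x ≠ 0) (e1 : Q x' = Q x) (e2 : Q y' = Q y) (e3 : polar Q x' y' = polar Q x y) :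
    ∃ t ∈ commutator (O Q), act Q t x = x' ∧ act Q t y = y' := by
  let X := Submodule.span F (Set.range ![x, y])
  let b := Basis.span hli
  let f : X →ₗ[F] (ι → F) := b.constr F ![x', y']
  have hb : ∀ i, ((b i : X) : ι → F) = ![x, y] i := fun i => congrArg Subtype.val (Basis.span_apply hli i)
  have hf : ∀ i, f (b i) = ![x', y'] i := fun i => b.constr_basis F _ i
  have hcoe : ∀ v : X, ∃ r s : F, (v : ι → F) = r • x + s • y ∧ f v = r • x' + s • y' := fun v => by
    refine ⟨b.repr v 0, b.repr v 1, ?_, ?_⟩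
    · have := (congrArg Subtype.val (b.sum_repr v)).symm
      rw [Fin.sum_univ_two] at this
      refine this.trans ?_
      simp [hb]
    · have := (congrArg f (b.sum_repr v)).symm
      rw [Fin.sum_univ_two] at this
      refine this.trans ?_
      simp [hf]
  have hfi : Function.Injective f := by
    rw [← LinearMap.ker_eq_bot, LinearMap.ker_eq_bot']
    intro v hv
    obtain ⟨r, s, e, e'⟩ := hcoe v
    rw [hv, eq_comm] at e'
    obtain ⟨rfl, rfl⟩ := LinearIndependent.pair_iff.1 hli' r s e'
    exact Subtype.ext (by rw [e]; simp)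
  have hfQ : ∀ v : X, Q (f v) = Q (v : ι → F) := fun v => by
    obtain ⟨r, s, e, e'⟩ := hcoe v
    rw [e, e', QuadraticMap.map_add (⇑Q), QuadraticMap.map_add (⇑Q) (r • x), QuadraticMap.map_smul,
      QuadraticMap.map_smul, QuadraticMap.map_smul, QuadraticMap.map_smul, polar_smul_left, polar_smul_right,
      polar_smul_left, polar_smul_right, e1, e2, e3]
  obtain ⟨g, hg, hgX⟩ := WittExt.extend Q hQ _ X f rfl hfi hfQ
  have hgx : g x = x' := by
    have := hgX (b 0)
    rw [hb, hf] at this
    exact this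
  have hgy : g y = y' := by
    have := hgX (b 1)
    rw [hb, hf] at this
    exact this
  set G := ofLin Q g hg
  obtain ⟨u, w, hu, hw, huw⟩ := exists_classes Q hQ h2 (by omega)
  obtain ⟨a, ax, ay, aQ⟩ := perp_two Q hQ h2 hn (x := x) (y := y) hx (Q u)
  obtain ⟨b', bx, by', bQ⟩ := perp_two Q hQ h2 hn (x := x) (y := y) hx (Q w)
  have ha : Q a ≠ 0 := by rw [aQ]; exact hu
  have hb' : Q b' ≠ 0 := by rw [bQ]; exact hw
  have hfix : ∀ (v : ι → F) (hv : Q v ≠ 0) z, polar Q z v = 0 → act Q (refl Q v hv) z = z := fun v hv z hz => by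
    rw [act_refl, polar_comm, hz, mul_zero, zero_smul, sub_zero]
  have hker : ∀ h : O Q, act Q h x = x → act Q h y = y → psi Q hQ h2 (Q u) (G * h) = 1 →
      ∃ t ∈ commutator (O Q), act Q t x = x' ∧ act Q t y = y' := fun h hhx hhy hp => by
    refine ⟨G * h, ?_, ?_, ?_⟩
    · rw [← ker_psi Q hQ h2 hu hw huw]; exact MonoidHom.mem_ker.2 hp
    · rw [act_mul, hhx, act_ofLin]; exact hgx
    · rw [act_mul, hhy, act_ofLin]; exact hgy
  have pa : psi Q hQ h2 (Q u) (refl Q a ha) = (-1, -1) := by
    simp [psi, dickson_refl Q hQ, chi_refl_self Q hQ h2 hu a ha (by rw [aQ]; exact Cls.refl _)]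
  have pb : psi Q hQ h2 (Q u) (refl Q b' hb') = (-1, 1) := by
    simp [psi, dickson_refl Q hQ, chi_refl_other Q hQ h2 hu b' hb' (by
      rw [bQ]; exact fun h => huw (h.symm hu))]
  rcases Int.units_eq_one_or (psi Q hQ h2 (Q u) G).1 with h1 | h1 <;>
    rcases Int.units_eq_one_or (psi Q hQ h2 (Q u) G).2 with h3 | h3
  · exact hker 1 (act_one Q x) (act_one Q y) (by rw [mul_one]; exact Prod.ext h1 h3)
  · refine hker (refl Q a ha * refl Q b' hb') ?_ ?_ ?_
    · rw [act_mul, hfix b' hb' x bx, hfix a ha x ax]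
    · rw [act_mul, hfix b' hb' y by', hfix a ha y ay]
    · rw [map_mul, map_mul, pa, pb]
      exact Prod.ext (by simp [h1]) (by simp [h3])
  · refine hker (refl Q b' hb') (hfix b' hb' x bx) (hfix b' hb' y by') ?_
    rw [map_mul, pb]
    exact Prod.ext (by simp [h1]) (by simp [h3])
  · refine hker (refl Q a ha) (hfix a ha x ax) (hfix a ha y ay) ?_
    rw [map_mul, pa]
    exact Prod.ext (by simp [h1]) (by simp [h3])

theorem li_orth {x y : ι → F} (hx : Q x ≠ 0) (hy : Q y ≠ 0) (h : polar Q x y = 0) : LinearIndependent F ![x, y] := by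
  rw [LinearIndependent.pair_iff]
  intro r s e
  have h1 := congrArg (polar Q x) e
  have h3 := congrArg (polar Q y) e
  rw [polar_add_right, polar_smul_right, polar_smul_right, WittExt.polar_self_eq, h, polar_zero_right] at h1
  rw [polar_add_right, polar_smul_right, polar_smul_right, WittExt.polar_self_eq, polar_comm (⇑Q) y x, h,
    polar_zero_right] at h3
  simp [h2, hx, hy] at h1 h3
  exact ⟨h1, h3⟩

/-- From any pair of points to an orthogonal pair. -/
theorem exists_orth_move {c : F} (hc : c ≠ 0) {x y : ι → F} (hx : Q x = c) (hy : Q y = c)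
    (hli : LinearIndependent F ![x, y]) (hβ : polar Q x y ≠ 0) :
    ∃ y', Q y' = c ∧ polar Q x y' = polar Q x y ∧ polar Q y y' = 0 ∧ LinearIndependent F ![x, y'] := by
  set β := polar Q x y with hβdef
  have hxx : polar Q x x = 2 * c := by rw [WittExt.polar_self_eq, hx]
  have hyy : polar Q y y = 2 * c := by rw [WittExt.polar_self_eq, hy]
  have hind : ∀ y', polar Q x y' = β → polar Q y y' = 0 → Q y' = c → LinearIndependent F ![x, y'] := by
    intro y' h1 h3 h4
    rw [LinearIndependent.pair_iff' (fun e => hc (by rw [← hx, e, QuadraticMap.map_zero]))]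
    intro a e
    have h5 : a * β = 0 := by
      rw [← e, polar_smul_right, polar_comm (⇑Q) y x, ← hβdef, smul_eq_mul] at h3
      exact h3
    rcases mul_eq_zero.1 h5 with rfl | h
    · rw [zero_smul] at e
      exact hc (by rw [← h4, ← e, QuadraticMap.map_zero])
    · exact hβ h
  by_cases hD : 4 * c * c - β * β = 0
  · -- the pair spans a degenerate plane
    set ε := β / (2 * c) with hε
    have hεε : ε * ε = 1 := by
      rw [hε]; field_simp
      linear_combination -hD
    have hβε : β = 2 * c * ε := by rw [hε]; field_simp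
    set r := y - ε • x with hr
    have hxr : polar Q x r = 0 := by
      rw [hr, polar_sub_right, polar_smul_right, hxx, ← hβdef, smul_eq_mul, hβε]; ring
    have hyr : polar Q y r = 0 := by
      rw [hr, polar_sub_right, polar_smul_right, hyy, polar_comm (⇑Q) y x, ← hβdef, smul_eq_mul, hβε]
      linear_combination -(2 * c) * hεε
    have hr0 : r ≠ 0 := fun h => by
      rw [hr, sub_eq_zero] at h
      exact ((LinearIndependent.pair_iff' (fun e => hc (by rw [← hx, e, QuadraticMap.map_zero]))).1 hli ε) h.symm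
    have hQr : Q r = 0 := by
      have : polar Q r r = 0 := by rw [hr, polar_sub_left, polar_smul_left, ← hr, hxr, hyr, smul_zero, sub_zero]
      rw [WittExt.polar_self_eq] at this
      exact (mul_eq_zero.1 this).resolve_left h2
    obtain ⟨v, hvx, hvr⟩ : ∃ v, polar Q x v = 0 ∧ polar Q r v ≠ 0 := by
      obtain ⟨z, hz⟩ : ∃ z, polar Q r z ≠ 0 := by
        by_contra hcon
        push Not at hcon
        exact hr0 (hQ.1 r hcon)
      refine ⟨z - ((2 * c)⁻¹ * polar Q x z) • x, ?_, ?_⟩
      · rw [polar_sub_right, polar_smul_right, hxx, smul_eq_mul]; field_simp; ring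
      · rwa [polar_sub_right, polar_smul_right, polar_comm (⇑Q) r x, hxr, smul_zero, sub_zero]
    set e := -(ε * β) with he
    have he0 : e ≠ 0 := neg_ne_zero.2 (mul_ne_zero (fun h => by rw [h, mul_zero] at hεε; exact zero_ne_one hεε) hβ)
    obtain ⟨v0, h1, h3⟩ : ∃ v0, polar Q x v0 = 0 ∧ polar Q r v0 = e :=
      ⟨(e / polar Q r v) • v, by rw [polar_smul_right, hvx, smul_zero],
        by rw [polar_smul_right, smul_eq_mul, div_mul_cancel₀ _ hvr]⟩
    have h4 : polar Q y v0 = e := by
      have : y = r + ε • x := by rw [hr]; abel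
      rw [this, polar_add_left, polar_smul_left, h1, h3, smul_zero, add_zero]
    set v' := v0 + (-Q v0 / e) • r with hv'
    have g1 : polar Q x v' = 0 := by rw [hv', polar_add_right, polar_smul_right, h1, hxr, smul_zero, add_zero]
    have g2 : polar Q y v' = e := by rw [hv', polar_add_right, polar_smul_right, h4, hyr, smul_zero, add_zero]
    have g3 : Q v' = 0 := by
      rw [hv', QuadraticMap.map_add (⇑Q), QuadraticMap.map_smul, hQr, polar_smul_right, polar_comm, h3]
      simp only [smul_eq_mul]
      field_simp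
      ring
    refine ⟨ε • x + v', ?_, ?_, ?_, hind _ ?_ ?_ ?_⟩
    all_goals first
      | (rw [polar_add_right, polar_smul_right, hxx, g1, smul_eq_mul, hβε]; ring)
      | (rw [polar_add_right, polar_smul_right, polar_comm (⇑Q) y x, ← hβdef, g2, smul_eq_mul, he]; ring)
      | (rw [QuadraticMap.map_add (⇑Q), QuadraticMap.map_smul, g3, polar_smul_left, g1, hx, smul_eq_mul,
           smul_eq_mul]; linear_combination c * hεε)
  · set γ := -(β * β) / (4 * c * c - β * β) with hγ
    set a := 2 * c * β / (4 * c * c - β * β) with ha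
    obtain ⟨v, vx, vy, vQ⟩ := perp_two Q hQ h2 hn (x := x) (y := y) (by rw [hx]; exact hc) (c - Q (a • x + γ • y))
    have haD : a * (4 * c * c - β * β) = 2 * c * β := by rw [ha]; exact div_mul_cancel₀ _ hD
    have hγD : γ * (4 * c * c - β * β) = -(β * β) := by rw [hγ]; exact div_mul_cancel₀ _ hD
    refine ⟨a • x + γ • y + v, ?_, ?_, ?_, hind _ ?_ ?_ ?_⟩
    all_goals first
      | (rw [polar_add_right, polar_add_right, polar_smul_right, polar_smul_right, hxx, vx, ← hβdef, smul_eq_mul,
           smul_eq_mul]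
         refine mul_right_cancel₀ hD ?_
         linear_combination (2 * c) * haD + β * hγD)
      | (rw [polar_add_right, polar_add_right, polar_smul_right, polar_smul_right, polar_comm (⇑Q) y x, ← hβdef,
           hyy, vy, smul_eq_mul, smul_eq_mul]
         refine mul_right_cancel₀ hD ?_
         linear_combination β * haD + (2 * c) * hγD)
      | (rw [QuadraticMap.map_add (⇑Q) (a • x + γ • y) v, vQ, polar_add_left, polar_smul_left, polar_smul_left, vx,
           vy]; simp)

end general

variable {F : Type*} [Field F] [Fintype F] {m : ℕ} (h2 : (2 : F) ≠ 0) (hm : 3 ≤ m)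

include h2 hm

/-- A non-trivial normal subgroup is everything. -/
theorem normal_eq_top (N : Subgroup (Cfsg.Omega F (Cfsg.quadFormOdd m F))) [hN : N.Normal] (hne : N ≠ ⊥) : N = ⊤ := by
  classical
  obtain ⟨c, P, hc, hP⟩ := exists_frame (m := m) h2 hm
  set Q := Qo (m := m) h2
  have hQ : (polarBilin Q).Nondegenerate := Qo_nondeg h2
  have hn : 7 ≤ Fintype.card (Io m) := by rw [card_Io]; omega
  let N1 : Subgroup (O Q) := N.map (commutator (O Q)).subtype
  have hTN : ∀ t ∈ commutator (O Q), ∀ g ∈ N1, t * g * t⁻¹ ∈ N1 := by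
    rintro t ht _ ⟨g, hg, rfl⟩
    exact ⟨_, hN.conj_mem g hg ⟨t, ht⟩, rfl⟩
  let R : (x y : Io m → F) → Q x ≠ 0 → Q y ≠ 0 → Prop := fun x y hx hy => sref Q x hx * sref Q y hy ∈ N1
  have Rtrans : ∀ x y z hx hy hz, R x y hx hy → R y z hy hz → R x z hx hz := fun x y z hx hy hz h h' => by
    have := mul_mem h h'
    rwa [mul_assoc, ← mul_assoc (sref Q y hy) (sref Q y hy), sref_sq, one_mul] at this
  have Rsymm : ∀ x y hx hy, R x y hx hy → R y x hy hx := fun x y hx hy h => by
    have := inv_mem h
    rwa [_root_.mul_inv_rev, inv_eq_of_mul_eq_one_right (sref_sq Q x hx),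
      inv_eq_of_mul_eq_one_right (sref_sq Q y hy)] at this
  have Rconj : ∀ t ∈ commutator (O Q), ∀ x y hx hy, R x y hx hy →
      R (act Q t x) (act Q t y) (by rwa [Q_act]) (by rwa [Q_act]) := fun t ht x y hx hy h => by
    have := hTN t ht _ h
    rwa [show t * (sref Q x hx * sref Q y hy) * t⁻¹ = t * sref Q x hx * t⁻¹ * (t * sref Q y hy * t⁻¹) by group,
      sref_conj, sref_conj] at this
  -- two points
  obtain ⟨k, hk, hk1⟩ : ∃ k ∈ N, k ≠ 1 := (Subgroup.bot_or_exists_ne_one N).resolve_left hne
  obtain ⟨x0, hx0, hmove⟩ : ∃ y, InP Q c y ∧ ¬ Par y (matI k.1 *ᵥ y) := by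
    by_contra hcon
    push Not at hcon
    apply hk1
    have := point_fix h2 hm hc P hP ⟨⟨k.1, det_omega h2 k⟩, 1⟩ fun y hy => hcon y hy
    exact Subtype.ext (congrArg (fun a : Semi m F => a.left.1) this)
  have hsc : ∀ y, InP Q c y → ∃ r : F, r ≠ 0 ∧ Q (r • y) = c := by
    rintro y ⟨h0, r, hr⟩
    have hr0 : r ≠ 0 := fun h => by rw [h, mul_zero] at hr; exact mul_ne_zero hc h0 hr
    refine ⟨c / r, div_ne_zero hc hr0, ?_⟩
    rw [QuadraticMap.map_smul, smul_eq_mul]
    field_simp
    linear_combination hr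
  obtain ⟨r, hr, hxc⟩ := hsc x0 hx0
  set x := r • x0 with hxdef
  let kk : O Q := k.1
  set y := act Q kk x with hydef
  have hyc : Q y = c := (Q_act Q kk x).trans hxc
  have hxn : Q x ≠ 0 := by rw [hxc]; exact hc
  have hyn : Q y ≠ 0 := by rw [hyc]; exact hc
  have hxin : InP Q c x := ⟨hxn, c, by rw [hxc]⟩
  have hR : R x y hxn hyn := by
    have hsm : sref Q x hxn ∈ commutator (O Q) := (sref_mem_iff Q hQ h2 card_Io hm hc P hP x hxn).2 hxin.2
    have h1 : kk ∈ N1 := ⟨k, hk, rfl⟩
    have h3 := mul_mem (hTN _ hsm _ h1) (inv_mem h1)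
    rw [inv_eq_of_mul_eq_one_right (sref_sq Q x hxn),
      show sref Q x hxn * kk * sref Q x hxn * kk⁻¹ =
        sref Q x hxn * (kk * sref Q x hxn * kk⁻¹) by group, sref_conj] at h3
    exact h3
  have hli : LinearIndependent F ![x, y] := by
    rw [LinearIndependent.pair_iff' (fun e => hxn (by rw [e, QuadraticMap.map_zero]))]
    intro a ha
    rcases eq_or_ne a 0 with rfl | ha0
    · rw [zero_smul] at ha; exact hyn (by rw [← ha, QuadraticMap.map_zero])
    refine hmove ⟨a, ha0, ?_⟩
    have e : r • (matI k.1 *ᵥ x0) = r • (a • x0) := by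
      rw [smul_comm r a, ← hxdef, ha, hydef, hxdef]
      exact (act_smul' Q kk r x0).symm
    exact smul_right_injective _ hr e
  -- an orthogonal pair
  obtain ⟨u, v, hu, hv, huv, hRuv⟩ : ∃ u v, ∃ (hu : Q u = c) (hv : Q v = c), polar Q u v = 0 ∧
      R u v (by rw [hu]; exact hc) (by rw [hv]; exact hc) := by
    by_cases hβ : polar Q x y = 0
    · exact ⟨x, y, hxc, hyc, hβ, hR⟩
    obtain ⟨y', hy', he, ho, hli'⟩ := exists_orth_move Q hQ h2 hn hc hxc hyc hli hβ
    obtain ⟨t, ht, tx, ty⟩ := omega_move Q hQ h2 hn hli hli' hxn rfl (hy'.trans hyc.symm) he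
    have h3 := Rconj t ht x y hxn hyn hR
    refine ⟨y, y', hyc, hy', ho, ?_⟩
    have h4 : R x y' hxn (by rw [hy']; exact hc) := by
      simp only [tx, ty] at h3
      exact h3
    exact Rtrans _ _ _ _ hxn _ (Rsymm _ _ _ _ hR) h4
  have Rorth : ∀ a b (ha : Q a = c) (hb : Q b = c), polar Q a b = 0 →
      R a b (by rw [ha]; exact hc) (by rw [hb]; exact hc) := by
    intro a b ha hb hab
    have hu0 : Q u ≠ 0 := by rw [hu]; exact hc
    obtain ⟨t, ht, tu, tv⟩ := omega_move Q hQ h2 hn
      (li_orth Q hQ h2 hn hu0 (by rw [hv]; exact hc) huv)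
      (li_orth Q hQ h2 hn (by rw [ha]; exact hc) (by rw [hb]; exact hc) hab) hu0 (ha.trans hu.symm)
      (hb.trans hv.symm) (hab.trans huv.symm)
    have h3 := Rconj t ht u v _ _ hRuv
    simp only [tu, tv] at h3
    exact h3
  have Rall : ∀ a b (ha : Q a = c) (hb : Q b = c), R a b (by rw [ha]; exact hc) (by rw [hb]; exact hc) := by
    intro a b ha hb
    obtain ⟨z, za, zb, hz⟩ := perp_two Q hQ h2 hn (x := a) (y := b) (by rw [ha]; exact hc) c
    exact Rtrans _ _ _ _ (by rw [hz]; exact hc) _ (Rorth a z ha hz za)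
      (Rsymm _ _ _ _ (Rorth b z hb hz zb))
  -- the subgroup generated by the products of two involutions of the class
  let K : Subgroup (O Q) := Subgroup.closure {g | ∃ (a b : Io m → F) (ha : Q a = c) (hb : Q b = c),
    g = refl Q a (by rw [ha]; exact hc) * refl Q b (by rw [hb]; exact hc)}
  haveI hKn : K.Normal := ⟨fun g hg h => by
    induction hg using Subgroup.closure_induction with
    | mem g hg =>
      obtain ⟨a, b, ha, hb, rfl⟩ := hg
      refine Subgroup.subset_closure ⟨act Q h a, act Q h b, (Q_act Q h a).trans ha, (Q_act Q h b).trans hb, ?_⟩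
      rw [← refl_conj Q h a (by rw [ha]; exact hc), ← refl_conj Q h b (by rw [hb]; exact hc)]
      group
    | one => simp
    | mul a b _ _ h1 h3 =>
      rw [show h * (a * b) * h⁻¹ = h * a * h⁻¹ * (h * b * h⁻¹) by group]; exact mul_mem h1 h3
    | inv a _ h1 => rw [show h * a⁻¹ * h⁻¹ = (h * a * h⁻¹)⁻¹ by group]; exact inv_mem h1⟩
  have hKN : K ≤ N1 := (Subgroup.closure_le _).2 fun g ⟨a, b, ha, hb, e⟩ => by
    rw [e]
    have h := Rall a b ha hb
    have hz : ∀ (w : Io m → F) (hw : Q w ≠ 0), negI Q * refl Q w hw = refl Q w hw * negI Q := fun w hw =>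
      act_ext Q fun z => by rw [act_mul, act_mul, act_negI, act_negI, act_neg']
    change negI Q * refl Q a _ * (negI Q * refl Q b _) ∈ N1 at h
    have hnn : negI Q * negI Q = 1 := act_ext Q fun z => by rw [act_mul, act_negI, act_negI, neg_neg, act_one]
    rwa [mul_assoc, ← mul_assoc (refl Q a _), ← hz a, mul_assoc (negI Q) (refl Q a _), ← mul_assoc (negI Q),
      hnn, one_mul] at h
  -- reflections modulo `K`
  obtain ⟨d, hd0, hdc⟩ := exists_not_cls h2 hc
  set π := QuotientGroup.mk' K
  have hcsame : ∀ a b (ha : Q a = c) (hb : Q b = c),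
      π (refl Q a (by rw [ha]; exact hc)) = π (refl Q b (by rw [hb]; exact hc)) := fun a b ha hb => by
    refine QuotientGroup.eq.2 ?_
    rw [refl_inv]
    exact Subgroup.subset_closure ⟨a, b, ha, hb, rfl⟩
  have hdorth : ∀ a b (ha : Q a = d) (hb : Q b = d), polar Q a b = 0 →
      π (refl Q a (by rw [ha]; exact hd0)) = π (refl Q b (by rw [hb]; exact hd0)) := by
    intro a b ha hb hab
    obtain ⟨s, t, hst⟩ := quad2 (odd_card (m := m) h2 hm) hd0 hd0 c
    set a' := s • a + t • b
    set b' := (-t) • a + s • b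
    have ha' : Q a' = c := by
      rw [QuadraticMap.map_add (⇑Q), QuadraticMap.map_smul, QuadraticMap.map_smul, polar_smul_left, polar_smul_right,
        hab, ha, hb]
      simp only [smul_eq_mul]
      linear_combination hst
    have hb'' : Q b' = c := by
      rw [QuadraticMap.map_add (⇑Q), QuadraticMap.map_smul, QuadraticMap.map_smul, polar_smul_left, polar_smul_right,
        hab, ha, hb]
      simp only [smul_eq_mul]
      linear_combination hst
    have hdd : d * (s * s + t * t) = c := by linear_combination hst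
    have e : refl Q a (by rw [ha]; exact hd0) * refl Q b (by rw [hb]; exact hd0) =
        refl Q a' (by rw [ha']; exact hc) * refl Q b' (by rw [hb'']; exact hc) := by
      refine act_ext Q fun z => ?_
      have hab' : polar Q a' b' = 0 := by
        simp only [a', b', polar_add_left, polar_smul_left, polar_add_right, polar_smul_right,
          WittExt.polar_self_eq, polar_comm (⇑Q) b a, hab, ha, hb, smul_eq_mul]
        ring
      have hz' : polar Q a' (z - (c⁻¹ * polar Q b' z) • b') = polar Q a' z := by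
        rw [polar_sub_right, polar_smul_right, hab', smul_zero, sub_zero]
      simp only [act_mul, act_refl, ha', hb'', ha, hb, hz', polar_sub_right, polar_smul_right, hab,
        smul_zero, sub_zero]
      simp only [a', b', polar_add_left, polar_smul_left, smul_eq_mul]
      match_scalars <;> field_simp <;> first
        | ring1
        | (linear_combination (polar Q a z) * hdd)
        | (linear_combination -(polar Q a z) * hdd)
        | (linear_combination (polar Q b z) * hdd)
        | (linear_combination -(polar Q b z) * hdd)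
    have h1 : π (refl Q a (by rw [ha]; exact hd0)) * π (refl Q b (by rw [hb]; exact hd0)) = 1 := by
      rw [← map_mul, e, map_mul, hcsame a' b' ha' hb'', ← map_mul, refl_mul_self, map_one]
    rw [eq_inv_of_mul_eq_one_left h1, ← map_inv, refl_inv]
  have hdsame : ∀ a b (ha : Q a = d) (hb : Q b = d),
      π (refl Q a (by rw [ha]; exact hd0)) = π (refl Q b (by rw [hb]; exact hd0)) := fun a b ha hb => by
    obtain ⟨z, za, zb, hz⟩ := perp_two Q hQ h2 hn (x := a) (y := b) (by rw [ha]; exact hd0) d
    exact (hdorth a z ha hz za).trans (hdorth b z hb hz zb).symm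
  have hsame : ∀ g : O Q, ∀ w (hw : Q w ≠ 0), π (g * refl Q w hw * g⁻¹) = π (refl Q w hw) := by
    intro g w hw
    rw [refl_conj]
    rcases em (Cls c (Q w)) with h | h
    · obtain ⟨a, ha⟩ := h
      have ha0 : a ≠ 0 := fun e => hc (by rw [← ha, e]; ring)
      rw [← refl_smul Q (act Q g w) (by rwa [Q_act]) ha0, ← refl_smul Q w hw ha0]
      exact hcsame _ _ (by rw [QuadraticMap.map_smul, smul_eq_mul, Q_act]; exact ha)
        (by rw [QuadraticMap.map_smul, smul_eq_mul]; exact ha)
    · obtain ⟨a, ha⟩ := cls_of_not h2 hc hd0 hw hdc (fun h' => h (h'.symm hw))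
      have ha0 : a ≠ 0 := fun e => hd0 (by rw [← ha, e]; ring)
      rw [← refl_smul Q (act Q g w) (by rwa [Q_act]) ha0, ← refl_smul Q w hw ha0]
      exact hdsame _ _ (by rw [QuadraticMap.map_smul, smul_eq_mul, Q_act]; exact ha)
        (by rw [QuadraticMap.map_smul, smul_eq_mul]; exact ha)
  have hcen : ∀ h g : O Q, π g * π h = π h * π g := by
    intro h g
    have hh : h ∈ Refl.R Q := eq_top Q hQ (hex' Q hQ h2) ▸ Subgroup.mem_top h
    induction hh using Subgroup.closure_induction with
    | mem h hh =>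
      obtain ⟨w, hw, e⟩ := hh
      obtain rfl : h = refl Q w hw := Subtype.ext (Units.ext e)
      have := hsame g w hw
      rw [map_mul, map_mul, map_inv, mul_inv_eq_iff_eq_mul] at this
      exact this
    | one => simp
    | mul a b _ _ h1 h3 => rw [map_mul, ← mul_assoc, h1, mul_assoc, h3, mul_assoc]
    | inv a _ h1 => rw [map_inv]; exact (Commute.inv_right h1)
  have hTK : commutator (O Q) ≤ K := by
    rw [commutator_def, Subgroup.commutator_le]
    intro g _ h _
    rw [← QuotientGroup.eq_one_iff]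
    show π (g * h * g⁻¹ * h⁻¹) = 1
    rw [map_mul, map_mul, map_mul, hcen h g, mul_assoc (π h), ← map_mul π g g⁻¹, mul_inv_cancel, map_one, mul_one,
      ← map_mul, mul_inv_cancel, map_one]
  refine (Subgroup.eq_top_iff' _).2 fun t => ?_
  obtain ⟨s, hs, e⟩ := hKN (hTK t.2)
  exact Subtype.ext e ▸ hs

theorem omega_simple : IsSimpleGroup (Cfsg.Omega F (Cfsg.quadFormOdd m F)) := by
  obtain ⟨c, P, hc, hP⟩ := exists_frame (m := m) h2 hm
  have hx : InP (Qo h2) c ((P : Matrix (Io m) (Io m) F) *ᵥ Pi.single (Sum.inl ()) 1) :=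
    (inP_iff h2 hm hc P hP _).2 (p1_single _)
  let s : Cfsg.Omega F (Cfsg.quadFormOdd m F) := sv (Qo h2) (Qo_nondeg h2) h2 card_Io hm hc P hP _ hx
  have hs : s ≠ 1 := by
    intro e
    have h := (finrank_sv (Qo h2) (Qo_nondeg h2) h2 card_Io hm hc P hP _ hx).1
    rw [show sref (Qo h2) _ hx.1 = ((1 : commutator (O (Qo (m := m) h2))) : O (Qo (m := m) h2)) from
      congrArg Subtype.val e, show Fix (Qo (m := m) h2) ((1 : commutator (O (Qo (m := m) h2))) : O _) = ⊤ from
      (Submodule.eq_top_iff').2 fun z => (mem_Fix _ _ _).2 (act_one _ z), finrank_top, finrank_pi, card_Io] at h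
    omega
  haveI : Nontrivial (Cfsg.Omega F (Cfsg.quadFormOdd m F)) := ⟨⟨s, 1, hs⟩⟩
  exact ⟨fun N hN => (eq_or_ne N ⊥).imp id fun hne => @normal_eq_top F _ _ m h2 hm N hN hne⟩

theorem pomega_simple : IsSimpleGroup (Cfsg.POmega F (Cfsg.quadFormOdd m F)) := by
  obtain ⟨c, P, hc, hP⟩ := exists_frame (m := m) h2 hm
  haveI := omega_simple (m := m) h2 hm
  let e := MulEquiv.ofBijective _ (mk_bij h2 hm hc P hP)
  exact e.symm.isSimpleGroup

end Cfsg.Agent.OddAut
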