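import Cfsg.Agent.Lib.Classical.BalanceCore
import Cfsg.Agent.Lib.Classical.OddAutField
import Cfsg.Agent.Lib.Classical.OddSimple

/-!
Local balance for automorphisms of prime order of `Ω_{2m+1}(q)` that are not inner-diagonal.
-/

set_option autoImplicit false
set_option linter.style.haveILetI false
set_option linter.unusedSectionVars false

open Matrix QuadraticMap Module

namespace Cfsg.Agent.OddAut

open Cfsg.Agent.Classical Cfsg.Agent.Classical.Refl

variable {F : Type*} [Field F] [Fintype F] {m : ℕ} (h2 : (2 : F) ≠ 0) (hm : 3 ≤ m)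

include h2 hm

theorem mk_injective : Function.Injective
    (QuotientGroup.mk : Cfsg.Omega F (Cfsg.quadFormOdd m F) → Cfsg.POmega F (Cfsg.quadFormOdd m F)) := by
  obtain ⟨c, P, hc, hP⟩ := exists_frame (m := m) h2 hm
  exact (mk_bij h2 hm hc P hP).1

theorem two_dvd_card : 2 ∣ Nat.card (Cfsg.Omega F (Cfsg.quadFormOdd m F)) := by
  obtain ⟨c, P, hc, hP⟩ := exists_frame (m := m) h2 hm
  have hx : InP (Qo h2) c ((P : Matrix (Io m) (Io m) F) *ᵥ Pi.single (Sum.inl ()) 1) :=
    (inP_iff h2 hm hc P hP _).2 (p1_single _)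
  let s : Cfsg.Omega F (Cfsg.quadFormOdd m F) := sv (Qo h2) (Qo_nondeg h2) h2 card_Io hm hc P hP _ hx
  have hs : s ≠ 1 := by
    intro e
    have h := (finrank_sv (Qo h2) (Qo_nondeg h2) h2 card_Io hm hc P hP _ hx).1
    rw [show sref (Qo h2) _ hx.1 = ((1 : commutator (O (Qo (m := m) h2))) : O (Qo (m := m) h2)) from
      congrArg Subtype.val e, show Fix (Qo (m := m) h2) ((1 : commutator (O (Qo (m := m) h2))) : O _) = ⊤ from
      (Submodule.eq_top_iff').2 fun z => (mem_Fix _ _ _).2 (act_one _ z), finrank_top, finrank_pi, card_Io] at h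
    omega
  have hsq : s ^ 2 = 1 := Subtype.ext ((pow_two _).trans (sref_sq (Qo (m := m) h2) _ hx.1))
  haveI : Fact (Nat.Prime 2) := ⟨Nat.prime_two⟩
  rw [← orderOf_eq_prime hsq hs]
  exact orderOf_dvd_natCard _

section sub

variable {F₀ : Type*} [Field F₀] [Fintype F₀] (i : F₀ →+* F)

omit hm

theorem mapI_commutator {g : Is m F₀} (hg : g ∈ Cfsg.Omega F₀ (Cfsg.quadFormOdd m F₀)) :
    mapI i h2 g ∈ Cfsg.Omega F (Cfsg.quadFormOdd m F) := by
  have h' : (commutator (Is m F₀)).map (mapI i h2) ≤ commutator (Is m F) := by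
    rw [commutator_def, Subgroup.map_commutator]
    exact Subgroup.commutator_mono le_top le_top
  exact h' (Subgroup.mem_map_of_mem (mapI i h2) hg)

/-- `Ω` over a subfield inside `PΩ`. -/
noncomputable def subO : Cfsg.Omega F₀ (Cfsg.quadFormOdd m F₀) →* Cfsg.POmega F (Cfsg.quadFormOdd m F) where
  toFun g := QuotientGroup.mk (⟨mapI i h2 g.1, mapI_commutator h2 i g.2⟩ : Cfsg.Omega F (Cfsg.quadFormOdd m F))
  map_one' := congrArg QuotientGroup.mk (Subtype.ext (map_one (mapI (m := m) i h2)))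
  map_mul' a b := congrArg QuotientGroup.mk (Subtype.ext (map_mul (mapI (m := m) i h2) a.1 b.1))

include hm

theorem subO_injective : Function.Injective (subO (m := m) h2 i) := fun a b e => by
  have h := congrArg (fun z : Cfsg.Omega F (Cfsg.quadFormOdd m F) => matI z.1) (mk_injective h2 hm e)
  exact Subtype.ext (matI_inj (Matrix.ext fun x y => i.injective (congrFun (congrFun h x) y)))

variable (σ : F ≃+* F) (hi : ∀ a, (∃ b, i b = a) ↔ σ a = a)

include hi

theorem subO_fix (g : Cfsg.Omega F₀ (Cfsg.quadFormOdd m F₀)) :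
    Psi (SemidirectProduct.inr σ : Semi m F) (subO h2 i g) = subO h2 i g := by
  show Psi _ (QuotientGroup.mk _) = QuotientGroup.mk _
  rw [Psi_mk]
  refine congrArg _ (Subtype.ext (matI_inj ?_))
  show matI (1 : Is m F) * ((matI g.1).map i).map σ * matI (1 : Is m F)⁻¹ = (matI g.1).map i
  rw [inv_one]
  show (1 : Matrix (Io m) (Io m) F) * _ * (1 : Matrix (Io m) (Io m) F) = _
  rw [one_mul, mul_one, Matrix.map_map, show (⇑σ ∘ ⇑i) = ⇑i from funext fun b => (hi _).1 ⟨b, rfl⟩]

/-- A fixed point comes from the special isometries over the subfield. -/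
theorem fixed_mk (s : Cfsg.Omega F (Cfsg.quadFormOdd m F))
    (hs : Psi (SemidirectProduct.inr σ : Semi m F) (QuotientGroup.mk s) = QuotientGroup.mk s) :
    ∃ k : SOo m F₀, (mapS i h2 k).1 = s.1 := by
  rw [Psi_mk] at hs
  have e := congrArg (fun z : Cfsg.Omega F (Cfsg.quadFormOdd m F) => matI z.1) (mk_injective h2 hm hs)
  have e' : fieldHom σ (⟨s.1, det_omega h2 s⟩ : SOo m F) = ⟨s.1, det_omega h2 s⟩ := by
    refine Subtype.ext (matI_inj ?_)
    refine Eq.trans ?_ e
    show (matI s.1).map σ = matI (1 : Is m F) * (matI s.1).map σ * matI (1 : Is m F)⁻¹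
    rw [inv_one]
    show _ = (1 : Matrix (Io m) (Io m) F) * _ * (1 : Matrix (Io m) (Io m) F)
    rw [one_mul, mul_one]
  obtain ⟨k, hk⟩ := (fixed_iff i σ hi h2 hm _).1 e'
  exact ⟨k, congrArg Subtype.val hk⟩

theorem subO_normal (h : Cfsg.POmega F (Cfsg.quadFormOdd m F))
    (hh : Psi (SemidirectProduct.inr σ : Semi m F) h = h) (g : Cfsg.Omega F₀ (Cfsg.quadFormOdd m F₀)) :
    ∃ g', h * subO h2 i g * h⁻¹ = subO h2 i g' := by
  obtain ⟨s, rfl⟩ := QuotientGroup.mk_surjective h
  obtain ⟨k, hk⟩ := fixed_mk h2 hm i σ hi s hh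
  let g' : Cfsg.Omega F₀ (Cfsg.quadFormOdd m F₀) :=
    ⟨k.1 * g.1 * k.1⁻¹, (inferInstance : (commutator (Is m F₀)).Normal).conj_mem _ g.2 _⟩
  refine ⟨g', ?_⟩
  show QuotientGroup.mk s * QuotientGroup.mk _ * (QuotientGroup.mk s)⁻¹ = QuotientGroup.mk _
  rw [← QuotientGroup.mk_inv, ← QuotientGroup.mk_mul, ← QuotientGroup.mk_mul]
  refine congrArg _ (Subtype.ext ?_)
  show s.1 * mapI i h2 g.1 * s.1⁻¹ = mapI i h2 (k.1 * g.1 * k.1⁻¹)
  rw [map_mul, map_mul, map_inv, show mapI i h2 k.1 = s.1 from hk]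

theorem dvd_subO {p : ℕ} (hp : p.Prime)
    (hd : p ∣ Nat.card (Balance.fixK (Psi (SemidirectProduct.inr σ : Semi m F)))) :
    p ∣ Nat.card (Cfsg.Omega F₀ (Cfsg.quadFormOdd m F₀)) := by
  have h20 := two_ne_fixed i σ hi h2 hm
  rcases hp.eq_two_or_odd' with rfl | hodd
  · exact two_dvd_card h20 hm
  haveI : Fact p.Prime := ⟨hp⟩
  obtain ⟨⟨h, hh⟩, ho⟩ := exists_prime_orderOf_dvd_card' p hd
  rw [← Subgroup.orderOf_coe] at ho
  change orderOf h = p at ho
  obtain ⟨s, rfl⟩ := QuotientGroup.mk_surjective h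
  obtain ⟨k, hk⟩ := fixed_mk h2 hm i σ hi s hh
  have hk2 : (k * k).1 ∈ Cfsg.Omega F₀ (Cfsg.quadFormOdd m F₀) :=
    (mem_TS _).1 (Subgroup.mul_self_mem_of_index_two (index_TS h20 hm) k)
  have e2 : subO h2 i ⟨(k * k).1, hk2⟩ = (QuotientGroup.mk s : Cfsg.POmega F (Cfsg.quadFormOdd m F)) ^ 2 := by
    rw [pow_two, ← QuotientGroup.mk_mul]
    show QuotientGroup.mk _ = QuotientGroup.mk _
    refine congrArg _ (Subtype.ext ?_)
    show mapI i h2 (k.1 * k.1) = s.1 * s.1
    rw [map_mul, show mapI i h2 k.1 = s.1 from hk]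
  have h3 : orderOf ((QuotientGroup.mk s : Cfsg.POmega F (Cfsg.quadFormOdd m F)) ^ 2) = p := by
    rw [Nat.Coprime.orderOf_pow (by rw [ho]; exact hodd.coprime_two_right), ho]
  rw [← e2, orderOf_injective _ (subO_injective h2 hm i)] at h3
  exact h3 ▸ orderOf_dvd_natCard _

theorem fix_cent {b : Semi m F} (hc : b * SemidirectProduct.inr σ = SemidirectProduct.inr σ * b)
    (hy : ∀ g, Psi b (subO h2 i g) = subO h2 i g) :
    b = SemidirectProduct.inr b.right ∧ ∀ a, σ a = a → b.right a = a := by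
  have h20 := two_ne_fixed i σ hi h2 hm
  set τ := b.right with hτ
  have hk : fieldHom σ b.left = b.left := by
    have := congrArg SemidirectProduct.left hc
    simpa using this.symm
  have hcomm : τ * σ = σ * τ := by
    have := congrArg SemidirectProduct.right hc
    simpa using this
  obtain ⟨k0, hk0⟩ := (fixed_iff i σ hi h2 hm _).1 hk
  have hτi : ∀ a, ∃ a', i a' = τ (i a) := fun a => (hi _).2 (by
    have := DFunLike.congr_fun hcomm (i a)
    rw [RingAut.mul_apply, RingAut.mul_apply, (hi _).1 ⟨a, rfl⟩] at this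
    exact this.symm)
  choose t0 ht0 using hτi
  let t0h : F₀ →+* F₀ :=
    { toFun := t0
      map_one' := i.injective (by simp [ht0])
      map_mul' := fun a a' => i.injective (by simp [ht0])
      map_zero' := i.injective (by simp [ht0])
      map_add' := fun a a' => i.injective (by simp [ht0]) }
  let τ0 : F₀ ≃+* F₀ := RingEquiv.ofBijective t0h (Finite.injective_iff_bijective.1 t0h.injective)
  have h1 : (⟨k0, τ0⟩ : Semi m F₀) = 1 := by
    refine (Psi_bijective h20 hm).1 ((MulEquiv.ext fun z => ?_).trans (map_one _).symm)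
    obtain ⟨g, rfl⟩ := QuotientGroup.mk_surjective z
    rw [Psi_mk, MulAut.one_apply]
    refine congrArg _ (Subtype.ext (matI_inj ?_))
    have e := hy g
    change Psi b (QuotientGroup.mk _) = QuotientGroup.mk _ at e
    rw [Psi_mk] at e
    have e' := congrArg (fun z : Cfsg.Omega F (Cfsg.quadFormOdd m F) => matI z.1) (mk_injective h2 hm e)
    refine Matrix.map_injective (f := i) i.injective ?_
    refine Eq.trans ?_ e'
    show (matI k0.1 * (matI g.1).map t0 * matI k0.1⁻¹).map i =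
      matI b.left.1 * ((matI g.1).map i).map τ * matI b.left.1⁻¹
    rw [← hk0, Matrix.map_mul, Matrix.map_mul, Matrix.map_map,
      show (mapS i h2 k0).1⁻¹ = mapI i h2 k0.1⁻¹ from (map_inv (mapI (m := m) i h2) k0.1).symm,
      show (matI g.1).map (⇑i ∘ t0) = ((matI g.1).map i).map τ by
        rw [Matrix.map_map]; exact congrArg _ (funext ht0)]
    rfl
  have hl : b.left = 1 := by
    rw [← hk0, show k0 = 1 from congrArg SemidirectProduct.left h1, map_one]
  refine ⟨SemidirectProduct.ext (hl.trans rfl) rfl, fun a ha => ?_⟩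
  obtain ⟨a', rfl⟩ := (hi a).2 ha
  rw [← ht0]
  exact congrArg i (DFunLike.congr_fun (congrArg SemidirectProduct.right h1) a')

end sub

/-- The criterion. -/
theorem balance_odd (A : Subgroup (MulAut (Cfsg.POmega F (Cfsg.quadFormOdd m F))))
    (hinn : ∀ k : Cfsg.POmega F (Cfsg.quadFormOdd m F), MulAut.conj k ∈ A) {p : ℕ} [hp : Fact p.Prime]
    (x : MulAut (Cfsg.POmega F (Cfsg.quadFormOdd m F))) (hord : orderOf x = p)
    (hnot : ¬ Cfsg.IsInnerDiagonalAutPOmegaOdd m x) :
    Cfsg.pPrimeCore p ↥(A ⊓ Subgroup.centralizer {x}) ≠ ⊥ ↔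
      (Cfsg.IsFieldAutClassPOmega (Cfsg.quadFormOdd m F) x ∧ Nat.Coprime p (Nat.card ↥(MonoidHom.eqLocus
        x.toMonoidHom (MonoidHom.id (Cfsg.POmega F (Cfsg.quadFormOdd m F)))))) := by
  classical
  obtain ⟨a, rfl⟩ := (Psi_bijective h2 hm).2 x
  have hσ : a.right ≠ 1 := fun e => hnot ⟨(a.left.1 : GL (Io m) F), ⟨1, fun v => by
    rw [Units.val_one, one_mul]; exact a.left.1.2 v v⟩, fun s s' h => Psi_induced a s s' (by rw [e]; exact h)⟩
  have hpow : a ^ p = 1 := (Psi_bijective h2 hm).1 (by rw [map_pow, map_one, ← hord, pow_orderOf_eq_one])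
  obtain ⟨E, hi⟩ := exists_fix h2 hm a.right
  letI : Fintype E := Fintype.ofFinite E
  have h20 : (2 : E) ≠ 0 := two_ne_fixed E.subtype a.right hi h2 hm
  obtain ⟨B, hB⟩ := exists_conj_field h2 hm E.subtype hi hp.out hσ hpow
  set σ := a.right
  rw [hB, map_mul, map_mul, map_inv] at hord ⊢
  set φ := Psi (SemidirectProduct.inr σ : Semi m F) with hφ
  set D := Psi (SemidirectProduct.inl B : Semi m F) with hD
  have hfield : Cfsg.IsFieldAutClassPOmega (Cfsg.quadFormOdd m F) (D * φ * D⁻¹) := by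
    refine ⟨D⁻¹, φ, σ, hσ, ?_, by group⟩
    intro s s' h
    exact Psi_induced (SemidirectProduct.inr σ : Semi m F) s s' (by
      rw [h]
      show _ = matI (1 : Is m F) * (matI s.1).map σ * matI (1 : Is m F)⁻¹
      rw [inv_one]
      show _ = (1 : Matrix (Io m) (Io m) F) * _ * (1 : Matrix (Io m) (Io m) F)
      rw [one_mul, mul_one]
      rfl)
  haveI := omega_simple (F := E) (m := m) h20 hm
  let f : Cfsg.Omega E (Cfsg.quadFormOdd m E) →* Cfsg.POmega F (Cfsg.quadFormOdd m F) :=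
    D.toMonoidHom.comp (subO h2 E.subtype)
  have hxD : ∀ z, (D * φ * D⁻¹) (D z) = D (φ z) := fun z => by simp [MulAut.mul_apply]
  have hcard : Nat.card (Balance.fixK (D * φ * D⁻¹)) = Nat.card (Balance.fixK φ) := by
    refine (Nat.card_congr (D.toEquiv.subtypeEquiv fun z => ?_)).symm
    show φ z = z ↔ (D * φ * D⁻¹) (D z) = D z
    rw [hxD, D.injective.eq_iff]
  have hxinn : ∀ k, MulAut.conj k ≠ D * φ * D⁻¹ := by
    intro k e
    obtain ⟨c, hc⟩ : MulAut.conj k ∈ (dgO (F := F) (m := m)).range := inn_le_range h2 hm ⟨k, rfl⟩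
    rw [e, hD, hφ, ← map_inv, ← map_mul, ← map_mul] at hc
    have := congrArg SemidirectProduct.right ((Psi_bijective h2 hm).1 hc)
    simp at this
    exact hσ this.symm
  have hconjinj : Function.Injective (MulAut.conj :
      Cfsg.POmega F (Cfsg.quadFormOdd m F) →* MulAut (Cfsg.POmega F (Cfsg.quadFormOdd m F))) := by
    intro u v e
    obtain ⟨u, rfl⟩ := QuotientGroup.mk_surjective u
    obtain ⟨v, rfl⟩ := QuotientGroup.mk_surjective v
    rw [conj_eq h2 hm, conj_eq h2 hm] at e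
    exact congrArg _ (Subtype.ext (congrArg (fun z : SOo m F => z.1) (dgO_injective h2 hm e)))
  have key := Balance.core_iff_gen A (D * φ * D⁻¹) hinn hp.out hord hconjinj hxinn f
    (D.injective.comp (subO_injective h2 hm _))
    (fun g => by show (D * φ * D⁻¹) (D _) = D _; rw [hxD, subO_fix h2 hm E.subtype σ hi])
    (fun h hh g => by
      obtain ⟨g', hg'⟩ := subO_normal h2 hm E.subtype σ hi (D.symm h) (D.injective (by
        rw [← hxD, D.apply_symm_apply]; exact hh)) g
      refine ⟨g', ?_⟩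
      show h * D _ * h⁻¹ = D _
      rw [← hg', map_mul, map_mul, map_inv, D.apply_symm_apply])
    (fun hd => dvd_subO h2 hm E.subtype σ hi hp.out (hcard ▸ hd))
    (fun N hN hne hd => by
      rw [(hN.eq_bot_or_eq_top).resolve_left hne, Subgroup.card_top]; exact hd)
    (fun y hyc hy => by
      obtain ⟨b, hb⟩ := (Psi_bijective h2 hm).2 (D⁻¹ * y * D)
      have hc : b * SemidirectProduct.inr σ = SemidirectProduct.inr σ * b := (Psi_bijective h2 hm).1 (by
        rw [map_mul, map_mul, hb, ← hφ]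
        calc D⁻¹ * y * D * φ = D⁻¹ * (y * (D * φ * D⁻¹)) * D := by group
          _ = _ := by rw [hyc]; group)
      have hy' : ∀ g, Psi b (subO h2 E.subtype g) = subO h2 E.subtype g := fun g => by
        rw [hb]
        show D.symm (y (D _)) = _
        rw [show y (D (subO h2 E.subtype g)) = D (subO h2 E.subtype g) from hy g, D.symm_apply_apply]
      obtain ⟨e1, e2⟩ := fix_cent h2 hm E.subtype σ hi hc hy'
      obtain ⟨n, hn⟩ := Subgroup.mem_zpowers_iff.1 (Balance.mem_zpowers_of_fix σ b.right e2)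
      refine Subgroup.mem_zpowers_iff.2 ⟨n, ?_⟩
      have he : (SemidirectProduct.inr σ : Semi m F) ^ n = b := by
        rw [← map_zpow (SemidirectProduct.inr : (F ≃+* F) →* Semi m F) σ n, hn]
        exact e1.symm
      have hp' : φ ^ n = D⁻¹ * y * D := by
        rw [← hb, ← he, hφ]
        exact (map_zpow (Psi (F := F) (m := m)) _ n).symm
      rw [conj_zpow, hp']
      group)
  rw [and_iff_right hfield]
  exact key

end Cfsg.Agent.OddAut
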