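import Mathlib
import Cfsg.Agent.Lib.Classical.OmegaTrans

/-!
`Ω` in characteristic two is cut out by the parity of the rank of `g - 1`.
-/

set_option autoImplicit false

open Module QuadraticMap

namespace Cfsg.Agent.OmegaRank

open Cfsg.Agent.Classical

variable {F : Type*} [Field F] [Fintype F] [CharP F 2] {ι : Type} [Fintype ι] [DecidableEq ι]

theorem mem_iff (Qf : (ι → F) → F) (Q : QuadraticForm F (ι → F)) (hf : Qf = ⇑Q)
    (hQ : (polarBilin Q).Nondegenerate) (hn : 5 ≤ Fintype.card ι)
    (t : ↥(Cfsg.isometryGroup F Qf)) :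
    t ∈ commutator ↥(Cfsg.isometryGroup F Qf) ↔
      Even (((t : GL ι F) : Matrix ι ι F) - 1).rank := by
  subst hf
  have hex : Fintype.card F ≠ 2 ∨ Fintype.card ι ≠ 4 := Or.inr (by omega)
  have hN : (Refl.lin Q t - LinearMap.id) = (((t : GL ι F) : Matrix ι ι F) - 1).mulVecLin :=
    LinearMap.ext fun x => by
      rw [LinearMap.sub_apply, Refl.lin_apply, Matrix.mulVecLin_apply, Matrix.sub_mulVec, Matrix.one_mulVec]
      rfl
  have hrk : (((t : GL ι F) : Matrix ι ι F) - 1).rank + finrank F (Refl.Fix Q t) = Fintype.card ι := by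
    have h := LinearMap.finrank_range_add_finrank_ker (Refl.lin Q t - LinearMap.id)
    rw [finrank_pi] at h
    rw [← h]
    show finrank F (LinearMap.range _) + _ = _
    rw [hN]
    show _ = _ + finrank F (LinearMap.ker _)
    rw [Refl.Fix, hN]
  rw [← Refl.ker_dickson Q hQ (by omega) hex, MonoidHom.mem_ker]
  show ((-1 : ℤˣ) ^ (Fintype.card ι + finrank F (Refl.Fix Q t))) = 1 ↔ _
  rw [neg_one_pow_eq_one_iff_even (by decide), ← hrk]
  simp only [Nat.even_add]
  tauto

end Cfsg.Agent.OmegaRank
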