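import Cfsg.Agent.Lib.Classical.SimpleOrder
import Cfsg.Agent.Lib.Inv.Dihedral

/-!
Simple groups of order 168: Sylow numbers, centralisers, element orders.
-/

set_option autoImplicit false
set_option linter.style.haveILetI false

namespace Cfsg.Agent.Classical.Order168

open SimpleOrder

theorem card_isConj_mul {G : Type*} [Group G] [Finite G] (g : G) :
    Nat.card {x : G // IsConj g x} * Nat.card (Subgroup.centralizer ({g} : Set G)) = Nat.card G := by
  haveI : Finite (ConjAct G) := Finite.of_equiv G ConjAct.toConjAct.toEquiv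
  have h1 := Nat.card_congr (MulAction.orbitEquivQuotientStabilizer (ConjAct G) g)
  have h2 : Nat.card {x : G // IsConj g x} = Nat.card (MulAction.orbit (ConjAct G) g) :=
    Nat.card_congr (Equiv.subtypeEquivRight fun x => by
      rw [ConjAct.orbit_eq_carrier_conjClasses, ConjClasses.mem_carrier_iff_mk_eq,
        ConjClasses.mk_eq_mk_iff_isConj, isConj_comm])
  rw [h2, h1, Subgroup.nat_card_centralizer_nat_card_stabilizer,
    ← Subgroup.card_eq_card_quotient_mul_card_subgroup]
  exact Nat.card_congr ConjAct.ofConjAct.toEquiv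

section Eight

variable {H : Type*} [Group H] [Finite H] (hH : Nat.card H = 8) (hn : ¬ IsMulCommutative H)

include hH in
theorem index_zpowers_four {x : H} (hx : orderOf x = 4) : (Subgroup.zpowers x).index = 2 := by
  have := Subgroup.card_mul_index (Subgroup.zpowers x)
  rw [Nat.card_zpowers, hx, hH] at this
  omega

include hH in
/-- A conjugate of an element of order four in a group of order eight. -/
theorem conj_four {x : H} (hx : orderOf x = 4) (t : H) :
    t * x * t⁻¹ = x ∨ t * x * t⁻¹ = x ^ 3 := by
  classical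
  haveI := Subgroup.normal_of_index_eq_two (index_zpowers_four hH hx)
  have hm : t * x * t⁻¹ ∈ Subgroup.zpowers x :=
    Subgroup.Normal.conj_mem inferInstance x (Subgroup.mem_zpowers x) t
  have ho : orderOf (t * x * t⁻¹) = 4 := by
    rw [← MulAut.conj_apply, MulEquiv.orderOf_eq, hx]
  rw [mem_zpowers_iff_mem_range_orderOf, hx] at hm
  simp only [Finset.mem_image, Finset.mem_range] at hm
  obtain ⟨k, hk, e⟩ := hm
  rw [← e] at ho ⊢
  interval_cases k
  · simp at ho
  · exact Or.inl (pow_one x)
  · rw [orderOf_pow, hx] at ho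
    norm_num at ho
  · exact Or.inr rfl

include hH in
theorem sq_comm {x : H} (hx : orderOf x = 4) (t : H) : t * (x * x) = x * x * t := by
  have h4 : x ^ 4 = 1 := by rw [← hx, pow_orderOf_eq_one]
  have e : t * (x * x) * t⁻¹ = x * x := by
    rw [show t * (x * x) * t⁻¹ = (t * x * t⁻¹) * (t * x * t⁻¹) by group]
    rcases conj_four hH hx t with e | e <;> rw [e]
    calc x ^ 3 * x ^ 3 = x ^ 4 * x ^ 2 := by simp only [← pow_add]
      _ = x * x := by rw [h4, one_mul, sq]
  calc t * (x * x) = t * (x * x) * t⁻¹ * t := by group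
    _ = _ := by rw [e]

include hH hn in
theorem exists_four : ∃ x : H, orderOf x = 4 := by
  by_contra hc
  simp only [not_exists] at hc
  apply hn
  have h8 : ∀ x : H, orderOf x ≠ 8 := fun x e => hn (by
    haveI := isCyclic_of_orderOf_eq_card x (by rw [e, hH])
    infer_instance)
  have hsq : ∀ x : H, x * x = 1 := by
    intro x
    have hd : orderOf x ∣ 2 ^ 3 := by rw [show 2 ^ 3 = 8 by norm_num, ← hH]; exact orderOf_dvd_natCard x
    obtain ⟨k, hk, e⟩ := (Nat.dvd_prime_pow Nat.prime_two).1 hd
    have := hc x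
    have := h8 x
    rw [← sq, ← orderOf_dvd_iff_pow_eq_one]
    interval_cases k <;> simp_all
  refine ⟨⟨fun a b => ?_⟩⟩
  have hinv : ∀ x : H, x⁻¹ = x := fun x => inv_eq_of_mul_eq_one_right (hsq x)
  calc a * b = (a * b)⁻¹ := (hinv _).symm
    _ = b⁻¹ * a⁻¹ := mul_inv_rev a b
    _ = b * a := by rw [hinv, hinv]

include hH hn in
theorem not_central_four {x : H} (hx : orderOf x = 4) : ∃ t : H, t * x ≠ x * t := by
  by_contra hc
  simp only [not_exists, not_not] at hc
  obtain ⟨y, hy⟩ : ∃ y : H, y ∉ Subgroup.zpowers x := by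
    by_contra hc
    simp only [not_exists, not_not] at hc
    have := Subgroup.card_dvd_of_le (fun t _ => hc t : ⊤ ≤ Subgroup.zpowers x)
    rw [Subgroup.card_top, Nat.card_zpowers, hx, hH] at this
    norm_num at this
  have hxc : ∀ t, Commute t x := hc
  have hdec : ∀ t : H, ∃ i : ℤ, t = x ^ i ∨ t = y * x ^ i := by
    intro t
    by_cases ht : t ∈ Subgroup.zpowers x
    · obtain ⟨i, hi⟩ := ht
      exact ⟨i, Or.inl hi.symm⟩
    · have hm : y⁻¹ * t ∈ Subgroup.zpowers x :=
        (Subgroup.mul_mem_iff_of_index_two (index_zpowers_four hH hx)).2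
          ⟨fun h => absurd (inv_mem_iff.1 h) hy, fun h => absurd h ht⟩
      obtain ⟨i, hi⟩ := hm
      exact ⟨i, Or.inr (by rw [show x ^ i = y⁻¹ * t from hi, mul_inv_cancel_left])⟩
  have hy' : ∀ t : H, Commute t y := by
    intro t
    obtain ⟨i, rfl | rfl⟩ := hdec t
    · exact ((hxc y).zpow_right i).symm
    · exact (Commute.refl y).mul_left ((hxc y).zpow_right i).symm
  refine hn ⟨⟨fun a b => ?_⟩⟩
  obtain ⟨i, rfl | rfl⟩ := hdec b
  · exact (hxc a).zpow_right i
  · exact (hy' a).mul_right ((hxc a).zpow_right i)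

include hH hn in
theorem dihedral_or_four {x : H} (hx : orderOf x = 4) :
    Nonempty (H ≃* DihedralGroup 4) ∨ 4 ≤ Nat.card {t : H // orderOf t = 4} := by
  classical
  by_cases hy : ∃ y, y ∉ Subgroup.zpowers x ∧ orderOf y = 2
  · left
    obtain ⟨y, hyN, hy2⟩ := hy
    have hyy : y * y = 1 := by rw [← sq, ← hy2, pow_orderOf_eq_one]
    have hinv : y⁻¹ = y := inv_eq_of_mul_eq_one_right hyy
    have h4 : x ^ 4 = 1 := by rw [← hx, pow_orderOf_eq_one]
    have hyx : y * x * y = x ^ 3 := by
      rcases conj_four hH hx y with e | e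
      · exfalso
        rw [hinv] at e
        obtain ⟨t, ht⟩ := not_central_four hH hn hx
        apply ht
        by_cases htN : t ∈ Subgroup.zpowers x
        · obtain ⟨i, rfl⟩ := htN
          exact ((Commute.refl x).zpow_left i).eq
        · have hm : y⁻¹ * t ∈ Subgroup.zpowers x :=
            (Subgroup.mul_mem_iff_of_index_two (index_zpowers_four hH hx)).2
              ⟨fun h => absurd (inv_mem_iff.1 h) hyN, fun h => absurd h htN⟩
          obtain ⟨i, hi⟩ := hm
          have hcy : Commute y x := by
            have := congrArg (· * y) e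
            simp only [mul_assoc, hyy, mul_one] at this
            exact this
          rw [show t = y * x ^ i by rw [show x ^ i = y⁻¹ * t from hi, mul_inv_cancel_left]]
          exact (hcy.mul_left ((Commute.refl x).zpow_left i)).eq
      · rwa [hinv] at e
    have hyx2 : orderOf (y * x) = 2 := by
      refine Inv.orderOf_eq_two_of_mul_self ?_ fun e => hyN ?_
      · calc y * x * (y * x) = y * x * y * x := by group
          _ = x ^ 4 := by rw [hyx, ← pow_succ]
          _ = 1 := h4
      · rw [eq_inv_of_mul_eq_one_left e]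
        exact inv_mem (Subgroup.mem_zpowers x)
    obtain ⟨e⟩ := Inv.dihedral_equiv hy2 hyx2
    have hprod : y * (y * x) = x := by rw [← mul_assoc, hyy, one_mul]
    rw [hprod, hx] at e
    have htop : Subgroup.closure ({y, y * x} : Set H) = ⊤ := by
      set K := Subgroup.closure ({y, y * x} : Set H)
      have hyK : y ∈ K := Subgroup.subset_closure (Set.mem_insert _ _)
      have hxK : x ∈ K := by
        rw [← hprod]
        exact mul_mem hyK (Subgroup.subset_closure (by simp))
      have hlt : Subgroup.zpowers x < K :=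
        lt_of_le_of_ne (Subgroup.zpowers_le.2 hxK) fun e => hyN (e ▸ hyK)
      apply Subgroup.eq_top_of_card_eq
      rw [Nat.card_congr e.toEquiv, DihedralGroup.nat_card, hH]
    exact ⟨((MulEquiv.subgroupCongr htop).trans Subgroup.topEquiv).symm.trans e⟩
  · right
    simp only [not_exists, not_and] at hy
    have hc : Nat.card {t : H // t ∉ Subgroup.zpowers x} = 4 := by
      haveI : Fintype H := Fintype.ofFinite H
      rw [Nat.card_eq_fintype_card, Fintype.card_subtype_compl, ← Nat.card_eq_fintype_card,
        ← Nat.card_eq_fintype_card, Nat.card_zpowers, hx, hH]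
    refine hc.ge.trans ?_
    have h4 : ∀ t : {t : H // t ∉ Subgroup.zpowers x}, orderOf (t : H) = 4 := by
      rintro ⟨t, ht⟩
      have h8 : orderOf t ≠ 8 := fun e => hn (by
        haveI := isCyclic_of_orderOf_eq_card t (by rw [e, hH])
        infer_instance)
      have hd : orderOf t ∣ 2 ^ 3 := by rw [show 2 ^ 3 = 8 by norm_num, ← hH]; exact orderOf_dvd_natCard t
      obtain ⟨k, hk, e⟩ := (Nat.dvd_prime_pow Nat.prime_two).1 hd
      have h2 := hy t ht
      have h1 : orderOf t ≠ 1 := fun e => ht (by rw [orderOf_eq_one_iff] at e; rw [e]; exact one_mem _)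
      interval_cases k <;> simp_all
    exact Nat.card_le_card_of_injective (fun t => (⟨t.1, h4 t⟩ : {t : H // orderOf t = 4}))
      fun a b e => Subtype.ext (congrArg (fun t : {t : H // orderOf t = 4} => t.1) e)

theorem card_four_dihedral : Nat.card {d : DihedralGroup 4 // orderOf d = 4} = 2 := by
  have h : {d : DihedralGroup 4 | orderOf d = 4} = {DihedralGroup.r 1, DihedralGroup.r 3} := by
    ext d
    cases d with
    | r i =>
      simp only [Set.mem_setOf_eq, DihedralGroup.orderOf_r, Set.mem_insert_iff,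
        Set.mem_singleton_iff, DihedralGroup.r.injEq]
      revert i
      decide
    | sr i =>
      simp only [Set.mem_setOf_eq, DihedralGroup.orderOf_sr, Set.mem_insert_iff,
        Set.mem_singleton_iff, reduceCtorEq, or_self, iff_false]
      norm_num
  change Nat.card ↥({d : DihedralGroup 4 | orderOf d = 4}) = 2
  rw [h, Nat.card_coe_set_eq]
  exact Set.ncard_pair (by decide)

end Eight


variable {G : Type*} [Group G] [Finite G] [IsSimpleGroup G] (h : Nat.card G = 168)

include h

theorem nonabelian : ¬ IsMulCommutative G := not_comm (by rw [h]; norm_num)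

theorem card_sylow_seven : Nat.card (Sylow 7 G) = 8 := by
  haveI : Fact (Nat.Prime 7) := ⟨by norm_num⟩
  obtain ⟨hd, hmod, hone, -⟩ := sylow_number (p := 7) (nonabelian h) (k := 1) (m := 24)
    (by rw [h]; norm_num) one_pos (by norm_num)
  have := Nat.le_of_dvd (by norm_num) hd
  interval_cases hc : Nat.card (Sylow 7 G) <;> simp_all

theorem seven_data [Fact (Nat.Prime 7)] (P : Sylow 7 G) :
    Nat.card P = 7 ∧ Nat.card (Subgroup.normalizer ((P : Subgroup G) : Set G)) = 21 ∧
      Subgroup.centralizer ((P : Subgroup G) : Set G) = P := by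
  have hP : Nat.card P = 7 := by
    simpa using SimpleOrder.card_sylow_eq P (k := 1) (m := 24) (by rw [h]; norm_num) (by norm_num)
  have h1 := card_normalizer_mul P
  rw [card_sylow_seven h, h] at h1
  have h21 : Nat.card (Subgroup.normalizer ((P : Subgroup G) : Set G)) = 21 := by omega
  refine ⟨hP, h21, ?_⟩
  have hd := relIndex_dvd_pred P hP
  have hm := card_centralizer_mul P
  rw [h21] at hm
  have hne : (Subgroup.centralizer ((P : Subgroup G) : Set G)).relIndex
      (Subgroup.normalizer ((P : Subgroup G) : Set G)) ≠ 1 := fun e =>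
    not_normalizer_le_centralizer (nonabelian h) (by rw [h]; norm_num) P (Subgroup.relIndex_eq_one.1 e)
  have h3 : (Subgroup.centralizer ((P : Subgroup G) : Set G)).relIndex
      (Subgroup.normalizer ((P : Subgroup G) : Set G)) = 3 := by
    have hle := Nat.le_of_dvd (by norm_num) hd
    have hd21 : _ ∣ 21 := ⟨_, hm.symm⟩
    interval_cases hc : (Subgroup.centralizer ((P : Subgroup G) : Set G)).relIndex
      (Subgroup.normalizer ((P : Subgroup G) : Set G)) <;> simp_all
  rw [h3] at hm
  exact (Subgroup.eq_of_le_of_card_ge (le_centralizer_of_card_prime P hP) (by rw [hP]; omega)).symm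

theorem card_sylow_three : Nat.card (Sylow 3 G) = 28 := by
  classical
  haveI : Fact (Nat.Prime 3) := ⟨Nat.prime_three⟩
  haveI : Fact (Nat.Prime 7) := ⟨by norm_num⟩
  obtain ⟨hd, hmod, hone, hfac⟩ := sylow_number (p := 3) (nonabelian h) (k := 1) (m := 56)
    (by rw [h]; norm_num) one_pos (by norm_num)
  rw [h] at hfac
  have hle := Nat.le_of_dvd (by norm_num) hd
  have h47 : Nat.card (Sylow 3 G) = 7 ∨ Nat.card (Sylow 3 G) = 28 := by
    interval_cases hc : Nat.card (Sylow 3 G) <;> simp_all [Nat.factorial]
  refine h47.resolve_left fun h7 => ?_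
  obtain ⟨Q⟩ : Nonempty (Sylow 7 G) := inferInstance
  obtain ⟨hQ, h21, hC⟩ := seven_data h Q
  set N := Subgroup.normalizer ((Q : Subgroup G) : Set G) with hN
  -- all seven Sylow 3-subgroups lie in `N`
  have hN3 : Nat.card (Sylow 3 N) = 7 := by
    obtain ⟨R⟩ : Nonempty (Sylow 3 N) := inferInstance
    have hd := R.card_dvd_index
    have hR : Nat.card R = 3 := by
      simpa using SimpleOrder.card_sylow_eq R (k := 1) (m := 7) (by rw [h21]; norm_num) (by norm_num)
    have hidx : (R : Subgroup N).index = 7 := by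
      have := Subgroup.card_mul_index (R : Subgroup N)
      rw [hR, h21] at this
      omega
    rw [hidx] at hd
    rcases (Nat.dvd_prime (by norm_num)).1 hd with e | e
    · exfalso
      haveI : Subsingleton (Sylow 3 N) := (Nat.card_eq_one_iff_unique.1 e).1
      haveI : (R : Subgroup N).Normal := Sylow.normal_of_subsingleton R
      haveI : ((Q : Subgroup G).subgroupOf N).Normal := Subgroup.normal_in_normalizer
      obtain ⟨⟨x, hxR⟩, hx⟩ := exists_prime_orderOf_dvd_card' (G := (R : Subgroup N)) 3 (dvd_of_eq hR.symm)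
      rw [Subgroup.orderOf_mk] at hx
      have hxC : (x : G) ∈ Subgroup.centralizer ((Q : Subgroup G) : Set G) := by
        rw [Subgroup.mem_centralizer_iff]
        intro y hy
        have hdisj : Disjoint ((Q : Subgroup G).subgroupOf N) (R : Subgroup N) := by
          rw [disjoint_iff, ← Subgroup.card_eq_one]
          refine Nat.eq_one_of_dvd_coprimes (by norm_num : Nat.Coprime 7 3)
            ((Subgroup.card_dvd_of_le inf_le_left).trans (dvd_of_eq ?_))
            ((Subgroup.card_dvd_of_le inf_le_right).trans (dvd_of_eq hR))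
          exact (Nat.card_congr (Subgroup.subgroupOfEquivOfLe Subgroup.le_normalizer).toEquiv).trans hQ
        exact congrArg Subtype.val (Subgroup.commute_of_normal_of_disjoint _ _ inferInstance
          inferInstance hdisj ⟨y, Subgroup.le_normalizer hy⟩ x hy hxR)
      rw [hC] at hxC
      have := orderOf_dvd_natCard (⟨(x : G), hxC⟩ : (Q : Subgroup G))
      rw [Subgroup.orderOf_mk, Subgroup.orderOf_coe, hx, hQ] at this
      norm_num at this
    · exact e
  have hmap : ∀ R : Sylow 3 N, IsPGroup 3 ((R : Subgroup N).map N.subtype) := fun R => R.2.map _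
  choose f hf using fun R : Sylow 3 N => (hmap R).exists_le_sylow
  have hG3 : ∀ S : Sylow 3 G, Nat.card S = 3 := fun S => by
    simpa using SimpleOrder.card_sylow_eq S (k := 1) (m := 56) (by rw [h]; norm_num) (by norm_num)
  have heq : ∀ R : Sylow 3 N, (R : Subgroup N).map N.subtype = (f R : Subgroup G) := fun R =>
    Subgroup.eq_of_le_of_card_ge (hf R) (by
      rw [Subgroup.card_map_of_injective N.subtype_injective, hG3]
      exact (le_of_eq (by
        simpa using (SimpleOrder.card_sylow_eq R (k := 1) (m := 7) (by rw [h21]; norm_num) (by norm_num)).symm)))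
  have hinj : Function.Injective f := fun A B e => Sylow.ext
    (Subgroup.map_injective N.subtype_injective (by rw [heq, heq, e]))
  haveI : Fintype (Sylow 3 N) := Fintype.ofFinite _
  haveI : Fintype (Sylow 3 G) := Fintype.ofFinite _
  have hsurj : Function.Surjective f := ((Fintype.bijective_iff_injective_and_card f).2
    ⟨hinj, by rw [← Nat.card_eq_fintype_card, ← Nat.card_eq_fintype_card, hN3, h7]⟩).2
  obtain ⟨S⟩ : Nonempty (Sylow 3 G) := inferInstance
  have hnc : Subgroup.normalClosure ((S : Subgroup G) : Set G) ≤ N := by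
    rw [Subgroup.normalClosure, Subgroup.closure_le]
    intro y hy
    obtain ⟨s, hs, hsy⟩ := Group.mem_conjugatesOfSet_iff.1 hy
    obtain ⟨c, rfl⟩ := isConj_iff.1 hsy
    obtain ⟨R, hR⟩ := hsurj (c • S)
    have hmem : c * s * c⁻¹ ∈ ((c • S : Sylow 3 G) : Subgroup G) := by
      rw [Sylow.coe_subgroup_smul]
      exact ⟨s, hs, rfl⟩
    rw [← hR, ← heq] at hmem
    obtain ⟨r, -, hr⟩ := hmem
    rw [← hr]
    exact r.2
  rcases (Subgroup.normalClosure_normal (s := ((S : Subgroup G) : Set G))).eq_bot_or_eq_top with e | e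
  · have hle : (S : Subgroup G) ≤ ⊥ := e ▸ Subgroup.subset_normalClosure
    have := Subgroup.card_dvd_of_le hle
    rw [hG3, Subgroup.card_bot] at this
    norm_num at this
  · have := Subgroup.card_dvd_of_le (e ▸ hnc : ⊤ ≤ N)
    rw [Subgroup.card_top, h, h21] at this
    norm_num at this

theorem three_data [Fact (Nat.Prime 3)] (P : Sylow 3 G) :
    Nat.card P = 3 ∧ Nat.card (Subgroup.normalizer ((P : Subgroup G) : Set G)) = 6 ∧
      Subgroup.centralizer ((P : Subgroup G) : Set G) = P := by
  have hP : Nat.card P = 3 := by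
    simpa using SimpleOrder.card_sylow_eq P (k := 1) (m := 56) (by rw [h]; norm_num) (by norm_num)
  have h1 := card_normalizer_mul P
  rw [card_sylow_three h, h] at h1
  have h6 : Nat.card (Subgroup.normalizer ((P : Subgroup G) : Set G)) = 6 := by omega
  refine ⟨hP, h6, ?_⟩
  have hd := relIndex_dvd_pred P hP
  have hm := card_centralizer_mul P
  rw [h6] at hm
  have hne : (Subgroup.centralizer ((P : Subgroup G) : Set G)).relIndex
      (Subgroup.normalizer ((P : Subgroup G) : Set G)) ≠ 1 := fun e =>
    not_normalizer_le_centralizer (nonabelian h) (by rw [h]; norm_num) P (Subgroup.relIndex_eq_one.1 e)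
  have h2 := ((Nat.dvd_prime Nat.prime_two).1 hd).resolve_left hne
  rw [h2] at hm
  exact (Subgroup.eq_of_le_of_card_ge (le_centralizer_of_card_prime P hP) (by rw [hP]; omega)).symm

/-- An element commuting with one of order three or seven lies in its cyclic group. -/
theorem mem_zpowers_of_comm {p : ℕ} (hp : p = 3 ∨ p = 7) {u g : G} (hu : orderOf u = p)
    (hc : u * g = g * u) : g ∈ Subgroup.zpowers u := by
  haveI hpF : Fact p.Prime := ⟨by rcases hp with rfl | rfl <;> norm_num⟩
  have hz : IsPGroup p (Subgroup.zpowers u) :=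
    IsPGroup.of_card (n := 1) (by rw [Nat.card_zpowers, hu, pow_one])
  obtain ⟨P, hP⟩ := hz.exists_le_sylow
  obtain ⟨hcard, hC⟩ : Nat.card P = p ∧ Subgroup.centralizer ((P : Subgroup G) : Set G) = P := by
    rcases hp with rfl | rfl
    · exact ⟨(three_data h P).1, (three_data h P).2.2⟩
    · exact ⟨(seven_data h P).1, (seven_data h P).2.2⟩
  have he : Subgroup.zpowers u = (P : Subgroup G) :=
    Subgroup.eq_of_le_of_card_ge hP (by rw [Nat.card_zpowers, hu, hcard])
  have hg : g ∈ Subgroup.centralizer ((P : Subgroup G) : Set G) := by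
    rw [Subgroup.mem_centralizer_iff]
    intro y hy
    have hy' : y ∈ Subgroup.zpowers u := he ▸ hy
    obtain ⟨k, rfl⟩ := Subgroup.mem_zpowers_iff.1 hy'
    exact (Commute.zpow_left (show Commute u g from hc) k).eq
  rw [hC, ← he] at hg
  exact hg

theorem two_power_of_not (g : G) (h3 : orderOf g ≠ 3) (h7 : orderOf g ≠ 7) :
    ∃ k ≤ 3, orderOf g = 2 ^ k := by
  have hd : orderOf g ∣ 2 ^ 3 * (3 * 7) := by
    rw [show 2 ^ 3 * (3 * 7) = 168 by norm_num, ← h]; exact orderOf_dvd_natCard g
  have key : ∀ p, (p = 3 ∨ p = 7) → ¬ p ∣ orderOf g := by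
    intro p hp hdp
    have hu : orderOf (g ^ (orderOf g / p)) = p := orderOf_pow_orderOf_div (orderOf_pos g).ne' hdp
    have hmem := mem_zpowers_of_comm h hp hu ((Commute.refl g).pow_left _).eq
    have hd' : orderOf g ∣ p := by
      have := Subgroup.card_dvd_of_le (Subgroup.zpowers_le.2 hmem)
      rwa [Nat.card_zpowers, Nat.card_zpowers, hu] at this
    have hpp : p.Prime := by rcases hp with rfl | rfl <;> norm_num
    rcases (Nat.dvd_prime hpp).1 hd' with e | e
    · rw [e] at hdp
      exact hpp.one_lt.ne' (Nat.dvd_one.1 hdp)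
    · rcases hp with rfl | rfl <;> contradiction
  have hcop : (orderOf g).Coprime (3 * 7) := Nat.Coprime.mul_right
    ((Nat.Prime.coprime_iff_not_dvd Nat.prime_three).2 (key 3 (Or.inl rfl))).symm
    ((Nat.Prime.coprime_iff_not_dvd (by norm_num : Nat.Prime 7)).2 (key 7 (Or.inr rfl))).symm
  exact (Nat.dvd_prime_pow Nat.prime_two).1 (hcop.dvd_of_dvd_mul_right hd)

theorem order_cases (g : G) : orderOf g = 1 ∨ orderOf g = 2 ∨ orderOf g = 3 ∨ orderOf g = 4 ∨
    orderOf g = 7 ∨ orderOf g = 8 := by
  by_cases h3 : orderOf g = 3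
  · simp [h3]
  by_cases h7 : orderOf g = 7
  · simp [h7]
  obtain ⟨k, hk, e⟩ := two_power_of_not h g h3 h7
  interval_cases k <;> simp [e]

omit [IsSimpleGroup G] in
omit h in
theorem card_orderOf_eq (p : ℕ) [Fact p.Prime] (hP : ∀ S : Sylow p G, Nat.card S = p) :
    Nat.card {g : G // orderOf g = p} = Nat.card (Sylow p G) * (p - 1) := by
  classical
  haveI : Fintype G := Fintype.ofFinite G
  haveI : Fintype (Sylow p G) := Fintype.ofFinite _
  have hp : p.Prime := Fact.out
  rw [Nat.card_eq_fintype_card, Fintype.card_subtype]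
  have hu : (Finset.univ.filter fun g : G => orderOf g = p) = Finset.univ.biUnion
      fun S : Sylow p G => Finset.univ.filter fun g => g ≠ 1 ∧ g ∈ (S : Subgroup G) := by
    ext g
    simp only [Finset.mem_filter, Finset.mem_univ, true_and, Finset.mem_biUnion]
    constructor
    · intro hg
      obtain ⟨S, hS'⟩ := (IsPGroup.of_card (p := p) (n := 1) (G := Subgroup.zpowers g)
        (by rw [Nat.card_zpowers, hg, pow_one])).exists_le_sylow
      exact ⟨S, fun e => by rw [e, orderOf_one] at hg; exact hp.one_lt.ne hg,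
        hS' (Subgroup.mem_zpowers g)⟩
    · rintro ⟨S, hg1, hgS⟩
      have hd : orderOf g ∣ p := by
        rw [← Subgroup.orderOf_mk g hgS]
        exact (orderOf_dvd_natCard _).trans (dvd_of_eq (hP S))
      exact ((Nat.dvd_prime hp).1 hd).resolve_left (by rwa [orderOf_eq_one_iff])
  rw [hu, Finset.card_biUnion, Finset.sum_const_nat (m := p - 1), Finset.card_univ,
    Nat.card_eq_fintype_card]
  · intro S _
    rw [show (Finset.univ.filter fun g => g ≠ 1 ∧ g ∈ (S : Subgroup G)) =
      (Finset.univ.filter fun g => g ∈ (S : Subgroup G)).erase 1 by ext g; simp,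
      Finset.card_erase_of_mem (by simp [one_mem]), ← Fintype.card_subtype,
      ← Nat.card_eq_fintype_card]
    exact congrArg (· - 1) (hP S)
  · intro S _ T _ hST
    rw [Function.onFun, Finset.disjoint_left]
    intro g hg hg'
    simp at hg hg'
    have hgen : ∀ U : Sylow p G, g ∈ (U : Subgroup G) → (U : Subgroup G) = Subgroup.zpowers g := by
      intro U hU
      refine (Subgroup.eq_of_le_of_card_ge (Subgroup.zpowers_le.2 hU) ?_).symm
      have hd : Nat.card (Subgroup.zpowers g) ∣ p :=
        (Subgroup.card_dvd_of_le (Subgroup.zpowers_le.2 hU)).trans (dvd_of_eq (hP U))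
      rcases (Nat.dvd_prime hp).1 hd with e | e
      · exact absurd (by rwa [Nat.card_zpowers, orderOf_eq_one_iff] at e) hg.1
      · rw [hP U, e]
    exact hST (Sylow.ext ((hgen S hg.2).trans (hgen T hg'.2).symm))

theorem card_three : Nat.card {g : G // orderOf g = 3} = 56 := by
  haveI : Fact (Nat.Prime 3) := ⟨Nat.prime_three⟩
  rw [card_orderOf_eq 3 fun S => (three_data h S).1, card_sylow_three h]

theorem card_seven : Nat.card {g : G // orderOf g = 7} = 48 := by
  haveI : Fact (Nat.Prime 7) := ⟨by norm_num⟩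
  rw [card_orderOf_eq 7 fun S => (seven_data h S).1, card_sylow_seven h]

theorem card_sylow_two : Nat.card (Sylow 2 G) = 21 := by
  classical
  haveI : Fintype G := Fintype.ofFinite G
  haveI : Fact (Nat.Prime 2) := ⟨Nat.prime_two⟩
  haveI : Fintype (Sylow 2 G) := Fintype.ofFinite _
  obtain ⟨hd, hmod, hone, hfac⟩ := sylow_number (p := 2) (nonabelian h) (k := 3) (m := 21)
    (by rw [h]; norm_num) (by norm_num) (by norm_num)
  rw [h] at hfac
  have hle := Nat.le_of_dvd (by norm_num) hd
  have h721 : Nat.card (Sylow 2 G) = 7 ∨ Nat.card (Sylow 2 G) = 21 := by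
    interval_cases hc : Nat.card (Sylow 2 G) <;> simp_all [Nat.factorial]
  refine h721.resolve_left fun h7 => ?_
  let T : Finset G := Finset.univ.filter fun g => orderOf g ≠ 3 ∧ orderOf g ≠ 7
  have hcov : T ⊆ Finset.univ.biUnion
      fun S : Sylow 2 G => (Finset.univ.filter fun g => g ∈ (S : Subgroup G)) := by
    intro g hg
    simp only [T, Finset.mem_filter, Finset.mem_univ, true_and] at hg
    obtain ⟨k, -, e⟩ := two_power_of_not h g hg.1 hg.2
    obtain ⟨S, hS⟩ := (IsPGroup.of_card (p := 2) (n := k) (G := Subgroup.zpowers g)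
      (by rw [Nat.card_zpowers, e])).exists_le_sylow
    simp only [Finset.mem_biUnion, Finset.mem_univ, Finset.mem_filter, true_and]
    exact ⟨S, hS (Subgroup.mem_zpowers g)⟩
  have hb := (Finset.card_le_card hcov).trans (Finset.card_biUnion_le_card_mul _ _ 8 fun S _ => by
    rw [← Fintype.card_subtype, ← Nat.card_eq_fintype_card]
    exact le_of_eq (by simpa using SimpleOrder.card_sylow_eq S (k := 3) (m := 21) (by rw [h]; norm_num) (by norm_num)))
  rw [Finset.card_univ, ← Nat.card_eq_fintype_card, h7] at hb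
  have h3 := card_three h
  have h7' := card_seven h
  rw [Nat.card_eq_fintype_card, Fintype.card_subtype] at h3 h7'
  have hT : T.card + 56 + 48 = 168 := by
    have h1 := Finset.card_filter_add_card_filter_not (s := (Finset.univ : Finset G))
      (fun g => orderOf g = 3)
    rw [Finset.card_univ, ← Nat.card_eq_fintype_card, h, h3] at h1
    have h2 := Finset.card_filter_add_card_filter_not
      (s := Finset.univ.filter fun g : G => ¬ orderOf g = 3) (fun g => orderOf g = 7)
    rw [Finset.filter_filter, Finset.filter_filter] at h2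
    have e1 : (Finset.univ.filter fun g : G => ¬ orderOf g = 3 ∧ orderOf g = 7) =
        Finset.univ.filter fun g : G => orderOf g = 7 := by
      ext g
      simp only [Finset.mem_filter, Finset.mem_univ, true_and]
      exact ⟨fun x => x.2, fun x => ⟨by omega, x⟩⟩
    rw [e1, h7'] at h2
    simp only [T, ne_eq]
    omega
  omega

theorem two_data [Fact (Nat.Prime 2)] (T : Sylow 2 G) :
    Nat.card T = 8 ∧ Subgroup.normalizer ((T : Subgroup G) : Set G) = T ∧
      ¬ IsMulCommutative (T : Subgroup G) := by
  have hT : Nat.card T = 8 := by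
    simpa using SimpleOrder.card_sylow_eq T (k := 3) (m := 21) (by rw [h]; norm_num) (by norm_num)
  have h1 := card_normalizer_mul T
  rw [card_sylow_two h, h] at h1
  have hN : Subgroup.normalizer ((T : Subgroup G) : Set G) = T :=
    (Subgroup.eq_of_le_of_card_ge Subgroup.le_normalizer (by rw [hT]; omega)).symm
  refine ⟨hT, hN, fun hc => not_normalizer_le_centralizer (nonabelian h) (by rw [h]; norm_num) T ?_⟩
  intro a ha
  rw [hN] at ha
  rw [Subgroup.mem_centralizer_iff]
  intro b hb
  exact congrArg Subtype.val (hc.is_comm.comm (⟨b, hb⟩ : (T : Subgroup G)) ⟨a, ha⟩)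

omit [IsSimpleGroup G] in
omit h in
theorem fact_two : Fact (Nat.Prime 2) := ⟨Nat.prime_two⟩

theorem no_eight (g : G) : orderOf g ≠ 8 := by
  haveI : Fact (Nat.Prime 2) := ⟨Nat.prime_two⟩
  intro e
  obtain ⟨S, hS⟩ := (IsPGroup.of_card (p := 2) (n := 3) (G := Subgroup.zpowers g)
    (by rw [Nat.card_zpowers, e]; norm_num)).exists_le_sylow
  obtain ⟨hc, -, hn⟩ := two_data h S
  apply hn
  have he : Subgroup.zpowers g = (S : Subgroup G) :=
    Subgroup.eq_of_le_of_card_ge hS (by rw [Nat.card_zpowers, e, hc])
  rw [← he]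
  infer_instance

theorem order_cases' (g : G) : orderOf g = 1 ∨ orderOf g = 2 ∨ orderOf g = 3 ∨ orderOf g = 4 ∨
    orderOf g = 7 := by
  have := no_eight h g
  have := order_cases h g
  omega

theorem centralizer_eq [Fact (Nat.Prime 2)] (T : Sylow 2 G) {z : G} (hz : z ∈ (T : Subgroup G))
    (hz1 : z ≠ 1) (hc : ∀ t ∈ (T : Subgroup G), t * z = z * t) :
    Subgroup.centralizer ({z} : Set G) = T := by
  classical
  have hle : (T : Subgroup G) ≤ Subgroup.centralizer ({z} : Set G) := fun t ht =>
    Subgroup.mem_centralizer_singleton_iff.2 (hc t ht)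
  have h2 : IsPGroup 2 (Subgroup.centralizer ({z} : Set G)) := by
    rintro ⟨g, hg⟩
    rw [Subgroup.mem_centralizer_singleton_iff] at hg
    have key : ∀ p, (p = 3 ∨ p = 7) → orderOf g ≠ p := by
      intro p hp e
      have hm := mem_zpowers_of_comm h hp e hg
      have h1 := Subgroup.card_dvd_of_le (Subgroup.zpowers_le.2 hm)
      rw [Nat.card_zpowers, Nat.card_zpowers, e] at h1
      have h3 : orderOf z ∣ 8 := by
        rw [← Subgroup.orderOf_mk z hz, ← (two_data h T).1]
        exact orderOf_dvd_natCard _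
      have : orderOf z ∣ Nat.gcd p 8 := Nat.dvd_gcd h1 h3
      rcases hp with rfl | rfl <;> norm_num at this <;> exact hz1 this
    obtain ⟨k, -, e⟩ := two_power_of_not h g (key 3 (Or.inl rfl)) (key 7 (Or.inr rfl))
    refine ⟨k, Subtype.ext ?_⟩
    simp only [Subgroup.coe_pow, Subgroup.coe_one]
    rw [← e, pow_orderOf_eq_one]
  exact T.3 h2 hle

theorem sq_central [Fact (Nat.Prime 2)] (S : Sylow 2 G) {x : G} (hx : x ∈ (S : Subgroup G))
    (h4 : orderOf x = 4) : Subgroup.centralizer ({x * x} : Set G) = S := by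
  refine centralizer_eq h S (mul_mem hx hx) ?_ fun t ht => ?_
  · intro e
    have := orderOf_dvd_of_pow_eq_one (show x ^ 2 = 1 by rw [sq, e])
    rw [h4] at this
    norm_num at this
  · exact congrArg Subtype.val (sq_comm (H := (S : Subgroup G)) (two_data h S).1
      (x := ⟨x, hx⟩) (by rw [Subgroup.orderOf_mk, h4]) ⟨t, ht⟩)

theorem card_two_four :
    Nat.card {g : G // orderOf g = 2} + Nat.card {g : G // orderOf g = 4} = 63 := by
  classical
  haveI : Fintype G := Fintype.ofFinite G
  have hu : (Finset.univ : Finset G) = ((((Finset.univ.filter fun g => orderOf g = 1) ∪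
      Finset.univ.filter fun g => orderOf g = 2) ∪ Finset.univ.filter fun g => orderOf g = 3) ∪
      Finset.univ.filter fun g => orderOf g = 4) ∪ Finset.univ.filter fun g => orderOf g = 7 := by
    ext g
    simp only [Finset.mem_univ, Finset.mem_union, Finset.mem_filter, true_and, true_iff]
    have := order_cases' h g
    omega
  have hc := congrArg Finset.card hu
  rw [Finset.card_union_of_disjoint, Finset.card_union_of_disjoint, Finset.card_union_of_disjoint,
    Finset.card_union_of_disjoint, Finset.card_univ, ← Nat.card_eq_fintype_card, h] at hc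
  · have h1 : (Finset.univ.filter fun g : G => orderOf g = 1).card = 1 := by
      rw [Finset.card_eq_one]
      exact ⟨1, by ext g; simp⟩
    have h3 := card_three h
    have h7 := card_seven h
    rw [Nat.card_eq_fintype_card, Fintype.card_subtype] at h3 h7
    rw [Nat.card_eq_fintype_card, Nat.card_eq_fintype_card, Fintype.card_subtype,
      Fintype.card_subtype]
    omega
  all_goals
    rw [Finset.disjoint_left]
    intro g
    simp only [Finset.mem_union, Finset.mem_filter, Finset.mem_univ, true_and]
    omega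

theorem dihedral_and_four [Fact (Nat.Prime 2)] (T : Sylow 2 G) :
    Nonempty ((T : Subgroup G) ≃* DihedralGroup 4) ∧ Nat.card {g : G // orderOf g = 4} = 42 := by
  classical
  haveI : Fintype (Sylow 2 G) := Fintype.ofFinite _
  let m := Nat.card {t : (T : Subgroup G) // orderOf t = 4}
  have hm : ∀ S : Sylow 2 G, Nat.card {t : (S : Subgroup G) // orderOf t = 4} = m := fun S =>
    Nat.card_congr ((S.equiv T).toEquiv.subtypeEquiv fun t => by
      rw [show orderOf ((S.equiv T).toEquiv t) = orderOf t from MulEquiv.orderOf_eq _ _])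
  let f : (Σ S : Sylow 2 G, {t : (S : Subgroup G) // orderOf t = 4}) → {g : G // orderOf g = 4} :=
    fun p => ⟨(p.2.1 : G), by rw [Subgroup.orderOf_coe]; exact p.2.2⟩
  have hbij : Function.Bijective f := by
    constructor
    · rintro ⟨S, ⟨⟨a, ha⟩, ha4⟩⟩ ⟨S', ⟨⟨b, hb⟩, hb4⟩⟩ e
      obtain rfl : a = b := congrArg (fun t : {g : G // orderOf g = 4} => t.1) e
      rw [Subgroup.orderOf_mk] at ha4
      obtain rfl : S = S' := Sylow.ext
        ((sq_central h S ha ha4).symm.trans (sq_central h S' hb ha4))
      rfl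
    · rintro ⟨g, hg⟩
      obtain ⟨S, hS⟩ := (IsPGroup.of_card (p := 2) (n := 2) (G := Subgroup.zpowers g)
        (by rw [Nat.card_zpowers, hg]; norm_num)).exists_le_sylow
      exact ⟨⟨S, ⟨⟨g, hS (Subgroup.mem_zpowers g)⟩, by rw [Subgroup.orderOf_mk, hg]⟩⟩, rfl⟩
  have hcount : Nat.card {g : G // orderOf g = 4} = 21 * m := by
    rw [← Nat.card_eq_of_bijective f hbij, Nat.card_sigma, Finset.sum_congr rfl fun S _ => hm S,
      Finset.sum_const, Finset.card_univ, ← Nat.card_eq_fintype_card, card_sylow_two h, smul_eq_mul]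
  obtain ⟨hT, -, hn⟩ := two_data h T
  obtain ⟨x, hx⟩ := exists_four (H := (T : Subgroup G)) hT hn
  rcases dihedral_or_four (H := (T : Subgroup G)) hT hn hx with he | hge
  · refine ⟨he, ?_⟩
    obtain ⟨e⟩ := he
    rw [hcount, show m = 2 from (Nat.card_congr (e.toEquiv.subtypeEquiv fun t => by
      rw [show orderOf (e.toEquiv t) = orderOf t from MulEquiv.orderOf_eq _ _])).trans
        card_four_dihedral]
  · exfalso
    have := card_two_four h
    change 4 ≤ m at hge
    omega

theorem card_four : Nat.card {g : G // orderOf g = 4} = 42 := by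
  haveI : Fact (Nat.Prime 2) := ⟨Nat.prime_two⟩
  obtain ⟨T⟩ : Nonempty (Sylow 2 G) := inferInstance
  exact (dihedral_and_four h T).2

theorem card_two : Nat.card {g : G // orderOf g = 2} = 21 := by
  have := card_two_four h
  have := card_four h
  omega

omit [IsSimpleGroup G] in
omit h in
theorem isConj_of_card {n : ℕ} {a : G} (ha : orderOf a = n)
    (hc : Nat.card {x : G // IsConj a x} = Nat.card {g : G // orderOf g = n})
    {b : G} (hb : orderOf b = n) : IsConj a b := by
  have hsub : {x : G | IsConj a x} ⊆ {g : G | orderOf g = n} := by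
    rintro g hg
    obtain ⟨c, rfl⟩ := isConj_iff.1 hg
    show orderOf (c * a * c⁻¹) = n
    rw [← MulAut.conj_apply, MulEquiv.orderOf_eq, ha]
  have he := Set.eq_of_subset_of_ncard_le hsub (by
    rw [← Nat.card_coe_set_eq, ← Nat.card_coe_set_eq]
    exact hc.ge) (Set.toFinite _)
  exact (Set.ext_iff.1 he b).2 hb

theorem class_prime {p : ℕ} (hp : p = 3 ∨ p = 7) {a : G} (ha : orderOf a = p) :
    Subgroup.centralizer ({a} : Set G) = Subgroup.zpowers a ∧
      Nat.card {x : G // IsConj a x} * p = 168 := by
  have hc : Subgroup.centralizer ({a} : Set G) = Subgroup.zpowers a := by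
    refine le_antisymm (fun g hg => mem_zpowers_of_comm h hp ha
      (Subgroup.mem_centralizer_singleton_iff.1 hg).symm) ?_
    rw [Subgroup.zpowers_le, Subgroup.mem_centralizer_singleton_iff]
  refine ⟨hc, ?_⟩
  have := card_isConj_mul a
  rwa [hc, Nat.card_zpowers, ha, h] at this

theorem isConj_three {s t : G} (hs : orderOf s = 3) (ht : orderOf t = 3) : IsConj s t := by
  refine isConj_of_card hs ?_ ht
  have := (class_prime h (Or.inl rfl) hs).2
  rw [card_three h]
  omega

theorem class_seven {x : G} (hx : orderOf x = 7) :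
    Nat.card {g : G // IsConj x g} = 24 ∧ ¬ IsConj x x⁻¹ := by
  haveI : Fact (Nat.Prime 7) := ⟨by norm_num⟩
  refine ⟨by have := (class_prime h (Or.inr rfl) hx).2; omega, fun hc => ?_⟩
  obtain ⟨c, hc⟩ := isConj_iff.1 hc
  obtain ⟨P, hP⟩ := (IsPGroup.of_card (p := 7) (n := 1) (G := Subgroup.zpowers x)
    (by rw [Nat.card_zpowers, hx, pow_one])).exists_le_sylow
  have he : Subgroup.zpowers x = (P : Subgroup G) :=
    Subgroup.eq_of_le_of_card_ge hP (by rw [Nat.card_zpowers, hx, (seven_data h P).1])
  have hcN : c ∈ Subgroup.normalizer ((P : Subgroup G) : Set G) := by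
    rw [← he]
    refine Subgroup.mem_normalizer_fintype ?_
    intro n hn
    obtain ⟨k, rfl⟩ := hn
    show c * x ^ k * c⁻¹ ∈ Subgroup.zpowers x
    rw [← conj_zpow, hc]
    exact Subgroup.zpow_mem _ (inv_mem (Subgroup.mem_zpowers x)) k
  have hpow : c ^ 21 = 1 := by
    have := pow_card_eq_one' (x := (⟨c, hcN⟩ : Subgroup.normalizer ((P : Subgroup G) : Set G)))
    rw [(seven_data h P).2.1] at this
    exact congrArg Subtype.val this
  have hc2 : Commute (c ^ 2) x := by
    have h2 : c * x⁻¹ * c⁻¹ = x := by
      calc c * x⁻¹ * c⁻¹ = (c * x * c⁻¹)⁻¹ := by group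
        _ = x := by rw [hc, inv_inv]
    have h3 : c ^ 2 * x * (c ^ 2)⁻¹ = x := by
      calc c ^ 2 * x * (c ^ 2)⁻¹ = c * (c * x * c⁻¹) * c⁻¹ := by simp only [sq, mul_inv_rev, mul_assoc]
        _ = x := by rw [hc, h2]
    exact mul_inv_eq_iff_eq_mul.1 h3
  have hcc : Commute c x := by
    have e : c = ((c ^ 2) ^ 10)⁻¹ := by
      refine eq_inv_of_mul_eq_one_left ?_
      rw [← pow_mul, ← pow_succ', hpow]
    rw [e]
    exact (hc2.pow_left 10).inv_left
  have : x = x⁻¹ := by
    rw [← hc, hcc.eq, mul_inv_cancel_right]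
  have hd : orderOf x ∣ 2 := orderOf_dvd_of_pow_eq_one (by
    rw [sq]; exact eq_inv_iff_mul_eq_one.1 this)
  rw [hx] at hd
  norm_num at hd

theorem isConj_involution {s t : G} (hs : orderOf s = 2) (ht : orderOf t = 2) : IsConj s t := by
  haveI : Fact (Nat.Prime 2) := ⟨Nat.prime_two⟩
  obtain ⟨T⟩ : Nonempty (Sylow 2 G) := inferInstance
  obtain ⟨hT, -, hn⟩ := two_data h T
  obtain ⟨x, hx⟩ := exists_four (H := (T : Subgroup G)) hT hn
  have hx' : orderOf (x : G) = 4 := by rw [Subgroup.orderOf_coe, hx]
  have hC := sq_central h T x.2 hx'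
  have hz : orderOf ((x : G) * x) = 2 := by
    rw [← sq, orderOf_pow, hx']
    norm_num
  have hclass : Nat.card {g : G // IsConj ((x : G) * x) g} = Nat.card {g : G // orderOf g = 2} := by
    have := card_isConj_mul ((x : G) * x)
    rw [hC, hT, h] at this
    rw [card_two h]
    omega
  exact (isConj_of_card hz hclass hs).symm.trans (isConj_of_card hz hclass ht)

theorem isConj_four {s t : G} (hs : orderOf s = 4) (ht : orderOf t = 4) : IsConj s t := by
  haveI : Fact (Nat.Prime 2) := ⟨Nat.prime_two⟩
  refine isConj_of_card hs ?_ ht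
  obtain ⟨S, hS⟩ := (IsPGroup.of_card (p := 2) (n := 2) (G := Subgroup.zpowers s)
    (by rw [Nat.card_zpowers, hs]; norm_num)).exists_le_sylow
  have hsS : s ∈ (S : Subgroup G) := hS (Subgroup.mem_zpowers s)
  obtain ⟨hT, -, hn⟩ := two_data h S
  have hle : Subgroup.centralizer ({s} : Set G) < (S : Subgroup G) := by
    refine lt_of_le_of_ne ?_ ?_
    · rw [← sq_central h S hsS hs]
      intro g hg
      rw [Subgroup.mem_centralizer_singleton_iff] at hg ⊢
      exact (show Commute g s from hg).mul_right hg
    · intro e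
      obtain ⟨t, ht⟩ := not_central_four (H := (S : Subgroup G)) hT hn
        (x := ⟨s, hsS⟩) (by rw [Subgroup.orderOf_mk, hs])
      have : (t : G) ∈ Subgroup.centralizer ({s} : Set G) := by rw [e]; exact t.2
      exact ht (Subtype.ext (Subgroup.mem_centralizer_singleton_iff.1 this))
  have h4 : Nat.card (Subgroup.centralizer ({s} : Set G)) = 4 := by
    have hd := Subgroup.card_dvd_of_le hle.le
    rw [hT] at hd
    have h4 : 4 ∣ Nat.card (Subgroup.centralizer ({s} : Set G)) := by
      rw [← hs, ← Nat.card_zpowers]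
      exact Subgroup.card_dvd_of_le (by
        rw [Subgroup.zpowers_le, Subgroup.mem_centralizer_singleton_iff])
    have hne : Nat.card (Subgroup.centralizer ({s} : Set G)) ≠ 8 := fun e =>
      hle.ne (Subgroup.eq_of_le_of_card_ge hle.le (by rw [hT, e]))
    have := Nat.le_of_dvd (by norm_num) hd
    have := Nat.pos_of_ne_zero (Nat.card_pos (α := Subgroup.centralizer ({s} : Set G))).ne'
    omega
  have := card_isConj_mul s
  rw [h4, h] at this
  rw [card_four h]
  omega

end Cfsg.Agent.Classical.Order168
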