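import Cfsg.Agent.Lib.Classical.Order168
import Cfsg.Agent.Lib.Classical.DicksonSmall

/-!
Klein four-groups and maximal subgroups of a simple group of order 168.
-/

set_option autoImplicit false
set_option linter.style.haveILetI false
set_option linter.unusedSectionVars false

namespace Cfsg.Agent.Classical.Order168

open SimpleOrder Subgroup

/-- The two fours of the dihedral group of order eight. -/
def fourA : Subgroup (DihedralGroup 4) where
  carrier := {d | d ∈ ({DihedralGroup.r 0, DihedralGroup.r 2, DihedralGroup.sr 0, DihedralGroup.sr 2} : Finset (DihedralGroup 4))}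
  one_mem' := by decide
  mul_mem' := by
    intro a b ha hb
    revert a b; decide
  inv_mem' := by
    intro a ha
    revert a; decide

/-- The second one. -/
def fourB : Subgroup (DihedralGroup 4) where
  carrier := {d | d ∈ ({DihedralGroup.r 0, DihedralGroup.r 2, DihedralGroup.sr 1, DihedralGroup.sr 3} : Finset (DihedralGroup 4))}
  one_mem' := by decide
  mul_mem' := by
    intro a b ha hb
    revert a b; decide
  inv_mem' := by
    intro a ha
    revert a; decide

theorem four_pair : ∀ a b : DihedralGroup 4, a * a = 1 → b * b = 1 → (a * b) * (a * b) = 1 →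
    (a ∈ ({DihedralGroup.r 0, DihedralGroup.r 2, DihedralGroup.sr 0, DihedralGroup.sr 2} : Finset (DihedralGroup 4)) ∧
      b ∈ ({DihedralGroup.r 0, DihedralGroup.r 2, DihedralGroup.sr 0, DihedralGroup.sr 2} : Finset (DihedralGroup 4))) ∨
    (a ∈ ({DihedralGroup.r 0, DihedralGroup.r 2, DihedralGroup.sr 1, DihedralGroup.sr 3} : Finset (DihedralGroup 4)) ∧
      b ∈ ({DihedralGroup.r 0, DihedralGroup.r 2, DihedralGroup.sr 1, DihedralGroup.sr 3} : Finset (DihedralGroup 4))) := by
  decide

theorem four_sq : (∀ a ∈ fourA, a * a = 1) ∧ (∀ a ∈ fourB, a * a = 1) := by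
  have k1 : ∀ a, a ∈ ({DihedralGroup.r 0, DihedralGroup.r 2, DihedralGroup.sr 0, DihedralGroup.sr 2} : Finset (DihedralGroup 4)) → a * a = 1 := by decide
  have k2 : ∀ a, a ∈ ({DihedralGroup.r 0, DihedralGroup.r 2, DihedralGroup.sr 1, DihedralGroup.sr 3} : Finset (DihedralGroup 4)) → a * a = 1 := by decide
  exact ⟨fun a ha => k1 a ha, fun a ha => k2 a ha⟩

theorem four_card : Nat.card fourA = 4 ∧ Nat.card fourB = 4 := by
  constructor
  · rw [show Nat.card fourA = Nat.card ({DihedralGroup.r 0, DihedralGroup.r 2, DihedralGroup.sr 0, DihedralGroup.sr 2} : Finset (DihedralGroup 4)) from rfl,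
      Nat.card_eq_fintype_card, Fintype.card_coe]
    decide
  · rw [show Nat.card fourB = Nat.card ({DihedralGroup.r 0, DihedralGroup.r 2, DihedralGroup.sr 1, DihedralGroup.sr 3} : Finset (DihedralGroup 4)) from rfl,
      Nat.card_eq_fintype_card, Fintype.card_coe]
    decide

theorem fourA_ne : fourA ≠ fourB := fun e => by
  have hA : DihedralGroup.sr 0 ∈ fourA := (show DihedralGroup.sr 0 ∈ ({DihedralGroup.r 0, DihedralGroup.r 2, DihedralGroup.sr 0, DihedralGroup.sr 2} : Finset (DihedralGroup 4)) by decide)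
  rw [e] at hA
  have hB : DihedralGroup.sr 0 ∈ ({DihedralGroup.r 0, DihedralGroup.r 2, DihedralGroup.sr 1, DihedralGroup.sr 3} : Finset (DihedralGroup 4)) := hA
  revert hB; decide

universe u

variable {G : Type u} [Group G] [Finite G] [IsSimpleGroup G] (h : Nat.card G = 168)

omit [IsSimpleGroup G] in
theorem isKlein_of {U : Subgroup G} (hc : Nat.card U = 4) (hs : ∀ a ∈ U, a * a = 1) : IsKleinFour ↥U := by
  refine ⟨hc, ?_⟩
  haveI : Nontrivial U := Finite.one_lt_card_iff_nontrivial.1 (by omega)
  rcases (Nat.dvd_prime Nat.prime_two).1 (Monoid.exponent_dvd_of_forall_pow_eq_one fun a : U => by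
    rw [pow_two]; exact Subtype.ext (hs a a.2)) with e | e
  · exact absurd (Monoid.exp_eq_one_iff.1 e) (not_subsingleton U)
  · exact e

omit [IsSimpleGroup G] in
theorem klein_sq {U : Subgroup G} (hU : IsKleinFour ↥U) : Nat.card U = 4 ∧ ∀ a ∈ U, a * a = 1 :=
  ⟨hU.card_four, fun a ha => congrArg Subtype.val (IsKleinFour.mul_self (⟨a, ha⟩ : U))⟩

omit [IsSimpleGroup G] in
theorem setlike_comm {U : Subgroup G} (hU : IsKleinFour ↥U) {a b : G} (ha : a ∈ U) (hb : b ∈ U) : a * b = b * a := by
  have e : ∀ x ∈ U, x⁻¹ = x := fun x hx => inv_eq_of_mul_eq_one_right ((klein_sq hU).2 x hx)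
  calc a * b = (a * b)⁻¹ := (e _ (mul_mem ha hb)).symm
    _ = b * a := by rw [_root_.mul_inv_rev, e a ha, e b hb]

include h

/-- The Klein fours inside a Sylow subgroup. -/
theorem exists_two_fours (T : Sylow 2 G) : ∃ U₁ U₂ : Subgroup G, U₁ ≤ T ∧ U₂ ≤ T ∧ IsKleinFour ↥U₁ ∧
    IsKleinFour ↥U₂ ∧ U₁ ≠ U₂ ∧ ∀ U : Subgroup G, U ≤ (T : Subgroup G) → IsKleinFour ↥U → U = U₁ ∨ U = U₂ := by
  haveI : Fact (Nat.Prime 2) := ⟨Nat.prime_two⟩
  obtain ⟨⟨e⟩, -⟩ := dihedral_and_four h T
  set φ : DihedralGroup 4 →* G := (T : Subgroup G).subtype.comp e.symm.toMonoidHom with hφ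
  have hφi : Function.Injective φ := Subtype.val_injective.comp e.symm.injective
  have hsub : ∀ S : Subgroup (DihedralGroup 4), S.map φ ≤ (T : Subgroup G) := by
    rintro S _ ⟨s, -, rfl⟩; exact (e.symm s).2
  have hk : ∀ S : Subgroup (DihedralGroup 4), Nat.card S = 4 → (∀ a ∈ S, a * a = 1) → IsKleinFour ↥(S.map φ) := by
    intro S hc hs
    refine isKlein_of (by rw [Subgroup.card_map_of_injective hφi, hc]) ?_
    rintro _ ⟨s, hs', rfl⟩
    rw [← map_mul, hs s hs', map_one]
  refine ⟨fourA.map φ, fourB.map φ, hsub _, hsub _, hk _ four_card.1 four_sq.1, hk _ four_card.2 four_sq.2,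
    fun he => fourA_ne (Subgroup.map_injective hφi he), fun U hUT hU => ?_⟩
  obtain ⟨hc, hsq⟩ := klein_sq hU
  set S := U.comap φ with hS
  have hUS : S.map φ = U := Subgroup.map_comap_eq_self (fun u hu => ⟨e ⟨u, hUT hu⟩, by simp [hφ]⟩)
  have hSc : Nat.card S = 4 := by
    have := congrArg (fun K : Subgroup G => Nat.card K) hUS
    simp only [Subgroup.card_map_of_injective hφi] at this
    exact this.trans hc
  have hSsq : ∀ a ∈ S, a * a = 1 := fun a ha => hφi (by rw [map_mul, map_one]; exact hsq _ ha)
  have key : S ≤ fourA ∨ S ≤ fourB := by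
    by_contra hcon
    rw [not_or] at hcon
    obtain ⟨a, ha, ha'⟩ := SetLike.not_le_iff_exists.1 hcon.1
    obtain ⟨b, hb, hb'⟩ := SetLike.not_le_iff_exists.1 hcon.2
    rcases four_pair a b (hSsq a ha) (hSsq b hb) (hSsq _ (mul_mem ha hb)) with h' | h'
    · exact ha' h'.1
    · exact hb' h'.2
  rcases key with hle | hle
  · exact Or.inl (by rw [← hUS, Subgroup.eq_of_le_of_card_ge hle (by rw [hSc, four_card.1])])
  · exact Or.inr (by rw [← hUS, Subgroup.eq_of_le_of_card_ge hle (by rw [hSc, four_card.2])])

theorem no_six (g : G) : orderOf g ≠ 6 := by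
  have := order_cases' h g
  omega

/-- A proper subgroup has order at most 24. -/
theorem card_le_24 {M : Subgroup G} (hM : M ≠ ⊤) : Nat.card M ≤ 24 := by
  have h2 := SimpleOrder.two_mul_dvd_factorial (nonabelian h) M hM
  have hi := M.card_mul_index
  rw [h] at hi h2
  by_contra hlt
  have h7 : M.index < 7 := by
    by_contra h7
    have := Nat.mul_le_mul (show 25 ≤ Nat.card M by omega) (show 7 ≤ M.index by omega)
    omega
  have h0 : 0 < M.index := Nat.pos_of_ne_zero Subgroup.index_ne_zero_of_finite
  interval_cases hd : M.index <;> revert h2 <;> norm_num [Nat.factorial]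

omit h in
theorem mem_sylow_two {U : Subgroup G} (hU : IsKleinFour ↥U) : ∃ T : Sylow 2 G, U ≤ T :=
  haveI : Fact (Nat.Prime 2) := ⟨Nat.prime_two⟩
  (IsPGroup.of_card (p := 2) (n := 2) (by rw [hU.card_four]; rfl)).exists_le_sylow

theorem le_normalizer_four {U : Subgroup G} (hU : IsKleinFour ↥U) (T : Sylow 2 G) (hUT : U ≤ T) :
    (T : Subgroup G) ≤ Subgroup.normalizer (U : Set G) := by
  haveI : Fact (Nat.Prime 2) := ⟨Nat.prime_two⟩
  have hT := (two_data h T).1
  have hi : (U.subgroupOf (T : Subgroup G)).index = 2 := by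
    have := (U.subgroupOf (T : Subgroup G)).card_mul_index
    rw [Nat.card_congr (Subgroup.subgroupOfEquivOfLe hUT).toEquiv, hU.card_four, hT] at this
    omega
  exact (Subgroup.normal_subgroupOf_iff_le_normalizer hUT).1 (Subgroup.normal_of_index_eq_two hi)

theorem four_normalizer {U : Subgroup G} (hU : IsKleinFour ↥U) :
    Nat.card (Subgroup.normalizer (U : Set G)) = 24 ∧
      Nonempty (↥(Subgroup.normalizer (U : Set G)) ≃* Equiv.Perm (Fin 4)) := by
  haveI : Fact (Nat.Prime 2) := ⟨Nat.prime_two⟩
  obtain ⟨T, hUT⟩ := mem_sylow_two hU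
  obtain ⟨hT, hNT, hnab⟩ := two_data h T
  obtain ⟨hc, hsq⟩ := klein_sq hU
  set N := Subgroup.normalizer (U : Set G) with hN
  have hTN := le_normalizer_four h hU T hUT
  have hne : N ≠ ⊤ := fun e => by
    haveI := Subgroup.normalizer_eq_top_iff.1 e
    rcases Subgroup.Normal.eq_bot_or_eq_top (H := U) inferInstance with r | r
    · rw [r, Subgroup.card_bot] at hc; omega
    · rw [r, Subgroup.card_top, h] at hc; omega
  have h24 : Nat.card N = 24 := by
    have hle := card_le_24 h hne
    have h8 : 8 ∣ Nat.card N := hT ▸ Subgroup.card_dvd_of_le hTN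
    have h168 : Nat.card N ∣ 168 := h ▸ Subgroup.card_subgroup_dvd_card N
    have hpos : 0 < Nat.card N := Nat.card_pos
    rcases (show Nat.card N = 8 ∨ Nat.card N = 16 ∨ Nat.card N = 24 by omega) with e | e | e
    · exfalso
      have hNeq : (T : Subgroup G) = N := Subgroup.eq_of_le_of_card_ge hTN (by rw [e, hT])
      -- all involutions of U lie in the centre of T
      have hcen : ∀ u ∈ U, ∀ t ∈ (T : Subgroup G), t * u = u * t := by
        intro u hu t ht
        by_cases hu1 : u = 1
        · rw [hu1, one_mul, mul_one]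
        have ho : orderOf u = 2 := orderOf_eq_prime (by rw [pow_two]; exact hsq u hu) hu1
        obtain ⟨x, hx⟩ := exists_four (H := (T : Subgroup G)) hT hnab
        have hx4 : orderOf (x : G) = 4 := by rw [Subgroup.orderOf_coe, hx]
        have hC := sq_central h T x.2 hx4
        have hxx : orderOf ((x : G) * x) = 2 := by
          rw [← pow_two, orderOf_pow' _ two_ne_zero, hx4]; norm_num
        have hcl : Nat.card {y : G // IsConj ((x : G) * x) y} = Nat.card {g : G // orderOf g = 2} := by
          have := card_isConj_mul ((x : G) * x)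
          rw [hC, h, hT] at this
          rw [card_two h]; omega
        obtain ⟨g, hg⟩ := isConj_iff.1 (isConj_of_card hxx hcl ho)
        -- the centralizer of `u` is a Sylow subgroup containing `U`
        have hCu : Subgroup.centralizer ({u} : Set G) = ((g • T : Sylow 2 G) : Subgroup G) := by
          ext y
          rw [Sylow.coe_subgroup_smul, Subgroup.mem_pointwise_smul_iff_inv_smul_mem, ← hC,
            Subgroup.mem_centralizer_singleton_iff, Subgroup.mem_centralizer_singleton_iff, ← map_inv]
          show _ ↔ g⁻¹ * y * g⁻¹⁻¹ * _ = _ * (g⁻¹ * y * g⁻¹⁻¹)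
          rw [← hg]
          constructor <;> intro k
          · have := congrArg (fun z => g⁻¹ * z * g) k
            simpa [mul_assoc] using this
          · have := congrArg (fun z => g * z * g⁻¹) k
            simpa [mul_assoc] using this
        have hUu : U ≤ ((g • T : Sylow 2 G) : Subgroup G) := fun v hv => by
          rw [← hCu, Subgroup.mem_centralizer_singleton_iff]
          exact setlike_comm hU hv hu
        have hTg : ((g • T : Sylow 2 G) : Subgroup G) = T := by
          refine Subgroup.eq_of_le_of_card_ge (hNeq ▸ le_normalizer_four h hU (g • T) hUu) ?_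
          rw [hT, (two_data h (g • T)).1]
        have : t ∈ Subgroup.centralizer ({u} : Set G) := by rw [hCu, hTg]; exact ht
        exact Subgroup.mem_centralizer_singleton_iff.1 this
      apply hnab
      refine ⟨⟨fun a b => ?_⟩⟩
      by_cases hab : (a : G) ∈ U
      · exact Subtype.ext (hcen _ hab b b.2).symm
      · refine Subtype.ext ?_
        have hidx : (U.subgroupOf (T : Subgroup G)).index = 2 := by
          have := (U.subgroupOf (T : Subgroup G)).card_mul_index
          rw [Nat.card_congr (Subgroup.subgroupOfEquivOfLe hUT).toEquiv, hc, hT] at this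
          omega
        have hmi := @Subgroup.mul_mem_iff_of_index_two _ _ _ hidx
        by_cases hbb : (b : G) ∈ U
        · exact hcen _ hbb a a.2
        · have hab' : ((a⁻¹ * b : (T : Subgroup G)) : G) ∈ U := by
            have := (hmi (a := a⁻¹) (b := b)).2 (by simp [Subgroup.mem_subgroupOf, hab, hbb])
            exact this
          have h' := hcen _ hab' a a.2
          simp only [Subgroup.coe_mul, Subgroup.coe_inv] at h'
          show (a : G) * b = b * a
          calc (a : G) * b = (a : G) * ((a : G) * ((a : G)⁻¹ * b)) := by group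
            _ = (a : G) * ((a : G)⁻¹ * b * a) := by rw [h']
            _ = b * a := by group
    · exfalso; rw [e] at h168; norm_num at h168
    · exact e
  refine ⟨h24, Dickson.nonempty_perm_four h24 fun g hg => no_six h g ?_⟩
  rw [Subgroup.orderOf_coe]; exact hg

/-- Distinct fours in one Sylow subgroup are not conjugate. -/
theorem fours_not_conj (T : Sylow 2 G) {U W : Subgroup G} (hU : U ≤ (T : Subgroup G)) (hW : W ≤ (T : Subgroup G))
    (hUk : IsKleinFour ↥U) (hWk : IsKleinFour ↥W) (hne : U ≠ W) (g : G) :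
    U.map (MulAut.conj g).toMonoidHom ≠ W := by
  haveI : Fact (Nat.Prime 2) := ⟨Nat.prime_two⟩
  intro he
  obtain ⟨hT, hNT, -⟩ := two_data h T
  have h1 := le_normalizer_four h hWk T hW
  have hW' : W ≤ ((g • T : Sylow 2 G) : Subgroup G) := by
    rw [← he, Sylow.coe_subgroup_smul]
    rintro _ ⟨v, hv, rfl⟩
    exact Subgroup.smul_mem_pointwise_smul v (MulAut.conj g) _ (hU hv)
  have h2 := le_normalizer_four h hWk (g • T) hW'
  obtain ⟨n, hn⟩ := MulAction.exists_smul_eq (Subgroup.normalizer (W : Set G)) ((g • T).subtype h2) (T.subtype h1)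
  rw [Sylow.smul_subtype] at hn
  have hn' : ((n : G) * g) • T = T := by
    rw [mul_smul]; exact Sylow.subtype_injective hn
  rw [Sylow.smul_eq_iff_mem_normalizer] at hn'
  have hnT : (n : G) * g ∈ (T : Subgroup G) := hNT ▸ (show _ ∈ Subgroup.normalizer ((T : Subgroup G) : Set G) from hn')
  have hmem : ((n : G) * g) ∈ Subgroup.normalizer (U : Set G) := le_normalizer_four h hUk T hU hnT
  have hU' : U.map (MulAut.conj ((n : G) * g)).toMonoidHom = U := by
    refine Subgroup.eq_of_le_of_card_ge ?_ (le_of_eq (Subgroup.card_map_of_injective (MulAut.conj _).injective).symm)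
    rintro _ ⟨v, hv, rfl⟩
    exact (Subgroup.mem_normalizer_iff.1 hmem v).1 hv
  have hWn : W.map (MulAut.conj (n : G)).toMonoidHom = W := by
    refine Subgroup.eq_of_le_of_card_ge ?_ (le_of_eq (Subgroup.card_map_of_injective (MulAut.conj _).injective).symm)
    rintro _ ⟨v, hv, rfl⟩
    exact (Subgroup.mem_normalizer_iff.1 n.2 v).1 hv
  apply hne
  calc U = U.map (MulAut.conj ((n : G) * g)).toMonoidHom := hU'.symm
    _ = (U.map (MulAut.conj g).toMonoidHom).map (MulAut.conj (n : G)).toMonoidHom := by
        rw [Subgroup.map_map]; congr 1; ext v; simp [mul_assoc]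
    _ = W.map (MulAut.conj (n : G)).toMonoidHom := by rw [he]
    _ = W := hWn

end Cfsg.Agent.Classical.Order168
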