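import Cfsg.Agent.Lib.Classical.Order168
import Cfsg.Agent.Lib.Classical.SmallAlt

/-!
A simple group of order 168 is unique: its action on the Sylow 7-subgroups is that of three fixed
permutations of the projective line over seven elements.
-/

set_option autoImplicit false
set_option linter.style.haveILetI false

namespace Cfsg.Agent.Classical.Order168

open SimpleOrder Subgroup

/-- The translation. -/
def shiftFun : Option (ZMod 7) → Option (ZMod 7) := Option.map (· + 1)

/-- Multiplication by two. -/
def dblFun : Option (ZMod 7) → Option (ZMod 7) := Option.map (2 * ·)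

/-- Negative inversion. -/
def invFun7 : Option (ZMod 7) → Option (ZMod 7)
  | none => some 0
  | some a => if a = 0 then none else some (-(a ^ 5))

/-- The subgroup generated by the three permutations. -/
def K168 : Subgroup (Equiv.Perm (Option (ZMod 7))) :=
  closure {g | (∀ o, g o = shiftFun o) ∨ (∀ o, g o = dblFun o) ∨ (∀ o, g o = invFun7 o)}

theorem tau_cases : ∀ a b c d : ZMod 7, b = 4 * a → c = 4 * b → d = 4 * c →
    a ≠ 1 → b ≠ 2 → c ≠ 4 → a ≠ 0 →
    (a = 2 → b = 1) → (a = 4 → c = 1) → (a = 3 ∨ a = 5 ∨ a = 6) := by decide +kernel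

theorem nz1 : (1 : ZMod 7) ≠ 0 := by decide
theorem nz2 : (2 : ZMod 7) ≠ 0 := by decide
theorem nz4 : (4 : ZMod 7) ≠ 0 := by decide
theorem pow23 : (2 : ZMod 7) ^ 3 = 1 := by decide

universe u
variable {G : Type u} [Group G] [Finite G] [IsSimpleGroup G] (h : Nat.card G = 168)

include h

theorem exists_hom : ∃ f : G →* Equiv.Perm (Option (ZMod 7)), Function.Injective f ∧ f.range = K168 := by
  classical
  haveI : Fact (Nat.Prime 7) := ⟨by norm_num⟩
  haveI : Fact (Nat.Prime 3) := ⟨Nat.prime_three⟩
  haveI : Fintype (Sylow 7 G) := Fintype.ofFinite _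
  have hno : ∀ H : Subgroup G, H.index ≤ 4 → H = ⊤ := by
    intro H hH
    by_contra hne
    have hd := SmallAlt.dvd_factorial_index H hne
    have h2 := Nat.le_of_dvd (Nat.factorial_pos _) hd
    have h3 := Nat.factorial_le hH
    rw [h] at h2
    norm_num [Nat.factorial] at h3
    omega
  obtain ⟨P⟩ : Nonempty (Sylow 7 G) := inferInstance
  obtain ⟨hP, h21, hC⟩ := seven_data h P
  obtain ⟨⟨x, hxP⟩, hx'⟩ := exists_prime_orderOf_dvd_card' (G := (P : Subgroup G)) 7 (dvd_of_eq hP.symm)
  have hx : orderOf x = 7 := by rw [← hx', Subgroup.orderOf_mk]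
  have hPz : zpowers x = (P : Subgroup G) := eq_of_le_of_card_ge (zpowers_le.2 hxP) (by
    rw [Nat.card_zpowers, hx, hP])
  have hstab : ∀ S : Sylow 7 G, Nat.card (MulAction.stabilizer G S) = 21 := fun S => by
    rw [Sylow.stabilizer_eq_normalizer]; exact (seven_data h S).2.1
  have hxfix : ∀ S : Sylow 7 G, x • S = S → S = P := by
    intro S hS
    have hm : x ∈ normalizer (S : Set G) := Sylow.smul_eq_iff_mem_normalizer.1 hS
    have hle := (IsPGroup.of_card (p := 7) (G := zpowers x) (n := 1) (by
      rw [Nat.card_zpowers, hx, pow_one])).inf_normalizer_sylow S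
    have : zpowers x ≤ (S : Subgroup G) := by
      have e : zpowers x ⊓ normalizer (S : Set G) = zpowers x := inf_eq_left.2 (zpowers_le.2 hm)
      rw [e] at hle
      exact hle.trans_le inf_le_right
    exact Sylow.ext ((eq_of_le_of_card_ge this (by rw [(seven_data h S).1, Nat.card_zpowers, hx])).symm.trans hPz)
  obtain ⟨Q, hQ⟩ : ∃ Q : Sylow 7 G, Q ≠ P := by
    by_contra! hc
    haveI : Subsingleton (Sylow 7 G) := ⟨fun a b => (hc a).trans (hc b).symm⟩
    have := card_sylow_seven h
    rw [Nat.card_eq_one_iff_unique.2 ⟨inferInstance, ⟨P⟩⟩] at this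
    omega
  have hxP' : x • P = P := by
    have : x ∈ MulAction.stabilizer G P := by
      rw [Sylow.stabilizer_eq_normalizer]; exact le_normalizer hxP
    exact this
  -- coordinates
  have hx7 : x ^ 7 = 1 := by rw [← hx]; exact pow_orderOf_eq_one x
  let pt : ZMod 7 → Sylow 7 G := fun z => x ^ z.val • Q
  have hptmod : ∀ n : ℕ, x ^ n • Q = pt (n : ZMod 7) := fun n => by
    show _ = x ^ (n : ZMod 7).val • Q
    rw [ZMod.val_natCast, ← pow_mod_orderOf x n, hx]
  have hptne : ∀ z, pt z ≠ P := by
    intro z e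
    refine hQ ?_
    have : x ^ z.val • Q = x ^ z.val • P := by
      rw [show x ^ z.val • P = P from MulAction.mem_stabilizer_iff.1 ((MulAction.stabilizer G P).pow_mem hxP' _)]
      exact e
    exact MulAction.injective _ this
  let c : Option (ZMod 7) → Sylow 7 G := fun o => o.elim P pt
  have hcinj : Function.Injective c := by
    have key : ∀ a b : ZMod 7, pt a = pt b → a = b := by
      intro a b e
      by_contra hne
      refine hQ (hxfix Q ?_)
      have h0 : x ^ (b - a).val • Q = Q := by
        have h1 : x ^ ((b - a).val + a.val) • Q = x ^ a.val • Q := by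
          rw [hptmod, hptmod, Nat.cast_add, ZMod.natCast_zmod_val, ZMod.natCast_zmod_val, sub_add_cancel]
          exact e.symm
        rw [add_comm, pow_add, mul_smul] at h1
        exact MulAction.injective _ h1
      have hcop : Nat.Coprime (b - a).val (orderOf x) := by
        rw [hx, Nat.coprime_comm, (by norm_num : Nat.Prime 7).coprime_iff_not_dvd]
        intro hd
        refine hne ?_
        have h2 : ((b - a).val : ZMod 7) = 0 := (ZMod.natCast_eq_zero_iff _ _).2 hd
        rw [ZMod.natCast_zmod_val, sub_eq_zero] at h2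
        exact h2.symm
      obtain ⟨m, hm⟩ := exists_pow_eq_self_of_coprime hcop
      have h2 : x ^ (b - a).val ∈ MulAction.stabilizer G Q := h0
      have h3 := (MulAction.stabilizer G Q).pow_mem h2 m
      rw [hm] at h3
      exact h3
    rintro (_ | a) (_ | b) e
    · rfl
    · exact absurd e.symm (hptne b)
    · exact absurd e (hptne a)
    · exact congrArg some (key a b e)
  have hcard : Fintype.card (Option (ZMod 7)) = Fintype.card (Sylow 7 G) := by
    rw [← Nat.card_eq_fintype_card (α := Sylow 7 G), card_sylow_seven h, Fintype.card_option, ZMod.card]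
  let e : Option (ZMod 7) ≃ Sylow 7 G := Equiv.ofBijective c
    ((Fintype.bijective_iff_injective_and_card c).2 ⟨hcinj, hcard⟩)
  have hce : ∀ S : Sylow 7 G, ∃ o, c o = S := fun S => e.surjective S
  -- the stabiliser of two points has order three
  have hyex : ∃ y : G, y • P = P ∧ y • Q = Q ∧ orderOf y = 3 ∧ y * x * y⁻¹ = x ^ 2 := by
    let M := MulAction.stabilizer G P
    have horb : Nat.card (MulAction.orbit M Q) = 7 := by
      have hset : MulAction.orbit M Q = {S : Sylow 7 G | S ≠ P} := by
        ext S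
        constructor
        · rintro ⟨⟨m, hm⟩, rfl⟩ e
          refine hQ (MulAction.injective m (a₁ := Q) (a₂ := P) ?_)
          exact (e : m • Q = P).trans (MulAction.mem_stabilizer_iff.1 hm).symm
        · intro hS
          obtain ⟨_ | z, hz⟩ := hce S
          · exact absurd hz.symm hS
          · exact ⟨⟨x ^ z.val, M.pow_mem hxP' _⟩, hz⟩
      rw [hset, Nat.card_coe_set_eq, show {S : Sylow 7 G | S ≠ P} = ({P} : Set (Sylow 7 G))ᶜ by ext; simp,
        Set.ncard_compl, Set.ncard_singleton, card_sylow_seven h]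
    have h3 : Nat.card (MulAction.stabilizer M Q) = 3 := by
      have := Nat.card_congr (MulAction.orbitProdStabilizerEquivGroup M Q)
      rw [Nat.card_prod, horb, hstab P] at this
      omega
    obtain ⟨⟨⟨y, hyM⟩, hyQ⟩, hy'⟩ := exists_prime_orderOf_dvd_card' (G := MulAction.stabilizer M Q) 3 (dvd_of_eq h3.symm)
    have hy : orderOf y = 3 := by rw [← hy', Subgroup.orderOf_mk, Subgroup.orderOf_mk]
    have hyP : y ∈ normalizer ((P : Subgroup G) : Set G) := Sylow.smul_eq_iff_mem_normalizer.1 hyM
    have hmem : y * x * y⁻¹ ∈ zpowers x := by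
      rw [hPz]; exact (mem_normalizer_iff.1 hyP x).1 hxP
    obtain ⟨a, ha7, ha⟩ : ∃ a < 7, y * x * y⁻¹ = x ^ a := by
      obtain ⟨k, hk⟩ := mem_zpowers_iff_mem_range_orderOf.1 hmem |> Finset.mem_image.1
      exact ⟨k, by simpa [hx] using hk.1, hk.2.symm⟩
    have hit : ∀ m : ℕ, y ^ m * x * (y ^ m)⁻¹ = x ^ a ^ m := by
      intro m
      induction m with
      | zero => simp
      | succ m ih =>
        calc y ^ (m + 1) * x * (y ^ (m + 1))⁻¹ = y * (y ^ m * x * (y ^ m)⁻¹) * y⁻¹ := by
              rw [pow_succ']; group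
          _ = (y * x * y⁻¹) ^ (a ^ m) := by rw [ih, conj_pow]
          _ = x ^ a ^ (m + 1) := by rw [ha, ← pow_mul, pow_succ']
    have h1 : x ^ a ^ 3 = x ^ 1 := by
      rw [← hit 3, show y ^ 3 = 1 by rw [← hy]; exact pow_orderOf_eq_one y]; simp
    rw [pow_eq_pow_iff_modEq, hx] at h1
    have ha1 : a ≠ 1 := by
      intro e
      rw [e, pow_one, mul_inv_eq_iff_eq_mul] at ha
      have := mem_zpowers_of_comm h (Or.inr rfl) hx ha.symm
      have hd := Subgroup.card_dvd_of_le (zpowers_le.2 this)
      rw [Nat.card_zpowers, Nat.card_zpowers, hx, hy] at hd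
      norm_num at hd
    unfold Nat.ModEq at h1
    interval_cases a <;> norm_num at h1
    · exact absurd rfl ha1
    · exact ⟨y, hyM, hyQ, hy, ha⟩
    · refine ⟨y ^ 2, (MulAction.stabilizer G P).pow_mem hyM 2, ?_, ?_, ?_⟩
      · exact MulAction.mem_stabilizer_iff.1 ((MulAction.stabilizer G Q).pow_mem hyQ 2)
      · rw [orderOf_pow, hy]; norm_num
      · rw [hit 2, ← pow_mod_orderOf x (4 ^ 2), hx]; rfl
  obtain ⟨y, hyP, hyQ, hy, hyx⟩ := hyex
  have hyconj : ∀ n : ℕ, y * x ^ n = x ^ (2 * n) * y := fun n => by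
    rw [pow_mul, ← hyx, conj_pow, inv_mul_cancel_right]
  have hypt : ∀ z, y • pt z = pt (2 * z) := fun z => by
    show y • (x ^ z.val • Q) = _
    rw [← mul_smul, hyconj, mul_smul, hyQ, hptmod, Nat.cast_mul, ZMod.natCast_zmod_val, Nat.cast_ofNat]
  have hyfix : ∀ S, y • S = S → S = P ∨ S = Q := by
    intro S hS
    obtain ⟨_ | z, rfl⟩ := hce S
    · exact Or.inl rfl
    · right
      have h2 : 2 * z = z := Option.some_injective _ (hcinj ((hypt z).symm.trans hS : c (some (2 * z)) = c (some z)))
      have h0 : z = 0 := by linear_combination h2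
      show pt z = Q
      rw [h0]; simp [pt]
  -- an involution inverting `y`
  obtain ⟨S3, hS3⟩ := (IsPGroup.of_card (p := 3) (G := zpowers y) (n := 1) (by
    rw [Nat.card_zpowers, hy, pow_one])).exists_le_sylow
  obtain ⟨hS3c, h6, hC3⟩ := three_data h S3
  have hS3e : zpowers y = (S3 : Subgroup G) := eq_of_le_of_card_ge hS3 (by rw [Nat.card_zpowers, hy, hS3c])
  obtain ⟨⟨t, htN⟩, ht'⟩ := exists_prime_orderOf_dvd_card' (G := normalizer ((S3 : Subgroup G) : Set G)) 2
    (by rw [h6]; norm_num)
  have ht : orderOf t = 2 := by rw [← ht', Subgroup.orderOf_mk]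
  have htt : t * t = 1 := by
    rw [← sq, ← ht]; exact pow_orderOf_eq_one t
  have htfix : ∀ S : Sylow 7 G, t • S ≠ S := by
    intro S hS
    have h2 : Nat.card (zpowers t) ∣ Nat.card (MulAction.stabilizer G S) := card_dvd_of_le (zpowers_le.2 hS)
    rw [Nat.card_zpowers, ht, hstab S] at h2
    norm_num at h2
  have hty : t * y = y ^ 2 * t := by
    have hm : t * y * t⁻¹ ∈ zpowers y := by
      rw [hS3e]; exact (mem_normalizer_iff.1 htN y).1 (hS3 (mem_zpowers y))
    obtain ⟨k, hk⟩ := mem_zpowers_iff_mem_range_orderOf.1 hm |> Finset.mem_image.1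
    have hk3 : k < 3 := by simpa [hy] using hk.1
    have hk2 := hk.2
    interval_cases k
    · exfalso
      rw [pow_zero, eq_comm, mul_inv_eq_one, mul_eq_left] at hk2
      rw [hk2, orderOf_one] at hy
      norm_num at hy
    · exfalso
      rw [pow_one, eq_comm, mul_inv_eq_iff_eq_mul] at hk2
      have := Subgroup.card_dvd_of_le (zpowers_le.2 (mem_zpowers_of_comm h (Or.inl rfl) hy hk2.symm))
      rw [Nat.card_zpowers, Nat.card_zpowers, hy, ht] at this
      norm_num at this
    · exact mul_inv_eq_iff_eq_mul.1 hk2.symm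
  have htPQ : t • P = Q := by
    refine (hyfix _ ?_).resolve_left (htfix P)
    calc y • t • P = (y ^ 2 * y⁻¹ * t) • P := by rw [← mul_smul]; group
      _ = (y ^ 2 * t) • (t⁻¹ * y⁻¹ * t) • P := by rw [← mul_smul]; congr 1; group
      _ = (y ^ 2 * t) • P := by
        congr 1
        refine MulAction.mem_stabilizer_iff.1 ?_
        have e : t⁻¹ * y⁻¹ * t = y := by
          have h3 : y ^ 3 = 1 := by rw [← hy]; exact pow_orderOf_eq_one y
          have hy2 : y⁻¹ = y ^ 2 := inv_eq_of_mul_eq_one_right (by rw [← pow_succ']; exact h3)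
          rw [mul_assoc, hy2, ← hty, inv_mul_cancel_left]
        rw [e]
        exact hyP
      _ = (t * y) • P := by rw [hty]
      _ = t • P := by rw [mul_smul, hyP]
  have htQP : t • Q = P := by rw [← htPQ, ← mul_smul, htt, one_smul]
  have htsome : ∀ z : ZMod 7, z ≠ 0 → ∃ w : ZMod 7, t • pt z = pt w := by
    intro z hz
    obtain ⟨_ | w, hw⟩ := hce (t • pt z)
    · exfalso
      refine hz (Option.some_injective _ (hcinj ?_))
      show pt z = pt 0
      have : t • t • pt z = t • P := by rw [← hw]; rfl
      rw [← mul_smul, htt, one_smul, htPQ] at this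
      rw [this]; simp [pt]
    · exact ⟨w, hw.symm⟩
  choose! τ hτ using htsome
  have htau2 : ∀ z, z ≠ 0 → τ (2 * z) = 4 * τ z := by
    intro z hz
    have h2 : 2 * z ≠ 0 := mul_ne_zero (by first | exact nz1 | exact nz2 | exact nz4 | exact pow23) hz
    have e : t • y • pt z = y • y • t • pt z := by
      rw [← mul_smul, hty, sq, mul_smul, mul_smul]
    rw [hypt, hτ _ h2, hτ z hz, hypt, hypt, ← mul_assoc] at e
    have := Option.some_injective _ (hcinj (e : c (some _) = c (some _)))
    rw [this]
    norm_num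
  have hτne : ∀ z, z ≠ 0 → τ z ≠ z ∧ τ z ≠ 0 ∧ τ (τ z) = z := by
    intro z hz
    have hne0 : τ z ≠ 0 := by
      intro e
      have h2 : t • t • pt z = t • Q := by
        rw [hτ z hz, e]; simp [pt]
      rw [← mul_smul, htt, one_smul, htQP] at h2
      exact hptne z h2
    refine ⟨fun e => htfix (pt z) (by rw [hτ z hz, e]), hne0, Option.some_injective _ (hcinj ?_)⟩
    show pt (τ (τ z)) = pt z
    rw [← hτ _ hne0, ← hτ z hz, ← mul_smul, htt, one_smul]
  have h12 : τ 2 = 4 * τ 1 := by simpa using htau2 1 (by first | exact nz1 | exact nz2 | exact nz4 | exact pow23)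
  have h24 : τ 4 = 4 * τ 2 := by
    have := htau2 2 (by first | exact nz1 | exact nz2 | exact nz4 | exact pow23)
    rwa [show (2 : ZMod 7) * 2 = 4 from rfl] at this
  have hcases := tau_cases (τ 1) (τ 2) (τ 4) (4 * τ 4) h12 h24 rfl (hτne 1 (by first | exact nz1 | exact nz2 | exact nz4 | exact pow23)).1
    (hτne 2 (by first | exact nz1 | exact nz2 | exact nz4 | exact pow23)).1 (hτne 4 (by first | exact nz1 | exact nz2 | exact nz4 | exact pow23)).1 (hτne 1 (by first | exact nz1 | exact nz2 | exact nz4 | exact pow23)).2.1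
    (fun e => by have := (hτne 1 (by first | exact nz1 | exact nz2 | exact nz4 | exact pow23)).2.2; rwa [e] at this)
    (fun e => by have := (hτne 1 (by first | exact nz1 | exact nz2 | exact nz4 | exact pow23)).2.2; rwa [e] at this)
  -- normalise the involution
  obtain ⟨u, huP, huQ, hu, huy⟩ : ∃ u : G, u • P = Q ∧ u • Q = P ∧ u • pt 1 = pt 6 ∧
      ∀ z, z ≠ 0 → ∃ w, u • pt z = pt w ∧ u • pt (2 * z) = pt (4 * w) := by
    have hgen : ∀ k : ℕ, (y ^ k * t * (y ^ k)⁻¹) • P = Q ∧ (y ^ k * t * (y ^ k)⁻¹) • Q = P := by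
      intro k
      have hp : (y ^ k)⁻¹ • P = P := MulAction.mem_stabilizer_iff.1 ((MulAction.stabilizer G P).inv_mem ((MulAction.stabilizer G P).pow_mem hyP k))
      have hq : (y ^ k)⁻¹ • Q = Q := MulAction.mem_stabilizer_iff.1 ((MulAction.stabilizer G Q).inv_mem ((MulAction.stabilizer G Q).pow_mem hyQ k))
      have hp' : y ^ k • P = P := MulAction.mem_stabilizer_iff.1 ((MulAction.stabilizer G P).pow_mem hyP k)
      have hq' : y ^ k • Q = Q := MulAction.mem_stabilizer_iff.1 ((MulAction.stabilizer G Q).pow_mem hyQ k)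
      exact ⟨by rw [mul_smul, mul_smul, hp, htPQ, hq'], by rw [mul_smul, mul_smul, hq, htQP, hp']⟩
    have hypow : ∀ (k : ℕ) z, y ^ k • pt z = pt (2 ^ k * z) := by
      intro k
      induction k with
      | zero => intro z; simp
      | succ k ih => intro z; rw [pow_succ', mul_smul, ih, hypt, pow_succ', mul_assoc]
    have h3 : y ^ 3 = 1 := by rw [← hy]; exact pow_orderOf_eq_one y
    have hyinv : ∀ k ≤ 3, (y ^ k)⁻¹ = y ^ (3 - k) := fun k hk => by
      apply inv_eq_of_mul_eq_one_right
      rw [← pow_add, Nat.add_sub_cancel' hk, h3]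
    have main : ∀ k ≤ 2, (y ^ k * t * (y ^ k)⁻¹) • pt 1 = pt (2 ^ k * τ (2 ^ (3 - k))) ∧
        ∀ z, z ≠ 0 → ∃ w, (y ^ k * t * (y ^ k)⁻¹) • pt z = pt w ∧
          (y ^ k * t * (y ^ k)⁻¹) • pt (2 * z) = pt (4 * w) := by
      intro k hk
      have hstep : ∀ z, z ≠ 0 → (y ^ k * t * (y ^ k)⁻¹) • pt z = pt (2 ^ k * τ (2 ^ (3 - k) * z)) := fun z hz => by
        rw [hyinv k (by omega), mul_smul, mul_smul, hypow, hτ _ (mul_ne_zero (pow_ne_zero _ (by first | exact nz1 | exact nz2 | exact nz4 | exact pow23)) hz), hypow]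
      refine ⟨by rw [hstep 1 (by first | exact nz1 | exact nz2 | exact nz4 | exact pow23), mul_one], fun z hz => ⟨_, hstep z hz, ?_⟩⟩
      rw [hstep _ (mul_ne_zero (by first | exact nz1 | exact nz2 | exact nz4 | exact pow23) hz)]
      congr 1
      rw [show (2 : ZMod 7) ^ (3 - k) * (2 * z) = 2 * (2 ^ (3 - k) * z) by ring,
        htau2 _ (mul_ne_zero (pow_ne_zero _ (by first | exact nz1 | exact nz2 | exact nz4 | exact pow23)) hz)]
      ring
    have h8 : τ (2 ^ 3) = τ 1 := congrArg τ (by first | exact nz1 | exact nz2 | exact nz4 | exact pow23)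
    rcases hcases with ha | ha | ha
    · refine ⟨_, (hgen 2).1, (hgen 2).2, ?_, (main 2 le_rfl).2⟩
      rw [(main 2 le_rfl).1, show (2 : ZMod 7) ^ (3 - 2) = 2 from rfl, h12, ha]
      rfl
    · refine ⟨_, (hgen 1).1, (hgen 1).2, ?_, (main 1 (by norm_num)).2⟩
      rw [(main 1 (by norm_num)).1, show (2 : ZMod 7) ^ (3 - 1) = 4 from rfl, h24, h12, ha]
      rfl
    · refine ⟨_, (hgen 0).1, (hgen 0).2, ?_, (main 0 (by norm_num)).2⟩
      rw [(main 0 (by norm_num)).1, show (3 : ℕ) - 0 = 3 from rfl, h8, ha]
      rfl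
  -- `u` is the negative inversion
  have u2 : u • pt 2 = pt 3 := by
    obtain ⟨w, hw1, hw2⟩ := huy 1 (by first | exact nz1 | exact nz2 | exact nz4 | exact pow23)
    have hw : w = 6 := Option.some_injective _ (hcinj (hw1.symm.trans hu : c (some w) = c (some 6)))
    simpa [hw, show (4 : ZMod 7) * 6 = 3 from rfl] using hw2
  have u4 : u • pt 4 = pt 5 := by
    obtain ⟨w, hw1, hw2⟩ := huy 2 (by first | exact nz1 | exact nz2 | exact nz4 | exact pow23)
    have hw : w = 3 := Option.some_injective _ (hcinj (hw1.symm.trans u2 : c (some w) = c (some 3)))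
    rw [show (2 : ZMod 7) * 2 = 4 from rfl, hw] at hw2
    exact hw2
  have hu2 : ∀ S : Sylow 7 G, u • u • S = S := by
    have hmem : u * u ∈ MulAction.stabilizer G P ⊓ MulAction.stabilizer G Q := by
      constructor
      · show (u * u) • P = P
        rw [mul_smul, huP, huQ]
      · show (u * u) • Q = Q
        rw [mul_smul, huQ, huP]
    -- a nontrivial element fixing both points has order three and would commute with `u`
    intro S
    by_cases hone : u * u = 1
    · rw [← mul_smul, hone, one_smul]
    exfalso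
    have hd : Nat.card (zpowers (u * u)) ∣ 21 := hstab P ▸ card_dvd_of_le (zpowers_le.2 hmem.1)
    have hd' : orderOf (u * u) ∣ 21 := Nat.card_zpowers (u * u) ▸ hd
    have hu21 : orderOf u ≠ 2 := fun e => hone (by rw [← sq, ← e]; exact pow_orderOf_eq_one u)
    have hu1 : orderOf u ≠ 1 := fun e => hone (by rw [orderOf_eq_one_iff.1 e, mul_one])
    have hnP : u • P ≠ P := by rw [huP]; exact hQ
    have hpow : ∀ n, u ^ n * u ^ n = (u * u) ^ n := fun n => by
      rw [← pow_add, ← two_mul, pow_mul, sq]
    rcases order_cases' h u with e | e | e | e | e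
    · exact hu1 e
    · exact hu21 e
    · refine hnP ?_
      have h2 := MulAction.mem_stabilizer_iff.1 ((MulAction.stabilizer G P).pow_mem hmem.1 2)
      rwa [← hpow, ← pow_add, show 2 + 2 = 3 + 1 from rfl, pow_succ,
        show u ^ 3 = 1 by rw [← e]; exact pow_orderOf_eq_one u, one_mul] at h2
    · rw [← sq, orderOf_pow, e] at hd'
      norm_num at hd'
    · refine hnP ?_
      have h2 := MulAction.mem_stabilizer_iff.1 ((MulAction.stabilizer G P).pow_mem hmem.1 4)
      rwa [← hpow, ← pow_add, show 4 + 4 = 7 + 1 from rfl, pow_succ,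
        show u ^ 7 = 1 by rw [← e]; exact pow_orderOf_eq_one u, one_mul] at h2
  have u6 : u • pt 6 = pt 1 := by rw [← hu]; exact hu2 _
  have u3 : u • pt 3 = pt 2 := by rw [← u2]; exact hu2 _
  have u5 : u • pt 5 = pt 4 := by rw [← u4]; exact hu2 _
  -- the homomorphism
  let f : G →* Equiv.Perm (Option (ZMod 7)) :=
    e.symm.permCongrHom.toMonoidHom.comp (MulAction.toPermHom G (Sylow 7 G))
  have hf : ∀ g o o', g • c o = c o' → f g o = o' := by
    intro g o o' hg
    show e.symm (g • e o) = o'
    rw [Equiv.symm_apply_eq]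
    exact hg
  have hinj : Function.Injective f := by
    refine e.symm.permCongrHom.injective.comp ?_
    rw [← MonoidHom.ker_eq_bot_iff]
    rcases (MonoidHom.normal_ker (MulAction.toPermHom G (Sylow 7 G))).eq_bot_or_eq_top with hk | hk
    · exact hk
    · exfalso
      refine hQ (hxfix Q ?_)
      exact DFunLike.congr_fun (MonoidHom.mem_ker.1 (hk ▸ mem_top x)) Q
  have fx : ∀ o, f x o = shiftFun o := by
    rintro (_ | z)
    · exact hf x none none hxP'
    · refine hf x (some z) (some (z + 1)) ?_
      show x • (x ^ z.val • Q) = pt (z + 1)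
      rw [← mul_smul, ← pow_succ', hptmod, Nat.cast_add, ZMod.natCast_zmod_val, Nat.cast_one]
  have fy : ∀ o, f y o = dblFun o := by
    rintro (_ | z)
    · exact hf y none none hyP
    · exact hf y (some z) (some (2 * z)) (hypt z)
  have hQ0 : pt 0 = Q := by simp [pt]
  have fu : ∀ o, f u o = invFun7 o := by
    rintro (_ | z)
    · exact hf u none (some 0) (huP.trans hQ0.symm)
    · refine hf u (some z) _ ?_
      fin_cases z
      · show u • pt 0 = P
        rw [hQ0, huQ]
      · exact hu
      · exact u2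
      · exact u3
      · exact u4
      · exact u5
      · exact u6
  refine ⟨f, hinj, le_antisymm ?_ ?_⟩
  · have htop : closure ({x, y, u} : Set G) = ⊤ := by
      refine hno _ ?_
      have hxm : x ∈ closure ({x, y, u} : Set G) := subset_closure (Or.inl rfl)
      have hym : y ∈ closure ({x, y, u} : Set G) := subset_closure (Or.inr (Or.inl rfl))
      have hum : u ∈ closure ({x, y, u} : Set G) := subset_closure (Or.inr (Or.inr rfl))
      set L := closure ({x, y, u} : Set G)
      have h7 : 7 ∣ Nat.card L := by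
        have := card_dvd_of_le (zpowers_le.2 hxm)
        rwa [Nat.card_zpowers, hx] at this
      have h3 : 3 ∣ Nat.card L := by
        have := card_dvd_of_le (zpowers_le.2 hym)
        rwa [Nat.card_zpowers, hy] at this
      have hgt : 21 < Nat.card L := by
        by_contra hle
        have h21' : Nat.card L = 21 := Nat.le_antisymm (not_lt.1 hle)
          (Nat.le_of_dvd Nat.card_pos (Nat.Coprime.mul_dvd_of_dvd_of_dvd (by norm_num) h3 h7))
        haveI : Fintype L := Fintype.ofFinite _
        obtain ⟨S⟩ : Nonempty (Sylow 7 L) := inferInstance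
        -- the cyclic group generated by `x` is normal in `L`, so `u` fixes `P`
        have hn : (zpowers x).subgroupOf L = (S : Subgroup L) ∨ True := Or.inr trivial
        have hsub : Subsingleton (Sylow 7 L) := by
          rw [← Finite.card_le_one_iff_subsingleton]
          have hd : Nat.card (Sylow 7 L) ∣ 21 := by
            have := (S : Subgroup L).index_dvd_card
            rw [h21'] at this
            exact S.card_dvd_index.trans this
          have hm := card_sylow_modEq_one 7 L
          have := Nat.le_of_dvd (by norm_num) hd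
          generalize Nat.card (Sylow 7 L) = s at *
          unfold Nat.ModEq at hm
          interval_cases s <;> omega
        have hP7 : IsPGroup 7 ((zpowers x).subgroupOf L) :=
          (IsPGroup.of_card (p := 7) (n := 1) (by rw [Nat.card_zpowers, hx, pow_one])).comap_subtype
        obtain ⟨S', hS'⟩ := hP7.exists_le_sylow
        have hS'c : Nat.card ((zpowers x).subgroupOf L) = 7 := by
          rw [Nat.card_congr (subgroupOfEquivOfLe (zpowers_le.2 hxm)).toEquiv, Nat.card_zpowers, hx]
        have hSc : Nat.card (S' : Subgroup L) = 7 := by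
          rw [S'.card_eq_multiplicity, h21',
            show (21 : ℕ) = 7 * 3 by norm_num, Nat.factorization_mul (by norm_num) (by norm_num), Finsupp.add_apply,
            Nat.Prime.factorization_self (by norm_num), Nat.factorization_eq_zero_of_not_dvd (show ¬ 7 ∣ 3 by norm_num)]
          norm_num
        have heq := eq_of_le_of_card_ge hS' (by rw [hS'c, hSc])
        haveI := hsub
        have hnorm : ((zpowers x).subgroupOf L).Normal := heq ▸ S'.normal_of_subsingleton
        have huN : u ∈ normalizer ((P : Subgroup G) : Set G) := by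
          rw [← hPz]
          exact (normal_subgroupOf_iff_le_normalizer (zpowers_le.2 hxm)).1 hnorm hum
        have huP' : u • P = P := Sylow.smul_eq_iff_mem_normalizer.2 huN
        rw [huP] at huP'
        exact hQ huP'
      have hi := L.index_mul_card
      rw [h] at hi
      obtain ⟨m, hm⟩ := Nat.Coprime.mul_dvd_of_dvd_of_dvd (by norm_num : Nat.Coprime 3 7) h3 h7
      rw [hm] at hi hgt
      have : L.index * m = 8 := by nlinarith
      have hm2 : 2 ≤ m := by omega
      have := Nat.mul_le_mul_left L.index hm2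
      omega
    rw [MonoidHom.range_eq_map, ← htop, MonoidHom.map_closure]
    apply Subgroup.closure_mono
    rintro _ ⟨g, hg, rfl⟩
    rcases hg with rfl | rfl | rfl
    · exact Or.inl fx
    · exact Or.inr (Or.inl fy)
    · exact Or.inr (Or.inr fu)
  · rw [K168, closure_le]
    rintro g (hg | hg | hg)
    · exact ⟨x, Equiv.ext fun o => (fx o).trans (hg o).symm⟩
    · exact ⟨y, Equiv.ext fun o => (fy o).trans (hg o).symm⟩
    · exact ⟨u, Equiv.ext fun o => (fu o).trans (hg o).symm⟩

/-- Simple groups of order 168 are isomorphic. -/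
theorem nonempty_mulEquiv {H : Type*} [Group H] [Finite H] [IsSimpleGroup H] (hH : Nat.card H = 168) :
    Nonempty (G ≃* H) := by
  obtain ⟨f, hf, hfr⟩ := exists_hom h
  obtain ⟨f', hf', hfr'⟩ := exists_hom hH
  exact ⟨((MonoidHom.ofInjective hf).trans (MulEquiv.subgroupCongr (hfr.trans hfr'.symm))).trans
    (MonoidHom.ofInjective hf').symm⟩

end Cfsg.Agent.Classical.Order168
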