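import Cfsg.Agent.Lib.Classical.Isom
import Cfsg.Prelude.Def_Classical

/-!
Involutions of `PΩ_{2m+1}(q)`, `q` odd: at least `m` conjugacy classes.
-/

set_option autoImplicit false
set_option linter.style.haveILetI false

open scoped Matrix commutatorElement

namespace Cfsg.Agent.Classical.OrthInv

variable (m : ℕ) (F : Type*) [Field F]

/-- Diagonal coordinates. -/
abbrev D : Type := Fin (m + 1) ⊕ Fin m

variable {m F}

/-- The diagonal form: squares minus squares. -/
def dQ (x : D m → F) : F := ∑ i, x (.inl i) ^ 2 - ∑ i, x (.inr i) ^ 2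

variable (m F) in
/-- Its isometry group. -/
abbrev O : Subgroup ((D m → F) ≃ₗ[F] (D m → F)) := isom F (fun (x _ : D m → F) => dQ x)

theorem O_ext {a b : O m F} (h : ∀ x, (a : (D m → F) ≃ₗ[F] (D m → F)) x = (b : (D m → F) ≃ₗ[F] _) x) :
    a = b :=
  Subtype.ext (LinearEquiv.ext h)

theorem O_mul_apply (a b : O m F) (x : D m → F) :
    (a * b : O m F).1 x = (a : (D m → F) ≃ₗ[F] (D m → F)) ((b : (D m → F) ≃ₗ[F] _) x) := rfl

/-- A diagonal sign change. -/
def dS (w : D m → F) (hw : ∀ i, w i * w i = 1) : O m F :=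
  ⟨{ toFun := fun x => w * x
     map_add' := fun x y => mul_add w x y
     map_smul' := fun c x => mul_smul_comm c w x
     invFun := fun x => w * x
     left_inv := fun x => funext fun i => by simp [← mul_assoc, hw]
     right_inv := fun x => funext fun i => by simp [← mul_assoc, hw] },
   fun x _ => by
    show dQ (w * x) = dQ x
    simp [dQ, pow_two, mul_mul_mul_comm (w _) (x _) (w _), hw]⟩

theorem dS_apply (w : D m → F) (hw : ∀ i, w i * w i = 1) (x : D m → F) :
    (dS w hw : (D m → F) ≃ₗ[F] (D m → F)) x = w * x := rfl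

/-- A permutation of the coordinates on each side. -/
def dP (a : Equiv.Perm (Fin (m + 1))) (b : Equiv.Perm (Fin m)) : O m F :=
  ⟨{ toFun := fun x => x ∘ (Equiv.sumCongr a b).symm
     map_add' := fun _ _ => rfl
     map_smul' := fun _ _ => rfl
     invFun := fun x => x ∘ Equiv.sumCongr a b
     left_inv := fun x => funext fun i => by simp
     right_inv := fun x => funext fun i => by simp },
   fun x _ => by
    show dQ (x ∘ (Equiv.sumCongr a b).symm) = dQ x
    simp only [dQ, Function.comp_apply, Equiv.sumCongr_symm, Equiv.sumCongr_apply, Sum.map_inl,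
      Sum.map_inr]
    rw [Equiv.sum_comp a.symm fun i => x (.inl i) ^ 2, Equiv.sum_comp b.symm fun i => x (.inr i) ^ 2]⟩

theorem dP_apply (a : Equiv.Perm (Fin (m + 1))) (b : Equiv.Perm (Fin m)) (x : D m → F) :
    ((dP a b : O m F) : (D m → F) ≃ₗ[F] (D m → F)) x = x ∘ (Equiv.sumCongr a b).symm := rfl

/-- The sign change at one coordinate. -/
def sgnAt (t : D m) : D m → F := fun s => if s = t then -1 else 1

theorem sgnAt_sq (t s : D m) : (sgnAt t : D m → F) s * sgnAt t s = 1 := by
  simp only [sgnAt]; split <;> simp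

theorem dS_pair_mem (σ : Equiv.Perm (Fin (m + 1))) (τ : Equiv.Perm (Fin m)) (t u : D m)
    (hu : Equiv.sumCongr σ τ t = u) (h : ∀ i, (sgnAt t * sgnAt u : D m → F) i *
      (sgnAt t * sgnAt u : D m → F) i = 1) :
    dS (sgnAt t * sgnAt u) h ∈ commutator (O m F) := by
  have h0 : dS (sgnAt t : D m → F) (sgnAt_sq t) * (dP σ τ : O m F) =
      dS (sgnAt t * sgnAt u) h * dP σ τ * dS (sgnAt t) (sgnAt_sq t) := by
    refine O_ext fun x => funext fun i => ?_
    simp only [O_mul_apply, dS_apply, dP_apply, Pi.mul_apply, Function.comp_apply]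
    have hi : (sgnAt t : D m → F) ((Equiv.sumCongr σ τ).symm i) = sgnAt u i := by
      simp only [sgnAt, ← hu, Equiv.symm_apply_eq]
    rw [hi, mul_assoc (sgnAt t i), ← mul_assoc (sgnAt u i), sgnAt_sq, one_mul]
  have h1 : dS (sgnAt t * sgnAt u) h =
      ⁅dS (sgnAt t : D m → F) (sgnAt_sq t), dP σ τ⁆ := by
    rw [commutatorElement_def, h0]
    group
  rw [h1]
  exact Subgroup.commutator_mem_commutator (Subgroup.mem_top _) (Subgroup.mem_top _)

theorem dS_inl_pair_mem {a b : Fin (m + 1)} (h : ∀ i, (sgnAt (.inl a) * sgnAt (.inl b) : D m → F) i *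
      (sgnAt (.inl a) * sgnAt (.inl b) : D m → F) i = 1) :
    dS (sgnAt (.inl a) * sgnAt (.inl b)) h ∈ commutator (O m F) :=
  dS_pair_mem (Equiv.swap a b) 1 _ _ (by simp) h

theorem dS_inr_pair_mem {a b : Fin m} (h : ∀ i, (sgnAt (.inr a) * sgnAt (.inr b) : D m → F) i *
      (sgnAt (.inr a) * sgnAt (.inr b) : D m → F) i = 1) :
    dS (sgnAt (.inr a) * sgnAt (.inr b)) h ∈ commutator (O m F) :=
  dS_pair_mem 1 (Equiv.swap a b) _ _ (by simp) h

theorem pair_sq (t u : D m) (i : D m) :
    (sgnAt t * sgnAt u : D m → F) i * (sgnAt t * sgnAt u : D m → F) i = 1 := by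
  simp only [Pi.mul_apply]
  rw [mul_mul_mul_comm, sgnAt_sq, sgnAt_sq, one_mul]

theorem exists_ne_ne {n : ℕ} (hn : 3 ≤ n) (a b : Fin n) : ∃ c, c ≠ a ∧ c ≠ b := by
  classical
  have : ({a, b} : Finset (Fin n)).card < (Finset.univ : Finset (Fin n)).card := by
    simpa using lt_of_le_of_lt Finset.card_le_two (by omega : 2 < n)
  obtain ⟨c, -, hc⟩ := Finset.exists_mem_notMem_of_card_lt_card this
  simp at hc
  exact ⟨c, hc.1, hc.2⟩

/-- An element commuting with the commutator subgroup is two-valued diagonal. -/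
theorem centralizing (hm : 3 ≤ m) (h2 : (2 : F) ≠ 0) (z : O m F)
    (hz : ∀ g ∈ commutator (O m F), g * z = z * g) :
    ∃ a b : F, ∀ x, (z : (D m → F) ≃ₗ[F] (D m → F)) x =
      Sum.elim (fun _ => a) (fun _ => b) * x := by
  classical
  have hne : (-1 : F) ≠ 1 := fun h => h2 (by linear_combination -h)
  let Z : D m → D m → F := fun s t => (z : (D m → F) ≃ₗ[F] (D m → F)) (Pi.single t 1) s
  have hoff : ∀ s t, s ≠ t → Z s t = 0 := by
    intro s t hst
    obtain ⟨u, hus, hut, hmem⟩ : ∃ u, u ≠ s ∧ u ≠ t ∧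
        dS (sgnAt t * sgnAt u : D m → F) (pair_sq t u) ∈ commutator (O m F) := by
      rcases t with t | t
      · rcases s with s | s
        · obtain ⟨c, h1, h2⟩ := exists_ne_ne (by omega : 3 ≤ m + 1) s t
          exact ⟨.inl c, by simpa using h1, by simpa using h2, dS_inl_pair_mem _⟩
        · obtain ⟨c, h1, h2⟩ := exists_ne_ne (by omega : 3 ≤ m + 1) t t
          exact ⟨.inl c, by simp, by simpa using h2, dS_inl_pair_mem _⟩
      · rcases s with s | s
        · obtain ⟨c, h1, h2⟩ := exists_ne_ne hm t t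
          exact ⟨.inr c, by simp, by simpa using h2, dS_inr_pair_mem _⟩
        · obtain ⟨c, h1, h2⟩ := exists_ne_ne hm s t
          exact ⟨.inr c, by simpa using h1, by simpa using h2, dS_inr_pair_mem _⟩
    have h := congrArg (fun g : O m F => (g : (D m → F) ≃ₗ[F] (D m → F)) (Pi.single t 1) s)
      (hz _ hmem)
    simp only [O_mul_apply, dS_apply] at h
    have e1 : (sgnAt t * sgnAt u : D m → F) * Pi.single t 1 = (-1 : F) • Pi.single t 1 := by
      funext i
      by_cases hi : i = t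
      · subst hi; simp [sgnAt, hut.symm]
      · simp [hi]
    rw [e1, map_smul, Pi.mul_apply, Pi.smul_apply, smul_eq_mul] at h
    have e2 : (sgnAt t * sgnAt u : D m → F) s = 1 := by simp [sgnAt, hst, hus.symm]
    rw [e2, one_mul] at h
    have : (2 : F) * Z s t = 0 := by linear_combination h
    simpa [h2] using this
  have hdiag : ∀ x, (z : (D m → F) ≃ₗ[F] (D m → F)) x = (fun t => Z t t) * x := by
    intro x
    funext s
    conv_lhs => rw [← Finset.univ_sum_single x]
    rw [map_sum, Finset.sum_apply, Finset.sum_eq_single s]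
    · have : (Pi.single s (x s) : D m → F) = x s • Pi.single s 1 := by
        rw [← Pi.single_smul, smul_eq_mul, mul_one]
      rw [this, map_smul, Pi.smul_apply, smul_eq_mul, Pi.mul_apply, mul_comm]
    · intro t _ hts
      have : (Pi.single t (x t) : D m → F) = x t • Pi.single t 1 := by
        rw [← Pi.single_smul, smul_eq_mul, mul_one]
      rw [this, map_smul, Pi.smul_apply]
      show x t • Z s t = 0
      rw [hoff s t hts.symm, smul_zero]
    · simp
  have hperm : ∀ (σ σ' : Equiv.Perm (Fin (m + 1))) (τ τ' : Equiv.Perm (Fin m)) (t : D m),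
      Z (Equiv.sumCongr ⁅σ, σ'⁆ ⁅τ, τ'⁆ t) (Equiv.sumCongr ⁅σ, σ'⁆ ⁅τ, τ'⁆ t) = Z t t := by
    intro σ σ' τ τ' t
    have hmem : (dP ⁅σ, σ'⁆ ⁅τ, τ'⁆ : O m F) ∈ commutator (O m F) := by
      have : (dP ⁅σ, σ'⁆ ⁅τ, τ'⁆ : O m F) = ⁅(dP σ τ : O m F), dP σ' τ'⁆ := by
        have hmul : ∀ a a' b b', (dP (a * a') (b * b') : O m F) = dP a b * dP a' b' := by
          intro a a' b b'
          refine O_ext fun x => funext fun i => ?_
          rcases i with i | i <;>
            simp [O_mul_apply, dP_apply, ← Equiv.Perm.inv_def]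
        have hinv : ∀ a b, (dP a⁻¹ b⁻¹ : O m F) = (dP a b)⁻¹ := by
          intro a b
          refine eq_inv_of_mul_eq_one_left ?_
          rw [← hmul, inv_mul_cancel, inv_mul_cancel]
          refine O_ext fun x => funext fun i => ?_
          rcases i with i | i <;> simp [dP_apply, Equiv.Perm.one_def]
        simp only [commutatorElement_def, hmul, hinv]
      rw [this]
      exact Subgroup.commutator_mem_commutator (Subgroup.mem_top _) (Subgroup.mem_top _)
    have h := congrArg (fun g : O m F => (g : (D m → F) ≃ₗ[F] (D m → F)) (fun _ => (1 : F))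
      (Equiv.sumCongr ⁅σ, σ'⁆ ⁅τ, τ'⁆ t)) (hz _ hmem)
    simp only [O_mul_apply, hdiag, dP_apply, Function.comp_apply, Pi.mul_apply, mul_one,
      Equiv.symm_apply_apply] at h
    exact h.symm
  refine ⟨Z (.inl 0) (.inl 0), Z (.inr ⟨0, by omega⟩) (.inr ⟨0, by omega⟩), fun x => ?_⟩
  rw [hdiag]
  congr 1
  have hcyc : ∀ {n : ℕ} (_ : 3 ≤ n) (a c : Fin n), a ≠ c →
      ∃ σ σ' : Equiv.Perm (Fin n), ⁅σ, σ'⁆ a = c := by
    intro n hn a c hac
    obtain ⟨b, hba, hbc⟩ := exists_ne_ne hn a c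
    refine ⟨Equiv.swap a b, Equiv.swap b c, ?_⟩
    rw [commutatorElement_def, Equiv.swap_inv, Equiv.swap_inv]
    simp only [Equiv.Perm.mul_apply]
    rw [Equiv.swap_apply_of_ne_of_ne hba.symm hac, Equiv.swap_apply_left, Equiv.swap_apply_left,
      Equiv.swap_apply_of_ne_of_ne hac.symm hbc.symm]
  funext t
  rcases t with t | t
  · show Z (.inl t) (.inl t) = Z (.inl 0) (.inl 0)
    by_cases ht : 0 = t
    · rw [← ht]
    obtain ⟨σ, σ', hσ⟩ := hcyc (by omega : 3 ≤ m + 1) 0 t ht
    have := hperm σ σ' 1 1 (.inl 0)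
    rw [Equiv.sumCongr_apply, Sum.map_inl, hσ] at this
    exact this
  · show Z (.inr t) (.inr t) = Z (.inr ⟨0, by omega⟩) (.inr ⟨0, by omega⟩)
    by_cases ht : (⟨0, by omega⟩ : Fin m) = t
    · rw [← ht]
    obtain ⟨σ, σ', hσ⟩ := hcyc hm ⟨0, by omega⟩ t ht
    have := hperm 1 1 σ σ' (.inr ⟨0, by omega⟩)
    rw [Equiv.sumCongr_apply, Sum.map_inr, hσ] at this
    exact this

/-- An isometry exchanging two positive and two negative coordinates. -/
theorem exists_mix (hm : 3 ≤ m) (r s : F) (hrs : r ^ 2 + s ^ 2 = -1) :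
    ∃ g : O m F, (∀ x, (g : (D m → F) ≃ₗ[F] (D m → F)) ((g : (D m → F) ≃ₗ[F] _) x) = x) ∧
      (∀ i, (g : (D m → F) ≃ₗ[F] (D m → F)) (Pi.single (.inl 0) 1) (.inl i) = 0) ∧
      (g : (D m → F) ≃ₗ[F] (D m → F)) (Pi.single (.inl ⟨2, by omega⟩) 1) =
        Pi.single (.inl ⟨2, by omega⟩) 1 := by
  classical
  let p0 : D m := .inl ⟨0, by omega⟩
  let p1 : D m := .inl ⟨1, by omega⟩
  let n0 : D m := .inr ⟨0, by omega⟩
  let n1 : D m := .inr ⟨1, by omega⟩
  let φ : (D m → F) →ₗ[F] (D m → F) :=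
    { toFun := fun x i =>
        if i = p0 then r * x n0 + s * x n1
        else if i = p1 then s * x n0 - r * x n1
        else if i = n0 then -(r * x p0 + s * x p1)
        else if i = n1 then -(s * x p0 - r * x p1)
        else x i
      map_add' := fun x y => by funext i; simp only [Pi.add_apply]; split_ifs <;> ring
      map_smul' := fun c x => by
        funext i; simp only [Pi.smul_apply, smul_eq_mul, RingHom.id_apply]; split_ifs <;> ring }
  have v0 : ∀ x, φ x p0 = r * x n0 + s * x n1 := fun x => by simp [φ]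
  have v1 : ∀ x, φ x p1 = s * x n0 - r * x n1 := fun x => by simp [φ, p0, p1]
  have v2 : ∀ x, φ x n0 = -(r * x p0 + s * x p1) := fun x => by simp [φ, p0, p1, n0]
  have v3 : ∀ x, φ x n1 = -(s * x p0 - r * x p1) := fun x => by simp [φ, p0, p1, n0, n1]
  have v4 : ∀ x i, i ≠ p0 → i ≠ p1 → i ≠ n0 → i ≠ n1 → φ x i = x i :=
    fun x i a b c d => by simp [φ, a, b, c, d]
  have hinv : ∀ x, φ (φ x) = x := by
    intro x
    funext i
    by_cases h0 : i = p0
    · subst h0; rw [v0, v2, v3]; linear_combination -x p0 * hrs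
    by_cases h1 : i = p1
    · subst h1; rw [v1, v2, v3]; linear_combination -x p1 * hrs
    by_cases h2 : i = n0
    · subst h2; rw [v2, v0, v1]; linear_combination -x n0 * hrs
    by_cases h3 : i = n1
    · subst h3; rw [v3, v0, v1]; linear_combination -x n1 * hrs
    rw [v4 _ i h0 h1 h2 h3, v4 x i h0 h1 h2 h3]
  let e : (D m → F) ≃ₗ[F] (D m → F) :=
    LinearEquiv.ofLinearMap φ φ (LinearMap.ext hinv) (LinearMap.ext hinv)
  have hq : ∀ x, dQ (φ x) = dQ x := by
    intro x
    have hl : ∀ y : D m → F, ∑ i, y (.inl i) ^ 2 = y p0 ^ 2 + y p1 ^ 2 +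
        ∑ i ∈ Finset.univ \ {⟨0, by omega⟩, ⟨1, by omega⟩}, y (.inl i) ^ 2 := fun y => by
      rw [← Finset.sum_sdiff (Finset.subset_univ {(⟨0, by omega⟩ : Fin (m + 1)), ⟨1, by omega⟩}),
        Finset.sum_pair (by simp)]
      ring
    have hr : ∀ y : D m → F, ∑ i, y (.inr i) ^ 2 = y n0 ^ 2 + y n1 ^ 2 +
        ∑ i ∈ Finset.univ \ {⟨0, by omega⟩, ⟨1, by omega⟩}, y (.inr i) ^ 2 := fun y => by
      rw [← Finset.sum_sdiff (Finset.subset_univ {(⟨0, by omega⟩ : Fin m), ⟨1, by omega⟩}),
        Finset.sum_pair (by simp)]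
      ring
    have sl : ∀ i ∈ Finset.univ \ {(⟨0, by omega⟩ : Fin (m + 1)), ⟨1, by omega⟩},
        φ x (.inl i) ^ 2 = x (.inl i) ^ 2 := fun i hi => by
      simp only [Finset.mem_sdiff, Finset.mem_univ, true_and, Finset.mem_insert, Finset.mem_singleton, not_or] at hi
      rw [v4 x (.inl i) (fun e => hi.1 (Sum.inl.inj e)) (fun e => hi.2 (Sum.inl.inj e)) Sum.inl_ne_inr Sum.inl_ne_inr]
    have sr : ∀ i ∈ Finset.univ \ {(⟨0, by omega⟩ : Fin m), ⟨1, by omega⟩},
        φ x (.inr i) ^ 2 = x (.inr i) ^ 2 := fun i hi => by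
      simp only [Finset.mem_sdiff, Finset.mem_univ, true_and, Finset.mem_insert, Finset.mem_singleton, not_or] at hi
      rw [v4 x (.inr i) Sum.inr_ne_inl Sum.inr_ne_inl (fun e => hi.1 (Sum.inr.inj e)) (fun e => hi.2 (Sum.inr.inj e))]
    unfold dQ
    rw [hl, hr, hl x, hr x, Finset.sum_congr rfl sl, Finset.sum_congr rfl sr, v0, v1, v2, v3]
    linear_combination (x n0 ^ 2 + x n1 ^ 2 - x p0 ^ 2 - x p1 ^ 2) * hrs
  refine ⟨⟨e, fun x _ => hq x⟩, hinv, fun i => ?_, ?_⟩
  · show φ _ (.inl i) = 0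
    have hz : ∀ j : Fin m, (Pi.single p0 1 : D m → F) (.inr j) = 0 := fun j => by simp [p0]
    show φ (Pi.single p0 1) _ = 0
    by_cases h0 : (Sum.inl i : D m) = p0
    · rw [h0, v0]; simp [p0, n0, n1]
    by_cases h1 : (Sum.inl i : D m) = p1
    · rw [h1, v1]; simp [p0, n0, n1]
    rw [v4 _ _ h0 h1 (by simp [n0]) (by simp [n1]), Pi.single_eq_of_ne h0]
  · show φ _ = _
    funext i
    by_cases h0 : i = p0
    · subst h0; rw [v0]; simp [p0, n0, n1, Fin.ext_iff]
    by_cases h1 : i = p1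
    · subst h1; rw [v1]; simp [p1, n0, n1, Fin.ext_iff]
    by_cases h2 : i = n0
    · subst h2; rw [v2]; simp [p0, p1, n0, Fin.ext_iff]
    by_cases h3 : i = n1
    · subst h3; rw [v3]; simp [p0, p1, n1, Fin.ext_iff]
    rw [v4 _ i h0 h1 h2 h3]

/-- An element commuting with the commutator subgroup is a sign. -/
theorem centralizing_eq_sign (hm : 3 ≤ m) (h2 : (2 : F) ≠ 0) (r s : F) (hrs : r ^ 2 + s ^ 2 = -1)
    (z : O m F) (hz : ∀ g ∈ commutator (O m F), g * z = z * g) :
    ∃ a : F, (a = 1 ∨ a = -1) ∧ ∀ x, (z : (D m → F) ≃ₗ[F] (D m → F)) x = a • x := by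
  obtain ⟨a, b, hab⟩ := centralizing hm h2 z hz
  obtain ⟨g, hg, hg0, hg2⟩ := exists_mix hm r s hrs
  have hgi : g⁻¹ = g := inv_eq_of_mul_eq_one_left (O_ext fun x => hg x)
  obtain ⟨a', b', hab'⟩ := centralizing hm h2 (g * z * g⁻¹) fun k hk => by
    have h := hz (g⁻¹ * k * g) (by
      have := (inferInstance : (commutator (O m F)).Normal).conj_mem k hk g⁻¹
      rwa [inv_inv] at this)
    calc k * (g * z * g⁻¹) = g * (g⁻¹ * k * g * z) * g⁻¹ := by group
      _ = g * (z * (g⁻¹ * k * g)) * g⁻¹ := by rw [h]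
      _ = g * z * g⁻¹ * k := by group
  have e0 := congrFun (hab' (Pi.single (.inl 0) 1)) (.inl 0)
  have e2 := congrFun (hab' (Pi.single (.inl ⟨2, by omega⟩) 1)) (.inl ⟨2, by omega⟩)
  rw [hgi] at e0 e2
  simp only [O_mul_apply, Pi.mul_apply, Sum.elim_inl, Pi.single_eq_same, mul_one] at e0 e2
  rw [hg2, hab] at e2
  have hsm : (Sum.elim (fun _ => a) (fun _ => b) : D m → F) *
      Pi.single (.inl (⟨2, by omega⟩ : Fin (m + 1))) 1 =
        a • Pi.single (.inl (⟨2, by omega⟩ : Fin (m + 1))) 1 := by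
    funext i
    by_cases hi : i = .inl (⟨2, by omega⟩ : Fin (m + 1))
    · subst hi; simp
    · simp [Pi.single_eq_of_ne hi]
  rw [hsm, map_smul, hg2] at e2
  simp only [Pi.smul_apply, Pi.single_eq_same, smul_eq_mul, mul_one] at e2
  have hsm' : (Sum.elim (fun _ => a) (fun _ => b) : D m → F) *
      (g : (D m → F) ≃ₗ[F] (D m → F)) (Pi.single (.inl 0) 1) =
        b • (g : (D m → F) ≃ₗ[F] (D m → F)) (Pi.single (.inl 0) 1) := by
    funext i
    rcases i with i | i
    · simp [hg0 i]
    · simp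
  rw [hab, hsm', map_smul, hg, Pi.smul_apply, Pi.single_eq_same, smul_eq_mul, mul_one] at e0
  have hba : b = a := by rw [e0, ← e2]
  have hzz : ∀ x, (z : (D m → F) ≃ₗ[F] (D m → F)) x = a • x := fun x => by
    rw [hab, hba]
    funext i
    rcases i with i | i <;> simp
  refine ⟨a, ?_, hzz⟩
  have hq := z.2 (Pi.single (.inl 0) 1) 0
  simp only at hq
  rw [hzz] at hq
  simp [dQ, Pi.single_apply] at hq
  exact hq

/-- The sign vector with `2k` negative entries. -/
def wk (k : ℕ) : D m → F :=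
  Sum.elim (fun i => if (i : ℕ) < 2 * ((k + 1) / 2) then -1 else 1)
    (fun i => if (i : ℕ) < 2 * (k / 2) then -1 else 1)

theorem wk_sq (k : ℕ) (i : D m) : (wk k : D m → F) i * wk k i = 1 := by
  rcases i with i | i <;> simp only [wk, Sum.elim_inl, Sum.elim_inr] <;> split <;> simp

theorem dS_wk_mem : ∀ k, k ≤ m → dS (wk k : D m → F) (wk_sq k) ∈ commutator (O m F) := by
  intro k
  induction k with
  | zero =>
    intro _
    have : dS (wk 0 : D m → F) (wk_sq 0) = 1 :=
      O_ext fun x => funext fun i => by rcases i with i | i <;> simp [dS_apply, wk]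
    rw [this]; exact one_mem _
  | succ k ih =>
    intro hk
    have hprev := ih (by omega)
    rcases Nat.even_or_odd' k with ⟨l, rfl | rfl⟩
    · have e : dS (wk (2 * l + 1) : D m → F) (wk_sq _) = dS (wk (2 * l)) (wk_sq _) *
          dS (sgnAt (.inl ⟨2 * l, by omega⟩) * sgnAt (.inl ⟨2 * l + 1, by omega⟩))
            (pair_sq _ _) := by
        refine O_ext fun x => funext fun i => ?_
        simp only [O_mul_apply, dS_apply, Pi.mul_apply, ← mul_assoc]
        congr 1
        rcases i with i | i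
        · simp only [wk, sgnAt, Sum.elim_inl, Sum.inl.injEq, Fin.ext_iff]
          split_ifs <;> first | (exfalso; omega) | ring
        · simp [wk, sgnAt, show (2 * l + 1) / 2 = 2 * l / 2 by omega]
      rw [e]; exact mul_mem hprev (dS_inl_pair_mem _)
    · have e : dS (wk (2 * l + 1 + 1) : D m → F) (wk_sq _) = dS (wk (2 * l + 1)) (wk_sq _) *
          dS (sgnAt (.inr ⟨2 * l, by omega⟩) * sgnAt (.inr ⟨2 * l + 1, by omega⟩))
            (pair_sq _ _) := by
        refine O_ext fun x => funext fun i => ?_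
        simp only [O_mul_apply, dS_apply, Pi.mul_apply, ← mul_assoc]
        congr 1
        rcases i with i | i
        · simp [wk, sgnAt, show (2 * l + 1 + 1 + 1) / 2 = (2 * l + 1 + 1) / 2 by omega]
        · simp only [wk, sgnAt, Sum.elim_inr, Sum.inr.injEq, Fin.ext_iff]
          split_ifs <;> first | (exfalso; omega) | ring
      rw [e]; exact mul_mem hprev (dS_inr_pair_mem _)

theorem card_fin_lt {n c : ℕ} (h : c ≤ n) : Nat.card {i : Fin n // (i : ℕ) < c} = c := by
  rw [Nat.card_congr (⟨fun i => ⟨i.1.1, i.2⟩, fun i => ⟨⟨i.1, by omega⟩, i.2⟩,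
    fun _ => rfl, fun _ => rfl⟩ : {i : Fin n // (i : ℕ) < c} ≃ Fin c), Nat.card_fin]

theorem card_wk (h2 : (2 : F) ≠ 0) {k : ℕ} (hk : k ≤ m) :
    Nat.card {i : D m // (wk k : D m → F) i = -1} = 2 * k ∧
      Nat.card {i : D m // (wk k : D m → F) i = 1} = 2 * m + 1 - 2 * k := by
  classical
  have hne : (-1 : F) ≠ 1 := fun h => h2 (by linear_combination -h)
  have h1 : Nat.card {i : D m // (wk k : D m → F) i = -1} = 2 * k := by
    rw [Nat.card_congr Equiv.subtypeSum, Nat.card_sum]
    rw [Nat.card_congr (Equiv.subtypeEquivRight (q := fun i : Fin (m + 1) =>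
        (i : ℕ) < 2 * ((k + 1) / 2)) fun i => by simp [wk, hne.symm]),
      Nat.card_congr (Equiv.subtypeEquivRight (q := fun i : Fin m =>
        (i : ℕ) < 2 * (k / 2)) fun i => by simp [wk, hne.symm]),
      card_fin_lt (by omega), card_fin_lt (by omega)]
    omega
  refine ⟨h1, ?_⟩
  have hc : {i : D m // ¬(wk k : D m → F) i = -1} ≃ {i : D m // (wk k : D m → F) i = 1} :=
    Equiv.subtypeEquivRight fun i => by
      rcases mul_self_eq_one_iff.1 (wk_sq (F := F) k i) with h | h <;> simp [h, hne, hne.symm]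
  rw [← Nat.card_congr hc]
  have hs := Nat.card_congr (Equiv.sumCompl fun i : D m => (wk k : D m → F) i = -1)
  rw [Nat.card_sum, h1, Nat.card_sum, Nat.card_fin, Nat.card_fin] at hs
  omega

theorem card_eigen [Finite F] (w : D m → F) (c : F) :
    Nat.card {x : D m → F // w * x = c • x} = Nat.card F ^ Nat.card {i // w i = c} := by
  classical
  rw [← Nat.card_fun]
  refine Nat.card_congr ⟨fun x i => x.1 i.1, fun y => ⟨fun i => if h : w i = c then y ⟨i, h⟩ else 0,
    funext fun i => ?_⟩, fun x => Subtype.ext (funext fun i => ?_), fun y => funext fun i => ?_⟩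
  · simp only [Pi.mul_apply, Pi.smul_apply, smul_eq_mul]
    split_ifs with h <;> simp [h]
  · simp only
    split_ifs with h
    · rfl
    · have := congrFun x.2 i
      simp only [Pi.mul_apply, Pi.smul_apply, smul_eq_mul, mul_eq_mul_right_iff, h, false_or] at this
      exact this.symm
  · simp [i.2]

/-- The sign changes are pairwise non-conjugate up to sign. -/
theorem wk_not_conj [Finite F] (h2 : (2 : F) ≠ 0) {k l : ℕ} (hk : k ≤ m) (hl : l ≤ m)
    (g : (D m → F) ≃ₗ[F] (D m → F)) {a : F} (ha : a = 1 ∨ a = -1)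
    (h : ∀ x, g (wk k * x) = a • (wk l * g x)) : a = 1 ∧ k = l := by
  have e : Nat.card {x : D m → F // wk k * x = (-1 : F) • x} =
      Nat.card {x : D m → F // wk l * x = (-a) • x} := by
    refine Nat.card_congr (g.toEquiv.subtypeEquiv fun x => ?_)
    show wk k * x = (-1 : F) • x ↔ wk l * g x = (-a) • g x
    rw [← g.injective.eq_iff, h, map_smul]
    have haa : a * a = 1 := mul_self_eq_one_iff.2 ha
    constructor <;> intro h'
    · have := congrArg (a • ·) h'
      simpa [smul_smul, haa] using this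
    · rw [h', smul_smul, mul_neg, haa]
  rw [card_eigen, card_eigen] at e
  have e' := Nat.pow_right_injective (Finite.one_lt_card (α := F)) e
  rcases ha with rfl | rfl
  · rw [(card_wk h2 hk).1, (card_wk h2 hl).1] at e'
    exact ⟨rfl, by omega⟩
  · rw [(card_wk h2 hk).1, neg_neg, (card_wk h2 hl).2] at e'
    omega

/-- The diagonalised coordinates. -/
noncomputable def coords (h2 : (2 : F) ≠ 0) :
    (Unit ⊕ (Fin m ⊕ Fin m) → F) ≃ₗ[F] (D m → F) where
  toFun v := Sum.elim (Fin.cons (v (.inl ())) fun i => (v (.inr (.inl i)) + v (.inr (.inr i))) / 2)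
    (fun i => (v (.inr (.inl i)) - v (.inr (.inr i))) / 2)
  map_add' v w := by
    funext t
    rcases t with t | t
    · refine Fin.cases ?_ (fun i => ?_) t <;> simp <;> ring
    · simp; ring
  map_smul' c v := by
    funext t
    rcases t with t | t
    · refine Fin.cases ?_ (fun i => ?_) t <;> simp <;> ring
    · simp; ring
  invFun x := Sum.elim (fun _ => x (.inl 0))
    (Sum.elim (fun i => x (.inl i.succ) + x (.inr i)) (fun i => x (.inl i.succ) - x (.inr i)))
  left_inv v := by
    funext t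
    rcases t with t | t | t
    · rfl
    · simp; field_simp; ring
    · simp; field_simp; ring
  right_inv x := by
    funext t
    rcases t with t | t
    · refine Fin.cases ?_ (fun i => ?_) t
      · simp
      · simp; field_simp; ring
    · simp; field_simp; ring

theorem dQ_coords (h2 : (2 : F) ≠ 0) (v : Unit ⊕ (Fin m ⊕ Fin m) → F) :
    dQ (coords h2 v) = Cfsg.quadFormOdd m F v := by
  simp only [dQ, coords, Cfsg.quadFormOdd, LinearEquiv.coe_mk, Sum.elim_inl, Sum.elim_inr,
    LinearMap.coe_mk, AddHom.coe_mk, Fin.sum_univ_succ, Fin.cons_zero, Fin.cons_succ]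
  rw [add_sub_assoc, ← Finset.sum_sub_distrib]
  congr 1
  refine Finset.sum_congr rfl fun i _ => ?_
  field_simp
  ring

/-- Matrix isometry groups as groups of linear automorphisms. -/
noncomputable def isometryEquiv {ι : Type} [Fintype ι] [DecidableEq ι] (Q : (ι → F) → F) :
    Cfsg.isometryGroup F Q ≃* isom F (fun (v _ : ι → F) => Q v) where
  toFun A := ⟨(Matrix.GeneralLinearGroup.toLin A.1).toLinearEquiv, A.2⟩
  invFun g := ⟨Matrix.GeneralLinearGroup.toLin.symm
      (LinearMap.GeneralLinearGroup.ofLinearEquiv g.1), fun u v => by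
    show Q (Matrix.mulVec _ u) = Q u
    have : (Matrix.GeneralLinearGroup.toLin.symm
        (LinearMap.GeneralLinearGroup.ofLinearEquiv g.1) : Matrix ι ι F) =
        LinearMap.toMatrix' (g.1 : (ι → F) →ₗ[F] (ι → F)) := rfl
    rw [Units.coeHom_apply, this, LinearMap.toMatrix'_mulVec]
    exact g.2 u v⟩
  left_inv A := Subtype.ext (Matrix.GeneralLinearGroup.toLin.symm_apply_apply A.1)
  right_inv g := Subtype.ext (LinearEquiv.ext fun x => by
    show ((Matrix.GeneralLinearGroup.toLin (Matrix.GeneralLinearGroup.toLin.symm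
      (LinearMap.GeneralLinearGroup.ofLinearEquiv g.1))).toLinearEquiv x) = _
    rw [MulEquiv.apply_symm_apply]
    rfl)
  map_mul' A B := Subtype.ext (LinearEquiv.ext fun x => by
    show (Matrix.GeneralLinearGroup.toLin (A.1 * B.1)).toLinearEquiv x = _
    rw [map_mul]
    rfl)

/-- `PΩ_{2m+1}` has `m` pairwise non-conjugate involutions. -/
theorem exists_involutions [Fintype F] (hm : 3 ≤ m) (h2 : (2 : F) ≠ 0) (r s : F)
    (hrs : r ^ 2 + s ^ 2 = -1) :
    ∃ u : Fin m → Cfsg.POmega F (Cfsg.quadFormOdd m F),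
      (∀ i, u i ≠ 1) ∧ (∀ i, u i * u i = 1) ∧ ∀ i j, IsConj (u i) (u j) → i = j := by
  classical
  let G := Cfsg.isometryGroup F (Cfsg.quadFormOdd m F)
  let ψ : G ≃* O m F := (isometryEquiv (Cfsg.quadFormOdd m F)).trans
    (isomCongr (coords h2) _ _ fun x _ => dQ_coords h2 x)
  have hmap : (commutator G).map ψ.toMonoidHom = commutator (O m F) := by
    rw [commutator_def, commutator_def, Subgroup.map_commutator,
      Subgroup.map_top_of_surjective ψ.toMonoidHom ψ.surjective]
  have hsymm : ∀ g ∈ commutator (O m F), ψ.symm g ∈ commutator G := fun g hg => by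
    rw [← hmap] at hg
    obtain ⟨y, hy, rfl⟩ := hg
    show ψ.symm (ψ y) ∈ _
    rwa [ψ.symm_apply_apply]
  let U : Fin m → Cfsg.Omega F (Cfsg.quadFormOdd m F) := fun i =>
    ⟨ψ.symm (dS (wk (i.1 + 1)) (wk_sq _)), hsymm _ (dS_wk_mem _ (by omega))⟩
  have hU : ∀ i, ψ (U i).1 = dS (wk (i.1 + 1)) (wk_sq _) := fun i => ψ.apply_symm_apply _
  have hcen : ∀ z : Cfsg.Omega F (Cfsg.quadFormOdd m F), z ∈ Subgroup.center _ →
      ∃ a : F, (a = 1 ∨ a = -1) ∧
        ∀ x, (ψ z.1 : (D m → F) ≃ₗ[F] (D m → F)) x = a • x := fun z hz =>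
    centralizing_eq_sign hm h2 r s hrs _ fun g hg => by
      have h : (⟨ψ.symm g, hsymm g hg⟩ : Cfsg.Omega F (Cfsg.quadFormOdd m F)) * z =
          z * ⟨ψ.symm g, hsymm g hg⟩ := Subgroup.mem_center_iff.1 hz _
      have h' := congrArg (fun t : Cfsg.Omega F (Cfsg.quadFormOdd m F) => ψ t.1) h
      simpa using h'
  refine ⟨fun i => QuotientGroup.mk (U i), fun i hi => ?_, fun i => ?_, fun i j hij => ?_⟩
  · obtain ⟨a, ha, hx⟩ := hcen _ ((QuotientGroup.eq_one_iff _).1 hi)
    rw [hU] at hx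
    have haa : a * a = 1 := mul_self_eq_one_iff.2 ha
    obtain ⟨-, hk⟩ := wk_not_conj h2 (by omega : i.1 + 1 ≤ m) (Nat.zero_le m)
      (LinearEquiv.refl F _) ha fun x => by
        rw [LinearEquiv.refl_apply, LinearEquiv.refl_apply, ← dS_apply _ (wk_sq _), hx]
        congr 1
        funext t
        rcases t with t | t <;> simp [wk]
    omega
  · rw [← QuotientGroup.mk_mul]
    have : U i * U i = 1 := Subtype.ext (ψ.injective (by
      rw [Subgroup.coe_mul, map_mul, hU, OneMemClass.coe_one, map_one]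
      exact O_ext fun x => funext fun t => by
        simp [O_mul_apply, dS_apply, ← mul_assoc, wk_sq]))
    rw [this]; rfl
  · obtain ⟨c, hc⟩ := isConj_iff.1 hij
    obtain ⟨c, rfl⟩ := QuotientGroup.mk_surjective c
    rw [← QuotientGroup.mk_inv, ← QuotientGroup.mk_mul, ← QuotientGroup.mk_mul,
      QuotientGroup.eq] at hc
    obtain ⟨a, ha, hx⟩ := hcen _ hc
    have hmul : ψ c.1 * ψ (U i).1 * (ψ ((c * U i * c⁻¹)⁻¹ * U j).1) = ψ (U j).1 * ψ c.1 := by
      simp only [← map_mul, Subgroup.coe_mul, InvMemClass.coe_inv]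
      congr 1
      have hz : (((c * U i * c⁻¹)⁻¹ * U j : Cfsg.Omega F (Cfsg.quadFormOdd m F))) * c =
          c * ((c * U i * c⁻¹)⁻¹ * U j) := (Subgroup.mem_center_iff.1 hc c).symm
      have : c * U i * ((c * U i * c⁻¹)⁻¹ * U j) = U j * c := by
        calc c * U i * ((c * U i * c⁻¹)⁻¹ * U j)
            = c * U i * c⁻¹ * (c * ((c * U i * c⁻¹)⁻¹ * U j)) := by group
          _ = c * U i * c⁻¹ * ((c * U i * c⁻¹)⁻¹ * U j * c) := by rw [hz]
          _ = U j * c := by group
      exact congrArg Subtype.val this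
    have haa : a * a = 1 := mul_self_eq_one_iff.2 ha
    obtain ⟨-, hk⟩ := wk_not_conj h2 (by omega : i.1 + 1 ≤ m) (by omega : j.1 + 1 ≤ m)
      (ψ c.1 : (D m → F) ≃ₗ[F] (D m → F)) ha fun x => by
        have h := congrArg (fun t : O m F => (t : (D m → F) ≃ₗ[F] (D m → F)) x) hmul
        simp only [O_mul_apply, hx, hU, dS_apply, map_smul, mul_smul_comm] at h
        rw [← h, smul_smul, haa, one_smul]
    exact Fin.ext (by omega)

end Cfsg.Agent.Classical.OrthInv
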