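import Cfsg.Agent.Lib.Classical.OrthGen

/-!
Elementary transformations of hyperbolic pairs, monomial maps moving them, and the two split forms.
-/

set_option autoImplicit false

open Matrix

namespace Cfsg.Agent.Classical.OrthGen

variable {F : Type*} [Field F] {ι : Type*} [Fintype ι] [DecidableEq ι] {m : ℕ}

/-- `ε` is the elementary transformation of `a`, `b`. -/
def IsOp (p : Fin m ⊕ Fin m → ι) (a b : Fin m ⊕ Fin m) (t : F) (ε : GL ι F) : Prop :=
  ∀ (v : ι → F) (k : ι), ((ε : Matrix ι ι F) *ᵥ v) k =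
    v k + (if k = p a then t * v (p b) else 0) - (if k = p b.swap then t * v (p a.swap) else 0)

/-- `ε` is the short transformation of `a` along the coordinate `z`. -/
def IsShort (p : Fin m ⊕ Fin m → ι) (z : ι) (a : Fin m ⊕ Fin m) (t : F) (ε : GL ι F) : Prop :=
  ∀ (v : ι → F) (k : ι), ((ε : Matrix ι ι F) *ᵥ v) k =
    v k + (if k = z then t * v (p a.swap) else 0) +
      (if k = p a then -2 * t * v z - t ^ 2 * v (p a.swap) else 0)

/-- The matrix of the elementary transformation. -/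
def opM (p : Fin m ⊕ Fin m → ι) (a b : Fin m ⊕ Fin m) (t : F) : Matrix ι ι F :=
  1 + Matrix.of fun i j =>
    (if i = p a ∧ j = p b then t else 0) - (if i = p b.swap ∧ j = p a.swap then t else 0)

/-- The matrix of the short transformation. -/
def shortM (p : Fin m ⊕ Fin m → ι) (z : ι) (a : Fin m ⊕ Fin m) (t : F) : Matrix ι ι F :=
  1 + Matrix.of fun i j =>
    (if i = z ∧ j = p a.swap then t else 0) + (if i = p a ∧ j = z then -2 * t else 0) +
      (if i = p a ∧ j = p a.swap then -t ^ 2 else 0)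

theorem isOp_of_matrix {p : Fin m ⊕ Fin m → ι} {a b : Fin m ⊕ Fin m} {t : F} {ε : GL ι F}
    (h : (ε : Matrix ι ι F) = opM p a b t) : IsOp p a b t ε := by
  intro v k
  rw [h, opM, Matrix.add_mulVec, Matrix.one_mulVec, Pi.add_apply, Matrix.mulVec, dotProduct]
  simp only [Matrix.of_apply, sub_mul, Finset.sum_sub_distrib, ite_mul, zero_mul]
  rw [add_sub_assoc]
  congr 2 <;> by_cases hk : k = p a <;> by_cases hk' : k = p b.swap <;> simp [hk, hk', ite_and]

theorem isShort_of_matrix {p : Fin m ⊕ Fin m → ι} {z : ι} {a : Fin m ⊕ Fin m} {t : F} {ε : GL ι F}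
    (h : (ε : Matrix ι ι F) = shortM p z a t) : IsShort p z a t ε := by
  intro v k
  rw [h, shortM, Matrix.add_mulVec, Matrix.one_mulVec, Pi.add_apply, Matrix.mulVec, dotProduct]
  simp only [Matrix.of_apply, add_mul, Finset.sum_add_distrib, ite_mul, zero_mul]
  rw [add_assoc (v k)]
  congr 1
  simp only [ite_and, Finset.sum_ite_irrel, Finset.sum_const_zero, Finset.sum_ite_eq', Finset.mem_univ, if_true]
  split_ifs <;> ring

theorem eq_of_mulVec {g h : GL ι F} (e : ∀ v, (g : Matrix ι ι F) *ᵥ v = (h : Matrix ι ι F) *ᵥ v) : g = h :=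
  Units.ext (Matrix.ext_iff_mulVec.mpr e)

/-- A map multiplying the coordinate of `π k` into that of `k`. -/
def IsMono (p : Fin m ⊕ Fin m → ι) (π : Fin m ⊕ Fin m → Fin m ⊕ Fin m) (d : Fin m ⊕ Fin m → F) (η : F)
    (s : GL ι F) : Prop :=
  (∀ (v : ι → F) (k : Fin m ⊕ Fin m), ((s : Matrix ι ι F) *ᵥ v) (p k) = d k * v (p (π k))) ∧
    ∀ (v : ι → F) (k : ι), (∀ a, k ≠ p a) → ((s : Matrix ι ι F) *ᵥ v) k = η * v k

/-- The data of a monomial map fit together. -/
structure MonoData (π : Fin m ⊕ Fin m → Fin m ⊕ Fin m) (d : Fin m ⊕ Fin m → F) : Prop where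
  invol : ∀ k, π (π k) = k
  swap : ∀ k, π k.swap = (π k).swap
  mul_swap : ∀ k, d k * d k.swap = 1

theorem MonoData.ne {π : Fin m ⊕ Fin m → Fin m ⊕ Fin m} {d : Fin m ⊕ Fin m → F} (M : MonoData π d)
    (k : Fin m ⊕ Fin m) : d k ≠ 0 := left_ne_zero_of_mul_eq_one (M.mul_swap k)

theorem IsMono.conj_op {p : Fin m ⊕ Fin m → ι} (hp : Function.Injective p) {π : Fin m ⊕ Fin m → Fin m ⊕ Fin m}
    {d : Fin m ⊕ Fin m → F} {η : F} {s : GL ι F} (hs : IsMono p π d η s) (M : MonoData π d)
    {a b : Fin m ⊕ Fin m} {t : F} {ε ε' : GL ι F} (he : IsOp p a b t ε)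
    (he' : IsOp p (π a) (π b) (t * d (π a) / d (π b)) ε') : s * ε * s⁻¹ = ε' := by
  rw [mul_inv_eq_iff_eq_mul]
  refine eq_of_mulVec fun v => funext fun k => ?_
  rw [mulVec_mul, mulVec_mul, he']
  have hval : ∀ c, ((s : Matrix ι ι F) *ᵥ v) (p c) = d c * v (p (π c)) := hs.1 v
  by_cases hk : ∃ c, k = p c
  · obtain ⟨c, rfl⟩ := hk
    rw [hs.1, he, hval, hval, hval, M.invol, ← M.swap b, ← M.swap a, M.invol]
    have e1 : π c = a ↔ c = π a := ⟨fun e => by rw [← e, M.invol], fun e => by rw [e, M.invol]⟩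
    have e2 : π c = b.swap ↔ c = π b.swap := ⟨fun e => by rw [← e, M.invol], fun e => by rw [e, M.invol]⟩
    simp only [hp.eq_iff, e1, e2]
    have hb := M.ne (π b)
    have ha : d (π a) * d (π a.swap) = 1 := by rw [M.swap a]; exact M.mul_swap _
    have hbb : d (π b) * d (π b.swap) = 1 := by rw [M.swap b]; exact M.mul_swap _
    have t1 : d c * (if c = π a then t * v (p b) else 0) =
        if c = π a then t * d (π a) / d (π b) * (d (π b) * v (p b)) else 0 := by
      split_ifs with h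
      · subst h; field_simp
      · ring
    have t2 : d c * (if c = π b.swap then t * v (p a.swap) else 0) =
        if c = π b.swap then t * d (π a) / d (π b) * (d (π a.swap) * v (p a.swap)) else 0 := by
      split_ifs with h
      · subst h; field_simp
        linear_combination (t * v (p a.swap)) * hbb - (t * v (p a.swap)) * ha
      · ring
    linear_combination t1 - t2
  · push Not at hk
    rw [hs.2 _ _ hk, he, if_neg (hk a), if_neg (hk b.swap), if_neg (hk (π a)), if_neg (hk (π b).swap), hs.2 _ _ hk]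
    ring

theorem IsMono.conj_short {p : Fin m ⊕ Fin m → ι} (hp : Function.Injective p) {z : ι} (hz : ∀ a, z ≠ p a)
    {π : Fin m ⊕ Fin m → Fin m ⊕ Fin m} {d : Fin m ⊕ Fin m → F} {η : F} {s : GL ι F} (hs : IsMono p π d η s)
    (M : MonoData π d) (hη : η * η = 1)
    {a : Fin m ⊕ Fin m} {t : F} {ε ε' : GL ι F} (he : IsShort p z a t ε)
    (he' : IsShort p z (π a) (η * t * d (π a)) ε') : s * ε * s⁻¹ = ε' := by
  rw [mul_inv_eq_iff_eq_mul]
  refine eq_of_mulVec fun v => funext fun k => ?_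
  rw [mulVec_mul, mulVec_mul, he']
  have hval : ∀ c, ((s : Matrix ι ι F) *ᵥ v) (p c) = d c * v (p (π c)) := hs.1 v
  have ha : d (π a) * d (π a.swap) = 1 := by rw [M.swap a]; exact M.mul_swap _
  rw [← M.swap a, hs.2 v z hz, hval, M.invol]
  by_cases hk : ∃ c, k = p c
  · obtain ⟨c, rfl⟩ := hk
    rw [hs.1, he, hval]
    have e1 : π c = a ↔ c = π a := ⟨fun e => by rw [← e, M.invol], fun e => by rw [e, M.invol]⟩
    simp only [if_neg (hz _).symm, add_zero, hp.eq_iff, e1]
    by_cases c1 : c = π a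
    · subst c1
      simp only [if_true, M.invol]
      linear_combination (2 * t * v z * d (π a)) * hη +
        (t ^ 2 * d (π a) * v (p a.swap) * η ^ 2) * ha + (t ^ 2 * d (π a) * v (p a.swap)) * hη
    · simp [if_neg c1]
  · push Not at hk
    rw [hs.2 _ _ hk, he, hs.2 _ _ hk, if_neg (hk a), if_neg (hk (π a))]
    by_cases c1 : k = z
    · subst c1
      simp only [if_true]
      linear_combination (-(η * t * v (p a.swap))) * ha
    · simp [if_neg c1]

/-- The product giving a diagonal transformation. -/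
theorem diag_pair {p : Fin m ⊕ Fin m → ι} (hp : Function.Injective p) {E : Subgroup (GL ι F)}
    (ops : ∀ (a b : Fin m ⊕ Fin m) (t : F), b ≠ a → b ≠ a.swap → ∃ ε ∈ E, IsOp p a b t ε)
    {a b : Fin m ⊕ Fin m} (h1 : b ≠ a) (h2 : b ≠ a.swap) {c : F} (hc : c ≠ 0) :
    ∃ ε ∈ E, ∀ (v : ι → F) (k : ι), ((ε : Matrix ι ι F) *ᵥ v) k =
      (if k = p a then c else if k = p b then c⁻¹ else if k = p a.swap then c⁻¹ else if k = p b.swap then c else 1) *
        v k := by
  have hab : p a ≠ p b := fun e => h1 (hp e).symm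
  have hab' : p a ≠ p b.swap := fun e => h2 (by rw [hp e, Sum.swap_swap])
  have hba' : p b ≠ p a.swap := fun e => h2 (hp e)
  have haa : p a ≠ p a.swap := fun e => swap_ne a (hp e).symm
  have hbb : p b ≠ p b.swap := fun e => swap_ne b (hp e).symm
  have hab2 : p a.swap ≠ p b.swap := fun e => h1 (by
    have := congrArg Sum.swap (hp e); rwa [Sum.swap_swap, Sum.swap_swap, eq_comm] at this)
  have W : ∀ x : F, x ≠ 0 → ∃ ε ∈ E, ∀ (v : ι → F) (k : ι), ((ε : Matrix ι ι F) *ᵥ v) k =
      if k = p a then x * v (p b) else if k = p b then -x⁻¹ * v (p a)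
      else if k = p a.swap then x⁻¹ * v (p b.swap) else if k = p b.swap then -x * v (p a.swap) else v k := by
    intro x hx
    obtain ⟨e1, he1, o1⟩ := ops a b x h1 h2
    obtain ⟨e2, he2, o2⟩ := ops b a (-x⁻¹) h1.symm (fun e => h2 (by rw [e, Sum.swap_swap]))
    refine ⟨e1 * e2 * e1, mul_mem (mul_mem he1 he2) he1, fun v k => ?_⟩
    rw [mulVec_mul, mulVec_mul, o1, o2, o2, o2, o1, o1, o1, o1, o1]
    simp only [Sum.swap_swap, hab, hab.symm, hab', hab'.symm, hba', hba'.symm, haa, haa.symm, hbb, hbb.symm, hab2,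
      hab2.symm, if_false, if_true]
    by_cases k1 : k = p a
    · subst k1; simp [hab, hab', haa, haa.symm]; field_simp; ring
    by_cases k2 : k = p b
    · subst k2; simp [hab, hab.symm, hbb, hba']; field_simp; ring
    by_cases k3 : k = p a.swap
    · subst k3; simp [haa, haa.symm, hba', hba'.symm, hab2]; field_simp; ring
    by_cases k4 : k = p b.swap
    · subst k4; simp [hab', hab'.symm, hbb, hbb.symm, hab2, hab2.symm]; field_simp; ring
    simp [k1, k2, k3, k4]
  obtain ⟨w1, hw1, o1⟩ := W c hc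
  obtain ⟨w2, hw2, o2⟩ := W (-1) (neg_ne_zero.mpr one_ne_zero)
  refine ⟨w1 * w2, mul_mem hw1 hw2, fun v k => ?_⟩
  rw [mulVec_mul, o1, o2, o2, o2, o2, o2]
  simp only [hab, hab.symm, hab', hab'.symm, hba', hba'.symm, haa, haa.symm, hbb, hbb.symm, hab2, hab2.symm,
    if_false, if_true, inv_neg, inv_one]
  split_ifs with k1 k2 k3 k4
  · subst k1; ring
  · subst k2; ring
  · subst k3; ring
  · subst k4; ring
  · rw [one_mul]

theorem iso_op {p : Fin m ⊕ Fin m → ι} (hp : Function.Injective p) {Q : (ι → F) → F}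
    (hQ : ∀ (v : ι → F) (k : Fin m ⊕ Fin m) (c : F), Q (v + c • ev F (p k)) = Q v + c * v (p k.swap))
    {a b : Fin m ⊕ Fin m} {t : F} {ε : GL ι F} (he : IsOp p a b t ε) (h1 : b ≠ a) (v : ι → F) :
    Q ((ε : Matrix ι ι F) *ᵥ v) = Q v := by
  have e : (ε : Matrix ι ι F) *ᵥ v =
      v + (t * v (p b)) • ev F (p a) + (-(t * v (p a.swap))) • ev F (p b.swap) := by
    funext k
    rw [he]
    simp only [Pi.add_apply, Pi.smul_apply, smul_eq_mul, ev, Pi.single_apply]
    split_ifs <;> ring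
  rw [e, hQ, hQ]
  simp only [Pi.add_apply, Pi.smul_apply, smul_eq_mul, Sum.swap_swap]
  rw [ev_ne (fun e => h1 (hp e))]
  ring

/-- The conjugates of a generating set give the normaliser. -/
theorem mem_normalizer_of_conj {G : Type*} [Group G] {s : Set G} {E : Subgroup G} (hE : E = Subgroup.closure s)
    {g : G} (h1 : ∀ x ∈ s, g * x * g⁻¹ ∈ E) (h2 : ∀ x ∈ s, g⁻¹ * x * g ∈ E) :
    g ∈ Subgroup.normalizer (E : Set G) := by
  subst hE
  have key : ∀ a : G, (∀ x ∈ s, a * x * a⁻¹ ∈ Subgroup.closure s) →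
      ∀ x ∈ Subgroup.closure s, a * x * a⁻¹ ∈ Subgroup.closure s := by
    intro a ha x hx
    induction hx using Subgroup.closure_induction with
    | mem y hy => exact ha y hy
    | one => simp
    | mul q r _ _ hq hr => rw [show a * (q * r) * a⁻¹ = a * q * a⁻¹ * (a * r * a⁻¹) by simp [mul_assoc]]; exact mul_mem hq hr
    | inv q _ hq => rw [show a * q⁻¹ * a⁻¹ = (a * q * a⁻¹)⁻¹ by simp [mul_assoc]]; exact inv_mem hq
  rw [Subgroup.mem_normalizer_iff]
  refine fun x => ⟨key g h1 x, fun hx => ?_⟩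
  have := key g⁻¹ (fun y hy => by rw [inv_inv]; exact h2 y hy) _ hx
  simpa [mul_assoc] using this

/-- A monomial matrix as an invertible matrix. -/
theorem exists_mono {p : Fin m ⊕ Fin m → ι} (hp : Function.Injective p) {π : Fin m ⊕ Fin m → Fin m ⊕ Fin m}
    {d : Fin m ⊕ Fin m → F} (M : MonoData π d) {η : F} (hη : η * η = 1) : ∃ s : GL ι F, IsMono p π d η s := by
  classical
  let L : (d' : Fin m ⊕ Fin m → F) → Matrix ι ι F := fun d' => Matrix.of fun i j =>
    (∑ c, if i = p c then (if j = p (π c) then d' c else 0) else 0) + if ∀ a, i ≠ p a then (if j = i then η else 0) else 0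
  have happ : ∀ d' v i, (L d' *ᵥ v) i =
      (∑ c, if i = p c then d' c * v (p (π c)) else 0) + if ∀ a, i ≠ p a then η * v i else 0 := by
    intro d' v i
    simp only [L, Matrix.mulVec, dotProduct, Matrix.of_apply, add_mul, Finset.sum_mul, ite_mul, zero_mul,
      Finset.sum_add_distrib]
    rw [Finset.sum_comm]
    simp only [Finset.sum_ite_irrel, Finset.sum_const_zero, Finset.sum_ite_eq', Finset.mem_univ, if_true]
  have hL : ∀ d' v, (∀ c, (L d' *ᵥ v) (p c) = d' c * v (p (π c))) ∧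
      ∀ k, (∀ a, k ≠ p a) → (L d' *ᵥ v) k = η * v k := by
    refine fun d' v => ⟨fun c => ?_, fun k hk => ?_⟩
    · rw [happ, if_neg (fun h => h c rfl), add_zero]
      simp only [hp.eq_iff, Finset.sum_ite_eq, Finset.mem_univ, if_true]
    · rw [happ, if_pos hk, Finset.sum_eq_zero (fun c _ => if_neg (hk c)), zero_add]
  have hmul : ∀ d₁ d₂ : Fin m ⊕ Fin m → F, (∀ c, d₁ c * d₂ (π c) = 1) → L d₁ * L d₂ = 1 := by
    intro d₁ d₂ h
    refine Matrix.ext_iff_mulVec.mpr fun v => funext fun k => ?_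
    rw [← Matrix.mulVec_mulVec, Matrix.one_mulVec]
    by_cases hk : ∃ c, k = p c
    · obtain ⟨c, rfl⟩ := hk
      rw [(hL d₁ _).1, (hL d₂ v).1, M.invol, ← mul_assoc, h, one_mul]
    · push Not at hk
      rw [(hL d₁ _).2 k hk, (hL d₂ v).2 k hk, ← mul_assoc, hη, one_mul]
  exact ⟨⟨L d, L fun c => (d (π c))⁻¹,
    hmul _ _ fun c => by rw [M.invol, mul_inv_cancel₀ (M.ne c)],
    hmul _ _ fun c => inv_mul_cancel₀ (M.ne (π c))⟩, fun v c => (hL d v).1 c, fun v k hk => (hL d v).2 k hk⟩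

end Cfsg.Agent.Classical.OrthGen
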