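import Cfsg.Agent.Lib.Classical.MaxOrthSubspace

/-!
Simplicity of projective orthogonal commutator groups.
-/

set_option autoImplicit false
set_option linter.unusedSectionVars false

open Module Matrix QuadraticMap

namespace Cfsg.Agent.Classical.Siegel

open Refl MaxLin
open scoped commutatorElement

variable {F : Type*} [Field F] [Fintype F] {ι : Type} [Fintype ι] [DecidableEq ι] (Q : QuadraticForm F (ι → F))
variable (hQ : (polarBilin Q).Nondegenerate) (hn : 8 ≤ Fintype.card ι)

local notation "V" => ι → F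

theorem sO_add {a b b' : V} (ha : Q a = 0) (hb : polar Q a b = 0) (hb' : polar Q a b' = 0)
    (h : polar Q a (b + b') = 0) : sO Q a (b + b') ha h = sO Q a b ha hb * sO Q a b' ha hb' := O_ext Q fun x => by
  rw [act_mul, act_sO, act_sO, act_sO, Q_add]
  simp only [polar_add_left, polar_sub_left, polar_smul_left, polar_add_right, smul_eq_mul,
    show polar Q a a = 0 by rw [polar_diag, ha, mul_zero], polar_comm (⇑Q) b' a, hb, hb', polar_comm (⇑Q) b' b]
  module

theorem sO_conj {g : O Q} {a b : V} (ha : Q a = 0) (hab : polar Q a b = 0) (h1 : Q (act Q g a) = 0)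
    (h2 : polar Q (act Q g a) (act Q g b) = 0) : g * sO Q a b ha hab * g⁻¹ = sO Q _ _ h1 h2 := O_ext Q fun x => by
  obtain ⟨y, rfl⟩ : ∃ y, x = act Q g y := ⟨_, (act_inv Q g x).symm⟩
  rw [act_mul, act_mul, act_inv', act_sO, act_sO, act_sub, act_add, act_smul, act_smul, polar_act, polar_act,
    Q_act]

include hQ hn

theorem sO_mem' (a b : V) (ha : Q a = 0) (hab : polar Q a b = 0) : sO Q a b ha hab ∈ commutator (O Q) :=
  sO_mem_commutator Q hQ (by omega) a b ha hab

theorem commutator_eq : commutator (O Q) = E Q := by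
  refine le_antisymm (commutator_le Q hQ (by omega)) ?_
  rw [E, Subgroup.closure_le]
  rintro _ ⟨a, b, ha, hab, rfl⟩
  exact sO_mem' Q hQ hn a b ha hab

theorem sO_mem_derived (a b : V) (ha : Q a = 0) (hab : polar Q a b = 0) :
    sO Q a b ha hab ∈ ⁅commutator (O Q), commutator (O Q)⁆ := by
  rcases eq_or_ne a 0 with rfl | ha0
  · rw [show sO Q 0 b ha hab = 1 from O_ext Q fun x => by
      rw [act_sO, polar_zero_right, zero_smul, smul_zero, add_zero, sub_zero]; exact (Matrix.one_mulVec x).symm]
    exact one_mem _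
  have haa : polar Q a a = 0 := by rw [polar_diag, ha, mul_zero]
  have hsing : ∀ d (hd : Q d = 0) (had : polar Q a d = 0),
      sO Q a d ha had ∈ ⁅commutator (O Q), commutator (O Q)⁆ := by
    intro d hd had
    obtain ⟨b, hbW, hb⟩ := exists_aniso_perp Q hQ ![a, d] (by omega)
    obtain ⟨e, heW, hbe⟩ : ∃ e, (polar Q e a = 0 ∧ polar Q e d = 0) ∧ polar Q b e ≠ 0 := by
      obtain ⟨s, hs0, hs, hL⟩ := exists_zero_lin Q ![(polarBilin Q).flip a, (polarBilin Q).flip d,
        (polarBilin Q).flip b] (by omega)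
      by_cases h2 : polar Q b b = 0
      · -- `b` is anisotropic but self-orthogonal
        by_contra hc
        push Not at hc
        have hmem : (polarBilin Q).flip b ∈ Submodule.span F (Set.range ![(polarBilin Q).flip a, (polarBilin Q).flip d]) := by
          refine mem_span_of_iInf_ker_le_ker fun x hx => ?_
          simp only [Submodule.mem_iInf, LinearMap.mem_ker] at hx
          rw [LinearMap.mem_ker]
          show polar Q x b = 0
          rw [polar_comm]
          exact hc x ⟨hx 0, hx 1⟩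
        obtain ⟨r, hr⟩ := (Submodule.mem_span_range_iff_exists_fun F).1 hmem
        rw [Fin.sum_univ_two] at hr
        have hb' : b = r 0 • a + r 1 • d := sub_eq_zero.1 (eq_zero_of Q hQ _ fun x => by
          have := LinearMap.congr_fun hr x
          rw [polar_sub_right, polar_add_right, polar_smul_right, polar_smul_right, sub_eq_zero]
          exact this.symm)
        exact hb (by rw [hb', Q_add, Q_smul, Q_smul, ha, hd, polar_smul_left, polar_smul_right, had]; simp)
      · exact ⟨b, ⟨hbW 0, hbW 1⟩, h2⟩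
    set t := -(polar Q b e)⁻¹
    have hdte : polar Q d (t • e) = 0 := by rw [polar_smul_right, polar_comm, heW.2, smul_zero]
    have hab' : polar Q a b = 0 := by rw [polar_comm]; exact hbW 0
    set g := sO Q d (t • e) hd hdte
    have hga : act Q g a = a := by
      rw [act_sO, had, polar_smul_right, polar_comm (⇑Q) a e, heW.1]; simp
    have hgb : act Q g b = b + d := by
      rw [act_sO, show polar Q b d = 0 from hbW 1, polar_smul_right, smul_eq_mul,
        show t * polar Q b e = -1 by rw [neg_mul, inv_mul_cancel₀ hbe]]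
      simp
    have h2 : polar Q (act Q g a) (act Q g b) = 0 := by rw [polar_act]; exact hab'
    have hbd : polar Q a (b + d) = 0 := by rw [polar_add_right, hab', had, add_zero]
    have hconj : g * sO Q a b ha hab' * g⁻¹ = sO Q a (b + d) ha hbd := by
      rw [sO_conj Q ha hab' (by rw [Q_act, ha]) h2]
      congr 1
    have hdb : polar Q a (d + b) = 0 := by rw [add_comm]; exact hbd
    have he : sO Q a d ha had = ⁅g, sO Q a b ha hab'⁆ := by
      rw [commutatorElement_def, hconj, eq_mul_inv_iff_mul_eq, ← sO_add Q ha had hab' hdb]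
      congr 1
      exact add_comm d b
    rw [he]
    exact Subgroup.commutator_mem_commutator (sO_mem' Q hQ hn _ _ _ _) (sO_mem' Q hQ hn _ _ _ _)
  obtain ⟨c, hc, hca⟩ := exists_partner Q hQ ha0 ha
  obtain ⟨s, hs0, hs, hL⟩ := exists_zero_lin Q ![(polarBilin Q).flip a, (polarBilin Q).flip c] (by omega)
  have hsa : polar Q s a = 0 := hL 0
  have hsc : polar Q s c = 0 := hL 1
  obtain ⟨s₀, hs₀, hs₀s⟩ := exists_partner Q hQ hs0 hs
  set s' := s₀ + (-polar Q s₀ c) • a + (-polar Q s₀ a) • c with hs'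
  have hcc : polar Q c c = 0 := by rw [polar_diag, hc, mul_zero]
  have hac : polar Q a c = 1 := by rw [polar_comm]; exact hca
  have h's : polar Q s' s = 1 := by
    simp [hs', polar_add_left, polar_smul_left, hs₀s, polar_comm (⇑Q) a s, polar_comm (⇑Q) c s, hsa, hsc]
  have h'a : polar Q s' a = 0 := by
    simp [hs', polar_add_left, polar_smul_left, haa, hca]
  set u := s' + (-Q s') • s with hu
  have huQ : Q u = 0 := by rw [hu, Q_add, Q_smul, hs, polar_smul_right, smul_eq_mul, h's]; ring
  have hua : polar Q u a = 0 := by rw [hu, polar_add_left, polar_smul_left, h'a, hsa]; simp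
  have hus : polar Q u s = 1 := by rw [hu, polar_add_left, polar_smul_left, polar_diag, hs, h's]; simp
  have good : ∀ x (hx : polar Q a x = 0), polar Q x u ≠ 0 →
      sO Q a x ha hx ∈ ⁅commutator (O Q), commutator (O Q)⁆ := by
    intro x hx hxu
    set r := -Q x / polar Q x u
    have h1 : Q (x + r • u) = 0 := by
      rw [Q_add, Q_smul, huQ, polar_smul_right, smul_eq_mul]
      show Q x + _ * 0 + (-Q x / polar Q x u) * polar Q x u = 0
      field_simp; ring
    have hru : polar Q a ((-r) • u) = 0 := by rw [polar_smul_right, polar_comm, hua, smul_zero]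
    have hx' : polar Q a (x + r • u) = 0 := by
      rw [polar_add_right, hx, polar_smul_right, polar_comm, hua, smul_zero, add_zero]
    have hsum : polar Q a (x + r • u + (-r) • u) = 0 := by rw [polar_add_right, hx', hru, add_zero]
    have he := sO_add Q ha hx' hru hsum
    simp only [neg_smul, add_neg_cancel_right] at he
    rw [he]
    refine mul_mem (hsing _ h1 _) (hsing _ ?_ _)
    rw [QuadraticMap.map_neg, Q_smul, huQ, mul_zero]
  by_cases hbu : polar Q b u = 0
  · have h1 : polar Q a (b + s) = 0 := by rw [polar_add_right, hab, polar_comm, hsa, add_zero]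
    have h2 : polar Q a (-s) = 0 := by rw [polar_neg_right, polar_comm, hsa, neg_zero]
    have hsum : polar Q a (b + s + -s) = 0 := by rw [polar_add_right, h1, h2, add_zero]
    have he := sO_add Q ha h1 h2 hsum
    simp only [add_neg_cancel_right] at he
    rw [he]
    refine mul_mem (good _ h1 ?_) (hsing _ (by rw [QuadraticMap.map_neg, hs]) _)
    rw [polar_add_left, hbu, polar_comm (⇑Q) s u, hus, zero_add]; exact one_ne_zero
  · exact good b hab hbu

theorem commute_of_scalar {z : O Q} {l : F} (hz : ∀ x, act Q z x = l • x) (g : O Q) : g * z = z * g :=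
  O_ext Q fun x => by rw [act_mul, act_mul, hz, hz, act_smul]

theorem scalar_of_fix {z : O Q} (hz : ∀ a, a ≠ 0 → Q a = 0 → ∃ l : F, act Q z a = l • a) :
    ∃ l : F, ∀ x, act Q z x = l • x := by
  have orth : ∀ a d (l m : F), a ≠ 0 → d ≠ 0 → Q a = 0 → Q d = 0 → polar Q a d = 0 → (∀ r : F, d ≠ r • a) →
      act Q z a = l • a → act Q z d = m • d → l = m := by
    intro a d l m ha0 hd0 ha hd had hind hl hm
    obtain ⟨k, hk⟩ := hz (a + d) (fun e => hind (-1) (by rw [neg_one_smul]; exact eq_neg_of_add_eq_zero_right e))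
      (by rw [Q_add, ha, hd, had]; simp)
    rw [act_add, hl, hm] at hk
    have h1 : (m - k) • d = (k - l) • a := by linear_combination (norm := module) hk
    by_cases hmk : m - k = 0
    · rw [hmk, zero_smul] at h1
      have := (smul_eq_zero.1 h1.symm).resolve_right ha0
      linear_combination -hmk - this
    · exact absurd (show d = ((m - k)⁻¹ * (k - l)) • a by rw [mul_smul, ← h1, inv_smul_smul₀ hmk]) (hind _)
  obtain ⟨a₀, ha₀0, ha₀, -⟩ := exists_zero_lin Q (![] : Fin 0 → Dual F (ι → F)) (by omega)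
  obtain ⟨l, hl⟩ := hz a₀ ha₀0 ha₀
  have same : ∀ p, Q p = 0 → act Q z p = l • p := by
    intro p hp
    rcases eq_or_ne p 0 with rfl | hp0
    · rw [smul_zero]; exact Matrix.mulVec_zero _
    obtain ⟨m, hm⟩ := hz p hp0 hp
    obtain ⟨c₁, hc₁, hc₁a⟩ := exists_partner Q hQ ha₀0 ha₀
    obtain ⟨c₂, hc₂, hc₂p⟩ := exists_partner Q hQ hp0 hp
    obtain ⟨d, hd0, hd, hL⟩ := exists_zero_lin Q ![(polarBilin Q).flip a₀, (polarBilin Q).flip p, polarBilin Q c₁,
      polarBilin Q c₂] (by omega)
    obtain ⟨k, hk⟩ := hz d hd0 hd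
    have hne : ∀ (a c : V), polar Q c a = 1 → polar Q c d = 0 → ∀ r : F, d ≠ r • a := fun a c h1 h2 r e => hd0 (by
      rw [e, polar_smul_right, h1, smul_eq_mul, mul_one] at h2
      rw [e, h2, zero_smul])
    have e1 := orth a₀ d l k ha₀0 hd0 ha₀ hd (by rw [polar_comm]; exact hL 0) (hne _ _ hc₁a (hL 2)) hl hk
    have e2 := orth p d m k hp0 hd0 hp hd (by rw [polar_comm]; exact hL 1) (hne _ _ hc₂p (hL 3)) hm hk
    rw [hm, e2, e1]
  refine ⟨l, fun x => ?_⟩
  obtain ⟨c, hc, hca⟩ := exists_partner Q hQ ha₀0 ha₀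
  have good : ∀ y, polar Q y a₀ ≠ 0 → act Q z y = l • y := fun y hy => by
    have h := same (y + (-Q y / polar Q y a₀) • a₀) (by
      rw [Q_add, Q_smul, ha₀, polar_smul_right, smul_eq_mul]; field_simp; ring)
    rw [act_add, act_smul, hl] at h
    linear_combination (norm := module) h
  by_cases hx : polar Q x a₀ = 0
  · have h := good (x + c) (by rw [polar_add_left, hx, hca, zero_add]; exact one_ne_zero)
    rw [act_add, same c hc] at h
    linear_combination (norm := module) h
  · exact good x hx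

theorem normal_cases (N : Subgroup ↥(commutator (O Q))) [hN : N.Normal] :
    N ≤ Subgroup.center ↥(commutator (O Q)) ∨ N = ⊤ := by
  classical
  obtain ⟨a, ha0, ha, -⟩ := exists_zero_lin Q (![] : Fin 0 → Dual F (ι → F)) (by omega)
  set W := Submodule.span F ({a} : Set V) with hW
  let K : Subgroup ↥(commutator (O Q)) := (Cfsg.Geo.subspaceStabilizer W).comap
    ((isometryGroup F (⇑Q)).subtype.comp (commutator (O Q)).subtype)
  by_cases hNK : N ≤ K
  · left
    intro z hz
    obtain ⟨l, hl⟩ := scalar_of_fix Q hQ hn (z := (z : O Q)) fun b hb0 hb => by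
      obtain ⟨g, hg, hga⟩ := trans_sing Q hQ (by omega) ha0 hb0 ha hb
      rw [← commutator_eq Q hQ hn] at hg
      have hK := hNK (hN.conj_mem z hz ⟨g, hg⟩⁻¹)
      have hmem := (hK a).1 (Submodule.mem_span_singleton_self a)
      obtain ⟨l, hl⟩ := Submodule.mem_span_singleton.1 hmem
      refine ⟨l, ?_⟩
      have h3 : act Q (g⁻¹ * (z : O Q) * g⁻¹⁻¹) a = l • a := hl.symm
      rw [inv_inv, act_mul, act_mul, hga] at h3
      have h4 := congrArg (act Q g) h3
      rwa [act_inv, act_smul, hga] at h4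
    exact Subgroup.mem_center_iff.2 fun g => Subtype.ext (commute_of_scalar Q hQ hn hl g)
  right
  have hWts : ∀ w ∈ W, Q w = 0 := fun w hw => by
    obtain ⟨r, rfl⟩ := Submodule.mem_span_singleton.1 hw; rw [Q_smul, ha, mul_zero]
  have hmax := ts_stab_maximal' Q hQ (by omega) W
    (fun e => ha0 ((Submodule.span_singleton_eq_bot).1 e)) hWts (Or.inl fun U hU => by
      have := ts_dim Q hQ hU
      rw [hW, finrank_span_singleton ha0]
      omega)
  let φ : ↥(commutator (O Q)) →* GL ι F := (isometryGroup F (⇑Q)).subtype.comp (commutator (O Q)).subtype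
  have hφ : Function.Injective φ := Subtype.val_injective.comp Subtype.val_injective
  have hKN : K ⊔ N = ⊤ := by
    have h1 : Cfsg.Geo.subspaceStabilizer W ⊓ Cfsg.Geo.omegaGL (⇑Q) ≤ (K ⊔ N).map φ := by
      rintro x ⟨hx, g, hg, rfl⟩
      exact ⟨⟨g, hg⟩, Subgroup.mem_sup_left hx, rfl⟩
    have h2 : (K ⊔ N).map φ ≤ Cfsg.Geo.omegaGL (⇑Q) := by
      rintro _ ⟨⟨g, hg⟩, -, rfl⟩
      exact ⟨g, hg, rfl⟩
    rcases hmax.2 _ h1 h2 with h | h
    · exfalso
      refine hNK fun z hz => ?_
      have : φ z ∈ Cfsg.Geo.subspaceStabilizer W ⊓ Cfsg.Geo.omegaGL (⇑Q) :=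
        h ▸ Subgroup.mem_map_of_mem φ (Subgroup.mem_sup_right hz)
      exact this.1
    · rw [eq_top_iff]
      intro z _
      have : φ z ∈ (K ⊔ N).map φ := h.symm ▸ ⟨z.1, z.2, rfl⟩
      exact (Subgroup.mem_map_iff_mem hφ).1 this
  let π := QuotientGroup.mk' N
  let S : V → Subgroup ↥(commutator (O Q)) := fun a => Subgroup.closure
    {x | ∃ (ha : Q a = 0) (b : V) (hab : polar Q a b = 0), (x : O Q) = sO Q a b ha hab}
  have hgen : ∀ b₁ b₂ (h₁ : polar Q a b₁ = 0) (h₂ : polar Q a b₂ = 0),
      Commute (π ⟨sO Q a b₁ ha h₁, sO_mem' Q hQ hn _ _ _ _⟩) (π ⟨sO Q a b₂ ha h₂, sO_mem' Q hQ hn _ _ _ _⟩) := by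
    intro b₁ b₂ h₁ h₂
    refine Commute.map (Subtype.ext ?_) π
    show sO Q a b₁ ha h₁ * sO Q a b₂ ha h₂ = sO Q a b₂ ha h₂ * sO Q a b₁ ha h₁
    rw [← sO_add Q ha h₁ h₂ (by rw [polar_add_right, h₁, h₂, add_zero]),
      ← sO_add Q ha h₂ h₁ (by rw [polar_add_right, h₁, h₂, add_zero])]
    congr 1
    exact add_comm _ _
  have himg : ∀ (p b : V) (hp : Q p = 0) (hpb : polar Q p b = 0),
      π ⟨sO Q p b hp hpb, sO_mem' Q hQ hn _ _ _ _⟩ = 1 ∨ ∃ (b' : V) (h : polar Q a b' = 0),
        π ⟨sO Q p b hp hpb, sO_mem' Q hQ hn _ _ _ _⟩ = π ⟨sO Q a b' ha h, sO_mem' Q hQ hn _ _ _ _⟩ := by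
    intro p b hp hpb
    rcases eq_or_ne p 0 with rfl | hp0
    · left
      rw [show (⟨sO Q 0 b hp hpb, sO_mem' Q hQ hn _ _ _ _⟩ : ↥(commutator (O Q))) = 1 from Subtype.ext
        (O_ext Q fun x => by
          rw [act_sO, polar_zero_right, zero_smul, smul_zero, add_zero, sub_zero]; exact (Matrix.one_mulVec x).symm)]
      exact map_one π
    right
    obtain ⟨g, hg, hga⟩ := trans_sing Q hQ (by omega) ha0 hp0 ha hp
    rw [← commutator_eq Q hQ hn] at hg
    obtain ⟨n, hnN, k, hk, hnk⟩ := Subgroup.mem_sup_of_normal_left.1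
      (show (⟨g, hg⟩ : ↥(commutator (O Q))) ∈ N ⊔ K by rw [sup_comm, hKN]; trivial)
    obtain ⟨l, hl⟩ := Submodule.mem_span_singleton.1 ((hk a).1 (Submodule.mem_span_singleton_self a))
    have hl' : act Q (k : O Q) a = l • a := hl.symm
    obtain ⟨b₀, hb₀⟩ : ∃ b₀, b = act Q (n : O Q) b₀ := ⟨_, (act_inv Q _ b).symm⟩
    have hp' : p = act Q (n : O Q) (l • a) := by
      rw [← hga, ← hl', ← act_mul]
      rw [show ((n : O Q) * (k : O Q)) = g from congrArg Subtype.val hnk]
    subst hb₀
    subst hp'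
    have h3 : polar Q (l • a) b₀ = 0 := by rw [← polar_act Q (n : O Q)]; exact hpb
    have h4 : Q (l • a) = 0 := by rw [Q_smul, ha, mul_zero]
    have h5 : polar Q a (l • b₀) = 0 := by rw [polar_smul_right, ← polar_smul_left]; exact h3
    refine ⟨l • b₀, h5, ?_⟩
    have e1 : (⟨sO Q _ _ hp hpb, sO_mem' Q hQ hn _ _ _ _⟩ : ↥(commutator (O Q))) =
        n * ⟨sO Q a (l • b₀) ha h5, sO_mem' Q hQ hn _ _ _ _⟩ * n⁻¹ := by
      refine Subtype.ext ?_
      show sO Q _ _ hp hpb = (n : O Q) * sO Q a (l • b₀) ha h5 * (n : O Q)⁻¹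
      rw [← sO_conj Q h4 h3 hp hpb]
      congr 2
      exact O_ext Q fun x => by
        rw [act_sO, act_sO, polar_smul_right, polar_smul_right, Q_smul, smul_eq_mul, smul_eq_mul]; module
    have hn1 : π n = 1 := (QuotientGroup.eq_one_iff _).2 hnN
    rw [e1, map_mul, map_mul, map_inv, hn1]
    simp
  have hgen' : Subgroup.closure {x : ↥(commutator (O Q)) |
      ∃ (p b : V) (hp : Q p = 0) (hpb : polar Q p b = 0), (x : O Q) = sO Q p b hp hpb} = ⊤ := by
    rw [eq_top_iff]
    intro x _
    have h := (commutator_eq Q hQ hn).le x.2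
    rw [← Subgroup.mem_map_iff_mem (commutator (O Q)).subtype_injective, MonoidHom.map_closure]
    refine Subgroup.closure_mono ?_ h
    rintro _ ⟨p, b, hp, hpb, rfl⟩
    exact ⟨⟨_, sO_mem' Q hQ hn p b hp hpb⟩, ⟨p, b, hp, hpb, rfl⟩, rfl⟩
  have hcomm : ∀ x y : ↥(commutator (O Q)), Commute (π x) (π y) := by
    have key : ∀ x, ∀ y, (∀ p b hp hpb, Commute (π ⟨sO Q p b hp hpb, sO_mem' Q hQ hn _ _ _ _⟩) y) →
        Commute (π x) y := by
      intro x y hy
      have hx : x ∈ (⊤ : Subgroup ↥(commutator (O Q))) := trivial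
      rw [← hgen'] at hx
      induction hx using Subgroup.closure_induction with
      | mem z hz =>
        obtain ⟨p, b, hp, hpb, e⟩ := hz
        rw [show z = ⟨_, sO_mem' Q hQ hn p b hp hpb⟩ from Subtype.ext e]
        exact hy p b hp hpb
      | one => rw [map_one]; exact Commute.one_left y
      | mul u v _ _ h1 h2 => rw [map_mul]; exact h1.mul_left h2
      | inv u _ h1 => rw [map_inv]; exact h1.inv_left
    intro x y
    refine key x _ fun p b hp hpb => (key y _ fun p' b' hp' hpb' => ?_).symm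
    rcases himg p' b' hp' hpb' with h | ⟨c', hc', h⟩
    · rw [h]; exact Commute.one_left _
    rcases himg p b hp hpb with h' | ⟨c, hc, h'⟩
    · rw [h']; exact Commute.one_right _
    rw [h, h']
    exact hgen c' c hc' hc
  have hder : commutator ↥(commutator (O Q)) ≤ N := by
    refine Subgroup.commutator_le.2 ?_
    intro x _ y _
    refine (QuotientGroup.eq_one_iff _).1 ?_
    show π ⁅x, y⁆ = 1
    rw [map_commutatorElement]
    exact commutatorElement_eq_one_iff_commute.2 (hcomm x y)
  rw [eq_top_iff, ← hgen', Subgroup.closure_le]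
  rintro x ⟨p, b, hp, hpb, e⟩
  refine hder ?_
  rw [← Subgroup.mem_map_iff_mem (commutator (O Q)).subtype_injective,
    show commutator ↥(commutator (O Q)) = ⁅(⊤ : Subgroup ↥(commutator (O Q))), ⊤⁆ from rfl, Subgroup.map_commutator,
    ← MonoidHom.range_eq_map, Subgroup.range_subtype]
  show (x : O Q) ∈ _
  rw [e]
  exact sO_mem_derived Q hQ hn p b hp hpb

theorem pomega_simple : IsSimpleGroup (↥(commutator (O Q)) ⧸ Subgroup.center ↥(commutator (O Q))) := by
  have hne : Subgroup.center ↥(commutator (O Q)) ≠ ⊤ := by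
    intro hc
    obtain ⟨a, ha0, ha, -⟩ := exists_zero_lin Q (![] : Fin 0 → Dual F (ι → F)) (by omega)
    obtain ⟨c, hc', hca⟩ := exists_partner Q hQ ha0 ha
    obtain ⟨e, he, heQ⟩ := exists_aniso_perp Q hQ ![a, c] (by omega)
    have hae : polar Q a e = 0 := by rw [polar_comm]; exact he 0
    have hce : polar Q c e = 0 := by rw [polar_comm]; exact he 1
    have h : ∀ x y : ↥(commutator (O Q)), x * y = y * x := fun x y => by
      have : y ∈ Subgroup.center ↥(commutator (O Q)) := hc ▸ trivial
      exact Subgroup.mem_center_iff.1 this x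
    have h' := congrArg (fun z : ↥(commutator (O Q)) => act Q (z : O Q) c)
      (h ⟨_, sO_mem' Q hQ hn a e ha hae⟩ ⟨_, sO_mem' Q hQ hn c e hc' hce⟩)
    have hac : polar Q a c = 1 := by rw [polar_comm]; exact hca
    have hee : polar Q e e = 2 * Q e := polar_diag Q e
    simp only [Subgroup.coe_mul, act_mul, act_sO, polar_add_left, polar_sub_left, polar_smul_left, smul_eq_mul,
      polar_diag Q c, hc', hca, hac, hce, hae, show polar Q e c = 0 from he 1, show polar Q e a = 0 from he 0,
      polar_diag Q a, ha, hee] at h'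
    obtain ⟨y, hy⟩ := exists_polar_ne Q hQ (x := e) (fun h0 => heQ (by rw [h0, QuadraticMap.map_zero]))
    obtain ⟨w, hw, hwa, hwc⟩ : ∃ w, polar Q e w ≠ 0 ∧ polar Q a w = 0 ∧ polar Q c w = 0 := by
      refine ⟨y - polar Q y c • a - polar Q y a • c, ?_, ?_, ?_⟩
      · rw [polar_sub_right, polar_sub_right, polar_smul_right, polar_smul_right, show polar Q e a = 0 from he 0,
          show polar Q e c = 0 from he 1, smul_zero, smul_zero, sub_zero, sub_zero, polar_comm]
        exact hy
      · rw [polar_sub_right, polar_sub_right, polar_smul_right, polar_smul_right, polar_diag, ha, hac, polar_comm]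
        simp
      · rw [polar_sub_right, polar_sub_right, polar_smul_right, polar_smul_right, hca, polar_diag, hc', polar_comm]
        simp
    have h2 := congrArg (fun z => polar Q z w) h'
    simp only [polar_add_left, polar_sub_left, polar_smul_left, smul_eq_mul, hwa, hwc] at h2
    have h4 : Q e * polar Q e w = 0 := by linear_combination h2
    exact hw ((mul_eq_zero.1 h4).resolve_left heQ)
  haveI : Nontrivial (↥(commutator (O Q)) ⧸ Subgroup.center ↥(commutator (O Q))) :=
    QuotientGroup.nontrivial_iff.2 hne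
  refine IsSimpleGroup.mk fun H hH => ?_
  rcases normal_cases Q hQ hn (H.comap (QuotientGroup.mk' _)) with h | h
  · left
    rw [eq_bot_iff]
    intro x hx
    obtain ⟨y, rfl⟩ := QuotientGroup.mk'_surjective _ x
    exact (QuotientGroup.eq_one_iff y).2 (h hx)
  · right
    rw [eq_top_iff]
    intro x _
    obtain ⟨y, rfl⟩ := QuotientGroup.mk'_surjective _ x
    exact (h ▸ trivial : y ∈ H.comap (QuotientGroup.mk' _))

end Cfsg.Agent.Classical.Siegel
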