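import Mathlib

/-!
Rank one perturbations of the identity of determinant one are transvections.
-/

set_option autoImplicit false

open Matrix

namespace Cfsg.Agent.Classical.RankOneDet

theorem exists_vecMulVec {ι : Type*} [Fintype ι] [DecidableEq ι] {F : Type*} [Field F] {N : Matrix ι ι F}
    (h : N.rank = 1) : ∃ u φ : ι → F, u ≠ 0 ∧ N = vecMulVec u φ := by
  obtain ⟨⟨u, hu⟩, hu0, hall⟩ :=
    finrank_eq_one_iff'.1 (show Module.finrank F (LinearMap.range N.mulVecLin) = 1 from h)
  choose a ha using fun j => hall ⟨N *ᵥ Pi.single j 1, Pi.single j 1, rfl⟩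
  refine ⟨u, a, fun e => hu0 (Subtype.ext e), Matrix.ext fun i j => ?_⟩
  have e := congrFun (congrArg Subtype.val (ha j)) i
  simp [vecMulVec_apply] at e ⊢
  rw [← e, mul_comm]

theorem sq_zero {ι : Type*} [Fintype ι] [DecidableEq ι] {F : Type*} [Field F] {M : Matrix ι ι F}
    (h : (M - 1).rank = 1) (hd : M.det = 1) : (M - 1) * (M - 1) = 0 := by
  obtain ⟨u, φ, -, hN⟩ := exists_vecMulVec h
  have hM : M = 1 + replicateCol Unit u * replicateRow Unit φ := by
    rw [← vecMulVec_eq Unit, ← hN, add_sub_cancel]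
  rw [hM] at hd
  have hd' := hd.symm.trans (det_one_add_replicateCol_mul_replicateRow (ι := Unit) u φ)
  rw [hN, vecMulVec_mul_vecMulVec]
  simp [show φ ⬝ᵥ u = 0 from add_eq_left.1 hd'.symm]

theorem eq_zero_of_rank {ι : Type*} [Fintype ι] [DecidableEq ι] {F : Type*} [Field F] {N : Matrix ι ι F}
    (h : N.rank = 0) : N = 0 := by
  have h' : LinearMap.range N.mulVecLin = ⊥ := Submodule.finrank_eq_zero.1 h
  rw [LinearMap.range_eq_bot] at h'
  refine Matrix.ext fun i j => ?_
  have e := congrFun (LinearMap.congr_fun h' (Pi.single j 1)) i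
  simpa using e

end Cfsg.Agent.Classical.RankOneDet
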