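import Mathlib
import Cfsg.Prelude.Def_SporadicB
import Cfsg.Agent.Lib.Classical.RankOneDet
import Cfsg.Agent.Lib.Classical.OmegaCenter
import Cfsg.Agent.Lib.Classical.Spinor

/-!
Orthogonal transvections over the field with two elements form a class of 3-transpositions.
-/

set_option autoImplicit false

open scoped Matrix

namespace Cfsg.Agent.OrthThreeTransp

theorem main {ι : Type} [Fintype ι] [DecidableEq ι] (Qf : (ι → ZMod 2) → ZMod 2)
    (Q : QuadraticForm (ZMod 2) (ι → ZMod 2)) (hQf : Qf = ⇑Q) (hQ : (QuadraticMap.polarBilin Q).Nondegenerate)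
    (h4 : Fintype.card ι ≠ 4) (v₀ : ι → ZMod 2) (hv₀ : Q v₀ ≠ 0) :
    Cfsg.IsThreeTranspositionClass {g : ↥(Cfsg.isometryGroup (ZMod 2) Qf) |
      (((g : GL ι (ZMod 2)) : Matrix ι ι (ZMod 2)) - 1).rank = 1} := by
  classical
  subst hQf
  let D : Set (Classical.Refl.O Q) :=
    {g | (((g : GL ι (ZMod 2)) : Matrix ι ι (ZMod 2)) - 1).rank = 1}
  show Cfsg.IsThreeTranspositionClass D
  have h01 : ∀ c : ZMod 2, c = 0 ∨ c = 1 := by decide
  have hneg : ∀ c : ZMod 2, -c = c := by decide
  have hnv : ∀ v : ι → ZMod 2, -v = v := fun v => funext fun i => hneg (v i)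
  let r : ∀ v, Q v ≠ 0 → Classical.Refl.O Q := fun v hv => Classical.Refl.refl Q v hv
  have hr1 : ∀ v (hv : Q v ≠ 0) x, Classical.Refl.act Q (r v hv) x = x + QuadraticMap.polar Q v x • v := by
    intro v hv x
    rw [Classical.Refl.act_refl, (h01 (Q v)).resolve_left hv, inv_one, one_mul, sub_eq_add_neg,
      ← neg_smul, hneg]
  have hext : ∀ a b : Classical.Refl.O Q, (∀ x, Classical.Refl.act Q a x = Classical.Refl.act Q b x) → a = b :=
    fun a b h => Classical.Refl.act_ext Q h
  -- membership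
  have hDr : ∀ g, g ∈ D ↔ ∃ v, ∃ hv : Q v ≠ 0, g = r v hv := by
    intro g
    constructor
    · intro hg
      obtain ⟨u, φ, hu, hN⟩ := Classical.RankOneDet.exists_vecMulVec (N := ((g : GL ι (ZMod 2)) :
        Matrix ι ι (ZMod 2)) - 1) hg
      have hgx : ∀ x, Classical.Refl.act Q g x = x + (φ ⬝ᵥ x) • u := by
        intro x
        show ((g : GL ι (ZMod 2)) : Matrix ι ι (ZMod 2)) *ᵥ x = _
        rw [← sub_add_cancel ((g : GL ι (ZMod 2)) :
          Matrix ι ι (ZMod 2)) 1, hN, Matrix.add_mulVec, Matrix.one_mulVec,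
          Matrix.vecMulVec_mulVec, op_smul_eq_smul, add_comm]
      have key : ∀ x, φ ⬝ᵥ x = 1 → Q u + QuadraticMap.polar Q x u = 0 := by
        intro x hx
        have e := Classical.Refl.Q_act Q g x
        rw [hgx, hx, one_smul, QuadraticMap.map_add (⇑Q)] at e
        linear_combination e
      obtain ⟨x0, hx0⟩ : ∃ x, φ ⬝ᵥ x = 1 := by
        by_contra hc
        push Not at hc
        have hz : ∀ x, φ ⬝ᵥ x = 0 := fun x => (h01 _).resolve_right (hc x)
        have hg1 : ((g : GL ι (ZMod 2)) : Matrix ι ι (ZMod 2)) = 1 :=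
          Matrix.toLin'.injective (LinearMap.ext fun x => by
            rw [Matrix.toLin'_apply, Matrix.toLin'_apply, Matrix.one_mulVec]
            exact (hgx x).trans (by rw [hz, zero_smul, add_zero]))
        have hg' : (((g : GL ι (ZMod 2)) : Matrix ι ι (ZMod 2)) - 1).rank = 1 := hg
        rw [hg1, sub_self, Matrix.rank_zero] at hg'
        exact zero_ne_one hg'
      have hlin : ∀ y, φ ⬝ᵥ y = 0 → QuadraticMap.polar Q y u = 0 := by
        intro y hy
        have e := key (x0 + y) (by rw [dotProduct_add, hx0, hy, add_zero])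
        rw [QuadraticMap.polar_add_left] at e
        linear_combination e - key x0 hx0
      have hQu : Q u ≠ 0 := by
        intro h0
        refine hu (hQ.1 u fun y => ?_)
        show QuadraticMap.polar Q u y = 0
        rw [QuadraticMap.polar_comm]
        rcases h01 (φ ⬝ᵥ y) with h | h
        · exact hlin y h
        · have := key y h; rwa [h0, zero_add] at this
      refine ⟨u, hQu, hext _ _ fun x => ?_⟩
      rw [hgx, hr1, QuadraticMap.polar_comm]
      congr 2
      rcases h01 (φ ⬝ᵥ x) with h | h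
      · rw [h, hlin x h]
      · have e := key x h
        rw [(h01 (Q u)).resolve_left hQu] at e
        rw [h]
        linear_combination -e + (h01 (1 : ZMod 2)).elim (fun h' => absurd h' one_ne_zero) (fun _ => show (2 : ZMod 2) = 0 by decide)
    · rintro ⟨v, hv, rfl⟩
      show (_ - 1 : Matrix ι ι (ZMod 2)).rank = 1
      obtain ⟨φ, hφ⟩ : ∃ φ : ι → ZMod 2, ∀ x, QuadraticMap.polar Q v x = φ ⬝ᵥ x := by
        refine ⟨fun i => QuadraticMap.polar Q v (Pi.single i 1), fun x => ?_⟩
        conv_lhs => rw [show x = ∑ i, x i • (Pi.single i 1 : ι → ZMod 2) by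
          ext j; simp [Finset.sum_apply, Pi.single_apply]]
        show QuadraticMap.polarBilin Q v _ = _
        rw [map_sum]
        simp [dotProduct, mul_comm]
      have hM : (((r v hv : Classical.Refl.O Q) : GL ι (ZMod 2)) :
          Matrix ι ι (ZMod 2)) = 1 + Matrix.vecMulVec v φ :=
        Matrix.toLin'.injective (LinearMap.ext fun x => by
          rw [Matrix.toLin'_apply, Matrix.toLin'_apply, Matrix.add_mulVec, Matrix.one_mulVec,
            Matrix.vecMulVec_mulVec, op_smul_eq_smul, ← hφ]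
          exact hr1 v hv x)
      rw [hM, add_sub_cancel_left]
      refine le_antisymm (Matrix.rank_vecMulVec_le _ _) (Nat.one_le_iff_ne_zero.2 fun h0 => ?_)
      have hz := Classical.RankOneDet.eq_zero_of_rank h0
      have hv0 : v ≠ 0 := fun e => hv (by rw [e, QuadraticMap.map_zero])
      refine hv0 (hQ.1 v fun y => ?_)
      show QuadraticMap.polar Q v y = 0
      have e2 : (Matrix.vecMulVec v φ) *ᵥ y = 0 := by rw [hz, Matrix.zero_mulVec]
      rw [Matrix.vecMulVec_mulVec, op_smul_eq_smul, ← hφ, smul_eq_zero] at e2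
      exact e2.resolve_right hv0
  have hsq : ∀ v (hv : Q v ≠ 0), r v hv * r v hv = 1 := fun v hv => Classical.Refl.refl_mul_self Q v hv
  have hcj : ∀ u (hu : Q u ≠ 0) v (hv : Q v ≠ 0), ∀ x, Classical.Refl.act Q (r u hu * r v hv * r u hu) x =
      x + QuadraticMap.polar Q (v + QuadraticMap.polar Q u v • u) x • (v + QuadraticMap.polar Q u v • u) := by
    intro u hu v hv x
    have e := Classical.Refl.refl_conj Q (r u hu) v hv
    rw [Classical.Refl.refl_inv] at e
    rw [e]
    have h1 := hr1 (Classical.Refl.act Q (r u hu) v) (by rwa [Classical.Refl.Q_act]) x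
    simp only [hr1 u hu v] at h1 ⊢
    exact h1
  refine ⟨⟨fun d hd => ?_, fun d hd d' hd' => ?_⟩, ⟨r v₀ hv₀, (hDr _).2 ⟨v₀, hv₀, rfl⟩, Set.ext fun g => ⟨fun hg => ?_, fun hg => ?_⟩⟩, ?_⟩
  · have hd0 : (((d : GL ι (ZMod 2)) : Matrix ι ι (ZMod 2)) - 1).rank = 1 := hd
    obtain ⟨v, hv, rfl⟩ := (hDr d).1 hd
    refine orderOf_eq_prime (by rw [pow_two]; exact hsq v hv) fun h => ?_
    rw [h] at hd0
    simp at hd0
  · obtain ⟨u, hu, rfl⟩ := (hDr d).1 hd
    obtain ⟨v, hv, rfl⟩ := (hDr d').1 hd'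
    rcases h01 (QuadraticMap.polar Q u v) with h | h
    · left
      have e : r u hu * r v hv * r u hu = r v hv := hext _ _ fun x => by
        rw [hcj u hu v hv x, h, zero_smul, add_zero, hr1]
      calc (r u hu * r v hv) ^ 2 = (r u hu * r v hv * r u hu) * r v hv := by rw [pow_two]; group
        _ = 1 := by rw [e, hsq]
    · right
      have h' : QuadraticMap.polar Q v u = 1 := by rw [QuadraticMap.polar_comm]; exact h
      have e : r u hu * r v hv * r u hu = r v hv * r u hu * r v hv := hext _ _ fun x => by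
        rw [hcj u hu v hv x, hcj v hv u hu x, h, h', one_smul, one_smul, add_comm v u]
      calc (r u hu * r v hv) ^ 3 = (r u hu * r v hv * r u hu) * (r v hv * r u hu * r v hv) := by
            rw [pow_succ, pow_two]; group
        _ = r v hv * r u hu * (r v hv * r v hv) * r u hu * r v hv := by rw [e]; group
        _ = 1 := by rw [hsq, mul_one, mul_assoc (r v hv), hsq, mul_one, hsq]
  · obtain ⟨v, hv, rfl⟩ := (hDr g).1 hg
    obtain ⟨c, hc⟩ := Classical.Refl.exists_map_eq Q hQ hv₀
      (show Q v = Q v₀ by rw [(h01 (Q v)).resolve_left hv, (h01 (Q v₀)).resolve_left hv₀])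
    refine (isConj_iff.2 ⟨c, ?_⟩ : IsConj (r v₀ hv₀) (r v hv))
    have e := Classical.Refl.refl_conj Q c v₀ hv₀
    simp only [hc] at e
    exact e
  · replace hg : IsConj (r v₀ hv₀) g := hg
    rw [isConj_iff] at hg
    obtain ⟨c, rfl⟩ := hg
    exact (hDr _).2 ⟨_, _, Classical.Refl.refl_conj Q c v₀ hv₀⟩
  · have h := Classical.Refl.eq_top Q hQ (Or.inr h4)
    rw [eq_top_iff, ← h]
    refine Subgroup.closure_mono ?_
    rintro g ⟨v, hv, hg⟩
    refine (hDr g).2 ⟨v, hv, Subtype.ext (Units.ext hg)⟩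

end Cfsg.Agent.OrthThreeTransp
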