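import Cfsg.Agent.Lib.Classical.DecompOrthCross

/-!
Unitary overfield normalisers are maximal in orthogonal groups.
-/

set_option autoImplicit false
set_option linter.unusedSectionVars false
set_option maxHeartbeats 1600000

open Module Matrix QuadraticMap

namespace Cfsg.Agent.Classical.OverfieldOrth

open Refl Siegel MaxLin DecompOrth

variable {F : Type*} [Field F] [Fintype F] {ι : Type} [Fintype ι] [DecidableEq ι]
variable (Q : QuadraticForm F (ι → F))

local notation "V" => ι → F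
local notation "Mat" => Matrix ι ι F

/-- A quadratic space with a compatible quadratic extension. -/
structure KS (K : Subalgebra F (Matrix ι ι F)) (θ : Matrix ι ι F) (p N : F) : Prop where
  nd : (polarBilin Q).Nondegenerate
  big : 13 ≤ Fintype.card ι
  mem : θ ∈ K
  span : ∀ x ∈ K, ∃ a b : F, x = a • (1 : Mat) + b • θ
  sq : ∀ v : V, θ *ᵥ (θ *ᵥ v) = p • θ *ᵥ v - N • v
  norm : ∀ v : V, Q (θ *ᵥ v) = N * Q v
  adj : ∀ x y : V, polar Q (θ *ᵥ x) y = p * polar Q x y - polar Q x (θ *ᵥ y)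
  ne : N ≠ 0
  irred : ∀ x y : F, x ^ 2 + p * x * y + N * y ^ 2 = 0 → x = 0 ∧ y = 0

variable {Q} {K : Subalgebra F (Matrix ι ι F)} {θ : Matrix ι ι F} {p N : F}

/-- Stable under the extension. -/
def Stable (θ : Matrix ι ι F) (S : Submodule F (ι → F)) : Prop := ∀ x ∈ S, θ *ᵥ x ∈ S

variable (hK : KS Q K θ p N)

include hK

theorem polar_mul (x y : V) : polar Q (θ *ᵥ x) (θ *ᵥ y) = N * polar Q x y := by
  simp only [polar, ← Matrix.mulVec_add, hK.norm]; ring

theorem self_line (v : V) : polar Q v (θ *ᵥ v) = p * Q v := by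
  have h := hK.adj v v
  rw [polar_comm (⇑Q) (θ *ᵥ v) v, polar_diag] at h
  -- the adjoint relation only fixes twice the value
  have h2 : Q (θ *ᵥ (θ *ᵥ v)) = N * (N * Q v) := by rw [hK.norm, hK.norm]
  rw [hK.sq, sub_eq_add_neg, ← neg_smul, Q_add, Q_smul, Q_smul, hK.norm, polar_smul_left, polar_smul_right,
    polar_comm (⇑Q) (θ *ᵥ v) v] at h2
  by_cases hp : p = 0
  · subst hp
    by_cases h20 : (2 : F) = 0
    · have h3 : ∀ x y : F, x ^ 2 + (0 : F) * x * y + N * y ^ 2 = 0 → x = 0 ∧ y = 0 := hK.irred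
      obtain ⟨r, hr⟩ : ∃ r : F, r ^ 2 = N := by
        obtain ⟨q, hq⟩ := CharP.exists F
        obtain ⟨n, hqq, hn⟩ := FiniteField.card F q
        have hq2 : q = 2 := (Nat.prime_dvd_prime_iff_eq hqq Nat.prime_two).1
          ((CharP.cast_eq_zero_iff F q 2).1 (by simpa using h20))
        refine ⟨N ^ (2 ^ ((n : ℕ) - 1)), ?_⟩
        rw [← pow_mul, ← pow_succ, Nat.sub_add_cancel n.pos, ← hq2, ← hn, FiniteField.pow_card]
      exfalso
      exact one_ne_zero (h3 r 1 (by linear_combination hr + N * h20)).2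
    · rw [zero_mul] at h ⊢
      exact (mul_eq_zero.1 (show (2 : F) * polar Q v (θ *ᵥ v) = 0 by linear_combination h)).resolve_left h20
  · simp only [smul_eq_mul] at h2
    have h3 : p * N * (p * Q v - polar Q v (θ *ᵥ v)) = 0 := by linear_combination h2
    exact ((sub_eq_zero.1 ((mul_eq_zero.1 h3).resolve_left (mul_ne_zero hp hK.ne)))).symm

theorem stable_mem {S : Submodule F (ι → F)} (hS : Stable θ S) {d : V} (hd : d ∉ S) {x y : F}
    (h : x • d + y • θ *ᵥ d ∈ S) : x = 0 ∧ y = 0 := by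
  by_contra hne
  have h1 := S.add_mem (S.smul_mem (x + p * y) h) (S.smul_mem (-y) (hS _ h))
  rw [Matrix.mulVec_add, Matrix.mulVec_smul, Matrix.mulVec_smul, hK.sq] at h1
  have e : (x + p * y) • (x • d + y • θ *ᵥ d) + (-y) • (x • θ *ᵥ d + y • (p • θ *ᵥ d - N • d)) =
      (x ^ 2 + p * x * y + N * y ^ 2) • d := by module
  rw [e] at h1
  rcases eq_or_ne (x ^ 2 + p * x * y + N * y ^ 2) 0 with h0 | h0
  · exact hne (hK.irred x y h0)
  · have h4 := S.smul_mem (x ^ 2 + p * x * y + N * y ^ 2)⁻¹ h1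
    rw [inv_smul_smul₀ h0] at h4
    exact hd h4

/-- The line of a vector over the extension. -/
def line (v : V) : Submodule F (ι → F) := Submodule.span F (Set.range ![v, θ *ᵥ v])

omit hK in
theorem mem_line {v x : V} : x ∈ Submodule.span F (Set.range ![v, θ *ᵥ v]) ↔ ∃ a b : F, x = a • v + b • θ *ᵥ v := by
  rw [Submodule.mem_span_range_iff_exists_fun]
  constructor
  · rintro ⟨c, rfl⟩
    exact ⟨c 0, c 1, by simp [Fin.sum_univ_two]⟩
  · rintro ⟨a, b, rfl⟩
    exact ⟨![a, b], by simp [Fin.sum_univ_two]⟩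

theorem line_stable (v : V) : Stable θ (Submodule.span F (Set.range ![v, θ *ᵥ v])) := fun x hx => by
  obtain ⟨a, b, rfl⟩ := mem_line.1 hx
  refine mem_line.2 ⟨-(b * N), a + b * p, ?_⟩
  rw [Matrix.mulVec_add, Matrix.mulVec_smul, Matrix.mulVec_smul, hK.sq]
  module

/-- A dual vector. -/
theorem dualv {m : ℕ} (W : Fin m → V) {z : V} (hz : z ∉ Submodule.span F (Set.range W)) :
    ∃ e, (∀ i, polar Q e (W i) = 0) ∧ polar Q e z = 1 := by
  by_contra hc
  push Not at hc
  have hle : ∀ e, (∀ i, polar Q e (W i) = 0) → polar Q e z = 0 := fun e he => by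
    by_contra h1
    exact hc ((polar Q e z)⁻¹ • e) (fun i => by rw [polar_smul_left, he i, smul_zero])
      (by rw [polar_smul_left, smul_eq_mul, inv_mul_cancel₀ h1])
  have hmem : (polarBilin Q).flip z ∈ Submodule.span F (Set.range fun i => (polarBilin Q).flip (W i)) := by
    refine mem_span_of_iInf_ker_le_ker fun x hx => ?_
    simp only [Submodule.mem_iInf, LinearMap.mem_ker] at hx
    exact hle x hx
  obtain ⟨c, hc'⟩ := (Submodule.mem_span_range_iff_exists_fun F).1 hmem
  refine hz ((Submodule.mem_span_range_iff_exists_fun F).2 ⟨c, sub_eq_zero.1 (eq_zero_of Q hK.nd _ fun x => ?_)⟩)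
  have h1 := LinearMap.congr_fun hc' x
  simp only [LinearMap.sum_apply, LinearMap.smul_apply] at h1
  show polarBilin Q x (∑ i, c i • W i - z) = 0
  rw [map_sub, map_sum]
  simp only [map_smul]
  exact sub_eq_zero.2 h1

/-- A singular vector orthogonal to few vectors outside their span. -/
theorem avoid {m k : ℕ} (W : Fin m → V) (A : Fin k → V) (h : m + k + 2 < Fintype.card ι) :
    ∃ s, s ≠ 0 ∧ Q s = 0 ∧ (∀ i, polar Q s (W i) = 0) ∧ s ∉ Submodule.span F (Set.range A) := by
  obtain ⟨ψ, hψ⟩ := MaxOrthSL.exists_avoid A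
  obtain ⟨s, hs0, hs, hL⟩ := exists_zero_lin Q (Fin.append (fun i => (polarBilin Q).flip (W i)) ψ) h
  refine ⟨s, hs0, hs, fun i => ?_, fun hm => hs0 (hψ s hm fun i => ?_)⟩
  · have h3 := hL (Fin.castAdd k i)
    rwa [Fin.append_left] at h3
  · have h3 := hL (Fin.natAdd m i)
    rwa [Fin.append_right] at h3

/-- A singular vector with prescribed products. -/
theorem values {m : ℕ} (W : Fin m → V) (v : V) (hm : 2 * m + 4 < Fintype.card ι) :
    ∃ e, Q e = 0 ∧ ∀ i, polar Q e (W i) = polar Q v (W i) := by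
  let W' : Fin (m + 1) → V := Fin.cons v W
  obtain ⟨s, -, hs, hsW, hsne⟩ := avoid hK W' W' (by omega)
  obtain ⟨t, htW, hts⟩ := dualv hK W' hsne
  have hsv : polar Q s v = 0 := by simpa [W'] using hsW 0
  have htv : polar Q t v = 0 := by simpa [W'] using htW 0
  refine ⟨v + t + (-(Q v + Q t)) • s, ?_, fun i => ?_⟩
  · rw [Q_add, Q_add, Q_smul, hs, polar_add_left, polar_smul_right, polar_smul_right, polar_comm (⇑Q) v t, htv,
      polar_comm (⇑Q) v s, hsv, hts]
    simp only [smul_eq_mul]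
    ring
  · have h1 := hsW i.succ
    have h2 := htW i.succ
    simp only [W', Fin.cons_succ] at h1 h2
    rw [polar_add_left, polar_add_left, polar_smul_left, h1, h2]
    simp

/-- Singular vectors outside a small subspace span an orthogonal. -/
theorem span_perp {m k : ℕ} (W : Fin m → V) (A : Fin k → V)
    (h : m + k + 3 < Fintype.card ι ∧ 2 * m + 4 < Fintype.card ι)
    (U : Submodule F (ι → F))
    (hU : ∀ e, Q e = 0 → (∀ i, polar Q e (W i) = 0) → e ∉ Submodule.span F (Set.range A) → e ∈ U)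
    {x : V} (hx : ∀ i, polar Q x (W i) = 0) : x ∈ U := by
  have hall : ∀ e, Q e = 0 → (∀ i, polar Q e (W i) = 0) → e ∈ U := by
    intro e he heW
    by_cases hA : e ∈ Submodule.span F (Set.range A)
    swap
    · exact hU e he heW hA
    obtain ⟨d, -, hd, hdW, hdA⟩ := avoid hK (Fin.cons e W) A (by omega)
    have hde : polar Q d e = 0 := by simpa using hdW 0
    have hdW' : ∀ i, polar Q d (W i) = 0 := fun i => by simpa using hdW i.succ
    have h1 := hU (e + d) (by rw [Q_add, he, hd, polar_comm, hde]; simp)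
      (fun i => by rw [polar_add_left, heW i, hdW' i, add_zero]) fun hm => hdA (by
        simpa using (Submodule.span F (Set.range A)).sub_mem hm hA)
    simpa using U.sub_mem h1 (hU d hd hdW' hdA)
  let W' : Fin (m + 1) → V := Fin.cons x W
  obtain ⟨s, -, hs, hsW, hsne⟩ := avoid hK W' W' (by omega)
  obtain ⟨t, htW, hts⟩ := dualv hK W' hsne
  have hsx : polar Q s x = 0 := by simpa [W'] using hsW 0
  have htx : polar Q t x = 0 := by simpa [W'] using htW 0
  have hsW' : ∀ i, polar Q s (W i) = 0 := fun i => by simpa [W'] using hsW i.succ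
  have htW' : ∀ i, polar Q t (W i) = 0 := fun i => by simpa [W'] using htW i.succ
  have h2 : t + (-Q t) • s ∈ U := hall _ (by
    rw [Q_add, Q_smul, hs, polar_smul_right, hts]; simp) fun i => by
    rw [polar_add_left, polar_smul_left, hsW' i, htW' i]; simp
  have h1 : x + t + (-(Q x + Q t)) • s ∈ U := hall _ (by
    rw [Q_add, Q_add, Q_smul, hs, polar_add_left, polar_smul_right, polar_smul_right, polar_comm (⇑Q) x t, htx,
      polar_comm (⇑Q) x s, hsx, hts]
    simp only [smul_eq_mul]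
    ring) fun i => by rw [polar_add_left, polar_add_left, polar_smul_left, hx i, hsW' i, htW' i]; simp
  have := U.add_mem (U.sub_mem h1 h2) (U.smul_mem (Q x) (hall s hs hsW'))
  rwa [show x + t + (-(Q x + Q t)) • s - (t + (-Q t) • s) + Q x • s = x by module] at this

theorem eq_line {d u : V} {x y : F} (h : u = x • d + y • θ *ᵥ d) :
    θ *ᵥ u = (-(y * N)) • d + (x + y * p) • θ *ᵥ d := by
  rw [h, Matrix.mulVec_add, Matrix.mulVec_smul, Matrix.mulVec_smul, hK.sq]; module

/-- The root element of a singular line over the extension. -/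
theorem line_orth {v : V} (hv : Q v = 0) (r : F) : polar Q v (r • θ *ᵥ v) = 0 := by
  rw [polar_smul_right, self_line hK, hv, mul_zero, smul_zero]

theorem act_root {v : V} (hv : Q v = 0) (r : F) (x : V) :
    act Q (sO Q v (r • θ *ᵥ v) hv (line_orth hK hv r)) x =
      x + r • (polar Q x v • θ *ᵥ v - polar Q x (θ *ᵥ v) • v) := by
  rw [act_sO, Q_smul, hK.norm, hv, polar_smul_right, smul_eq_mul]
  module

theorem root_comm {v : V} (hv : Q v = 0) (r : F) (x : V) :
    act Q (sO Q v (r • θ *ᵥ v) hv (line_orth hK hv r)) (θ *ᵥ x) =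
      θ *ᵥ act Q (sO Q v (r • θ *ᵥ v) hv (line_orth hK hv r)) x := by
  rw [act_root hK hv, act_root hK hv, hK.adj x v, polar_mul hK, Matrix.mulVec_add, Matrix.mulVec_smul,
    Matrix.mulVec_sub, Matrix.mulVec_smul, Matrix.mulVec_smul, hK.sq]
  module

omit hK in
theorem mem_normalizer {g : GL ι F} (h : ∀ k ∈ K, (g : Mat) * k * ((g⁻¹ : GL ι F) : Mat) ∈ K) :
    g ∈ Cfsg.Geo.subalgebraNormalizer K := by
  intro k
  refine ⟨h k, fun hk => ?_⟩
  let L : K →ₗ[F] K :=
    { toFun := fun x => ⟨(g : Mat) * x * ((g⁻¹ : GL ι F) : Mat), h x x.2⟩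
      map_add' := fun x y => Subtype.ext (by simp [Matrix.mul_add, Matrix.add_mul])
      map_smul' := fun c x => Subtype.ext (by simp [Matrix.mul_smul, Matrix.smul_mul]) }
  have hinj : Function.Injective L := fun x y e => Subtype.ext (by
    have := congrArg (fun z : K => ((g⁻¹ : GL ι F) : Mat) * (z : Mat) * (g : Mat)) e
    simpa [L, ← mul_assoc, ← Units.val_mul, mul_assoc] using this)
  obtain ⟨x, hx⟩ := (LinearMap.injective_iff_surjective.1 hinj) ⟨_, hk⟩
  have := congrArg (fun z : K => ((g⁻¹ : GL ι F) : Mat) * (z : Mat) * (g : Mat)) hx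
  have e : (x : Mat) = k := by simpa [L, ← mul_assoc, ← Units.val_mul, mul_assoc] using this
  exact e ▸ x.2

theorem normalizer_of_theta {g : GL ι F} (h : (g : Mat) * θ * ((g⁻¹ : GL ι F) : Mat) ∈ K) :
    g ∈ Cfsg.Geo.subalgebraNormalizer K := mem_normalizer fun k hk => by
  obtain ⟨a, b, rfl⟩ := hK.span k hk
  rw [Matrix.mul_add, Matrix.add_mul, Matrix.mul_smul, Matrix.smul_mul, Matrix.mul_smul, Matrix.smul_mul, mul_one,
    ← Units.val_mul, mul_inv_cancel, Units.val_one]
  exact add_mem (K.smul_mem (one_mem K) a) (K.smul_mem h b)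

theorem root_mem {v : V} (hv : Q v = 0) (r : F) :
    (sO Q v (r • θ *ᵥ v) hv (line_orth hK hv r) : GL ι F) ∈
      Cfsg.Geo.subalgebraNormalizer K ⊓ Cfsg.Geo.omegaGL (⇑Q) := by
  refine ⟨normalizer_of_theta hK ?_, NotMax.mem_omegaGL _ (sO_mem_commutator Q hK.nd (by have := hK.big; omega) _ _ hv _)⟩
  set g := (sO Q v (r • θ *ᵥ v) hv (line_orth hK hv r) : GL ι F) with hg
  have hc : (g : Mat) * θ = θ * (g : Mat) := Matrix.toLin'.injective (LinearMap.ext fun x => by
    rw [Matrix.toLin'_apply, Matrix.toLin'_apply, ← Matrix.mulVec_mulVec, ← Matrix.mulVec_mulVec]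
    exact root_comm hK hv r x)
  rw [hc, mul_assoc, ← Units.val_mul, mul_inv_cancel, Units.val_one, mul_one]
  exact hK.mem

theorem swap {M : Subgroup (O Q)} {u x : V} (hu : Q u = 0) (hx : Q x = 0) (h : ∀ r : F, Sm M u (r • x)) :
    ∀ r : F, Sm M x (r • u) := by
  intro r
  obtain ⟨h1, h2, hm⟩ := h (-r)
  have hux : polar Q u x = 0 := by
    obtain ⟨-, h2', -⟩ := h 1
    rwa [one_smul] at h2'
  have h4 : polar Q x (r • u) = 0 := by rw [polar_smul_right, polar_comm, hux, smul_zero]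
  refine ⟨hx, h4, ?_⟩
  rw [show sO Q x (r • u) hx h4 = sO Q u ((-r) • x) h1 h2 from O_ext Q fun z => by
    rw [act_sO, act_sO, Q_smul, Q_smul, hu, hx, polar_smul_right, polar_smul_right]
    simp only [smul_eq_mul]
    module]
  exact hm

/-- The normaliser of a unitary overfield is maximal. -/
theorem overfield_maximal :
    Cfsg.Geo.IsMaximalIn (Cfsg.Geo.omegaGL (⇑Q))
      (Cfsg.Geo.subalgebraNormalizer K ⊓ Cfsg.Geo.omegaGL (⇑Q)) := by
  classical
  have hn : 7 ≤ Fintype.card ι := by have := hK.big; omega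
  have hbig := hK.big
  have symm : ∀ {x y : V}, polar Q x y = 0 → polar Q y x = 0 := fun h => by rw [polar_comm]; exact h
  have hθ0 : ∀ x : V, θ *ᵥ x = 0 → x = 0 := fun x hx => by
    have := hK.sq x
    rw [hx, Matrix.mulVec_zero, smul_zero, zero_sub] at this
    exact (smul_eq_zero.1 (neg_eq_zero.1 this.symm)).resolve_left hK.ne
  refine ⟨lt_of_le_of_ne inf_le_right fun e => ?_, fun M h1 h2 => ?_⟩
  · obtain ⟨a, ha0, ha, -, -⟩ := avoid hK (![] : Fin 0 → V) (![] : Fin 0 → V) (by omega)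
    obtain ⟨b, -, -, hb, hbne⟩ := avoid hK ![a, θ *ᵥ a] ![a, θ *ᵥ a] (by omega)
    have hab : polar Q a b = 0 := symm (hb 0)
    have hθab : polar Q (θ *ᵥ a) b = 0 := symm (hb 1)
    set g := sO Q a b ha hab with hg
    have hgN := (e.ge (NotMax.mem_omegaGL _ (sO_mem_commutator Q hK.nd hn a b ha hab))).1
    have hk := (hgN θ).1 hK.mem
    set G := (g : GL ι F) with hG
    obtain ⟨α, β, hαβ⟩ := hK.span _ hk
    have hrel : ∀ x : V, act Q g (θ *ᵥ x) = α • act Q g x + β • θ *ᵥ act Q g x := fun x => by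
      have := congrArg (fun A : Mat => A *ᵥ act Q g x) hαβ
      simp only [Matrix.add_mulVec, Matrix.smul_mulVec, Matrix.one_mulVec] at this
      rw [← this]
      show (G : Mat) *ᵥ (θ *ᵥ x) = ((G : Mat) * θ * ((G⁻¹ : GL ι F) : Mat)) *ᵥ ((G : Mat) *ᵥ x)
      rw [← Matrix.mulVec_mulVec, gl_inv_mulVec', ← Matrix.mulVec_mulVec]
    have hga : act Q g a = a := by rw [hg, act_sO, polar_diag, ha, hab]; simp
    have hgθa : act Q g (θ *ᵥ a) = θ *ᵥ a := by
      rw [hg, act_sO, polar_comm (⇑Q) (θ *ᵥ a) a, self_line hK, ha, hθab]; simp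
    have h3 := hrel a
    rw [hga, hgθa] at h3
    obtain ⟨hα, hβ⟩ := stable_mem hK (S := ⊥) (fun x hx => by
      rw [(Submodule.mem_bot F).1 hx, Matrix.mulVec_zero]; exact Submodule.zero_mem _) (d := a)
      (fun h => ha0 ((Submodule.mem_bot F).1 h)) (x := α) (y := β - 1) (by
        rw [Submodule.mem_bot, sub_smul, one_smul]; linear_combination (norm := module) -h3)
    rw [sub_eq_zero] at hβ
    obtain ⟨x, hxW, hxa⟩ := dualv hK ![θ *ᵥ a, b] (z := a) (fun hm => by
      obtain ⟨c, hc⟩ := (Submodule.mem_span_range_iff_exists_fun F).1 hm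
      simp only [Fin.sum_univ_two, Matrix.cons_val_zero, Matrix.cons_val_one] at hc
      rcases eq_or_ne (c 1) 0 with h0 | h0
      · rw [h0, zero_smul, add_zero] at hc
        exact one_ne_zero (stable_mem hK (S := ⊥) (fun x hx => by
          rw [(Submodule.mem_bot F).1 hx, Matrix.mulVec_zero]; exact Submodule.zero_mem _) (d := a)
          (fun h => ha0 ((Submodule.mem_bot F).1 h)) (x := (1 : F)) (y := -c 0) (by
            rw [Submodule.mem_bot]; linear_combination (norm := module) -hc)).1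
      · exact hbne (mem_line.2 ⟨(c 1)⁻¹, -(c 1)⁻¹ * c 0, by
          rw [mul_smul, neg_smul, ← sub_eq_add_neg, ← smul_sub, eq_inv_smul_iff₀ h0]
          linear_combination (norm := module) hc⟩))
    have hxθa : polar Q x (θ *ᵥ a) = 0 := hxW 0
    have hxb : polar Q x b = 0 := hxW 1
    have h5 := hrel x
    rw [hα, hβ, zero_smul, zero_add, one_smul, hg, act_sO, act_sO, hxa, hxb, hK.adj x a, hxa, hxθa] at h5
    simp only [mul_one, sub_zero, zero_add, one_smul] at h5
    rw [Matrix.mulVec_sub, Matrix.mulVec_add, Matrix.mulVec_smul] at h5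
    have h6 : (-p) • b + (1 : F) • θ *ᵥ b ∈ Submodule.span F (Set.range ![a, θ *ᵥ a]) :=
      mem_line.2 ⟨-(polar Q (θ *ᵥ x) b + Q b * p), Q b, by linear_combination (norm := module) -h5⟩
    exact one_ne_zero (stable_mem hK (line_stable hK a) hbne h6).2
  by_cases hne : ∀ g ∈ M, g ∈ Cfsg.Geo.subalgebraNormalizer K
  · exact Or.inl (le_antisymm (le_inf hne h2) h1)
  right
  push Not at hne
  obtain ⟨_, hgM, hgS⟩ := hne
  obtain ⟨g, -, rfl⟩ := h2 hgM
  set M' := M.comap (Cfsg.isometryGroup F (⇑Q)).subtype with hM'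
  have hR : ∀ (v : V) (hv : Q v = 0) (r : F), sO Q v (r • θ *ᵥ v) hv (line_orth hK hv r) ∈ M' := fun v hv r =>
    h1 (root_mem hK hv r)
  have hline : ∀ (v : V), Q v = 0 → ∀ r : F, Sm M' v (r • θ *ᵥ v) := fun v hv r => ⟨hv, _, hR v hv r⟩
  -- a transported root element off the lines
  obtain ⟨v, hv0, hv, hvg⟩ : ∃ v : V, v ≠ 0 ∧ Q v = 0 ∧
      act Q g (θ *ᵥ v) ∉ Submodule.span F (Set.range ![act Q g v, θ *ᵥ act Q g v]) := by
    by_contra hc
    push Not at hc
    refine hgS (normalizer_of_theta hK ?_)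
    set G := (g : GL ι F) with hG
    set A := (G : Mat) * θ * ((G⁻¹ : GL ι F) : Mat) with hA
    have hco : ∀ v : V, Q v = 0 → v ≠ 0 → ∃ a b : F, A *ᵥ v = a • v + b • θ *ᵥ v := fun v hv hv0 => by
      have h := hc (act Q g⁻¹ v) (fun e => hv0 (by rw [← act_inv Q g v, e]; exact Matrix.mulVec_zero _))
        (by rw [Q_act, hv])
      rw [act_inv] at h
      obtain ⟨a, b, hab⟩ := mem_line.1 h
      refine ⟨a, b, ?_⟩
      rw [← hab, hA, ← Matrix.mulVec_mulVec, ← Matrix.mulVec_mulVec]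
      rfl
    have pair : ∀ v w : V, Q v = 0 → Q w = 0 → v ≠ 0 → polar Q v w = 0 →
        w ∉ Submodule.span F (Set.range ![v, θ *ᵥ v]) → ∀ a b : F, A *ᵥ v = a • v + b • θ *ᵥ v →
        A *ᵥ w = a • w + b • θ *ᵥ w := by
      intro v w hv hw hv0 hvw hwne a b hab
      have hw0 : w ≠ 0 := fun e => hwne (by rw [e]; exact Submodule.zero_mem _)
      obtain ⟨a', b', hab'⟩ := hco w hw hw0
      obtain ⟨a'', b'', hab''⟩ := hco (v + w) (by rw [Q_add, hv, hw, hvw]; simp) (fun e => hwne (by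
        rw [eq_neg_of_add_eq_zero_right e]
        exact Submodule.neg_mem _ (Submodule.subset_span ⟨0, rfl⟩)))
      rw [Matrix.mulVec_add, hab, hab', Matrix.mulVec_add] at hab''
      obtain ⟨e1, e2⟩ := stable_mem hK (line_stable hK v) hwne (x := a' - a'') (y := b' - b'')
        (mem_line.2 ⟨a'' - a, b'' - b, by linear_combination (norm := module) hab''⟩)
      obtain ⟨e3, e4⟩ := stable_mem hK (S := ⊥) (fun x hx => by
        rw [(Submodule.mem_bot F).1 hx, Matrix.mulVec_zero]; exact Submodule.zero_mem _) (d := v)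
        (fun h => hv0 ((Submodule.mem_bot F).1 h)) (x := a - a'') (y := b - b'') (by
          rw [Submodule.mem_bot]
          rw [sub_eq_zero.1 e1, sub_eq_zero.1 e2] at hab''
          linear_combination (norm := module) hab'')
      rw [hab', sub_eq_zero.1 e1, sub_eq_zero.1 e2, sub_eq_zero.1 e3, sub_eq_zero.1 e4]
    obtain ⟨v₀, hv₀0, hv₀, -, -⟩ := avoid hK (![] : Fin 0 → V) (![] : Fin 0 → V) (by omega)
    obtain ⟨a, b, hab⟩ := hco v₀ hv₀ hv₀0
    let U : Submodule F (ι → F) := LinearMap.ker (Matrix.toLin' (A - (a • (1 : Mat) + b • θ)))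
    have hmemU : ∀ x : V, x ∈ U ↔ A *ᵥ x = a • x + b • θ *ᵥ x := fun x => by
      simp [U, Matrix.sub_mulVec, Matrix.add_mulVec, Matrix.smul_mulVec, sub_eq_zero]
    have hall : ∀ x : V, x ∈ U := fun x =>
      span_perp hK (![] : Fin 0 → V) (![] : Fin 0 → V) (by omega) U (fun e he _ hne => by
        have he0 : e ≠ 0 := fun e' => hne (by rw [e']; exact Submodule.zero_mem _)
        obtain ⟨x, hx0, hx, hxW, hxne⟩ := avoid hK ![v₀, e] ![v₀, θ *ᵥ v₀, e, θ *ᵥ e] (by omega)
        have h1 := pair v₀ x hv₀ hx hv₀0 (symm (hxW 0)) (fun hm => hxne (Submodule.span_mono (by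
          rintro _ ⟨i, rfl⟩; fin_cases i; exacts [⟨0, rfl⟩, ⟨1, rfl⟩]) hm)) a b hab
        refine (hmemU e).2 (pair x e hx he hx0 (hxW 1) (fun hm => hxne ?_) a b h1)
        obtain ⟨c, d, hcd⟩ := mem_line.1 hm
        by_contra hx'
        obtain ⟨e1, e2⟩ := stable_mem hK (line_stable hK e) (fun hm' => hx' (Submodule.span_mono (by
          rintro _ ⟨i, rfl⟩; fin_cases i; exacts [⟨2, rfl⟩, ⟨3, rfl⟩]) hm')) (x := c) (y := d)
          (mem_line.2 ⟨1, 0, by rw [← hcd]; simp⟩)
        exact he0 (by rw [hcd, e1, e2]; simp)) (x := x) fun i => i.elim0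
    have : A = a • (1 : Mat) + b • θ := sub_eq_zero.1 (Matrix.toLin'.injective (LinearMap.ext fun x => by
      rw [map_zero, LinearMap.zero_apply]; exact LinearMap.mem_ker.1 (hall x)))
    show A ∈ K
    rw [this]
    exact add_mem (K.smul_mem (one_mem K) a) (K.smul_mem hK.mem b)
  set u := act Q g v with hu
  set w := act Q g (θ *ᵥ v) with hw
  have hQu : Q u = 0 := by rw [hu, Q_act, hv]
  have hQw : Q w = 0 := by rw [hw, Q_act, hK.norm, hv, mul_zero]
  have hfam : ∀ r : F, Sm M' u (r • w) := fun r => by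
    have := (hline v hv r).map (g := g) hgM
    rwa [act_smul] at this
  have huw : polar Q u w = 0 := by rw [hu, hw, polar_act, self_line hK, hv, mul_zero]
  have hu0 : u ≠ 0 := fun e => hv0 (by rw [← act_inv' Q g v, ← hu, e]; exact Matrix.mulVec_zero _)
  have hw0 : w ≠ 0 := fun e => hvg (by rw [e]; exact Submodule.zero_mem _)
  have huw' : u ∉ Submodule.span F (Set.range ![w, θ *ᵥ w]) := fun hm => by
    obtain ⟨a, b, hab⟩ := mem_line.1 hm
    by_contra
    obtain ⟨e1, e2⟩ := stable_mem hK (line_stable hK u) hvg (x := a) (y := b) (mem_line.2 ⟨1, 0, by rw [← hab]; simp⟩)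
    exact hu0 (by rw [hab, e1, e2]; simp)
  -- a pair of orthogonal lines
  obtain ⟨c, hc, hcw, hcne, hcu⟩ : ∃ c, Q c = 0 ∧ (polar Q c w = 0 ∧ polar Q c (θ *ᵥ w) = 0) ∧
      c ∉ Submodule.span F (Set.range ![w, θ *ᵥ w]) ∧ (polar Q u c ≠ 0 ∨ polar Q u (θ *ᵥ c) ≠ 0) := by
    by_contra hc
    push Not at hc
    obtain ⟨e, he, he1⟩ := dualv hK ![w, θ *ᵥ w] huw'
    have := span_perp hK ![w, θ *ᵥ w] ![w, θ *ᵥ w] (by omega) (LinearMap.ker (polarBilin Q u)) (fun c hc' hcW hcne =>
      LinearMap.mem_ker.2 (hc c hc' ⟨hcW 0, hcW 1⟩ hcne).1) (x := e) he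
    rw [LinearMap.mem_ker] at this
    change polar Q u e = 0 at this
    rw [polar_comm, he1] at this
    exact one_ne_zero this
  set z := polar Q u c • θ *ᵥ c - polar Q u (θ *ᵥ c) • c with hz
  have hwc : polar Q w (θ *ᵥ c) = 0 := by
    rw [polar_comm, hK.adj c w, hcw.1, hcw.2]; ring
  have hzfam : ∀ r : F, Sm M' w (r • z) := fun r => by
    have hs := swap hK hQu hQw hfam 1
    rw [one_smul] at hs
    have h3 := hs.map (g := sO Q c (r • θ *ᵥ c) hc (line_orth hK hc r)) (hR c hc r)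
    rw [show act Q (sO Q c (r • θ *ᵥ c) hc (line_orth hK hc r)) w = w by
      rw [act_root hK hc, hwc, symm hcw.1]; simp, act_root hK hc] at h3
    have := h3.sub hs
    rwa [add_sub_cancel_left] at this
  have hzl : ∃ x y : F, z = x • c + y • θ *ᵥ c ∧ (x ≠ 0 ∨ y ≠ 0) :=
    ⟨-polar Q u (θ *ᵥ c), polar Q u c, by rw [hz]; module,
      hcu.elim Or.inr fun h => Or.inl (neg_ne_zero.2 h)⟩
  obtain ⟨zx, zy, hz', hzne⟩ := hzl
  have hQz : Q z = 0 := by
    rw [hz', Q_add, Q_smul, Q_smul, hK.norm, hc, polar_smul_left, polar_smul_right, self_line hK, hc]; simp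
  have hznw : z ∉ Submodule.span F (Set.range ![w, θ *ᵥ w]) := fun hm => by
    obtain ⟨e1, e2⟩ := stable_mem hK (line_stable hK w) hcne (hz' ▸ hm)
    exact hzne.elim (· e1) (· e2)
  have hzw1 : polar Q z w = 0 := by
    rw [hz', polar_add_left, polar_smul_left, polar_smul_left, hcw.1, polar_comm (⇑Q) (θ *ᵥ c) w, hwc]; simp
  have hzw2 : polar Q z (θ *ᵥ w) = 0 := by
    rw [hz', polar_add_left, polar_smul_left, polar_smul_left, hcw.2, polar_mul hK, hcw.1]; simp
  -- from one pair all orthogonal vectors of a line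
  have step : ∀ (w c : V), Q w = 0 → Q c = 0 → w ≠ 0 → polar Q c w = 0 → polar Q c (θ *ᵥ w) = 0 →
      c ∉ Submodule.span F (Set.range ![w, θ *ᵥ w]) → (∀ r : F, Sm M' w (r • c)) →
      ∀ x, polar Q x w = 0 → polar Q x (θ *ᵥ w) = 0 → ∀ r : F, Sm M' w (r • x) := by
    intro w c hw hQc hw0 hcw hcw' hcne hfam
    let G : Submodule F (ι → F) :=
      { carrier := {x | ∀ r : F, Sm M' w (r • x)}
        zero_mem' := fun r => by rw [smul_zero]; exact Sm.zero hw
        add_mem' := fun {x y} hx hy r => by rw [smul_add]; exact (hx r).add (hy r)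
        smul_mem' := fun a x hx r => by rw [smul_smul]; exact hx _ }
    have move : ∀ e x, Q e = 0 → polar Q e w = 0 → polar Q e (θ *ᵥ w) = 0 → x ∈ G →
        polar Q x e • θ *ᵥ e - polar Q x (θ *ᵥ e) • e ∈ G := by
      intro e x he hew hew' hx r
      have hs := hx 1
      rw [one_smul] at hs
      have hwe : polar Q w (θ *ᵥ e) = 0 := by rw [polar_comm, hK.adj e w, hew, hew']; ring
      have h3 := hs.map (g := sO Q e (r • θ *ᵥ e) he (line_orth hK he r)) (hR e he r)
      rw [show act Q (sO Q e (r • θ *ᵥ e) he (line_orth hK he r)) w = w by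
        rw [act_root hK he, hwe, symm hew]; simp, act_root hK he] at h3
      have := h3.sub hs
      rwa [add_sub_cancel_left] at this
    intro x hxw hxw'
    obtain ⟨v0, hv0, hv0'⟩ := dualv hK ![w, θ *ᵥ w, θ *ᵥ c] (z := c) (fun hm => by
      obtain ⟨f, hf⟩ := (Submodule.mem_span_range_iff_exists_fun F).1 hm
      simp [Fin.sum_univ_three] at hf
      exact one_ne_zero (stable_mem hK (line_stable hK w) hcne (x := (1 : F)) (y := -f 2)
        (mem_line.2 ⟨f 0, f 1, by linear_combination (norm := module) -hf⟩)).1)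
    obtain ⟨e0, he0, he0v⟩ := values hK ![w, θ *ᵥ w, c, θ *ᵥ c] v0 (by omega)
    have ew : polar Q e0 w = 0 := (he0v 0).trans (hv0 0)
    have ew' : polar Q e0 (θ *ᵥ w) = 0 := (he0v 1).trans (hv0 1)
    have ec : polar Q e0 c = 1 := (he0v 2).trans hv0'
    have ec' : polar Q e0 (θ *ᵥ c) = 0 := (he0v 3).trans (hv0 2)
    let L : (ι → F) →ₗ[F] (ι → F) := Matrix.toLin' θ - p • LinearMap.id
    have hL : ∀ y : V, L y = θ *ᵥ y - p • y := fun y => by simp [L]
    have hLe : ∀ e : V, Q e = 0 → polar Q e w = 0 → polar Q e (θ *ᵥ w) = 0 → polar Q e c = 1 →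
        polar Q e (θ *ᵥ c) = 0 → L e ∈ G := by
      intro e he hew hew' hec hec'
      have h3 := move e c he hew hew' hfam
      rw [polar_comm (⇑Q) c e, hec, polar_comm (⇑Q) c (θ *ᵥ e), hK.adj e c, hec, hec', mul_one, sub_zero,
        one_smul] at h3
      rwa [hL]
    let Φ : (ι → F) →ₗ[F] (ι → F) := L ∘ₗ (LinearMap.id - (polarBilin Q e0).smulRight c)
    have hΦ : ∀ y : V, Φ y = L (y - polar Q e0 y • c) := fun y => by simp [Φ]
    have hperp : ∀ y : V, polar Q y w = 0 → polar Q y (θ *ᵥ w) = 0 → polar Q y c = 0 →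
        polar Q y (θ *ᵥ c) = 0 → Φ y ∈ G := by
      intro y h1 h2 h3 h4
      refine span_perp hK ![w, θ *ᵥ w, c, θ *ᵥ c] (![] : Fin 0 → V) ⟨by omega, by omega⟩ (G.comap Φ)
        (fun y hy hyW _ => Submodule.mem_comap.2 ?_) (x := y) (fun i => by fin_cases i; exacts [h1, h2, h3, h4])
      set y' := y - polar Q e0 y • c with hy'
      have hy1 : polar Q y w = 0 := hyW 0
      have hy2 : polar Q y (θ *ᵥ w) = 0 := hyW 1
      have hy3 : polar Q y c = 0 := hyW 2
      have hy4 : polar Q y (θ *ᵥ c) = 0 := hyW 3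
      have hQy' : Q y' = 0 := by
        rw [hy', sub_eq_add_neg, ← neg_smul, Q_add, Q_smul, hy, hQc, polar_smul_right, hy3]; simp
      have hey' : polar Q e0 y' = 0 := by
        rw [hy', polar_sub_right, polar_smul_right, ec, smul_eq_mul, mul_one, sub_self]
      have h5 := hLe (e0 + y') (by rw [Q_add, he0, hQy', hey']; simp)
        (by rw [hy', polar_add_left, polar_sub_left, polar_smul_left, ew, hy1, hcw]; simp)
        (by rw [hy', polar_add_left, polar_sub_left, polar_smul_left, ew', hy2, hcw']; simp)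
        (by rw [hy', polar_add_left, polar_sub_left, polar_smul_left, ec, hy3, polar_diag, hQc]; simp)
        (by rw [hy', polar_add_left, polar_sub_left, polar_smul_left, ec', hy4, self_line hK, hQc]; simp)
      have h6 := G.sub_mem h5 (hLe e0 he0 ew ew' ec ec')
      rw [map_add, add_sub_cancel_left] at h6
      rwa [hΦ]
    refine span_perp hK ![w, θ *ᵥ w] ![w, θ *ᵥ w, c, θ *ᵥ c, e0, θ *ᵥ e0] ⟨by omega, by omega⟩ G
      (fun d hd hdW hdne => ?_) (x := x) (fun i => by fin_cases i; exacts [hxw, hxw'])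
    have hst : Stable θ (Submodule.span F (Set.range ![w, θ *ᵥ w, c, θ *ᵥ c, e0, θ *ᵥ e0])) := fun y hy => by
      obtain ⟨f, rfl⟩ := (Submodule.mem_span_range_iff_exists_fun F).1 hy
      refine (Submodule.mem_span_range_iff_exists_fun F).2
        ⟨![-(f 1 * N), f 0 + f 1 * p, -(f 3 * N), f 2 + f 3 * p, -(f 5 * N), f 4 + f 5 * p], ?_⟩
      simp [Fin.sum_univ_six, Matrix.mulVec_add, Matrix.mulVec_smul, hK.sq]
      module
    obtain ⟨v2, hv2, hv2'⟩ := dualv hK ![w, θ *ᵥ w, c, θ *ᵥ c, e0, θ *ᵥ d] (z := d) (fun hm => by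
      obtain ⟨f, hf⟩ := (Submodule.mem_span_range_iff_exists_fun F).1 hm
      simp [Fin.sum_univ_six] at hf
      obtain ⟨e1, -⟩ := stable_mem hK hst hdne (x := (1 : F)) (y := -f 5)
        ((Submodule.mem_span_range_iff_exists_fun F).2 ⟨![f 0, f 1, f 2, f 3, f 4, 0], by
          simp [Fin.sum_univ_six]; linear_combination (norm := module) hf⟩)
      exact one_ne_zero e1)
    have h0 : polar Q e0 v2 = 0 := by rw [polar_comm]; exact hv2 4
    have h7 := G.smul_mem (-N⁻¹) (hperp v2 (hv2 0) (hv2 1) (hv2 2) (hv2 3))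
    rw [hΦ, h0, zero_smul, sub_zero, ← map_smul] at h7
    have h8 := move d _ hd (hdW 0) (hdW 1) h7
    have hvd : polar Q v2 (θ *ᵥ d) = 0 := hv2 5
    have d1 : polar Q (L ((-N⁻¹) • v2)) d = 0 := by
      rw [hL, polar_sub_left, polar_smul_left, hK.adj, polar_smul_left, polar_smul_left, hvd]
      simp
    have d2 : polar Q (L ((-N⁻¹) • v2)) (θ *ᵥ d) = -1 := by
      rw [hL, polar_sub_left, polar_smul_left, polar_mul hK, polar_smul_left, polar_smul_left, hv2', hvd]
      simp [mul_inv_cancel₀ hK.ne]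
    rwa [d1, d2, zero_smul, zero_sub, neg_smul, neg_neg, one_smul] at h8
  have hwne : ∀ {x y : V}, x ∉ Submodule.span F (Set.range ![y, θ *ᵥ y]) → y ≠ 0 →
      y ∉ Submodule.span F (Set.range ![x, θ *ᵥ x]) := fun {x y} h hy hm => by
    obtain ⟨a, b, hab⟩ := mem_line.1 hm
    obtain ⟨e1, e2⟩ := stable_mem hK (line_stable hK y) h (x := a) (y := b) (mem_line.2 ⟨1, 0, by rw [← hab]; simp⟩)
    exact hy (by rw [hab, e1, e2]; simp)
  have symm2 : ∀ {x y : V}, polar Q x y = 0 → polar Q x (θ *ᵥ y) = 0 → polar Q y (θ *ᵥ x) = 0 :=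
    fun {x y} e1 e2 => by rw [polar_comm, hK.adj x y, e1, e2]; ring
  let Full : V → Prop := fun x => ∀ y, polar Q y x = 0 → polar Q y (θ *ᵥ x) = 0 → ∀ r : F, Sm M' x (r • y)
  have prop : ∀ w x : V, Full w → Q w = 0 → w ≠ 0 → Q x = 0 → polar Q x w = 0 → polar Q x (θ *ᵥ w) = 0 →
      x ∉ Submodule.span F (Set.range ![w, θ *ᵥ w]) → Full x := fun w x hF hw hw0 hx hxw hxw' hne =>
    step x w hx hw (fun e => hne (by rw [e]; exact Submodule.zero_mem _)) (symm hxw) (symm2 hxw hxw')
      (hwne hne hw0) (swap hK hw hx (hF x hxw hxw'))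
  have hFw : Full w := step w z hQw hQz hw0 hzw1 hzw2 hznw hzfam
  have full : ∀ x, Q x = 0 → x ≠ 0 → Full x := by
    intro x hx hx0
    obtain ⟨e, he0, he, heW, hene⟩ := avoid hK ![w, θ *ᵥ w, x, θ *ᵥ x] ![w, θ *ᵥ w, x, θ *ᵥ x] (by omega)
    have hne1 : e ∉ Submodule.span F (Set.range ![w, θ *ᵥ w]) := fun hm => hene (Submodule.span_mono (by
      rintro _ ⟨i, rfl⟩; fin_cases i; exacts [⟨0, rfl⟩, ⟨1, rfl⟩]) hm)
    have hne2 : e ∉ Submodule.span F (Set.range ![x, θ *ᵥ x]) := fun hm => hene (Submodule.span_mono (by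
      rintro _ ⟨i, rfl⟩; fin_cases i; exacts [⟨2, rfl⟩, ⟨3, rfl⟩]) hm)
    exact prop e x (prop w e hFw hQw hw0 he (heW 0) (heW 1) hne1) he he0 hx (symm (heW 2))
      (symm2 (heW 2) (heW 3)) (hwne hne2 hx0)
  have scen : ∀ x, Q x = 0 → SCen Q M' x := by
    intro x hx
    rcases eq_or_ne x 0 with rfl | hx0
    · refine ⟨hx, fun b hb => ?_⟩
      rw [show sO Q 0 b hx hb = 1 from O_ext Q fun z => by
        rw [act_sO, show act Q (1 : O Q) z = z from Matrix.one_mulVec z]; simp]
      exact one_mem _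
    obtain ⟨u, hu0, hu, huW, hune⟩ := avoid hK ![x, θ *ᵥ x] ![x, θ *ᵥ x] (by omega)
    obtain ⟨y0, hy0, hy0'⟩ := dualv hK ![u, θ *ᵥ u, x] (z := θ *ᵥ x) (fun hm => by
      obtain ⟨f, hf⟩ := (Submodule.mem_span_range_iff_exists_fun F).1 hm
      simp [Fin.sum_univ_three] at hf
      exact one_ne_zero (stable_mem hK (line_stable hK u) (hwne hune hx0) (x := -f 2) (y := (1 : F))
        (mem_line.2 ⟨f 0, f 1, by linear_combination (norm := module) -hf⟩)).2)
    obtain ⟨y, hy, hy'⟩ := dualv hK ![x, θ *ᵥ x] hune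
    obtain ⟨_, hab, hm⟩ := full u hu hu0 y0 (hy0 0) (hy0 1) 1
    set g := sO Q u ((1 : F) • y0) hu hab with hg
    have hgx : act Q g x = x := by
      rw [hg, act_sO, polar_comm (⇑Q) x u, show polar Q u x = 0 from huW 0, one_smul, polar_comm (⇑Q) x y0,
        show polar Q y0 x = 0 from hy0 2]
      simp
    have hgy1 : polar Q (act Q g y) x = 0 := by
      have h := polar_act Q g y x
      rwa [hgx, show polar Q y x = 0 from hy 0] at h
    have hgy2 : polar Q (act Q g y) (θ *ᵥ x) = 1 := by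
      rw [hg, act_sO, one_smul, polar_sub_left, polar_add_left, polar_smul_left, polar_smul_left, hy',
        show polar Q y (θ *ᵥ x) = 0 from hy 1, show polar Q u (θ *ᵥ x) = 0 from huW 1, hy0']
      simp
    refine ⟨hx, fun b hb => ?_⟩
    have h1 := (full x hx hx0 y (hy 0) (hy 1) (polar Q b (θ *ᵥ x))).map (g := g) hm
    rw [hgx, act_smul] at h1
    have h2 := full x hx hx0 (b - polar Q b (θ *ᵥ x) • act Q g y)
      (by rw [polar_sub_left, polar_smul_left, hgy1, polar_comm, hb]; simp)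
      (by rw [polar_sub_left, polar_smul_left, hgy2]; simp) 1
    rw [one_smul] at h2
    have h3 := h2.add h1
    rw [sub_add_cancel] at h3
    exact h3.2.2
  refine le_antisymm h2 ?_
  rintro _ ⟨k, hk, rfl⟩
  exact E_le Q hK.nd hn scen hk

end Cfsg.Agent.Classical.OverfieldOrth
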