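import Cfsg.Agent.Lib.Classical.OverfieldOrth
import Cfsg.Agent.Lib.Classical.Symplectic

/-!
Unitary overfield normalisers are maximal in symplectic groups: one transvection, then all.
-/

set_option autoImplicit false
set_option linter.unusedSectionVars false
set_option maxHeartbeats 1600000

open Module Matrix QuadraticMap

namespace Cfsg.Agent.Classical.OverfieldSymp

open OverfieldOrth

variable {F : Type*} [Field F] [Fintype F] {ι : Type} [Fintype ι] [DecidableEq ι]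

local notation "V" => ι → F
local notation "Mat" => Matrix ι ι F

/-- A symplectic space with a skew element of a quadratic extension. -/
structure US (B : LinearMap.BilinForm F (ι → F)) (Q : QuadraticForm F (ι → F))
    (K : Subalgebra F (Matrix ι ι F)) (θ : Matrix ι ι F) (D : F) : Prop where
  alt : B.IsAlt
  ks : KS Q K θ 0 (-D)
  two : (2 : F) ≠ 0
  nd : Sp.Nondeg B
  adj : ∀ x y : V, B (θ *ᵥ x) y = -B x (θ *ᵥ y)
  quad : ∀ x : V, Q x = B x (θ *ᵥ x)

variable {B : LinearMap.BilinForm F (ι → F)} {Q : QuadraticForm F (ι → F)}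
variable {K : Subalgebra F (Matrix ι ι F)} {θ : Matrix ι ι F} {D : F} (hU : US B Q K θ D)

include hU

theorem sq (x : V) : θ *ᵥ (θ *ᵥ x) = D • x := by rw [hU.ks.sq]; module

theorem D_ne : D ≠ 0 := neg_ne_zero.1 hU.ks.ne

theorem symm (x y : V) : B y (θ *ᵥ x) = B x (θ *ᵥ y) := by
  rw [Sp.alt_neg B hU.alt (θ *ᵥ x) y, hU.adj, neg_neg]

theorem theta_both (x y : V) : B (θ *ᵥ x) (θ *ᵥ y) = -(D * B x y) := by
  rw [hU.adj, sq hU, map_smul, smul_eq_mul]

theorem polar_eq (x y : V) : polar Q x y = 2 * B x (θ *ᵥ y) := by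
  simp only [polar, hU.quad, Matrix.mulVec_add, map_add, LinearMap.add_apply, symm hU x y]
  ring

theorem polar_theta (x y : V) : polar Q x (θ *ᵥ y) = 2 * D * B x y := by
  rw [polar_eq hU, sq hU, map_smul, smul_eq_mul]; ring

theorem norm_ne {x y : F} (h : x ≠ 0 ∨ y ≠ 0) : x ^ 2 - D * y ^ 2 ≠ 0 := fun e => by
  obtain ⟨e1, e2⟩ := hU.ks.irred x y (by linear_combination e)
  exact h.elim (· e1) (· e2)

omit hU in
theorem tcomm (hA : B.IsAlt) {u v : V} (h : B u v = 0) (s t : F) :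
    Sp.T B hA u s * Sp.T B hA v t = Sp.T B hA v t * Sp.T B hA u s := by
  refine Sp.Grp.ext' B fun z => ?_
  have h' : B v u = 0 := by rw [Sp.alt_neg B hA u v, h, neg_zero]
  simp [Sp.Grp.mul_apply, h, h']
  module

/-- The unitary transvection of a singular vector. -/
def P (w : V) (s : F) : Sp.Grp B := Sp.T B hU.alt (θ *ᵥ w) s * Sp.T B hU.alt w (-(D * s))

theorem P_apply {w : V} (hw : Q w = 0) (s : F) (z : V) :
    ((P hU w s : Sp.Grp B) : V ≃ₗ[F] V) z = z + s • (B z (θ *ᵥ w) • θ *ᵥ w - (D * B z w) • w) := by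
  have h : B w (θ *ᵥ w) = 0 := by rw [← hU.quad, hw]
  simp [P, Sp.Grp.mul_apply, h]
  module

theorem P_comm {w : V} (hw : Q w = 0) (s : F) (z : V) :
    ((P hU w s : Sp.Grp B) : V ≃ₗ[F] V) (θ *ᵥ z) = θ *ᵥ ((P hU w s : Sp.Grp B) : V ≃ₗ[F] V) z := by
  rw [P_apply hU hw, P_apply hU hw, theta_both hU, hU.adj, Matrix.mulVec_add, Matrix.mulVec_smul, Matrix.mulVec_sub,
    Matrix.mulVec_smul, Matrix.mulVec_smul, sq hU]
  module

/-- All elements commuting with the extension. -/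
def Dat (θ : Matrix ι ι F) (M : Subgroup (Sp.Grp B)) : Prop :=
  ∀ X : Sp.Grp B, (∀ x : V, (X : V ≃ₗ[F] V) (θ *ᵥ x) = θ *ᵥ (X : V ≃ₗ[F] V) x) → X ∈ M

variable {M : Subgroup (Sp.Grp B)} (hM : Dat θ M)

include hM

theorem P_mem {w : V} (hw : Q w = 0) (s : F) : P hU w s ∈ M := hM _ (P_comm hU hw s)

/-- A unitary transvection fixing one vector and moving another. -/
theorem pick {k : ℕ} (A : Fin k → V) (hk : k ≤ 4) (hA : Stable θ (Submodule.span F (Set.range A))) {a b : V}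
    (ha : a ∉ Submodule.span F (Set.range ![b, θ *ᵥ b])) :
    ∃ X ∈ M, ∃ c : V, (X : V ≃ₗ[F] V) b = b ∧ B b c = 0 ∧ (X : V ≃ₗ[F] V) a = a + c ∧ B a c ≠ 0 ∧
      c ∉ Submodule.span F (Set.range A) := by
  have hbig := hU.ks.big
  obtain ⟨w, hw, hwb, hwA, hwa⟩ : ∃ w, Q w = 0 ∧ (polar Q w b = 0 ∧ polar Q w (θ *ᵥ b) = 0) ∧
      w ∉ Submodule.span F (Set.range A) ∧ (B a (θ *ᵥ w) ≠ 0 ∨ B a w ≠ 0) := by
    by_contra hc
    push Not at hc
    obtain ⟨e, he, he1⟩ := dualv hU.ks ![b, θ *ᵥ b] ha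
    have := span_perp hU.ks ![b, θ *ᵥ b] A ⟨by omega, by omega⟩ (LinearMap.ker (polarBilin Q a))
      (fun c hc' hcW hcne => LinearMap.mem_ker.2 (by
        show polar Q a c = 0
        rw [polar_eq hU, (hc c hc' ⟨hcW 0, hcW 1⟩ hcne).1, mul_zero])) (x := e) he
    rw [LinearMap.mem_ker] at this
    change polar Q a e = 0 at this
    rw [polar_comm, he1] at this
    exact one_ne_zero this
  have e1 : B b (θ *ᵥ w) = 0 := by
    have := hwb.1
    rw [polar_eq hU, mul_eq_zero] at this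
    rw [symm hU]; exact this.resolve_left hU.two
  have e2 : B b w = 0 := by
    have := hwb.2
    rw [polar_theta hU, mul_eq_zero] at this
    rw [Sp.alt_neg B hU.alt w b, this.resolve_left (mul_ne_zero hU.two (D_ne hU)), neg_zero]
  refine ⟨P hU w 1, P_mem hU hM hw 1, B a (θ *ᵥ w) • θ *ᵥ w - (D * B a w) • w, ?_, ?_, ?_, ?_, fun hm => ?_⟩
  · rw [P_apply hU hw, e1, e2]; module
  · rw [map_sub, map_smul, map_smul, e1, e2]; simp
  · rw [P_apply hU hw, one_smul]
  · rw [map_sub, map_smul, map_smul, smul_eq_mul, smul_eq_mul,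
      show B a (θ *ᵥ w) * B a (θ *ᵥ w) - D * B a w * B a w = B a (θ *ᵥ w) ^ 2 - D * B a w ^ 2 by ring]
    exact norm_ne hU hwa
  · obtain ⟨h1, h2⟩ := stable_mem hU.ks hA hwA (x := -(D * B a w)) (y := B a (θ *ᵥ w)) (by
      rw [show -(D * B a w) • w + B a (θ *ᵥ w) • θ *ᵥ w = B a (θ *ᵥ w) • θ *ᵥ w - (D * B a w) • w by module]
      exact hm)
    exact hwa.elim (· h2) (· ((mul_eq_zero.1 (neg_eq_zero.1 h1)).resolve_left (D_ne hU)))

/-- The product of two transported elements gives a transvection or a plane reflection. -/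
theorem tv_or_refl {a b c : V} (hab : B a b = 0)
    (hA : ∀ s : F, Sp.T B hU.alt b s * Sp.T B hU.alt a (-(D * s)) ∈ M) {X : Sp.Grp B} (hX : X ∈ M)
    (hXb : (X : V ≃ₗ[F] V) b = b) (hbc : B b c = 0) (hXa : (X : V ≃ₗ[F] V) a = a + c) (hac : B a c ≠ 0) :
    (∃ s : F, s ≠ 0 ∧ Sp.T B hU.alt b s ∈ M) ∨
      ∃ J ∈ M, ∃ Y ∈ M, (∀ z, (J : V ≃ₗ[F] V) z = z - (2 / B a c) • (B z c • a - B z a • c)) ∧
        (∀ z, B z a = 0 → B z c = 0 → (Y : V ≃ₗ[F] V) z = z) ∧ B ((Y : V ≃ₗ[F] V) a) a ≠ 0 := by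
  set κ := B a c with hκ
  have hD := D_ne hU
  set t : F := 2 / (D * κ) ^ 2 with ht
  have ht' : (-D) * (-(D * t)) * κ ^ 2 = 2 := by rw [ht]; field_simp
  have hA' : Sp.T B hU.alt b t * Sp.T B hU.alt (a + c) (-(D * t)) ∈ M := by
    have h := mul_mem (mul_mem hX (hA t)) (inv_mem hX)
    rwa [show X * (Sp.T B hU.alt b t * Sp.T B hU.alt a (-(D * t))) * X⁻¹ =
      (X * Sp.T B hU.alt b t * X⁻¹) * (X * Sp.T B hU.alt a (-(D * t)) * X⁻¹) by group, Sp.conj_T, Sp.conj_T,
      hXb, hXa] at h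
  have hba : B b a = 0 := by rw [Sp.alt_neg B hU.alt a b, hab, neg_zero]
  have hba' : B b (a + c) = 0 := by rw [map_add, hba, hbc, add_zero]
  set Y := Sp.T B hU.alt a (-D) * Sp.T B hU.alt (a + c) (-(D * t)) with hY
  have hprod : Sp.T B hU.alt b (1 + t) * Y ∈ M := by
    have h := mul_mem (hA 1) hA'
    rwa [mul_one, mul_assoc, ← mul_assoc (Sp.T B hU.alt a (-D)), tcomm hU.alt hab, mul_assoc, ← mul_assoc,
      Sp.T_add] at h
  have hca : B c a = -κ := Sp.alt_neg B hU.alt a c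
  have hYz : ∀ z, (Y : V ≃ₗ[F] V) z = z + (-D * (B z a + -(D * t) * B z (a + c) * -κ)) • a +
      (-(D * t) * B z (a + c)) • (a + c) := fun z => by
    rw [hY, Sp.Grp.mul_apply, Sp.T_apply, Sp.T_apply]
    simp only [map_add, map_smul, LinearMap.add_apply, LinearMap.smul_apply, smul_eq_mul, hU.alt.self_eq_zero, hca]
    module
  have hJ : ∀ z, ((Y * Y : Sp.Grp B) : V ≃ₗ[F] V) z = z - (2 / κ) • (B z c • a - B z a • c) := fun z => by
    have e : 2 / κ = (-D) * (-(D * t)) * κ := by rw [div_eq_iff hac]; linear_combination -ht'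
    rw [Sp.Grp.mul_apply, hYz, hYz, e]
    simp only [map_add, map_smul, LinearMap.add_apply, LinearMap.smul_apply, smul_eq_mul, hU.alt.self_eq_zero, hca,
      ← hκ]
    match_scalars
    · ring
    · linear_combination (D * B z a + D * B z a * t + D * t * B z c + D ^ 2 * B z a * t * κ + D ^ 2 * t * B z c * κ) * ht'
    · linear_combination (D * t * (B z a + B z c)) * ht'
  by_cases h0 : 1 + t = 0
  · rw [h0, Sp.T_zero, one_mul] at hprod
    refine Or.inr ⟨Y * Y, mul_mem hprod hprod, Y, hprod, hJ, fun z h1 h2 => ?_, ?_⟩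
    · rw [hYz, map_add, h1, h2]; module
    · rw [hYz]
      simp only [map_add, map_smul, LinearMap.add_apply, LinearMap.smul_apply, smul_eq_mul, hU.alt.self_eq_zero, hca,
        ← hκ]
      have : -(D * t) * κ * κ ≠ 0 := by
        intro e
        exact hU.two (by linear_combination -ht' + (-D) * e)
      intro e
      exact this (by linear_combination -e)
  · left
    have hcomm : Commute (Sp.T B hU.alt b (1 + t)) Y :=
      (Commute.mul_right (tcomm hU.alt hba _ _) (tcomm hU.alt hba' _ _))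
    have h4 := pow_mem hprod 4
    rw [hcomm.mul_pow] at h4
    have hY4 : Y ^ 4 = 1 := by
      rw [show 4 = 2 * 2 from rfl, pow_mul, pow_two Y, pow_two]
      refine Sp.Grp.ext' B fun z => ?_
      rw [Sp.Grp.mul_apply, hJ, hJ]
      show _ = z
      simp only [map_sub, map_smul, LinearMap.sub_apply, LinearMap.smul_apply, smul_eq_mul, hU.alt.self_eq_zero,
        hca, ← hκ]
      match_scalars <;> field_simp <;> ring
    rw [hY4, mul_one, show 4 = 2 * 2 from rfl, pow_mul, pow_two (Sp.T B hU.alt b (1 + t)), Sp.T_add, pow_two,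
      Sp.T_add] at h4
    refine ⟨_, ?_, h4⟩
    rw [← two_mul, ← two_mul]
    exact mul_ne_zero hU.two (mul_ne_zero hU.two h0)

/-- A single transvection from a moved line. -/
theorem exists_transv {a b : V} (hab : B a b = 0) (ha : a ∉ Submodule.span F (Set.range ![b, θ *ᵥ b]))
    (hb : b ≠ 0) (hA : ∀ s : F, Sp.T B hU.alt b s * Sp.T B hU.alt a (-(D * s)) ∈ M) :
    ∃ (r : V) (s : F), r ≠ 0 ∧ s ≠ 0 ∧ Sp.T B hU.alt r s ∈ M := by
  obtain ⟨X, hX, c, hXb, hbc, hXa, hac, -⟩ := pick hU hM (k := 0) ![] (by omega)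
    (fun x hx => by
      rw [show Set.range (![] : Fin 0 → V) = ∅ from Set.range_eq_empty _, Submodule.span_empty,
        Submodule.mem_bot] at hx ⊢
      rw [hx, Matrix.mulVec_zero]) ha
  rcases tv_or_refl hU hM hab hA hX hXb hbc hXa hac with ⟨s, hs, h⟩ | ⟨J, hJ, Y, hY, hJz, hYfix, hYa⟩
  · exact ⟨b, s, hb, hs, h⟩
  have hst : Stable θ (Submodule.span F (Set.range ![a, θ *ᵥ a, c, θ *ᵥ c])) := fun y hy => by
    obtain ⟨f, rfl⟩ := (Submodule.mem_span_range_iff_exists_fun F).1 hy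
    refine (Submodule.mem_span_range_iff_exists_fun F).2 ⟨![f 1 * D, f 0, f 3 * D, f 2], ?_⟩
    simp [Fin.sum_univ_four, Matrix.mulVec_add, Matrix.mulVec_smul, sq hU]
    module
  obtain ⟨X', hX', c', hXb', hbc', hXa', hac', hc'⟩ := pick hU hM _ le_rfl hst ha
  rcases tv_or_refl hU hM hab hA hX' hXb' hbc' hXa' hac' with ⟨s, hs, h⟩ | ⟨J', hJ', -, -, hJz', -, -⟩
  · exact ⟨b, s, hb, hs, h⟩
  set κ := B a c with hκ
  set κ' := B a c' with hκ'
  set μ := κ⁻¹ * κ'⁻¹ * B c' c with hμ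
  set r := κ'⁻¹ • c' - κ⁻¹ • c - μ • a with hr
  have hca : B c a = -κ := Sp.alt_neg B hU.alt a c
  have hca' : B c' a = -κ' := Sp.alt_neg B hU.alt a c'
  have hra : B r a = 0 := by
    rw [hr]; simp [hca, hca', hU.alt.self_eq_zero, inv_mul_cancel₀ hac, inv_mul_cancel₀ hac']
  have hrc : B r c = 0 := by
    rw [hr, hμ]; simp [hU.alt.self_eq_zero, ← hκ]
    field_simp
    ring
  have hr0 : r ≠ 0 := fun e => hc' ((Submodule.mem_span_range_iff_exists_fun F).2
    ⟨![κ' * μ, 0, κ' * κ⁻¹, 0], by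
      simp [Fin.sum_univ_four]
      have : κ' • r = 0 := by rw [e, smul_zero]
      rw [hr, smul_sub, smul_sub, smul_inv_smul₀ hac', smul_smul, smul_smul] at this
      linear_combination (norm := module) -this⟩)
  have har : B a r = 0 := by rw [Sp.alt_neg B hU.alt r a, hra, neg_zero]
  set U := J' * J with hU'
  have hUz : ∀ z, (U : V ≃ₗ[F] V) z = z - (2 : F) • (B z r • a + B z a • r) := fun z => by
    rw [hU', Sp.Grp.mul_apply, hJz', hJz, hr, hμ]
    simp only [map_sub, map_smul, LinearMap.sub_apply, LinearMap.smul_apply, smul_eq_mul, hU.alt.self_eq_zero,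
      Sp.alt_neg B hU.alt c' c, hca, hca', ← hκ, ← hκ']
    match_scalars <;> field_simp <;> ring
  have hYr : (Y : V ≃ₗ[F] V) r = r := hYfix r hra hrc
  set a₁ := (Y : V ≃ₗ[F] V) a with ha₁
  have har1 : B a₁ r = 0 := by
    have h := Sp.Grp.map_form Y a r
    rw [hYr, ← ha₁, har] at h; exact h
  have hra1 : B r a₁ = 0 := by rw [Sp.alt_neg B hU.alt a₁ r, har1, neg_zero]
  set U₁ := Y * U * Y⁻¹ with hU₁
  have hU₁z : ∀ z, (U₁ : V ≃ₗ[F] V) z = z - (2 : F) • (B z r • a₁ + B z a₁ • r) := fun z => by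
    obtain ⟨z₀, rfl⟩ : ∃ z₀, (Y : V ≃ₗ[F] V) z₀ = z := (Y : V ≃ₗ[F] V).surjective z
    have e : ((U₁ : Sp.Grp B) : V ≃ₗ[F] V) ((Y : V ≃ₗ[F] V) z₀) = (Y : V ≃ₗ[F] V) ((U : V ≃ₗ[F] V) z₀) := by
      rw [← Sp.Grp.mul_apply, ← Sp.Grp.mul_apply, hU₁, inv_mul_cancel_right]
    rw [e, hUz, map_sub, map_smul, map_add, map_smul, map_smul, hYr, ← ha₁]
    rw [← Sp.Grp.map_form Y z₀ r, ← Sp.Grp.map_form Y z₀ a, hYr]
  refine ⟨r, 8 * B a₁ a, hr0, mul_ne_zero ?_ hYa, ?_⟩
  · rw [show (8 : F) = 2 * 2 * 2 by norm_num]; exact mul_ne_zero (mul_ne_zero hU.two hU.two) hU.two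
  have hUM : U ∈ M := mul_mem hJ' hJ
  have hU₁M : U₁ ∈ M := mul_mem (mul_mem hY hUM) (inv_mem hY)
  have e : Sp.T B hU.alt r (8 * B a₁ a) * (U₁ * U) = U * U₁ := Sp.Grp.ext' B fun z => by
    simp only [Sp.Grp.mul_apply, Sp.T_apply, hUz, hU₁z]
    simp only [map_sub, map_add, map_smul, LinearMap.sub_apply, LinearMap.add_apply, LinearMap.smul_apply,
      smul_eq_mul, hU.alt.self_eq_zero, har, hra, har1, hra1, Sp.alt_neg B hU.alt a₁ a]
    module
  rw [eq_mul_inv_of_mul_eq e]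
  exact mul_mem (mul_mem hUM hU₁M) (inv_mem (mul_mem hU₁M hUM))

/-- From one transvection a singular centre with all parameters. -/
theorem full_of_one {b : V} {s₀ : F} (hb : b ≠ 0) (hs : s₀ ≠ 0) (h : Sp.T B hU.alt b s₀ ∈ M) :
    ∃ y : V, y ≠ 0 ∧ Q y = 0 ∧ ∀ s : F, Sp.T B hU.alt y s ∈ M := by
  have hbig := hU.ks.big
  obtain ⟨v, hv, hv1⟩ := dualv hU.ks ![θ *ᵥ b] (z := b) (fun hm => by
    obtain ⟨f, hf⟩ := (Submodule.mem_span_range_iff_exists_fun F).1 hm
    simp [Fin.sum_univ_one] at hf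
    exact one_ne_zero (stable_mem hU.ks (S := ⊥) (fun x hx => by
      rw [(Submodule.mem_bot F).1 hx, Matrix.mulVec_zero]; exact Submodule.zero_mem _) (d := b)
      (fun h => hb ((Submodule.mem_bot F).1 h)) (x := (1 : F)) (y := -f 0) (by
        rw [Submodule.mem_bot]; linear_combination (norm := module) -hf)).1)
  obtain ⟨w, hw, hwv⟩ := values hU.ks ![b, θ *ᵥ b] ((2 : F) • v) (by omega)
  have w1 : B b (θ *ᵥ w) = 1 := by
    have := hwv 0
    simp only [Matrix.cons_val_zero, polar_smul_left, hv1, smul_eq_mul, mul_one] at this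
    rw [polar_eq hU, mul_eq_left₀ hU.two] at this
    rw [symm hU]; exact this
  have w2 : B b w = 0 := by
    have := hwv 1
    simp only [Matrix.cons_val_one, Matrix.cons_val_zero, polar_smul_left] at this
    rw [show polar Q v (θ *ᵥ b) = 0 from hv 0, smul_zero, polar_theta hU, mul_eq_zero] at this
    rw [Sp.alt_neg B hU.alt w b, this.resolve_left (mul_ne_zero hU.two (D_ne hU)), neg_zero]
  obtain ⟨u, hu0, hu, huW, -⟩ := avoid hU.ks ![b, θ *ᵥ b, w, θ *ᵥ w] (![] : Fin 0 → V) (by omega)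
  have hB1 : ∀ x, polar Q u x = 0 → B u (θ *ᵥ x) = 0 ∧ B x (θ *ᵥ u) = 0 := fun x hx => by
    rw [polar_eq hU, mul_eq_zero] at hx
    exact ⟨hx.resolve_left hU.two, by rw [symm hU]; exact hx.resolve_left hU.two⟩
  have hB0 : ∀ x, polar Q u (θ *ᵥ x) = 0 → B u x = 0 ∧ B x u = 0 := fun x hx => by
    rw [polar_theta hU, mul_eq_zero] at hx
    have := hx.resolve_left (mul_ne_zero hU.two (D_ne hU))
    exact ⟨this, by rw [Sp.alt_neg B hU.alt u x, this, neg_zero]⟩
  obtain ⟨-, ub⟩ := hB1 b (huW 0)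
  obtain ⟨-, bu⟩ := hB0 b (huW 1)
  obtain ⟨uw, wu⟩ := hB1 w (huW 2)
  obtain ⟨uw', wu'⟩ := hB0 w (huW 3)
  have hQw' : Q (w + u) = 0 := by rw [Siegel.Q_add, hw, hu, polar_comm, show polar Q u w = 0 from huW 2]; simp
  have hmove : ∀ σ : F, Sp.T B hU.alt (b + σ • θ *ᵥ u) s₀ ∈ M := fun σ => by
    have hg := mul_mem (P_mem hU hM hQw' σ) (P_mem hU hM hw (-σ))
    have h3 := mul_mem (mul_mem hg h) (inv_mem hg)
    rw [Sp.conj_T] at h3
    convert h3 using 3
    have e1 : B (θ *ᵥ w) (θ *ᵥ u) = 0 := by rw [theta_both hU, wu', mul_zero, neg_zero]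
    have e2 : B (θ *ᵥ w) u = 0 := by rw [Sp.alt_neg B hU.alt u (θ *ᵥ w), uw, neg_zero]
    have e3 : B (θ *ᵥ w) w = 0 := by rw [hU.adj, ← hU.quad, hw, neg_zero]
    rw [Sp.Grp.mul_apply, P_apply hU hw, P_apply hU hQw']
    simp only [Matrix.mulVec_add, map_add, map_smul, map_sub, LinearMap.add_apply, LinearMap.smul_apply,
      LinearMap.sub_apply, smul_eq_mul, w1, w2, ub, bu, e1, e2, e3, hU.alt.self_eq_zero, theta_both hU]
    module
  have hby : B b (θ *ᵥ u) = 0 := ub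
  have hyb : B (θ *ᵥ u) b = 0 := by rw [Sp.alt_neg B hU.alt b (θ *ᵥ u), hby, neg_zero]
  have hsq : ∀ σ : F, Sp.T B hU.alt (θ *ᵥ u) (σ * σ * (2 * s₀)) ∈ M := fun σ => by
    have e : Sp.T B hU.alt (b + σ • θ *ᵥ u) s₀ * Sp.T B hU.alt (b + (-σ) • θ *ᵥ u) s₀ =
        Sp.T B hU.alt b (2 * s₀) * Sp.T B hU.alt (θ *ᵥ u) (σ * σ * (2 * s₀)) := Sp.Grp.ext' B fun z => by
      simp [Sp.Grp.mul_apply, hby, hyb, hU.alt.self_eq_zero]
      module
    have h3 : Sp.T B hU.alt b (2 * s₀) ∈ M := by rw [two_mul, ← Sp.T_add]; exact mul_mem h h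
    exact (mul_mem_cancel_left h3).1 (e ▸ mul_mem (hmove σ) (hmove (-σ)))
  refine ⟨θ *ᵥ u, fun e => hu0 ?_, by rw [hU.ks.norm, hu, mul_zero], fun s => ?_⟩
  · have := sq hU u
    rw [e, Matrix.mulVec_zero] at this
    exact (smul_eq_zero.1 this.symm).resolve_left (D_ne hU)
  obtain ⟨x, y, hxy⟩ := FiniteField.exists_root_sum_quadratic
    (f := Polynomial.X ^ 2 - Polynomial.C (s / (2 * s₀))) (g := (Polynomial.X ^ 2 : Polynomial F))
    (Polynomial.degree_X_pow_sub_C (by norm_num) _) (Polynomial.degree_X_pow 2) (by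
      rw [← Nat.odd_iff]
      by_contra hc
      rw [Nat.not_odd_iff_even] at hc
      obtain ⟨p, hp⟩ := CharP.exists F
      obtain ⟨n, hpp, hn⟩ := FiniteField.card F p
      have : p = 2 := by
        rw [hn] at hc
        exact (Nat.prime_dvd_prime_iff_eq Nat.prime_two hpp).1 (Nat.prime_two.dvd_of_dvd_pow hc.two_dvd) |>.symm
      subst this
      exact hU.two (by exact_mod_cast CharP.cast_eq_zero F 2))
  simp only [Polynomial.eval_sub, Polynomial.eval_pow, Polynomial.eval_X, Polynomial.eval_C] at hxy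
  have h3 := mul_mem (hsq x) (hsq y)
  rwa [Sp.T_add, show x * x * (2 * s₀) + y * y * (2 * s₀) = s by
    rw [← add_mul, show x * x + y * y = s / (2 * s₀) by linear_combination hxy,
      div_mul_cancel₀ _ (mul_ne_zero hU.two hs)]] at h3

/-- One singular centre gives all transvections. -/
theorem eq_top {y : V} (hy0 : y ≠ 0) (hy : Q y = 0) (hC : ∀ s : F, Sp.T B hU.alt y s ∈ M) : M = ⊤ := by
  have hbig := hU.ks.big
  have hD := D_ne hU
  have comb : ∀ {p q : V}, (∀ s : F, Sp.T B hU.alt p s ∈ M) → (∀ s : F, Sp.T B hU.alt q s ∈ M) → B p q ≠ 0 →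
      ∀ l : F, ∀ s : F, Sp.T B hU.alt (p + l • q) s ∈ M := fun {p q} hp hq hpq l s => by
    have h := mul_mem (mul_mem (hq (l / B p q)) (hp s)) (inv_mem (hq (l / B p q)))
    rwa [Sp.conj_T, Sp.T_apply, div_mul_cancel₀ _ hpq] at h
  have smul : ∀ {p : V}, (∀ s : F, Sp.T B hU.alt p s ∈ M) → ∀ l s : F, Sp.T B hU.alt (l • p) s ∈ M :=
    fun hp l s => by rw [Sp.T_smul]; exact hp _
  have reach : ∀ w u : V, (∀ s : F, Sp.T B hU.alt w s ∈ M) → Q u = 0 → B w u = 1 → B w (θ *ᵥ u) = 0 →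
      ∀ s : F, Sp.T B hU.alt u s ∈ M := by
    intro w u hw hu h1 h2 s
    have hv : Q (θ *ᵥ u) = 0 := by rw [hU.ks.norm, hu, mul_zero]
    have hP := P_mem hU hM hv 1
    have himg : ∀ s : F, Sp.T B hU.alt (w + (D * D) • u) s ∈ M := fun s => by
      have h := mul_mem (mul_mem hP (hw s)) (inv_mem hP)
      rw [Sp.conj_T, P_apply hU hv, sq hU, h2, map_smul, h1] at h
      convert h using 3
      simp only [smul_eq_mul]
      module
    have hne : B (w + (D * D) • u) w ≠ 0 := by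
      rw [map_add, LinearMap.add_apply, map_smul, LinearMap.smul_apply, hU.alt.self_eq_zero,
        Sp.alt_neg B hU.alt w u, h1]
      simpa using hD
    have h3 := smul (comb himg hw hne (-1)) (D * D)⁻¹ s
    rwa [show (D * D)⁻¹ • (w + (D * D) • u + (-1 : F) • w) = u by
      rw [show w + (D * D) • u + (-1 : F) • w = (D * D) • u by module, inv_smul_smul₀ (mul_ne_zero hD hD)]] at h3
  have sing1 : ∀ w x : V, Q w = 0 → w ≠ 0 → (∀ s : F, Sp.T B hU.alt w s ∈ M) → Q x = 0 →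
      x ∉ Submodule.span F (Set.range ![w, θ *ᵥ w]) → ∀ s : F, Sp.T B hU.alt x s ∈ M := by
    intro w x hw hw0 hCw hx hne
    have hnw : w ∉ Submodule.span F (Set.range ![x, θ *ᵥ x]) := fun hm => by
      obtain ⟨a, b, hab⟩ := mem_line.1 hm
      obtain ⟨e1, e2⟩ := stable_mem hU.ks (line_stable hU.ks w) hne (x := a) (y := b)
        (mem_line.2 ⟨1, 0, by rw [← hab]; simp⟩)
      exact hw0 (by rw [hab, e1, e2]; simp)
    obtain ⟨v1, hv1, hv1'⟩ := dualv hU.ks ![w, x, θ *ᵥ x] (z := θ *ᵥ w) (fun hm => by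
      obtain ⟨f, hf⟩ := (Submodule.mem_span_range_iff_exists_fun F).1 hm
      simp [Fin.sum_univ_three] at hf
      exact one_ne_zero (stable_mem hU.ks (line_stable hU.ks x) hnw (x := -f 0) (y := (1 : F))
        (mem_line.2 ⟨f 1, f 2, by linear_combination (norm := module) -hf⟩)).2)
    obtain ⟨v2, hv2, hv2'⟩ := dualv hU.ks ![w, θ *ᵥ w, x] (z := θ *ᵥ x) (fun hm => by
      obtain ⟨f, hf⟩ := (Submodule.mem_span_range_iff_exists_fun F).1 hm
      simp [Fin.sum_univ_three] at hf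
      exact one_ne_zero (stable_mem hU.ks (line_stable hU.ks w) hne (x := -f 2) (y := (1 : F))
        (mem_line.2 ⟨f 0, f 1, by linear_combination (norm := module) -hf⟩)).2)
    obtain ⟨u, hu, huv⟩ := values hU.ks ![w, θ *ᵥ w, x, θ *ᵥ x] ((-(2 * D)) • v1 + (2 * D) • v2) (by omega)
    have u0 : polar Q u w = 0 := (huv 0).trans (by
      show polar Q _ w = 0
      rw [polar_add_left, polar_smul_left, polar_smul_left, show polar Q v1 w = 0 from hv1 0,
        show polar Q v2 w = 0 from hv2 0]; simp)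
    have u1 : polar Q u (θ *ᵥ w) = -(2 * D) := (huv 1).trans (by
      show polar Q _ (θ *ᵥ w) = _
      rw [polar_add_left, polar_smul_left, polar_smul_left, hv1', show polar Q v2 (θ *ᵥ w) = 0 from hv2 1]; simp)
    have u2 : polar Q u x = 0 := (huv 2).trans (by
      show polar Q _ x = 0
      rw [polar_add_left, polar_smul_left, polar_smul_left, show polar Q v1 x = 0 from hv1 1,
        show polar Q v2 x = 0 from hv2 2]; simp)
    have u3 : polar Q u (θ *ᵥ x) = 2 * D := (huv 3).trans (by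
      show polar Q _ (θ *ᵥ x) = _
      rw [polar_add_left, polar_smul_left, polar_smul_left, hv2', show polar Q v1 (θ *ᵥ x) = 0 from hv1 2]; simp)
    rw [polar_eq hU, mul_eq_zero] at u0 u2
    rw [polar_theta hU] at u1 u3
    have h2D := mul_ne_zero hU.two hD
    have hCu := reach w u hCw hu (by
      rw [Sp.alt_neg B hU.alt u w]
      exact mul_left_cancel₀ h2D (by linear_combination -u1)) (by rw [symm hU]; exact u0.resolve_left hU.two)
    exact reach u x hCu hx (mul_left_cancel₀ h2D (by linear_combination u3)) (u2.resolve_left hU.two)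
  have sing : ∀ x : V, Q x = 0 → x ≠ 0 → ∀ s : F, Sp.T B hU.alt x s ∈ M := by
    intro x hx hx0
    obtain ⟨z, hz0, hz, -, hzne⟩ := avoid hU.ks (![] : Fin 0 → V) ![y, θ *ᵥ y, x, θ *ᵥ x] (by omega)
    have hzy : z ∉ Submodule.span F (Set.range ![y, θ *ᵥ y]) := fun hm => hzne (Submodule.span_mono (by
      rintro _ ⟨i, rfl⟩; fin_cases i; exacts [⟨0, rfl⟩, ⟨1, rfl⟩]) hm)
    have hzx : z ∉ Submodule.span F (Set.range ![x, θ *ᵥ x]) := fun hm => hzne (Submodule.span_mono (by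
      rintro _ ⟨i, rfl⟩; fin_cases i; exacts [⟨2, rfl⟩, ⟨3, rfl⟩]) hm)
    refine sing1 z x hz hz0 (sing1 y z hy hy0 hC hz hzy) hx fun hm => ?_
    obtain ⟨a, b, hab⟩ := mem_line.1 hm
    obtain ⟨e1, e2⟩ := stable_mem hU.ks (line_stable hU.ks x) hzx (x := a) (y := b)
      (mem_line.2 ⟨1, 0, by rw [← hab]; simp⟩)
    exact hx0 (by rw [hab, e1, e2]; simp)
  have all : ∀ (x : V) (s : F), Sp.T B hU.alt x s ∈ M := by
    intro x
    rcases eq_or_ne x 0 with rfl | hx0
    · intro s; rw [Sp.T_zero_vec]; exact one_mem M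
    by_cases hQx : Q x = 0
    · exact sing x hQx hx0
    have hx' : ∀ {a b : F}, a • x + b • θ *ᵥ x = 0 → a = 0 ∧ b = 0 := fun h =>
      stable_mem hU.ks (S := ⊥) (fun x hx => by
        rw [(Submodule.mem_bot F).1 hx, Matrix.mulVec_zero]; exact Submodule.zero_mem _) (d := x)
        (fun h => hx0 ((Submodule.mem_bot F).1 h)) ((Submodule.mem_bot F).2 h)
    obtain ⟨v1, hv1, hv1'⟩ := dualv hU.ks ![θ *ᵥ x] (z := x) (fun hm => by
      obtain ⟨f, hf⟩ := (Submodule.mem_span_range_iff_exists_fun F).1 hm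
      simp [Fin.sum_univ_one] at hf
      exact one_ne_zero (hx' (a := (1 : F)) (b := -f 0) (by linear_combination (norm := module) -hf)).1)
    obtain ⟨v2, hv2, hv2'⟩ := dualv hU.ks ![x] (z := θ *ᵥ x) (fun hm => by
      obtain ⟨f, hf⟩ := (Submodule.mem_span_range_iff_exists_fun F).1 hm
      simp [Fin.sum_univ_one] at hf
      exact one_ne_zero (hx' (a := -f 0) (b := (1 : F)) (by linear_combination (norm := module) -hf)).2)
    obtain ⟨u, hu, huv⟩ := values hU.ks ![x, θ *ᵥ x] (Q x • v1 + v2) (by omega)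
    have u0 : polar Q u x = Q x := (huv 0).trans (by
      show polar Q _ x = _
      rw [polar_add_left, polar_smul_left, hv1', show polar Q v2 x = 0 from hv2 0]; simp)
    have u1 : polar Q u (θ *ᵥ x) = 1 := (huv 1).trans (by
      show polar Q _ (θ *ᵥ x) = _
      rw [polar_add_left, polar_smul_left, hv2', show polar Q v1 (θ *ᵥ x) = 0 from hv1 0]; simp)
    have hu0 : u ≠ 0 := fun e => by
      rw [e, polar_zero_left] at u1; exact zero_ne_one u1
    rw [polar_theta hU] at u1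
    have hux : B u x ≠ 0 := fun e => by rw [e, mul_zero] at u1; exact zero_ne_one u1
    have hQ2 : Q (x - u) = 0 := by
      rw [sub_eq_add_neg, Siegel.Q_add, QuadraticMap.map_neg, polar_neg_right, polar_comm, u0, hu]; ring
    have hne : x - u ≠ 0 := fun e => hux (by rw [sub_eq_zero.1 e]; exact hU.alt.self_eq_zero u)
    intro s
    have h := comb (sing _ hQ2 hne) (sing u hu hu0) (p := x - u) (q := u) (by
      rw [map_sub, LinearMap.sub_apply, hU.alt.self_eq_zero, sub_zero, Sp.alt_neg B hU.alt u x]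
      exact neg_ne_zero.2 hux) 1 s
    rwa [one_smul, sub_add_cancel] at h
  rw [eq_top_iff, ← Sp.closure_tSet B hU.alt hU.nd, Subgroup.closure_le]
  rintro _ ⟨v, -, l, rfl⟩
  exact all v l

end Cfsg.Agent.Classical.OverfieldSymp
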