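import Cfsg.Agent.Lib.Classical.OverfieldSymp
import Cfsg.Agent.Lib.Classical.SymplecticMatrix

/-!
Unitary overfield normalisers are maximal in symplectic groups: the matrix groups.
-/

set_option autoImplicit false
set_option linter.unusedSectionVars false
set_option maxHeartbeats 1600000

open Module Matrix QuadraticMap

namespace Cfsg.Agent.Classical.OverfieldSymp

open OverfieldOrth MaxLin

variable {F : Type*} [Field F] [Fintype F] {m : ℕ}

local notation "ι" => Fin m ⊕ Fin m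
local notation "V" => ι → F
local notation "Mat" => Matrix ι ι F

theorem maximal {Q : QuadraticForm F (Fin m ⊕ Fin m → F)} {K : Subalgebra F (Matrix (Fin m ⊕ Fin m) (Fin m ⊕ Fin m) F)}
    {θ : Matrix (Fin m ⊕ Fin m) (Fin m ⊕ Fin m) F} {D : F} (hU : US (Sp.sympB F m) Q K θ D) :
    Cfsg.Geo.IsMaximalIn (Cfsg.spGL m F) (Cfsg.Geo.subalgebraNormalizer K ⊓ Cfsg.spGL m F) := by
  classical
  have hbig := hU.ks.big
  have zero2 : ∀ {x : V}, x ≠ 0 → ∀ {a b : F}, a • x + b • θ *ᵥ x = 0 → a = 0 ∧ b = 0 := fun {x} hx0 a b h =>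
    stable_mem hU.ks (S := ⊥) (fun x hx => by
      rw [(Submodule.mem_bot F).1 hx, Matrix.mulVec_zero]; exact Submodule.zero_mem _) (d := x)
      (fun h => hx0 ((Submodule.mem_bot F).1 h)) ((Submodule.mem_bot F).2 h)
  -- a pair in both worlds
  have down : ∀ X : Sp.Grp (Sp.sympB F m), ∃ A : GL ι F, A ∈ Cfsg.spGL m F ∧
      ∀ x, (X : V ≃ₗ[F] V) x = (A : Mat) *ᵥ x := fun X => by
    refine ⟨(Matrix.GeneralLinearGroup.toLin.symm
      (LinearMap.GeneralLinearGroup.ofLinearEquiv (X : V ≃ₗ[F] V))), fun u v => ?_, fun x => ?_⟩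
    · show Cfsg.sympForm m F (LinearMap.toMatrix' (X : V ≃ₗ[F] V).toLinearMap *ᵥ u)
        (LinearMap.toMatrix' (X : V ≃ₗ[F] V).toLinearMap *ᵥ v) = _
      rw [LinearMap.toMatrix'_mulVec, LinearMap.toMatrix'_mulVec, ← Sp.sympB_apply, ← Sp.sympB_apply]
      exact X.2 u v
    · show _ = LinearMap.toMatrix' (X : V ≃ₗ[F] V).toLinearMap *ᵥ x
      rw [LinearMap.toMatrix'_mulVec]; rfl
  refine ⟨lt_of_le_of_ne inf_le_right fun e => ?_, fun M h1 h2 => ?_⟩
  · obtain ⟨b, hb0, hb, -, -⟩ := avoid hU.ks (![] : Fin 0 → V) (![] : Fin 0 → V) (by omega)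
    have hbb : Sp.sympB F m b (θ *ᵥ b) = 0 := by rw [← hU.quad, hb]
    obtain ⟨A, hA, hAx⟩ := down (Sp.T _ hU.alt b 1)
    obtain ⟨α, β, hαβ⟩ := hU.ks.span _ (((e.ge hA).1 θ).1 hU.ks.mem)
    have hrel : ∀ x : V, (A : Mat) *ᵥ (θ *ᵥ x) = α • (A : Mat) *ᵥ x + β • θ *ᵥ ((A : Mat) *ᵥ x) := fun x => by
      have := congrArg (fun C : Mat => C *ᵥ ((A : Mat) *ᵥ x)) hαβ
      simp only [Matrix.add_mulVec, Matrix.smul_mulVec, Matrix.one_mulVec] at this
      rw [← this, ← Matrix.mulVec_mulVec, gl_inv_mulVec', ← Matrix.mulVec_mulVec]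
    simp only [← hAx, Sp.T_apply, one_mul] at hrel
    have h3 := hrel b
    rw [hU.alt.self_eq_zero, Sp.alt_neg _ hU.alt b (θ *ᵥ b), hbb] at h3
    simp only [neg_zero, zero_smul, add_zero] at h3
    obtain ⟨hα, hβ⟩ := zero2 hb0 (a := α) (b := β - 1) (by linear_combination (norm := module) -h3)
    obtain ⟨x, hx, hxb⟩ := dualv hU.ks ![b] (z := θ *ᵥ b) (fun hm => by
      obtain ⟨f, hf⟩ := (Submodule.mem_span_range_iff_exists_fun F).1 hm
      simp [Fin.sum_univ_one] at hf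
      exact one_ne_zero (zero2 hb0 (a := -f 0) (b := (1 : F)) (by linear_combination (norm := module) -hf)).2)
    rw [polar_theta hU] at hxb
    have hxb' : Sp.sympB F m x (θ *ᵥ b) = 0 := by
      have := (polar_eq hU x b).symm.trans (hx 0)
      exact (mul_eq_zero.1 this).resolve_left hU.two
    have h5 := hrel x
    rw [hα, sub_eq_zero.1 hβ, hU.adj, hxb'] at h5
    simp only [neg_zero, zero_smul, add_zero, zero_add, one_smul, Matrix.mulVec_add, Matrix.mulVec_smul] at h5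
    have hc : Sp.sympB F m x b ≠ 0 := fun e' => by rw [e', mul_zero] at hxb; exact zero_ne_one hxb
    exact hc (zero2 hb0 (a := 0) (b := Sp.sympB F m x b) (by linear_combination (norm := module) -h5)).2
  by_cases hne : ∀ g ∈ M, g ∈ Cfsg.Geo.subalgebraNormalizer K
  · exact Or.inl (le_antisymm (le_inf hne h2) h1)
  right
  push Not at hne
  obtain ⟨g, hgM, hgS⟩ := hne
  let M' : Subgroup (Sp.Grp (Sp.sympB F m)) :=
    { carrier := {X | ∃ A ∈ M, ∀ x, (X : V ≃ₗ[F] V) x = (A : Mat) *ᵥ x}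
      one_mem' := ⟨1, one_mem M, fun x => by simp⟩
      mul_mem' := by
        rintro X Y ⟨A, hA, eA⟩ ⟨A', hA', eA'⟩
        refine ⟨A * A', mul_mem hA hA', fun x => ?_⟩
        rw [Units.val_mul, ← Matrix.mulVec_mulVec, ← eA', ← eA]
        rfl
      inv_mem' := by
        rintro X ⟨A, hA, eA⟩
        refine ⟨A⁻¹, inv_mem hA, fun x => (X : V ≃ₗ[F] V).injective ?_⟩
        rw [eA (((A⁻¹ : GL ι F) : Mat) *ᵥ x), gl_inv_mulVec]
        exact (X : V ≃ₗ[F] V).apply_symm_apply x }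
  have hM : Dat θ M' := fun X hX => by
    obtain ⟨A, hA, hAx⟩ := down X
    refine ⟨A, h1 ⟨normalizer_of_theta hU.ks ?_, hA⟩, hAx⟩
    rw [show (A : Mat) * θ = θ * (A : Mat) from Matrix.toLin'.injective (LinearMap.ext fun x => by
      rw [Matrix.toLin'_apply, Matrix.toLin'_apply, ← Matrix.mulVec_mulVec, ← Matrix.mulVec_mulVec, ← hAx, ← hAx, hX]),
      mul_assoc, ← Units.val_mul, mul_inv_cancel, Units.val_one, mul_one]
    exact hU.ks.mem
  let Xg : Sp.Grp (Sp.sympB F m) := ⟨Sp.matEquiv (Units.mul_inv g) (Units.inv_mul g), fun x y => by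
    show Sp.sympB F m ((g : Mat) *ᵥ x) ((g : Mat) *ᵥ y) = Sp.sympB F m x y
    rw [Sp.sympB_apply, Sp.sympB_apply]
    exact h2 hgM x y⟩
  have hXg : ∀ x, (Xg : V ≃ₗ[F] V) x = (g : Mat) *ᵥ x := fun x => rfl
  have hXgM : Xg ∈ M' := ⟨g, hgM, hXg⟩
  obtain ⟨v, hv0, hv, hvg⟩ : ∃ v : V, v ≠ 0 ∧ Q v = 0 ∧
      (g : Mat) *ᵥ v ∉ Submodule.span F (Set.range ![(g : Mat) *ᵥ (θ *ᵥ v), θ *ᵥ ((g : Mat) *ᵥ (θ *ᵥ v))]) := by
    by_contra hc
    push Not at hc
    refine hgS (normalizer_of_theta hU.ks ?_)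
    have hg : ∀ v : V, v ≠ 0 → Q v = 0 → ∃ a b : F, (g : Mat) *ᵥ (θ *ᵥ v) = a • (g : Mat) *ᵥ v + b • θ *ᵥ ((g : Mat) *ᵥ v) ∧
        b ≠ 0 := by
      intro v hv0 hv
      have hθv : θ *ᵥ v ≠ 0 := fun e => hv0 (by
        have := sq hU v
        rw [e, Matrix.mulVec_zero] at this
        exact (smul_eq_zero.1 this.symm).resolve_left (D_ne hU))
      obtain ⟨a, b, hab⟩ := mem_line.1 (hc (θ *ᵥ v) hθv (by rw [hU.ks.norm, hv, mul_zero]))
      rw [sq hU, Matrix.mulVec_smul, Matrix.mulVec_smul] at hab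
      refine ⟨a * D, b * D, by rw [hab]; module, mul_ne_zero (fun hb => ?_) (D_ne hU)⟩
      rw [hb, zero_smul, add_zero, smul_smul, ← Matrix.mulVec_smul] at hab
      have := congrArg (fun x => ((g⁻¹ : GL ι F) : Mat) *ᵥ x) hab
      simp only [gl_inv_mulVec'] at this
      exact one_ne_zero (zero2 hv0 (a := -(a * D)) (b := (1 : F)) (by linear_combination (norm := module) this)).2
    have hmap : ∀ v : V, Q v = 0 → Q ((g : Mat) *ᵥ v) = 0 := by
      intro v hv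
      rcases eq_or_ne v 0 with rfl | hv0
      · simp
      obtain ⟨a, b, hab, hb⟩ := hg v hv0 hv
      have h := Sp.Grp.map_form Xg v (θ *ᵥ v)
      rw [← hU.quad, hv, hXg, hXg, hab, map_add, map_smul, map_smul, hU.alt.self_eq_zero, ← hU.quad] at h
      simp only [smul_eq_mul, mul_zero, zero_add] at h
      exact (mul_eq_zero.1 h).resolve_left hb
    set A := (g : Mat) * θ * ((g⁻¹ : GL ι F) : Mat) with hA
    have hco : ∀ v : V, Q v = 0 → v ≠ 0 → ∃ a b : F, A *ᵥ v = a • v + b • θ *ᵥ v := fun v hv hv0 => by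
      obtain ⟨⟨w, hw⟩, hwv⟩ := (Finite.injective_iff_surjective.1
        (show Function.Injective (fun x : {x : V // Q x = 0} => (⟨(g : Mat) *ᵥ x.1, hmap _ x.2⟩ : {x : V // Q x = 0}))
          from fun x y e => Subtype.ext (by
            have := congrArg (fun z => ((g⁻¹ : GL ι F) : Mat) *ᵥ z.1) e
            simpa only [gl_inv_mulVec'] using this))) ⟨v, hv⟩
      have e : (g : Mat) *ᵥ w = v := congrArg Subtype.val hwv
      obtain ⟨a, b, hab, -⟩ := hg w (fun e' => hv0 (by rw [← e, e', Matrix.mulVec_zero])) hw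
      refine ⟨a, b, ?_⟩
      rw [hA, ← Matrix.mulVec_mulVec, ← Matrix.mulVec_mulVec, ← e, gl_inv_mulVec', hab]
    have pair : ∀ v w : V, Q v = 0 → Q w = 0 → v ≠ 0 → polar Q v w = 0 →
        w ∉ Submodule.span F (Set.range ![v, θ *ᵥ v]) → ∀ a b : F, A *ᵥ v = a • v + b • θ *ᵥ v →
        A *ᵥ w = a • w + b • θ *ᵥ w := by
      intro v w hv hw hv0 hvw hwne a b hab
      have hw0 : w ≠ 0 := fun e => hwne (by rw [e]; exact Submodule.zero_mem _)
      obtain ⟨a', b', hab'⟩ := hco w hw hw0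
      obtain ⟨a'', b'', hab''⟩ := hco (v + w) (by rw [Siegel.Q_add, hv, hw, hvw]; simp) (fun e => hwne (by
        rw [eq_neg_of_add_eq_zero_right e]
        exact Submodule.neg_mem _ (Submodule.subset_span ⟨0, rfl⟩)))
      rw [Matrix.mulVec_add, hab, hab', Matrix.mulVec_add] at hab''
      obtain ⟨e1, e2⟩ := stable_mem hU.ks (line_stable hU.ks v) hwne (x := a' - a'') (y := b' - b'')
        (mem_line.2 ⟨a'' - a, b'' - b, by linear_combination (norm := module) hab''⟩)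
      rw [sub_eq_zero.1 e1, sub_eq_zero.1 e2] at hab''
      obtain ⟨e3, e4⟩ := zero2 hv0 (a := a - a'') (b := b - b'') (by linear_combination (norm := module) hab'')
      rw [hab', sub_eq_zero.1 e1, sub_eq_zero.1 e2, sub_eq_zero.1 e3, sub_eq_zero.1 e4]
    obtain ⟨v₀, hv₀0, hv₀, -, -⟩ := avoid hU.ks (![] : Fin 0 → V) (![] : Fin 0 → V) (by omega)
    obtain ⟨a, b, hab⟩ := hco v₀ hv₀ hv₀0
    let U : Submodule F V := LinearMap.ker (Matrix.toLin' (A - (a • (1 : Mat) + b • θ)))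
    have hmemU : ∀ x : V, x ∈ U ↔ A *ᵥ x = a • x + b • θ *ᵥ x := fun x => by
      simp [U, Matrix.sub_mulVec, Matrix.add_mulVec, Matrix.smul_mulVec, sub_eq_zero]
    have hall : ∀ x : V, x ∈ U := fun x =>
      span_perp hU.ks (![] : Fin 0 → V) (![] : Fin 0 → V) (by omega) U (fun e he _ hne => by
        have he0 : e ≠ 0 := fun e' => hne (by rw [e']; exact Submodule.zero_mem _)
        obtain ⟨x, hx0, hx, hxW, hxne⟩ := avoid hU.ks ![v₀, e] ![v₀, θ *ᵥ v₀, e, θ *ᵥ e] (by omega)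
        have h1 := pair v₀ x hv₀ hx hv₀0 (by rw [polar_comm]; exact hxW 0) (fun hm => hxne (Submodule.span_mono (by
          rintro _ ⟨i, rfl⟩; fin_cases i; exacts [⟨0, rfl⟩, ⟨1, rfl⟩]) hm)) a b hab
        refine (hmemU e).2 (pair x e hx he hx0 (hxW 1) (fun hm => hxne ?_) a b h1)
        obtain ⟨c, d, hcd⟩ := mem_line.1 hm
        by_contra hx'
        obtain ⟨e1, e2⟩ := stable_mem hU.ks (line_stable hU.ks e) (fun hm' => hx' (Submodule.span_mono (by
          rintro _ ⟨i, rfl⟩; fin_cases i; exacts [⟨2, rfl⟩, ⟨3, rfl⟩]) hm')) (x := c) (y := d)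
          (mem_line.2 ⟨1, 0, by rw [← hcd]; simp⟩)
        exact he0 (by rw [hcd, e1, e2]; simp)) (x := x) fun i => i.elim0
    have : A = a • (1 : Mat) + b • θ := sub_eq_zero.1 (Matrix.toLin'.injective (LinearMap.ext fun x => by
      rw [map_zero, LinearMap.zero_apply]; exact LinearMap.mem_ker.1 (hall x)))
    rw [this]
    exact add_mem (K.smul_mem (one_mem K) a) (K.smul_mem hU.ks.mem b)
  set a := (g : Mat) *ᵥ v with ha
  set b := (g : Mat) *ᵥ (θ *ᵥ v) with hb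
  have hab : Sp.sympB F m a b = 0 := by
    have h := Sp.Grp.map_form Xg v (θ *ᵥ v)
    rwa [← hU.quad, hv, hXg, hXg] at h
  have hA : ∀ s : F, Sp.T _ hU.alt b s * Sp.T _ hU.alt a (-(D * s)) ∈ M' := fun s => by
    have h := mul_mem (mul_mem hXgM (P_mem hU hM hv s)) (inv_mem hXgM)
    rwa [P, show Xg * (Sp.T _ hU.alt (θ *ᵥ v) s * Sp.T _ hU.alt v (-(D * s))) * Xg⁻¹ =
      (Xg * Sp.T _ hU.alt (θ *ᵥ v) s * Xg⁻¹) * (Xg * Sp.T _ hU.alt v (-(D * s)) * Xg⁻¹) by group, Sp.conj_T,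
      Sp.conj_T, hXg, hXg] at h
  have hb0 : b ≠ 0 := fun e => by
    have := congrArg (fun x => ((g⁻¹ : GL ι F) : Mat) *ᵥ x) e
    simp only [hb, gl_inv_mulVec', Matrix.mulVec_zero] at this
    exact one_ne_zero (zero2 hv0 (a := (0 : F)) (b := (1 : F)) (by rw [this]; simp)).2
  obtain ⟨r, s, hr, hs, hrs⟩ := exists_transv hU hM hab hvg hb0 hA
  obtain ⟨y, hy0, hy, hC⟩ := full_of_one hU hM hr hs hrs
  have htop := eq_top hU hM hy0 hy hC
  refine le_antisymm h2 fun A hA => ?_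
  let X : Sp.Grp (Sp.sympB F m) := ⟨Sp.matEquiv (Units.mul_inv A) (Units.inv_mul A), fun x y => by
    show Sp.sympB F m ((A : Mat) *ᵥ x) ((A : Mat) *ᵥ y) = Sp.sympB F m x y
    rw [Sp.sympB_apply, Sp.sympB_apply]
    exact hA x y⟩
  obtain ⟨A', hA', e⟩ := (show X ∈ M' by rw [htop]; trivial)
  exact (show A' = A from gl_ext fun x => (e x).symm) ▸ hA'

end Cfsg.Agent.Classical.OverfieldSymp
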