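import Cfsg.Agent.Lib.Struct.NilpotentCover
import Mathlib.FieldTheory.Finite.Extension
import Mathlib.LinearAlgebra.Matrix.GeneralLinearGroup.Defs
import Mathlib.LinearAlgebra.Matrix.SpecialLinearGroup
import Mathlib.LinearAlgebra.Dimension.Constructions
import Mathlib.RingTheory.Norm.Basic
import Mathlib.LinearAlgebra.Projectivization.Cardinality

/-!
Groups between the projective special and general linear groups of dimension at least three have no
cover by fewest proper subgroups consisting of nilpotent subgroups.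
-/

set_option autoImplicit false
set_option maxHeartbeats 400000

open scoped MatrixGroups

namespace Cfsg.Agent.PGLCover

variable {F : Type*} [Field F] {n : ℕ} {E : Type*} [Field E] [Algebra F E]

local notation "V" => Fin n → F

/-- The vector image. -/
def act (a : GL (Fin n) F) : V →ₗ[F] V := Matrix.mulVecLin (a : Matrix (Fin n) (Fin n) F)

theorem act_mul (a b : GL (Fin n) F) (v : V) : act (a * b) v = act a (act b v) := by
  simp [act, Matrix.mulVec_mulVec]

theorem act_one (v : V) : act (1 : GL (Fin n) F) v = v := by simp [act]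

theorem act_inj (a : GL (Fin n) F) : Function.Injective (act a) := fun v w h => by
  have := congrArg (act a⁻¹) h
  rwa [← act_mul, ← act_mul, inv_mul_cancel, act_one, act_one] at this

theorem act_ext {a b : GL (Fin n) F} (h : ∀ v, act a v = act b v) : a = b :=
  Units.ext (Matrix.ext_of_mulVec_single fun i => h (Pi.single i 1))

theorem eq_scalar {b : GL (Fin n) F} {c : F} (hc : ∀ v, act b v = c • v) : b ∈ Subgroup.center (GL (Fin n) F) := by
  rw [Subgroup.mem_center_iff]
  exact fun g => act_ext fun v => by rw [act_mul, act_mul, hc, hc, map_smul]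

/-- The matrix of an invertible linear map. -/
noncomputable def ofEquiv (f : V ≃ₗ[F] V) : GL (Fin n) F :=
  Matrix.GeneralLinearGroup.toLin.symm (LinearMap.GeneralLinearGroup.ofLinearEquiv f)

theorem act_ofEquiv (f : V ≃ₗ[F] V) (v : V) : act (ofEquiv f) v = f v := by
  have h := Matrix.GeneralLinearGroup.toLin_apply (A := ofEquiv f) v
  rw [ofEquiv, MulEquiv.apply_symm_apply] at h
  exact h.symm

/-- Elements of a line stabiliser. -/
def lineStab (v : V) : Subgroup (GL (Fin n) F) where
  carrier := {a | ∃ c : F, c ≠ 0 ∧ act a v = c • v}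
  mul_mem' := by
    rintro a b ⟨c, hc, ha⟩ ⟨d, hd, hb⟩
    exact ⟨d * c, mul_ne_zero hd hc, by rw [act_mul, hb, map_smul, ha, smul_smul]⟩
  one_mem' := ⟨1, one_ne_zero, by rw [act_one, one_smul]⟩
  inv_mem' := by
    rintro a ⟨c, hc, ha⟩
    refine ⟨c⁻¹, inv_ne_zero hc, act_inj a ?_⟩
    rw [← act_mul, mul_inv_cancel, act_one, map_smul, ha, smul_smul, inv_mul_cancel₀ hc, one_smul]

theorem center_le_lineStab [NeZero n] {v : V} (hv : v ≠ 0) : Subgroup.center (GL (Fin n) F) ≤ lineStab v := by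
  intro a ha
  obtain ⟨r, hr⟩ := Matrix.mem_range_scalar_of_commute_transvectionStruct (M := (a : Matrix (Fin n) (Fin n) F))
    fun t => by
      have := Subgroup.mem_center_iff.mp ha (Matrix.GeneralLinearGroup.mkOfDetNeZero t.toMatrix (by simp))
      exact congrArg (Units.val) this
  have hact : act a v = r • v := by
    simp [act, ← hr]
  refine ⟨r, fun h => ?_, hact⟩
  rw [h, zero_smul] at hact
  exact hv (act_inj a (hact.trans (map_zero _).symm))

/-- The standard element in coordinates. -/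
noncomputable def std (c : Fˣ) (s : Eˣ) : (F × E) ≃ₗ[F] (F × E) where
  toFun z := ((c : F) * z.1, (s : E) * z.2)
  map_add' z w := by simp [mul_add]
  map_smul' r z := by simp [mul_comm, mul_left_comm, mul_assoc, Algebra.smul_def]
  invFun z := ((↑c⁻¹ : F) * z.1, (↑s⁻¹ : E) * z.2)
  left_inv z := by simp
  right_inv z := by simp

/-- The element attached to a coordinate system. -/
noncomputable def elt (φ : (F × E) ≃ₗ[F] V) (c : Fˣ) (s : Eˣ) : GL (Fin n) F :=
  ofEquiv (φ.symm.trans ((std c s).trans φ))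

theorem act_elt (φ : (F × E) ≃ₗ[F] V) (c : Fˣ) (s : Eˣ) (z : F × E) :
    act (elt φ c s) (φ z) = φ ((c : F) * z.1, (s : E) * z.2) := by
  rw [elt, act_ofEquiv]
  simp [std]

theorem det_elt (φ : (F × E) ≃ₗ[F] V) (c : Fˣ) (s : Eˣ) [FiniteDimensional F E] :
    (elt φ c s : Matrix (Fin n) (Fin n) F).det = (c : F) * Algebra.norm F (s : E) := by
  have h1 : act (elt φ c s) = (φ : (F × E) →ₗ[F] V) ∘ₗ
      (LinearMap.prodMap ((c : F) • LinearMap.id) (Algebra.lmul F E (s : E))) ∘ₗ (φ.symm : V →ₗ[F] (F × E)) := by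
    refine LinearMap.ext fun v => ?_
    obtain ⟨z, rfl⟩ := φ.surjective v
    rw [act_elt]
    simp
  rw [← LinearMap.det_toLin', Matrix.toLin'_apply', show Matrix.mulVecLin (elt φ c s : Matrix (Fin n) (Fin n) F) = _ from h1,
    LinearMap.det_conj, LinearMap.det_prodMap, LinearMap.det_smul, LinearMap.det_id, Module.finrank_self,
    pow_one, mul_one, Algebra.norm_apply]

variable {s : Eˣ} {c : Fˣ}

section facts

variable [FiniteDimensional F E] (hs : ∀ e : E, e ≠ 0 → ∃ k : ℕ, (s : E) ^ k = e)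

include hs

/-- A map commuting with the generator is a multiplication. -/
theorem mul_of_comm (T : E →ₗ[F] E) (hT : ∀ e, T ((s : E) * e) = (s : E) * T e) (e : E) : T e = T 1 * e := by
  rcases eq_or_ne e 0 with rfl | he
  · simp
  obtain ⟨k, rfl⟩ := hs e he
  induction k with
  | zero => simp
  | succ k ih =>
    rw [pow_succ', hT, ih (pow_ne_zero k s.ne_zero)]
    ring

theorem not_eigen (h2 : 2 ≤ Module.finrank F E) {e : E} (he : e ≠ 0) {r : F} : (s : E) * e ≠ r • e := by
  intro h
  rw [Algebra.smul_def] at h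
  have hsr := mul_right_cancel₀ he h
  have htop : ∀ x : E, x ∈ LinearMap.range (Algebra.linearMap F E) := by
    intro x
    rcases eq_or_ne x 0 with rfl | hx
    · exact zero_mem _
    obtain ⟨k, rfl⟩ := hs x hx
    exact ⟨r ^ k, by rw [Algebra.linearMap_apply, map_pow, hsr]⟩
  have := LinearMap.finrank_range_le (Algebra.linearMap F E)
  rw [LinearMap.range_eq_top.mpr (fun x => htop x), finrank_top, Module.finrank_self] at this
  omega

/-- The invariant lines of the element. -/
theorem eigen_line {φ : (F × E) ≃ₗ[F] V} (h2 : 2 ≤ Module.finrank F E) {z : F × E} {r : F}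
    (h : act (elt φ c s) (φ z) = r • φ z) : z.2 = 0 := by
  rw [act_elt, ← map_smul] at h
  have e := congrArg Prod.snd (φ.injective h)
  by_contra hne
  exact not_eigen hs h2 hne (r := r) (by simpa using e)

/-- An element commuting projectively with the element is diagonal. -/
theorem centralize {φ : (F × E) ≃ₗ[F] V} (h2 : 2 ≤ Module.finrank F E) {b : GL (Fin n) F}
    (hb : elt φ c s * b * (elt φ c s)⁻¹ * b⁻¹ ∈ Subgroup.center (GL (Fin n) F)) [NeZero n] :
    ∃ (μ : F) (β : E), μ ≠ 0 ∧ β ≠ 0 ∧ ∀ z : F × E, act b (φ z) = φ (μ * z.1, β * z.2) := by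
  set x := elt φ c s with hx
  have hφ0 : φ ((1 : F), (0 : E)) ≠ 0 := fun h => by simpa using congrArg Prod.fst (φ.injective (h.trans (map_zero φ).symm))
  -- the scalar
  obtain ⟨ν, hν, hscal⟩ : ∃ ν : F, ν ≠ 0 ∧ ∀ v, act x (act b v) = ν • act b (act x v) := by
    obtain ⟨r, hr⟩ := Matrix.mem_range_scalar_of_commute_transvectionStruct
      (M := ((x * b * x⁻¹ * b⁻¹ : GL (Fin n) F) : Matrix (Fin n) (Fin n) F)) fun t => by
        have := Subgroup.mem_center_iff.mp hb (Matrix.GeneralLinearGroup.mkOfDetNeZero t.toMatrix (by simp))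
        exact congrArg (Units.val) this
    have hk : ∀ w, act (x * b * x⁻¹ * b⁻¹) w = r • w := fun w => by simp [act, ← hr]
    refine ⟨r, fun h => ?_, fun v => ?_⟩
    · have := hk (φ ((1 : F), (0 : E)))
      rw [h, zero_smul] at this
      exact hφ0 (act_inj _ (this.trans (map_zero _).symm))
    · rw [← hk, ← act_mul b x, ← act_mul (x * b * x⁻¹ * b⁻¹), ← act_mul]
      congr 1
      group
  -- the line
  obtain ⟨⟨μ, e0⟩, hμ⟩ : ∃ z, φ z = act b (φ ((1 : F), (0 : E))) := ⟨_, φ.apply_symm_apply _⟩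
  have he0 : e0 = 0 := by
    refine eigen_line hs h2 (c := c) (φ := φ) (z := (μ, e0)) (r := ν * c) ?_
    rw [hμ, ← hx, hscal, act_elt]
    simp only [mul_one, mul_zero]
    rw [show ((c : F), (0 : E)) = (c : F) • ((1 : F), (0 : E)) by simp, map_smul, map_smul, smul_smul]
  subst he0
  have hμ0 : μ ≠ 0 := fun h => by
    rw [h, show ((0 : F), (0 : E)) = 0 from rfl, map_zero] at hμ
    exact hφ0 (act_inj b (hμ.symm.trans (map_zero _).symm))
  have hν1 : ν = 1 := by
    have h := hscal (φ ((1 : F), (0 : E)))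
    rw [act_elt, ← hμ, act_elt, mul_zero, mul_one,
      show ((c : F), (0 : E)) = (c : F) • ((1 : F), (0 : E)) by simp, map_smul, map_smul, smul_smul, ← hμ, ← map_smul] at h
    have := congrArg Prod.fst (φ.injective h)
    simp only [Prod.smul_fst, smul_eq_mul, mul_zero] at this
    have : (1 - ν) * ((c : F) * μ) = 0 := by linear_combination this
    exact (sub_eq_zero.mp ((mul_eq_zero.mp this).resolve_right (mul_ne_zero c.ne_zero hμ0))).symm
  -- the hyperplane
  let T : E →ₗ[F] F × E := (φ.symm : V →ₗ[F] F × E) ∘ₗ act b ∘ₗ (φ : (F × E) →ₗ[F] V) ∘ₗ LinearMap.inr F F E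
  have hT : ∀ e, φ (T e) = act b (φ ((0 : F), e)) := fun e => by simp [T]
  have hTs : ∀ e, T ((s : E) * e) = ((c : F) * (T e).1, (s : E) * (T e).2) := fun e => by
    refine φ.injective ?_
    rw [hT, ← act_elt, hT, ← hx, hscal, hν1, one_smul, hx, act_elt, mul_zero]
  have hT2 := mul_of_comm hs ((LinearMap.snd F F E) ∘ₗ T) (fun e => by simp [hTs])
  have hT1 : ∀ e, (T e).1 = 0 := by
    intro e
    let d : E := (s : E) - algebraMap F E (c : F)
    have hd : d ≠ 0 := fun h => not_eigen hs h2 (e := (1 : E)) one_ne_zero (r := (c : F))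
      (by rw [mul_one, Algebra.smul_def, mul_one, sub_eq_zero.mp h])
    have h : (T (d * (d⁻¹ * e))).1 = 0 := by
      rw [show d * (d⁻¹ * e) = (s : E) * (d⁻¹ * e) - (c : F) • (d⁻¹ * e) by
        rw [Algebra.smul_def]; exact sub_mul _ _ _, map_sub, map_smul, hTs]
      simp
    rwa [mul_inv_cancel_left₀ hd] at h
  refine ⟨μ, (T 1).2, hμ0, fun h => ?_, fun z => ?_⟩
  · have h0 : T 1 = 0 := Prod.ext (hT1 1) h
    have := hT 1
    rw [h0, map_zero] at this
    have := φ.injective ((act_inj b (this.symm.trans (map_zero _).symm)).trans (map_zero φ).symm)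
    simpa using congrArg Prod.snd this
  · obtain ⟨t, e⟩ := z
    rw [show ((t, e) : F × E) = t • ((1 : F), (0 : E)) + ((0 : F), e) by simp, map_add, map_add, map_smul,
      map_smul, ← hμ, ← hT, ← map_smul, ← map_add]
    congr 1
    refine Prod.ext ?_ ?_
    · simp [hT1, mul_comm]
    · simpa using hT2 e

end facts

/-- Elements commuting projectively with a non-scalar diagonal element are diagonal. -/
theorem preserve {φ : (F × E) ≃ₗ[F] V} (h2 : 2 ≤ Module.finrank F E) [FiniteDimensional F E] [NeZero n] {b a : GL (Fin n) F} {μ : F} {β : E}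
    (hb : ∀ z : F × E, act b (φ z) = φ (μ * z.1, β * z.2)) (hμ : μ ≠ 0) (hns : β ≠ algebraMap F E μ)
    (hab : a * b * a⁻¹ * b⁻¹ ∈ Subgroup.center (GL (Fin n) F)) :
    (∃ r : F, r ≠ 0 ∧ act a (φ ((1 : F), (0 : E))) = r • φ ((1 : F), (0 : E))) ∧
      ∀ e, ∃ e', act a (φ ((0 : F), e)) = φ ((0 : F), e') := by
  have hφ0 : φ ((1 : F), (0 : E)) ≠ 0 := fun h => by simpa using congrArg Prod.fst (φ.injective (h.trans (map_zero φ).symm))
  obtain ⟨ν, hscal⟩ : ∃ ν : F, ∀ v, act a (act b v) = ν • act b (act a v) := by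
    obtain ⟨r, hr⟩ := Matrix.mem_range_scalar_of_commute_transvectionStruct
      (M := ((a * b * a⁻¹ * b⁻¹ : GL (Fin n) F) : Matrix (Fin n) (Fin n) F)) fun t => by
        have := Subgroup.mem_center_iff.mp hab (Matrix.GeneralLinearGroup.mkOfDetNeZero t.toMatrix (by simp))
        exact congrArg (Units.val) this
    have hk : ∀ w, act (a * b * a⁻¹ * b⁻¹) w = r • w := fun w => by simp [act, ← hr]
    refine ⟨r, fun v => ?_⟩
    rw [← hk, ← act_mul b a, ← act_mul (a * b * a⁻¹ * b⁻¹), ← act_mul]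
    congr 1
    group
  let T : F × E →ₗ[F] F × E := (φ.symm : V →ₗ[F] F × E) ∘ₗ act a ∘ₗ (φ : (F × E) →ₗ[F] V)
  have hT : ∀ z, φ (T z) = act a (φ z) := fun z => by simp [T]
  have key : ∀ z : F × E, T (μ * z.1, β * z.2) = (ν * (μ * (T z).1), ν • (β * (T z).2)) := by
    intro z
    refine φ.injective ?_
    rw [hT, ← hb, hscal, ← hT, hb, ← map_smul]
    rfl
  have hTinj : Function.Injective T := φ.symm.injective.comp ((act_inj a).comp φ.injective)
  have k1 := key ((1 : F), (0 : E))
  rw [show ((μ * 1 : F), β * (0 : E)) = μ • ((1 : F), (0 : E)) by simp, map_smul] at k1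
  set p := T ((1 : F), (0 : E)) with hp
  have k11 : μ * p.1 = ν * (μ * p.1) := by simpa using congrArg Prod.fst k1
  have k12 : μ • p.2 = ν • (β * p.2) := by simpa using congrArg Prod.snd k1
  have hp20 : p.2 = 0 := by
    by_contra hne
    -- then the second coordinate is scalar
    have hν : ν ≠ 0 := fun h => by
      rw [h, zero_smul, smul_eq_zero] at k12
      exact k12.elim hμ hne
    have hβ : β = algebraMap F E (μ / ν) := by
      refine mul_right_cancel₀ hne ?_
      rw [← Algebra.smul_def, div_eq_inv_mul, mul_smul, k12, inv_smul_smul₀ hν]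
    have hν1 : ν ≠ 1 := fun h => hns (by rw [hβ, h, div_one])
    have hall : ∀ e, (T (0, e)).2 = 0 := by
      intro e
      have k := key ((0 : F), e)
      rw [show ((μ * 0 : F), β * e) = (μ / ν) • ((0 : F), e) by simp [hβ, Algebra.smul_def], map_smul] at k
      have e2 := congrArg Prod.snd k
      simp only [Prod.smul_snd, hβ, ← Algebra.smul_def, smul_smul, mul_div_cancel₀ _ hν] at e2
      have : (μ / ν - μ) • (T (0, e)).2 = 0 := by rw [sub_smul, e2, sub_self]
      refine (smul_eq_zero.mp this).resolve_left (fun h => hν1 ?_)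
      rw [sub_eq_zero, div_eq_iff hν] at h
      exact mul_left_cancel₀ hμ (by rw [mul_one]; exact h.symm)
    have hle := LinearMap.finrank_le_finrank_of_injective
      (f := (LinearMap.fst F F E) ∘ₗ T ∘ₗ LinearMap.inr F F E) (fun e e' h => by
        have := hTinj ((Prod.ext (by simpa using h) (by rw [hall, hall]) : T ((0 : F), e) = T ((0 : F), e')))
        simpa using congrArg Prod.snd this)
    rw [Module.finrank_self] at hle
    omega
  have hp10 : p.1 ≠ 0 := fun h => by
    have h2 := hTinj ((Prod.ext h hp20 : T ((1 : F), (0 : E)) = 0).trans (map_zero T).symm)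
    simpa using congrArg Prod.fst h2
  have hν : ν = 1 := by
    have : (1 - ν) * (μ * p.1) = 0 := by linear_combination k11
    exact (sub_eq_zero.mp ((mul_eq_zero.mp this).resolve_right (mul_ne_zero hμ hp10))).symm
  refine ⟨⟨p.1, hp10, ?_⟩, fun e => ?_⟩
  · rw [← hT, ← hp, ← map_smul]
    congr 1
    exact Prod.ext (by simp) (by simp [hp20])
  · let d : E := β - algebraMap F E μ
    have hd : d ≠ 0 := sub_ne_zero.mpr hns
    have k := key ((0 : F), d⁻¹ * e)
    rw [hν, one_mul, one_smul, mul_zero] at k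
    have e1 : (T ((0 : F), e)).1 = 0 := by
      rw [show ((0 : F), e) = ((0 : F), β * (d⁻¹ * e)) - μ • ((0 : F), d⁻¹ * e) by
        refine Prod.ext (by simp) ?_
        rw [Prod.snd_sub, Prod.smul_snd, Algebra.smul_def, ← sub_mul]
        exact (mul_inv_cancel_left₀ hd e).symm, map_sub, map_smul, k]
      simp
    exact ⟨(T (0, e)).2, by rw [← hT]; congr 1; exact Prod.ext e1 rfl⟩

theorem no_nilpotent_minimal_cover [Fintype F] (hn : 3 ≤ n)
    (G : Subgroup (GL (Fin n) F ⧸ Subgroup.center (GL (Fin n) F)))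
    (hG : ((Matrix.SpecialLinearGroup.toGL : Matrix.SpecialLinearGroup (Fin n) F →* GL (Fin n) F).range).map
      (QuotientGroup.mk' (Subgroup.center (GL (Fin n) F))) ≤ G) :
    ¬ ∃ 𝓐 : Finset (Subgroup ↥G), ((∀ A ∈ 𝓐, A ≠ ⊤) ∧ (∀ g : ↥G, ∃ A ∈ 𝓐, g ∈ A)) ∧
      (∀ 𝓑 : Finset (Subgroup ↥G), (∀ A ∈ 𝓑, A ≠ ⊤) ∧ (∀ g : ↥G, ∃ A ∈ 𝓑, g ∈ A) → 𝓐.card ≤ 𝓑.card) ∧
        (∀ A ∈ 𝓐, Group.IsNilpotent ↥A) := by
  classical
  haveI : NeZero n := ⟨by omega⟩
  haveI : NeZero (n - 1) := ⟨by omega⟩
  obtain ⟨p, hp⟩ := CharP.exists F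
  haveI : Fact p.Prime := ⟨CharP.char_is_prime F p⟩
  let L := FiniteField.Extension F p (n - 1)
  have hL : Module.finrank F L = n - 1 := FiniteField.finrank_extension F p (n - 1)
  have h2 : 2 ≤ Module.finrank F L := by omega
  haveI : Fintype L := Fintype.ofFinite L
  obtain ⟨t, ht⟩ := IsCyclic.exists_generator (α := Lˣ)
  have hs : ∀ e : L, e ≠ 0 → ∃ k : ℕ, (t : L) ^ k = e := fun e he => by
    obtain ⟨k, hk⟩ := (mem_powers_iff_mem_zpowers.mpr (ht (Units.mk0 e he)))
    exact ⟨k, by rw [← Units.val_pow_eq_pow_val, show t ^ k = Units.mk0 e he from hk, Units.val_mk0]⟩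
  have hnorm : Algebra.norm F (t : L) ≠ 0 := fun h => t.ne_zero (Algebra.norm_eq_zero_iff.mp h)
  let c : Fˣ := (Units.mk0 _ hnorm)⁻¹
  have hmem : ∀ φ : (F × L) ≃ₗ[F] (Fin n → F),
      QuotientGroup.mk' (Subgroup.center (GL (Fin n) F)) (elt φ c t) ∈ G := fun φ => by
    refine hG (Subgroup.mem_map_of_mem _ ⟨⟨(elt φ c t : Matrix (Fin n) (Fin n) F), ?_⟩, Units.ext rfl⟩)
    rw [det_elt]
    simp [c, hnorm]
  let q : ((F × L) ≃ₗ[F] (Fin n → F)) → ↥G := fun φ => ⟨_, hmem φ⟩
  -- the stabiliser of a line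
  let S : (Fin n → F) → Subgroup ↥G := fun v =>
    ((lineStab v).map (QuotientGroup.mk' (Subgroup.center (GL (Fin n) F)))).subgroupOf G
  have hSmem : ∀ {v : Fin n → F}, v ≠ 0 → ∀ {g : ↥G} {a : GL (Fin n) F},
      QuotientGroup.mk' _ a = (g : GL (Fin n) F ⧸ Subgroup.center (GL (Fin n) F)) → (g ∈ S v ↔ a ∈ lineStab v) := by
    intro v hv g a ha
    simp only [S, Subgroup.mem_subgroupOf, ← ha]
    rw [← Subgroup.mem_comap, Subgroup.comap_map_eq, QuotientGroup.ker_mk',
      sup_eq_left.mpr (center_le_lineStab hv)]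
  -- what a non-trivial element commuting with the element forces
  have main : ∀ (φ : (F × L) ≃ₗ[F] (Fin n → F)) (z : ↥G), z ≠ 1 → Commute z (q φ) → ∀ a : ↥G, Commute a z →
      ∀ a' : GL (Fin n) F, QuotientGroup.mk' _ a' = (a : GL (Fin n) F ⧸ Subgroup.center (GL (Fin n) F)) →
      (∃ r : F, r ≠ 0 ∧ act a' (φ ((1 : F), (0 : L))) = r • φ ((1 : F), (0 : L))) ∧
        ∀ e, ∃ e', act a' (φ ((0 : F), e)) = φ ((0 : F), e') := by
    intro φ z hz hzx a haz a' ha'
    obtain ⟨b, hb⟩ := QuotientGroup.mk'_surjective _ (z : GL (Fin n) F ⧸ Subgroup.center (GL (Fin n) F))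
    have hcen : ∀ {u w : GL (Fin n) F}, Commute (QuotientGroup.mk' (Subgroup.center (GL (Fin n) F)) u)
        (QuotientGroup.mk' _ w) → u * w * u⁻¹ * w⁻¹ ∈ Subgroup.center (GL (Fin n) F) := fun h => by
      rw [← QuotientGroup.eq_one_iff, ← QuotientGroup.mk'_apply, map_mul, map_mul, map_mul, map_inv, map_inv, h.eq]
      group
    obtain ⟨μ, β, hμ, -, hbd⟩ := centralize hs h2 (c := c) (φ := φ) (hcen (u := elt φ c t) (w := b) (by
      rw [hb]; exact (congrArg Subtype.val hzx.eq).symm))
    refine preserve h2 hbd hμ (fun hβ => hz ?_) (hcen (u := a') (w := b) (by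
      rw [hb, ha']; exact congrArg Subtype.val haz.eq))
    have hbc : b ∈ Subgroup.center (GL (Fin n) F) := eq_scalar (c := μ) fun v => by
      obtain ⟨w, rfl⟩ := φ.surjective v
      rw [hbd, hβ, ← map_smul]
      congr 1
      all_goals exact Prod.ext rfl (by simp [Algebra.smul_def])
    refine Subtype.ext (hb.symm.trans ?_)
    rwa [QuotientGroup.mk'_apply, OneMemClass.coe_one, QuotientGroup.eq_one_iff]
  have hq1 : ∀ φ, q φ ≠ 1 := by
    intro φ e
    have h : elt φ c t ∈ Subgroup.center (GL (Fin n) F) := (QuotientGroup.eq_one_iff _).mp (congrArg Subtype.val e)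
    obtain ⟨r, -, hr⟩ := center_le_lineStab (v := φ ((0 : F), (1 : L))) (fun h0 => by
      simpa using congrArg Prod.snd (φ.injective (h0.trans (map_zero φ).symm))) h
    exact one_ne_zero (α := L) (eigen_line hs h2 hr)
  -- two systems sharing such an element share line and hyperplane
  have same : ∀ φ ψ : (F × L) ≃ₗ[F] (Fin n → F), (∃ z : ↥G, z ≠ 1 ∧ Commute z (q φ) ∧ Commute z (q ψ)) →
      (∃ r : F, φ ((1 : F), (0 : L)) = r • ψ ((1 : F), (0 : L))) ∧ ∀ e, ∃ e', φ ((0 : F), e) = ψ ((0 : F), e') := by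
    intro φ ψ ⟨z, hz, h, h'⟩
    obtain ⟨⟨r, -, hr⟩, hhyp⟩ := main φ z hz h (q ψ) h'.symm (elt ψ c t) rfl
    obtain ⟨w, hw⟩ := ψ.surjective (φ ((1 : F), (0 : L)))
    refine ⟨⟨w.1, ?_⟩, ?_⟩
    · rw [← hw] at hr ⊢
      rw [← map_smul]
      congr 1
      exact Prod.ext (by simp) (by simp [eigen_line hs h2 hr])
    -- the invariant hyperplane
    let W : Submodule F (F × L) := LinearMap.range ((ψ.symm : (Fin n → F) →ₗ[F] F × L) ∘ₗ
      (φ : (F × L) →ₗ[F] (Fin n → F)) ∘ₗ LinearMap.inr F F L)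
    have hWinv : ∀ z ∈ W, (((c : F) * z.1, (t : L) * z.2) : F × L) ∈ W := by
      rintro _ ⟨e, rfl⟩
      obtain ⟨e', he'⟩ := hhyp e
      refine ⟨e', ψ.injective ?_⟩
      rw [← act_elt]
      simp [he']
    by_contra hne
    push Not at hne
    obtain ⟨e, he⟩ := hne
    obtain ⟨z0, hz0W, hz0⟩ : ∃ z0 ∈ W, z0.1 ≠ 0 := by
      refine ⟨ψ.symm (φ ((0 : F), e)), ⟨e, by simp⟩, fun h0 => he (ψ.symm (φ ((0 : F), e))).2 ?_⟩
      conv_lhs => rw [← ψ.apply_symm_apply (φ ((0 : F), e))]
      congr 1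
      exact Prod.ext h0 rfl
    let W2 : Submodule F L := W.comap (LinearMap.inr F F L)
    have hW2t : ∀ y ∈ W2, (t : L) * y ∈ W2 := fun y hy => by
      simpa [W2] using hWinv _ (show ((0 : F), y) ∈ W from hy)
    have hpow : ∀ (k : ℕ), ∀ y ∈ W2, (t : L) ^ k * y ∈ W2 := by
      intro k
      induction k with
      | zero => simp
      | succ k ih => intro y hy; rw [pow_succ', mul_assoc]; exact hW2t _ (ih y hy)
    have hWrank : Module.finrank F W = Module.finrank F L :=
      LinearMap.finrank_range_of_inj ((ψ.symm.injective.comp φ.injective).comp (fun x y h => congrArg Prod.snd h))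
    by_cases hbot : ∀ y ∈ W2, y = 0
    · have hle := LinearMap.finrank_le_finrank_of_injective (f := (LinearMap.fst F F L) ∘ₗ W.subtype)
        (fun x y h => Subtype.ext (Prod.ext h (sub_eq_zero.mp (hbot _ (by
          have hm := W.sub_mem x.2 y.2
          show ((0 : F), x.1.2 - y.1.2) ∈ W
          convert hm using 1
          exact Prod.ext (sub_eq_zero.mpr h).symm rfl)))))
      rw [Module.finrank_self, hWrank] at hle
      omega
    · push Not at hbot
      obtain ⟨y, hy, hy0⟩ := hbot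
      have hall : ∀ w : L, ((0 : F), w) ∈ W := fun w => by
        rcases eq_or_ne w 0 with rfl | hw0
        · exact W.zero_mem
        obtain ⟨k, hk⟩ := hs (w / y) (div_ne_zero hw0 hy0)
        have hm : (t : L) ^ k * y ∈ W2 := hpow k y hy
        rwa [hk, div_mul_cancel₀ w hy0] at hm
      have htop : W = ⊤ := by
        refine eq_top_iff.mpr fun w _ => ?_
        rw [show w = (w.1 / z0.1) • z0 + ((0 : F), w.2 - (w.1 / z0.1) • z0.2) from
          Prod.ext (by simp [hz0]) (by simp)]
        exact W.add_mem (W.smul_mem _ hz0W) (hall _)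
      rw [htop, finrank_top, Module.finrank_prod, Module.finrank_self] at hWrank
      omega
  -- coordinates with a given line
  have hdimV : Module.finrank F (Fin n → F) = Module.finrank F (F × L) := by
    rw [Module.finrank_prod, Module.finrank_self, hL, Module.finrank_fin_fun]; omega
  have hex : ∀ P : Projectivization F (Fin n → F), ∃ φ : (F × L) ≃ₗ[F] (Fin n → F), φ ((1 : F), (0 : L)) = P.rep := by
    intro P
    obtain ⟨φ0⟩ := FiniteDimensional.nonempty_linearEquiv_of_finrank_eq hdimV.symm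
    obtain ⟨C, hC⟩ := (F ∙ P.rep).exists_isCompl
    have hcd : Module.finrank F L = Module.finrank F C := by
      have := Submodule.finrank_add_eq_of_isCompl hC
      rw [finrank_span_singleton P.rep_nonzero, Module.finrank_fin_fun] at this
      omega
    obtain ⟨ι⟩ := FiniteDimensional.nonempty_linearEquiv_of_finrank_eq hcd
    refine ⟨((LinearEquiv.toSpanNonzeroSingleton F _ P.rep P.rep_nonzero).prodCongr ι).trans
      (Submodule.prodEquivOfIsCompl _ _ hC), ?_⟩
    simp
  choose Φ hΦ using hex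
  obtain ⟨P0⟩ : Nonempty (Projectivization F (Fin n → F)) :=
    ⟨Projectivization.mk F (Pi.single ⟨0, by omega⟩ 1) (fun h => by simpa using congrFun h ⟨0, by omega⟩)⟩
  obtain ⟨f, hf⟩ := Module.Projective.exists_dual_ne_zero F (one_ne_zero (α := L))
  let shear : (F × L) ≃ₗ[F] (F × L) :=
    { toFun := fun z => (z.1 + f z.2, z.2)
      invFun := fun z => (z.1 - f z.2, z.2)
      map_add' := fun z w => by simp [add_add_add_comm]
      map_smul' := fun r z => by simp [mul_add]
      left_inv := fun z => by simp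
      right_inv := fun z => by simp }
  let ψ0 := shear.trans (Φ P0)
  haveI : Fintype (Projectivization F (Fin n → F)) := Fintype.ofFinite _
  let sys : Option (Projectivization F (Fin n → F)) → ((F × L) ≃ₗ[F] (Fin n → F)) :=
    fun o => o.elim ψ0 Φ
  have sys_inj : ∀ o o', (∃ z : ↥G, z ≠ 1 ∧ Commute z (q (sys o)) ∧ Commute z (q (sys o'))) → o = o' := by
    intro o o' h
    obtain ⟨⟨r, hr⟩, hh⟩ := same _ _ h
    have hline : ∀ P P', Φ P ((1 : F), (0 : L)) = r • Φ P' ((1 : F), (0 : L)) → P = P' := fun P P' e => by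
      rw [hΦ, hΦ] at e
      rw [← P.mk_rep, ← P'.mk_rep, Projectivization.mk_eq_mk_iff']
      exact ⟨r, e.symm⟩
    have h0 : ψ0 ((1 : F), (0 : L)) = Φ P0 ((1 : F), (0 : L)) := by simp [ψ0, shear]
    have hψ : ∀ {e e'}, ψ0 ((0 : F), e) = Φ P0 ((0 : F), e') → f e = 0 := fun {e e'} he => by
      have := congrArg Prod.fst ((Φ P0).injective (show Φ P0 (shear ((0 : F), e)) = _ from he))
      simpa [shear] using this
    rcases o with - | P <;> rcases o' with - | P'
    · rfl
    · have hP : P0 = P' := hline _ _ (h0.symm.trans hr)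
      subst hP
      obtain ⟨e', he'⟩ := hh 1
      exact absurd (hψ he') hf
    · have hP : P = P0 := hline _ _ (hr.trans (congrArg _ h0))
      subst hP
      -- the hyperplanes agree in one direction, hence in both
      have key : ∀ e, ∃ e', Φ P ((0 : F), e) = ψ0 ((0 : F), e') := hh
      obtain ⟨e', he'⟩ := key 1
      have h1 : f e' = 0 := hψ he'.symm
      have h2 : e' = 1 := by
        have := congrArg Prod.snd ((Φ P).injective (show Φ P _ = Φ P (shear ((0 : F), e')) from he'))
        simpa [shear] using this.symm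
      exact absurd (h2 ▸ h1) hf
    · exact congrArg some (hline _ _ hr)
  refine NilpotentCover.no_minimal_cover (Finset.univ.image fun P : Projectivization F (Fin n → F) => S P.rep)
    (Finset.univ.image fun o => q (sys o)) ?_ ?_ ?_ ?_ ?_
  · intro H hH htop
    obtain ⟨P, -, rfl⟩ := Finset.mem_image.mp hH
    obtain ⟨P', hP'⟩ : ∃ P' : Projectivization F (Fin n → F), P' ≠ P := by
      obtain ⟨w, hw⟩ : ∃ w : Fin n → F, w ∉ (F ∙ P.rep) := by
        by_contra hc
        push Not at hc
        have h := finrank_span_singleton (K := F) P.rep_nonzero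
        rw [show (F ∙ P.rep) = ⊤ from eq_top_iff.mpr fun x _ => hc x, finrank_top, Module.finrank_fin_fun] at h
        omega
      refine ⟨Projectivization.mk F w fun h => hw (h ▸ Submodule.zero_mem _), fun e => hw ?_⟩
      obtain ⟨a, ha⟩ := (Projectivization.mk_eq_mk_iff' F _ _ _ P.rep_nonzero).mp (e.trans P.mk_rep.symm)
      exact Submodule.mem_span_singleton.mpr ⟨a, ha⟩
    have hm : q (Φ P') ∈ S P.rep := htop ▸ Subgroup.mem_top _
    obtain ⟨r, -, hr⟩ := (hSmem P.rep_nonzero (a := elt (Φ P') c t) rfl).mp hm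
    obtain ⟨w, hw⟩ := (Φ P').surjective P.rep
    rw [← hw] at hr
    refine hP' ?_
    rw [← P.mk_rep, ← P'.mk_rep, Projectivization.mk_eq_mk_iff']
    refine ⟨w.1⁻¹, ?_⟩
    have hw' : P.rep = w.1 • P'.rep := by
      rw [← hw, ← hΦ P', ← map_smul]
      congr 1
      exact Prod.ext (by simp) (by simp [eigen_line hs h2 hr])
    have hw1 : w.1 ≠ 0 := fun h => P.rep_nonzero (by rw [hw', h, zero_smul])
    rw [hw', smul_smul, inv_mul_cancel₀ hw1, one_smul]
  · intro h
    obtain ⟨o, -, e⟩ := Finset.mem_image.mp h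
    exact hq1 _ e
  · intro x hx x' hx' z hz h h'
    obtain ⟨o, -, rfl⟩ := Finset.mem_image.mp hx
    obtain ⟨o', -, rfl⟩ := Finset.mem_image.mp hx'
    rw [sys_inj o o' ⟨z, hz, h, h'⟩]
  · intro x hx z hz h a ha
    obtain ⟨o, -, rfl⟩ := Finset.mem_image.mp hx
    obtain ⟨a', ha'⟩ := QuotientGroup.mk'_surjective _ (a : GL (Fin n) F ⧸ Subgroup.center (GL (Fin n) F))
    obtain ⟨⟨r, hr0, hr⟩, -⟩ := main (sys o) z hz h a ha a' ha'
    set P : Projectivization F (Fin n → F) :=
      Projectivization.mk F (sys o ((1 : F), (0 : L))) (fun h0 => by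
        simpa using congrArg Prod.fst ((sys o).injective (h0.trans (map_zero (sys o)).symm))) with hP
    refine ⟨S P.rep, Finset.mem_image_of_mem _ (Finset.mem_univ P), (hSmem P.rep_nonzero ha').mpr ⟨r, hr0, ?_⟩⟩
    obtain ⟨u, hu⟩ := (Projectivization.mk_eq_mk_iff' F _ _ _ _).mp (P.mk_rep.trans hP)
    rw [← hu, map_smul, hr, smul_comm]
  · refine lt_of_le_of_lt Finset.card_image_le ?_
    rw [Finset.card_image_of_injective _ fun o o' e => sys_inj o o' ⟨q (sys o), hq1 _, Commute.refl _, by rw [show q (sys o') = q (sys o) from e.symm]⟩]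
    simp

end Cfsg.Agent.PGLCover
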