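import Cfsg.Agent.Lib.Classical.PGLCover
import Cfsg.Agent.Lib.Classical.SL2
import Mathlib.FieldTheory.Finite.Basic

/-!
Groups between the projective special and general linear groups of dimension two over a field with at
least four elements have no cover by fewest proper subgroups consisting of nilpotent subgroups.
-/

set_option autoImplicit false
set_option maxHeartbeats 800000

open scoped MatrixGroups

namespace Cfsg.Agent.PGLTwoCover

open Cfsg.Agent.PGLCover

variable {F : Type*} [Field F]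

local notation "M2" => Matrix (Fin 2) (Fin 2) F
local notation "G2" => GL (Fin 2) F
local notation "Z2" => Subgroup.center (GL (Fin 2) F)

theorem mem_center_iff {a : G2} : a ∈ Z2 ↔ ∃ r : F, (a : M2) = r • 1 := by
  constructor
  · intro ha
    obtain ⟨r, hr⟩ := Matrix.mem_range_scalar_of_commute_transvectionStruct (M := (a : M2)) fun t => by
      have := Subgroup.mem_center_iff.mp ha (Matrix.GeneralLinearGroup.mkOfDetNeZero t.toMatrix (by simp))
      exact congrArg (Units.val) this
    exact ⟨r, by rw [← hr, Matrix.smul_one_eq_diagonal]; rfl⟩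
  · rintro ⟨r, hr⟩
    exact Subgroup.mem_center_iff.mpr fun g => Units.ext (by
      rw [Units.val_mul, Units.val_mul, hr, Matrix.mul_smul, Matrix.smul_mul, Matrix.one_mul, Matrix.mul_one])

/-- Having an invariant line. -/
def HasLine (a : M2) (v : Fin 2 → F) : Prop := ∃ r : F, a.mulVec v = r • v

theorem hasLine_affine {a b : M2} {x y : F} (h : b = x • 1 + y • a) {v : Fin 2 → F} (hv : HasLine a v) :
    HasLine b v := by
  obtain ⟨r, hr⟩ := hv
  exact ⟨x + y * r, by rw [h, Matrix.add_mulVec, Matrix.smul_mulVec, Matrix.smul_mulVec, Matrix.one_mulVec, hr,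
    smul_smul, add_smul]⟩

theorem comm_affine {a b : M2} {x y : F} (h : b = x • 1 + y • a) {c : M2} (hc : a * c = c * a) : b * c = c * b := by
  rw [h, Matrix.add_mul, Matrix.mul_add, Matrix.smul_mul, Matrix.smul_mul, Matrix.one_mul, Matrix.mul_smul,
    Matrix.mul_smul, Matrix.mul_one, hc]

theorem hasLine_of_comm {a b : M2} (ha : ¬ ∃ r : F, a = r • 1) (hc : a * b = b * a) {v : Fin 2 → F}
    (hv : HasLine a v) : HasLine b v :=
  let ⟨_, _, h⟩ := Classical.SL2.exists_affine ha hc
  hasLine_affine h hv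

/-- Centralisers of commuting non-scalar matrices agree. -/
theorem comm_trans {a b c : M2} (hb : ¬ ∃ r : F, b = r • 1) (hab : b * a = a * b) (hbc : b * c = c * b) :
    a * c = c * a :=
  let ⟨_, _, h⟩ := Classical.SL2.exists_affine hb hab
  comm_affine h hbc

theorem det_smul' (r : F) (a : M2) : (r • a).det = r ^ 2 * a.det := by
  rw [Matrix.det_smul, Fintype.card_fin]

theorem cayley (a : M2) : a * a = a.trace • a - a.det • 1 := Classical.SL2.sq_eq a

/-- An element whose square is not central only commutes projectively with what it commutes with. -/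
theorem honest {b z : G2} (hb : ¬ ∃ r : F, ((b * b : G2) : M2) = r • 1) (h : z * b * z⁻¹ * b⁻¹ ∈ Z2) :
    (b : M2) * z = z * b := by
  obtain ⟨ν, hν⟩ := mem_center_iff.mp h
  have h1 : ((z * b * z⁻¹ : G2) : M2) = ν • (b : M2) := by
    have e : z * b * z⁻¹ = z * b * z⁻¹ * b⁻¹ * b := by group
    rw [e, Units.val_mul, hν, Matrix.smul_mul, Matrix.one_mul]
  have h2 : (z : M2) * b = ν • ((b : M2) * z) := by
    have e : z * b = z * b * z⁻¹ * z := by group
    rw [← Units.val_mul, e, Units.val_mul, h1, Matrix.smul_mul]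
  have hdet : ((z * b * z⁻¹ : G2) : M2).det = (b : M2).det := by
    rw [Units.val_mul, Units.val_mul, Matrix.det_units_conj]
  have htr : ((z * b * z⁻¹ : G2) : M2).trace = (b : M2).trace := by
    rw [Units.val_mul, Units.val_mul, Matrix.trace_units_conj]
  rw [h1, det_smul'] at hdet
  rw [h1, Matrix.trace_smul, smul_eq_mul] at htr
  have hd0 : (b : M2).det ≠ 0 := by
    have := congrArg Matrix.det (show (b : M2) * ((b⁻¹ : G2) : M2) = 1 by rw [← Units.val_mul, mul_inv_cancel, Units.val_one])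
    rw [Matrix.det_mul, Matrix.det_one] at this
    exact left_ne_zero_of_mul_eq_one this
  have hν1 : ν = 1 := by
    rcases mul_eq_zero.mp (show (ν - 1) * (ν + 1) = 0 from
      mul_right_cancel₀ hd0 (by linear_combination hdet)) with e | e
    · exact sub_eq_zero.mp e
    · by_contra hne
      rw [eq_neg_of_add_eq_zero_left e] at htr hne
      refine hb ⟨-(b : M2).det, ?_⟩
      have h2ne : (2 : F) ≠ 0 := fun h0 => hne (by linear_combination -h0)
      have ht : (b : M2).trace = 0 := (mul_eq_zero.mp (show (2 : F) * (b : M2).trace = 0 by linear_combination -htr)).resolve_left h2ne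
      rw [Units.val_mul, cayley, ht, zero_smul, zero_sub, neg_smul]
  rw [h2, hν1, one_smul]

/-- In characteristic two the square hypothesis is not needed. -/
theorem honest_two (h2 : (2 : F) = 0) {b z : G2} (h : z * b * z⁻¹ * b⁻¹ ∈ Z2) : (b : M2) * z = z * b := by
  obtain ⟨ν, hν⟩ := mem_center_iff.mp h
  have h1 : ((z * b * z⁻¹ : G2) : M2) = ν • (b : M2) := by
    have e : z * b * z⁻¹ = z * b * z⁻¹ * b⁻¹ * b := by group
    rw [e, Units.val_mul, hν, Matrix.smul_mul, Matrix.one_mul]
  have hdet : ((z * b * z⁻¹ : G2) : M2).det = (b : M2).det := by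
    rw [Units.val_mul, Units.val_mul, Matrix.det_units_conj]
  rw [h1, det_smul'] at hdet
  have hd0 : (b : M2).det ≠ 0 := ((Matrix.isUnit_iff_isUnit_det _).mp b.isUnit).ne_zero
  have hν1 : ν = 1 := by
    have : (ν - 1) * (ν - 1) = 0 := mul_right_cancel₀ hd0 (by linear_combination hdet + (1 - ν) * (b : M2).det * h2)
    exact sub_eq_zero.mp (mul_self_eq_zero.mp this)
  have e : z * b = z * b * z⁻¹ * z := by group
  rw [← Units.val_mul z b, e, Units.val_mul, h1, hν1, one_smul]

/-- A matrix without invariant lines generates a field. -/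
theorem det_affine_ne {a : M2} (ha : ∀ v, v ≠ 0 → ¬ HasLine a v) {x y : F} (h : x ≠ 0 ∨ y ≠ 0) :
    (x • (1 : M2) + y • a).det ≠ 0 := by
  intro h0
  obtain ⟨v, hv, hv0⟩ := Matrix.exists_mulVec_eq_zero_iff.mpr h0
  rw [Matrix.add_mulVec, Matrix.smul_mulVec, Matrix.smul_mulVec, Matrix.one_mulVec] at hv0
  by_cases hy : y = 0
  · rw [hy, zero_smul, add_zero, smul_eq_zero] at hv0
    exact (h.resolve_right (not_not_intro hy)) (hv0.resolve_right hv)
  · refine ha v hv ⟨-x / y, ?_⟩
    have e : y • a.mulVec v = (-x) • v := by rw [neg_smul]; exact eq_neg_of_add_eq_zero_right hv0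
    rw [div_eq_inv_mul, mul_smul, ← e, inv_smul_smul₀ hy]

theorem affine_eq {a : M2} (ha : ¬ ∃ r : F, a = r • 1) {x y x' y' : F}
    (h : x • (1 : M2) + y • a = x' • 1 + y' • a) : x = x' ∧ y = y' := Classical.SL2.eq_of_nonscalar ha h

variable [Fintype F]

theorem exists_good {a : M2} (ha : ∀ v, v ≠ 0 → ¬ HasLine a v) (h4 : 4 ≤ Fintype.card F) :
    ∃ b : Matrix.SpecialLinearGroup (Fin 2) F, (b : M2) * a = a * b ∧
      ¬ ∃ r : F, (b : M2) * b = r • 1 := by
  classical
  have hns : ¬ ∃ r : F, a = r • 1 := by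
    rintro ⟨r, rfl⟩
    exact ha (Pi.single 0 1) (by simp) ⟨r, by rw [Matrix.smul_mulVec, Matrix.one_mulVec]⟩
  let S : Finset (F × F) := Finset.univ.erase 0
  let f : F × F → F := fun z => (z.1 • (1 : M2) + z.2 • a).det
  have hfne : ∀ z ∈ S, f z ∈ (Finset.univ.erase (0 : F)) := fun z hz => by
    refine Finset.mem_erase.mpr ⟨det_affine_ne ha ?_, Finset.mem_univ _⟩
    by_contra h
    push Not at h
    exact (Finset.mem_erase.mp hz).1 (Prod.ext h.1 h.2)
  obtain ⟨d, hd, hcard⟩ := Finset.exists_lt_card_fiber_of_mul_lt_card_of_maps_to (n := 4) hfne (by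
    simp only [S, Finset.card_erase_of_mem (Finset.mem_univ _), Finset.card_univ, Fintype.card_prod]
    obtain ⟨k, hk⟩ : ∃ k, Fintype.card F = k + 4 := ⟨_, (Nat.sub_add_cancel h4).symm⟩
    rw [hk]
    have : (k + 4) * (k + 4) = (k + 4 - 1) * 4 + (k * k + 4 * k + 4) := by
      rw [show k + 4 - 1 = k + 3 by omega]; ring
    omega)
  set T := S.filter (fun z => f z = d) with hT
  obtain ⟨z0, hz0⟩ : T.Nonempty := Finset.card_pos.mp (by omega)
  by_contra hcon
  push Not at hcon
  set M0 : M2 := z0.1 • 1 + z0.2 • a with hM0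
  have hM0d : M0.det ≠ 0 := by
    show f z0 ≠ 0
    exact (Finset.mem_erase.mp (hfne z0 (Finset.mem_filter.mp hz0).1)).1
  have hcommI : M0⁻¹ * a = a * M0⁻¹ := by
    have hc : M0 * a = a * M0 := comm_affine hM0 rfl
    calc M0⁻¹ * a = M0⁻¹ * (a * M0) * M0⁻¹ := by
          rw [Matrix.mul_assoc M0⁻¹, Matrix.mul_assoc a, Matrix.mul_nonsing_inv _ (Ne.isUnit hM0d), Matrix.mul_one]
      _ = M0⁻¹ * (M0 * a) * M0⁻¹ := by rw [hc]
      _ = a * M0⁻¹ := by rw [← Matrix.mul_assoc M0⁻¹, Matrix.nonsing_inv_mul _ (Ne.isUnit hM0d), Matrix.one_mul]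
  -- the ratios
  let w : F × F → M2 := fun z => (z.1 • 1 + z.2 • a) * M0⁻¹
  have hwc : ∀ z, a * w z = w z * a := fun z => by
    have h1 : (z.1 • (1 : M2) + z.2 • a) * a = a * (z.1 • 1 + z.2 • a) := comm_affine rfl rfl
    show a * ((z.1 • (1 : M2) + z.2 • a) * M0⁻¹) = (z.1 • (1 : M2) + z.2 • a) * M0⁻¹ * a
    rw [← Matrix.mul_assoc, ← h1, Matrix.mul_assoc, Matrix.mul_assoc, hcommI]
  have hwd : ∀ z ∈ T, (w z).det = 1 := fun z hz => by
    show ((z.1 • (1 : M2) + z.2 • a) * M0⁻¹).det = 1
    rw [Matrix.det_mul, Matrix.det_nonsing_inv, Ring.inverse_eq_inv', show (z.1 • (1 : M2) + z.2 • a).det = d from (Finset.mem_filter.mp hz).2]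
    rw [show M0.det = d from (Finset.mem_filter.mp hz0).2]
    exact mul_inv_cancel₀ ((Finset.mem_erase.mp hd).1)
  have hw4 : ∀ z ∈ T, ∃ r : F, w z * w z = r • 1 ∧ (r = 1 ∨ r = -1) := fun z hz => by
    obtain ⟨r, hr⟩ := hcon ⟨w z, hwd z hz⟩ (hwc z).symm
    refine ⟨r, hr, ?_⟩
    have := congrArg Matrix.det hr
    rw [Matrix.det_mul, det_smul', Matrix.det_one, show (⟨w z, hwd z hz⟩ : Matrix.SpecialLinearGroup (Fin 2) F).1.det = 1 from hwd z hz] at this
    exact mul_self_eq_one_iff.mp (by linear_combination -this)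
  have hfld : ∀ u u' : M2, a * u = u * a → a * u' = u' * a → u * u' = 0 → u = 0 ∨ u' = 0 := by
    intro u u' hu hu' h0
    obtain ⟨x, y, rfl⟩ := Classical.SL2.exists_affine hns hu
    by_cases h : x = 0 ∧ y = 0
    · left; rw [h.1, h.2, zero_smul, zero_smul, add_zero]
    · right
      have hdu := det_affine_ne ha (not_and_or.mp h)
      have := congrArg (fun M => (x • (1 : M2) + y • a)⁻¹ * M) h0
      simpa [← Matrix.mul_assoc, Matrix.nonsing_inv_mul _ (Ne.isUnit hdu)] using this
  have hinj : Set.InjOn w T := fun z _ z' _ e => by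
    have := congrArg (fun M => M * M0) e
    simp only [w, Matrix.mul_assoc, Matrix.nonsing_inv_mul _ (Ne.isUnit hM0d), Matrix.mul_one] at this
    obtain ⟨h1, h2⟩ := affine_eq hns this
    exact Prod.ext h1 h2
  have hle : ∀ r : F, ((T.image w).filter fun u => u * u = r • 1).card ≤ 2 := by
    intro r
    by_contra hlt
    obtain ⟨u, hu, v, hv, x, hx, huv, hux, hvx⟩ := Finset.two_lt_card.mp (not_le.mp hlt)
    simp only [Finset.mem_filter, Finset.mem_image] at hu hv hx
    have hc : ∀ {u : M2}, (∃ z ∈ T, w z = u) → a * u = u * a := fun ⟨z, _, e⟩ => e ▸ hwc z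
    have key : ∀ u v : M2, a * u = u * a → a * v = v * a → u * u = r • 1 → v * v = r • 1 → u ≠ v → u = -v := by
      intro u v cu cv eu ev hne
      have huv' : u * v = v * u := by
        obtain ⟨x, y, e⟩ := Classical.SL2.exists_affine hns cu
        exact comm_affine e cv
      have : (u - v) * (u + v) = 0 := by
        rw [Matrix.sub_mul, Matrix.mul_add, Matrix.mul_add, eu, ev, huv']; abel
      rcases hfld _ _ (by rw [Matrix.mul_sub, Matrix.sub_mul, cu, cv]) (by rw [Matrix.mul_add, Matrix.add_mul, cu, cv]) this with e | e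
      · exact absurd (sub_eq_zero.mp e) hne
      · exact eq_neg_of_add_eq_zero_left e
    have e1 := key u x (hc hu.1) (hc hx.1) hu.2 hx.2 hux
    have e2 := key v x (hc hv.1) (hc hx.1) hv.2 hx.2 hvx
    exact huv (e1.trans e2.symm)
  have hsub : T.image w ⊆ ((T.image w).filter fun u => u * u = (1 : F) • 1) ∪
      ((T.image w).filter fun u => u * u = (-1 : F) • 1) := fun u hu => by
    obtain ⟨z, hz, rfl⟩ := Finset.mem_image.mp hu
    obtain ⟨r, hr, rfl | rfl⟩ := hw4 z hz
    · exact Finset.mem_union_left _ (Finset.mem_filter.mpr ⟨hu, hr⟩)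
    · exact Finset.mem_union_right _ (Finset.mem_filter.mpr ⟨hu, hr⟩)
  have h1 := (Finset.card_le_card hsub).trans (Finset.card_union_le _ _)
  rw [Finset.card_image_of_injOn hinj] at h1
  have := hle 1
  have := hle (-1)
  omega

theorem no_nilpotent_minimal_cover (h4 : 4 ≤ Fintype.card F) (G : Subgroup (G2 ⧸ Z2))
    (hG : ((Matrix.SpecialLinearGroup.toGL : Matrix.SpecialLinearGroup (Fin 2) F →* G2).range).map
      (QuotientGroup.mk' Z2) ≤ G) :
    ¬ ∃ 𝓐 : Finset (Subgroup ↥G), ((∀ A ∈ 𝓐, A ≠ ⊤) ∧ (∀ g : ↥G, ∃ A ∈ 𝓐, g ∈ A)) ∧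
      (∀ 𝓑 : Finset (Subgroup ↥G), (∀ A ∈ 𝓑, A ≠ ⊤) ∧ (∀ g : ↥G, ∃ A ∈ 𝓑, g ∈ A) → 𝓐.card ≤ 𝓑.card) ∧
        (∀ A ∈ 𝓐, Group.IsNilpotent ↥A) := by
  classical
  let mk := QuotientGroup.mk' Z2
  let sl : Matrix.SpecialLinearGroup (Fin 2) F → ↥G := fun b =>
    ⟨mk (Matrix.SpecialLinearGroup.toGL b), hG (Subgroup.mem_map_of_mem _ ⟨b, rfl⟩)⟩
  have hcomm : ∀ {u w : G2} {g h : ↥G}, mk u = g → mk w = h → Commute g h → u * w * u⁻¹ * w⁻¹ ∈ Z2 := by
    intro u w g h hu hw hc
    rw [← QuotientGroup.eq_one_iff, ← QuotientGroup.mk'_apply, map_mul, map_mul, map_mul, map_inv, map_inv]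
    show mk u * mk w * (mk u)⁻¹ * (mk w)⁻¹ = 1
    rw [hu, hw, show (g : G2 ⧸ Z2) * h = h * g from congrArg Subtype.val hc.eq]
    group
  -- the stabilisers of the points
  let S : (Fin 2 → F) → Subgroup ↥G := fun v => ((lineStab v).map mk).subgroupOf G
  have hSmem : ∀ {v : Fin 2 → F}, v ≠ 0 → ∀ {g : ↥G} {a : G2}, mk a = g → (g ∈ S v ↔ HasLine (a : M2) v) := by
    intro v hv g a ha
    simp only [S, Subgroup.mem_subgroupOf, ← ha]
    rw [← Subgroup.mem_comap, Subgroup.comap_map_eq, QuotientGroup.ker_mk',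
      sup_eq_left.mpr (center_le_lineStab hv)]
    refine ⟨fun ⟨r, _, h⟩ => ⟨r, h⟩, fun ⟨r, h⟩ => ⟨r, fun h0 => ?_, h⟩⟩
    rw [h0, zero_smul] at h
    exact hv (act_inj a (h.trans (map_zero _).symm))
  -- the tori
  let Tor : G2 → Subgroup ↥G := fun a => ((Subgroup.centralizer {a}).map mk).subgroupOf G
  let 𝒯 : Finset (Subgroup ↥G) :=
    (Finset.univ.filter fun a : G2 => ∀ v, v ≠ 0 → ¬ HasLine (a : M2) v).image Tor
  -- one element for every point
  have hu : ∀ P : Projectivization F (Fin 2 → F), ∃ b : Matrix.SpecialLinearGroup (Fin 2) F,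
      (¬ ∃ r : F, (b : M2) = r • 1) ∧ ((¬ ∃ r : F, (b : M2) * b = r • 1) ∨ (2 : F) = 0) ∧
        HasLine (b : M2) P.rep ∧ ∀ v, v ≠ 0 → HasLine (b : M2) v → ∃ s : F, v = s • P.rep := by
    intro P
    set p := P.rep
    let N : M2 := Matrix.vecMulVec p ![-p 1, p 0]
    have hNp : N.mulVec p = 0 := by
      ext i; fin_cases i <;> simp [N, Matrix.vecMulVec, Matrix.mulVec, dotProduct, Fin.sum_univ_two] <;> ring
    have hN : ∀ v, N.mulVec v = (p 0 * v 1 - p 1 * v 0) • p := fun v => by
      ext i; fin_cases i <;> simp [N, Matrix.vecMulVec, Matrix.mulVec, dotProduct, Fin.sum_univ_two] <;> ring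
    have hdet : (1 + N).det = 1 := by
      rw [Matrix.det_fin_two]; simp [N, Matrix.vecMulVec]; ring
    have hns : ∀ r : F, N ≠ r • 1 := by
      intro r h
      have hr : r • p = 0 := by rw [← Matrix.one_mulVec p, ← Matrix.smul_mulVec, ← h, hNp]
      have hr0 := (smul_eq_zero.mp hr).resolve_right P.rep_nonzero
      rw [hr0, zero_smul] at h
      have a0 := congrFun (congrFun h 0) 1
      have a1 := congrFun (congrFun h 1) 0
      simp [N, Matrix.vecMulVec] at a0 a1
      exact P.rep_nonzero (funext fun i => by fin_cases i <;> first | exact a0 | exact a1 | simp_all)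
    refine ⟨⟨1 + N, hdet⟩, ?_, ?_, ⟨1, ?_⟩, ?_⟩
    · rintro ⟨r, hr⟩
      exact hns (r - 1) (by rw [sub_smul, one_smul, ← show (1 : M2) + N = r • 1 from hr]; abel)
    · by_cases h2 : (2 : F) = 0
      · exact Or.inr h2
      refine Or.inl ?_
      rintro ⟨r, hr⟩
      have hNN : N * N = 0 := by
        ext i j
        fin_cases i <;> fin_cases j <;> simp [N, Matrix.vecMulVec, Matrix.mul_apply, Fin.sum_univ_two] <;> ring
      have h3 : (2 : F) • N = (r - 1) • 1 := by
        have : ((1 : M2) + N) * (1 + N) = r • 1 := hr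
        rw [Matrix.add_mul, Matrix.mul_add, Matrix.mul_add, hNN, Matrix.one_mul, Matrix.mul_one, Matrix.one_mul] at this
        rw [sub_smul, one_smul, ← this]; module
      exact hns ((r - 1) / 2) (by rw [div_eq_inv_mul, mul_smul, ← h3, inv_smul_smul₀ h2])
    · show (1 + N).mulVec p = _
      rw [Matrix.add_mulVec, Matrix.one_mulVec, hNp, add_zero, one_smul]
    · rintro v hv ⟨r, hr⟩
      have h : (r - 1) • v = (p 0 * v 1 - p 1 * v 0) • p := by
        rw [← hN, sub_smul, one_smul, ← show (1 + N).mulVec v = r • v from hr, Matrix.add_mulVec, Matrix.one_mulVec]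
        abel
      by_cases hr1 : r - 1 = 0
      · rw [hr1, zero_smul] at h
        have hz := (smul_eq_zero.mp h.symm).resolve_right P.rep_nonzero
        by_cases hp0 : p 0 = 0
        · have hp1 : p 1 ≠ 0 := fun e => P.rep_nonzero (funext fun i => by fin_cases i <;> assumption)
          refine ⟨v 1 / p 1, funext fun i => ?_⟩
          fin_cases i
          · rw [hp0, zero_mul, zero_sub, neg_eq_zero] at hz
            simpa [hp0] using (mul_eq_zero.mp hz).resolve_left hp1
          · simp [hp1]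
        · refine ⟨v 0 / p 0, funext fun i => ?_⟩
          fin_cases i
          · simp [hp0]
          · show v 1 = v 0 / p 0 * p 1
            field_simp
            linear_combination hz
      · exact ⟨(r - 1)⁻¹ * (p 0 * v 1 - p 1 * v 0), by rw [mul_smul, ← h, inv_smul_smul₀ hr1]⟩
  choose bU hUns hUsq hUline hUonly using hu
  -- one element for every torus
  have hy : ∀ T ∈ 𝒯, ∃ b : Matrix.SpecialLinearGroup (Fin 2) F,
      (¬ ∃ r : F, (b : M2) * b = r • 1) ∧ (∀ v, v ≠ 0 → ¬ HasLine (b : M2) v) ∧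
        T = Tor (Matrix.SpecialLinearGroup.toGL b) := by
    intro T hT
    obtain ⟨a, ha, rfl⟩ := Finset.mem_image.mp hT
    have ha' := (Finset.mem_filter.mp ha).2
    obtain ⟨b, hb, hbsq⟩ := exists_good ha' h4
    have hans : ¬ ∃ r : F, (a : M2) = r • 1 := fun ⟨r, hr⟩ =>
      ha' (Pi.single 0 1) (by simp) ⟨r, by rw [hr, Matrix.smul_mulVec, Matrix.one_mulVec]⟩
    have hbns : ¬ ∃ r : F, (b : M2) = r • 1 := fun ⟨r, hr⟩ =>
      hbsq ⟨r * r, by rw [hr, Matrix.smul_mul, Matrix.one_mul, smul_smul]⟩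
    refine ⟨b, hbsq, fun v hv h => ha' v hv (hasLine_of_comm hbns hb h), ?_⟩
    refine congrArg (fun K : Subgroup G2 => (K.map mk).subgroupOf G) (Subgroup.ext fun c => ?_)
    simp only [Subgroup.mem_centralizer_singleton_iff]
    constructor <;> intro h
    · exact Units.ext (comm_trans hans (show (a : M2) * b = b * a from hb.symm)
        (congrArg Units.val h).symm).symm
    · exact Units.ext (comm_trans hbns (show (b : M2) * a = a * b from hb)
        (congrArg Units.val h).symm).symm
  choose bT hTsq hTline hTeq using hy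
  -- the additional element
  obtain ⟨bx, hxns, e0, e1, hxsep⟩ : ∃ bx : G2, (¬ ∃ r : F, (bx : M2) = r • 1) ∧
      HasLine (bx : M2) ![1, 0] ∧ HasLine (bx : M2) ![0, 1] ∧
        (mk bx ∈ G ∧ ∀ z : G2, mk z ∈ G → ¬ (∃ r : F, (z : M2) = r • 1) →
          (∀ v, v ≠ 0 → ¬ HasLine (z : M2) v) ∨ (∃ v, v ≠ 0 ∧ HasLine (z : M2) v ∧ ∀ w, w ≠ 0 → HasLine (z : M2) w → ∃ s : F, w = s • v) →
          z * bx * z⁻¹ * bx⁻¹ ∈ Z2 → False) := by
    have sep : ∀ bx : G2, HasLine (bx : M2) ![1, 0] → HasLine (bx : M2) ![0, 1] → ∀ z : G2,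
        (¬ ∃ r : F, (z : M2) = r • 1) → (bx : M2) * z = z * bx → (¬ ∃ r : F, (bx : M2) = r • 1) →
        ((∀ v, v ≠ 0 → ¬ HasLine (z : M2) v) ∨ (∃ v, v ≠ 0 ∧ HasLine (z : M2) v ∧ ∀ w, w ≠ 0 → HasLine (z : M2) w → ∃ s : F, w = s • v)) → False := by
      intro bx h0 h1 z _ hc hns hcase
      have l0 := hasLine_of_comm hns hc h0
      have l1 := hasLine_of_comm hns hc h1
      rcases hcase with h | ⟨v, -, -, h⟩
      · exact h _ (fun e => by simpa using congrFun e 0) l0
      · obtain ⟨s, hs⟩ := h _ (fun e => by simpa using congrFun e 0) l0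
        obtain ⟨s', hs'⟩ := h _ (fun e => by simpa using congrFun e 1) l1
        have a0 := congrFun hs 0
        have a1 := congrFun hs 1
        have b1 := congrFun hs' 1
        simp at a0 a1 b1
        rcases a1 with e | e
        · rw [e, zero_mul] at a0; exact one_ne_zero a0
        · rw [e, mul_zero] at b1; exact one_ne_zero b1
    have diagLine : ∀ (g : G2) (x y : F), (g : M2) = !![x, 0; 0, y] →
        HasLine (g : M2) ![1, 0] ∧ HasLine (g : M2) ![0, 1] := fun g x y e => by
      refine ⟨⟨x, ?_⟩, ⟨y, ?_⟩⟩ <;>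
        (rw [e]; ext i; fin_cases i <;> simp [Matrix.mulVec, dotProduct, Fin.sum_univ_two])
    have hgood : ∀ bx : G2, mk bx ∈ G → ∀ x y : F, (bx : M2) = !![x, 0; 0, y] →
        ¬ (∃ r : F, (bx : M2) * bx = r • 1) →
        (¬ ∃ r : F, (bx : M2) = r • 1) ∧ HasLine (bx : M2) ![1, 0] ∧ HasLine (bx : M2) ![0, 1] ∧
        (mk bx ∈ G ∧ ∀ z : G2, mk z ∈ G → ¬ (∃ r : F, (z : M2) = r • 1) →
          (∀ v, v ≠ 0 → ¬ HasLine (z : M2) v) ∨ (∃ v, v ≠ 0 ∧ HasLine (z : M2) v ∧ ∀ w, w ≠ 0 → HasLine (z : M2) w → ∃ s : F, w = s • v) →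
          z * bx * z⁻¹ * bx⁻¹ ∈ Z2 → False) := by
      intro bx hmem x y e hsq
      have hns : ¬ ∃ r : F, (bx : M2) = r • 1 := fun ⟨r, hr⟩ =>
        hsq ⟨r * r, by rw [hr, Matrix.smul_mul, Matrix.one_mul, smul_smul]⟩
      obtain ⟨l0, l1⟩ := diagLine bx x y e
      exact ⟨hns, l0, l1, hmem, fun z _ hz hcase hc => sep bx l0 l1 z hz
        (honest (by rwa [Units.val_mul]) hc) hns hcase⟩
    by_cases hex : ∃ t : F, t ≠ 0 ∧ t ^ 4 ≠ 1
    · obtain ⟨t, ht, ht4⟩ := hex
      let b : Matrix.SpecialLinearGroup (Fin 2) F := ⟨!![t, 0; 0, t⁻¹], by simp [Matrix.det_fin_two, ht]⟩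
      refine ⟨_, hgood (Matrix.SpecialLinearGroup.toGL b) (sl b).2 t t⁻¹ rfl ?_⟩
      rintro ⟨r, hr⟩
      change (!![t, 0; 0, t⁻¹] : M2) * !![t, 0; 0, t⁻¹] = r • 1 at hr
      have a0 := congrFun (congrFun hr 0) 0
      have a1 := congrFun (congrFun hr 1) 1
      simp [Matrix.mul_apply, Fin.sum_univ_two] at a0 a1
      rw [← a0] at a1
      field_simp at a1
      exact ht4 (by linear_combination -a1)
    · push Not at hex
      obtain ⟨g, hg⟩ := IsCyclic.exists_ofOrder_eq_natCard (α := Fˣ)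
      rw [Nat.card_units, Nat.card_eq_fintype_card] at hg
      have hg4 : orderOf g ∣ 4 := orderOf_dvd_of_pow_eq_one
        (Units.ext (by rw [Units.val_pow_eq_pow_val, Units.val_one]; exact hex _ g.ne_zero))
      have hq5 : Fintype.card F = 5 := by
        have h1 := Nat.le_of_dvd (by norm_num) hg4
        rw [hg] at hg4 h1
        have h45 : Fintype.card F - 1 = 3 ∨ Fintype.card F - 1 = 4 := by omega
        rcases h45 with h | h
        · rw [h] at hg4; norm_num at hg4
        · omega
      have ho : orderOf g = 4 := by rw [hg, hq5]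
      have hg2 : (g : F) ^ 2 = -1 := by
        have hh : ((g : F) ^ 2 - 1) * ((g : F) ^ 2 + 1) = 0 := by linear_combination hex _ g.ne_zero
        refine eq_neg_of_add_eq_zero_left ((mul_eq_zero.mp hh).resolve_left fun e => ?_)
        have : orderOf g ∣ 2 := orderOf_dvd_of_pow_eq_one
          (Units.ext (by rw [Units.val_pow_eq_pow_val, Units.val_one]; exact sub_eq_zero.mp e))
        rw [ho] at this; norm_num at this
      have h2F : (2 : F) ≠ 0 := fun h => by
        have h1 : (g : F) ^ 2 = 1 := by linear_combination hg2 - h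
        have : orderOf g ∣ 2 := orderOf_dvd_of_pow_eq_one (Units.ext (by rw [Units.val_pow_eq_pow_val, Units.val_one]; exact h1))
        rw [ho] at this; norm_num at this
      let d : G2 := Matrix.GeneralLinearGroup.mkOfDetNeZero !![(g : F), 0; 0, 1] (by simp [Matrix.det_fin_two])
      by_cases hd : mk d ∈ G
      · refine ⟨_, hgood d hd (g : F) 1 rfl ?_⟩
        rintro ⟨r, hr⟩
        have a0 := congrFun (congrFun hr 0) 0
        have a1 := congrFun (congrFun hr 1) 1
        simp [d, Matrix.mul_apply, Fin.sum_univ_two] at a0 a1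
        rw [← a1, ← sq, hg2] at a0
        exact h2F (by linear_combination -a0)
      · -- only elements of square determinant
        have hsquare : ∀ z : G2, mk z ∈ G → ∃ r : F, (z : M2).det = r ^ 2 := by
          intro z hz
          by_contra hns
          push Not at hns
          have hz0 : (z : M2).det ≠ 0 := ((Matrix.isUnit_iff_isUnit_det _).mp z.isUnit).ne_zero
          have hr : ∃ r : F, r ≠ 0 ∧ (z : M2).det * g = r ^ 2 := by
            obtain ⟨k, hk⟩ : ∃ k : ℕ, g ^ k = Units.mk0 _ hz0 :=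
              mem_powers_iff_mem_zpowers.mpr (by
                rw [(Subgroup.card_eq_iff_eq_top (Subgroup.zpowers g)).mp (by
                  rw [Nat.card_zpowers, hg, Nat.card_units, Nat.card_eq_fintype_card])]
                exact Subgroup.mem_top _)
            have hk' : (z : M2).det = (g : F) ^ k := by
              rw [← Units.val_pow_eq_pow_val, hk, Units.val_mk0]
            rcases Nat.even_or_odd k with ⟨j, hj⟩ | ⟨j, hj⟩
            · exact absurd (by rw [hk', hj, ← two_mul, pow_mul']) (hns ((g : F) ^ j))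
            · exact ⟨(g : F) ^ (j + 1), pow_ne_zero _ g.ne_zero, by rw [hk', hj]; ring⟩
          obtain ⟨r, hr0, hr⟩ := hr
          refine hd ?_
          let b : Matrix.SpecialLinearGroup (Fin 2) F := ⟨r⁻¹ • ((z : M2) * (d : M2)), by
            rw [det_smul', Matrix.det_mul, show (d : M2).det = g by simp [d, Matrix.det_fin_two], hr]
            field_simp⟩
          have hb : mk (Matrix.SpecialLinearGroup.toGL b) = mk (z * d) := by
            have hc : Matrix.SpecialLinearGroup.toGL b * (z * d)⁻¹ ∈ Z2 := mem_center_iff.mpr ⟨r⁻¹, by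
              rw [Units.val_mul, show ((Matrix.SpecialLinearGroup.toGL b : G2) : M2) = r⁻¹ • ((z * d : G2) : M2) from rfl,
                Matrix.smul_mul, ← Units.val_mul, mul_inv_cancel, Units.val_one]⟩
            rw [show Matrix.SpecialLinearGroup.toGL b = Matrix.SpecialLinearGroup.toGL b * (z * d)⁻¹ * (z * d) by group,
              map_mul mk _ (z * d), show mk _ = 1 from (QuotientGroup.eq_one_iff _).mpr hc, one_mul]
          have := mul_mem (inv_mem hz) (show mk (z * d) ∈ G from hb ▸ (sl b).2)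
          rwa [map_mul, inv_mul_cancel_left] at this
        let b : Matrix.SpecialLinearGroup (Fin 2) F := ⟨!![(g : F), 0; 0, (g : F)⁻¹], by simp [Matrix.det_fin_two]⟩
        obtain ⟨l0, l1⟩ := diagLine (Matrix.SpecialLinearGroup.toGL b) _ _ rfl
        have hginv : (g : F)⁻¹ = -(g : F) := inv_eq_of_mul_eq_one_right (by linear_combination -hg2)
        have hns : ¬ ∃ r : F, ((Matrix.SpecialLinearGroup.toGL b : G2) : M2) = r • 1 := by
          rintro ⟨r, hr⟩
          change (!![(g : F), 0; 0, (g : F)⁻¹] : M2) = r • 1 at hr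
          have a0 := congrFun (congrFun hr 0) 0
          have a1 := congrFun (congrFun hr 1) 1
          simp at a0 a1
          rw [hginv, ← a0] at a1
          exact h2F ((mul_eq_zero.mp (show (2 : F) * (g : F) = 0 by linear_combination -a1)).resolve_right g.ne_zero)
        refine ⟨_, hns, l0, l1, (sl b).2, fun z hzG hz hcase hc => ?_⟩
        by_cases hh : ((Matrix.SpecialLinearGroup.toGL b : G2) : M2) * z = z * (Matrix.SpecialLinearGroup.toGL b : G2)
        · exact sep _ l0 l1 z hz hh hns hcase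
        obtain ⟨ν, hν⟩ := mem_center_iff.mp hc
        have h2 : (z : M2) * (Matrix.SpecialLinearGroup.toGL b : G2) =
            ν • (((Matrix.SpecialLinearGroup.toGL b : G2) : M2) * z) := by
          have e : z * Matrix.SpecialLinearGroup.toGL b =
              (z * Matrix.SpecialLinearGroup.toGL b * z⁻¹ * (Matrix.SpecialLinearGroup.toGL b)⁻¹) *
                (Matrix.SpecialLinearGroup.toGL b * z) := by group
          rw [← Units.val_mul, e, Units.val_mul, hν, Matrix.smul_mul, Matrix.one_mul, Units.val_mul]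
        have hν1 : ν ≠ 1 := fun e => hh (by rw [h2, e, one_smul])
        change (z : M2) * !![(g : F), 0; 0, (g : F)⁻¹] = ν • ((!![(g : F), 0; 0, (g : F)⁻¹] : M2) * z) at h2
        rw [hginv] at h2
        have a00 := congrFun (congrFun h2 0) 0
        have a11 := congrFun (congrFun h2 1) 1
        simp [Matrix.mul_apply, Fin.sum_univ_two, Matrix.vecMul, dotProduct] at a00 a11
        have z00 : (z : M2) 0 0 = 0 := by
          have : (1 - ν) * ((g : F) * (z : M2) 0 0) = 0 := by linear_combination a00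
          exact (mul_eq_zero.mp ((mul_eq_zero.mp this).resolve_left (sub_ne_zero.mpr (Ne.symm hν1)))).resolve_left g.ne_zero
        have z11 : (z : M2) 1 1 = 0 := by
          have : (1 - ν) * ((g : F) * (z : M2) 1 1) = 0 := by linear_combination a11
          exact (mul_eq_zero.mp ((mul_eq_zero.mp this).resolve_left (sub_ne_zero.mpr (Ne.symm hν1)))).resolve_left g.ne_zero
        obtain ⟨r, hr⟩ := hsquare z hzG
        rw [Matrix.det_fin_two, z00, z11] at hr
        have hz0 : (z : M2).det ≠ 0 := ((Matrix.isUnit_iff_isUnit_det _).mp z.isUnit).ne_zero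
        rw [Matrix.det_fin_two, z00, z11] at hz0
        have hbc : (z : M2) 0 1 * (z : M2) 1 0 = ((g : F) * r) ^ 2 := by
          rw [mul_pow, hg2]; linear_combination -hr
        have hy : (z : M2) 0 1 ≠ 0 := fun e => hz0 (by rw [e]; ring)
        have hgr : (g : F) * r ≠ 0 := fun e => hz0 (by rw [e] at hbc; linear_combination -hbc)
        -- two different invariant lines
        have lineOf : ∀ s : F, s ^ 2 = ((g : F) * r) ^ 2 → HasLine (z : M2) ![(z : M2) 0 1, s] := fun s hs => by
          refine ⟨s, ?_⟩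
          ext i
          fin_cases i
          · simp [Matrix.mulVec, dotProduct, Fin.sum_univ_two, z00]; ring
          · simp [Matrix.mulVec, dotProduct, Fin.sum_univ_two, z11]; linear_combination hbc - hs
        have w0 := lineOf _ rfl
        have w1 := lineOf (-((g : F) * r)) (by ring)
        rcases hcase with h | ⟨v, hv, -, h⟩
        · exact h _ (fun e => hy (by simpa using congrFun e 0)) w0
        · obtain ⟨s, hs⟩ := h _ (fun e => hy (by simpa using congrFun e 0)) w0
          obtain ⟨s', hs'⟩ := h _ (fun e => hy (by simpa using congrFun e 0)) w1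
          have c0 := congrFun hs 0
          have c1 := congrFun hs 1
          have d0 := congrFun hs' 0
          have d1 := congrFun hs' 1
          simp at c0 c1 d0 d1
          have hv0 : v 0 ≠ 0 := fun e => hy (by rw [c0, e, mul_zero])
          have : s = s' := mul_right_cancel₀ hv0 (c0.symm.trans d0)
          rw [← this] at d1
          exact hgr ((mul_eq_zero.mp (show (2 : F) * ((g : F) * r) = 0 by linear_combination c1 - d1)).resolve_left h2F)
  obtain ⟨hxG, hxsep⟩ := hxsep
  let x : ↥G := ⟨mk bx, hxG⟩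
  -- all the elements
  haveI : Fintype (Projectivization F (Fin 2 → F)) := Fintype.ofFinite _
  let Xf : (Projectivization F (Fin 2 → F)) ⊕ {T // T ∈ 𝒯} ⊕ Unit → ↥G :=
    Sum.elim (fun P => sl (bU P)) (Sum.elim (fun T => sl (bT T.1 T.2)) (fun _ => x))
  -- what commutes with a good element
  have hz_of : ∀ (b : Matrix.SpecialLinearGroup (Fin 2) F) (z : G2),
      ((¬ ∃ r : F, (b : M2) * b = r • 1) ∨ (2 : F) = 0) →
      z * Matrix.SpecialLinearGroup.toGL b * z⁻¹ * (Matrix.SpecialLinearGroup.toGL b)⁻¹ ∈ Z2 →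
      (b : M2) * z = z * b := fun b z hb hc => by
    rcases hb with hb | hb
    · exact honest (by rw [Units.val_mul]; exact hb) hc
    · exact honest_two hb hc
  have hTns : ∀ T h, ¬ ∃ r : F, (bT T h : M2) = r • 1 := fun T h ⟨r, hr⟩ =>
    hTsq T h ⟨r * r, by rw [hr, Matrix.smul_mul, Matrix.one_mul, smul_smul]⟩
  have hsep : ∀ i j, ∀ z : ↥G, z ≠ 1 → Commute z (Xf i) → Commute z (Xf j) → i = j := by
    intro i j z hz hi hj
    obtain ⟨a, ha⟩ := QuotientGroup.mk'_surjective Z2 (z : G2 ⧸ Z2)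
    have hans : ¬ ∃ r : F, (a : M2) = r • 1 := fun h => hz (Subtype.ext (ha.symm.trans
      ((QuotientGroup.eq_one_iff a).mpr (mem_center_iff.mpr h))))
    -- the invariant lines of the lift
    have hshape : ∀ k, Commute z (Xf k) →
        (∀ P, k = Sum.inl P → HasLine (a : M2) P.rep ∧ ∀ v, v ≠ 0 → HasLine (a : M2) v → ∃ s : F, v = s • P.rep) ∧
        (∀ T, k = Sum.inr (Sum.inl T) → (∀ v, v ≠ 0 → ¬ HasLine (a : M2) v) ∧ T.1 = Tor a) := by
      intro k hk
      constructor
      · rintro P rfl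
        have hc := hz_of (bU P) a (hUsq P) (hcomm (u := a) ha rfl hk)
        exact ⟨hasLine_of_comm (hUns P) hc (hUline P), fun v hv h => hUonly P v hv (hasLine_of_comm hans hc.symm h)⟩
      · rintro T rfl
        have hc := hz_of (bT T.1 T.2) a (Or.inl (hTsq T.1 T.2)) (hcomm (u := a) ha rfl hk)
        refine ⟨fun v hv h => hTline T.1 T.2 v hv (hasLine_of_comm hans hc.symm h), (hTeq T.1 T.2).trans ?_⟩
        refine congrArg (fun K : Subgroup G2 => (K.map mk).subgroupOf G) (Subgroup.ext fun c => ?_)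
        simp only [Subgroup.mem_centralizer_singleton_iff]
        constructor <;> intro h
        · exact Units.ext (comm_trans (hTns T.1 T.2) hc (congrArg Units.val h).symm).symm
        · exact Units.ext (comm_trans hans hc.symm (congrArg Units.val h).symm).symm
    have hx : ∀ k, k = Sum.inr (Sum.inr ()) → Commute z (Xf k) →
        ((∀ v, v ≠ 0 → ¬ HasLine (a : M2) v) ∨ (∃ v, v ≠ 0 ∧ HasLine (a : M2) v ∧ ∀ w, w ≠ 0 → HasLine (a : M2) w → ∃ s : F, w = s • v)) → False := by
      rintro k rfl hk hcase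
      exact hxsep a (ha ▸ z.2) hans hcase (hcomm (u := a) (w := bx) ha rfl hk)
    rcases i with P | T | u <;> rcases j with P' | T' | u'
    · obtain ⟨-, h2⟩ := (hshape _ hi).1 P rfl
      obtain ⟨h1', -⟩ := (hshape _ hj).1 P' rfl
      obtain ⟨s, hs⟩ := h2 _ P'.rep_nonzero h1'
      refine congrArg _ (Eq.symm ?_)
      rw [← P'.mk_rep, ← P.mk_rep, Projectivization.mk_eq_mk_iff']
      exact ⟨s, hs.symm⟩
    · exact absurd ((hshape _ hi).1 P rfl).1 (((hshape _ hj).2 T' rfl).1 _ P.rep_nonzero)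
    · exact (hx _ rfl hj (Or.inr ⟨P.rep, P.rep_nonzero, (hshape _ hi).1 P rfl⟩)).elim
    · exact absurd ((hshape _ hj).1 P' rfl).1 (((hshape _ hi).2 T rfl).1 _ P'.rep_nonzero)
    · exact congrArg _ (congrArg _ (Subtype.ext (((hshape _ hi).2 T rfl).2.trans ((hshape _ hj).2 T' rfl).2.symm)))
    · exact (hx _ rfl hj (Or.inl ((hshape _ hi).2 T rfl).1)).elim
    · exact (hx _ rfl hi (Or.inr ⟨P'.rep, P'.rep_nonzero, (hshape _ hj).1 P' rfl⟩)).elim
    · exact (hx _ rfl hi (Or.inl ((hshape _ hj).2 T' rfl).1)).elim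
    · rfl
  have hX1 : ∀ i, Xf i ≠ 1 := by
    intro i hi
    rcases i with P | T | u
    · have h : mk (Matrix.SpecialLinearGroup.toGL (bU P)) = 1 := congrArg Subtype.val hi
      exact hUns P (mem_center_iff.mp ((QuotientGroup.eq_one_iff _).mp h))
    · have h : mk (Matrix.SpecialLinearGroup.toGL (bT T.1 T.2)) = 1 := congrArg Subtype.val hi
      exact hTns T.1 T.2 (mem_center_iff.mp ((QuotientGroup.eq_one_iff _).mp h))
    · have h : mk bx = 1 := congrArg Subtype.val hi
      exact hxns (mem_center_iff.mp ((QuotientGroup.eq_one_iff _).mp h))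
  refine NilpotentCover.no_minimal_cover ((Finset.univ.image fun P : Projectivization F (Fin 2 → F) => S P.rep) ∪ 𝒯)
    (Finset.univ.image Xf) ?_ ?_ ?_ ?_ ?_
  · intro H hH htop
    rcases Finset.mem_union.mp hH with h | h
    · obtain ⟨P, -, rfl⟩ := Finset.mem_image.mp h
      obtain ⟨w, hw⟩ : ∃ w : Fin 2 → F, w ∉ (F ∙ P.rep) := by
        by_contra hc
        push Not at hc
        have h := finrank_span_singleton (K := F) P.rep_nonzero
        rw [show (F ∙ P.rep) = ⊤ from eq_top_iff.mpr fun x _ => hc x, finrank_top, Module.finrank_fin_fun] at h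
        omega
      have hw0 : w ≠ 0 := fun h => hw (h ▸ Submodule.zero_mem _)
      set P' := Projectivization.mk F w hw0
      obtain ⟨s, hs⟩ := hUonly P' P.rep P.rep_nonzero
        ((hSmem P.rep_nonzero (g := sl (bU P')) rfl).mp (htop ▸ Subgroup.mem_top _))
      obtain ⟨u, hu⟩ := (Projectivization.mk_eq_mk_iff' F _ _ P'.rep_nonzero hw0).mp P'.mk_rep
      have hs0 : s ≠ 0 := fun h => P.rep_nonzero (by rw [hs, h, zero_smul])
      have hu0 : u ≠ 0 := fun h => P'.rep_nonzero (by rw [← hu, h, zero_smul])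
      refine hw (Submodule.mem_span_singleton.mpr ⟨(s * u)⁻¹, ?_⟩)
      rw [hs, ← hu, smul_smul, smul_smul, mul_assoc, inv_mul_cancel₀ (mul_ne_zero hs0 hu0), one_smul]
    · obtain ⟨a, ha, rfl⟩ := Finset.mem_image.mp h
      have ha' := (Finset.mem_filter.mp ha).2
      obtain ⟨w0⟩ : Nonempty (Projectivization F (Fin 2 → F)) :=
        ⟨Projectivization.mk F ![1, 0] (fun h => by simpa using congrFun h 0)⟩
      have hm : sl (bU w0) ∈ Tor a := htop ▸ Subgroup.mem_top _
      simp only [Tor, Subgroup.mem_subgroupOf, Subgroup.mem_map, Subgroup.mem_centralizer_singleton_iff] at hm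
      obtain ⟨c, hc, hcc⟩ := hm
      have hceq := (QuotientGroup.eq (s := Z2)).mp hcc
      obtain ⟨r, hr⟩ := mem_center_iff.mp hceq
      have hU : (bU w0 : M2) = r • (c : M2) := by
        have e : Matrix.SpecialLinearGroup.toGL (bU w0) = c * (c⁻¹ * Matrix.SpecialLinearGroup.toGL (bU w0)) := by group
        rw [show (bU w0 : M2) = ((Matrix.SpecialLinearGroup.toGL (bU w0) : G2) : M2) from rfl, e, Units.val_mul, hr,
          Matrix.mul_smul, Matrix.mul_one]
      refine ha' w0.rep w0.rep_nonzero (hasLine_of_comm (hUns w0) ?_ (hUline w0))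
      rw [hU, Matrix.smul_mul, Matrix.mul_smul, ← Units.val_mul, hc, Units.val_mul]
  · intro h
    obtain ⟨i, -, e⟩ := Finset.mem_image.mp h
    exact hX1 i e
  · intro y hy y' hy' z hz h h'
    obtain ⟨i, -, rfl⟩ := Finset.mem_image.mp hy
    obtain ⟨j, -, rfl⟩ := Finset.mem_image.mp hy'
    rw [hsep i j z hz h h']
  · intro y _ z _ _ g _
    obtain ⟨a, ha⟩ := QuotientGroup.mk'_surjective Z2 (g : G2 ⧸ Z2)
    by_cases hl : ∀ v, v ≠ 0 → ¬ HasLine (a : M2) v
    · refine ⟨Tor a, Finset.mem_union_right _ (Finset.mem_image_of_mem _ (Finset.mem_filter.mpr ⟨Finset.mem_univ _, hl⟩)), ?_⟩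
      exact Subgroup.mem_subgroupOf.mpr ⟨a, Subgroup.mem_centralizer_singleton_iff.mpr rfl, ha⟩
    · push Not at hl
      obtain ⟨v, hv, r, hr⟩ := hl
      set P : Projectivization F (Fin 2 → F) := Projectivization.mk F v hv with hP
      obtain ⟨u, hu⟩ := (Projectivization.mk_eq_mk_iff' F _ _ P.rep_nonzero hv).mp P.mk_rep
      refine ⟨S P.rep, Finset.mem_union_left _ (Finset.mem_image_of_mem _ (Finset.mem_univ P)),
        (hSmem P.rep_nonzero ha).mpr ⟨r, ?_⟩⟩
      rw [← hu, Matrix.mulVec_smul, hr, smul_comm]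
  · refine lt_of_le_of_lt (Finset.card_union_le _ _) ?_
    rw [Finset.card_image_of_injective Finset.univ (f := Xf) fun i j e =>
      hsep i j (Xf i) (hX1 i) (Commute.refl _) (e ▸ Commute.refl _)]
    simp only [Finset.card_univ, Fintype.card_sum, Fintype.card_coe, Fintype.card_unit]
    have := Finset.card_image_le (s := Finset.univ) (f := fun P : Projectivization F (Fin 2 → F) => S P.rep)
    rw [Finset.card_univ] at this
    omega

end Cfsg.Agent.PGLTwoCover
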