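import Cfsg.Prelude.Def_LieTypeDatum
import Cfsg.Agent.Lib.Classical.OmegaTrans

/-!
Similitudes of a hyperbolic form fixing both classes of generators.
-/

set_option autoImplicit false
set_option linter.style.haveILetI false
set_option linter.unusedSectionVars false

open Matrix QuadraticMap Module

namespace Cfsg.Agent.PGOClasses

open Cfsg.Agent.Classical Cfsg.Agent.Classical.Refl

variable {F : Type*} [Field F] [Fintype F] {m : ℕ}

local notation "VV" => PlusMax.V F m
local notation "QQ" => PlusMax.QP (F := F) (m := m)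
local notation "II" => Fin m ⊕ Fin m

/-- The map scaling the first half of the coordinates. -/
def tmat (μ : F) : Matrix II II F := Matrix.diagonal (Sum.elim (fun _ => μ) fun _ => 1)

theorem QP_tmat (μ : F) (v : VV) : QQ (tmat μ *ᵥ v) = μ * QQ v := by
  rw [PlusMax.QP_apply, PlusMax.QP_apply, Cfsg.quadFormPlus, Cfsg.quadFormPlus, Finset.mul_sum]
  refine Finset.sum_congr rfl fun i _ => ?_
  simp [tmat, mulVec_diagonal, mul_assoc]

theorem det_tmat (μ : F) : (tmat (m := m) μ).det = μ ^ m := by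
  rw [tmat, det_diagonal, Fintype.prod_sum_type]
  simp

theorem tmat_injective {μ : F} (hμ : μ ≠ 0) : Function.Injective (Matrix.mulVecLin (tmat (m := m) μ)) := by
  intro u v h
  funext i
  have := congrFun h i
  rcases i with i | i <;> simpa [tmat, mulVec_diagonal, hμ] using this

theorem gen_tmat {μ : F} (hμ : μ ≠ 0) {U : Submodule F VV} (hU : PlusMax.Gen U) :
    PlusMax.Gen (U.map (Matrix.mulVecLin (tmat μ))) := by
  refine ⟨(Submodule.equivMapOfInjective _ (tmat_injective hμ) U).finrank_eq.symm.trans hU.1, ?_⟩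
  rintro _ ⟨x, hx, rfl⟩
  have h := hU.2 x hx
  rw [← PlusMax.QP_apply] at h ⊢
  rw [Matrix.mulVecLin_apply, QP_tmat, h, mul_zero]

theorem f_inj (g : VV →ₗ[F] VV) (hg : Function.Injective g) (A B : Submodule F VV) :
    PlusMax.f (A.map g) (B.map g) = PlusMax.f A B := by
  rw [PlusMax.f, PlusMax.f, ← Submodule.map_inf _ hg, ← (Submodule.equivMapOfInjective _ hg (A ⊓ B)).finrank_eq]

theorem parity_tmat {μ : F} (hμ : μ ≠ 0) {U : Submodule F VV} (hU : PlusMax.Gen U) :
    Even (PlusMax.f U (U.map (Matrix.mulVecLin (tmat μ)))) := by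
  set U0 : Submodule F VV := PlusMax.std fun _ => false
  have h0 : PlusMax.Gen U0 := PlusMax.gen_std _
  have e : U0.map (Matrix.mulVecLin (tmat μ)) = U0 := by
    refine Submodule.eq_of_le_of_finrank_le ?_ ?_
    · rintro _ ⟨x, hx, rfl⟩ i
      have := hx i
      simpa [tmat, mulVec_diagonal] using this
    · rw [(gen_tmat hμ h0).1, h0.1]
  have h1 := PlusMax.parity hU h0 (gen_tmat hμ hU)
  have h2 : PlusMax.f U0 (U.map (Matrix.mulVecLin (tmat μ))) = PlusMax.f U0 U := by
    conv_lhs => rw [← e]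
    exact f_inj _ (tmat_injective hμ) _ _
  rw [h2, PlusMax.f_comm U0 U] at h1
  rw [Nat.even_iff] at h1 ⊢
  omega

/-- A similitude of the hyperbolic form preserves parity iff its determinant is the expected power. -/
theorem crit (h2 : (2 : F) ≠ 0) (f : VV ≃ₗ[F] VV) {μ : F} (hμ : μ ≠ 0) (hf : ∀ v, QQ (f v) = μ * QQ v) :
    (∀ U : Submodule F VV, PlusMax.Gen U → Even (PlusMax.f U (U.map f.toLinearMap))) ↔
      LinearMap.det f.toLinearMap = μ ^ m := by
  have hTinv : tmat (m := m) μ⁻¹ * tmat μ = 1 := by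
    rw [tmat, tmat, diagonal_mul_diagonal, ← diagonal_one]
    congr 1
    funext i
    rcases i with i | i <;> simp [hμ]
  have hTinv' : tmat (m := m) μ * tmat μ⁻¹ = 1 := mul_eq_one_comm.1 hTinv
  set A : Matrix II II F := tmat μ⁻¹ * LinearMap.toMatrix' f.toLinearMap with hA
  have hfA : ∀ v, f v = tmat μ *ᵥ (A *ᵥ v) := fun v => by
    rw [hA, mulVec_mulVec, ← Matrix.mul_assoc, hTinv', Matrix.one_mul]
    exact (LinearMap.toMatrix'_mulVec f.toLinearMap v).symm
  have hdet : LinearMap.det f.toLinearMap = μ ^ m * A.det := by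
    rw [hA, det_mul, det_tmat, ← mul_assoc, ← mul_pow, mul_inv_cancel₀ hμ, one_pow, one_mul,
      LinearMap.det_toMatrix']
  have hAu : IsUnit A := by
    rw [Matrix.isUnit_iff_isUnit_det, isUnit_iff_ne_zero]
    intro h0
    exact f.isUnit_det'.ne_zero (by rw [hdet, h0, mul_zero])
  let k : O QQ := ⟨hAu.unit, fun u _ => by
    show QQ (A *ᵥ u) = QQ u
    refine mul_left_cancel₀ hμ ?_
    rw [← QP_tmat, ← hfA, hf]⟩
  have hmap : ∀ U : Submodule F VV, U.map f.toLinearMap =
      (U.map (Matrix.mulVecLin A)).map (Matrix.mulVecLin (tmat μ)) := fun U => by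
    rw [← Submodule.map_comp]
    congr 1
    exact LinearMap.ext hfA
  have key : ∀ U : Submodule F VV, PlusMax.Gen U →
      (Even (PlusMax.f U (U.map f.toLinearMap)) ↔ A.det = 1) := by
    intro U hU
    have hkU : PlusMax.Gen (U.map (Matrix.mulVecLin A)) := OmegaTrans.gen_map k hU
    have h1 := PlusMax.parity hU hkU (gen_tmat hμ hkU)
    have h3 := parity_tmat hμ hkU
    have h4 : Even (PlusMax.f U (U.map (Matrix.mulVecLin A))) ↔ A.det = 1 := OmegaTrans.det_eq_parity h2 hU k
    rw [hmap, ← h4]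
    rw [Nat.even_iff] at h1 h3
    rw [Nat.even_iff, Nat.even_iff]
    omega
  constructor
  · intro h
    rw [hdet, (key _ (PlusMax.gen_std fun _ => false)).1 (h _ (PlusMax.gen_std _)), mul_one]
  · intro h U hU
    refine (key U hU).2 (mul_left_cancel₀ (pow_ne_zero m hμ) ?_)
    rw [← hdet, h, mul_one]

theorem singular_le_gen (W : Submodule F VV) (hW : ∀ w ∈ W, QQ w = 0) :
    ∃ G : Submodule F VV, PlusMax.Gen G ∧ W ≤ G := by
  have hle : W ≤ PlusMax.perp W := fun x hx => (PlusMax.mem_perp _ _).2 fun t ht =>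
    OmegaTrans.polar_eq_of_singular QQ PlusMax.nondeg hW ht hx
  have hd := Submodule.finrank_mono hle
  rw [PlusMax.finrank_perp] at hd
  set U0 : Submodule F VV := PlusMax.std fun _ => false
  have h0 : PlusMax.Gen U0 := PlusMax.gen_std _
  obtain ⟨l, hl⟩ : ∃ l : W →ₗ[F] U0, Function.Injective l := by
    let b := Module.finBasis F W
    let c := Module.finBasis F U0
    have hk : finrank F W ≤ finrank F U0 := by rw [h0.1]; omega
    exact ⟨b.constr F (c ∘ Fin.castLE hk), b.injective_constr_of_linearIndependent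
      (c.linearIndependent.comp _ (Fin.castLE_injective hk))⟩
  obtain ⟨g, hg, hgW⟩ := WittExt.extend QQ PlusMax.nondeg _ W (U0.subtype.comp l) rfl
    (U0.injective_subtype.comp hl) fun x => by rw [hW _ x.2]; exact h0.2 _ (l x).2
  refine ⟨U0.map g.symm.toLinearMap, ⟨(LinearEquiv.finrank_map_eq g.symm U0).trans h0.1, ?_⟩, fun w hw => ?_⟩
  · rintro _ ⟨a, ha, rfl⟩
    show Cfsg.quadFormPlus m F (g.symm a) = 0
    rw [← PlusMax.QP_apply, ← hg (g.symm a), LinearEquiv.apply_symm_apply, PlusMax.QP_apply, h0.2 a ha]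
  · exact ⟨g w, by rw [show g w = _ from hgW ⟨w, hw⟩]; exact (l ⟨w, hw⟩).2, g.symm_apply_apply w⟩

theorem gen_of_max {U : Submodule F VV} (hU : Cfsg.IsMaxTotallySingular ⇑QQ U) : PlusMax.Gen U := by
  obtain ⟨G, hG, hle⟩ := singular_le_gen U hU.1
  rwa [← hU.2 G hG.2 hle]

theorem max_of_gen {U : Submodule F VV} (hU : PlusMax.Gen U) : Cfsg.IsMaxTotallySingular ⇑QQ U := by
  refine ⟨hU.2, fun W hW hle => ?_⟩
  obtain ⟨G, hG, hWG⟩ := singular_le_gen W hW
  have e : U = G := Submodule.eq_of_le_of_finrank_le (hle.trans hWG) (by rw [hU.1, hG.1])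
  exact le_antisymm (e ▸ hWG) hle

/-- The class condition for any form isometric to the hyperbolic one. -/
theorem pres_iff (h2 : (2 : F) ≠ 0) {ι : Type} [Fintype ι] [DecidableEq ι] (R : (ι → F) → F)
    (Ψ : (ι → F) ≃ₗ[F] VV) (hΨ : ∀ v, QQ (Ψ v) = R v) (g : GL ι F) {μ : F} (hμ : μ ≠ 0)
    (hg : ∀ v, R ((g : Matrix ι ι F) *ᵥ v) = μ * R v) :
    Cfsg.PreservesSingularClasses R (g : Matrix ι ι F) ↔ (g : Matrix ι ι F).det = μ ^ m := by
  have hinj : Function.Injective (Matrix.toLin' (g : Matrix ι ι F)) := fun x y h => by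
    have := congrArg (((g⁻¹ : GL ι F) : Matrix ι ι F) *ᵥ ·) h
    simpa [Matrix.toLin'_apply, mulVec_mulVec] using this
  let L : (ι → F) ≃ₗ[F] (ι → F) := LinearEquiv.ofInjectiveEndo _ hinj
  let f : VV ≃ₗ[F] VV := Ψ.symm.trans (L.trans Ψ)
  have hf : ∀ v, QQ (f v) = μ * QQ v := fun v => by
    show QQ (Ψ ((g : Matrix ι ι F) *ᵥ Ψ.symm v)) = _
    rw [hΨ, hg, ← hΨ, Ψ.apply_symm_apply]
  have hdet : LinearMap.det f.toLinearMap = (g : Matrix ι ι F).det := by
    show LinearMap.det (Ψ.toLinearMap ∘ₗ L.toLinearMap ∘ₗ Ψ.symm.toLinearMap) = _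
    rw [LinearMap.det_conj, show L.toLinearMap = Matrix.toLin' (g : Matrix ι ι F) from rfl,
      LinearMap.det_toLin']
  rw [← hdet, ← crit h2 f hμ hf]
  have hmax : ∀ U : Submodule F (ι → F),
      Cfsg.IsMaxTotallySingular R U ↔ Cfsg.IsMaxTotallySingular ⇑QQ (U.map Ψ.toLinearMap) := by
    intro U
    have hts : ∀ W : Submodule F (ι → F),
        Cfsg.Geo.IsTotallySingularQuad R W ↔ Cfsg.Geo.IsTotallySingularQuad ⇑QQ (W.map Ψ.toLinearMap) := fun W =>
      ⟨fun h => by rintro _ ⟨w, hw, rfl⟩; exact (hΨ w).trans (h w hw),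
        fun h w hw => (hΨ w).symm.trans (h _ ⟨w, hw, rfl⟩)⟩
    refine and_congr (hts U) ⟨fun h W hW hle => ?_, fun h W hW hle => ?_⟩
    · obtain ⟨W', rfl⟩ : ∃ W', W = W'.map Ψ.toLinearMap :=
        ⟨W.comap Ψ.toLinearMap, (Submodule.map_comap_eq_of_surjective Ψ.surjective W).symm⟩
      rw [h W' ((hts W').2 hW) ((Submodule.map_le_map_iff_of_injective Ψ.injective _ _).1 hle)]
    · exact Submodule.map_injective_of_injective Ψ.injective (h _ ((hts W).1 hW) (Submodule.map_mono hle))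
  have hpar : ∀ U : Submodule F (ι → F), PlusMax.Gen (U.map Ψ.toLinearMap) →
      (Cfsg.SameParityClass U (Cfsg.imageSubmodule (g : Matrix ι ι F) U) ↔
        Even (PlusMax.f (U.map Ψ.toLinearMap) ((U.map Ψ.toLinearMap).map f.toLinearMap))) := by
    intro U hU
    have e : (U.map Ψ.toLinearMap).map f.toLinearMap =
        (Cfsg.imageSubmodule (g : Matrix ι ι F) U).map Ψ.toLinearMap := by
      rw [Cfsg.imageSubmodule, ← Submodule.map_comp, ← Submodule.map_comp]
      congr 1
      refine LinearMap.ext fun x => ?_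
      show Ψ (L (Ψ.symm (Ψ x))) = Ψ (Matrix.toLin' (g : Matrix ι ι F) x)
      rw [Ψ.symm_apply_apply]; rfl
    unfold Cfsg.SameParityClass
    rw [e, PlusMax.f, ← Submodule.map_inf _ Ψ.injective, LinearEquiv.finrank_map_eq,
      show finrank F U = m by rw [← LinearEquiv.finrank_map_eq Ψ U]; exact hU.1]
  constructor
  · intro h U hU
    have e : (U.comap Ψ.toLinearMap).map Ψ.toLinearMap = U := Submodule.map_comap_eq_of_surjective Ψ.surjective U
    have := h (U.comap Ψ.toLinearMap) ((hmax _).2 (by rw [e]; exact max_of_gen hU))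
    rw [hpar _ (by rw [e]; exact hU), e] at this
    exact this
  · intro h U hU
    have hG := gen_of_max ((hmax U).1 hU)
    exact (hpar U hG).2 (h _ hG)

end Cfsg.Agent.PGOClasses
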