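import Cfsg.Agent.Lib.Classical.PGOQuot
import Cfsg.Agent.Lib.Classical.PGOClasses

/-!
The similitude quotients of `PΩ⁺`.
-/

set_option autoImplicit false
set_option linter.style.haveILetI false
set_option linter.unusedSectionVars false

open Matrix QuadraticMap Module

namespace Cfsg.Agent.PGOPlus

open Cfsg.Agent.Classical Cfsg.Agent.Classical.Refl Cfsg.Agent.Classical.OrthSum

variable {F : Type*} [Field F] [Fintype F] {m : ℕ}

theorem two_ne_zero' (hodd : Odd (Fintype.card F)) : (2 : F) ≠ 0 := fun h => by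
  have hch : ringChar F = 2 := CharP.ringChar_of_prime_eq_zero Nat.prime_two (by exact_mod_cast h)
  have := FiniteField.even_card_of_char_two hch
  rw [Nat.odd_iff] at hodd
  omega

theorem exists_nonsquare_unit (h2 : (2 : F) ≠ 0) : ∃ μ : Fˣ, ¬ IsSquare (μ : F) := by
  obtain ⟨c, hc⟩ := FiniteField.exists_nonsquare (Refl.ringChar_ne_two h2)
  exact ⟨Units.mk0 c fun h => hc (h ▸ IsSquare.zero), hc⟩

/-- The diagonal similitude of multiplier `μ`. -/
def tau (μ : Fˣ) : PGOQuot.Sim (PlusMax.QP (F := F) (m := m)) :=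
  ⟨⟨PGOClasses.tmat (μ : F), PGOClasses.tmat ((μ⁻¹ : Fˣ) : F), by
      rw [PGOClasses.tmat, PGOClasses.tmat, diagonal_mul_diagonal, ← diagonal_one]
      congr 1; funext i; rcases i with i | i <;> simp, by
      rw [PGOClasses.tmat, PGOClasses.tmat, diagonal_mul_diagonal, ← diagonal_one]
      congr 1; funext i; rcases i with i | i <;> simp⟩,
    μ, fun v => PGOClasses.QP_tmat (μ : F) v⟩

variable (h2 : (2 : F) ≠ 0) (hm : 4 ≤ m)

theorem card_II_plus : Fintype.card (Fin m ⊕ Fin m) = 2 * m := by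
  rw [Fintype.card_sum, Fintype.card_fin]; omega

local notation "QQ" => PlusMax.QP (F := F) (m := m)
local notation "MU" => PGOQuot.mu QQ PlusMax.nondeg h2 card_II_plus hm
local notation "EPS" => PGOQuot.eps QQ PlusMax.nondeg h2 card_II_plus hm
local notation "PP" => PGOQuot.P QQ PlusMax.nondeg h2 card_II_plus hm

theorem mu_tau (μ : Fˣ) : MU (tau μ) = μ :=
  PGOQuot.mu_eq QQ PlusMax.nondeg h2 card_II_plus hm _ fun v => PGOClasses.QP_tmat (μ : F) v

theorem eps_tau (μ : Fˣ) : EPS (tau μ) = 1 := by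
  rw [PGOQuot.eps_eq_one_iff, mu_tau h2 hm]
  exact PGOClasses.det_tmat (μ : F)

theorem tau_notMem {μ : Fˣ} (hμ : ¬ IsSquare (μ : F)) : tau μ ∉ PP := fun h => by
  obtain ⟨a, ha⟩ := Subgroup.mem_comap.1 h
  rw [mu_tau h2 hm] at ha
  exact hμ ⟨a, by rw [← ha]; simp [pow_two]⟩

include h2 in
theorem kappa_iff : IsSquare (Disc.disc QQ (Pi.basisFun F (Fin m ⊕ Fin m))) ↔ ¬ (Odd m ∧ Fintype.card F % 4 = 3) := by
  rw [Disc.disc_QP, Disc.isSquare_neg_one_pow h2]
  have := FiniteField.odd_card_of_char_ne_two (Refl.ringChar_ne_two h2)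
  rcases Nat.even_or_odd m with h | h
  · exact iff_of_true (Or.inl h) fun h' => Nat.not_even_iff_odd.2 h'.1 h
  · simp only [Nat.not_even_iff_odd.2 h, false_or, h, true_and]
    omega

include h2 hm in
theorem tau_sq {μ : Fˣ} (hμ : ¬ IsSquare (μ : F))
    (hκ : IsSquare (Disc.disc QQ (Pi.basisFun F (Fin m ⊕ Fin m)))) :
    tau μ * tau μ ∈ PGOQuot.N QQ ↔ Even m := by
  have hA : (diagonal fun _ => (μ : F) : Matrix (Fin m) (Fin m) F).det = (μ : F) ^ m := by simp
  let A : GL (Fin m) F := Matrix.GeneralLinearGroup.mkOfDetNeZero (diagonal fun _ => (μ : F))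
    (by rw [hA]; exact pow_ne_zero _ μ.ne_zero)
  have hAc : (A : Matrix (Fin m) (Fin m) F) = diagonal fun _ => (μ : F) := rfl
  have hAi : (A : Matrix (Fin m) (Fin m) F)⁻¹ = diagonal fun _ => (μ : F)⁻¹ := by
    refine Matrix.inv_eq_right_inv ?_
    rw [hAc, diagonal_mul_diagonal, ← diagonal_one]
    simp
  have e : tau μ * tau μ = PGOQuot.sc QQ μ * PGOQuot.ofO QQ (levi A) := by
    refine PGOQuot.matS_inj QQ ?_
    show PGOClasses.tmat (μ : F) * PGOClasses.tmat (μ : F) =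
      PGOQuot.matS QQ (PGOQuot.sc QQ μ) * ((levi A : GL (Fin m ⊕ Fin m) F) : Matrix _ _ F)
    rw [PGOQuot.matS_sc, levi_coe, hAc, ← hAc, hAi, hAc, diagonal_transpose, PGOClasses.tmat, diagonal_mul_diagonal]
    ext (i | i) (j | j) <;> simp [Matrix.one_apply, diagonal_apply]
    all_goals split_ifs with h <;> simp [h]
  have hd : ((levi A : GL (Fin m ⊕ Fin m) F) : Matrix (Fin m ⊕ Fin m) (Fin m ⊕ Fin m) F).det = 1 := by
    rw [levi_coe, det_fromBlocks_zero₂₁, det_transpose, Matrix.det_nonsing_inv, hAc, hA]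
    simp
  have he : EPS (PGOQuot.ofO QQ (levi A)) = 1 := by
    rw [PGOQuot.eps_ofO]; exact Units.ext hd
  have hiff : chi QQ 1 (levi A) = 1 ↔ IsSquare ((μ : F) ^ m) := by
    rw [← hA, ← hAc, ← levi_mem_iff (by omega) (Or.inr (by omega)) A,
      PGOQuot.mem_omega QQ PlusMax.nondeg h2 card_II_plus hm]
    exact (and_iff_right he).symm
  have hsq : IsSquare ((μ : F) ^ m) ↔ Even m := by
    refine ⟨fun ⟨s, hs⟩ => ?_, fun h => h.isSquare_pow _⟩
    by_contra hc
    obtain ⟨j, rfl⟩ := Nat.not_even_iff_odd.1 hc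
    refine hμ ⟨s / (μ : F) ^ j, ?_⟩
    have := μ.ne_zero
    field_simp
    linear_combination (norm := ring_nf) hs
  rw [e, PGOQuot.mem_N_iff QQ PlusMax.nondeg h2 card_II_plus hm, and_iff_right he, ← hsq, ← hiff]
  exact or_iff_left fun h => h hκ

include h2 hm in
theorem inndiag_eq : Cfsg.inndiagPOmegaPlus m F = (EPS).ker.map (PGOQuot.D QQ) := by
  have hcrit : ∀ g : PGOQuot.Sim QQ, Cfsg.PreservesSingularClasses (⇑QQ) (PGOQuot.matS QQ g) ↔ EPS g = 1 := fun g => by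
    rw [PGOQuot.eps_eq_one_iff]
    exact PGOClasses.pres_iff h2 ⇑QQ (LinearEquiv.refl F _) (fun v => rfl) g.1 (MU g).ne_zero
      (PGOQuot.mu_spec QQ PlusMax.nondeg h2 card_II_plus hm g)
  exact PGOQuot.aut_eq QQ (Cfsg.IsInnerDiagonalAutPOmegaPlus m) _ fun β =>
    ⟨fun ⟨g, hg, hp, e⟩ => ⟨⟨g, hg⟩, MonoidHom.mem_ker.2 ((hcrit ⟨g, hg⟩).1 hp), e⟩,
      fun ⟨g, hg, e⟩ => ⟨g.1, g.2, (hcrit g).2 (MonoidHom.mem_ker.1 hg), e⟩⟩

end Cfsg.Agent.PGOPlus
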