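import Mathlib

/-!
Small quotient groups of images: orders two, four and eight.
-/

set_option autoImplicit false
set_option linter.style.haveILetI false
set_option linter.unusedSectionVars false

namespace Cfsg.Agent.QuotStruct

variable {S A : Type*} [Group S] [Group A] (D : S →* A)

/-- Transport of a surjection with known kernel to an image. -/
theorem exists_quot {X : Type*} [Group X] (H K N : Subgroup S) (hKH : K ≤ H) (hN : ∀ x ∈ H, x ∈ N ↔ ∃ k ∈ K, D x = D k)
    (ψ : ↥H →* X) (hψ : Function.Surjective ψ) (hker : ψ.ker = N.subgroupOf H) :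
    ∃ φ : ↥(H.map D) →* X, Function.Surjective φ ∧ φ.ker = (K.map D).subgroupOf (H.map D) := by
  let f := D.subgroupMap H
  have hf : Function.Surjective f := D.subgroupMap_surjective H
  have hle : f.ker ≤ ψ.ker := fun x hx => by
    rw [hker, Subgroup.mem_subgroupOf, hN _ x.2]
    exact ⟨1, one_mem K, (congrArg Subtype.val (MonoidHom.mem_ker.1 hx)).trans (map_one D).symm⟩
  set φ := f.liftOfSurjective hf ⟨ψ, hle⟩ with hφ
  have hcomp : ∀ x, φ (f x) = ψ x := fun x => MonoidHom.liftOfRightInverse_comp_apply f _ _ _ x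
  refine ⟨φ, fun y => ?_, ?_⟩
  · obtain ⟨x, rfl⟩ := hψ y
    exact ⟨f x, hcomp x⟩
  · ext y
    obtain ⟨x, rfl⟩ := hf y
    rw [MonoidHom.mem_ker, hcomp, ← MonoidHom.mem_ker, hker, Subgroup.mem_subgroupOf, hN _ x.2, Subgroup.mem_subgroupOf,
      Subgroup.mem_map]
    exact ⟨fun ⟨k, hk, e⟩ => ⟨k, hk, e.symm⟩, fun ⟨k, hk, e⟩ => ⟨k, hk, e.symm⟩⟩

/-- Relative index of images. -/
theorem relIndex_map {X : Type*} [Group X] [Finite X] (H K N : Subgroup S) (hKH : K ≤ H)
    (hN : ∀ x ∈ H, x ∈ N ↔ ∃ k ∈ K, D x = D k) (ψ : ↥H →* X) (hψ : Function.Surjective ψ)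
    (hker : ψ.ker = N.subgroupOf H) : (K.map D).relIndex (H.map D) = Nat.card X := by
  obtain ⟨φ, hφ, hk⟩ := exists_quot D H K N hKH hN ψ hψ hker
  rw [Subgroup.relIndex, ← hk, Subgroup.index_ker, MonoidHom.range_eq_top.2 hφ, Subgroup.card_top]

theorem index_two_of {G : Type*} [Group G] (M : Subgroup G) {a : G} (ha : a ∉ M)
    (hcov : ∀ b, b ∈ M ∨ b * a ∈ M) : M.index = 2 := by
  refine Subgroup.index_eq_two_iff.2 ⟨a, fun b => ?_⟩
  rcases hcov b with h | h
  · exact Or.inr ⟨h, fun h' => ha ((Subgroup.mul_mem_cancel_left M h).1 h')⟩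
  · exact Or.inl ⟨h, fun h' => ha ((Subgroup.mul_mem_cancel_left M h').1 h)⟩

theorem relIndex_two_of {G : Type*} [Group G] (M P : Subgroup G) {a : G} (haP : a ∈ P) (ha : a ∉ M)
    (hcov : ∀ b ∈ P, b ∈ M ∨ b * a ∈ M) : M.relIndex P = 2 :=
  index_two_of (M.subgroupOf P) (a := ⟨a, haP⟩) (fun h => ha (Subgroup.mem_subgroupOf.1 h))
    fun b => (hcov b.1 b.2).imp Subgroup.mem_subgroupOf.2 fun h => Subgroup.mem_subgroupOf.2 h

variable {G : Type*} [Group G]

theorem sq_mk (M : Subgroup G) [M.Normal] (hsq : ∀ g : G, g * g ∈ M) (x : G ⧸ M) : x * x = 1 := by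
  obtain ⟨g, rfl⟩ := QuotientGroup.mk_surjective x
  rw [← QuotientGroup.mk_mul, QuotientGroup.eq_one_iff]
  exact hsq g

theorem ker_comp (M : Subgroup G) [M.Normal] {X : Type*} [Group X] (e : G ⧸ M ≃* X) :
    (e.toMonoidHom.comp (QuotientGroup.mk' M)).ker = M := by
  ext g
  simp [QuotientGroup.eq_one_iff]

theorem exists_zmod_two (M : Subgroup G) [M.Normal] (h : M.index = 2) :
    ∃ ψ : G →* Multiplicative (ZMod 2), Function.Surjective ψ ∧ ψ.ker = M := by
  let e : G ⧸ M ≃* Multiplicative (ZMod 2) := mulEquivOfPrimeCardEq (p := 2) (by rwa [← Subgroup.index_eq_card])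
    (by simp)
  refine ⟨e.toMonoidHom.comp (QuotientGroup.mk' M), e.surjective.comp (QuotientGroup.mk'_surjective M), ?_⟩
  exact ker_comp M e

theorem exists_klein (M : Subgroup G) [M.Normal] (h : M.index = 4) (hsq : ∀ g : G, g * g ∈ M) :
    ∃ ψ : G →* Multiplicative (ZMod 2 × ZMod 2), Function.Surjective ψ ∧ ψ.ker = M := by
  classical
  haveI : IsKleinFour (G ⧸ M) := by
    refine ⟨by rwa [← Subgroup.index_eq_card], ?_⟩
    refine ((Nat.dvd_prime Nat.prime_two).1 (Monoid.exponent_dvd_of_forall_pow_eq_one fun x => by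
      rw [pow_two]; exact sq_mk M hsq x)).resolve_left fun h1 => ?_
    haveI := Monoid.exp_eq_one_iff.1 h1
    rw [Subgroup.index_eq_card, Nat.card_of_subsingleton (1 : G ⧸ M)] at h
    omega
  haveI : IsKleinFour (Multiplicative (ZMod 2 × ZMod 2)) := inferInstance
  haveI : Finite (G ⧸ M) := IsKleinFour.instFinite
  have e0 : Nonempty (G ⧸ M ≃* Multiplicative (ZMod 2 × ZMod 2)) := IsKleinFour.nonempty_mulEquiv
  obtain ⟨e⟩ := e0
  refine ⟨e.toMonoidHom.comp (QuotientGroup.mk' M), e.surjective.comp (QuotientGroup.mk'_surjective M), ?_⟩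
  exact ker_comp M e

theorem exists_zmod_four (M : Subgroup G) [M.Normal] (h : M.index = 4) {t : G} (ht : t * t ∉ M) :
    ∃ ψ : G →* Multiplicative (ZMod 4), Function.Surjective ψ ∧ ψ.ker = M := by
  classical
  have hc : Nat.card (G ⧸ M) = 4 := by rwa [← Subgroup.index_eq_card]
  haveI : Finite (G ⧸ M) := Nat.finite_of_card_ne_zero (by omega)
  have ht2 : (QuotientGroup.mk t : G ⧸ M) * QuotientGroup.mk t ≠ 1 := by
    rw [← QuotientGroup.mk_mul]; exact fun e => ht ((QuotientGroup.eq_one_iff _).1 e)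
  have ho : orderOf (QuotientGroup.mk t : G ⧸ M) = 4 := by
    have hd : orderOf (QuotientGroup.mk t : G ⧸ M) ∣ 2 ^ 2 := by
      rw [show (2 : ℕ) ^ 2 = 4 by norm_num, ← hc]; exact orderOf_dvd_natCard _
    obtain ⟨k, hk, e⟩ := (Nat.dvd_prime_pow Nat.prime_two).1 hd
    rcases (by omega : k = 0 ∨ k = 1 ∨ k = 2) with rfl | rfl | rfl
    · exact absurd (by rw [orderOf_eq_one_iff.1 (e.trans (pow_zero 2)), one_mul]) ht2
    · refine absurd ?_ ht2
      rw [← pow_two, show (2 : ℕ) = orderOf (QuotientGroup.mk t : G ⧸ M) by rw [e, pow_one], pow_orderOf_eq_one]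
    · exact e
  haveI : IsCyclic (G ⧸ M) := isCyclic_of_orderOf_eq_card (QuotientGroup.mk t) (by rw [ho, hc])
  let e : G ⧸ M ≃* Multiplicative (ZMod 4) := mulEquivOfCyclicCardEq (by rw [hc]; simp)
  refine ⟨e.toMonoidHom.comp (QuotientGroup.mk' M), e.surjective.comp (QuotientGroup.mk'_surjective M), ?_⟩
  exact ker_comp M e

theorem exists_dihedral (M : Subgroup G) [M.Normal] (h : M.index = 8) {ρ s : G} (hρ : ρ * ρ ∉ M)
    (hρ4 : ρ ^ 4 ∈ M) (hs : s * s ∈ M) (hsρ : s * ρ * s * ρ ∈ M) (hs0 : ∀ i : ℕ, s * ρ ^ i ∉ M) :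
    ∃ ψ : G →* DihedralGroup 4, Function.Surjective ψ ∧ ψ.ker = M := by
  classical
  set a : G ⧸ M := QuotientGroup.mk ρ with ha
  set b : G ⧸ M := QuotientGroup.mk s with hb
  have a4 : a ^ 4 = 1 := by rw [ha, ← QuotientGroup.mk_pow, QuotientGroup.eq_one_iff]; exact hρ4
  have b2 : b * b = 1 := by rw [hb, ← QuotientGroup.mk_mul, QuotientGroup.eq_one_iff]; exact hs
  have hbab : b * a * b * a = 1 := by
    rw [ha, hb, ← QuotientGroup.mk_mul, ← QuotientGroup.mk_mul, ← QuotientGroup.mk_mul, QuotientGroup.eq_one_iff]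
    exact hsρ
  have ho : orderOf a = 4 := by
    have hd : orderOf a ∣ 2 ^ 2 := by norm_num; exact orderOf_dvd_of_pow_eq_one a4
    obtain ⟨k, hk, e⟩ := (Nat.dvd_prime_pow Nat.prime_two).1 hd
    rcases (by omega : k ≤ 1 ∨ k = 2) with hk' | rfl
    · exfalso
      have : a ^ 2 = 1 := by
        rw [← orderOf_dvd_iff_pow_eq_one, e]
        exact (Nat.pow_dvd_pow 2 hk').trans (dvd_of_eq (pow_one 2))
      rw [pow_two, ha, ← QuotientGroup.mk_mul, QuotientGroup.eq_one_iff] at this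
      exact hρ this
    · exact e
  have hconj : b * a * b = a⁻¹ := eq_inv_of_mul_eq_one_left hbab
  have hcz : ∀ i : ℤ, b * a ^ i = a ^ (-i) * b := fun i => by
    have : (b * a * b) ^ i = b * a ^ i * b := by
      conv_lhs => rw [show b * a * b = b * a * b⁻¹ by rw [inv_eq_of_mul_eq_one_right b2]]
      rw [conj_zpow, inv_eq_of_mul_eq_one_right b2]
    rw [hconj, inv_zpow', ] at this
    rw [this, mul_assoc, b2, mul_one]
  let P : ZMod 4 → G ⧸ M := fun i => a ^ (i.val : ℤ)
  have hmod : ∀ i j : ℤ, (4 : ℤ) ∣ i - j → a ^ i = a ^ j := fun i j h => by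
    rw [← orderOf_dvd_sub_iff_zpow_eq_zpow, ho]; exact_mod_cast h
  have hP : ∀ (i : ℤ), a ^ i = P (i : ZMod 4) := fun i => hmod _ _ (by
    rw [ZMod.val_intCast]
    exact Int.dvd_self_sub_emod)
  have hPadd : ∀ i j, P (i + j) = P i * P j := fun i j => by
    show a ^ ((i + j).val : ℤ) = a ^ (i.val : ℤ) * a ^ (j.val : ℤ)
    rw [← zpow_add, hP ((i.val : ℤ) + (j.val : ℤ))]
    congr 1 <;> simp
  have hPsub : ∀ i j, P (j - i) = a ^ (-(i.val : ℤ)) * P j := fun i j => by
    show a ^ ((j - i).val : ℤ) = a ^ (-(i.val : ℤ)) * a ^ (j.val : ℤ)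
    rw [← zpow_add, hP (-(i.val : ℤ) + (j.val : ℤ))]
    congr 1 <;> simp [sub_eq_neg_add]
  let g : DihedralGroup 4 → G ⧸ M := fun x => match x with
    | .r i => P i
    | .sr i => b * P i
  let φ : DihedralGroup 4 →* G ⧸ M := MonoidHom.mk' g fun x y => by
    cases x with
    | r i => cases y with
      | r j => exact hPadd i j
      | sr j =>
        rw [DihedralGroup.r_mul_sr]
        show b * P (j - i) = P i * (b * P j)
        rw [hPsub, ← mul_assoc, ← mul_assoc, hcz, neg_neg]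
    | sr i => cases y with
      | r j => rw [DihedralGroup.sr_mul_r]; show b * P (i + j) = b * P i * P j; rw [hPadd, mul_assoc]
      | sr j =>
        rw [DihedralGroup.sr_mul_sr]
        show P (j - i) = b * P i * (b * P j)
        rw [hPsub, show b * P i * (b * P j) = b * P i * b * P j from (mul_assoc _ _ _).symm, hcz, mul_assoc _ b b, b2, mul_one]
  have hinj : Function.Injective φ := by
    rw [injective_iff_map_eq_one]
    intro x hx
    cases x with
    | r i =>
      have h0 : a ^ (i.val : ℤ) = 1 := hx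
      rw [zpow_natCast, ← orderOf_dvd_iff_pow_eq_one, ho] at h0
      have : i.val = 0 := Nat.eq_zero_of_dvd_of_lt h0 (ZMod.val_lt i)
      rw [(ZMod.val_eq_zero i).1 this]; rfl
    | sr i =>
      have h0 : b * a ^ (i.val : ℤ) = 1 := hx
      rw [zpow_natCast, hb, ha, ← QuotientGroup.mk_pow, ← QuotientGroup.mk_mul, QuotientGroup.eq_one_iff] at h0
      exact absurd h0 (hs0 _)
  have hc : Nat.card (G ⧸ M) = 8 := by rwa [← Subgroup.index_eq_card]
  haveI : Finite (G ⧸ M) := Nat.finite_of_card_ne_zero (by omega)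
  let e := (MulEquiv.ofBijective φ (hinj.bijective_of_nat_card_le (by rw [hc, DihedralGroup.nat_card]))).symm
  refine ⟨e.toMonoidHom.comp (QuotientGroup.mk' M), e.surjective.comp (QuotientGroup.mk'_surjective M), ?_⟩
  exact ker_comp M e

end Cfsg.Agent.QuotStruct
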