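import Cfsg.Prelude.Def_LieTypeDatum
import Cfsg.Prelude.Def_KGroupFacts
import Cfsg.Agent.Lib.Classical.OddSimple
import Cfsg.Agent.Lib.Classical.OrthSum
import Cfsg.Agent.Lib.Classical.QuotStruct

/-!
The image of the similitude group of an even-dimensional form modulo inner automorphisms.
-/

set_option autoImplicit false
set_option linter.style.haveILetI false
set_option linter.unusedSectionVars false

open Matrix QuadraticMap Module

namespace Cfsg.Agent.PGOQuot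

open Cfsg.Agent.Classical Cfsg.Agent.Classical.Refl

theorem inn_normal {X : Type*} [Group X] : (Cfsg.Inn X).Normal := ⟨fun β hβ α => by
  obtain ⟨x, rfl⟩ := hβ
  exact ⟨α x, MulEquiv.ext fun y => by simp [MulAut.conj_apply]⟩⟩

variable {F : Type*} [Field F] [Fintype F] {ι : Type} [Fintype ι] [DecidableEq ι] (Q : QuadraticForm F (ι → F))

/-- The similitudes. -/
abbrev Sim : Subgroup (GL ι F) := Cfsg.Geo.quadSimilarityGroup (F := F) ⇑Q

/-- The matrix of a similitude. -/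
def matS (g : Sim Q) : Matrix ι ι F := ((g : GL ι F) : Matrix ι ι F)

theorem matS_inj {g h : Sim Q} (e : matS Q g = matS Q h) : g = h := Subtype.ext (Units.ext e)

/-- Isometries as similitudes. -/
def ofO : O Q →* Sim Q where
  toFun k := ⟨k.1, 1, fun v => by rw [Units.val_one, one_mul]; exact k.2 v v⟩
  map_one' := rfl
  map_mul' _ _ := rfl

/-- The scalars. -/
def sc : Fˣ →* Sim Q where
  toFun a := ⟨Units.map (algebraMap F (Matrix ι ι F)).toMonoidHom a, a * a, fun v => by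
    show Q ((algebraMap F (Matrix ι ι F) (a : F)) *ᵥ v) = _
    rw [Algebra.algebraMap_eq_smul_one, smul_mulVec, one_mulVec, QuadraticMap.map_smul, smul_eq_mul, Units.val_mul]⟩
  map_one' := Subtype.ext (map_one _)
  map_mul' a b := Subtype.ext (map_mul _ a b)

theorem matS_sc (a : Fˣ) : matS Q (sc Q a) = (a : F) • (1 : Matrix ι ι F) := Algebra.algebraMap_eq_smul_one _

theorem conj_mem (g : Sim Q) (k : O Q) : (g : GL ι F) * k.1 * (g : GL ι F)⁻¹ ∈ O Q := fun u _ => by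
  show Q (((g : GL ι F) * k.1 * (g : GL ι F)⁻¹ : GL ι F).1 *ᵥ u) = Q u
  obtain ⟨c, hc⟩ := g.2
  have hk : Q ((k.1 : GL ι F).1 *ᵥ (((g : GL ι F)⁻¹ : GL ι F).1 *ᵥ u)) = Q (((g : GL ι F)⁻¹ : GL ι F).1 *ᵥ u) :=
    k.2 _ u
  rw [Units.val_mul, Units.val_mul, ← mulVec_mulVec, ← mulVec_mulVec, hc, hk, ← hc, mulVec_mulVec, Units.mul_inv,
    one_mulVec]

/-- Conjugation by a similitude on isometries. -/
def conjT (g : Sim Q) : O Q ≃* O Q where
  toFun k := ⟨(g : GL ι F) * k.1 * (g : GL ι F)⁻¹, conj_mem Q g k⟩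
  invFun k := ⟨((g⁻¹ : Sim Q) : GL ι F) * k.1 * ((g⁻¹ : Sim Q) : GL ι F)⁻¹, conj_mem Q g⁻¹ k⟩
  left_inv k := Subtype.ext (by simp [mul_assoc])
  right_inv k := Subtype.ext (by simp [mul_assoc])
  map_mul' a b := Subtype.ext (by simp [mul_assoc])

theorem ofO_conjT (g : Sim Q) (k : O Q) : ofO Q (conjT Q g k) = g * ofO Q k * g⁻¹ := rfl

theorem commutator_conj (g : Sim Q) {s : O Q} (hs : s ∈ commutator (O Q)) : conjT Q g s ∈ commutator (O Q) := by
  have h := Subgroup.mem_map_of_mem (conjT Q g).toMonoidHom hs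
  rwa [commutator_def, Subgroup.map_commutator, Subgroup.map_top_of_surjective _ (conjT Q g).surjective] at h

theorem commutator_conj' (g : Sim Q) {s : O Q} (hs : s ∈ commutator (O Q)) :
    (conjT Q g).symm s ∈ commutator (O Q) := by
  have h := Subgroup.mem_map_of_mem (conjT Q g).symm.toMonoidHom hs
  rwa [commutator_def, Subgroup.map_commutator, Subgroup.map_top_of_surjective _ (conjT Q g).symm.surjective] at h

/-- Conjugation by a similitude on `Ω`. -/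
def conjW (g : Sim Q) : MulAut (Cfsg.Omega F ⇑Q) where
  toFun s := ⟨conjT Q g s.1, commutator_conj Q g s.2⟩
  invFun s := ⟨(conjT Q g).symm s.1, commutator_conj' Q g s.2⟩
  left_inv s := Subtype.ext ((conjT Q g).symm_apply_apply _)
  right_inv s := Subtype.ext ((conjT Q g).apply_symm_apply _)
  map_mul' s t := Subtype.ext (map_mul (conjT Q g) _ _)

/-- The action of similitudes on `PΩ`. -/
noncomputable def act' (g : Sim Q) : MulAut (Cfsg.POmega F ⇑Q) :=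
  QuotientGroup.congr _ _ (conjW Q g) (Subgroup.characteristic_iff_map_eq.1 inferInstance _)

theorem act'_mk (g : Sim Q) (s : Cfsg.Omega F ⇑Q) :
    act' Q g (QuotientGroup.mk s) = QuotientGroup.mk (conjW Q g s) := rfl

/-- The action as a homomorphism. -/
noncomputable def D : Sim Q →* MulAut (Cfsg.POmega F ⇑Q) :=
  MonoidHom.mk' (act' Q) fun g h => MulEquiv.ext fun z => by
    obtain ⟨s, rfl⟩ := QuotientGroup.mk_surjective z
    rw [MulAut.mul_apply, act'_mk, act'_mk, act'_mk]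
    refine congrArg _ (Subtype.ext (Subtype.ext ?_))
    show ((g * h : Sim Q) : GL ι F) * s.1.1 * ((g * h : Sim Q) : GL ι F)⁻¹ =
      (g : GL ι F) * ((h : GL ι F) * s.1.1 * (h : GL ι F)⁻¹) * (g : GL ι F)⁻¹
    rw [Subgroup.coe_mul]; group

theorem D_mk (g : Sim Q) (s : Cfsg.Omega F ⇑Q) :
    D Q g (QuotientGroup.mk s) = QuotientGroup.mk (conjW Q g s) := rfl

theorem induced_iff (g : Sim Q) (β : MulAut (Cfsg.POmega F ⇑Q)) :
    Cfsg.IsInducedBySemilinearPOmega ⇑Q (g : GL ι F) (RingEquiv.refl F) β ↔ D Q g = β := by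
  constructor
  · intro h
    refine MulEquiv.ext fun z => ?_
    obtain ⟨s, rfl⟩ := QuotientGroup.mk_surjective z
    rw [D_mk]
    exact (h s (conjW Q g s) rfl).symm
  · rintro rfl s s' h
    rw [D_mk]
    exact congrArg _ (Subtype.ext (Subtype.ext (Units.ext h.symm)))

/-- Subgroups generated by induced automorphisms are images. -/
theorem aut_eq (P : (Cfsg.POmega F ⇑Q ≃* Cfsg.POmega F ⇑Q) → Prop) (H : Subgroup (Sim Q))
    (hP : ∀ β, P β ↔ ∃ g : Sim Q, g ∈ H ∧ Cfsg.IsInducedBySemilinearPOmega ⇑Q (g : GL ι F) (RingEquiv.refl F) β) :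
    Cfsg.autSubgroupOf P = H.map (D Q) := by
  refine le_antisymm ((Subgroup.closure_le _).2 fun β hβ => ?_) ?_
  · obtain ⟨g, hg, e⟩ := (hP β).1 hβ
    exact ⟨g, hg, (induced_iff Q g β).1 e⟩
  · rintro _ ⟨g, hg, rfl⟩
    exact Subgroup.subset_closure ((hP _).2 ⟨g, hg, (induced_iff Q g _).2 rfl⟩)

theorem pgo_eq : Cfsg.pgoAut F ⇑Q = (⊤ : Subgroup (Sim Q)).map (D Q) :=
  aut_eq Q _ _ fun β => ⟨fun ⟨g, hg, e⟩ => ⟨⟨g, hg⟩, trivial, e⟩, fun ⟨g, _, e⟩ => ⟨g.1, g.2, e⟩⟩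

/-- The special isometries among the similitudes. -/
def SOH : Subgroup (Sim Q) := (Cfsg.specialIsometryGL F ⇑Q).comap (Sim Q).subtype

theorem pso_eq : Cfsg.psoAut F ⇑Q = (SOH Q).map (D Q) :=
  aut_eq Q _ _ fun β => ⟨fun ⟨g, hg, e⟩ => ⟨⟨g, 1, fun v => by rw [Units.val_one, one_mul]; exact hg.1 v v⟩, hg, e⟩,
    fun ⟨g, hg, e⟩ => ⟨g.1, hg, e⟩⟩

/-- `Ω` among the similitudes. -/
def K : Subgroup (Sim Q) := (commutator (O Q)).map (ofO Q)

theorem inn_eq : Cfsg.Inn (Cfsg.POmega F ⇑Q) = (K Q).map (D Q) := by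
  have key : ∀ t : Cfsg.Omega F ⇑Q, MulAut.conj (QuotientGroup.mk t : Cfsg.POmega F ⇑Q) = D Q (ofO Q t.1) :=
    fun t => MulEquiv.ext fun z => by
      obtain ⟨s, rfl⟩ := QuotientGroup.mk_surjective z
      rw [D_mk, MulAut.conj_apply, ← QuotientGroup.mk_inv, ← QuotientGroup.mk_mul, ← QuotientGroup.mk_mul]
      rfl
  ext β
  constructor
  · rintro ⟨x, rfl⟩
    obtain ⟨t, rfl⟩ := QuotientGroup.mk_surjective x
    exact ⟨ofO Q t.1, ⟨t.1, t.2, rfl⟩, (key t).symm⟩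
  · rintro ⟨_, ⟨k, hk, rfl⟩, rfl⟩
    exact ⟨QuotientGroup.mk ⟨k, hk⟩, key ⟨k, hk⟩⟩

/-- The multiplier; the hypotheses are those of the whole file. -/
noncomputable def mu (hQ : (polarBilin Q).Nondegenerate) (_h2 : (2 : F) ≠ 0) {d : ℕ}
    (hd : Fintype.card ι = 2 * d) (h4 : 4 ≤ d) : Sim Q →* Fˣ :=
  MonoidHom.mk' (fun g => g.2.choose) fun g h => by
    obtain ⟨v, hv⟩ := exists_nonsingular Q hQ (by omega)
    refine Units.ext (mul_right_cancel₀ hv ?_)
    rw [← (g * h).2.choose_spec v, Units.val_mul, mul_assoc, ← h.2.choose_spec v, ← g.2.choose_spec]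
    rw [Subgroup.coe_mul, Units.val_mul, ← mulVec_mulVec]

variable (hQ : (polarBilin Q).Nondegenerate) (h2 : (2 : F) ≠ 0) {d : ℕ} (hd : Fintype.card ι = 2 * d) (h4 : 4 ≤ d)

include hQ h2 hd h4

theorem mu_spec (g : Sim Q) (v : ι → F) : Q (matS Q g *ᵥ v) = (mu Q hQ h2 hd h4 g : F) * Q v :=
  g.2.choose_spec v

theorem mu_eq (g : Sim Q) {c : Fˣ} (h : ∀ v, Q (matS Q g *ᵥ v) = (c : F) * Q v) : mu Q hQ h2 hd h4 g = c := by
  obtain ⟨v, hv⟩ := exists_nonsingular Q hQ (by omega)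
  exact Units.ext (mul_right_cancel₀ hv ((mu_spec Q hQ h2 hd h4 g v).symm.trans (h v)))

theorem mu_ofO (k : O Q) : mu Q hQ h2 hd h4 (ofO Q k) = 1 :=
  mu_eq Q hQ h2 hd h4 _ fun v => by rw [Units.val_one, one_mul]; exact k.2 v v

theorem mu_sc (a : Fˣ) : mu Q hQ h2 hd h4 (sc Q a) = a * a :=
  mu_eq Q hQ h2 hd h4 _ fun v => by
    rw [matS_sc, smul_mulVec, one_mulVec, QuadraticMap.map_smul, smul_eq_mul, Units.val_mul]

/-- The sign of a similitude. -/
noncomputable def eps : Sim Q →* Fˣ :=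
  MonoidHom.mk' (fun g => Matrix.GeneralLinearGroup.det (g : GL ι F) * (mu Q hQ h2 hd h4 g ^ d)⁻¹) fun g h => by
    rw [Subgroup.coe_mul, map_mul, map_mul, mul_pow, _root_.mul_inv_rev]
    ac_rfl

theorem eps_apply (g : Sim Q) :
    eps Q hQ h2 hd h4 g = Matrix.GeneralLinearGroup.det (g : GL ι F) * (mu Q hQ h2 hd h4 g ^ d)⁻¹ := rfl

theorem eps_ofO (k : O Q) : eps Q hQ h2 hd h4 (ofO Q k) = Matrix.GeneralLinearGroup.det k.1 := by
  rw [eps_apply, mu_ofO, one_pow, inv_one, mul_one]; rfl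

theorem eps_eq_one_iff (g : Sim Q) :
    eps Q hQ h2 hd h4 g = 1 ↔ (matS Q g).det = (mu Q hQ h2 hd h4 g : F) ^ d := by
  rw [eps_apply, mul_inv_eq_one, ← Units.val_inj, Units.val_pow_eq_pow_val]; rfl

theorem eps_sq (g : Sim Q) : eps Q hQ h2 hd h4 g * eps Q hQ h2 hd h4 g = 1 := by
  set A := matS Q g
  set μ : F := ((mu Q hQ h2 hd h4 g : Fˣ) : F)
  have hA : ∀ v, Q (A *ᵥ v) = μ * Q v := mu_spec Q hQ h2 hd h4 g
  have h : Aᵀ * Quad.gram Q * A = μ • Quad.gram Q := by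
    ext i j
    have hp : polar Q (A *ᵥ Pi.single i 1) (A *ᵥ Pi.single j 1) = μ * polar Q (Pi.single i 1) (Pi.single j 1) := by
      simp only [polar]; rw [← mulVec_add, hA, hA, hA]; ring
    rw [Quad.polar_eq_gram, Quad.polar_eq_gram, ← vecMul_transpose, ← dotProduct_mulVec, mulVec_mulVec,
      mulVec_mulVec, Matrix.mul_assoc] at hp
    simpa [Matrix.mul_assoc] using hp
  have hdet := congrArg Matrix.det h
  rw [det_mul, det_mul, det_transpose, det_smul, hd, two_mul d, pow_add] at hdet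
  have e : A.det * A.det = μ ^ d * μ ^ d := mul_right_cancel₀ (Quad.det_gram_ne_zero Q hQ) (by linear_combination hdet)
  rw [eps_apply, mul_mul_mul_comm, ← mul_inv, mul_inv_eq_one]
  refine Units.ext ?_
  simp only [Units.val_mul, Units.val_pow_eq_pow_val]
  exact e

theorem eps_sc (a : Fˣ) : eps Q hQ h2 hd h4 (sc Q a) = 1 := by
  rw [eps_eq_one_iff, matS_sc, mu_sc, det_smul, det_one, mul_one, hd, Units.val_mul, ← pow_two, ← pow_mul]

theorem plane_mem {v w : ι → F} (hv : Q v ≠ 0) (hw : Q w ≠ 0) {x : ι → F}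
    (h : act Q (refl Q v hv * refl Q w hw) x = -x) : x ∈ Submodule.span F {v, w} := by
  have h1 : ((2 : F) • x) ∈ Submodule.span F ({v, w} : Set (ι → F)) := by
    rw [act_mul, act_refl, act_refl] at h
    have e : (2 : F) • x = ((Q w)⁻¹ * polar Q w x) • w +
        ((Q v)⁻¹ * polar Q v (x - ((Q w)⁻¹ * polar Q w x) • w)) • v := by
      rw [two_smul]
      linear_combination (norm := module) h
    rw [e]
    exact add_mem (Submodule.smul_mem _ _ (Submodule.subset_span (by simp)))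
      (Submodule.smul_mem _ _ (Submodule.subset_span (by simp)))
  exact (Submodule.smul_mem_iff _ h2).1 h1

theorem ker_D {g : Sim Q} (hg : D Q g = 1) : ∃ a : Fˣ, g = sc Q a := by
  classical
  have hn : 7 ≤ Fintype.card ι := by omega
  have hn5 : 5 ≤ Fintype.card ι := by omega
  have hex := hex' Q hQ h2
  have hpm : ∀ s ∈ commutator (O Q), conjT Q g s = s ∨ ∀ x, act Q (conjT Q g s) x = -act Q s x := by
    intro s hs
    have h := DFunLike.congr_fun hg (QuotientGroup.mk (⟨s, hs⟩ : Cfsg.Omega F ⇑Q))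
    rw [D_mk, MulAut.one_apply, QuotientGroup.eq] at h
    set z : O Q := (((conjW Q g ⟨s, hs⟩)⁻¹ * ⟨s, hs⟩ : Cfsg.Omega F ⇑Q) : O Q) with hzdef
    have hz : ∀ t ∈ commutator (O Q), t * z = z * t := fun t ht =>
      congrArg Subtype.val (Subgroup.mem_center_iff.1 h ⟨t, ht⟩)
    have e : s = conjT Q g s * z := (mul_inv_cancel_left (conjT Q g s) s).symm
    rcases center_scalar Q hQ hn5 z hz with h1 | h1
    · left
      rw [show z = 1 from act_ext Q fun x => by rw [h1, act_one], mul_one] at e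
      exact e.symm
    · right
      intro x
      conv_rhs => rw [e, act_mul, h1]
      show _ = -act Q (conjT Q g s) (-x)
      rw [show act Q (conjT Q g s) (-x) = -act Q (conjT Q g s) x from Matrix.mulVec_neg _ _, neg_neg]
  have hcv : ∀ s : O Q, ∀ x, act Q (conjT Q g s) (matS Q g *ᵥ x) = matS Q g *ᵥ act Q s x := fun s x => by
    show (((g : GL ι F) * s.1 * (g : GL ι F)⁻¹ : GL ι F) : Matrix ι ι F) *ᵥ _ = _
    rw [Units.val_mul, Units.val_mul, mulVec_mulVec, mul_assoc, mul_assoc]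
    show (matS Q g * (_ * (((g : GL ι F)⁻¹ : GL ι F) * (g : GL ι F) : Matrix ι ι F))) *ᵥ x = _
    rw [Units.inv_mul, mul_one, ← mulVec_mulVec]; rfl
  have hplane : ∀ v w (hv : Q v ≠ 0) (hw : Q w ≠ 0), Q w = Q v → polar Q v w = 0 →
      matS Q g *ᵥ v ∈ Submodule.span F ({v, w} : Set (ι → F)) := by
    intro v w hv hw e hvw
    have hs : refl Q v hv * refl Q w hw ∈ commutator (O Q) := refl_pair_mem_commutator Q hQ hv e
    rcases hpm _ hs with h | h
    · refine plane_mem Q hQ h2 hd h4 hv hw ?_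
      conv_lhs => rw [← h, hcv]
      rw [act_mul, act_refl Q w hw, polar_comm (⇑Q) w v, hvw, mul_zero, zero_smul, sub_zero, act_refl,
        WittExt.polar_self_eq, show (Q v)⁻¹ * (2 * Q v) = 2 by field_simp, two_smul, sub_add_cancel_left, mulVec_neg]
    · exfalso
      set S := LinearMap.ker (polarBilin Q v) ⊓ LinearMap.ker (polarBilin Q w)
      have hSle : S.map (Matrix.mulVecLin (matS Q g)) ≤ Submodule.span F ({v, w} : Set (ι → F)) := by
        rintro _ ⟨x, hx, rfl⟩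
        refine plane_mem Q hQ h2 hd h4 hv hw ?_
        have h' := h (matS Q g *ᵥ x)
        obtain ⟨x1, x2⟩ := Submodule.mem_inf.1 hx
        have x1' : polar Q v x = 0 := x1
        have x2' : polar Q w x = 0 := x2
        rw [hcv, act_mul (g := refl Q v hv) (h := refl Q w hw) (x := x), act_refl Q w hw x, x2', mul_zero,
          zero_smul, sub_zero, act_refl Q v hv x, x1', mul_zero, zero_smul, sub_zero] at h'
        show act Q _ (matS Q g *ᵥ x) = -(matS Q g *ᵥ x)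
        rw [← neg_eq_iff_eq_neg]; exact h'.symm
      have hinj : Function.Injective (Matrix.mulVecLin (matS Q g)) := fun x y hxy => by
        have := congrArg (((g : GL ι F)⁻¹ : GL ι F).1 *ᵥ ·) hxy
        simp only [Matrix.mulVecLin_apply, mulVec_mulVec, matS, Units.inv_mul, one_mulVec] at this
        exact this
      have h1 := Submodule.finrank_mono hSle
      rw [← (Submodule.equivMapOfInjective _ hinj S).finrank_eq] at h1
      have h3 : finrank F (Submodule.span F ({v, w} : Set (ι → F))) ≤ 2 := by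
        have := finrank_span_finset_le_card (R := F) ({v, w} : Finset (ι → F))
        rw [Finset.coe_pair] at this
        exact this.trans Finset.card_le_two
      have hv0 : v ≠ 0 := fun h0 => hv (by rw [h0, QuadraticMap.map_zero])
      have hw0 : w ≠ 0 := fun h0 => hw (by rw [h0, QuadraticMap.map_zero])
      have e1 := finrank_perp Q hQ v hv0
      have e2 := finrank_perp Q hQ w hw0
      have e3 := Submodule.finrank_sup_add_finrank_inf_eq (LinearMap.ker (polarBilin Q v)) (LinearMap.ker (polarBilin Q w))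
      have e4 := Submodule.finrank_le (LinearMap.ker (polarBilin Q v) ⊔ LinearMap.ker (polarBilin Q w))
      rw [finrank_pi] at e4
      change _ + finrank F S = _ at e3
      omega
  have hline : ∀ v, Q v ≠ 0 → ∃ a : F, matS Q g *ᵥ v = a • v := by
    intro v hv
    obtain ⟨w, hvw, -, hw⟩ := OddAut.perp_two Q hQ h2 hn (x := v) (y := v) hv (Q v)
    obtain ⟨w', hvw', hww', hw'⟩ := OddAut.perp_two Q hQ h2 hn (x := v) (y := w) hv (Q v)
    have hw0 : Q w ≠ 0 := by rw [hw]; exact hv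
    have hw0' : Q w' ≠ 0 := by rw [hw']; exact hv
    obtain ⟨a, b, hab⟩ := Submodule.mem_span_pair.1 (hplane v w hv hw0 hw hvw)
    obtain ⟨a', b', hab'⟩ := Submodule.mem_span_pair.1 (hplane v w' hv hw0' hw' hvw')
    have hb : b = 0 := by
      have h := congrArg (polar Q w) (hab.trans hab'.symm)
      simp only [polar_add_right, polar_smul_right, polar_comm (⇑Q) w v, hvw, hww', WittExt.polar_self_eq,
        smul_zero, zero_add, add_zero, smul_eq_mul, mul_zero] at h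
      exact (mul_eq_zero.1 h).resolve_right (mul_ne_zero h2 hw0)
    exact ⟨a, by rw [← hab, hb, zero_smul, add_zero]⟩
  obtain ⟨v, hv⟩ := exists_nonsingular Q hQ (by omega)
  obtain ⟨a, ha⟩ := hline v hv
  set μ := mu Q hQ h2 hd h4 g
  have hμ : a * a = (μ : F) := mul_right_cancel₀ hv (by
    rw [← mu_spec Q hQ h2 hd h4 g v, ha, QuadraticMap.map_smul, smul_eq_mul])
  have ha0 : a ≠ 0 := fun h0 => μ.ne_zero (by rw [← hμ, h0, mul_zero])
  set g' := (sc Q (Units.mk0 a ha0))⁻¹ * g with hg'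
  have hmu' : mu Q hQ h2 hd h4 g' = 1 := by
    rw [hg', map_mul, map_inv, mu_sc]
    refine inv_mul_eq_one.2 (Units.ext ?_)
    rw [Units.val_mul, Units.val_mk0, hμ]
  let z : O Q := ⟨g'.1, fun u _ => by
    show Q (matS Q g' *ᵥ u) = Q u
    rw [mu_spec Q hQ h2 hd h4, hmu', Units.val_one, one_mul]⟩
  have hzs : ∀ u, act Q z u = a⁻¹ • (matS Q g *ᵥ u) := fun u => by
    show matS Q ((sc Q (Units.mk0 a ha0))⁻¹ * g) *ᵥ u = _
    rw [← map_inv]
    show (matS Q (sc Q (Units.mk0 a ha0)⁻¹) * matS Q g) *ᵥ u = _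
    rw [matS_sc, smul_mul_assoc, one_mul, smul_mulVec, Units.val_inv_eq_inv_val, Units.val_mk0]
  have hcomm : ∀ t : O Q, t * z = z * t := by
    intro t
    induction (eq_top Q hQ hex ▸ Subgroup.mem_top t : t ∈ Refl.R Q) using Subgroup.closure_induction with
    | mem t ht =>
      obtain ⟨u, hu, e⟩ := ht
      obtain rfl : t = refl Q u hu := Subtype.ext (Units.ext e)
      obtain ⟨b, hb⟩ := hline u hu
      have hzu : act Q z u = (a⁻¹ * b) • u := by rw [hzs, hb, smul_smul]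
      have hc0 : a⁻¹ * b ≠ 0 := fun h0 => hu (by
        rw [← Q_act Q z u, hzu, h0, zero_smul, QuadraticMap.map_zero])
      have h1 := refl_conj Q z u hu
      simp only [hzu] at h1
      rw [refl_smul Q u hu hc0, mul_inv_eq_iff_eq_mul] at h1
      exact h1.symm
    | one => simp
    | mul x y _ _ hx hy => rw [mul_assoc, hy, ← mul_assoc, hx, mul_assoc]
    | inv x _ hx => exact (Commute.inv_left hx)
  rcases center_scalar Q hQ hn5 z (fun t _ => hcomm t) with h1 | h1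
  · refine ⟨Units.mk0 a ha0, matS_inj Q (Matrix.toLin'.injective (LinearMap.ext fun u => ?_))⟩
    rw [Matrix.toLin'_apply, Matrix.toLin'_apply, matS_sc, smul_mulVec, one_mulVec, Units.val_mk0]
    conv_rhs => rw [← h1 u, hzs, smul_inv_smul₀ ha0]
  · refine ⟨-Units.mk0 a ha0, matS_inj Q (Matrix.toLin'.injective (LinearMap.ext fun u => ?_))⟩
    rw [Matrix.toLin'_apply, Matrix.toLin'_apply, matS_sc, smul_mulVec, one_mulVec, Units.val_neg, Units.val_mk0,
      neg_smul, ← smul_neg, ← h1 u, hzs, smul_inv_smul₀ ha0]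

omit hQ h2 hd h4 in
theorem D_sc (a : Fˣ) : D Q (sc Q a) = 1 := MulEquiv.ext fun z => by
  obtain ⟨s, rfl⟩ := QuotientGroup.mk_surjective z
  rw [D_mk, MulAut.one_apply]
  refine congrArg _ (Subtype.ext (Subtype.ext ?_))
  show ((sc Q a : Sim Q) : GL ι F) * s.1.1 * ((sc Q a : Sim Q) : GL ι F)⁻¹ = s.1.1
  rw [mul_inv_eq_iff_eq_mul]
  exact Units.ext (Algebra.commutes (a : F) ((s.1.1 : GL ι F) : Matrix ι ι F))

/-- Similitudes of square multiplier. -/
noncomputable def P : Subgroup (Sim Q) := (powMonoidHom 2 : Fˣ →* Fˣ).range.comap (mu Q hQ h2 hd h4)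

theorem mem_P (g : Sim Q) : g ∈ P Q hQ h2 hd h4 ↔ ∃ (a : Fˣ) (k : O Q), g = sc Q a * ofO Q k := by
  constructor
  · rintro ⟨a, ha⟩
    have hk : (((sc Q a)⁻¹ * g : Sim Q) : GL ι F) ∈ O Q := fun u _ => by
      show Q (matS Q ((sc Q a)⁻¹ * g) *ᵥ u) = Q u
      rw [mu_spec Q hQ h2 hd h4, map_mul, map_inv, mu_sc, ← ha, powMonoidHom_apply, pow_two, inv_mul_cancel,
        Units.val_one, one_mul]
    exact ⟨a, ⟨_, hk⟩, (mul_inv_cancel_left (sc Q a) g).symm⟩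
  · rintro ⟨a, k, rfl⟩
    exact ⟨a, by rw [powMonoidHom_apply, map_mul, mu_sc, mu_ofO, mul_one, pow_two]⟩

theorem mem_P_or {g h : Sim Q} (hh : h ∉ P Q hQ h2 hd h4) : g ∈ P Q hQ h2 hd h4 ∨ g * h ∈ P Q hQ h2 hd h4 := by
  classical
  have hi : (powMonoidHom 2 : Fˣ →* Fˣ).range.index = 2 := by
    rw [IsCyclic.index_powMonoidHom_range, Nat.gcd_eq_right_iff_dvd, Nat.card_units, Nat.card_eq_fintype_card]
    have hodd := FiniteField.odd_card_of_char_ne_two (ringChar_ne_two h2)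
    exact ⟨Fintype.card F / 2, by show Fintype.card F - 1 = _; omega⟩
  by_cases hg : g ∈ P Q hQ h2 hd h4
  · exact Or.inl hg
  · refine Or.inr (Subgroup.mem_comap.2 ?_)
    rw [map_mul, Subgroup.mul_mem_iff_of_index_two hi]
    exact iff_of_false hg hh

/-- The subgroup `N` over `Inn`. -/
noncomputable def N : Subgroup (Sim Q) := (Cfsg.Inn (Cfsg.POmega F ⇑Q)).comap (D Q)

/-- The subgroup `M` over `PSO`. -/
noncomputable def M : Subgroup (Sim Q) := P Q hQ h2 hd h4 ⊓ (eps Q hQ h2 hd h4).ker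

omit hQ h2 hd h4 in
theorem N_normal : (N Q).Normal := (inn_normal (X := Cfsg.POmega F ⇑Q)).comap _

theorem M_normal : (M Q hQ h2 hd h4).Normal := by
  haveI : (P Q hQ h2 hd h4).Normal := Subgroup.normal_comap _
  exact Subgroup.normal_inf_normal _ _

omit hQ h2 hd h4 in
theorem hN (x : Sim Q) : x ∈ N Q ↔ ∃ k ∈ K Q, D Q x = D Q k := by
  rw [N, Subgroup.mem_comap, inn_eq, Subgroup.mem_map]
  exact ⟨fun ⟨k, hk, e⟩ => ⟨k, hk, e.symm⟩, fun ⟨k, hk, e⟩ => ⟨k, hk, e.symm⟩⟩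

theorem mem_SOH (x : Sim Q) : x ∈ SOH Q ↔ ∃ k : O Q, x = ofO Q k ∧ eps Q hQ h2 hd h4 (ofO Q k) = 1 := by
  constructor
  · rintro ⟨h1, h3⟩
    exact ⟨⟨x.1, h1⟩, rfl, by rw [eps_ofO]; exact h3⟩
  · rintro ⟨k, rfl, h⟩
    rw [eps_ofO] at h
    exact ⟨k.2, h⟩

theorem hM (x : Sim Q) : x ∈ M Q hQ h2 hd h4 ↔ ∃ k ∈ SOH Q, D Q x = D Q k := by
  constructor
  · intro hx
    obtain ⟨hP, he⟩ := Subgroup.mem_inf.1 hx
    obtain ⟨a, k, rfl⟩ := (mem_P Q hQ h2 hd h4 _).1 hP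
    rw [MonoidHom.mem_ker, map_mul, eps_sc, one_mul] at he
    exact ⟨ofO Q k, (mem_SOH Q hQ h2 hd h4 _).2 ⟨k, rfl, he⟩, by rw [map_mul, D_sc, one_mul]⟩
  · rintro ⟨_, hk, e⟩
    obtain ⟨k, rfl, he⟩ := (mem_SOH Q hQ h2 hd h4 _).1 hk
    obtain ⟨a, ha⟩ := ker_D Q hQ h2 hd h4 (g := x * (ofO Q k)⁻¹) (by rw [map_mul, map_inv, e, mul_inv_cancel])
    rw [mul_inv_eq_iff_eq_mul] at ha
    subst ha
    exact Subgroup.mem_inf.2 ⟨(mem_P Q hQ h2 hd h4 _).2 ⟨a, k, rfl⟩,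
      MonoidHom.mem_ker.2 (by rw [map_mul, eps_sc, one_mul, he])⟩

theorem mem_omega (k : O Q) :
    k ∈ commutator (O Q) ↔ eps Q hQ h2 hd h4 (ofO Q k) = 1 ∧ chi Q 1 k = 1 := by
  obtain ⟨l, rfl⟩ := exists_reflList Q hQ (hex' Q hQ h2) k
  have hdet : ((Disc.reflList Q l : GL ι F) : Matrix ι ι F).det = (-1) ^ l.length := by
    rw [Disc.reflList_coe]
    induction l with
    | nil => simp
    | cons v l ih =>
      rw [List.map_cons, List.prod_cons, det_mul, ih, Quad.reflection_det Q v.2, List.length_cons, pow_succ]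
      ring
  have hev : eps Q hQ h2 hd h4 (ofO Q (Disc.reflList Q l)) = 1 ↔ Even l.length := by
    rw [eps_ofO, ← Units.val_inj]
    show ((Disc.reflList Q l : GL ι F) : Matrix ι ι F).det = 1 ↔ _
    rw [hdet]
    exact neg_one_pow_eq_one_iff_even (fun h => h2 (by linear_combination -h))
  rw [Disc.reflList_mem_commutator Q hQ h2 (by omega), hev, Disc.chi_reflList Q hQ h2]
  refine and_congr_right fun he => ?_
  rw [he.neg_one_pow, one_mul, Disc.sgn]
  split_ifs with h <;> simp_all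

theorem conjT_refl (g : Sim Q) {v : ι → F} (hv : Q v ≠ 0) (hv' : Q (matS Q g *ᵥ v) ≠ 0) :
    conjT Q g (refl Q v hv) = refl Q (matS Q g *ᵥ v) hv' := by
  refine act_ext Q fun y => ?_
  obtain ⟨x, rfl⟩ : ∃ x, y = matS Q g *ᵥ x := ⟨(((g : GL ι F)⁻¹ : GL ι F) : Matrix ι ι F) *ᵥ y, by
    show y = ((g : GL ι F) : Matrix ι ι F) *ᵥ _
    rw [mulVec_mulVec, Units.mul_inv, one_mulVec]⟩
  have e : act Q (conjT Q g (refl Q v hv)) (matS Q g *ᵥ x) = matS Q g *ᵥ act Q (refl Q v hv) x := by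
    show (((g : GL ι F) * (refl Q v hv).1 * (g : GL ι F)⁻¹ : GL ι F) : Matrix ι ι F) *ᵥ
      ((g : GL ι F) : Matrix ι ι F) *ᵥ x = _
    rw [Units.val_mul, Units.val_mul, mulVec_mulVec, mul_assoc, mul_assoc, Units.inv_mul, mul_one, ← mulVec_mulVec]
    rfl
  have hp : polar Q (matS Q g *ᵥ v) (matS Q g *ᵥ x) = (mu Q hQ h2 hd h4 g : F) * polar Q v x := by
    simp only [polar]; rw [← mulVec_add, mu_spec Q hQ h2 hd h4, mu_spec Q hQ h2 hd h4, mu_spec Q hQ h2 hd h4]; ring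
  rw [e, act_refl, act_refl, mulVec_sub, mulVec_smul, hp, mu_spec Q hQ h2 hd h4]
  have := (mu Q hQ h2 hd h4 g).ne_zero
  congr 2
  field_simp

theorem chi_conj (g : Sim Q) {k : O Q} (hk : eps Q hQ h2 hd h4 (ofO Q k) = 1) :
    chi Q 1 (conjT Q g k) = chi Q 1 k := by
  obtain ⟨l, rfl⟩ := exists_reflList Q hQ (hex' Q hQ h2) k
  have hev : Even l.length := by
    rw [eps_ofO, ← Units.val_inj] at hk
    change ((Disc.reflList Q l : GL ι F) : Matrix ι ι F).det = 1 at hk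
    have hdet : ((Disc.reflList Q l : GL ι F) : Matrix ι ι F).det = (-1) ^ l.length := by
      rw [Disc.reflList_coe]
      clear hk
      induction l with
      | nil => simp
      | cons v l ih =>
        rw [List.map_cons, List.prod_cons, det_mul, ih, Quad.reflection_det Q v.2, List.length_cons, pow_succ]
        ring
    rw [hdet] at hk
    exact (neg_one_pow_eq_one_iff_even (fun h => h2 (by linear_combination -h))).1 hk
  set μ : F := ((mu Q hQ h2 hd h4 g : Fˣ) : F)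
  have hμ : μ ≠ 0 := (mu Q hQ h2 hd h4 g).ne_zero
  have hne : ∀ v : {v : ι → F // Q v ≠ 0}, Q (matS Q g *ᵥ v.1) ≠ 0 := fun v => by
    rw [mu_spec Q hQ h2 hd h4]; exact mul_ne_zero hμ v.2
  have hc : ∀ l : List {v : ι → F // Q v ≠ 0},
      conjT Q g (Disc.reflList Q l) = Disc.reflList Q (l.map fun v => ⟨matS Q g *ᵥ v.1, hne v⟩) := by
    intro l
    induction l with
    | nil => exact map_one _
    | cons v l ih =>
      rw [List.map_cons]
      show conjT Q g (refl Q v.1 v.2 * Disc.reflList Q l) = refl Q _ _ * _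
      rw [map_mul, ih]
      congr 1
      exact conjT_refl Q hQ h2 hd h4 g v.2 (hne v)
  rw [hc, Disc.chi_reflList Q hQ h2, Disc.chi_reflList Q hQ h2, List.length_map, List.map_map]
  congr 1
  have hp : (l.map ((fun v : {v : ι → F // Q v ≠ 0} => Q v.1) ∘ fun v => ⟨matS Q g *ᵥ v.1, hne v⟩)).prod =
      μ ^ l.length * (l.map fun v => Q v.1).prod := by
    clear hc hev hk
    induction l with
    | nil => simp
    | cons v l ih =>
      rw [List.map_cons, List.prod_cons, ih, List.map_cons, List.prod_cons, List.length_cons, pow_succ]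
      show Q (matS Q g *ᵥ v.1) * _ = _
      rw [mu_spec Q hQ h2 hd h4]
      ring
  have hP : (l.map fun v => Q v.1).prod ≠ 0 := by
    refine List.prod_ne_zero fun h => ?_
    obtain ⟨w, -, hw⟩ := List.mem_map.1 h
    exact w.2 hw
  obtain ⟨j, hj⟩ := hev
  rw [hp, Disc.sgn_mul h2 (pow_ne_zero _ hμ) hP]
  have : Disc.sgn (μ ^ l.length) = 1 := by
    rw [Disc.sgn, if_pos ⟨μ ^ j, by rw [hj, pow_add]⟩]
  rw [this, one_mul]

/-- The isometry `-1`. -/
noncomputable def negOne : O Q := ⟨(sc Q (-1 : Fˣ) : Sim Q).1, fun u _ => by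
  show Q (matS Q (sc Q (-1)) *ᵥ u) = Q u
  rw [mu_spec Q hQ h2 hd h4, mu_sc, neg_mul_neg, one_mul, Units.val_one, one_mul]⟩

theorem chi_negOne : chi Q 1 (negOne Q hQ h2 hd h4) = 1 ↔ IsSquare (Disc.disc Q (Pi.basisFun F ι)) := by
  have he : eps Q hQ h2 hd h4 (ofO Q (negOne Q hQ h2 hd h4)) = 1 := eps_sc Q hQ h2 hd h4 _
  have hm : ((negOne Q hQ h2 hd h4 : GL ι F) : Matrix ι ι F) = -1 := by
    show matS Q (sc Q (-1)) = -1
    rw [matS_sc, Units.val_neg, Units.val_one, neg_smul, one_smul]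
  rw [← Disc.neg_one_mem_iff Q hQ h2 (by omega) ⟨d, by omega⟩]
  constructor
  · intro h
    exact ⟨_, (mem_omega Q hQ h2 hd h4 _).2 ⟨he, h⟩, hm⟩
  · rintro ⟨g, hg, e⟩
    obtain rfl : g = negOne Q hQ h2 hd h4 := Subtype.ext (Units.ext (e.trans hm.symm))
    exact ((mem_omega Q hQ h2 hd h4 _).1 hg).2

theorem mem_N_iff (a : Fˣ) (k : O Q) : sc Q a * ofO Q k ∈ N Q ↔
    eps Q hQ h2 hd h4 (ofO Q k) = 1 ∧ (chi Q 1 k = 1 ∨ ¬ IsSquare (Disc.disc Q (Pi.basisFun F ι))) := by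
  rw [hN]
  constructor
  · rintro ⟨_, ⟨t, ht, rfl⟩, e⟩
    rw [map_mul, D_sc, one_mul] at e
    obtain ⟨b, hb⟩ := ker_D Q hQ h2 hd h4 (g := ofO Q (k * t⁻¹))
      (by rw [map_mul, map_inv, map_mul, map_inv, e, mul_inv_cancel])
    have h1 := mu_ofO Q hQ h2 hd h4 (k * t⁻¹)
    rw [hb, mu_sc] at h1
    obtain ⟨et, ct⟩ := (mem_omega Q hQ h2 hd h4 _).1 ht
    have ek : eps Q hQ h2 hd h4 (ofO Q k) = 1 := by
      have := congrArg (eps Q hQ h2 hd h4) hb
      rwa [eps_sc, map_mul, map_mul, map_inv, map_inv, et, inv_one, mul_one] at this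
    refine ⟨ek, or_iff_not_imp_right.2 fun hsq => ?_⟩
    rw [not_not] at hsq
    have hb' : k * t⁻¹ = 1 ∨ k * t⁻¹ = negOne Q hQ h2 hd h4 := by
      rcases mul_self_eq_one_iff.1 (show (b : F) * b = 1 from congrArg Units.val h1) with h | h
      · left
        rw [show b = 1 from Units.ext h, map_one] at hb
        exact Subtype.ext (congrArg (fun x : Sim Q => (x : GL ι F)) hb)
      · right
        rw [show b = -1 from Units.ext (by rw [h]; rfl)] at hb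
        exact Subtype.ext (congrArg (fun x : Sim Q => (x : GL ι F)) hb)
    have : chi Q 1 (k * t⁻¹) = 1 := by
      rcases hb' with h | h <;> rw [h]
      · exact map_one _
      · exact (chi_negOne Q hQ h2 hd h4).2 hsq
    rwa [map_mul, map_inv, ct, inv_one, mul_one] at this
  · rintro ⟨he, hc⟩
    have key : ∀ k' : O Q, k' ∈ commutator (O Q) → D Q (ofO Q k) = D Q (ofO Q k') →
        ∃ k₁ ∈ K Q, D Q (sc Q a * ofO Q k) = D Q k₁ := fun k' hk' e =>
      ⟨ofO Q k', ⟨k', hk', rfl⟩, by rw [map_mul, D_sc, one_mul, e]⟩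
    rcases Int.units_eq_one_or (chi Q 1 k) with h | h
    · exact key k ((mem_omega Q hQ h2 hd h4 _).2 ⟨he, h⟩) rfl
    · have hsq := hc.resolve_left (by rw [h]; decide)
      have hn1 : chi Q 1 (negOne Q hQ h2 hd h4) = -1 :=
        (Int.units_eq_one_or _).resolve_left fun e => hsq ((chi_negOne Q hQ h2 hd h4).1 e)
      refine key (negOne Q hQ h2 hd h4 * k) ((mem_omega Q hQ h2 hd h4 _).2 ⟨?_, ?_⟩) ?_
      · rw [map_mul, map_mul, he, mul_one]; exact eps_sc Q hQ h2 hd h4 _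
      · rw [map_mul, hn1, h]; rfl
      · rw [map_mul, map_mul]
        show _ = D Q (sc Q (-1)) * _
        rw [D_sc, one_mul]

theorem N_le_M : N Q ≤ M Q hQ h2 hd h4 := fun x hx => by
  obtain ⟨_, ⟨t, ht, rfl⟩, e⟩ := (hN Q x).1 hx
  exact (hM Q hQ h2 hd h4 x).2
    ⟨ofO Q t, (mem_SOH Q hQ h2 hd h4 _).2 ⟨t, rfl, ((mem_omega Q hQ h2 hd h4 _).1 ht).1⟩, e⟩

theorem mem_M_split {x : Sim Q} (hx : x ∈ M Q hQ h2 hd h4) :
    ∃ a k, x = sc Q a * ofO Q k ∧ eps Q hQ h2 hd h4 (ofO Q k) = 1 := by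
  obtain ⟨hP, he⟩ := Subgroup.mem_inf.1 hx
  obtain ⟨a, k, rfl⟩ := (mem_P Q hQ h2 hd h4 _).1 hP
  rw [MonoidHom.mem_ker, map_mul, eps_sc, one_mul] at he
  exact ⟨a, k, rfl, he⟩

theorem M_eq_N (hκ : ¬ IsSquare (Disc.disc Q (Pi.basisFun F ι))) : M Q hQ h2 hd h4 = N Q := by
  refine le_antisymm (fun x hx => ?_) (N_le_M Q hQ h2 hd h4)
  obtain ⟨a, k, rfl, he⟩ := mem_M_split Q hQ h2 hd h4 hx
  exact (mem_N_iff Q hQ h2 hd h4 a k).2 ⟨he, Or.inr hκ⟩

/-- An element of `M` outside `N` when the discriminant is a square. -/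
theorem exists_k0 : ∃ k : O Q, eps Q hQ h2 hd h4 (ofO Q k) = 1 ∧ chi Q 1 k = -1 := by
  obtain ⟨b, hb, hb'⟩ := exists_not_cls h2 (one_ne_zero (α := F))
  obtain ⟨u, hu⟩ := represents Q hQ h2 (by omega) (one_ne_zero (α := F))
  obtain ⟨w, hw⟩ := represents Q hQ h2 (by omega) hb
  have hu0 : Q u ≠ 0 := by rw [hu]; exact one_ne_zero
  have hw0 : Q w ≠ 0 := by rw [hw]; exact hb
  refine ⟨refl Q u hu0 * refl Q w hw0, ?_, ?_⟩
  · rw [eps_ofO]
    refine Units.ext ?_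
    show (Cfsg.reflectionMatrix (⇑Q) u * Cfsg.reflectionMatrix (⇑Q) w).det = 1
    rw [det_mul, Quad.reflection_det Q hu0, Quad.reflection_det Q hw0]; ring
  · rw [map_mul, chi_refl_self Q hQ h2 one_ne_zero u hu0 (by rw [hu]; exact Cls.refl 1),
      chi_refl_other Q hQ h2 one_ne_zero w hw0 (by rw [hw]; exact fun h => hb' (h.symm one_ne_zero))]
    rfl

/-- A reflection. -/
theorem exists_r : ∃ r : Sim Q, r ∈ P Q hQ h2 hd h4 ∧ eps Q hQ h2 hd h4 r ≠ 1 ∧ r * r = 1 ∧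
    ∀ g, g ∉ P Q hQ h2 hd h4 → IsSquare (Disc.disc Q (Pi.basisFun F ι)) →
      g⁻¹ * r * g * r ∈ M Q hQ h2 hd h4 ∧ g⁻¹ * r * g * r ∉ N Q := by
  obtain ⟨v, hv⟩ := exists_nonsingular Q hQ (by omega)
  refine ⟨ofO Q (refl Q v hv), (mem_P Q hQ h2 hd h4 _).2 ⟨1, _, by rw [map_one, one_mul]⟩, ?_,
    by rw [← map_mul, refl_mul_self, map_one], fun g hg hκ => ?_⟩
  · rw [eps_ofO]
    intro h
    have h' : (Cfsg.reflectionMatrix (⇑Q) v).det = 1 := congrArg Units.val h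
    rw [Quad.reflection_det Q hv] at h'
    exact h2 (by linear_combination -h')
  · set μ : F := ((mu Q hQ h2 hd h4 g⁻¹ : Fˣ) : F)
    have hμ : μ ≠ 0 := (mu Q hQ h2 hd h4 g⁻¹).ne_zero
    have hns : ¬ IsSquare μ := by
      rintro ⟨s, hs⟩
      refine hg (inv_mem_iff.1 ⟨Units.mk0 s (fun h => hμ (by rw [hs, h, mul_zero])), Units.ext ?_⟩)
      rw [powMonoidHom_apply, Units.val_pow_eq_pow_val, Units.val_mk0, pow_two]
      exact hs.symm
    set v' := matS Q g⁻¹ *ᵥ v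
    have hQv : Q v' = μ * Q v := mu_spec Q hQ h2 hd h4 _ v
    have hv' : Q v' ≠ 0 := by rw [hQv]; exact mul_ne_zero hμ hv
    have e : g⁻¹ * ofO Q (refl Q v hv) * g * ofO Q (refl Q v hv) =
        ofO Q (Disc.reflList Q [⟨v', hv'⟩, ⟨v, hv⟩]) := by
      have : conjT Q g⁻¹ (refl Q v hv) = refl Q v' hv' := conjT_refl Q hQ h2 hd h4 g⁻¹ hv hv'
      have h1 := ofO_conjT Q g⁻¹ (refl Q v hv)
      rw [this, inv_inv] at h1
      rw [← h1, ← map_mul]
      show _ = ofO Q (refl Q v' hv' * (refl Q v hv * 1))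
      rw [mul_one]
    have he : eps Q hQ h2 hd h4 (ofO Q (Disc.reflList Q [⟨v', hv'⟩, ⟨v, hv⟩])) = 1 := by
      rw [eps_ofO]
      refine Units.ext ?_
      show (Cfsg.reflectionMatrix (⇑Q) v' * (Cfsg.reflectionMatrix (⇑Q) v * 1)).det = 1
      rw [mul_one, det_mul, Quad.reflection_det Q hv, Quad.reflection_det Q hv']; ring
    have hchi : chi Q 1 (Disc.reflList Q [⟨v', hv'⟩, ⟨v, hv⟩]) ≠ 1 := by
      rw [Disc.chi_reflList Q hQ h2]
      simp only [List.length_cons, List.length_nil, List.map_cons, List.map_nil, List.prod_cons, List.prod_nil,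
        mul_one, hQv, Disc.sgn]
      rw [if_neg]
      · decide
      · rintro ⟨s, hs⟩
        simp only [List.map_cons, List.map_nil, List.prod_cons, List.prod_nil, mul_one, hQv] at hs
        exact hns ⟨s / Q v, by field_simp; linear_combination hs⟩
    rw [e, show ofO Q (Disc.reflList Q [⟨v', hv'⟩, ⟨v, hv⟩]) =
      sc Q 1 * ofO Q (Disc.reflList Q [⟨v', hv'⟩, ⟨v, hv⟩]) by rw [map_one, one_mul]]
    refine ⟨Subgroup.mem_inf.2 ⟨(mem_P Q hQ h2 hd h4 _).2 ⟨1, _, rfl⟩, MonoidHom.mem_ker.2 (by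
      rw [map_one, one_mul]; exact he)⟩, fun h => ?_⟩
    exact ((mem_N_iff Q hQ h2 hd h4 _ _).1 h).2.elim hchi (fun h' => h' hκ)

theorem N_relIndex (hκ : IsSquare (Disc.disc Q (Pi.basisFun F ι))) : (N Q).relIndex (M Q hQ h2 hd h4) = 2 := by
  obtain ⟨k0, he, hc⟩ := exists_k0 Q hQ h2 hd h4
  refine QuotStruct.relIndex_two_of _ _ (a := sc Q 1 * ofO Q k0) ?_ ?_ fun b hb => ?_
  · exact Subgroup.mem_inf.2 ⟨(mem_P Q hQ h2 hd h4 _).2 ⟨1, k0, rfl⟩, MonoidHom.mem_ker.2 (by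
      rw [map_one, one_mul]; exact he)⟩
  · intro h
    exact ((mem_N_iff Q hQ h2 hd h4 _ _).1 h).2.elim (by rw [hc]; decide) (fun h' => h' hκ)
  · obtain ⟨a, k, rfl, hk⟩ := mem_M_split Q hQ h2 hd h4 hb
    rcases Int.units_eq_one_or (chi Q 1 k) with h | h
    · exact Or.inl ((mem_N_iff Q hQ h2 hd h4 _ _).2 ⟨hk, Or.inl h⟩)
    · right
      rw [map_one, one_mul, mul_assoc, ← map_mul]
      exact (mem_N_iff Q hQ h2 hd h4 _ _).2 ⟨by rw [map_mul, map_mul, hk, he, mul_one],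
        Or.inl (by rw [map_mul, h, hc]; rfl)⟩

theorem sq_mem_M (g : Sim Q) : g * g ∈ M Q hQ h2 hd h4 := Subgroup.mem_inf.2
  ⟨⟨mu Q hQ h2 hd h4 g, by rw [powMonoidHom_apply, map_mul, pow_two]⟩, MonoidHom.mem_ker.2 (by
    rw [map_mul]; exact eps_sq Q hQ h2 hd h4 g)⟩

theorem sq_of_M {x : Sim Q} (hx : x ∈ M Q hQ h2 hd h4) : x * x ∈ N Q := by
  obtain ⟨a, k, rfl, he⟩ := mem_M_split Q hQ h2 hd h4 hx
  have hc : ofO Q k * sc Q a = sc Q a * ofO Q k := matS_inj Q (by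
    show ((k : GL ι F) : Matrix ι ι F) * matS Q (sc Q a) = matS Q (sc Q a) * ((k : GL ι F) : Matrix ι ι F)
    rw [matS_sc]; simp)
  rw [show sc Q a * ofO Q k * (sc Q a * ofO Q k) = sc Q (a * a) * ofO Q (k * k) by
    rw [map_mul, map_mul, mul_assoc, ← mul_assoc (ofO Q k), hc]; group]
  exact (mem_N_iff Q hQ h2 hd h4 _ _).2 ⟨by rw [map_mul, map_mul, he, mul_one], Or.inl (by
    rw [map_mul, Int.units_mul_self])⟩

theorem conj_mem_N (g : Sim Q) {x : Sim Q} (hx : x ∈ M Q hQ h2 hd h4) : g * x * g⁻¹ * x⁻¹ ∈ N Q := by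
  obtain ⟨a, k, rfl, he⟩ := mem_M_split Q hQ h2 hd h4 hx
  have hga : g * sc Q a * g⁻¹ = sc Q a := by
    rw [mul_inv_eq_iff_eq_mul]
    refine matS_inj Q ?_
    show matS Q g * matS Q (sc Q a) = matS Q (sc Q a) * matS Q g
    rw [matS_sc]; simp
  have e : g * (sc Q a * ofO Q k) * g⁻¹ * (sc Q a * ofO Q k)⁻¹ =
      sc Q a * ofO Q (conjT Q g k * k⁻¹) * (sc Q a)⁻¹ := by
    rw [map_mul, map_inv, ofO_conjT]
    conv_rhs => arg 1; arg 1; rw [← hga]
    group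
  rw [e]
  refine (N_normal Q).conj_mem _ ?_ _
  rw [← one_mul (ofO Q _), ← map_one (sc Q)]
  refine (mem_N_iff Q hQ h2 hd h4 _ _).2 ⟨?_, Or.inl ?_⟩
  · rw [map_mul, map_mul, map_inv, map_inv, he, ofO_conjT, map_mul, map_mul, map_inv, he]; group
  · rw [map_mul, map_inv, chi_conj Q hQ h2 hd h4 g he, mul_inv_cancel]

variable {τ : Sim Q} (hτ : τ ∉ P Q hQ h2 hd h4) (hτe : eps Q hQ h2 hd h4 τ = 1)

include hτ

theorem M_index : (M Q hQ h2 hd h4).index = 4 := by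
  obtain ⟨r, hrP, hre, -, -⟩ := exists_r Q hQ h2 hd h4
  have h1 : (M Q hQ h2 hd h4).relIndex (P Q hQ h2 hd h4) = 2 := by
    refine QuotStruct.relIndex_two_of _ _ (a := r) hrP (fun h => hre (Subgroup.mem_inf.1 h).2) fun b hb => ?_
    by_cases he : eps Q hQ h2 hd h4 b = 1
    · exact Or.inl (Subgroup.mem_inf.2 ⟨hb, he⟩)
    · refine Or.inr (Subgroup.mem_inf.2 ⟨mul_mem hb hrP, MonoidHom.mem_ker.2 ?_⟩)
      have key : ∀ g, eps Q hQ h2 hd h4 g ≠ 1 → (eps Q hQ h2 hd h4 g : F) = -1 := fun g hg =>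
        (mul_self_eq_one_iff.1 (show ((eps Q hQ h2 hd h4 g : Fˣ) : F) * (eps Q hQ h2 hd h4 g : Fˣ) = 1 from
          congrArg Units.val (eps_sq Q hQ h2 hd h4 g))).resolve_left fun h => hg (Units.ext h)
      rw [map_mul]
      refine Units.ext ?_
      rw [Units.val_mul, key b he, key r hre, Units.val_one]; ring
  have h3 : (P Q hQ h2 hd h4).index = 2 :=
    QuotStruct.index_two_of _ hτ fun b => mem_P_or Q hQ h2 hd h4 hτ
  have := Subgroup.relIndex_mul_index (inf_le_left : M Q hQ h2 hd h4 ≤ P Q hQ h2 hd h4)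
  change (M Q hQ h2 hd h4).relIndex _ * _ = (M Q hQ h2 hd h4).index at this
  rw [h1, h3] at this
  omega

theorem pgo_pso : ∃ φ : ↥(Cfsg.pgoAut F ⇑Q) →* Multiplicative (ZMod 2 × ZMod 2), Function.Surjective φ ∧
    φ.ker = (Cfsg.psoAut F ⇑Q).subgroupOf (Cfsg.pgoAut F ⇑Q) := by
  haveI := M_normal Q hQ h2 hd h4
  obtain ⟨ψ, hψ, hk⟩ := QuotStruct.exists_klein (M Q hQ h2 hd h4) (M_index Q hQ h2 hd h4 hτ) (sq_mem_M Q hQ h2 hd h4)
  rw [pgo_eq, pso_eq]
  refine QuotStruct.exists_quot (D Q) ⊤ (SOH Q) (M Q hQ h2 hd h4) le_top (fun x _ => hM Q hQ h2 hd h4 x)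
    (ψ.comp (⊤ : Subgroup (Sim Q)).subtype) (fun y => ?_) ?_
  · obtain ⟨x, rfl⟩ := hψ y
    exact ⟨⟨x, trivial⟩, rfl⟩
  · rw [← MonoidHom.comap_ker, hk]; rfl

omit hτ in
theorem pso_inn :
    (¬ IsSquare (Disc.disc Q (Pi.basisFun F ι)) →
      (Cfsg.Inn (Cfsg.POmega F ⇑Q)).relIndex (Cfsg.psoAut F ⇑Q) = 1) ∧
    (IsSquare (Disc.disc Q (Pi.basisFun F ι)) →
      (Cfsg.Inn (Cfsg.POmega F ⇑Q)).relIndex (Cfsg.psoAut F ⇑Q) = 2) := by
  rw [pso_eq, inn_eq]
  refine ⟨fun hκ => Subgroup.relIndex_eq_one.2 ?_, fun hκ => ?_⟩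
  · rintro _ ⟨x, hx, rfl⟩
    have hxM : x ∈ M Q hQ h2 hd h4 := (hM Q hQ h2 hd h4 x).2 ⟨x, hx, rfl⟩
    rw [M_eq_N Q hQ h2 hd h4 hκ] at hxM
    obtain ⟨k, hk, e⟩ := (hN Q x).1 hxM
    exact ⟨k, hk, e.symm⟩
  · haveI := N_normal Q
    have hle : SOH Q ≤ M Q hQ h2 hd h4 := fun x hx => (hM Q hQ h2 hd h4 x).2 ⟨x, hx, rfl⟩
    have hi : ((N Q).subgroupOf (SOH Q)).index = 2 := by
      obtain ⟨k0, he, hc⟩ := exists_k0 Q hQ h2 hd h4
      refine QuotStruct.relIndex_two_of _ _ (a := ofO Q k0) ((mem_SOH Q hQ h2 hd h4 _).2 ⟨k0, rfl, he⟩) ?_ ?_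
      · intro h
        rw [← one_mul (ofO Q k0), ← map_one (sc Q)] at h
        exact ((mem_N_iff Q hQ h2 hd h4 _ _).1 h).2.elim (by rw [hc]; decide) (fun h' => h' hκ)
      · intro b hb
        obtain ⟨k, rfl, hk⟩ := (mem_SOH Q hQ h2 hd h4 _).1 hb
        rw [← one_mul (ofO Q k), ← map_one (sc Q), mem_N_iff Q hQ h2 hd h4, mul_assoc, ← map_mul,
          mem_N_iff Q hQ h2 hd h4]
        rcases Int.units_eq_one_or (chi Q 1 k) with h | h
        · exact Or.inl ⟨hk, Or.inl h⟩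
        · exact Or.inr ⟨by rw [map_mul, map_mul, hk, he, mul_one], Or.inl (by rw [map_mul, h, hc]; rfl)⟩
    obtain ⟨ψ, hψ, hk⟩ := QuotStruct.exists_zmod_two ((N Q).subgroupOf (SOH Q)) hi
    rw [QuotStruct.relIndex_map (D Q) (SOH Q) (K Q) (N Q)
      (fun x ⟨t, ht, e⟩ => e ▸ (mem_SOH Q hQ h2 hd h4 _).2 ⟨t, rfl, ((mem_omega Q hQ h2 hd h4 _).1 ht).1⟩)
      (fun x _ => hN Q x) ψ hψ hk]
    simp

theorem pgo_inn :
    (¬ IsSquare (Disc.disc Q (Pi.basisFun F ι)) →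
      ∃ φ : ↥(Cfsg.pgoAut F ⇑Q) →* Multiplicative (ZMod 2 × ZMod 2), Function.Surjective φ ∧
        φ.ker = (Cfsg.Inn (Cfsg.POmega F ⇑Q)).subgroupOf (Cfsg.pgoAut F ⇑Q)) ∧
    (IsSquare (Disc.disc Q (Pi.basisFun F ι)) →
      ∃ φ : ↥(Cfsg.pgoAut F ⇑Q) →* DihedralGroup 4, Function.Surjective φ ∧
        φ.ker = (Cfsg.Inn (Cfsg.POmega F ⇑Q)).subgroupOf (Cfsg.pgoAut F ⇑Q)) := by
  haveI := M_normal Q hQ h2 hd h4
  haveI := N_normal Q
  rw [pgo_eq, inn_eq]
  refine ⟨fun hκ => ?_, fun hκ => ?_⟩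
  · have hMN := M_eq_N Q hQ h2 hd h4 hκ
    obtain ⟨ψ, hψ, hk⟩ := QuotStruct.exists_klein (N Q) (hMN ▸ M_index Q hQ h2 hd h4 hτ)
      (fun g => hMN ▸ sq_mem_M Q hQ h2 hd h4 g)
    refine QuotStruct.exists_quot (D Q) ⊤ (K Q) (N Q) le_top (fun x _ => hN Q x)
      (ψ.comp (⊤ : Subgroup (Sim Q)).subtype) (fun y => ?_) ?_
    · obtain ⟨x, rfl⟩ := hψ y
      exact ⟨⟨x, trivial⟩, rfl⟩
    · rw [← MonoidHom.comap_ker, hk]; rfl
  · have h8 : (N Q).index = 8 := by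
      rw [← Subgroup.relIndex_mul_index (N_le_M Q hQ h2 hd h4), N_relIndex Q hQ h2 hd h4 hκ,
        M_index Q hQ h2 hd h4 hτ]
    obtain ⟨r, hrP, hre, hrr, hrz⟩ := exists_r Q hQ h2 hd h4
    obtain ⟨zM, zN⟩ := hrz τ hτ hκ
    have hmul : ∀ {x y : Sim Q}, x ∈ M Q hQ h2 hd h4 → y ∈ M Q hQ h2 hd h4 →
        (x * y ∈ N Q ↔ (x ∈ N Q ↔ y ∈ N Q)) := fun {x y} hx hy =>
      Subgroup.mul_mem_iff_of_index_two (H := (N Q).subgroupOf (M Q hQ h2 hd h4))
        (N_relIndex Q hQ h2 hd h4 hκ) (a := ⟨x, hx⟩) (b := ⟨y, hy⟩)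
    -- the squares of `τ` and `τ r` differ modulo `N`
    have hxor : (τ * r * (τ * r) ∈ N Q ↔ ¬ τ * τ ∈ N Q) := by
      rw [show τ * r * (τ * r) = τ * τ * (τ⁻¹ * r * τ * r) by group, hmul (sq_mem_M Q hQ h2 hd h4 τ) zM]
      simp [zN]
    obtain ⟨ρ, hρP, hρ, hsρ⟩ : ∃ ρ, ρ ∉ P Q hQ h2 hd h4 ∧ ρ * ρ ∉ N Q ∧ r * ρ * r * ρ ∈ N Q := by
      by_cases h : τ * τ ∈ N Q
      · refine ⟨τ * r, fun hp => hτ ((Subgroup.mul_mem_cancel_right _ hrP).1 hp), fun h' => hxor.1 h' h, ?_⟩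
        have := (N_normal Q).conj_mem _ h r
        rw [inv_eq_of_mul_eq_one_right hrr] at this
        rw [show r * (τ * r) * r * (τ * r) = r * (τ * τ) * r by
          rw [show r * (τ * r) * r * (τ * r) = r * τ * (r * r) * τ * r by group, hrr]; group]
        exact this
      · refine ⟨τ, hτ, h, ?_⟩
        have := (N_normal Q).conj_mem _ (hxor.2 h) r
        rw [inv_eq_of_mul_eq_one_right hrr] at this
        rw [show r * τ * r * τ = r * (τ * r * (τ * r)) * r by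
          rw [show r * (τ * r * (τ * r)) * r = r * τ * r * τ * (r * r) by group, hrr, mul_one]]
        exact this
    obtain ⟨ψ, hψ, hk⟩ := QuotStruct.exists_dihedral (N Q) h8 hρ
      (by rw [show ρ ^ 4 = ρ * ρ * (ρ * ρ) by rw [← pow_two, ← pow_two, ← pow_mul]]; exact sq_of_M Q hQ h2 hd h4 (sq_mem_M Q hQ h2 hd h4 ρ))
      (by rw [hrr]; exact one_mem _) hsρ (fun i hi => by
        have hiM := N_le_M Q hQ h2 hd h4 hi
        obtain ⟨hP', he'⟩ := Subgroup.mem_inf.1 hiM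
        rw [Subgroup.mul_mem_cancel_left _ hrP] at hP'
        rcases Nat.even_or_odd i with ⟨j, rfl⟩ | ⟨j, rfl⟩
        · rw [MonoidHom.mem_ker, map_mul, ← two_mul, pow_mul, map_pow, pow_two, map_mul,
            eps_sq Q hQ h2 hd h4 ρ, one_pow, mul_one] at he'
          exact hre he'
        · rw [pow_succ, pow_mul, pow_two] at hP'
          exact hρP ((Subgroup.mul_mem_cancel_left _ (pow_mem ((Subgroup.mem_inf.1 (sq_mem_M Q hQ h2 hd h4 ρ)).1) _)).1 hP'))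
    refine QuotStruct.exists_quot (D Q) ⊤ (K Q) (N Q) le_top (fun x _ => hN Q x)
      (ψ.comp (⊤ : Subgroup (Sim Q)).subtype) (fun y => ?_) ?_
    · obtain ⟨x, rfl⟩ := hψ y
      exact ⟨⟨x, trivial⟩, rfl⟩
    · rw [← MonoidHom.comap_ker, hk]; rfl

include hτe

theorem inndiag_inn (I : Subgroup (MulAut (Cfsg.POmega F ⇑Q))) (hI : I = (eps Q hQ h2 hd h4).ker.map (D Q)) :
    (¬ IsSquare (Disc.disc Q (Pi.basisFun F ι)) → ∃ φ : ↥I →* Multiplicative (ZMod 2), Function.Surjective φ ∧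
      φ.ker = (Cfsg.Inn (Cfsg.POmega F ⇑Q)).subgroupOf I) ∧
    (IsSquare (Disc.disc Q (Pi.basisFun F ι)) → τ * τ ∉ N Q →
      ∃ φ : ↥I →* Multiplicative (ZMod 4), Function.Surjective φ ∧
        φ.ker = (Cfsg.Inn (Cfsg.POmega F ⇑Q)).subgroupOf I) ∧
    (IsSquare (Disc.disc Q (Pi.basisFun F ι)) → τ * τ ∈ N Q →
      ∃ φ : ↥I →* Multiplicative (ZMod 2 × ZMod 2), Function.Surjective φ ∧
        φ.ker = (Cfsg.Inn (Cfsg.POmega F ⇑Q)).subgroupOf I) := by
  subst hI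
  rw [inn_eq]
  haveI := N_normal Q
  set H := (eps Q hQ h2 hd h4).ker
  have hKH : K Q ≤ H := fun x ⟨t, ht, e⟩ => e ▸ MonoidHom.mem_ker.2 ((mem_omega Q hQ h2 hd h4 _).1 ht).1
  have hMH : M Q hQ h2 hd h4 ≤ H := inf_le_right
  have hM2 : (M Q hQ h2 hd h4).relIndex H = 2 :=
    QuotStruct.relIndex_two_of _ _ (a := τ) (MonoidHom.mem_ker.2 hτe) (fun h => hτ (Subgroup.mem_inf.1 h).1)
      fun b hb => (mem_P_or Q hQ h2 hd h4 hτ).imp (fun h => Subgroup.mem_inf.2 ⟨h, hb⟩)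
        fun h => Subgroup.mem_inf.2 ⟨h, mul_mem hb (MonoidHom.mem_ker.2 hτe)⟩
  refine ⟨fun hκ => ?_, fun hκ ht => ?_, fun hκ ht => ?_⟩
  · obtain ⟨ψ, hψ, hk⟩ := QuotStruct.exists_zmod_two ((N Q).subgroupOf H)
      (show (N Q).relIndex H = 2 by rw [← M_eq_N Q hQ h2 hd h4 hκ]; exact hM2)
    exact QuotStruct.exists_quot (D Q) H (K Q) (N Q) hKH (fun x _ => hN Q x) ψ hψ hk
  · have h4' : ((N Q).subgroupOf H).index = 4 := by
      show (N Q).relIndex H = 4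
      rw [← Subgroup.relIndex_mul_relIndex _ _ _ (N_le_M Q hQ h2 hd h4) hMH, N_relIndex Q hQ h2 hd h4 hκ, hM2]
    obtain ⟨ψ, hψ, hk⟩ := QuotStruct.exists_zmod_four ((N Q).subgroupOf H) h4' (t := ⟨τ, MonoidHom.mem_ker.2 hτe⟩)
      (fun h => ht (Subgroup.mem_subgroupOf.1 h))
    exact QuotStruct.exists_quot (D Q) H (K Q) (N Q) hKH (fun x _ => hN Q x) ψ hψ hk
  · have h4' : ((N Q).subgroupOf H).index = 4 := by
      show (N Q).relIndex H = 4
      rw [← Subgroup.relIndex_mul_relIndex _ _ _ (N_le_M Q hQ h2 hd h4) hMH, N_relIndex Q hQ h2 hd h4 hκ, hM2]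
    obtain ⟨ψ, hψ, hk⟩ := QuotStruct.exists_klein ((N Q).subgroupOf H) h4' (fun g => by
      rw [Subgroup.mem_subgroupOf]
      show g.1 * g.1 ∈ N Q
      rcases mem_P_or Q hQ h2 hd h4 (g := g.1) hτ with h | h
      · exact sq_of_M Q hQ h2 hd h4 (Subgroup.mem_inf.2 ⟨h, g.2⟩)
      · have hx : g.1 * τ ∈ M Q hQ h2 hd h4 := Subgroup.mem_inf.2 ⟨h, mul_mem g.2 (MonoidHom.mem_ker.2 hτe)⟩
        set x := g.1 * τ
        have e : g.1 * g.1 = x * x * (x⁻¹ * (τ⁻¹ * x * τ⁻¹⁻¹ * x⁻¹) * x) * (τ * τ)⁻¹ := by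
          simp only [x]; group
        rw [e]
        refine mul_mem (mul_mem (sq_of_M Q hQ h2 hd h4 hx) ?_) (inv_mem ht)
        have := (N_normal Q).conj_mem _ (conj_mem_N Q hQ h2 hd h4 τ⁻¹ hx) x⁻¹
        rwa [inv_inv x] at this)
    exact QuotStruct.exists_quot (D Q) H (K Q) (N Q) hKH (fun x _ => hN Q x) ψ hψ hk

end Cfsg.Agent.PGOQuot
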