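import Cfsg.Agent.Lib.Classical.PGOSplit

/-!
Semisimilitude automorphisms of order two.
-/

set_option autoImplicit false
set_option linter.style.haveILetI false
set_option linter.unusedSectionVars false

open Matrix QuadraticMap Module

namespace Cfsg.Agent.PGOSemi

open Cfsg.Agent.Classical Cfsg.Agent.Classical.Refl Cfsg.Agent.PGOQuot

section fixed

variable {F : Type*} [Field F] [Fintype F]

/-- Fixed elements of an involution of a finite field are squares. -/
theorem fixed_square (h2 : (2 : F) ≠ 0) (σ : F ≃+* F) (hne : σ ≠ RingEquiv.refl F) (hσ2 : ∀ x, σ (σ x) = x) :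
    Fintype.card F % 4 = 1 ∧ ∀ y, σ y = y → IsSquare y := by
  classical
  obtain ⟨t, ht0, ht⟩ : ∃ t : F, t ≠ 0 ∧ σ t = -t := by
    obtain ⟨a, ha⟩ : ∃ a, a ≠ σ a := by
      by_contra hc; push Not at hc; exact hne (RingEquiv.ext fun a => (hc a).symm)
    exact ⟨a - σ a, sub_ne_zero.2 ha, by rw [map_sub, hσ2]; ring⟩
  let S : Subfield F := RingHom.eqLocusField σ.toRingHom (RingHom.id F)
  have hS : ∀ x, x ∈ S ↔ σ x = x := fun x => Iff.rfl
  letI : Fintype S := Fintype.ofFinite S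
  have hbij : Function.Bijective fun p : S × S => (p.1 : F) + t * (p.2 : F) := by
    constructor
    · rintro ⟨⟨a, ha⟩, ⟨b, hb⟩⟩ ⟨⟨a', ha'⟩, ⟨b', hb'⟩⟩ e
      simp only at e
      have e' := congrArg σ e
      rw [map_add, map_add, map_mul, map_mul, ht, (hS a).1 ha, (hS b).1 hb, (hS a').1 ha', (hS b').1 hb'] at e'
      have h1 : a = a' := mul_left_cancel₀ h2 (by linear_combination e + e')
      have h3 : b = b' := mul_left_cancel₀ ht0 (by rw [h1] at e; linear_combination e)
      simp [h1, h3]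
    · intro x
      refine ⟨⟨⟨(x + σ x) / 2, (hS _).2 ?_⟩, ⟨(x - σ x) / (2 * t), (hS _).2 ?_⟩⟩, ?_⟩
      · rw [map_div₀, map_add, hσ2, map_ofNat, add_comm]
      · rw [map_div₀, map_sub, hσ2, map_mul, map_ofNat, ht]
        field_simp
        ring
      · simp only; field_simp; ring
  have hcard : Fintype.card F = Fintype.card S * Fintype.card S := by
    rw [← Fintype.card_prod]; exact (Fintype.card_of_bijective hbij).symm
  have hS2 : (2 : S) ≠ 0 := fun h => h2 (congrArg Subtype.val h)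
  obtain ⟨r, hr⟩ : ∃ r, Fintype.card S = 2 * r + 1 := by
    have := FiniteField.odd_card_of_char_ne_two (Refl.ringChar_ne_two hS2)
    exact ⟨Fintype.card S / 2, by omega⟩
  have h4 : Fintype.card F = 4 * (r * r + r) + 1 := by rw [hcard, hr]; ring
  refine ⟨by omega, fun y hy => ?_⟩
  by_cases hy0 : y = 0
  · exact hy0 ▸ IsSquare.zero
  have hy' : (⟨y, (hS y).2 hy⟩ : S) ≠ 0 := fun h => hy0 (congrArg Subtype.val h)
  have hp := congrArg Subtype.val (FiniteField.pow_card_sub_one_eq_one _ hy')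
  rw [FiniteField.isSquare_iff (Refl.ringChar_ne_two h2) hy0,
    show Fintype.card F / 2 = (Fintype.card S - 1) * (r + 1) by
      rw [h4, hr, Nat.add_sub_cancel, show 4 * (r * r + r) = 2 * (2 * r * (r + 1)) by ring]; omega,
    pow_mul, show y ^ (Fintype.card S - 1) = 1 by simpa using hp, one_pow]

end fixed

variable {F : Type*} [Field F] [Fintype F] {ι : Type} [Fintype ι] [DecidableEq ι] (Q : QuadraticForm F (ι → F))

omit [Fintype F] in
theorem map_comp_mulVec (σ : F ≃+* F) (h : GL ι F) (x : ι → F) :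
    (Matrix.GeneralLinearGroup.map (σ : F →+* F) h : Matrix ι ι F) *ᵥ (σ ∘ x) = σ ∘ ((h : Matrix ι ι F) *ᵥ x) := by
  funext i
  exact (RingHom.map_mulVec (σ : F →+* F) (h : Matrix ι ι F) x i).symm

/-- The semilinear map. -/
def T (g : GL ι F) (σ : F ≃+* F) (x : ι → F) : ι → F := (g : Matrix ι ι F) *ᵥ (σ ∘ x)

/-- Conjugation by the semilinear map. -/
def cs (g : GL ι F) (σ : F ≃+* F) : GL ι F →* GL ι F :=
  (MulAut.conj g).toMonoidHom.comp (Matrix.GeneralLinearGroup.map (σ : F →+* F))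

theorem cs_T (g : GL ι F) (σ : F ≃+* F) (h : GL ι F) (x : ι → F) :
    (cs g σ h : Matrix ι ι F) *ᵥ T g σ x = T g σ ((h : Matrix ι ι F) *ᵥ x) := by
  show ((g * Matrix.GeneralLinearGroup.map (σ : F →+* F) h * g⁻¹ : GL ι F) : Matrix ι ι F) *ᵥ _ = _
  rw [T, T, Units.val_mul, Units.val_mul, mulVec_mulVec, mul_assoc, mul_assoc, Units.inv_mul, mul_one,
    ← mulVec_mulVec, map_comp_mulVec]

theorem T_surj (g : GL ι F) (σ : F ≃+* F) (y : ι → F) : ∃ x, T g σ x = y :=
  ⟨σ.symm ∘ (((g⁻¹ : GL ι F) : Matrix ι ι F) *ᵥ y), by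
    show (g : Matrix ι ι F) *ᵥ _ = y
    rw [← Function.comp_assoc, show (σ : F → F) ∘ σ.symm = id from funext σ.apply_symm_apply, Function.id_comp,
      mulVec_mulVec, Units.mul_inv, one_mulVec]⟩

theorem T_add (g : GL ι F) (σ : F ≃+* F) (x y : ι → F) : T g σ (x + y) = T g σ x + T g σ y := by
  rw [T, T, T, show σ ∘ (x + y) = σ ∘ x + σ ∘ y from funext fun i => map_add σ _ _, mulVec_add]

theorem T_sub (g : GL ι F) (σ : F ≃+* F) (x y : ι → F) : T g σ (x - y) = T g σ x - T g σ y := by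
  rw [T, T, T, show σ ∘ (x - y) = σ ∘ x - σ ∘ y from funext fun i => map_sub σ _ _, mulVec_sub]

theorem T_smul (g : GL ι F) (σ : F ≃+* F) (c : F) (x : ι → F) : T g σ (c • x) = σ c • T g σ x := by
  rw [T, T, show σ ∘ (c • x) = σ c • (σ ∘ x) from funext fun i => map_mul σ _ _, mulVec_smul]

/-- Semisimilitude with multiplier `c`. -/
def SP (g : GL ι F) (σ : F ≃+* F) (c : Fˣ) : Prop := ∀ v, Q (T g σ v) = (c : F) * σ (Q v)

theorem SP.polar {g : GL ι F} {σ : F ≃+* F} {c : Fˣ} (h : SP Q g σ c) (x y : ι → F) :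
    QuadraticMap.polar Q (T g σ x) (T g σ y) = (c : F) * σ (QuadraticMap.polar Q x y) := by
  simp only [QuadraticMap.polar, ← T_add, h _, map_sub]; ring

theorem SP.mem {g : GL ι F} {σ : F ≃+* F} {c : Fˣ} (h : SP Q g σ c) {k : GL ι F} (hk : k ∈ O Q) :
    cs g σ k ∈ O Q := fun u _ => by
  obtain ⟨x, rfl⟩ := T_surj g σ u
  show Q ((cs g σ k : Matrix ι ι F) *ᵥ T g σ x) = Q (T g σ x)
  rw [cs_T, h, h, show Q ((k : Matrix ι ι F) *ᵥ x) = Q x from hk x x]

/-- Conjugation on isometries. -/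
def csO {g : GL ι F} {σ : F ≃+* F} {c : Fˣ} (h : SP Q g σ c) : O Q →* O Q :=
  ((cs g σ).comp (O Q).subtype).codRestrict _ fun k => h.mem Q k.2

theorem csO_omega {g : GL ι F} {σ : F ≃+* F} {c : Fˣ} (h : SP Q g σ c) {k : O Q} (hk : k ∈ commutator (O Q)) :
    csO Q h k ∈ commutator (O Q) := by
  have := Subgroup.mem_map_of_mem (csO Q h) hk
  rw [commutator_def, Subgroup.map_commutator] at this
  rw [commutator_def]
  exact Subgroup.commutator_mono le_top le_top this

theorem induced_apply {g : GL ι F} {σ : F ≃+* F} {c : Fˣ} (h : SP Q g σ c) {β : MulAut (Cfsg.POmega F ⇑Q)}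
    (hβ : Cfsg.IsInducedBySemilinearPOmega ⇑Q g σ β) (s : Cfsg.Omega F ⇑Q) :
    β (QuotientGroup.mk s) = QuotientGroup.mk ⟨csO Q h s.1, csO_omega Q h s.2⟩ := hβ _ _ rfl

/-- A generated automorphism is induced by one semisimilitude. -/
theorem exists_pair {β : MulAut (Cfsg.POmega F ⇑Q)} (hβ : β ∈ Cfsg.gammaPOmega F ⇑Q) :
    ∃ (g : GL ι F) (σ : F ≃+* F) (c : Fˣ), SP Q g σ c ∧ Cfsg.IsInducedBySemilinearPOmega ⇑Q g σ β := by
  set G := {β : MulAut (Cfsg.POmega F ⇑Q) | ∃ (g : GL ι F) (σ : F ≃+* F) (c : Fˣ), SP Q g σ c ∧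
    Cfsg.IsInducedBySemilinearPOmega ⇑Q g σ β}
  have hone : (1 : MulAut (Cfsg.POmega F ⇑Q)) ∈ G := by
    refine ⟨1, RingEquiv.refl F, 1, fun v => ?_, fun s s' e => ?_⟩
    · show Q ((1 : Matrix ι ι F) *ᵥ v) = _
      rw [one_mulVec, Units.val_one, one_mul]; rfl
    · show QuotientGroup.mk s = QuotientGroup.mk s'
      refine congrArg _ (Subtype.ext (Subtype.ext (Units.ext (e.trans ?_).symm)))
      rw [Units.val_one, inv_one, Units.val_one, one_mul, mul_one]
      rfl
  have hmul : ∀ β₁ ∈ G, ∀ β₂ ∈ G, β₁ * β₂ ∈ G := by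
    rintro β₁ ⟨g, σ, c, h1, i1⟩ β₂ ⟨g', τ, c', h3, i3⟩
    have hc : ∀ x : ι → F, T (g * Matrix.GeneralLinearGroup.map (σ : F →+* F) g') (τ.trans σ) x =
        T g σ (T g' τ x) := fun x => by
      show ((g * Matrix.GeneralLinearGroup.map (σ : F →+* F) g' : GL ι F) : Matrix ι ι F) *ᵥ (σ ∘ (τ ∘ x)) = _
      rw [Units.val_mul, ← mulVec_mulVec, map_comp_mulVec]; rfl
    refine ⟨g * Matrix.GeneralLinearGroup.map (σ : F →+* F) g', τ.trans σ,
      c * Units.map (σ : F →+* F).toMonoidHom c', fun v => ?_, fun s s' e => ?_⟩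
    · rw [hc, h1, h3, map_mul, Units.val_mul, mul_assoc]; rfl
    · rw [MulAut.mul_apply, induced_apply Q h3 i3]
      refine i1 _ s' (e.trans ?_)
      have key : ∀ k : GL ι F, cs (g * Matrix.GeneralLinearGroup.map (σ : F →+* F) g') (τ.trans σ) k =
          cs g σ (cs g' τ k) := fun k => by
        show _ * Matrix.GeneralLinearGroup.map ((τ.trans σ : F ≃+* F) : F →+* F) k * _ =
          g * Matrix.GeneralLinearGroup.map (σ : F →+* F)
            (g' * Matrix.GeneralLinearGroup.map (τ : F →+* F) k * g'⁻¹) * g⁻¹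
        rw [map_mul, map_mul, map_inv, _root_.mul_inv_rev,
          show Matrix.GeneralLinearGroup.map ((τ.trans σ : F ≃+* F) : F →+* F) k =
            Matrix.GeneralLinearGroup.map (σ : F →+* F) (Matrix.GeneralLinearGroup.map (τ : F →+* F) k) from
              Units.ext rfl]
        group
      exact congrArg Units.val (key s.1.1)
  show β ∈ G
  induction hβ using Subgroup.closure_induction with
  | mem x hx => obtain ⟨g, σ, ⟨c, hc⟩, hi⟩ := hx; exact ⟨g, σ, c, hc, hi⟩
  | one => exact hone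
  | mul x y _ _ hx hy => exact hmul x hx y hy
  | inv x _ hx =>
    haveI : Finite (Cfsg.POmega F ⇑Q) := inferInstance
    haveI : Finite (MulAut (Cfsg.POmega F ⇑Q)) :=
      Finite.of_injective (fun a => (a : Cfsg.POmega F ⇑Q → Cfsg.POmega F ⇑Q)) DFunLike.coe_injective
    have hp : ∀ k : ℕ, x ^ k ∈ G := fun k => by
      induction k with
      | zero => rw [pow_zero]; exact hone
      | succ k ih => rw [pow_succ]; exact hmul _ ih _ hx
    obtain ⟨n, hn⟩ := Nat.exists_eq_succ_of_ne_zero (orderOf_pos x).ne'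
    rw [inv_eq_of_mul_eq_one_right (b := x ^ n) (by rw [← pow_succ', ← Nat.succ_eq_add_one, ← hn, pow_orderOf_eq_one])]
    exact hp n

variable (hQ : (polarBilin Q).Nondegenerate) (h2 : (2 : F) ≠ 0) {d : ℕ} (hd : Fintype.card ι = 2 * d) (h4 : 4 ≤ d)

include hQ h2 hd h4

theorem refl_scalar {v w : ι → F} (hv : Q v ≠ 0) (hw : Q w ≠ 0) {b : F}
    (h : ∀ x, act Q (refl Q w hw) x = b • act Q (refl Q v hv) x) : ∃ a : F, w = a • v := by
  have hb : b = 1 := by
    set S := LinearMap.ker (polarBilin Q v) ⊓ LinearMap.ker (polarBilin Q w)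
    obtain ⟨x, hx, hx0⟩ : ∃ x ∈ S, x ≠ 0 := Submodule.exists_mem_ne_zero_of_ne_bot fun e => by
      have hv0 : v ≠ 0 := fun h0 => hv (by rw [h0, QuadraticMap.map_zero])
      have hw0 : w ≠ 0 := fun h0 => hw (by rw [h0, QuadraticMap.map_zero])
      have e1 := finrank_perp Q hQ v hv0
      have e2 := finrank_perp Q hQ w hw0
      have e3 := Submodule.finrank_sup_add_finrank_inf_eq (LinearMap.ker (polarBilin Q v)) (LinearMap.ker (polarBilin Q w))
      have e4 := Submodule.finrank_le (LinearMap.ker (polarBilin Q v) ⊔ LinearMap.ker (polarBilin Q w))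
      rw [finrank_pi] at e4
      change _ + finrank F S = _ at e3
      rw [e, finrank_bot] at e3
      omega
    have e := h x
    rw [act_refl, act_refl, show polar Q w x = 0 from hx.2, show polar Q v x = 0 from hx.1, mul_zero, mul_zero,
      zero_smul, zero_smul, sub_zero] at e
    by_contra hne
    exact hx0 ((smul_eq_zero.1 (show (b - 1) • x = 0 by rw [sub_smul, one_smul, ← e, sub_self])).resolve_left
      (sub_ne_zero.2 hne))
  have e := h w
  rw [hb, one_smul, act_refl, act_refl, WittExt.polar_self_eq, show (Q w)⁻¹ * (2 * Q w) = 2 by field_simp] at e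
  refine ⟨(2 : F)⁻¹ * ((Q v)⁻¹ * polar Q v w), ?_⟩
  rw [← smul_smul, ← inv_smul_smul₀ h2 w]
  congr 1
  rw [inv_smul_smul₀ h2]
  exact sub_right_injective e

/-- A semisimilitude inducing the identity has trivial field part. -/
theorem refl_of_identity (frame : ∃ e f z z' : ι → F, Q e = 0 ∧ Q f = 0 ∧ Q z = 0 ∧ polar Q e f = 1 ∧
    polar Q z' z = 1 ∧ polar Q e z = 0 ∧ polar Q f z = 0 ∧ polar Q z' e = 0 ∧ polar Q z' f = 0)
    {g : GL ι F} {σ : F ≃+* F} {c : Fˣ} (h : SP Q g σ c)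
    (hi : Cfsg.IsInducedBySemilinearPOmega ⇑Q g σ (1 : MulAut (Cfsg.POmega F ⇑Q))) : σ = RingEquiv.refl F := by
  have hT : ∀ v, Q v ≠ 0 → ∃ a : F, T g σ v = a • v := by
    intro v hv
    set r := refl Q v hv
    have hD : D Q (ofO Q (csO Q h r) * (ofO Q r)⁻¹) = 1 := by
      rw [map_mul, map_inv, mul_inv_eq_one]
      refine MulEquiv.ext fun y => ?_
      obtain ⟨s, rfl⟩ := QuotientGroup.mk_surjective y
      have h1 : (QuotientGroup.mk s : Cfsg.POmega F ⇑Q) = QuotientGroup.mk ⟨csO Q h s.1, csO_omega Q h s.2⟩ :=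
        induced_apply Q h hi s
      conv_lhs => rw [h1, D_mk]
      rw [D_mk]
      refine Eq.trans ?_ (induced_apply Q h hi (conjW Q (ofO Q r) s)).symm
      refine congrArg _ (Subtype.ext ?_)
      show csO Q h r * csO Q h s.1 * (csO Q h r)⁻¹ = csO Q h (r * s.1 * r⁻¹)
      rw [map_mul, map_mul, map_inv]
    obtain ⟨b, hb⟩ := ker_D Q hQ h2 hd h4 hD
    rw [mul_inv_eq_iff_eq_mul] at hb
    have hw : Q (T g σ v) ≠ 0 := by
      rw [h]; exact mul_ne_zero c.ne_zero ((map_ne_zero σ).2 hv)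
    have hcs : csO Q h r = refl Q (T g σ v) hw := by
      refine act_ext Q fun y => ?_
      obtain ⟨x, rfl⟩ := T_surj g σ y
      show (cs g σ r.1 : Matrix ι ι F) *ᵥ _ = _
      rw [cs_T, act_refl, h, h.polar Q]
      show T g σ (act Q (refl Q v hv) x) = _
      rw [act_refl, T_sub, T_smul, map_mul, map_inv₀, mul_inv, mul_mul_mul_comm, inv_mul_cancel₀ c.ne_zero, one_mul]
    obtain ⟨a, ha⟩ := refl_scalar Q hQ h2 hd h4 hv hw (b := (b : F)) fun x => by
      rw [← hcs]
      show matS Q (ofO Q (csO Q h r)) *ᵥ x = _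
      rw [hb, show matS Q (sc Q b * ofO Q r) = matS Q (sc Q b) * matS Q (ofO Q r) from rfl, matS_sc, smul_mul_assoc,
        one_mul, smul_mulVec]
      rfl
    exact ⟨a, ha⟩
  obtain ⟨e, f, z, z', he, hf, hz, hef, hzz, hez, hfz, hze, hzf⟩ := frame
  have key : ∀ v, Q v ≠ 0 → polar Q v z = 0 → polar Q z' v = 0 → ∀ w, polar Q w v = 1 → polar Q w z = 0 →
      ∃ a : F, T g σ v = a • v ∧ T g σ z = a • z := by
    intro v hv hvz hzv w hwv hwz
    obtain ⟨a, ha⟩ := hT v hv
    have hp : Q (v + z) = Q v := by rw [QuadraticMap.map_add (⇑Q), hz, hvz]; ring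
    have hm : Q (v - z) = Q v := by
      rw [sub_eq_add_neg, QuadraticMap.map_add (⇑Q), QuadraticMap.map_neg, polar_neg_right, hz, hvz]; ring
    obtain ⟨a₁, h1⟩ := hT (v + z) (by rw [hp]; exact hv)
    obtain ⟨a₂, h3⟩ := hT (v - z) (by rw [hm]; exact hv)
    rw [T_add, ha] at h1
    rw [T_sub, ha] at h3
    have hu : T g σ z = a₁ • (v + z) - a • v := by rw [← h1]; abel
    rw [hu] at h3
    have e1 := congrArg (polar Q w) h3
    have e2 := congrArg (polar Q z') h3
    simp only [polar_sub_right, polar_add_right, polar_smul_right, hwv, hwz, hzv, hzz, smul_eq_mul] at e1 e2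
    have h12 : a₁ = a₂ := by linear_combination -e2
    have ha1 : a₁ = a := mul_left_cancel₀ h2 (by linear_combination -e1 + h12)
    refine ⟨a, ha, ?_⟩
    rw [hu, ha1, smul_add]; abel
  have hpos : Q (e + f) = 1 := by rw [QuadraticMap.map_add (⇑Q), he, hf, hef]; ring
  have hneg : Q (e - f) = -1 := by
    rw [sub_eq_add_neg, QuadraticMap.map_add (⇑Q), QuadraticMap.map_neg, polar_neg_right, he, hf, hef]; ring
  have hee : polar Q e e = 0 := by rw [WittExt.polar_self_eq, he, mul_zero]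
  have hff : polar Q f f = 0 := by rw [WittExt.polar_self_eq, hf, mul_zero]
  obtain ⟨a, ha, haz⟩ := key (e + f) (by rw [hpos]; exact one_ne_zero) (by rw [polar_add_left, hez, hfz, add_zero])
    (by rw [polar_add_right, hze, hzf, add_zero]) e (by rw [polar_add_right, hee, hef, zero_add]) hez
  obtain ⟨a', ha', haz'⟩ := key (e - f) (by rw [hneg]; exact neg_ne_zero.2 one_ne_zero)
    (by rw [polar_sub_left, hez, hfz, sub_zero]) (by rw [polar_sub_right, hze, hzf, sub_zero]) f
    (by rw [polar_sub_right, hff, polar_comm, hef, sub_zero]) hfz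
  have haa : a' = a := by
    have e1 := congrArg (polar Q z') (haz'.symm.trans haz)
    simpa [polar_smul_right, hzz] using e1
  rw [haa] at ha'
  rw [T_add] at ha
  rw [T_sub] at ha'
  have hTe : T g σ e = a • e := by
    have := congrArg₂ (· + ·) ha ha'
    rw [← inv_smul_smul₀ h2 (T g σ e), ← inv_smul_smul₀ h2 (a • e)]
    congr 1
    rw [two_smul, two_smul]
    linear_combination (norm := module) this
  have hTf : T g σ f = a • f := by rw [hTe, smul_add] at ha; exact add_left_cancel ha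
  have ha0 : a ≠ 0 := fun h0 => by
    have := h.polar Q e f
    rw [hTe, h0, zero_smul, polar_zero_left, hef, map_one, mul_one] at this
    exact c.ne_zero this.symm
  refine RingEquiv.ext fun l => ?_
  by_cases hl : l = 0
  · rw [hl, map_zero]; rfl
  obtain ⟨b, hb⟩ := hT (e + l • f) (by
    rw [QuadraticMap.map_add (⇑Q), QuadraticMap.map_smul, he, hf, polar_smul_right, hef]; simp [hl])
  rw [T_add, T_smul, hTe, hTf] at hb
  have e1 := congrArg (polar Q f) hb
  have e2 := congrArg (polar Q e) hb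
  simp only [polar_add_right, polar_smul_right, hff, hee, polar_comm (⇑Q) f e, hef, smul_eq_mul] at e1 e2
  show σ l = l
  exact mul_right_cancel₀ ha0 (by linear_combination e2 - l * e1)

/-- An involution from a semisimilitude: either linear, or the discriminant is a square and `q ≡ 1 (mod 4)`. -/
theorem linear_or_square (frame : ∃ e f z z' : ι → F, Q e = 0 ∧ Q f = 0 ∧ Q z = 0 ∧ polar Q e f = 1 ∧
    polar Q z' z = 1 ∧ polar Q e z = 0 ∧ polar Q f z = 0 ∧ polar Q z' e = 0 ∧ polar Q z' f = 0)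
    {β : MulAut (Cfsg.POmega F ⇑Q)} (hβ : β ∈ Cfsg.gammaPOmega F ⇑Q) (h2β : β * β = 1) :
    (∃ g : Sim Q, D Q g = β) ∨ (IsSquare (Disc.disc Q (Pi.basisFun F ι)) ∧ Fintype.card F % 4 = 1) := by
  classical
  obtain ⟨g, σ, c, hsp, hi⟩ := exists_pair Q hβ
  by_cases hσ : σ = RingEquiv.refl F
  · subst hσ
    exact Or.inl ⟨⟨g, c, fun v => hsp v⟩, (induced_iff Q ⟨g, c, fun v => hsp v⟩ β).1 hi⟩
  right
  set g2 := g * Matrix.GeneralLinearGroup.map (σ : F →+* F) g
  set c2 := c * Units.map (σ : F →+* F).toMonoidHom c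
  have hTT : ∀ x, T g2 (σ.trans σ) x = T g σ (T g σ x) := fun x => by
    show ((g2 : GL ι F) : Matrix ι ι F) *ᵥ (σ ∘ (σ ∘ x)) = _
    rw [Units.val_mul, ← mulVec_mulVec, map_comp_mulVec]; rfl
  have hsp2 : SP Q g2 (σ.trans σ) c2 := fun v => by
    rw [hTT, hsp, hsp, map_mul, Units.val_mul, mul_assoc]; rfl
  have hi2 : Cfsg.IsInducedBySemilinearPOmega ⇑Q g2 (σ.trans σ) (1 : MulAut (Cfsg.POmega F ⇑Q)) := by
    intro s s' e
    rw [← h2β, MulAut.mul_apply, induced_apply Q hsp hi]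
    refine hi _ s' (e.trans ?_)
    refine congrArg Units.val (show cs g2 (σ.trans σ) s.1.1 = cs g σ (cs g σ s.1.1) from ?_)
    show _ * Matrix.GeneralLinearGroup.map ((σ.trans σ : F ≃+* F) : F →+* F) _ * _ =
      g * Matrix.GeneralLinearGroup.map (σ : F →+* F) (g * Matrix.GeneralLinearGroup.map (σ : F →+* F) _ * g⁻¹) * g⁻¹
    rw [map_mul, map_mul, map_inv, show g2 = g * Matrix.GeneralLinearGroup.map (σ : F →+* F) g from rfl, _root_.mul_inv_rev,
      show Matrix.GeneralLinearGroup.map ((σ.trans σ : F ≃+* F) : F →+* F) s.1.1 =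
        Matrix.GeneralLinearGroup.map (σ : F →+* F) (Matrix.GeneralLinearGroup.map (σ : F →+* F) s.1.1) from
          Units.ext rfl]
    group
  have hσσ := refl_of_identity Q hQ h2 hd h4 frame hsp2 hi2
  have hσ2 : ∀ x, σ (σ x) = x := fun x => DFunLike.congr_fun hσσ x
  rw [hσσ] at hi2 hsp2
  obtain ⟨a, ha⟩ := ker_D Q hQ h2 hd h4 ((induced_iff Q ⟨g2, c2, fun v => hsp2 v⟩ 1).1 hi2)
  have hA : (g : Matrix ι ι F) * (g : Matrix ι ι F).map σ = (a : F) • 1 := by
    rw [← matS_sc Q, ← ha]; rfl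
  obtain ⟨h41, hfix⟩ := fixed_square h2 σ hσ hσ2
  refine ⟨?_, h41⟩
  set δ := (Quad.gram Q).det
  set dg := (g : Matrix ι ι F).det
  have hδ0 : δ ≠ 0 := Quad.det_gram_ne_zero Q hQ
  have hdg : dg ≠ 0 := g.det_ne_zero
  have hgram : (g : Matrix ι ι F)ᵀ * Quad.gram Q * (g : Matrix ι ι F) = (c : F) • (Quad.gram Q).map σ := by
    ext i j
    have h := hsp.polar Q (Pi.single i 1) (Pi.single j 1)
    have hs : ∀ k : ι, σ ∘ (Pi.single k 1 : ι → F) = Pi.single k 1 := fun k => by
      funext l; by_cases hl : l = k <;> simp [Pi.single_apply, hl]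
    rw [Quad.polar_eq_gram, T, T, hs, hs, Matrix.mulVec_single_one, Matrix.mulVec_single_one] at h
    rw [Matrix.mul_assoc]
    exact h
  have hd1 := congrArg Matrix.det hgram
  rw [det_mul, det_mul, det_transpose, det_smul, hd,
    show (Quad.gram Q).map σ = (σ : F →+* F).mapMatrix (Quad.gram Q) from rfl, ← RingHom.map_det] at hd1
  change dg * δ * dg = (c : F) ^ (2 * d) * σ δ at hd1
  have hd3 := congrArg Matrix.det hA
  rw [det_mul, det_smul, det_one, mul_one, hd,
    show (g : Matrix ι ι F).map σ = (σ : F →+* F).mapMatrix (g : Matrix ι ι F) from rfl, ← RingHom.map_det] at hd3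
  change dg * σ dg = (a : F) ^ (2 * d) at hd3
  have hmul : (c : F) * σ c = (a : F) * a := by
    obtain ⟨v, hv⟩ := exists_nonsingular Q hQ (by omega)
    refine mul_right_cancel₀ hv ?_
    have h := hsp2 v
    rw [show T g2 (RingEquiv.refl F) v = matS Q (sc Q a) *ᵥ v by rw [← ha]; rfl, matS_sc, smul_mulVec, one_mulVec,
      QuadraticMap.map_smul, smul_eq_mul, RingEquiv.refl_apply] at h
    exact h.symm
  set e := dg / (c : F) ^ d
  have hσδ : σ δ = δ * (e * e) := by
    simp only [e]; have := c.ne_zero; field_simp; linear_combination -hd1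
  have hee : e * σ e = 1 := by
    simp only [e]
    rw [map_div₀, map_pow, div_mul_div_comm, hd3, ← mul_pow, hmul, ← pow_two, ← pow_mul, div_self (pow_ne_zero _ a.ne_zero)]
  have hdisc : Disc.disc Q (Pi.basisFun F ι) = δ := by
    rw [Disc.disc]
    congr 1
    ext i j
    simp [Quad.gram]
  rw [hdisc]
  by_cases he1 : e = -1
  · exact hfix δ (by rw [hσδ, he1]; ring)
  · have hz : 1 + e ≠ 0 := fun h0 => he1 (by linear_combination h0)
    have hez : e * σ (1 + e) = 1 + e := by rw [map_add, map_one, mul_add, hee, mul_one]; ring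
    obtain ⟨s, hs⟩ := hfix (δ * ((1 + e) * (1 + e))) (by
      rw [map_mul, map_mul, hσδ]; linear_combination δ * (e * σ (1 + e) + (1 + e)) * hez)
    exact ⟨s / (1 + e), by field_simp; linear_combination hs⟩

end Cfsg.Agent.PGOSemi
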