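import Cfsg.Agent.Lib.Classical.PGOQuot
import Cfsg.Agent.Lib.Classical.DetInvol
import Cfsg.Agent.Lib.Classical.OmegaTrans
import Cfsg.Agent.Lib.Classical.PSLFieldCent

/-!
Splitting of the class of an involutory similitude automorphism interchanging the two classes of generators.
-/

set_option autoImplicit false
set_option linter.style.haveILetI false
set_option linter.unusedSectionVars false

open Matrix QuadraticMap Module

namespace Cfsg.Agent.PGOSplit

open Cfsg.Agent.Classical Cfsg.Agent.Classical.Refl Cfsg.Agent.PGOQuot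

variable {F : Type*} [Field F] [Fintype F]

theorem ns_mul (h2 : (2 : F) ≠ 0) {x y : F} (hx : ¬ IsSquare x) (hy : ¬ IsSquare y) : IsSquare (x * y) := by
  classical
  have h := Disc.sgn_mul h2 (fun e => hx (e ▸ IsSquare.zero)) (fun e => hy (e ▸ IsSquare.zero)) (x := x) (y := y)
  by_contra hxy
  rw [Disc.sgn, Disc.sgn, Disc.sgn, if_neg hxy, if_neg hx, if_neg hy] at h
  exact absurd h (by decide)

variable {ι : Type} [Fintype ι] [DecidableEq ι] (Q : QuadraticForm F (ι → F))
variable (hQ : (polarBilin Q).Nondegenerate) (h2 : (2 : F) ≠ 0) {d : ℕ} (hd : Fintype.card ι = 2 * d) (h4 : 4 ≤ d)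

local notation "MU" => PGOQuot.mu Q hQ h2 hd h4
local notation "EPS" => PGOQuot.eps Q hQ h2 hd h4
local notation "PP" => PGOQuot.P Q hQ h2 hd h4
local notation "MM'" => PGOQuot.M Q hQ h2 hd h4

include hQ h2 hd h4

theorem polar_sim (g : Sim Q) (x y : ι → F) :
    polar Q (matS Q g *ᵥ x) (matS Q g *ᵥ y) = (MU g : F) * polar Q x y := by
  simp only [polar, ← mulVec_add, mu_spec Q hQ h2 hd h4]; ring

theorem singular_le (W : Submodule F (ι → F)) (hW : ∀ w ∈ W, Q w = 0) : finrank F W ≤ d := by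
  have hle : W ≤ LinearMap.BilinForm.orthogonal (polarBilin Q) W := fun x hx t ht =>
    OmegaTrans.polar_eq_of_singular Q hQ hW ht hx
  have := Submodule.finrank_mono hle
  rw [LinearMap.BilinForm.finrank_orthogonal hQ, finrank_pi] at this
  omega

omit hd h4 in
theorem nondeg_of_compl {A B : Submodule F (ι → F)} (h : IsCompl A B) (ho : ∀ x ∈ A, ∀ y ∈ B, polar Q x y = 0) :
    A ⊓ LinearMap.BilinForm.orthogonal (polarBilin Q) A = ⊥ := by
  rw [Submodule.eq_bot_iff]
  intro x hx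
  obtain ⟨hxA, hxo⟩ := Submodule.mem_inf.1 hx
  refine hQ.1 x fun y => ?_
  obtain ⟨a, ha, b, hb, rfl⟩ := Submodule.mem_sup.1 (h.sup_eq_top ▸ Submodule.mem_top : y ∈ A ⊔ B)
  show polar Q x (a + b) = 0
  rw [polar_add_right, ho x hxA b hb, add_zero, polar_comm]
  exact hxo a ha

theorem eps_of_neg_one {k : O Q} (hk : ∀ x, act Q k (act Q k x) = -x) : EPS (ofO Q k) = 1 := by
  set M : Matrix ι ι F := ((k : GL ι F) : Matrix ι ι F)
  have hMM : M * M = -1 := Matrix.toLin'.injective (LinearMap.ext fun x => by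
    rw [Matrix.toLin'_apply, Matrix.toLin'_apply, ← mulVec_mulVec, neg_mulVec, one_mulVec]; exact hk x)
  have hsq : M.det * M.det = 1 := by
    rw [← det_mul, hMM, det_neg, det_one, mul_one, hd, pow_mul, neg_one_sq, one_pow]
  rw [eps_ofO]
  refine Units.ext ?_
  show M.det = 1
  rcases mul_self_eq_one_iff.1 hsq with h | h
  · exact h
  exfalso
  by_cases hi : IsSquare (-1 : F)
  · obtain ⟨i, hi⟩ := hi
    set L : (ι → F) →ₗ[F] (ι → F) := i • Matrix.toLin' M
    have hL : ∀ x, L (L x) = x := fun x => by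
      show i • (M *ᵥ (i • (M *ᵥ x))) = x
      rw [mulVec_smul, smul_smul, ← hi, mulVec_mulVec, hMM, neg_mulVec, one_mulVec, neg_one_smul, neg_neg]
    have hQL : ∀ x, Q (L x) = -Q x := fun x => by
      show Q (i • (M *ᵥ x)) = _
      rw [QuadraticMap.map_smul, smul_eq_mul, ← hi, neg_one_mul]
      exact congrArg _ (k.2 x x)
    have h0 : ∀ x, -Q x = Q x → Q x = 0 := fun x e =>
      (mul_eq_zero.1 (show (2 : F) * Q x = 0 by linear_combination -e)).resolve_left h2
    have h1 := singular_le Q hQ h2 hd h4 (DetInvol.pos L) fun x hx => h0 x (by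
      rw [DetInvol.mem_pos] at hx; rw [← hQL, hx])
    have h3 := singular_le Q hQ h2 hd h4 (DetInvol.neg L) fun x hx => h0 x (by
      rw [DetInvol.mem_neg] at hx; rw [← hQL, hx, QuadraticMap.map_neg])
    have h5 := DetInvol.finrank_add h2 hL
    rw [finrank_pi, hd] at h5
    have h6 := DetInvol.det_invol h2 hL
    rw [show LinearMap.det L = i ^ (2 * d) * M.det by
      rw [LinearMap.det_smul, finrank_pi, hd, LinearMap.det_toLin'], pow_mul, pow_two, ← hi, h,
      show finrank F (DetInvol.neg L) = d by omega] at h6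
    exact h2 (mul_left_cancel₀ (pow_ne_zero d (neg_ne_zero.2 one_ne_zero : (-1 : F) ≠ 0))
      (by linear_combination -h6 : (-1 : F) ^ d * 2 = (-1) ^ d * 0))
  · have hdd := congrArg Matrix.det (show (1 + M) * (1 + M) = (2 : F) • M by
      rw [add_mul, mul_add, mul_add, hMM, one_mul, one_mul, mul_one, two_smul]; abel)
    rw [det_mul, det_smul, hd, h] at hdd
    refine hi ⟨(1 + M).det / 2 ^ d, ?_⟩
    field_simp
    linear_combination -hdd

theorem eps_dir {g : Sim Q} (hg : EPS g ≠ 1) (hP : g ∈ PP) {a : Fˣ} (hsq : g * g = sc Q a) :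
    ∃ (b : Fˣ) (k : O Q), g = sc Q b * ofO Q k ∧ EPS (ofO Q k) ≠ 1 ∧ ∀ x, act Q k (act Q k x) = x := by
  obtain ⟨b, k, rfl⟩ := (mem_P Q hQ h2 hd h4 g).1 hP
  rw [map_mul, eps_sc, one_mul] at hg
  refine ⟨b, k, rfl, hg, ?_⟩
  have e : ∀ x, ((b : F) * b) • act Q k (act Q k x) = (a : F) • x := fun x => by
    have h : matS Q (sc Q b * ofO Q k * (sc Q b * ofO Q k)) *ᵥ x = matS Q (sc Q a) *ᵥ x := by rw [hsq]
    rw [matS_sc, smul_mulVec, one_mulVec] at h
    rw [← h]
    show _ = (matS Q (sc Q b) * ((k : GL ι F) : Matrix ι ι F) * (matS Q (sc Q b) * ((k : GL ι F) : Matrix ι ι F))) *ᵥ x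
    simp [matS_sc, ← mulVec_mulVec, mulVec_smul, smul_smul, act, smul_mulVec]
  obtain ⟨v, hv⟩ := exists_nonsingular Q hQ (by omega)
  have hc : ((a : F) / ((b : F) * b)) * ((a : F) / ((b : F) * b)) = 1 := by
    have h := congrArg Q (e v)
    rw [QuadraticMap.map_smul, QuadraticMap.map_smul, Q_act, Q_act, smul_eq_mul, smul_eq_mul] at h
    have := b.ne_zero
    field_simp
    exact (mul_right_cancel₀ hv (by linear_combination -h) : (a : F) ^ 2 = ((b : F) * b) ^ 2).trans (by ring)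
  have hb : (b : F) * b ≠ 0 := mul_ne_zero b.ne_zero b.ne_zero
  rcases mul_self_eq_one_iff.1 hc with h | h
  · intro x
    rw [← inv_smul_smul₀ hb (act Q k (act Q k x)), e, smul_smul, inv_mul_eq_div, h, one_smul]
  · refine absurd (eps_of_neg_one Q hQ h2 hd h4 fun x => ?_) hg
    rw [← inv_smul_smul₀ hb (act Q k (act Q k x)), e, smul_smul, inv_mul_eq_div, h, neg_one_smul]

omit hQ h2 hd h4 in
/-- The matrix action of a similitude. -/
noncomputable def linS (g : Sim Q) : (ι → F) →ₗ[F] (ι → F) := Matrix.toLin' (matS Q g)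

theorem sq_apply {g : Sim Q} {a : Fˣ} (hsq : g * g = sc Q a) (x : ι → F) :
    matS Q g *ᵥ (matS Q g *ᵥ x) = (a : F) • x := by
  rw [mulVec_mulVec, show matS Q g * matS Q g = matS Q (g * g) from rfl, hsq, matS_sc, smul_mulVec, one_mulVec]

theorem mu_or {g : Sim Q} {a : Fˣ} (hsq : g * g = sc Q a) : (MU g : F) = a ∨ (MU g : F) = -(a : F) := by
  have h := congrArg (fun x => ((MU x : Fˣ) : F)) hsq
  simp only [map_mul, mu_sc, Units.val_mul] at h
  exact mul_self_eq_mul_self_iff.1 h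

theorem mu_nonsquare {g : Sim Q} (hP : g ∉ PP) : ¬ IsSquare ((MU g : Fˣ) : F) := fun ⟨s, hs⟩ =>
  hP ⟨Units.mk0 s (fun h => (MU g).ne_zero (by rw [hs, h, mul_zero])), Units.ext (by
    rw [powMonoidHom_apply, Units.val_pow_eq_pow_val, Units.val_mk0, pow_two]; exact hs.symm)⟩

/-- A vector orthogonal to its image. -/
theorem exists_perp_image {g : Sim Q} (hP : g ∉ PP) {a : Fˣ} (hsq : g * g = sc Q a) :
    ∃ v, Q v ≠ 0 ∧ polar Q v (matS Q g *ᵥ v) = 0 := by
  set G := matS Q g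
  set μ : F := ((MU g : Fˣ) : F)
  have hμ : μ ≠ 0 := (MU g).ne_zero
  have hns : ¬ IsSquare μ := mu_nonsquare Q hQ h2 hd h4 hP
  have hadj : ∀ u v, (a : F) * polar Q u (G *ᵥ v) = μ * polar Q (G *ᵥ u) v := fun u v => by
    have h := polar_sim Q hQ h2 hd h4 g (G *ᵥ u) v
    rwa [sq_apply Q hQ h2 hd h4 hsq, polar_smul_left, smul_eq_mul] at h
  obtain ⟨v0, hv0⟩ := exists_nonsingular Q hQ (by omega)
  rcases mu_or Q hQ h2 hd h4 hsq with hs | hs
  swap
  · refine ⟨v0, hv0, ?_⟩
    have h := hadj v0 v0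
    rw [show μ = -(a : F) from hs, polar_comm (⇑Q) (G *ᵥ v0) v0] at h
    exact (mul_eq_zero.1 (show (2 * (a : F)) * polar Q v0 (G *ᵥ v0) = 0 by linear_combination h)).resolve_left
      (mul_ne_zero h2 a.ne_zero)
  have hsym : ∀ u v, polar Q u (G *ᵥ v) = polar Q (G *ᵥ u) v := fun u v => by
    have h := hadj u v
    rw [show μ = (a : F) from hs] at h
    exact mul_left_cancel₀ a.ne_zero h
  by_contra hcon
  push Not at hcon
  have H : ∀ v, polar Q v (G *ᵥ v) = 0 → Q v = 0 := fun v h => by_contra fun h' => hcon v h' h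
  set p := polar Q v0 (G *ᵥ v0) with hp
  have hp0 : p ≠ 0 := fun h => hv0 (H v0 h)
  have hgg : polar Q (G *ᵥ v0) (G *ᵥ v0) = μ * (2 * Q v0) := by
    rw [WittExt.polar_self_eq, mu_spec Q hQ h2 hd h4]; ring
  have hdet : 4 * μ * Q v0 * Q v0 - p * p ≠ 0 := fun h => hns ⟨p / (2 * Q v0), by field_simp; linear_combination h⟩
  set W := Submodule.span F ({v0, G *ᵥ v0} : Set (ι → F))
  set S := LinearMap.BilinForm.orthogonal (polarBilin Q) W
  have hrefl : (polarBilin Q).IsRefl := fun x y hxy => by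
    show polar Q y x = 0
    rw [polar_comm]; exact hxy
  have hSmem : ∀ x, x ∈ S ↔ polar Q v0 x = 0 ∧ polar Q (G *ᵥ v0) x = 0 := fun x => by
    refine ⟨fun h => ⟨h _ (Submodule.subset_span (Set.mem_insert _ _)),
      h _ (Submodule.subset_span (Set.mem_insert_of_mem _ rfl))⟩, fun ⟨h1, h3⟩ t ht => ?_⟩
    obtain ⟨α, β, rfl⟩ := Submodule.mem_span_pair.1 ht
    show polar Q (α • v0 + β • G *ᵥ v0) x = 0
    rw [polar_add_left, polar_smul_left, polar_smul_left, h1, h3, smul_zero, smul_zero, add_zero]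
  have hSinv : ∀ x ∈ S, G *ᵥ x ∈ S := fun x hx => by
    rw [hSmem] at hx ⊢
    exact ⟨by rw [hsym]; exact hx.2, by rw [polar_sim Q hQ h2 hd h4, hx.1, mul_zero]⟩
  have hSS : S ⊓ LinearMap.BilinForm.orthogonal (polarBilin Q) S = ⊥ := by
    rw [Submodule.eq_bot_iff]
    intro x hx
    obtain ⟨hxS, hxo⟩ := Submodule.mem_inf.1 hx
    rw [show LinearMap.BilinForm.orthogonal (polarBilin Q) S = W from
      LinearMap.BilinForm.orthogonal_orthogonal hQ hrefl W] at hxo
    obtain ⟨α, β, rfl⟩ := Submodule.mem_span_pair.1 hxo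
    obtain ⟨h1, h3⟩ := (hSmem _).1 hxS
    rw [polar_add_right, polar_smul_right, polar_smul_right, WittExt.polar_self_eq, ← hp, smul_eq_mul,
      smul_eq_mul] at h1
    rw [polar_add_right, polar_smul_right, polar_smul_right, polar_comm (⇑Q) (G *ᵥ v0) v0, ← hp, hgg, smul_eq_mul,
      smul_eq_mul] at h3
    have hβ : β = 0 := (mul_eq_zero.1 (show (4 * μ * Q v0 * Q v0 - p * p) * β = 0 by
      linear_combination (2 * Q v0) * h3 - p * h1)).resolve_left hdet
    have hα : α = 0 := (mul_eq_zero.1 (show (2 * Q v0) * α = 0 by rw [hβ] at h1; linear_combination h1)).resolve_left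
      (mul_ne_zero h2 hv0)
    rw [hα, hβ, zero_smul, zero_smul, add_zero]
  -- the twisted form
  let R : QuadraticForm F (ι → F) :=
    LinearMap.BilinMap.toQuadraticMap ((polarBilin Q).compl₂ (Matrix.toLin' G))
  have hR : ∀ v, R v = polar Q v (G *ᵥ v) := fun v => rfl
  have hpolR : ∀ u v, polar R u v = 2 * polar Q u (G *ᵥ v) := fun u v => by
    show R (u + v) - R u - R v = _
    rw [hR, hR, hR, mulVec_add, polar_add_left, polar_add_right, polar_add_right]
    rw [hsym v u, polar_comm (⇑Q) (G *ᵥ v) u]; ring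
  have hRnd : (polarBilin R).Nondegenerate := by
    have h1 : ∀ x, (∀ y, polar R x y = 0) → x = 0 := fun x hx => hQ.1 x fun y => by
      have h := hx (G *ᵥ y)
      rw [hpolR, sq_apply Q hQ h2 hd h4 hsq, polar_smul_right, smul_eq_mul] at h
      exact (mul_eq_zero.1 ((mul_eq_zero.1 h).resolve_left h2)).resolve_left a.ne_zero
    exact ⟨h1, fun y hy => h1 y fun x => by rw [polar_comm]; exact hy x⟩
  have hSR : S ⊓ LinearMap.BilinForm.orthogonal (polarBilin R) S = ⊥ := by
    rw [Submodule.eq_bot_iff]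
    intro x hx
    obtain ⟨hxS, hxo⟩ := Submodule.mem_inf.1 hx
    have h1 : G *ᵥ x ∈ (S ⊓ LinearMap.BilinForm.orthogonal (polarBilin Q) S : Submodule F (ι → F)) :=
      Submodule.mem_inf.2 ⟨hSinv x hxS, fun y hy => by
        have h := hxo y hy
        change polar R y x = 0 at h
        rw [hpolR] at h
        exact (mul_eq_zero.1 h).resolve_left h2⟩
    rw [hSS, Submodule.mem_bot] at h1
    have h := sq_apply Q hQ h2 hd h4 hsq x
    rw [h1, mulVec_zero] at h
    exact (smul_eq_zero.1 h.symm).resolve_left a.ne_zero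
  have hSd : 2 ≤ finrank F S := by
    rw [LinearMap.BilinForm.finrank_orthogonal hQ, finrank_pi, hd]
    classical
    have := finrank_span_finset_le_card (R := F) ({v0, G *ᵥ v0} : Finset (ι → F))
    rw [Finset.coe_pair] at this
    have h' : finrank F W ≤ 2 := this.trans Finset.card_le_two
    omega
  obtain ⟨w, hwS, hw⟩ := OmegaTrans.exists_value R hRnd hSR hSd (neg_ne_zero.2 hp0)
  have hcross : ∀ v ∈ W, ∀ u ∈ S, polar Q v u = 0 := fun v hv u hu => hu v hv
  have hsum : ∀ v ∈ W, ∀ u ∈ S, polar Q v (G *ᵥ v) + polar Q u (G *ᵥ u) = 0 → Q v + Q u = 0 := by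
    intro v hv u hu h
    have hQe : Q (v + u) = Q v + Q u := by
      rw [QuadraticMap.map_add (⇑Q), hcross v hv u hu, add_zero]
    rw [← hQe]
    refine H _ ?_
    rw [mulVec_add, polar_add_left, polar_add_right, polar_add_right, hcross v hv _ (hSinv u hu), hsym u v,
      polar_comm (⇑Q) (G *ᵥ u) v, hcross v hv _ (hSinv u hu)]
    linear_combination h
  rw [hR] at hw
  have hwQ := hsum v0 (Submodule.subset_span (Set.mem_insert _ _)) w hwS (by rw [hw, ← hp, add_neg_cancel])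
  have hlin : ∀ v ∈ W, p * Q v = polar Q v (G *ᵥ v) * Q v0 := by
    intro v hv
    set r := polar Q v (G *ᵥ v) with hr
    by_cases hr0 : r = 0
    · rw [H v hr0, hr0, mul_zero, zero_mul]
    by_cases hs' : IsSquare (r / p)
    · obtain ⟨s, hs'⟩ := hs'
      have e : r = p * (s * s) := by rw [← hs', mul_div_cancel₀ _ hp0]
      have h := hsum v hv (s • w) (S.smul_mem _ hwS) (by
        rw [mulVec_smul, polar_smul_left, polar_smul_right, hw, smul_eq_mul, smul_eq_mul, ← hr, e]; ring)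
      rw [QuadraticMap.map_smul, smul_eq_mul] at h
      linear_combination p * h - (p * (s * s)) * hwQ - Q v0 * e
    · obtain ⟨s, hs''⟩ := ns_mul h2 hs' (fun h => hns (by simpa using h.inv) : ¬ IsSquare μ⁻¹)
      have e : r = p * μ * (s * s) := by rw [← hs'']; field_simp
      have h := hsum v hv (s • G *ᵥ w) (S.smul_mem _ (hSinv w hwS)) (by
        rw [mulVec_smul, polar_smul_left, polar_smul_right, polar_sim Q hQ h2 hd h4 g w, hw, smul_eq_mul, smul_eq_mul,
          ← hr, e]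
        ring)
      rw [QuadraticMap.map_smul, smul_eq_mul, mu_spec Q hQ h2 hd h4] at h
      linear_combination p * h - (p * (s * s) * μ) * hwQ - Q v0 * e
  have hW0 : v0 ∈ W := Submodule.subset_span (Set.mem_insert _ _)
  have hW1 : G *ᵥ v0 ∈ W := Submodule.subset_span (Set.mem_insert_of_mem _ rfl)
  have key : ∀ ε : F, ε * ε = 1 → ε ≠ 0 → False := by
    intro ε he hε
    have h := hlin (v0 + ε • G *ᵥ v0) (W.add_mem hW0 (W.smul_mem _ hW1))
    rw [QuadraticMap.map_add (⇑Q), QuadraticMap.map_smul, polar_smul_right, mulVec_add, mulVec_smul,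
      sq_apply Q hQ h2 hd h4 hsq] at h
    have hQG : Q (G *ᵥ v0) = μ * Q v0 := mu_spec Q hQ h2 hd h4 g v0
    simp only [polar_add_left, polar_add_right, polar_smul_left, polar_smul_right, smul_eq_mul,
      hQG, hgg, polar_comm (⇑Q) (G *ᵥ v0) v0, WittExt.polar_self_eq, ← hp, ← hs] at h
    exact hdet ((mul_eq_zero.1 (show ε * (4 * μ * Q v0 * Q v0 - p * p) = 0 by
      linear_combination -h)).resolve_left hε)
  exact key 1 (one_mul 1) one_ne_zero

theorem eps_refl_pair {u w : ι → F} (hu : Q u ≠ 0) (hw : Q w ≠ 0) :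
    EPS (ofO Q (refl Q u hu * refl Q w hw)) = 1 := by
  rw [eps_ofO]
  refine Units.ext ?_
  show (Cfsg.reflectionMatrix (⇑Q) u * Cfsg.reflectionMatrix (⇑Q) w).det = 1
  rw [det_mul, Quad.reflection_det Q hu, Quad.reflection_det Q hw]; ring

theorem chi_refl_pair {u w : ι → F} (hu : Q u ≠ 0) (hw : Q w ≠ 0) (hs : ¬ IsSquare (Q u * Q w)) :
    chi Q 1 (refl Q u hu * refl Q w hw) = -1 := by
  rw [show refl Q u hu * refl Q w hw = Disc.reflList Q [⟨u, hu⟩, ⟨w, hw⟩] by
    show _ = refl Q u hu * (refl Q w hw * 1); rw [mul_one], Disc.chi_reflList Q hQ h2]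
  simp only [List.length_cons, List.length_nil, List.map_cons, List.map_nil, List.prod_cons, List.prod_nil,
    mul_one, Disc.sgn]
  rw [if_neg]
  · decide
  · simpa using hs

theorem refl_eq {u v : ι → F} {t : F} (ht : t ≠ 0) (e : u = t • v) (hu : Q u ≠ 0) (hv : Q v ≠ 0) :
    refl Q u hu = refl Q v hv := by
  subst e
  exact refl_smul Q v hv ht

/-- An element commuting with the similitude, outside `Ω`. -/
theorem exists_comm {g : Sim Q} (hg : EPS g ≠ 1) {a : Fˣ} (hsq : g * g = sc Q a) :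
    ∃ k : O Q, EPS (ofO Q k) = 1 ∧ chi Q 1 k = -1 ∧ g * ofO Q k * g⁻¹ = ofO Q k := by
  by_cases hP : g ∈ PP
  · obtain ⟨b, k0, rfl, hk0, hinv⟩ := eps_dir Q hQ h2 hd h4 hg hP hsq
    set L : (ι → F) →ₗ[F] (ι → F) := Matrix.toLin' ((k0 : GL ι F) : Matrix ι ι F)
    have hL : ∀ x, L (L x) = x := hinv
    have ho : ∀ x ∈ DetInvol.pos L, ∀ y ∈ DetInvol.neg L, polar Q x y = 0 := by
      intro x hx y hy
      rw [DetInvol.mem_pos] at hx; rw [DetInvol.mem_neg] at hy
      have h : polar Q (L x) (L y) = polar Q x y := polar_act Q k0 x y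
      rw [hx, hy, polar_neg_right] at h
      exact (mul_eq_zero.1 (show (2 : F) * polar Q x y = 0 by linear_combination -h)).resolve_left h2
    have hc := DetInvol.isCompl h2 hL
    have hsum := DetInvol.finrank_add h2 hL
    rw [finrank_pi, hd] at hsum
    obtain ⟨S, t, ht, hS, hSd, hact⟩ : ∃ (S : Submodule F (ι → F)) (t : F), t ≠ 0 ∧
        S ⊓ LinearMap.BilinForm.orthogonal (polarBilin Q) S = ⊥ ∧ 2 ≤ finrank F S ∧ ∀ x ∈ S, act Q k0 x = t • x := by
      by_cases h : 2 ≤ finrank F (DetInvol.pos L)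
      · exact ⟨_, 1, one_ne_zero, nondeg_of_compl Q hQ h2 hc ho, h, fun x hx => by
          rw [one_smul]; exact DetInvol.mem_pos.1 hx⟩
      · exact ⟨_, -1, neg_ne_zero.2 one_ne_zero,
          nondeg_of_compl Q hQ h2 hc.symm (fun x hx y hy => by rw [polar_comm]; exact ho y hy x hx), by omega,
          fun x hx => by rw [neg_one_smul]; exact DetInvol.mem_neg.1 hx⟩
    obtain ⟨c, hc'⟩ := FiniteField.exists_nonsquare (Refl.ringChar_ne_two h2)
    obtain ⟨u, huS, hu⟩ := OmegaTrans.exists_value Q hQ hS hSd (one_ne_zero (α := F))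
    obtain ⟨w, hwS, hw⟩ := OmegaTrans.exists_value Q hQ hS hSd (fun h => hc' (h ▸ IsSquare.zero) : c ≠ 0)
    have hu0 : Q u ≠ 0 := by rw [hu]; exact one_ne_zero
    have hw0 : Q w ≠ 0 := by rw [hw]; exact fun h => hc' (h ▸ IsSquare.zero)
    refine ⟨refl Q u hu0 * refl Q w hw0, eps_refl_pair Q hQ h2 hd h4 hu0 hw0,
      chi_refl_pair Q hQ h2 hd h4 hu0 hw0 (by rw [hu, hw, one_mul]; exact hc'), ?_⟩
    have hk : k0 * (refl Q u hu0 * refl Q w hw0) * k0⁻¹ = refl Q u hu0 * refl Q w hw0 := by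
      rw [show k0 * (refl Q u hu0 * refl Q w hw0) * k0⁻¹ = (k0 * refl Q u hu0 * k0⁻¹) * (k0 * refl Q w hw0 * k0⁻¹) by
        group, refl_conj, refl_conj, refl_eq Q hQ h2 hd h4 ht (hact u huS) _ hu0,
        refl_eq Q hQ h2 hd h4 ht (hact w hwS) _ hw0]
    have hcen : ∀ z : Sim Q, sc Q b * z * (sc Q b)⁻¹ = z := fun z => by
      rw [mul_inv_eq_iff_eq_mul]
      refine matS_inj Q ?_
      show matS Q (sc Q b) * matS Q z = matS Q z * matS Q (sc Q b)
      rw [matS_sc]; simp
    rw [show sc Q b * ofO Q k0 * ofO Q (refl Q u hu0 * refl Q w hw0) * (sc Q b * ofO Q k0)⁻¹ =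
      sc Q b * ofO Q (k0 * (refl Q u hu0 * refl Q w hw0) * k0⁻¹) * (sc Q b)⁻¹ by simp only [map_mul, map_inv]; group,
      hk, hcen]
  · obtain ⟨v, hv, hperp⟩ := exists_perp_image Q hQ h2 hd h4 hP hsq
    set μ : F := ((MU g : Fˣ) : F)
    have hv' : Q (matS Q g *ᵥ v) ≠ 0 := by
      rw [mu_spec Q hQ h2 hd h4]; exact mul_ne_zero (MU g).ne_zero hv
    refine ⟨refl Q v hv * refl Q _ hv', eps_refl_pair Q hQ h2 hd h4 hv hv', chi_refl_pair Q hQ h2 hd h4 hv hv' ?_, ?_⟩
    · rintro ⟨s, hs⟩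
      rw [mu_spec Q hQ h2 hd h4] at hs
      exact mu_nonsquare Q hQ h2 hd h4 hP ⟨s / Q v, by field_simp; linear_combination hs⟩
    · have hv'' : Q (matS Q g *ᵥ (matS Q g *ᵥ v)) ≠ 0 := by
        rw [sq_apply Q hQ h2 hd h4 hsq, QuadraticMap.map_smul, smul_eq_mul]
        exact mul_ne_zero (mul_ne_zero a.ne_zero a.ne_zero) hv
      have hcm : refl Q _ hv' * refl Q v hv = refl Q v hv * refl Q _ hv' := by
        rw [← mul_inv_eq_iff_eq_mul, refl_conj]
        refine refl_eq Q hQ h2 hd h4 one_ne_zero ?_ _ hv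
        rw [one_smul, act_refl, polar_comm, hperp, mul_zero, zero_smul, sub_zero]
      rw [← ofO_conjT, map_mul, conjT_refl Q hQ h2 hd h4 g hv hv', conjT_refl Q hQ h2 hd h4 g hv' hv'',
        refl_eq Q hQ h2 hd h4 a.ne_zero (sq_apply Q hQ h2 hd h4 hsq v) hv'' hv, hcm]

omit hQ h2 hd h4 in
theorem commutator_mul_right {G : Type*} [Group G] (g h : G) :
    h * (g * h) * h⁻¹ * (g * h)⁻¹ = h * g * h⁻¹ * g⁻¹ := by group

/-- In the square case the commutator with an outer element is not inner. -/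
theorem comm_notMem (hκ : IsSquare (Disc.disc Q (Pi.basisFun F ι))) {g h : Sim Q} (hg : EPS g ≠ 1)
    (hh : EPS h = 1) (hhP : h ∉ PP) : h * g * h⁻¹ * g⁻¹ ∉ N Q := by
  obtain ⟨r, hrP, hre, hrr, hrz⟩ := exists_r Q hQ h2 hd h4
  haveI := N_normal Q
  haveI := M_normal Q hQ h2 hd h4
  have key : ∀ g' : Sim Q, g' ∈ PP → EPS g' ≠ 1 → h * g' * h⁻¹ * g'⁻¹ ∉ N Q := by
    intro g' hP he hmem
    have hx : g' * r ∈ MM' := Subgroup.mem_inf.2 ⟨mul_mem hP hrP, MonoidHom.mem_ker.2 (by
      have key' : ∀ z, EPS z ≠ 1 → (EPS z : F) = -1 := fun z hz =>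
        (mul_self_eq_one_iff.1 (show ((EPS z : Fˣ) : F) * (EPS z : Fˣ) = 1 from
          congrArg Units.val (eps_sq Q hQ h2 hd h4 z))).resolve_left fun e => hz (Units.ext e)
      rw [map_mul]
      refine Units.ext ?_
      rw [Units.val_mul, key' g' he, key' r hre, Units.val_one]; ring)⟩
    obtain ⟨-, zN⟩ := hrz h⁻¹ (fun h' => hhP (inv_mem_iff.1 h')) hκ
    rw [inv_inv] at zN
    set x := g' * r
    have e : h * g' * h⁻¹ * g'⁻¹ = (h * x * h⁻¹ * x⁻¹) * (x * (h * r * h⁻¹ * r) * x⁻¹) := by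
      rw [show g' = x * r by rw [mul_assoc, hrr, mul_one], _root_.mul_inv_rev, inv_eq_of_mul_eq_one_right hrr]
      group
    rw [e] at hmem
    have h1 := (Subgroup.mul_mem_cancel_left _ (conj_mem_N Q hQ h2 hd h4 h hx)).1 hmem
    have h3 := (N_normal Q).conj_mem _ h1 x⁻¹
    exact zN (by
      rwa [show x⁻¹ * (x * (h * r * h⁻¹ * r) * x⁻¹) * x⁻¹⁻¹ = h * r * h⁻¹ * r by group] at h3)
  by_cases hP : g ∈ PP
  · exact key g hP hg
  · rw [← commutator_mul_right]
    exact key (g * h) ((mem_P_or Q hQ h2 hd h4 hhP).resolve_left hP) (by rw [map_mul, hh, mul_one]; exact hg)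

omit hQ h2 hd h4 in
theorem isSquare_of_odd {μ x : F} (hμ : μ ≠ 0) {p : ℕ} (hp : Odd p) (h : x * x = μ ^ p) : IsSquare μ := by
  obtain ⟨j, rfl⟩ := hp
  refine ⟨x / μ ^ j, ?_⟩
  field_simp
  linear_combination -h

/-- For even `d`, no element outside `P` commutes projectively. -/
theorem comm_even (hev : Even d) {g h : Sim Q} (hg : EPS g ≠ 1) {a : Fˣ} (hsq : g * g = sc Q a)
    (hh : EPS h = 1) {c : Fˣ} (hc : h * g * h⁻¹ * g⁻¹ = sc Q c) : h ∈ PP := by
  by_contra hhP
  have hP : g ∈ PP := by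
    by_contra hP
    apply hg
    have hns := mu_nonsquare Q hQ h2 hd h4 hP
    have hsgn : ((MU g : Fˣ) : F) ^ d = (a : F) ^ d := by
      rcases mu_or Q hQ h2 hd h4 hsq with h' | h' <;> rw [h']
      exact hev.neg_pow _
    rw [eps_eq_one_iff, hsgn]
    by_cases ha : IsSquare (a : F)
    · have hμ : (MU g : F) = -(a : F) := (mu_or Q hQ h2 hd h4 hsq).resolve_left fun e => hns (e ▸ ha)
      obtain ⟨r, hr⟩ := ha
      have hr0 : r ≠ 0 := fun e => a.ne_zero (by rw [hr, e, mul_zero])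
      set L : (ι → F) →ₗ[F] (ι → F) := r⁻¹ • linS Q g
      have hL : ∀ x, L (L x) = x := fun x => by
        show r⁻¹ • (matS Q g *ᵥ (r⁻¹ • (matS Q g *ᵥ x))) = x
        rw [mulVec_smul, smul_smul, sq_apply Q hQ h2 hd h4 hsq, smul_smul, hr]
        convert one_smul F x using 2
        field_simp
      have hQL : ∀ x, Q (L x) = -Q x := fun x => by
        show Q (r⁻¹ • (matS Q g *ᵥ x)) = _
        rw [QuadraticMap.map_smul, smul_eq_mul, mu_spec Q hQ h2 hd h4, hμ, hr]
        field_simp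
      have h0 : ∀ x, -Q x = Q x → Q x = 0 := fun x e =>
        (mul_eq_zero.1 (show (2 : F) * Q x = 0 by linear_combination -e)).resolve_left h2
      have h1 := singular_le Q hQ h2 hd h4 (DetInvol.pos L) fun x hx => h0 x (by
        rw [DetInvol.mem_pos] at hx; rw [← hQL, hx])
      have h3 := singular_le Q hQ h2 hd h4 (DetInvol.neg L) fun x hx => h0 x (by
        rw [DetInvol.mem_neg] at hx; rw [← hQL, hx, QuadraticMap.map_neg])
      have h5 := DetInvol.finrank_add h2 hL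
      rw [finrank_pi, hd] at h5
      have h6 := DetInvol.det_invol h2 hL
      rw [LinearMap.det_smul, finrank_pi, hd, show finrank F (DetInvol.neg L) = d by omega, hev.neg_one_pow,
        linS, LinearMap.det_toLin', inv_pow, inv_mul_eq_one₀ (pow_ne_zero _ hr0)] at h6
      rw [← h6, hr, pow_mul, pow_two]
    · have h' := DetInvol.det_of_sq ha (L := linS Q g) (fun x => sq_apply Q hQ h2 hd h4 hsq x)
        (d := d) (by rw [finrank_pi, hd])
      rw [linS, LinearMap.det_toLin', hev.neg_pow] at h'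
      exact h'
  obtain ⟨b, k, rfl, hk, hinv⟩ := eps_dir Q hQ h2 hd h4 hg hP hsq
  set L : (ι → F) →ₗ[F] (ι → F) := Matrix.toLin' ((k : GL ι F) : Matrix ι ι F)
  have hL : ∀ x, L (L x) = x := hinv
  have hcc : (c : F) * c = 1 := by
    have h' := congrArg (fun x => ((MU x : Fˣ) : F)) hc
    simp only [map_mul, map_inv, mu_sc] at h'
    rw [mul_comm (MU h), mul_inv_cancel_right, mul_inv_cancel, Units.val_one, Units.val_mul] at h'
    exact h'.symm
  have hcomm : ∀ x, matS Q h *ᵥ (L x) = (c : F) • L (matS Q h *ᵥ x) := fun x => by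
    rw [mul_inv_eq_iff_eq_mul, mul_inv_eq_iff_eq_mul] at hc
    have e : matS Q (h * (sc Q b * ofO Q k)) *ᵥ x = matS Q (sc Q c * (sc Q b * ofO Q k) * h) *ᵥ x := by rw [hc]
    change (matS Q h * (matS Q (sc Q b) * ((k : GL ι F) : Matrix ι ι F))) *ᵥ x =
      (matS Q (sc Q c) * (matS Q (sc Q b) * ((k : GL ι F) : Matrix ι ι F)) * matS Q h) *ᵥ x at e
    simp only [matS_sc, smul_mul_assoc, one_mul, mul_smul_comm, smul_mulVec, smul_smul, ← mulVec_mulVec] at e
    rw [← smul_smul] at e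
    exact smul_right_injective _ b.ne_zero e
  have hsum := DetInvol.finrank_add h2 hL
  rw [finrank_pi, hd] at hsum
  have hdetk : LinearMap.det L = -1 := by
    rw [LinearMap.det_toLin']
    have h' : ((EPS (ofO Q k) : Fˣ) : F) = -1 := (mul_self_eq_one_iff.1 (show ((EPS (ofO Q k) : Fˣ) : F) * (EPS (ofO Q k) : Fˣ) = 1 from
      congrArg Units.val (eps_sq Q hQ h2 hd h4 _))).resolve_left fun e => hk (Units.ext e)
    rwa [eps_ofO] at h'
  have hodd : Odd (finrank F (DetInvol.neg L)) := by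
    rw [DetInvol.det_invol h2 hL] at hdetk
    exact (neg_one_pow_eq_neg_one_iff_odd (fun e => h2 (by linear_combination -e))).1 hdetk
  have hinj : Function.Injective (linS Q h) := fun x y e => by
    have := congrArg ((((h : GL ι F)⁻¹ : GL ι F) : Matrix ι ι F) *ᵥ ·) e
    simpa [linS, matS, mulVec_mulVec] using this
  rcases mul_self_eq_one_iff.1 hcc with hc1 | hc1
  · set p := finrank F (DetInvol.pos L)
    have hp : Odd p := by
      obtain ⟨s, hs⟩ := hev; obtain ⟨t, ht⟩ := hodd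
      exact ⟨(p - 1) / 2, by omega⟩
    set μ : F := ((MU h : Fˣ) : F)
    let A : (ι → F) →ₗ[F] (ι → F) :=
      (linS Q h).comp ((2 : F)⁻¹ • (LinearMap.id + L)) + (2 : F)⁻¹ • (LinearMap.id - L)
    let B : (ι → F) →ₗ[F] (ι → F) := μ • ((2 : F)⁻¹ • (LinearMap.id + L)) + (2 : F)⁻¹ • (LinearMap.id - L)
    have half : ∀ z : ι → F, (2 : F)⁻¹ • (z + z) = z := fun z => by rw [← two_smul F z, inv_smul_smul₀ h2]
    have hdetB : LinearMap.det B = μ ^ p := by
      rw [DetInvol.det_split B _ _ (DetInvol.isCompl h2 hL) (α := μ) (β := 1) (fun x hx => ?_) (fun x hx => ?_),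
        one_pow, mul_one]
      · rw [DetInvol.mem_pos] at hx
        show μ • ((2 : F)⁻¹ • (x + L x)) + (2 : F)⁻¹ • (x - L x) = _
        rw [hx, half x, sub_self, smul_zero, add_zero]
      · rw [DetInvol.mem_neg] at hx
        show μ • ((2 : F)⁻¹ • (x + L x)) + (2 : F)⁻¹ • (x - L x) = _
        rw [hx, add_neg_cancel, smul_zero, smul_zero, zero_add, sub_neg_eq_add, half x, one_smul]
    have hpol : ∀ x y, polar Q (A x) (A y) = polar Q (B x) y := by
      intro x y
      have hc' := DetInvol.isCompl h2 hL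
      obtain ⟨x1, hx1, x2, hx2, rfl⟩ := Submodule.mem_sup.1 (hc'.sup_eq_top ▸ Submodule.mem_top : x ∈ _ ⊔ _)
      obtain ⟨y1, hy1, y2, hy2, rfl⟩ := Submodule.mem_sup.1 (hc'.sup_eq_top ▸ Submodule.mem_top : y ∈ _ ⊔ _)
      rw [DetInvol.mem_pos] at hx1 hy1
      rw [DetInvol.mem_neg] at hx2 hy2
      have hA1 : ∀ z, L z = z → A z = matS Q h *ᵥ z := fun z hz => by
        show matS Q h *ᵥ ((2 : F)⁻¹ • (z + L z)) + (2 : F)⁻¹ • (z - L z) = _
        rw [hz, half z, sub_self, smul_zero, add_zero]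
      have hA2 : ∀ z, L z = -z → A z = z := fun z hz => by
        show matS Q h *ᵥ ((2 : F)⁻¹ • (z + L z)) + (2 : F)⁻¹ • (z - L z) = _
        rw [hz, add_neg_cancel, smul_zero, mulVec_zero, zero_add, sub_neg_eq_add, half z]
      have hB1 : ∀ z, L z = z → B z = μ • z := fun z hz => by
        show μ • ((2 : F)⁻¹ • (z + L z)) + (2 : F)⁻¹ • (z - L z) = _
        rw [hz, half z, sub_self, smul_zero, add_zero]
      have hB2 : ∀ z, L z = -z → B z = z := fun z hz => by
        show μ • ((2 : F)⁻¹ • (z + L z)) + (2 : F)⁻¹ • (z - L z) = _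
        rw [hz, add_neg_cancel, smul_zero, smul_zero, zero_add, sub_neg_eq_add, half z]
      have ho : ∀ z w, L z = z → L w = -w → polar Q z w = 0 := fun z w hz hw => by
        have e : polar Q (L z) (L w) = polar Q z w := polar_act Q k z w
        rw [hz, hw, polar_neg_right] at e
        exact (mul_eq_zero.1 (show (2 : F) * polar Q z w = 0 by linear_combination -e)).resolve_left h2
      have hm1 : ∀ z, L z = z → L (matS Q h *ᵥ z) = matS Q h *ᵥ z := fun z hz => by
        have e := hcomm z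
        rw [hc1, one_smul, hz] at e
        exact e.symm
      rw [map_add, map_add, hA1 x1 hx1, hA2 x2 hx2, hA1 y1 hy1, hA2 y2 hy2, map_add, hB1 x1 hx1, hB2 x2 hx2]
      simp only [polar_add_left, polar_add_right, polar_smul_left, polar_sim Q hQ h2 hd h4, smul_eq_mul,
        ho _ _ (hm1 x1 hx1) hy2, ho _ _ hx1 hy2, polar_comm (⇑Q) x2 (matS Q h *ᵥ y1), ho _ _ (hm1 y1 hy1) hx2,
        polar_comm (⇑Q) x2 y1, ho _ _ hy1 hx2, mul_zero, μ]
    have hm : (LinearMap.toMatrix' A)ᵀ * Quad.gram Q * LinearMap.toMatrix' A =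
        (LinearMap.toMatrix' B)ᵀ * Quad.gram Q := by
      ext i j
      have e := hpol (Pi.single i 1) (Pi.single j 1)
      rw [← LinearMap.toMatrix'_mulVec A, ← LinearMap.toMatrix'_mulVec A, ← LinearMap.toMatrix'_mulVec B,
        Quad.polar_eq_gram, Quad.polar_eq_gram, Matrix.mulVec_single_one, Matrix.mulVec_single_one,
        Matrix.mulVec_single_one, Matrix.mulVec_single_one] at e
      rw [Matrix.mul_assoc]
      exact e
    have hdet := congrArg Matrix.det hm
    rw [det_mul, det_mul, det_mul, det_transpose, det_transpose, LinearMap.det_toMatrix', LinearMap.det_toMatrix',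
      hdetB] at hdet
    exact mu_nonsquare Q hQ h2 hd h4 hhP (isSquare_of_odd (x := LinearMap.det A) (MU h).ne_zero hp
      (mul_right_cancel₀ (Quad.det_gram_ne_zero Q hQ) (by linear_combination hdet)))
  · have hswap : ∀ (s : F) z, L z = s • z → L (matS Q h *ᵥ z) = -s • matS Q h *ᵥ z := fun s z hz => by
      have e := hcomm z
      rw [hc1, hz, mulVec_smul, neg_one_smul] at e
      rw [neg_smul, e, neg_neg]
    have h1 : (DetInvol.pos L).map (linS Q h) ≤ DetInvol.neg L := by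
      rintro _ ⟨z, hz, rfl⟩
      rw [DetInvol.mem_neg]
      have e := hswap 1 z (by rw [one_smul]; exact DetInvol.mem_pos.1 hz)
      rwa [neg_one_smul] at e
    have h3 : (DetInvol.neg L).map (linS Q h) ≤ DetInvol.pos L := by
      rintro _ ⟨z, hz, rfl⟩
      rw [DetInvol.mem_pos]
      have e := hswap (-1) z (by rw [neg_one_smul]; exact DetInvol.mem_neg.1 hz)
      rwa [neg_neg, one_smul] at e
    have e1 := Submodule.finrank_mono h1
    have e3 := Submodule.finrank_mono h3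
    rw [← (Submodule.equivMapOfInjective _ hinj _).finrank_eq] at e1 e3
    rw [show finrank F (DetInvol.neg L) = d by omega] at hodd
    exact Nat.not_odd_iff_even.2 hev hodd

omit hQ h2 hd h4 in
theorem sc_comm (a : Fˣ) (z : Sim Q) : sc Q a * z = z * sc Q a := by
  refine matS_inj Q ?_
  show matS Q (sc Q a) * matS Q z = matS Q z * matS Q (sc Q a)
  rw [matS_sc]; simp

/-- Class splitting for an involutory outer similitude. -/
theorem split_main {τ : Sim Q} (hτ : τ ∉ PP) (hτe : EPS τ = 1) (I : Subgroup (MulAut (Cfsg.POmega F ⇑Q)))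
    (hI : I = (EPS).ker.map (D Q)) {g : Sim Q} (hg : EPS g ≠ 1) {a : Fˣ} (hsq : g * g = sc Q a) :
    (Cfsg.splitClassCount I (Cfsg.Inn (Cfsg.POmega F ⇑Q)) (D Q g) = 1 ∨
      Cfsg.splitClassCount I (Cfsg.Inn (Cfsg.POmega F ⇑Q)) (D Q g) = 2) ∧
    ((IsSquare (Disc.disc Q (Pi.basisFun F ι)) ∨ Even d) →
      Cfsg.splitClassCount I (Cfsg.Inn (Cfsg.POmega F ⇑Q)) (D Q g) = 2) := by
  haveI := N_normal Q
  set H := (EPS).ker
  have hKH : N Q ≤ H := (N_le_M Q hQ h2 hd h4).trans inf_le_right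
  have hrange : ((D Q).comp H.subtype).range = I := by
    rw [hI, MonoidHom.range_comp, Subgroup.range_subtype]
  have hK : Cfsg.Inn (Cfsg.POmega F ⇑Q) ≤ ((D Q).comp H.subtype).range := by
    rw [hrange, hI, inn_eq]
    exact Subgroup.map_mono fun x ⟨t, ht, e⟩ => e ▸ MonoidHom.mem_ker.2 ((mem_omega Q hQ h2 hd h4 _).1 ht).1
  have hN : ((Cfsg.Inn (Cfsg.POmega F ⇑Q)).comap ((D Q).comp H.subtype)).Normal :=
    (inn_normal (X := Cfsg.POmega F ⇑Q)).comap _
  rw [← hrange, PSLFieldCent.split_count _ _ hK hN]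
  set N' : Subgroup H := (Cfsg.Inn (Cfsg.POmega F ⇑Q)).comap ((D Q).comp H.subtype)
  have hN' : N' = (N Q).subgroupOf H := rfl
  set C := (Subgroup.centralizer ({D Q g} : Set (MulAut (Cfsg.POmega F ⇑Q)))).comap ((D Q).comp H.subtype)
  have hC : ∀ x : H, x ∈ C → ∃ c, (x : Sim Q) * g * (x : Sim Q)⁻¹ * g⁻¹ = sc Q c := fun x hx => by
    rw [Subgroup.mem_comap, Subgroup.mem_centralizer_singleton_iff] at hx
    refine ker_D Q hQ h2 hd h4 ?_
    simp only [map_mul, map_inv]
    change D Q x * D Q g = D Q g * D Q x at hx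
    rw [hx]; group
  set M' := (MM').subgroupOf H
  have hM2 : M'.index = 2 := QuotStruct.relIndex_two_of _ _ (a := τ) (MonoidHom.mem_ker.2 hτe)
    (fun h => hτ (Subgroup.mem_inf.1 h).1) fun b hb => (mem_P_or Q hQ h2 hd h4 hτ).imp
      (fun h => Subgroup.mem_inf.2 ⟨h, hb⟩) fun h => Subgroup.mem_inf.2 ⟨h, mul_mem hb (MonoidHom.mem_ker.2 hτe)⟩
  have hNM : N' ≤ M' := fun x hx => N_le_M Q hQ h2 hd h4 hx
  by_cases hκ : IsSquare (Disc.disc Q (Pi.basisFun F ι))
  · have hCM : C ≤ M' := fun x hx => by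
      obtain ⟨c, hc⟩ := hC x hx
      refine Subgroup.mem_inf.2 ⟨?_, x.2⟩
      by_contra hP
      exact comm_notMem Q hQ h2 hd h4 hκ hg (MonoidHom.mem_ker.1 x.2) hP (hc ▸ by
        show D Q (sc Q c) ∈ Cfsg.Inn _
        rw [D_sc]; exact one_mem _)
    obtain ⟨k, hk, hkc, hkg⟩ := exists_comm Q hQ h2 hd h4 hg hsq
    have hkC : (⟨ofO Q k, MonoidHom.mem_ker.2 hk⟩ : H) ∈ C := by
      rw [Subgroup.mem_comap, Subgroup.mem_centralizer_singleton_iff]
      show D Q (ofO Q k) * D Q g = D Q g * D Q (ofO Q k)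
      rw [← map_mul, ← map_mul]
      conv_lhs => rw [← hkg]
      congr 1; group
    have hkN : (⟨ofO Q k, MonoidHom.mem_ker.2 hk⟩ : H) ∉ N' := fun h => by
      have h' : sc Q 1 * ofO Q k ∈ N Q := by rw [map_one, one_mul]; exact h
      exact ((mem_N_iff Q hQ h2 hd h4 1 k).1 h').2.elim (by rw [hkc]; decide) fun e => e hκ
    have heq : (N' ⊔ C).index = 2 := by
      have h4' : N'.index = 4 := by
        show (N Q).relIndex H = 4
        rw [← Subgroup.relIndex_mul_relIndex _ _ _ (N_le_M Q hQ h2 hd h4) inf_le_right, N_relIndex Q hQ h2 hd h4 hκ]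
        rw [show (MM').relIndex H = 2 from hM2]
      have d1 := Subgroup.index_dvd_of_le (le_sup_left : N' ≤ N' ⊔ C)
      have d2 := Subgroup.index_dvd_of_le (sup_le hNM hCM)
      rw [h4'] at d1
      rw [hM2] at d2
      have hne : (N' ⊔ C).index ≠ 4 := fun e => by
        have h1 := Subgroup.relIndex_mul_index (le_sup_left : N' ≤ N' ⊔ C)
        rw [e, h4'] at h1
        have h3 : N'.relIndex (N' ⊔ C) = 1 := by omega
        exact hkN (Subgroup.relIndex_eq_one.1 h3 (Subgroup.mem_sup_right hkC))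
      generalize (N' ⊔ C).index = i at d1 d2 hne ⊢
      have := Nat.le_of_dvd (by norm_num) d1
      interval_cases i <;> simp_all
    exact ⟨Or.inr heq, fun _ => heq⟩
  · have hN2 : N'.index = 2 := by
      rw [hN', ← M_eq_N Q hQ h2 hd h4 hκ]; exact hM2
    have hdvd := Subgroup.index_dvd_of_le (le_sup_left : N' ≤ N' ⊔ C)
    rw [hN2] at hdvd
    refine ⟨(Nat.dvd_prime Nat.prime_two).1 hdvd, fun hev => ?_⟩
    have hCN : C ≤ N' := fun x hx => by
      obtain ⟨c, hc⟩ := hC x hx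
      rw [hN', ← M_eq_N Q hQ h2 hd h4 hκ]
      exact Subgroup.mem_inf.2 ⟨comm_even Q hQ h2 hd h4 (hev.resolve_left hκ) hg hsq (MonoidHom.mem_ker.1 x.2) hc, x.2⟩
    rw [sup_eq_left.2 hCN, hN2]

end Cfsg.Agent.PGOSplit
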