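import Cfsg.Agent.Lib.Classical.Linear
import Cfsg.Agent.Lib.Fusion.Simple
import Cfsg.Agent.Lib.Fusion.GroupSystem
import Cfsg.Agent.Lib.Solv.Basic

/-!
The defining-characteristic fusion system of `PSL(n, q)`, `n ≥ 3`, is simple.
-/

set_option autoImplicit false
set_option linter.style.haveILetI false
set_option linter.unusedSectionVars false

open Matrix
open scoped Classical

noncomputable section

namespace Cfsg.Agent.Classical.PSLFusion

open Cfsg Cfsg.FusionSystem

section General

variable {G : Type*} [Group G] [Finite G]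

/-- A submonoid of a finite group is a subgroup. -/
def subgroupOfMul (c : Set G) (h1 : (1 : G) ∈ c) (hm : ∀ a b, a ∈ c → b ∈ c → a * b ∈ c) : Subgroup G where
  carrier := c
  one_mem' := h1
  mul_mem' := fun {a b} => hm a b
  inv_mem' {a} ha := by
    have hp : ∀ m : ℕ, a ^ m ∈ c := fun m => by
      induction m with
      | zero => rwa [pow_zero]
      | succ m ih => rw [pow_succ]; exact hm _ _ ih ha
    have ho := orderOf_pos a
    have : a ^ (orderOf a - 1) = a⁻¹ := eq_inv_of_mul_eq_one_left (by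
      rw [← pow_succ, Nat.sub_add_cancel ho, pow_orderOf_eq_one])
    exact this ▸ hp _

end General

variable {F : Type*} [Field F] [Fintype F] {n : ℕ} {p : ℕ}

local notation "SLn" => Matrix.SpecialLinearGroup (Fin n) F

/-- The elements `1 + X` with `X` supported on the block `i < k ≤ j`. -/
def R (F : Type*) [Field F] [Fintype F] (n k : ℕ) : Subgroup (Matrix.SpecialLinearGroup (Fin n) F) :=
  subgroupOfMul {g | ∀ i j : Fin n, ¬ ((i : ℕ) < k ∧ k ≤ (j : ℕ)) → g.1 i j = (1 : Matrix (Fin n) (Fin n) F) i j}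
    (fun i j _ => rfl) fun a b ha hb i j hij => by
      show (a.1 * b.1) i j = _
      rw [Matrix.mul_apply]
      rw [Finset.sum_eq_single i]
      · by_cases hd : i = j
        · subst hd
          rw [ha i i (by omega), hb i i (by omega), one_apply_eq, mul_one]
        · rw [ha i i (by omega), hb i j hij, one_apply_eq, one_mul]
      · intro l _ hl
        by_cases hil : (i : ℕ) < k ∧ k ≤ (l : ℕ)
        · rw [hb l j (by omega), one_apply_ne (fun e => by subst e; exact hij ⟨hil.1, hil.2⟩), mul_zero]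
        · rw [ha i l hil, one_apply_ne (Ne.symm hl), zero_mul]
      · simp

theorem mem_R {k : ℕ} {g : SLn} : g ∈ R F n k ↔
    ∀ i j : Fin n, ¬ ((i : ℕ) < k ∧ k ≤ (j : ℕ)) → g.1 i j = (1 : Matrix (Fin n) (Fin n) F) i j := Iff.rfl

/-- Upper unitriangular matrices. -/
def U (F : Type*) [Field F] [Fintype F] (n : ℕ) : Subgroup (Matrix.SpecialLinearGroup (Fin n) F) :=
  subgroupOfMul {g | ∀ i j : Fin n, (j : ℕ) ≤ (i : ℕ) → g.1 i j = (1 : Matrix (Fin n) (Fin n) F) i j}
    (fun i j _ => rfl) fun a b ha hb i j hij => by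
      show (a.1 * b.1) i j = _
      rw [Matrix.mul_apply, Finset.sum_eq_single i]
      · rw [ha i i le_rfl, hb i j hij, one_apply_eq, one_mul]
      · intro l _ hl
        by_cases hil : (l : ℕ) ≤ (i : ℕ)
        · rw [ha i l hil, one_apply_ne (Ne.symm hl), zero_mul]
        · rw [hb l j (by omega), one_apply_ne (fun e => by subst e; omega), mul_zero]
      · simp

theorem mem_U {g : SLn} : g ∈ U F n ↔
    ∀ i j : Fin n, (j : ℕ) ≤ (i : ℕ) → g.1 i j = (1 : Matrix (Fin n) (Fin n) F) i j := Iff.rfl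

theorem R_le_U (k : ℕ) : R F n k ≤ U F n := fun _ hg i j hij => hg i j (by omega)

abbrev t (i j : Fin n) (h : i ≠ j) (c : F) : SLn := Matrix.SpecialLinearGroup.transvection h c

theorem t_apply (i j : Fin n) (h : i ≠ j) (c : F) (a b : Fin n) :
    (t i j h c).1 a b = (1 : Matrix (Fin n) (Fin n) F) a b + if i = a ∧ j = b then c else 0 := by
  show (Matrix.SpecialLinearGroup.transvection h c).1 a b = _
  rw [Matrix.SpecialLinearGroup.transvection_coe, Matrix.add_apply, Matrix.single_apply]

theorem t_one_ne (i j : Fin n) (h : i ≠ j) : t i j h (1 : F) ≠ 1 := fun e => by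
  have := congrFun (congrFun (congrArg Subtype.val e) i) j
  rw [t_apply, if_pos ⟨rfl, rfl⟩, Matrix.SpecialLinearGroup.coe_one, one_apply_ne h, zero_add] at this
  exact one_ne_zero this

theorem t_mem_R {k : ℕ} {i j : Fin n} (hi : (i : ℕ) < k) (hj : k ≤ (j : ℕ)) (c : F) (h : i ≠ j) :
    t i j h c ∈ R F n k := fun a b hab => by
  rw [t_apply, if_neg (show ¬ (i = a ∧ j = b) from fun e => hab ⟨e.1 ▸ hi, e.2 ▸ hj⟩), add_zero]

theorem t_mem_U {i j : Fin n} (hij : (i : ℕ) < (j : ℕ)) (c : F) (h : i ≠ j) : t i j h c ∈ U F n :=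
  fun a b hab => by
    rw [t_apply, if_neg (show ¬ (i = a ∧ j = b) from fun e => by rw [← e.1, ← e.2] at hab; omega), add_zero]

/-- Powers of elements of `U` vanish off the higher diagonals. -/
theorem exists_pow_eq_one [Fact p.Prime] [CharP F p] {g : SLn} (hg : g ∈ U F n) : g ^ p ^ n = 1 := by
  have hnil : ∀ m : ℕ, ∀ i j : Fin n, (j : ℕ) < (i : ℕ) + m → ((g.1 - 1) ^ m) i j = 0 := by
    intro m
    induction m with
    | zero => intro i j hij; rw [pow_zero, one_apply_ne (fun e => by subst e; omega)]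
    | succ m ih =>
      intro i j hij
      rw [pow_succ, Matrix.mul_apply]
      refine Finset.sum_eq_zero fun l _ => ?_
      by_cases hl : (l : ℕ) < (i : ℕ) + m
      · rw [ih i l hl, zero_mul]
      · rw [Matrix.sub_apply, hg l j (by omega), sub_self, mul_zero]
  have hp : n ≤ p ^ n := (Nat.lt_pow_self (Fact.out (p := p.Prime)).one_lt).le
  have hz : (g.1 - 1) ^ p ^ n = 0 := by
    refine Matrix.ext fun i j => ?_
    rw [hnil _ i j (by omega)]
    rfl
  rcases isEmpty_or_nonempty (Fin n) with hn | hn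
  · exact Subtype.ext (Matrix.ext fun i => isEmptyElim i)
  haveI : CharP (Matrix (Fin n) (Fin n) F) p :=
    charP_of_injective_ringHom (f := Matrix.scalar (Fin n)) (fun a b h => (Matrix.scalar_inj.1 h)) p
  rw [sub_pow_char_pow_of_commute (p := p) (h := Commute.one_right g.1), one_pow, sub_eq_zero] at hz
  exact Subtype.ext (by rw [Matrix.SpecialLinearGroup.coe_pow, hz]; rfl)

theorem scalar_root_eq_one [Fact p.Prime] [CharP F p] {r : F} {a : ℕ} (h : r ^ p ^ a = 1) : r = 1 :=
  (iterateFrobenius F p a).injective (by simp only [iterateFrobenius_def, h, one_pow])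

/-- An upper triangular matrix. -/
def IsUpper (h : SLn) : Prop := ∀ i j : Fin n, (j : ℕ) < (i : ℕ) → h.1 i j = 0

theorem upper_pow_diag {h : SLn} (hh : IsUpper h) (m : ℕ) :
    IsUpper (h ^ m) ∧ ∀ i, (h ^ m).1 i i = h.1 i i ^ m := by
  induction m with
  | zero =>
    refine ⟨fun i j hij => ?_, fun i => ?_⟩
    · rw [pow_zero]; exact one_apply_ne (fun e => by subst e; omega)
    · rw [pow_zero, pow_zero]; exact one_apply_eq i
  | succ m ih =>
    obtain ⟨h1, h2⟩ := ih
    refine ⟨fun i j hij => ?_, fun i => ?_⟩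
    · rw [pow_succ, Matrix.SpecialLinearGroup.coe_mul, Matrix.mul_apply]
      refine Finset.sum_eq_zero fun l _ => ?_
      by_cases hl : (l : ℕ) < (i : ℕ)
      · rw [h1 i l hl, zero_mul]
      · rw [hh l j (by omega), mul_zero]
    · rw [pow_succ, Matrix.SpecialLinearGroup.coe_mul, Matrix.mul_apply, Finset.sum_eq_single i]
      · rw [h2, pow_succ]
      · intro l _ hl
        by_cases hl' : (l : ℕ) < (i : ℕ)
        · rw [h1 i l hl', zero_mul]
        · rw [hh l i (by have := Fin.val_ne_of_ne hl; omega), mul_zero]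
      · simp

theorem det_upper {h : SLn} (hh : IsUpper h) : ∏ i, h.1 i i = 1 := by
  rw [← Matrix.det_of_upperTriangular (M := h.1) (fun i j hij => hh i j hij)]
  exact h.2

theorem upper_diag_ne_zero {h : SLn} (hh : IsUpper h) (i : Fin n) : h.1 i i ≠ 0 := fun h0 =>
  (Finset.prod_ne_zero_iff (f := fun a => h.1 a a) (s := Finset.univ)).1
    (by rw [det_upper hh]; exact one_ne_zero) i (Finset.mem_univ i) h0

section Hom

variable [hpF : Fact p.Prime] [hCF : CharP F p] {G : Type*} [Group G] [Finite G] (f : Matrix.SpecialLinearGroup (Fin n) F →* G)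
variable (hf : Function.Surjective f) (hker : f.ker = Subgroup.center (Matrix.SpecialLinearGroup (Fin n) F))

include hpF hCF hker in
theorem eq_of_map_eq [Nonempty (Fin n)] {x y : SLn} {a b : ℕ} (hx : x ^ p ^ a = 1) (hy : y ^ p ^ b = 1)
    (h : f x = f y) : x = y := by
  have hz : y⁻¹ * x ∈ Subgroup.center (Matrix.SpecialLinearGroup (Fin n) F) := by
    rw [← hker, MonoidHom.mem_ker, map_mul, map_inv, h, inv_mul_cancel]
  have hc : Commute y⁻¹ x := by
    have h1 : y * (y⁻¹ * x) = (y⁻¹ * x) * y := Subgroup.mem_center_iff.1 hz y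
    rw [mul_inv_cancel_left] at h1
    show y⁻¹ * x = x * y⁻¹
    conv_rhs => rw [h1]
    group
  have hp : (y⁻¹ * x) ^ p ^ (a + b) = 1 := by
    rw [hc.mul_pow, inv_pow]
    nth_rewrite 1 [add_comm a b]
    rw [pow_add, pow_mul, hy, one_pow, inv_one, one_mul, pow_add, pow_mul, hx, one_pow]
  obtain ⟨r, -, hr⟩ := Matrix.SpecialLinearGroup.mem_center_iff.1 hz
  have hr' : r = 1 := by
    have h2 := congrArg Subtype.val hp
    rw [Matrix.SpecialLinearGroup.coe_pow, ← hr, ← map_pow, Matrix.SpecialLinearGroup.coe_one, ← map_one (Matrix.scalar (Fin n)),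
      Matrix.scalar_inj] at h2
    exact scalar_root_eq_one h2
  have h3 : y⁻¹ * x = 1 := Subtype.ext (by rw [← hr, hr', map_one]; rfl)
  exact (inv_mul_eq_one.1 h3).symm

include hpF hCF hker in
theorem conj_eq [Nonempty (Fin n)] {g x : SLn} (hx : x ∈ U F n) {y : SLn} (hy : y ∈ U F n)
    (h : f g * f x * (f g)⁻¹ = f y) : g * x * g⁻¹ = y :=
  eq_of_map_eq (p := p) f hker (a := n) (b := n) (by rw [conj_pow, exists_pow_eq_one hx, mul_one, mul_inv_cancel])
    (exists_pow_eq_one hy) (by rw [map_mul, map_mul, map_inv, h])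

include hpF hCF hker in
theorem normalizer_upper [Nonempty (Fin n)] {h : SLn} (hh : ∀ u ∈ U F n, f h * f u * (f h)⁻¹ ∈ (U F n).map f) :
    IsUpper h := by
  suffices H : ∀ a : ℕ, ∀ j b : Fin n, (b : ℕ) < a → (b : ℕ) < (j : ℕ) → h.1 j b = 0 from
    fun i j hij => H ((j : ℕ) + 1) i j (by omega) hij
  intro a
  induction a with
  | zero => intro j b hb; omega
  | succ a ih =>
    intro j b hb hbj
    rcases Nat.lt_or_eq_of_le (Nat.lt_succ_iff.1 hb) with hlt | heq
    · exact ih j b hlt hbj
    have hne : b ≠ j := fun e => by subst e; omega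
    obtain ⟨u', hu', he⟩ : ∃ u' ∈ U F n, t b j hne 1 * h = h * u' := by
      have hall : ∀ u ∈ U F n, ∃ v ∈ U F n, h * u = v * h := fun u hu => by
        obtain ⟨v, hv, hve⟩ := hh u hu
        refine ⟨v, hv, ?_⟩
        rw [← conj_eq (p := p) f hker hu hv hve.symm, inv_mul_cancel_right]
      let φ : U F n → U F n := fun u => ⟨_, (hall u u.2).choose_spec.1⟩
      have hφ : Function.Injective φ := fun u v e => Subtype.ext (mul_left_cancel (a := h) (by
        rw [(hall u u.2).choose_spec.2, (hall v v.2).choose_spec.2]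
        exact congrArg (fun z : U F n => (z : SLn) * h) e))
      obtain ⟨u, hu⟩ := Finite.injective_iff_surjective.1 hφ ⟨_, t_mem_U hbj 1 hne⟩
      refine ⟨u, u.2, ?_⟩
      rw [(hall u u.2).choose_spec.2]
      exact congrArg (fun z : U F n => (z : SLn) * h) hu.symm
    have he' := congrFun (congrFun (congrArg Subtype.val he) b) b
    rw [Matrix.SpecialLinearGroup.coe_mul, Matrix.SpecialLinearGroup.coe_mul, Matrix.mul_apply, Matrix.mul_apply] at he'
    simp only [t_apply, Matrix.one_apply, true_and] at he'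
    rw [Finset.sum_eq_single (s := Finset.univ) (f := fun l => h.1 b l * u'.1 l b) b] at he'
    · rw [hu' b b le_rfl, one_apply_eq, mul_one] at he'
      simp only [add_mul, ite_mul, one_mul, zero_mul, Finset.sum_add_distrib, Finset.sum_ite_eq, Finset.mem_univ,
        if_true] at he'
      linear_combination he'
    · intro l _ hl
      by_cases hlb : (l : ℕ) < (b : ℕ)
      · rw [ih b l (by omega) hlb, zero_mul]
      · rw [hu' l b (by omega), one_apply_ne hl, mul_zero]
    · simp

/-- Decomposition of an upper unitriangular matrix. -/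
theorem U_le (H : Subgroup (Matrix.SpecialLinearGroup (Fin n) F)) (hH : ∀ k, 1 ≤ k → k < n → R F n k ≤ H) : U F n ≤ H := by
  suffices key : ∀ d m : ℕ, m + d = n → ∀ g ∈ U F n, (∀ i j : Fin n, (i : ℕ) < m → g.1 i j = (1 : Matrix (Fin n) (Fin n) F) i j) →
      g ∈ H from fun g hg => key n 0 (zero_add n) g hg fun i _ hi => by omega
  intro d
  induction d with
  | zero =>
    intro m hm g _ hrow
    rw [show g = 1 from Subtype.ext (Matrix.ext fun i j => hrow i j (by omega))]
    exact one_mem H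
  | succ d ih =>
    intro m hm g hg hrow
    by_cases hlast : m + 1 = n
    · rw [show g = 1 from Subtype.ext (Matrix.ext fun i j => ?_)]
      · exact one_mem H
      by_cases hi : (i : ℕ) < m
      · exact hrow i j hi
      · exact hg i j (by omega)
    let X : Matrix (Fin n) (Fin n) F := fun i j => if (i : ℕ) = m ∧ m + 1 ≤ (j : ℕ) then -g.1 i j else 0
    let r : SLn := ⟨1 + X, by
      have hup : (1 + X).BlockTriangular id := fun i j (hij : j < i) => by
        have hij' : (j : ℕ) < (i : ℕ) := hij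
        rw [Matrix.add_apply, one_apply_ne (fun e => by subst e; omega), zero_add]
        exact if_neg (by omega)
      rw [Matrix.det_of_upperTriangular hup]
      refine Finset.prod_eq_one fun i _ => ?_
      rw [Matrix.add_apply, one_apply_eq, show X i i = 0 from if_neg (by omega), add_zero]⟩
    have hr : r ∈ R F n (m + 1) := fun i j hij => by
      show (1 + X) i j = _
      rw [Matrix.add_apply, show X i j = 0 from if_neg (by omega), add_zero]
    have hgr : ∀ i j : Fin n, (g * r).1 i j = g.1 i j + if (i : ℕ) = m ∧ m + 1 ≤ (j : ℕ) then -g.1 i j else 0 := by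
      intro i j
      show (g.1 * (1 + X)) i j = _
      rw [Matrix.mul_add, Matrix.mul_one, Matrix.add_apply]
      congr 1
      rw [Matrix.mul_apply, Finset.sum_eq_single (⟨m, by omega⟩ : Fin n)]
      · by_cases hi : (i : ℕ) = m
        · have hie : i = (⟨m, by omega⟩ : Fin n) := Fin.ext hi
          rw [← hie, hg i i le_rfl, one_apply_eq, one_mul]
        · rw [if_neg (fun e => hi e.1)]
          by_cases hi' : (i : ℕ) < m
          · rw [hrow _ _ hi', one_apply_ne (fun e => hi (congrArg Fin.val e)), zero_mul]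
          · rw [hg _ _ (by show m ≤ (i : ℕ); omega), one_apply_ne (fun e => hi (congrArg Fin.val e)), zero_mul]
      · intro l _ hl
        rw [show X l j = 0 from if_neg (fun e => hl (Fin.ext e.1)), mul_zero]
      · simp
    have h1 : g * r ∈ H := ih (m + 1) (by omega) _ (mul_mem hg (R_le_U _ hr)) fun i j hi => by
      rw [hgr]
      by_cases hc : (i : ℕ) = m ∧ m + 1 ≤ (j : ℕ)
      · rw [if_pos hc, add_neg_cancel, one_apply_ne (fun e => by subst e; omega)]
      · rw [if_neg hc, add_zero]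
        by_cases hi' : (i : ℕ) < m
        · exact hrow i j hi'
        · exact hg i j (by omega)
    have := mul_mem h1 (inv_mem (hH (m + 1) (by omega) (by omega) hr))
    rwa [mul_inv_cancel_right] at this

/-- Block triangular transvections normalize `R k`. -/
theorem conj_R {k : ℕ} {g r : SLn} (hg : ∀ i j : Fin n, k ≤ (i : ℕ) → (j : ℕ) < k → g.1 i j = 0)
    (hg' : ∀ i j : Fin n, k ≤ (i : ℕ) → (j : ℕ) < k → (g⁻¹).1 i j = 0) (hr : r ∈ R F n k) :
    g * r * g⁻¹ ∈ R F n k := fun i j hij => by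
  have e : (g * r * g⁻¹).1 = g.1 * (r.1 - 1) * (g⁻¹).1 + 1 := by
    rw [Matrix.mul_sub, Matrix.mul_one, Matrix.sub_mul, ← Matrix.SpecialLinearGroup.coe_mul g g⁻¹, mul_inv_cancel]
    simp [Matrix.SpecialLinearGroup.coe_mul]
  rw [e, Matrix.add_apply, add_eq_right, Matrix.mul_apply]
  refine Finset.sum_eq_zero fun l _ => ?_
  rw [Matrix.mul_apply, Finset.sum_mul]
  refine Finset.sum_eq_zero fun a _ => ?_
  by_cases hal : (a : ℕ) < k ∧ k ≤ (l : ℕ)
  · by_cases hi : k ≤ (i : ℕ)
    · rw [hg i a hi hal.1, zero_mul, zero_mul]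
    · rw [hg' l j hal.2 (by omega), mul_zero]
  · rw [Matrix.sub_apply, hr a l hal, sub_self, mul_zero, zero_mul]

theorem conj_R_t {k : ℕ} {a b : Fin n} (hab : a ≠ b) (hk : (a : ℕ) < k ∨ k ≤ (b : ℕ)) (c : F) {r : SLn}
    (hr : r ∈ R F n k) : t a b hab c * r * (t a b hab c)⁻¹ ∈ R F n k := by
  have h : ∀ c : F, ∀ i j : Fin n, k ≤ (i : ℕ) → (j : ℕ) < k → (t a b hab c).1 i j = 0 := fun c i j hi hj => by
    rw [t_apply, one_apply_ne (fun e => by subst e; omega), zero_add, if_neg]
    rintro ⟨rfl, rfl⟩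
    omega
  exact conj_R (h c) (fun i j hi hj => by rw [Matrix.SpecialLinearGroup.transvection_inv]; exact h _ i j hi hj) hr

theorem conj_R_upper {k : ℕ} {g r : SLn} (hg : g ∈ U F n) (hr : r ∈ R F n k) : g * r * g⁻¹ ∈ R F n k :=
  conj_R (fun i j hi hj => by rw [hg i j (by omega)]; exact one_apply_ne (fun e => by subst e; omega))
    (fun i j hi hj => by rw [inv_mem hg i j (by omega)]; exact one_apply_ne (fun e => by subst e; omega)) hr

theorem irreducible (hn : 3 ≤ n) {k : ℕ} (hk : 1 ≤ k) (hkn : k < n) (M : Subgroup (Matrix.SpecialLinearGroup (Fin n) F))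
    (hM : M ≤ R F n k) (hne : ∃ x ∈ M, x ≠ 1)
    (hinv : ∀ (a b : Fin n) (hab : a ≠ b), ((a : ℕ) < k ↔ (b : ℕ) < k) → ∀ c : F, ∀ x ∈ M, t a b hab c * x * (t a b hab c)⁻¹ ∈ M) :
    R F n k ≤ M := by
  -- the additive group of the off-diagonal blocks
  have hmul : ∀ x y : SLn, x ∈ R F n k → y ∈ R F n k → (x.1 - 1) * (y.1 - 1) = 0 := fun x y hx hy => by
    refine Matrix.ext fun i j => ?_
    rw [Matrix.mul_apply, Matrix.zero_apply]
    refine Finset.sum_eq_zero fun l _ => ?_
    by_cases hl : (i : ℕ) < k ∧ k ≤ (l : ℕ)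
    · rw [Matrix.sub_apply (y.1), hy l j (by omega), sub_self, mul_zero]
    · rw [Matrix.sub_apply, hx i l hl, sub_self, zero_mul]
  have hadd : ∀ x y : SLn, x ∈ R F n k → y ∈ R F n k → (x * y).1 - 1 = (x.1 - 1) + (y.1 - 1) := fun x y hx hy => by
    have := hmul x y hx hy
    rw [Matrix.SpecialLinearGroup.coe_mul]
    rw [← sub_eq_zero] at this ⊢
    rw [← this]
    noncomm_ring
  let A : AddSubgroup (Matrix (Fin n) (Fin n) F) :=
    { carrier := {X | ∃ x ∈ M, x.1 - 1 = X}
      zero_mem' := ⟨1, one_mem M, by simp⟩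
      add_mem' := by
        rintro _ _ ⟨x, hx, rfl⟩ ⟨y, hy, rfl⟩
        exact ⟨x * y, mul_mem hx hy, hadd x y (hM hx) (hM hy)⟩
      neg_mem' := by
        rintro _ ⟨x, hx, rfl⟩
        refine ⟨x⁻¹, inv_mem hx, eq_neg_of_add_eq_zero_left ?_⟩
        rw [← hadd _ _ (hM (inv_mem hx)) (hM hx), inv_mul_cancel]
        simp }
  have hsupp : ∀ X ∈ A, ∀ i j : Fin n, ¬ ((i : ℕ) < k ∧ k ≤ (j : ℕ)) → X i j = 0 := by
    rintro _ ⟨x, hx, rfl⟩ i j hij
    rw [Matrix.sub_apply, hM hx i j hij, sub_self]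
  have hL : ∀ X ∈ A, ∀ (i a : Fin n), i ≠ a → (i : ℕ) < k → (a : ℕ) < k → ∀ c : F, Matrix.single i a c * X ∈ A := by
    intro X hX i a hia hi ha c
    obtain ⟨x, hx, rfl⟩ := id hX
    have h0 : (x.1 - 1) * Matrix.single i a c = 0 := Matrix.ext fun u v => by
      rw [Matrix.mul_apply, Matrix.zero_apply, Finset.sum_eq_single i]
      · rw [hsupp _ hX u i (by omega), zero_mul]
      · intro l _ hl; rw [Matrix.single_apply, if_neg (fun e => hl e.1.symm), mul_zero]
      · simp
    have h1 : (t i a hia c * x * (t i a hia c)⁻¹).1 - 1 = (x.1 - 1) + Matrix.single i a c * (x.1 - 1) := by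
      rw [Matrix.SpecialLinearGroup.transvection_inv, Matrix.SpecialLinearGroup.coe_mul, Matrix.SpecialLinearGroup.coe_mul,
        Matrix.SpecialLinearGroup.transvection_coe, Matrix.SpecialLinearGroup.transvection_coe, ← Matrix.single_neg]
      have h2 : Matrix.single i a c * Matrix.single i a c = (0 : Matrix (Fin n) (Fin n) F) :=
        Matrix.single_mul_single_of_ne _ _ _ _ hia.symm _
      rw [Matrix.sub_mul, Matrix.one_mul, sub_eq_zero] at h0
      linear_combination (norm := noncomm_ring) -h0 - Matrix.single i a c * h0 - h2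
    have := A.sub_mem ⟨_, hinv i a hia (iff_of_true hi ha) c x hx, h1⟩ hX
    simpa using this
  have hR : ∀ X ∈ A, ∀ (b j : Fin n), b ≠ j → k ≤ (b : ℕ) → k ≤ (j : ℕ) → ∀ c : F, X * Matrix.single b j c ∈ A := by
    intro X hX b j hbj hb hj c
    obtain ⟨x, hx, rfl⟩ := id hX
    have h0 : Matrix.single b j c * (x.1 - 1) = 0 := Matrix.ext fun u v => by
      rw [Matrix.mul_apply, Matrix.zero_apply, Finset.sum_eq_single j]
      · rw [hsupp _ hX j v (by omega), mul_zero]
      · intro l _ hl; rw [Matrix.single_apply, if_neg (fun e => hl e.2.symm), zero_mul]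
      · simp
    have h1 : (t b j hbj c * x * (t b j hbj c)⁻¹).1 - 1 = (x.1 - 1) - (x.1 - 1) * Matrix.single b j c := by
      rw [Matrix.SpecialLinearGroup.transvection_inv, Matrix.SpecialLinearGroup.coe_mul, Matrix.SpecialLinearGroup.coe_mul,
        Matrix.SpecialLinearGroup.transvection_coe, Matrix.SpecialLinearGroup.transvection_coe, ← Matrix.single_neg]
      have h2 : Matrix.single b j c * Matrix.single b j c = (0 : Matrix (Fin n) (Fin n) F) :=
        Matrix.single_mul_single_of_ne _ _ _ _ hbj.symm _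
      rw [Matrix.mul_sub, Matrix.mul_one, sub_eq_zero] at h0
      linear_combination (norm := noncomm_ring) h0 - h0 * Matrix.single b j c - h2
    have := A.sub_mem hX ⟨_, hinv b j hbj (iff_of_false (by omega) (by omega)) c x hx, h1⟩
    simpa using this
  obtain ⟨x, hx, hx1⟩ := hne
  obtain ⟨a, b, hab⟩ : ∃ a b : Fin n, (x.1 - 1) a b ≠ 0 := by
    by_contra! h
    exact hx1 (Subtype.ext (Matrix.ext fun a b => sub_eq_zero.1 (h a b)))
  obtain ⟨hak, hkb⟩ : (a : ℕ) < k ∧ k ≤ (b : ℕ) := by
    by_contra h; exact hab (hsupp _ ⟨x, hx, rfl⟩ a b h)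
  have hXA : x.1 - 1 ∈ A := ⟨x, hx, rfl⟩
  set X := x.1 - 1 with hXdef
  -- one position with all scalars
  obtain ⟨i₀, j₀, hi₀, hj₀, hpos⟩ : ∃ i₀ j₀ : Fin n, (i₀ : ℕ) < k ∧ k ≤ (j₀ : ℕ) ∧
      ∀ c : F, Matrix.single i₀ j₀ c ∈ A := by
    by_cases hk2 : 2 ≤ k
    · obtain ⟨i, hi, hia⟩ : ∃ i : Fin n, (i : ℕ) < k ∧ i ≠ a := by
        by_cases ha0 : (a : ℕ) = 0
        · exact ⟨⟨1, by omega⟩, hk2, fun e => by rw [← e] at ha0; simp at ha0⟩
        · exact ⟨⟨0, by omega⟩, by show 0 < k; omega, fun e => ha0 (by rw [← e])⟩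
      by_cases hk3 : k + 1 < n
      · obtain ⟨j, hj, hjb⟩ : ∃ j : Fin n, k ≤ (j : ℕ) ∧ b ≠ j := by
          by_cases hb0 : (b : ℕ) = k
          · exact ⟨⟨k + 1, hk3⟩, by show k ≤ k + 1; omega, fun e => by rw [e] at hb0; simp at hb0⟩
          · exact ⟨⟨k, hkn⟩, le_rfl, fun e => hb0 (by rw [e])⟩
        refine ⟨i, j, hi, hj, fun c => ?_⟩
        have := hR _ (hL X hXA i a hia hi hak (c / X a b)) b j hjb hkb hj 1
        rwa [Matrix.single_mul_mul_single, mul_one, div_mul_cancel₀ _ hab] at this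
      · refine ⟨i, b, hi, hkb, fun c => ?_⟩
        have := hL X hXA i a hia hi hak (c / X a b)
        convert this using 1
        refine Matrix.ext fun u v => ?_
        by_cases hu : u = i
        · subst hu
          rw [Matrix.single_mul_apply_same]
          by_cases hv : k ≤ (v : ℕ)
          · obtain rfl : v = b := Fin.ext (by omega)
            rw [Matrix.single_apply_same, div_mul_cancel₀ _ hab]
          · rw [hsupp _ hXA a v (by omega), mul_zero, Matrix.single_apply,
              if_neg (fun e : u = u ∧ b = v => by rw [← e.2] at hv; exact hv hkb)]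
        · rw [Matrix.single_mul_apply_of_ne _ _ _ _ _ hu, Matrix.single_apply, if_neg (fun e => hu e.1.symm)]
    · obtain ⟨j, hj, hjb⟩ : ∃ j : Fin n, k ≤ (j : ℕ) ∧ b ≠ j := by
        by_cases hb0 : (b : ℕ) = k
        · exact ⟨⟨k + 1, by omega⟩, by show k ≤ k + 1; omega, fun e => by rw [e] at hb0; simp at hb0⟩
        · exact ⟨⟨k, hkn⟩, le_rfl, fun e => hb0 (by rw [e])⟩
      refine ⟨a, j, hak, hj, fun c => ?_⟩
      have := hR X hXA b j hjb hkb hj (c / X a b)
      convert this using 1
      refine Matrix.ext fun u v => ?_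
      by_cases hv : v = j
      · subst hv
        rw [Matrix.mul_single_apply_same]
        by_cases hu : (u : ℕ) < k
        · obtain rfl : u = a := Fin.ext (by omega)
          rw [Matrix.single_apply_same, mul_div_cancel₀ _ hab]
        · rw [hsupp _ hXA u b (by omega), zero_mul, Matrix.single_apply,
            if_neg (fun e : a = u ∧ v = v => by rw [← e.1] at hu; exact hu hak)]
      · rw [Matrix.mul_single_apply_of_ne _ _ _ _ _ hv, Matrix.single_apply, if_neg (fun e => hv e.2.symm)]
  have hall : ∀ i j : Fin n, (i : ℕ) < k → k ≤ (j : ℕ) → ∀ c : F, Matrix.single i j c ∈ A := by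
    intro i j hi hj c
    have h1 : ∀ c : F, Matrix.single i j₀ c ∈ A := fun c => by
      by_cases h : i = i₀
      · exact h ▸ hpos c
      · have := hL _ (hpos 1) i i₀ h hi hi₀ c
        rwa [Matrix.single_mul_single_same, mul_one] at this
    by_cases h : j₀ = j
    · exact h ▸ h1 c
    · have := hR _ (h1 1) j₀ j h hj₀ hj c
      rwa [Matrix.single_mul_single_same, one_mul] at this
  intro y hy
  have hy' : y.1 - 1 ∈ A := by
    rw [Matrix.matrix_eq_sum_single (y.1 - 1)]
    refine A.sum_mem fun i _ => A.sum_mem fun j _ => ?_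
    by_cases h : (i : ℕ) < k ∧ k ≤ (j : ℕ)
    · exact hall i j h.1 h.2 _
    · rw [Matrix.sub_apply, hy i j h, sub_self, Matrix.single_zero]
      exact A.zero_mem
  obtain ⟨z, hz, hze⟩ := hy'
  rwa [show y = z from Subtype.ext (sub_left_injective hze).symm]

include hpF hCF hf hker in
theorem centralizer_R [Nonempty (Fin n)] {k : ℕ} (hk : 1 ≤ k) (hkn : k < n) (g : G)
    (hg : ∀ r ∈ R F n k, g * f r * g⁻¹ = f r) : g ∈ (R F n k).map f := by
  obtain ⟨h, rfl⟩ := hf g
  have hc : ∀ r ∈ R F n k, h * r = r * h := fun r hr => by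
    conv_rhs => rw [← conj_eq (p := p) f hker (R_le_U k hr) (R_le_U k hr) (hg r hr)]
    rw [inv_mul_cancel_right]
  have hE : ∀ a b : Fin n, (a : ℕ) < k → k ≤ (b : ℕ) →
      h.1 * Matrix.single a b (1 : F) = Matrix.single a b (1 : F) * h.1 := fun a b ha hb => by
    have hne : a ≠ b := fun e => by subst e; omega
    have := congrArg Subtype.val (hc _ (t_mem_R ha hb 1 hne))
    rwa [Matrix.SpecialLinearGroup.coe_mul, Matrix.SpecialLinearGroup.coe_mul, Matrix.SpecialLinearGroup.transvection_coe, Matrix.mul_add,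
      Matrix.add_mul, Matrix.mul_one, Matrix.one_mul, add_right_inj] at this
  set a₀ : Fin n := ⟨0, by omega⟩
  set b₀ : Fin n := ⟨k, hkn⟩
  have ha₀ : (a₀ : ℕ) < k := hk
  have hb₀ : k ≤ (b₀ : ℕ) := le_rfl
  set r := h.1 a₀ a₀
  have hcol : ∀ i a : Fin n, (a : ℕ) < k → i ≠ a → h.1 i a = 0 := fun i a ha hia => by
    have := congrFun (congrFun (hE a b₀ ha hb₀) i) b₀
    rwa [Matrix.mul_single_apply_same, Matrix.single_mul_apply_of_ne _ _ _ _ _ hia, mul_one] at this
  have hrow : ∀ b j : Fin n, k ≤ (b : ℕ) → j ≠ b → h.1 b j = 0 := fun b j hb hjb => by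
    have := congrFun (congrFun (hE a₀ b ha₀ hb) a₀) j
    rw [Matrix.mul_single_apply_of_ne _ _ _ _ _ hjb, Matrix.single_mul_apply_same, one_mul] at this
    exact this.symm
  have hdd : ∀ a b : Fin n, (a : ℕ) < k → k ≤ (b : ℕ) → h.1 a a = h.1 b b := fun a b ha hb => by
    have := congrFun (congrFun (hE a b ha hb) a) b
    rwa [Matrix.mul_single_apply_same, Matrix.single_mul_apply_same, mul_one, one_mul] at this
  have hdiag : ∀ i, h.1 i i = r := fun i => by
    by_cases hi : (i : ℕ) < k
    · rw [hdd i b₀ hi hb₀, ← hdd a₀ b₀ ha₀ hb₀]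
    · rw [← hdd a₀ i ha₀ (by omega)]
  have hup : IsUpper h := fun i j hij => by
    by_cases hj : (j : ℕ) < k
    · exact hcol i j hj (fun e => by subst e; omega)
    · exact hrow i j (by omega) (fun e => by subst e; omega)
  have hrn : r ^ n = 1 := by
    have := det_upper hup
    simpa only [hdiag, Finset.prod_const, Finset.card_univ, Fintype.card_fin] using this
  have hr0 : r ≠ 0 := fun e => by rw [e, zero_pow (by omega)] at hrn; exact zero_ne_one hrn
  let z : SLn := ⟨Matrix.scalar (Fin n) r, by simp [Matrix.scalar_apply, hrn]⟩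
  have hz : z ∈ Subgroup.center (Matrix.SpecialLinearGroup (Fin n) F) :=
    Matrix.SpecialLinearGroup.mem_center_iff.2 ⟨r, by rw [Fintype.card_fin]; exact hrn, rfl⟩
  refine ⟨z⁻¹ * h, fun i j hij => ?_, ?_⟩
  · have e : (z * (z⁻¹ * h)).1 = h.1 := by rw [mul_inv_cancel_left]
    rw [Matrix.SpecialLinearGroup.coe_mul, show z.1 = Matrix.diagonal (fun _ => r) from rfl] at e
    have e' := congrFun (congrFun e i) j
    rw [Matrix.diagonal_mul] at e'
    refine mul_left_cancel₀ hr0 (e'.trans ?_)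
    by_cases hd : i = j
    · subst hd; rw [hdiag, one_apply_eq, mul_one]
    · rw [one_apply_ne hd, mul_zero]
      by_cases hj : (j : ℕ) < k
      · exact hcol i j hj hd
      · exact hrow i j (by omega) (Ne.symm hd)
  · rw [map_mul, map_inv, show f z = 1 from MonoidHom.mem_ker.1 (hker.symm ▸ hz), inv_one, one_mul]

theorem isPGroup_U : IsPGroup p (U F n) := fun g => ⟨n, Subtype.ext (exists_pow_eq_one g.2)⟩

include hpF hCF hf hker in
theorem exists_sylow [Nonempty (Fin n)] : ∃ P : Sylow p G, (P : Subgroup G) = (U F n).map f := by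
  have hp : IsPGroup p ((U F n).map f) := (isPGroup_U (p := p) (F := F) (n := n)).map f
  obtain ⟨P, hP⟩ := hp.exists_le_sylow
  refine ⟨P, le_antisymm ?_ hP⟩
  by_contra hne
  have : Group.IsNilpotent (P : Subgroup G) := P.2.isNilpotent
  have hlt : ((U F n).map f).subgroupOf (P : Subgroup G) < ⊤ := by
    rw [lt_top_iff_ne_top, Ne, Subgroup.subgroupOf_eq_top]
    exact hne
  obtain ⟨c, hc, hcn⟩ := SetLike.exists_of_lt (normalizerCondition_of_isNilpotent _ hlt)
  obtain ⟨k, hk⟩ := P.2 c
  obtain ⟨h, hh⟩ := hf (c : G)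
  refine hcn (Subgroup.mem_subgroupOf.2 ?_)
  have hup : IsUpper h := normalizer_upper (p := p) f hker fun u hu => by
    have h1 := (Subgroup.mem_normalizer_iff.1 hc ⟨f u, hP ⟨u, hu, rfl⟩⟩).1 (Subgroup.mem_subgroupOf.2 ⟨u, hu, rfl⟩)
    rw [Subgroup.mem_subgroupOf] at h1
    simpa [hh] using h1
  have hpk : h ^ p ^ k ∈ Subgroup.center (Matrix.SpecialLinearGroup (Fin n) F) := by
    rw [← hker, MonoidHom.mem_ker, map_pow, hh, ← SubmonoidClass.coe_pow, hk]
    rfl
  obtain ⟨r, -, hr⟩ := Matrix.SpecialLinearGroup.mem_center_iff.1 hpk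
  set i₀ : Fin n := Classical.arbitrary (Fin n)
  have hd : ∀ i, h.1 i i = h.1 i₀ i₀ := fun i => (iterateFrobenius F p k).injective (by
    simp only [iterateFrobenius_def, ← (upper_pow_diag hup _).2, ← hr, Matrix.scalar_apply, Matrix.diagonal_apply_eq])
  set s := h.1 i₀ i₀
  have hsn : s ^ n = 1 := by
    have := det_upper hup
    simpa only [hd, Finset.prod_const, Finset.card_univ, Fintype.card_fin] using this
  have hs0 : s ≠ 0 := fun e => by
    rw [e, zero_pow (by have := Fin.pos i₀; omega)] at hsn; exact zero_ne_one hsn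
  let z : SLn := ⟨Matrix.scalar (Fin n) s, by simp [Matrix.scalar_apply, hsn]⟩
  have hz : z ∈ Subgroup.center (Matrix.SpecialLinearGroup (Fin n) F) :=
    Matrix.SpecialLinearGroup.mem_center_iff.2 ⟨s, by rw [Fintype.card_fin]; exact hsn, rfl⟩
  refine ⟨z⁻¹ * h, fun i j hij => ?_, ?_⟩
  · have e : (z * (z⁻¹ * h)).1 = h.1 := by rw [mul_inv_cancel_left]
    rw [Matrix.SpecialLinearGroup.coe_mul, show z.1 = Matrix.diagonal (fun _ => s) from rfl] at e
    have e' := congrFun (congrFun e i) j
    rw [Matrix.diagonal_mul] at e'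
    refine mul_left_cancel₀ hs0 (e'.trans ?_)
    by_cases hdij : i = j
    · subst hdij; rw [hd, one_apply_eq, mul_one]
    · rw [one_apply_ne hdij, mul_zero]
      exact hup i j (by have := Fin.val_ne_of_ne hdij; omega)
  · rw [map_mul, map_inv, show f z = 1 from MonoidHom.mem_ker.1 (hker.symm ▸ hz), inv_one, one_mul, hh]

include hpF hCF hf hker in
theorem fusion_simple (hn : 3 ≤ n) (S : Sylow p G) (hS : (S : Subgroup G) = (U F n).map f) :
    (groupFusionSystem (S : Subgroup G)).IsSimple p := by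
  haveI : Nonempty (Fin n) := ⟨⟨0, by omega⟩⟩
  set FS := groupFusionSystem (S : Subgroup G)
  have hRS : ∀ k, (R F n k).map f ≤ (S : Subgroup G) := fun k => hS ▸ Subgroup.map_mono (R_le_U k)
  have hinjR : ∀ {k : ℕ} {x y : SLn}, x ∈ R F n k → y ∈ R F n k → f x = f y → x = y := fun {k x y} hx hy h =>
    eq_of_map_eq (p := p) f hker (exists_pow_eq_one (R_le_U k hx)) (exists_pow_eq_one (R_le_U k hy)) h
  -- normalizing elements
  have hnorm : ∀ {k : ℕ} {g : SLn}, (∀ r ∈ R F n k, g * r * g⁻¹ ∈ R F n k) →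
      f g ∈ Subgroup.normalizer (((R F n k).map f : Subgroup G) : Set G) := fun {k g} h =>
    Subgroup.mem_normalizer_fintype (by
      rintro _ ⟨r, hr, rfl⟩
      exact ⟨g * r * g⁻¹, h r hr, by simp⟩)
  have hSnorm : ∀ k, (S : Subgroup G) ≤ Subgroup.normalizer (((R F n k).map f : Subgroup G) : Set G) := fun k => by
    rw [hS]
    rintro _ ⟨u, hu, rfl⟩
    exact hnorm fun r hr => conj_R_upper hu hr
  have hcentric : ∀ k, 1 ≤ k → k < n → FS.IsCentric ((R F n k).map f) := fun k hk hkn => by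
    refine ⟨hRS k, fun Q hQ x hx => ?_⟩
    obtain ⟨-, -, g, rfl⟩ := Fusion.isConj_groupFusionSystem.1 hQ
    obtain ⟨r, hr, hre⟩ := centralizer_R (p := p) f hf hker hk hkn (g⁻¹ * x * g) fun r hr => by
      have h1 := hx.2 _ ⟨f r, ⟨r, hr, rfl⟩, rfl⟩
      simp only [MulEquiv.coe_toMonoidHom, MulAut.conj_apply] at h1
      calc g⁻¹ * x * g * f r * (g⁻¹ * x * g)⁻¹ = g⁻¹ * (x * (g * f r * g⁻¹)) * (x⁻¹ * g) := by group
        _ = g⁻¹ * ((g * f r * g⁻¹) * x) * (x⁻¹ * g) := by rw [h1]
        _ = f r := by group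
    exact ⟨f r, ⟨r, hr, rfl⟩, by rw [MulEquiv.coe_toMonoidHom, MulAut.conj_apply, hre]; group⟩
  have hfn : ∀ k, FS.IsFullyNormalized ((R F n k).map f) := fun k => by
    refine ⟨hRS k, fun Q _ => ?_⟩
    have e : normalizerIn (S : Subgroup G) ((R F n k).map f) = (S : Subgroup G) := inf_eq_left.2 (hSnorm k)
    rw [e]
    exact Nat.card_le_card_of_injective (Subgroup.inclusion inf_le_left) (Subgroup.inclusion_injective _)
  have hab : ∀ {k : ℕ} {x y : SLn}, x ∈ R F n k → y ∈ R F n k → x * y = y * x := fun {k x y} hx hy => by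
    refine Subtype.ext (Matrix.ext fun i j => ?_)
    have hz : ∀ u v : SLn, u ∈ R F n k → v ∈ R F n k → ((u.1 - 1) * (v.1 - 1)) = 0 := fun u v hu hv => by
      refine Matrix.ext fun i j => ?_
      rw [Matrix.mul_apply, Matrix.zero_apply]
      refine Finset.sum_eq_zero fun l _ => ?_
      by_cases hl : (i : ℕ) < k ∧ k ≤ (l : ℕ)
      · rw [Matrix.sub_apply (v.1), hv l j (by omega), sub_self, mul_zero]
      · rw [Matrix.sub_apply, hu i l hl, sub_self, zero_mul]
    have e : x.1 * y.1 = y.1 * x.1 := by linear_combination (norm := noncomm_ring) hz x y hx hy - hz y x hy hx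
    exact congrFun (congrFun e i) j
  have hinn : ∀ k, Inn ((R F n k).map f) = ⊥ := fun k => by
    rw [eq_bot_iff]
    rintro _ ⟨⟨_, r, hr, rfl⟩, rfl⟩
    refine Subgroup.mem_bot.2 (MulEquiv.ext ?_)
    rintro ⟨_, s, hs, rfl⟩
    refine Subtype.ext ?_
    show f r * f s * (f r)⁻¹ = f s
    rw [← map_mul, hab hr hs, map_mul, mul_inv_cancel_right]
  have hrad : ∀ k, 1 ≤ k → k < n → FS.IsRadical p ((R F n k).map f) := fun k hk hkn => by
    refine ⟨hRS k, ?_⟩
    rw [hinn, Subgroup.map_eq_bot_iff_of_injective _ (Subgroup.subtype_injective _)]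
    set Q := (R F n k).map f
    set K := pCore p (FS.autGroup Q)
    have hKp : IsPGroup p K := Solv.isPGroup_pCore p _
    have hKn : K.Normal := inferInstance
    have hQp : IsPGroup p Q := (hRS k |> S.2.to_le)
    let fix' : Subgroup (Matrix.SpecialLinearGroup (Fin n) F) :=
      { carrier := {x | ∃ hx : x ∈ R F n k, ∀ α : K, ((α : FS.autGroup Q) : MulAut Q) ⟨f x, x, hx, rfl⟩ = ⟨f x, x, hx, rfl⟩}
        one_mem' := ⟨one_mem _, fun α => by
          have : (⟨f 1, 1, one_mem _, rfl⟩ : Q) = 1 := Subtype.ext (map_one f)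
          rw [this, map_one]⟩
        mul_mem' := by
          rintro x y ⟨hx, h1⟩ ⟨hy, h2⟩
          refine ⟨mul_mem hx hy, fun α => ?_⟩
          have : (⟨f (x * y), x * y, mul_mem hx hy, rfl⟩ : Q) = ⟨f x, x, hx, rfl⟩ * ⟨f y, y, hy, rfl⟩ :=
            Subtype.ext (map_mul f x y)
          rw [this, map_mul, h1, h2]
        inv_mem' := by
          rintro x ⟨hx, h1⟩
          refine ⟨inv_mem hx, fun α => ?_⟩
          have : (⟨f x⁻¹, x⁻¹, inv_mem hx, rfl⟩ : Q) = (⟨f x, x, hx, rfl⟩)⁻¹ := Subtype.ext (map_inv f x)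
          rw [this, map_inv, h1] }
    have hfull : R F n k ≤ fix' := by
      refine irreducible hn hk hkn fix' (fun x hx => hx.1) ?_ fun a b hab' hiff c x ⟨hx, hxf⟩ => ?_
      · letI : MulAction K Q :=
          { smul := fun α q => ((α : FS.autGroup Q) : MulAut Q) q
            one_smul := fun _ => rfl
            mul_smul := fun _ _ _ => rfl }
        have hpQ : p ∣ Nat.card Q := by
          obtain ⟨e, he⟩ := IsPGroup.iff_card.1 hQp
          have hnt : Nontrivial Q := by
            have h1 : t (⟨0, by omega⟩ : Fin n) ⟨k, hkn⟩ (fun e => by simp [Fin.ext_iff] at e; omega) (1 : F) ∈ R F n k :=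
              t_mem_R (i := ⟨0, _⟩) (j := ⟨k, hkn⟩) hk le_rfl 1 _
            refine ⟨⟨_, _, h1, rfl⟩, 1, fun e => ?_⟩
            have := hinjR h1 (one_mem _) ((congrArg Subtype.val e).trans (map_one f).symm)
            exact t_one_ne _ _ _ this
          rw [he]
          exact dvd_pow_self p fun e0 => by rw [e0, pow_zero] at he; exact (Finite.one_lt_card (α := Q)).ne' he
        obtain ⟨b, hb, hb1⟩ := hKp.exists_fixed_point_of_prime_dvd_card_of_fixed_point Q hpQ
          (a := 1) (fun α => map_one ((α : FS.autGroup Q) : MulAut Q))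
        obtain ⟨_, x, hx, rfl⟩ := b
        refine ⟨x, ⟨hx, fun α => hb α⟩, fun e => hb1 (Subtype.ext ?_)⟩
        subst e; exact (map_one f).symm
      · set g := t a b hab' c with hg
        have hk' : (a : ℕ) < k ∨ k ≤ (b : ℕ) := by
          by_cases ha : (a : ℕ) < k
          · exact Or.inl ha
          · exact Or.inr (by by_contra hb; exact ha (hiff.2 (by omega)))
        refine ⟨conj_R_t hab' hk' c hx, fun α => ?_⟩
        have hgn := hnorm fun r hr => conj_R_t hab' hk' c hr
        obtain ⟨γ, hγ, hγx⟩ : ∃ γ ∈ FS.autGroup Q, ∀ q : Q, ((γ q : Q) : G) = f g * q * (f g)⁻¹ := by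
          refine ⟨Q.normalizerMonoidHom ⟨f g, hgn⟩, ?_, fun q => rfl⟩
          rw [Fusion.autGroup_groupFusionSystem (hRS k)]
          exact Fusion.mem_autInducedBy.2 ⟨f g, trivial, hgn, fun _ => rfl⟩
        have h1 := hxf ⟨_, hKn.conj_mem α.1 α.2 (⟨γ, hγ⟩ : FS.autGroup Q)⁻¹⟩
        have hγq : γ ⟨f x, x, hx, rfl⟩ = ⟨f (g * x * g⁻¹), _, conj_R_t hab' hk' c hx, rfl⟩ :=
          Subtype.ext (by rw [hγx]; simp)
        simp only [Subgroup.coe_mul, Subgroup.coe_inv, inv_inv, MulAut.mul_apply] at h1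
        rw [hγq] at h1
        have h2 := congrArg γ h1
        rw [MulAut.apply_inv_self, hγq] at h2
        exact h2
    rw [eq_bot_iff]
    intro α hα
    refine Subgroup.mem_bot.2 (Subtype.ext (MulEquiv.ext ?_))
    rintro ⟨_, x, hx, rfl⟩
    exact (hfull hx).2 ⟨α, hα⟩
  have hS1 : (S : Subgroup G) ≠ ⊥ := fun h => by
    have h1 : t (⟨0, by omega⟩ : Fin n) ⟨1, by omega⟩ (by simp [Fin.ext_iff]) (1 : F) ∈ R F n 1 := t_mem_R (i := ⟨0, _⟩) (j := ⟨1, _⟩) zero_lt_one le_rfl 1 _
    have := hinjR h1 (one_mem _) ((Subgroup.mem_bot.1 (h ▸ hRS 1 ⟨_, h1, rfl⟩)).trans (map_one f).symm)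
    exact t_one_ne _ _ _ this
  refine Fusion.isSimple_group S hS1 (fun T hT => ?_) ?_
  · rcases eq_or_ne T ⊥ with hT0 | hT0
    · exact Or.inl hT0
    refine Or.inr (le_antisymm hT.1 ?_)
    have hconj : ∀ g, ∀ x ∈ T, g * x * g⁻¹ ∈ (S : Subgroup G) → g * x * g⁻¹ ∈ T := fun g x hx hy => by
      have hm : Fusion.IsMor FS (Subgroup.zpowers x) (fun z => g * z * g⁻¹) :=
        Fusion.isMor_groupFusionSystem.2 ⟨Subgroup.zpowers_le.2 (hT.1 hx), fun z hz => by
          obtain ⟨m, rfl⟩ := Subgroup.mem_zpowers_iff.1 hz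
          rw [← conj_zpow]
          exact zpow_mem hy m, g, fun _ _ => rfl⟩
      obtain ⟨φ, hφ, he⟩ := hm
      have h1 := hT.2 _ (Subgroup.zpowers_le.2 hx) φ hφ ⟨x, Subgroup.mem_zpowers x⟩
      rwa [he] at h1
    have hfill : ∀ k, 1 ≤ k → k < n → (∃ x ∈ R F n k, x ≠ 1 ∧ f x ∈ T) → (R F n k).map f ≤ T := fun k hk hkn ⟨x, hx, hx1, hxT⟩ => by
      have : R F n k ≤ R F n k ⊓ T.comap f := irreducible hn hk hkn _ inf_le_left ⟨x, ⟨hx, hxT⟩, hx1⟩
        fun a b hab' hiff c y ⟨hy, hyT⟩ => by
          have hk' : (a : ℕ) < k ∨ k ≤ (b : ℕ) := by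
            by_cases ha : (a : ℕ) < k
            · exact Or.inl ha
            · exact Or.inr (by by_contra hb; exact ha (hiff.2 (by omega)))
          have h1 := conj_R_t hab' hk' c hy
          refine ⟨h1, ?_⟩
          show f _ ∈ T
          rw [map_mul, map_mul, map_inv]
          exact hconj _ _ hyT (by rw [← map_inv, ← map_mul, ← map_mul]; exact hRS k ⟨_, h1, rfl⟩)
      rintro _ ⟨y, hy, rfl⟩
      exact (this hy).2
    have h1 : (R F n 1).map f ≤ T := by
      refine hfill 1 le_rfl (by omega) ?_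
      by_contra! hno
      obtain ⟨x, hxT, hx1⟩ := (Subgroup.bot_or_exists_ne_one T).resolve_left hT0
      have hcen : ∀ r ∈ R F n 1, x * f r * x⁻¹ = f r := fun r hr => by
        obtain ⟨s, hs, hse⟩ : x * f r * x⁻¹ ∈ (R F n 1).map f :=
          (Subgroup.mem_normalizer_iff.1 (hSnorm 1 (hT.1 hxT)) _).1 ⟨r, hr, rfl⟩
        have hT' : f (s * r⁻¹) ∈ T := by
          rw [map_mul, map_inv, hse, show x * f r * x⁻¹ * (f r)⁻¹ = x * (f r * x⁻¹ * (f r)⁻¹) by group]
          exact mul_mem hxT (hconj _ _ (inv_mem hxT)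
            (mul_mem (mul_mem (hRS 1 ⟨r, hr, rfl⟩) (inv_mem (hT.1 hxT))) (inv_mem (hRS 1 ⟨r, hr, rfl⟩))))
        by_cases hd : s * r⁻¹ = 1
        · rw [← hse, mul_inv_eq_one.1 hd]
        · exact absurd hT' (hno _ (mul_mem hs (inv_mem hr)) hd)
      obtain ⟨r, hr, rfl⟩ := centralizer_R (p := p) f hf hker le_rfl (by omega) x hcen
      exact hno r hr (fun e => hx1 (by rw [e, map_one])) hxT
    have hall : ∀ k, 1 ≤ k → k < n → (R F n k).map f ≤ T := fun k hk hkn => by
      have hne : (⟨0, by omega⟩ : Fin n) ≠ ⟨k, hkn⟩ := fun e => by simp [Fin.ext_iff] at e; omega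
      refine hfill k hk hkn ⟨t _ _ hne 1, t_mem_R hk le_rfl 1 hne, fun e => ?_,
        h1 ⟨_, t_mem_R zero_lt_one hk 1 hne, rfl⟩⟩
      exact one_ne_zero ((Matrix.SpecialLinearGroup.transvection_mem_center_iff hne (1 : F)).1 (by rw [show Matrix.SpecialLinearGroup.transvection hne (1 : F) = 1 from e]; exact one_mem _))
    rw [hS, Subgroup.map_le_iff_le_comap]
    exact U_le _ fun k hk hkn => Subgroup.map_le_iff_le_comap.1 (hall k hk hkn)
  · intro α hα
    obtain ⟨g, -, hgn, hgx⟩ := Fusion.mem_autInducedBy.1 hα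
    set K := ⨆ (Q : Subgroup G) (_ : FS.IsFullyNormalized Q ∧ FS.IsRadical p Q ∧ FS.IsCentric Q),
      autInducedBy (Subgroup.closure {g : G | g ∈ Subgroup.normalizer (Q : Set G) ∧ ∃ k : ℕ, orderOf g = p ^ k}) (S : Subgroup G)
    obtain ⟨h, rfl⟩ := hf g
    let W : Subgroup (Matrix.SpecialLinearGroup (Fin n) F) :=
      ((K.comap (S : Subgroup G).normalizerMonoidHom).map (Subgroup.normalizer ((S : Subgroup G) : Set G)).subtype).comap f
    let C : ℕ → Subgroup G := fun k =>
      Subgroup.closure {g : G | g ∈ Subgroup.normalizer (((R F n k).map f : Subgroup G) : Set G) ∧ ∃ m : ℕ, orderOf g = p ^ m}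
    have hin : ∀ k, 1 ≤ k → k < n → ∀ x : SLn, f x ∈ Subgroup.normalizer ((S : Subgroup G) : Set G) → f x ∈ C k → x ∈ W := by
      intro k hk hkn x hxn hxC
      refine ⟨⟨f x, hxn⟩, ?_, rfl⟩
      refine Subgroup.mem_iSup_of_mem ((R F n k).map f) (Subgroup.mem_iSup_of_mem ⟨hfn k, hrad k hk hkn, hcentric k hk hkn⟩ ?_)
      exact Fusion.mem_autInducedBy.2 ⟨f x, hxC, hxn, fun _ => rfl⟩
    have hpow : ∀ x : SLn, x ^ p = 1 → ∃ m : ℕ, orderOf (f x) = p ^ m := fun x hx => by
      obtain ⟨m, -, hm⟩ := (Nat.dvd_prime_pow Fact.out).1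
        (orderOf_dvd_of_pow_eq_one (show f x ^ p ^ 1 = 1 by rw [pow_one, ← map_pow, hx, map_one]))
      exact ⟨m, hm⟩
    have htp : ∀ (a b : Fin n) (hab' : a ≠ b) (c : F), t a b hab' c ^ p = 1 := fun a b hab' c => by
      have : ∀ m : ℕ, t a b hab' c ^ m = t a b hab' ((m : F) * c) := fun m => by
        induction m with
        | zero => simp [t]
        | succ m ih => rw [pow_succ, ih, ← Matrix.SpecialLinearGroup.transvection_add]; congr 1; push_cast; ring
      rw [this, CharP.cast_eq_zero, zero_mul]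
      simp [t]
    have htC : ∀ k (a b : Fin n) (hab' : a ≠ b) (c : F), ((a : ℕ) < k ∨ k ≤ (b : ℕ)) → f (t a b hab' c) ∈ C k :=
      fun k a b hab' c hk' => Subgroup.subset_closure ⟨hnorm fun r hr => conj_R_t hab' hk' c hr, hpow _ (htp a b hab' c)⟩
    have hdiag2 : ∀ k (a b : Fin n) (hab' : a ≠ b) (c : F) (hc : c ≠ 0), ((a : ℕ) < k ↔ (b : ℕ) < k) →
        f (Matrix.SpecialLinearGroup.diag2n hab' c hc) ∈ C k := by
      intro k a b hab' c hc hiff
      have h1 : (a : ℕ) < k ∨ k ≤ (b : ℕ) := by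
        by_cases ha : (a : ℕ) < k
        · exact Or.inl ha
        · exact Or.inr (by by_contra hb; exact ha (hiff.2 (by omega)))
      have h2 : (b : ℕ) < k ∨ k ≤ (a : ℕ) := by
        by_cases hb : (b : ℕ) < k
        · exact Or.inl hb
        · exact Or.inr (by by_contra ha; exact hb (hiff.1 (by omega)))
      rw [Classical.diag2n_decompose]
      simp only [map_mul]
      exact mul_mem (mul_mem (mul_mem (mul_mem (mul_mem (htC k a b hab' _ h1) (htC k b a hab'.symm _ h2))
        (htC k a b hab' _ h1)) (htC k a b hab' _ h1)) (htC k b a hab'.symm _ h2)) (htC k a b hab' _ h1)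
    have hdS : ∀ d : SLn, (∀ i j : Fin n, i ≠ j → d.1 i j = 0) → f d ∈ Subgroup.normalizer ((S : Subgroup G) : Set G) := by
      intro d hd
      refine Subgroup.mem_normalizer_fintype ?_
      rw [hS]
      rintro _ ⟨u, hu, rfl⟩
      refine ⟨d * u * d⁻¹, fun i j hij => ?_, by simp⟩
      have e : (d * u * d⁻¹).1 * d.1 = d.1 * u.1 := by
        rw [← Matrix.SpecialLinearGroup.coe_mul, inv_mul_cancel_right, Matrix.SpecialLinearGroup.coe_mul]
      have hdd : d.1 = Matrix.diagonal (fun i => d.1 i i) := Matrix.ext fun a b => by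
        by_cases h : a = b
        · subst h; rw [Matrix.diagonal_apply_eq]
        · rw [Matrix.diagonal_apply_ne _ h, hd a b h]
      have hne : d.1 j j ≠ 0 := upper_diag_ne_zero (fun a b hab => hd a b (fun e => by subst e; omega)) j
      rw [hdd] at e
      have e' := congrFun (congrFun e i) j
      rw [Matrix.mul_diagonal, Matrix.diagonal_mul, hu i j hij] at e'
      refine mul_right_cancel₀ hne (e'.trans ?_)
      by_cases h : i = j
      · subst h; rw [one_apply_eq, mul_one, one_mul]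
      · rw [one_apply_ne h, mul_zero, zero_mul]
    -- the diagonal elements
    have hd2W : ∀ (a b : Fin n) (hab' : a ≠ b) (c : F) (hc : c ≠ 0), (∃ k, 1 ≤ k ∧ k < n ∧ ((a : ℕ) < k ↔ (b : ℕ) < k)) →
        Matrix.SpecialLinearGroup.diag2n hab' c hc ∈ W := fun a b hab' c hc ⟨k, hk, hkn, hiff⟩ =>
      hin k hk hkn _ (hdS _ fun i j hij => by rw [Matrix.SpecialLinearGroup.diag2n_coe, Matrix.diagonal_apply_ne _ hij]) (hdiag2 k a b hab' c hc hiff)
    set l : Fin n := ⟨n - 1, by omega⟩
    have hlastW : ∀ (a : Fin n) (hal : a ≠ l) (c : F) (hc : c ≠ 0), Matrix.SpecialLinearGroup.diag2n hal c hc ∈ W := by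
      intro a hal c hc
      have hlv : (l : ℕ) = n - 1 := rfl
      by_cases ha : (a : ℕ) = 0
      · let m : Fin n := ⟨1, by omega⟩
        have ham : a ≠ m := fun e => by rw [e] at ha; simp [m] at ha
        have hml : m ≠ l := fun e => by simp [m, l, Fin.ext_iff] at e; omega
        have e : Matrix.SpecialLinearGroup.diag2n hal c hc =
            Matrix.SpecialLinearGroup.diag2n ham c hc * Matrix.SpecialLinearGroup.diag2n hml c hc := by
          refine Subtype.ext ?_
          rw [Matrix.SpecialLinearGroup.coe_mul, Matrix.SpecialLinearGroup.diag2n_coe, Matrix.SpecialLinearGroup.diag2n_coe,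
            Matrix.SpecialLinearGroup.diag2n_coe, Matrix.diagonal_mul_diagonal]
          congr 1
          funext i
          by_cases hia : i = a
          · subst hia; simp [ham, hal]
          · by_cases him : i = m
            · subst him; simp [ham.symm, hml, hc]
            · simp [hia, him]
        rw [e]
        exact mul_mem (hd2W a m ham c hc ⟨2, by omega, by omega, iff_of_true (by omega) (by show 1 < 2; omega)⟩)
          (hd2W m l hml c hc ⟨1, le_rfl, by omega, iff_of_false (by show ¬ 1 < 1; omega) (by omega)⟩)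
      · exact hd2W a l hal c hc ⟨1, le_rfl, by omega, iff_of_false (by omega) (by omega)⟩
    have hdW : ∀ (s : Finset (Fin n)) (d : SLn), l ∉ s → (∀ i j : Fin n, i ≠ j → d.1 i j = 0) →
        (∀ i, i ∉ s → i ≠ l → d.1 i i = 1) → d ∈ W := by
      intro s
      induction s using Finset.induction with
      | empty =>
        intro d _ hd h1
        have h0 : d.1 l l = 1 := by
          have := det_upper (h := d) (fun i j hij => hd i j (fun e => by subst e; omega))
          rwa [Finset.prod_eq_single l (fun i _ hi => h1 i (Finset.notMem_empty i) hi) (by simp)] at this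
        rw [show d = 1 from Subtype.ext (Matrix.ext fun i j => ?_)]
        · exact one_mem W
        by_cases hij : i = j
        · subst hij
          rw [Matrix.SpecialLinearGroup.coe_one, one_apply_eq]
          by_cases hi : i = l
          · rw [hi]; exact h0
          · exact h1 i (Finset.notMem_empty i) hi
        · rw [Matrix.SpecialLinearGroup.coe_one, one_apply_ne hij, hd i j hij]
      | @insert a s has ih =>
        intro d hl hd h1
        have hal : a ≠ l := fun e => hl (by rw [← e]; exact Finset.mem_insert_self a s)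
        have hc : (d.1 a a)⁻¹ ≠ 0 := inv_ne_zero
          (upper_diag_ne_zero (fun i j hij => hd i j (fun e => by subst e; omega)) a)
        set e := Matrix.SpecialLinearGroup.diag2n hal _ hc
        have hmem : e * d ∈ W := by
          refine ih (e * d) (fun h => hl (Finset.mem_insert_of_mem h)) (fun i j hij => ?_) (fun i hi hil => ?_)
          · rw [Matrix.SpecialLinearGroup.coe_mul, Matrix.SpecialLinearGroup.diag2n_coe, Matrix.diagonal_mul, hd i j hij, mul_zero]
          · rw [Matrix.SpecialLinearGroup.coe_mul, Matrix.SpecialLinearGroup.diag2n_coe, Matrix.diagonal_mul]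
            by_cases hia : i = a
            · subst hia
              rw [if_pos rfl, inv_mul_cancel₀ (fun h0 => hc (by rw [h0, _root_.inv_zero]))]
            · rw [if_neg hia, if_neg hil, one_mul, h1 i (by simp [hia, hi]) hil]
        have := mul_mem (inv_mem (hlastW a hal _ hc)) hmem
        rwa [inv_mul_cancel_left] at this
    have hup : IsUpper h := normalizer_upper (p := p) f hker fun u hu => by
      rw [← hS]
      exact (Subgroup.mem_normalizer_iff.1 hgn _).1 (hS ▸ ⟨u, hu, rfl⟩)
    let d : SLn := ⟨Matrix.diagonal (fun i => h.1 i i), by rw [Matrix.det_diagonal]; exact det_upper hup⟩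
    have hd' : ∀ i j : Fin n, i ≠ j → d.1 i j = 0 := fun i j hij => Matrix.diagonal_apply_ne _ hij
    have hu : d⁻¹ * h ∈ U F n := fun i j hij => by
      have e : (d * (d⁻¹ * h)).1 = h.1 := by rw [mul_inv_cancel_left]
      rw [Matrix.SpecialLinearGroup.coe_mul, show d.1 = Matrix.diagonal (fun i => h.1 i i) from rfl] at e
      have e' := congrFun (congrFun e i) j
      rw [Matrix.diagonal_mul] at e'
      have hne : h.1 i i ≠ 0 := upper_diag_ne_zero hup i
      refine mul_left_cancel₀ hne (e'.trans ?_)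
      by_cases hd : i = j
      · subst hd; rw [one_apply_eq, mul_one]
      · rw [one_apply_ne hd, mul_zero]
        exact hup i j (by have := Fin.val_ne_of_ne hd; omega)
    have huW : d⁻¹ * h ∈ W := by
      refine hin 1 le_rfl (by omega) _ (Subgroup.le_normalizer (hS ▸ ⟨_, hu, rfl⟩)) (Subgroup.subset_closure ⟨hnorm fun r hr => conj_R_upper hu hr, ?_⟩)
      obtain ⟨m, -, hm⟩ := (Nat.dvd_prime_pow Fact.out).1
        (orderOf_dvd_of_pow_eq_one (show f (d⁻¹ * h) ^ p ^ n = 1 by rw [← map_pow, exists_pow_eq_one hu, map_one]))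
      exact ⟨m, hm⟩
    obtain ⟨⟨g', hg'n⟩, hg'K, he⟩ : h ∈ W := by
      have := mul_mem (hdW (Finset.univ.erase l) d (by simp) hd' (fun i hi hil => absurd (Finset.mem_erase.2 ⟨hil, Finset.mem_univ i⟩) hi)) huW
      rwa [mul_inv_cancel_left] at this
    obtain rfl : g' = f h := he
    have : α = (S : Subgroup G).normalizerMonoidHom ⟨f h, hg'n⟩ := MulEquiv.ext fun x => Subtype.ext (hgx x)
    rw [this]
    exact hg'K

end Hom

end Cfsg.Agent.Classical.PSLFusion

namespace Cfsg.Agent.Classical.PSLFusion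

open Cfsg

theorem psl_fusion_simple {F : Type*} [Field F] [Fintype F] (p : ℕ) [Fact p.Prime] [CharP F p] (n : ℕ) (hn : 3 ≤ n)
    (S : Sylow p (ProjectiveSpecialLinearGroup (Fin n) F)) :
    (groupFusionSystem (S : Subgroup (ProjectiveSpecialLinearGroup (Fin n) F))).IsSimple p := by
  haveI : Nonempty (Fin n) := ⟨⟨0, by omega⟩⟩
  let π : Matrix.SpecialLinearGroup (Fin n) F →* ProjectiveSpecialLinearGroup (Fin n) F :=
    QuotientGroup.mk' (Subgroup.center (Matrix.SpecialLinearGroup (Fin n) F))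
  have hπ : Function.Surjective π := QuotientGroup.mk'_surjective _
  have hπk : π.ker = Subgroup.center (Matrix.SpecialLinearGroup (Fin n) F) := QuotientGroup.ker_mk' _
  haveI : Finite (ProjectiveSpecialLinearGroup (Fin n) F) := Finite.of_surjective π hπ
  obtain ⟨P, hP⟩ := exists_sylow (p := p) π hπ hπk
  obtain ⟨g, hg⟩ := MulAction.exists_smul_eq (ProjectiveSpecialLinearGroup (Fin n) F) P S
  refine fusion_simple ((MulAut.conj g).toMonoidHom.comp π) ((MulAut.conj g).surjective.comp hπ) ?_ hn S ?_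
  · ext x
    simp only [MonoidHom.mem_ker, MonoidHom.comp_apply, MulEquiv.coe_toMonoidHom, MulEquiv.map_eq_one_iff]
    rw [← MonoidHom.mem_ker, hπk]
  · rw [← hg, ← Subgroup.map_map, ← hP]
    exact Sylow.coe_subgroup_smul

end Cfsg.Agent.Classical.PSLFusion
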