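import Cfsg.Agent.Lib.GL2.SLClasses
import Cfsg.Agent.Lib.Classical.SL2Two
import Cfsg.Agent.Lib.Classical.DicksonPSL
import Mathlib.FieldTheory.IsAlgClosed.AlgebraicClosure
import Mathlib.FieldTheory.Finite.Basic
import Mathlib.FieldTheory.Minpoly.Field

/-!
Products of conjugacy classes in `PSL₂(F)`.
-/

set_option autoImplicit false
set_option linter.unusedSectionVars false

open scoped MatrixGroups
open Matrix Polynomial

noncomputable section

namespace Cfsg.Agent.Classical.PSLTwoCovering

open Cfsg.Agent.GL2 (cS cS_coe cS_trace Nonscalar nonscalar_iff isConj_of_trace trace_isConjS exists_gl_conj toGL_coe)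

variable {F : Type*} [Field F] [Fintype F]

local notation "G2" => Matrix.ProjectiveSpecialLinearGroup (Fin 2) F
local notation "S2" => Matrix.SpecialLinearGroup (Fin 2) F
local notation "M2" => Matrix (Fin 2) (Fin 2) F

open SL2Two (proj negOne)

theorem proj_negOne : proj (negOne : S2) = 1 := (SL2Two.proj_eq_one_iff _).2 (Or.inr rfl)

theorem trace_negOne_mul (A : S2) : ((negOne * A : S2) : M2).trace = -(A : M2).trace := by
  rw [SL2.coe_mul', SL2Two.coe_negOne, neg_one_mul, Matrix.trace_neg]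

theorem nonscalar_of_trace {A : S2} (h : (A : M2).trace * (A : M2).trace ≠ 4) : Nonscalar (A : M2) := by
  rintro ⟨a, ha⟩
  apply h
  have hd := A.2
  rw [ha, Matrix.det_smul, Matrix.det_one, mul_one, Fintype.card_fin] at hd
  rw [ha]
  simp [Matrix.trace_fin_two]
  linear_combination 4 * hd

theorem nonscalar_of_proj {A : S2} (h : proj A ≠ 1) : Nonscalar (A : M2) := by
  rintro ⟨a, ha⟩
  apply h
  have hd := A.2
  rw [ha, Matrix.det_smul, Matrix.det_one, mul_one, Fintype.card_fin, sq_eq_one_iff] at hd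
  rcases hd with rfl | rfl
  · exact (SL2Two.proj_eq_one_iff _).2 (Or.inl (Subtype.ext (by rw [ha, one_smul]; rfl)))
  · exact (SL2Two.proj_eq_one_iff _).2 (Or.inr (Subtype.ext (by rw [ha, SL2Two.coe_negOne, neg_smul, one_smul])))

theorem isConj_proj_of_trace {A X : S2} (hX : (X : M2).trace * (X : M2).trace ≠ 4)
    (h : (A : M2).trace = (X : M2).trace ∨ (A : M2).trace = -(X : M2).trace) :
    IsConj (proj X) (proj A) := by
  rcases h with h | h
  · exact proj.map_isConj (isConj_of_trace (nonscalar_of_trace hX) (nonscalar_of_trace (h ▸ hX)) h.symm hX)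
  · have e := proj.map_isConj (isConj_of_trace (g := negOne * X) (h := A)
      (nonscalar_of_trace (by rw [trace_negOne_mul, neg_mul_neg]; exact hX))
      (nonscalar_of_trace (by rw [h, neg_mul_neg]; exact hX))
      (by rw [trace_negOne_mul, h]) (by rw [trace_negOne_mul, neg_mul_neg]; exact hX))
    rwa [map_mul, proj_negOne, one_mul] at e

/-- Two factors with prescribed traces, given a point on a conic. -/
theorem exists_factors {g : S2} (hg : Nonscalar (g : M2)) (s s' a b : F)
    (h : a * a - (g : M2).trace * a * b + b * b - s * a + s' * b + 1 = 0) :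
    ∃ A A' : S2, (A : M2).trace = s ∧ (A' : M2).trace = s' ∧ A * A' = g := by
  set u := (g : M2).trace with hu
  let A₀ : S2 := ⟨!![a, b; s' + b - a * u, s - a], by rw [Matrix.det_fin_two_of]; linear_combination -h⟩
  have h0 : ((A₀⁻¹ * cS u : S2) : M2).trace = s' := by
    rw [SL2.coe_mul', Matrix.SpecialLinearGroup.coe_inv, cS_coe]
    simp [A₀, Matrix.adjugate_fin_two_of, Matrix.trace_fin_two, Matrix.mul_apply, Fin.sum_univ_two]
  obtain ⟨γ, hγ⟩ := exists_gl_conj (g := cS u) (h := g)
    (nonscalar_iff.2 (by simp [cS_coe])) hg (cS_trace u)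
  let c : S2 → S2 := fun B => ⟨(γ : M2) * (B : M2) * ((γ⁻¹ : GL (Fin 2) F) : M2), by
    rw [Matrix.det_mul, Matrix.det_mul, B.2, mul_one, ← Matrix.det_mul, ← Units.val_mul, mul_inv_cancel,
      Units.val_one, Matrix.det_one]⟩
  have hc : ∀ B : S2, SpecialLinearGroup.toGL (c B) = γ * SpecialLinearGroup.toGL B * γ⁻¹ := fun B =>
    Units.ext rfl
  have htr : ∀ B : S2, (c B : M2).trace = (B : M2).trace := fun B => by
    show ((γ : M2) * (B : M2) * ((γ⁻¹ : GL (Fin 2) F) : M2)).trace = _
    rw [Matrix.trace_units_conj]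
  refine ⟨c A₀, c (A₀⁻¹ * cS u), ?_, by rw [htr, h0], SpecialLinearGroup.toGL_injective ?_⟩
  · rw [htr]; simp [A₀, Matrix.trace_fin_two]
  · rw [map_mul, hc, hc, ← hγ, map_mul, map_inv]
    group

theorem cover_of_factors {x g : G2} {X A A' : S2} (hx : proj X = x)
    (hX : (X : M2).trace * (X : M2).trace ≠ 4)
    (hA : (A : M2).trace = (X : M2).trace ∨ (A : M2).trace = -(X : M2).trace)
    (hA' : (A' : M2).trace = (X : M2).trace ∨ (A' : M2).trace = -(X : M2).trace)
    (h : proj (A * A') = g) : ∃ u v : G2, g = (u * x * u⁻¹) * (v * x * v⁻¹) := by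
  subst hx
  obtain ⟨u, hu⟩ := isConj_iff.1 (isConj_proj_of_trace hX hA)
  obtain ⟨v, hv⟩ := isConj_iff.1 (isConj_proj_of_trace hX hA')
  exact ⟨u, v, by rw [← h, map_mul, hu, hv]⟩

/-- A trace `±2` element has order dividing the characteristic in the projective group. -/
theorem proj_pow_char {X : S2} (p : ℕ) [Fact p.Prime] [CharP F p] (hX : (X : M2).trace * (X : M2).trace = 4) :
    proj X ^ p = 1 := by
  have hsq : (X : M2) * (X : M2) = (X : M2).trace • (X : M2) - 1 := by
    have := SL2.sq_eq (X : M2)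
    rwa [X.2, one_smul] at this
  obtain ⟨e, he, he'⟩ : ∃ e : F, e * e = 1 ∧ (X : M2).trace = 2 * e := by
    rcases GL2.two_cases (F := F) with ⟨-, h2⟩ | ⟨-, h2⟩
    · refine ⟨1, one_mul 1, ?_⟩
      have h4 : (4 : F) = 0 := by linear_combination 2 * h2
      rw [h4, mul_self_eq_zero] at hX
      rw [hX, h2, zero_mul]
    · refine ⟨(X : M2).trace / 2, ?_, by field_simp⟩
      field_simp
      linear_combination hX
  have hN : ((X : M2) - e • 1) * ((X : M2) - e • 1) = 0 := by
    have hx : ((X : M2) - e • 1) * ((X : M2) - e • 1) =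
        (X : M2) * (X : M2) - (2 * e) • (X : M2) + (e * e) • (1 : M2) := by
      simp only [sub_mul, mul_sub, smul_mul_assoc, mul_smul_comm, one_mul, mul_one]
      module
    rw [hx, hsq, he, ← he']
    module
  have hz : ((X : M2) - e • 1) ^ p = 0 := by
    obtain ⟨j, hj⟩ := Nat.exists_eq_add_of_le (Fact.out : p.Prime).two_le
    rw [hj, pow_add, pow_two, hN, zero_mul]
  rw [sub_pow_char_of_commute p ((Commute.one_right _).smul_right e), sub_eq_zero, _root_.smul_pow, one_pow] at hz
  rw [← map_pow, SL2Two.proj_eq_one_iff]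
  have hep : e ^ p = 1 ∨ e ^ p = -1 := by
    rcases mul_self_eq_one_iff.1 he with rfl | rfl
    · exact Or.inl (one_pow p)
    · exact neg_one_pow_eq_or F p
  rcases hep with h | h
  · exact Or.inl (Subtype.ext (by rw [SL2.coe_pow', hz, h, one_smul]; rfl))
  · exact Or.inr (Subtype.ext (by rw [SL2.coe_pow', hz, h, neg_smul, one_smul, SL2Two.coe_negOne]))

theorem trace_facts {X : S2} (p : ℕ) [Fact p.Prime] [CharP F p] (h2 : 2 < orderOf (proj X))
    (hp : ¬ p ∣ orderOf (proj X)) :
    (X : M2).trace * (X : M2).trace ≠ 4 ∧ (X : M2).trace ≠ 0 := by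
  refine ⟨fun h => ?_, fun h => ?_⟩
  · rcases (Nat.dvd_prime Fact.out).1 (orderOf_dvd_of_pow_eq_one (proj_pow_char p h)) with h' | h'
    · omega
    · exact hp (by rw [h'])
  · have e : proj X ^ 2 = 1 := by
      rw [pow_two, ← map_mul, SL2Two.sq_of_trace_zero X h, proj_negOne]
    have := Nat.le_of_dvd two_pos (orderOf_dvd_of_pow_eq_one e)
    omega

theorem exists_conic_point (h2 : (2 : F) ≠ 0) (t u : F) (hu : u * u ≠ 4) :
    ∃ a b : F, a * a - u * a * b + b * b - t * a + t * b + 1 = 0 := by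
  have hc : ringChar F ≠ 2 := fun h => h2 (by
    have := ringChar.Nat.cast_ringChar (R := F); rw [h] at this; exact_mod_cast this)
  obtain ⟨w, b, hwb⟩ := FiniteField.exists_root_sum_quadratic
    (f := C 1 * X ^ 2 + C 0 * X + C 0)
    (g := C (4 - u * u) * X ^ 2 + C (4 * t - 2 * u * t) * X + C (4 - t * t))
    (degree_quadratic one_ne_zero) (degree_quadratic (sub_ne_zero.2 (Ne.symm hu)))
    (FiniteField.odd_card_of_char_ne_two hc)
  simp at hwb
  refine ⟨(w + u * b + t) / 2, b, ?_⟩
  field_simp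
  linear_combination hwb

theorem cover_odd (p : ℕ) [Fact p.Prime] [CharP F p] (hp : p ≠ 2) (x : G2) (hx2 : 2 < orderOf x)
    (hxp : ¬ p ∣ orderOf x) (g : G2) (hg : g ≠ 1) :
    ∃ u v : G2, g = (u * x * u⁻¹) * (v * x * v⁻¹) := by
  have h2 : (2 : F) ≠ 0 := by
    intro h
    have h' := (CharP.cast_eq_zero_iff F p 2).1 (by exact_mod_cast h)
    exact hp ((Nat.prime_dvd_prime_iff_eq Fact.out Nat.prime_two).1 h')
  obtain ⟨X, rfl⟩ := SL2Two.proj_surjective x
  obtain ⟨hX, ht0⟩ := trace_facts p hx2 hxp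
  set t := (X : M2).trace with ht
  obtain ⟨G, rfl⟩ := SL2Two.proj_surjective g
  by_cases hu : (G : M2).trace * (G : M2).trace = 4
  · obtain ⟨G', hG', e⟩ : ∃ G' : S2, (G' : M2).trace = 2 ∧ proj G' = proj G := by
      have hu' : (G : M2).trace * (G : M2).trace = 2 * 2 := by rw [hu]; norm_num
      rcases mul_self_eq_mul_self_iff.1 hu' with h | h
      · exact ⟨G, h, rfl⟩
      · exact ⟨negOne * G, by rw [trace_negOne_mul, h, neg_neg], by rw [map_mul, proj_negOne, one_mul]⟩
    obtain ⟨A, A', hA, hA', hAA⟩ := exists_factors (nonscalar_of_proj (e ▸ hg)) t (-t) (1 / (2 * t)) (1 / (2 * t))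
      (by rw [hG']; field_simp; ring)
    exact cover_of_factors rfl hX (Or.inl hA) (Or.inr hA') (by rw [hAA, e])
  · obtain ⟨a, b, hab⟩ := exists_conic_point h2 t _ hu
    obtain ⟨A, A', hA, hA', hAA⟩ := exists_factors (nonscalar_of_proj hg) t t a b hab
    exact cover_of_factors rfl hX (Or.inl hA) (Or.inl hA') (by rw [hAA])

/-- In characteristic two, an element with no eigenvalue in `F` is killed by `q + 1`. -/
theorem exists_root_or_pow [CharP F 2] (X₀ : S2) :
    (∃ l : F, l * l + (X₀ : M2).trace * l + 1 = 0) ∨ X₀ ^ (Fintype.card F + 1) = 1 := by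
  by_contra hcon
  push Not at hcon
  obtain ⟨hno, hpow⟩ := hcon
  set t := (X₀ : M2).trace with ht
  apply hpow
  set P : F[X] := X ^ 2 + C t * X + 1 with hP
  have hdeg : P.natDegree = 2 := by rw [hP]; compute_degree!
  have hmon : P.Monic := by rw [hP]; monicity!
  have hirr : Irreducible P := (Polynomial.irreducible_iff_roots_eq_zero_of_degree_le_three
    (by rw [hdeg]) (by rw [hdeg]; norm_num)).2 (Multiset.eq_zero_of_forall_notMem fun l hl => by
      rw [mem_roots hmon.ne_zero, IsRoot, hP] at hl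
      simp at hl
      exact hno l (by linear_combination hl))
  let K := AlgebraicClosure F
  obtain ⟨l, hl⟩ := IsAlgClosed.exists_aeval_eq_zero K P (by
    rw [degree_eq_natDegree hmon.ne_zero, hdeg]; decide)
  have hmin : P = minpoly F l := minpoly.eq_of_irreducible_of_monic hirr hl hmon
  have hlq : Polynomial.aeval (l ^ Fintype.card F) P = 0 := by
    rw [show l ^ Fintype.card F = FiniteField.frobeniusAlgHom F K l from rfl, Polynomial.aeval_algHom_apply, hl, map_zero]
  have h2 : (2 : K) = 0 := by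
    haveI : CharP K 2 := charP_of_injective_algebraMap (algebraMap F K).injective 2
    exact_mod_cast CharP.cast_eq_zero K 2
  rw [hP] at hl hlq
  simp at hl hlq
  have hne : l ^ Fintype.card F ≠ l := by
    intro e
    haveI : Fact (Nat.Prime 2) := ⟨Nat.prime_two⟩
    obtain ⟨a, ha⟩ : ∃ a : F, algebraMap F K a = l := Dickson.mem_range_of_pow_card e
    exact hno a ((algebraMap F K).injective (by
      rw [map_zero, map_add, map_add, map_mul, map_mul, map_one, ha]; linear_combination hl))
  have hsum : l ^ Fintype.card F = l + algebraMap F K t := by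
    have : (l ^ Fintype.card F - l) * (l ^ Fintype.card F + l + algebraMap F K t) = 0 := by
      linear_combination hlq - hl
    have h' := (mul_eq_zero.1 this).resolve_left (sub_ne_zero.2 hne)
    linear_combination h' - (l + algebraMap F K t) * h2
  have hone : Polynomial.aeval l (X ^ (Fintype.card F + 1) - 1 : F[X]) = 0 := by
    simp [pow_succ, hsum]
    linear_combination hl - h2
  obtain ⟨Q, hQ⟩ := minpoly.dvd F l hone
  rw [← hmin] at hQ
  have hX : Polynomial.aeval (X₀ : M2) P = 0 := by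
    have hsq := SL2.sq_eq (X₀ : M2)
    rw [X₀.2, one_smul] at hsq
    rw [hP]
    simp only [map_add, map_mul, map_pow, aeval_X, aeval_C, map_one, pow_two, hsq, ← Algebra.smul_def]
    have hneg : ∀ a : M2, a + a = 0 := fun a => by
      rw [← two_smul F a, show (2 : F) = 0 by exact_mod_cast CharP.cast_eq_zero F 2, zero_smul]
    rw [← ht, sub_eq_add_neg, neg_eq_of_add_eq_zero_right (hneg 1)]
    calc t • (X₀ : M2) + 1 + t • (X₀ : M2) + 1 = (t • (X₀ : M2) + t • (X₀ : M2)) + (1 + 1) := by abel
      _ = 0 := by rw [hneg, hneg, add_zero]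
  have h0 := congrArg (Polynomial.aeval (X₀ : M2)) hQ
  rw [map_mul, hX, zero_mul] at h0
  simp [sub_eq_zero] at h0
  exact Subtype.ext (by rw [SL2.coe_pow', h0]; rfl)

theorem cover_even [CharP F 2] (x : G2) (hx2 : 2 < orderOf x) (hxq : ¬ orderOf x ∣ Fintype.card F + 1)
    (g : G2) (hg : g ≠ 1) : ∃ u v : G2, g = (u * x * u⁻¹) * (v * x * v⁻¹) := by
  have h2 : (2 : F) = 0 := by exact_mod_cast CharP.cast_eq_zero F 2
  obtain ⟨X₀, rfl⟩ := SL2Two.proj_surjective x
  set t := (X₀ : M2).trace with ht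
  have hX : t * t ≠ 4 := by
    intro h
    haveI : Fact (Nat.Prime 2) := ⟨Nat.prime_two⟩
    have := Nat.le_of_dvd two_pos (orderOf_dvd_of_pow_eq_one (proj_pow_char 2 h))
    omega
  rcases exists_root_or_pow X₀ with ⟨l, hl⟩ | h
  · obtain ⟨G, rfl⟩ := SL2Two.proj_surjective g
    obtain ⟨A, A', hA, hA', hAA⟩ := exists_factors (nonscalar_of_proj hg) t t l 0
      (by linear_combination hl - t * l * h2)
    exact cover_of_factors rfl hX (Or.inl hA) (Or.inl hA') (by rw [hAA])
  · exact absurd (orderOf_dvd_of_pow_eq_one (by rw [← map_pow, h, map_one])) hxq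

/-- A lower transvection. -/
def loS : S2 := ⟨!![1, 0; 1, 1], by simp [Matrix.det_fin_two]⟩

theorem loS_coe : ((loS : S2) : M2) = !![1, 0; 1, 1] := rfl

theorem loS_inv : (((loS : S2)⁻¹ : S2) : M2) = !![1, 0; -1, 1] := by
  rw [Matrix.SpecialLinearGroup.coe_inv, loS_coe, Matrix.adjugate_fin_two_of]; simp

/-- A monomial matrix. -/
def wS : S2 := ⟨!![0, -1; 1, 0], by simp [Matrix.det_fin_two]⟩

theorem wS_coe : ((wS : S2) : M2) = !![0, -1; 1, 0] := rfl

theorem wS_inv : (((wS : S2)⁻¹ : S2) : M2) = !![0, 1; -1, 0] := by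
  rw [Matrix.SpecialLinearGroup.coe_inv, wS_coe, Matrix.adjugate_fin_two_of]; simp

/-- An upper transvection. -/
def upS (x : F) : S2 := ⟨!![1, x; 0, 1], by simp [Matrix.det_fin_two]⟩

theorem upS_coe (x : F) : ((upS x : S2) : M2) = !![1, x; 0, 1] := rfl

theorem upS_inv (x : F) : (((upS x : S2)⁻¹ : S2) : M2) = !![1, -x; 0, 1] := by
  rw [Matrix.SpecialLinearGroup.coe_inv, upS_coe, Matrix.adjugate_fin_two_of]; simp

/-- Products of two classes meet at least two classes. -/
theorem product_not_class (h4 : 4 ≤ Fintype.card F) (a b : G2) (ha : a ≠ 1) (hb : b ≠ 1) (c : G2) :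
    {g : G2 | ∃ u v : G2, g = (u * a * u⁻¹) * (v * b * v⁻¹)} ≠ {g | IsConj c g} := by
  classical
  intro hset
  obtain ⟨A₁, rfl⟩ := SL2Two.proj_surjective a
  obtain ⟨B₁, rfl⟩ := SL2Two.proj_surjective b
  obtain ⟨C₁, rfl⟩ := SL2Two.proj_surjective c
  have key : ∀ A : S2, Nonscalar (A : M2) → ∃ k : S2, ((k * A * k⁻¹ : S2) : M2) 1 0 ≠ 0 := by
    intro A hA
    by_cases h10 : (A : M2) 1 0 = 0
    · by_cases h01 : (A : M2) 0 1 = 0
      · refine ⟨loS, ?_⟩
        have hne : (A : M2) 0 0 ≠ (A : M2) 1 1 := by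
          intro e
          rcases nonscalar_iff.1 hA with h | h | h
          · exact h h01
          · exact h h10
          · exact h e
        rw [SL2.coe_mul', SL2.coe_mul', loS_inv, loS_coe]
        simp [Matrix.mul_apply, Fin.sum_univ_two, Matrix.vecMul, dotProduct, h10, h01]
        exact fun e => hne (by linear_combination e)
      · refine ⟨wS, ?_⟩
        rw [SL2.coe_mul', SL2.coe_mul', wS_inv, wS_coe]
        simp [Matrix.mul_apply, Fin.sum_univ_two, Matrix.vecMul, dotProduct, h01]
    · exact ⟨1, by simpa using h10⟩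
  obtain ⟨k, hk⟩ := key A₁ (nonscalar_of_proj ha)
  obtain ⟨k', hk'⟩ := key B₁ (nonscalar_of_proj hb)
  set A := k * A₁ * k⁻¹ with hA
  set B := k' * B₁ * k'⁻¹ with hB
  clear_value A B
  set u : F → S2 := upS with hu
  set T : F → F := fun x => ((A * (u x * B * (u x)⁻¹) : S2) : M2).trace with hT
  set P : F[X] := C (-((A : M2) 1 0 * (B : M2) 1 0)) * X ^ 2 +
    C ((B : M2) 1 0 * ((A : M2) 0 0 - (A : M2) 1 1) + (A : M2) 1 0 * ((B : M2) 1 1 - (B : M2) 0 0)) * X +
    C ((A : M2) 0 0 * (B : M2) 0 0 + (A : M2) 0 1 * (B : M2) 1 0 + (A : M2) 1 0 * (B : M2) 0 1 + (A : M2) 1 1 * (B : M2) 1 1)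
    with hP
  have hTP : ∀ x, T x = P.eval x := fun x => by
    simp only [hT, hu]
    rw [SL2.coe_mul', SL2.coe_mul', SL2.coe_mul', upS_inv, upS_coe]
    simp [hP, Matrix.trace_fin_two, Matrix.mul_apply, Fin.sum_univ_two, Matrix.vecMul, dotProduct]
    ring
  have hdeg : P.degree = 2 := degree_quadratic (neg_ne_zero.2 (mul_ne_zero hk hk'))
  have hval : ∀ x, T x = (C₁ : M2).trace ∨ T x = -(C₁ : M2).trace := fun x => by
    have hm : proj (A * (u x * B * (u x)⁻¹)) ∈ {g : G2 | IsConj (proj C₁) g} := by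
      rw [← hset]
      exact ⟨proj k, proj (u x * k'), by simp only [hA, hB, map_mul, map_inv, _root_.mul_inv_rev]; group⟩
    obtain ⟨w, hw⟩ := isConj_iff.1 hm
    obtain ⟨W, rfl⟩ := SL2Two.proj_surjective w
    rw [← map_inv, ← map_mul, ← map_mul, ← inv_mul_eq_one, ← map_inv, ← map_mul,
      SL2Two.proj_eq_one_iff, inv_mul_eq_one, inv_mul_eq_iff_eq_mul] at hw
    have htc : ((W * C₁ * W⁻¹ : S2) : M2).trace = (C₁ : M2).trace :=
      (trace_isConjS (isConj_iff.2 ⟨W, rfl⟩)).symm
    rcases hw with h | h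
    · exact Or.inl (by rw [hT]; dsimp only; rw [← h, htc])
    · refine Or.inr ?_
      have e : negOne * (W * C₁ * W⁻¹) = A * (u x * B * (u x)⁻¹) := by
        rw [h]
        apply Subtype.ext
        simp [SL2.coe_mul', SL2Two.coe_negOne]
      rw [hT]; dsimp only; rw [← e, trace_negOne_mul, htc]
  have hfib : ∀ v, (Finset.univ.filter fun x => T x = v).card ≤ 2 := fun v => by
    have hd : (P - C v).degree = 2 := by
      rw [degree_sub_eq_left_of_degree_lt]
      · exact hdeg
      · rw [hdeg]; exact lt_of_le_of_lt degree_C_le (by decide)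
    have hne : P - C v ≠ 0 := fun e => by rw [e, degree_zero] at hd; exact absurd hd (by decide)
    calc (Finset.univ.filter fun x => T x = v).card ≤ (P - C v).roots.toFinset.card :=
          Finset.card_le_card fun x hx => by
            rw [Finset.mem_filter, hTP] at hx
            rw [Multiset.mem_toFinset, mem_roots hne, IsRoot, eval_sub, eval_C, hx.2, sub_self]
      _ ≤ (P - C v).roots.card := Multiset.toFinset_card_le _
      _ ≤ 2 := by
          have := card_roots' (P - C v)
          rwa [natDegree_eq_of_degree_eq_some hd] at this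
  have hle : Fintype.card F ≤ 2 * (Finset.univ.image T).card := by
    rw [← Finset.card_univ, Finset.card_eq_sum_card_image T]
    refine le_trans (Finset.sum_le_card_nsmul _ _ 2 fun v _ => hfib v) ?_
    rw [smul_eq_mul, mul_comm]
  by_cases h2 : (2 : F) = 0
  · have h1 : (Finset.univ.image T).card ≤ 1 := Finset.card_le_one.2 fun v hv w hw => by
      obtain ⟨x, -, rfl⟩ := Finset.mem_image.1 hv
      obtain ⟨y, -, rfl⟩ := Finset.mem_image.1 hw
      rcases hval x with h | h <;> rcases hval y with h' | h' <;> rw [h, h'] <;>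
        first | linear_combination (C₁ : M2).trace * h2 | linear_combination -(C₁ : M2).trace * h2
    omega
  · have h1 : (Finset.univ.image T).card ≤ 2 := le_trans (Finset.card_le_card (t := {(C₁ : M2).trace, -(C₁ : M2).trace})
      fun v hv => by
        obtain ⟨x, -, rfl⟩ := Finset.mem_image.1 hv
        simpa using hval x) Finset.card_le_two
    have hc : ringChar F ≠ 2 := fun h => h2 (by
      have := ringChar.Nat.cast_ringChar (R := F); rw [h] at this; exact_mod_cast this)
    have := FiniteField.odd_card_of_char_ne_two hc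
    omega

end Cfsg.Agent.Classical.PSLTwoCovering
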