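import Cfsg.Agent.Lib.Classical.DicksonDihedral
import Cfsg.Agent.Lib.Classical.DicksonPSL
import Cfsg.Agent.Lib.Classical.IcosaClasses
import Cfsg.Agent.Lib.Fusion.DihedralFusion
import Cfsg.Agent.Lib.Fusion.Simple
import Cfsg.Agent.Lib.Fusion.EssentialControl

/-!
Dihedral Sylow 2-subgroups of PSL₂(q) for q ≡ ±1 mod 8 and the simplicity of the 2-fusion system.
-/

set_option autoImplicit false
set_option linter.unusedSectionVars false
set_option maxRecDepth 4000

open scoped MatrixGroups Pointwise Classical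
open Matrix OnePoint

noncomputable section

namespace Cfsg.Agent.Classical.PSLTwoSylow

open Cfsg Cfsg.Agent.Classical.Dickson

/-- The embedding of a dihedral group in a larger one. -/
theorem exists_dihedral_embedding (n m : ℕ) [NeZero n] (hm : 0 < m) :
    ∃ f : DihedralGroup n →* DihedralGroup (n * m), Function.Injective f := by
  have hz : (Int.castAddHom (ZMod (n * m))).comp (AddMonoidHom.mulLeft (m : ℤ)) (n : ℤ) = 0 := by
    simp only [AddMonoidHom.comp_apply, AddMonoidHom.coe_mulLeft, Int.coe_castAddHom]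
    rw [← Nat.cast_mul, Int.cast_natCast, ZMod.natCast_eq_zero_iff]
    exact dvd_of_eq (mul_comm n m)
  let φ : ZMod n →+ ZMod (n * m) := ZMod.lift n ⟨_, hz⟩
  have hφ : ∀ j : ℕ, φ (j : ZMod n) = ((m * j : ℕ) : ZMod (n * m)) := fun j => by
    have := ZMod.lift_coe n ⟨_, hz⟩ (j : ℤ)
    simp only [Int.cast_natCast, AddMonoidHom.comp_apply, AddMonoidHom.coe_mulLeft, Int.coe_castAddHom] at this
    rw [← Nat.cast_mul, Int.cast_natCast] at this
    exact this
  have hinj : Function.Injective φ := by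
    rw [injective_iff_map_eq_zero]
    intro a ha
    obtain ⟨j, rfl⟩ : ∃ j : ℕ, (j : ZMod n) = a := ⟨a.val, ZMod.natCast_zmod_val a⟩
    rw [hφ, ZMod.natCast_eq_zero_iff, mul_comm n m] at ha
    rw [ZMod.natCast_eq_zero_iff]
    exact Nat.dvd_of_mul_dvd_mul_left hm ha
  let f : DihedralGroup n → DihedralGroup (n * m) := fun x => match x with
    | DihedralGroup.r i => DihedralGroup.r (φ i)
    | DihedralGroup.sr i => DihedralGroup.sr (φ i)
  refine ⟨MonoidHom.mk' f ?_, ?_⟩
  · rintro (i | i) (j | j) <;> simp [f, map_add, map_sub]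
  · rintro (i | i) (j | j) h <;> simp [f] at h ⊢ <;> exact hinj h

variable {F : Type*} [Field F] [Fintype F]

local notation "KK" => AlgebraicClosure F

theorem exists_dihedral {k : ℕ} (hk3 : 3 ≤ k) (hq4 : 4 ≤ Fintype.card F)
    (hk : k = (Fintype.card F - 1) / Nat.gcd 2 (Fintype.card F - 1) ∨
      k = (Fintype.card F + 1) / Nat.gcd 2 (Fintype.card F - 1)) :
    ∃ D : Subgroup (PGL(2, AlgebraicClosure F)), D ≤ pslF F ∧ Nonempty (D ≃* DihedralGroup k) := by
  obtain ⟨p, hp⟩ := CharP.exists F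
  obtain ⟨s, hpp, hs⟩ := FiniteField.card F p
  haveI : Fact p.Prime := ⟨hpp⟩
  haveI : CharP KK p := charP_of_injective_algebraMap (algebraMap F KK).injective p
  have A := ambient_pslF (F := F)
  have hgcd := gcd_tori A
  obtain ⟨hpe, hpe'⟩ := coprime_char p A
  have hpk : ¬ p ∣ k := by rcases hk with h | h <;> rw [h] <;> assumption
  obtain ⟨g, hg, hgk⟩ : ∃ g ∈ pslF F, orderOf g = k := by
    rcases hk with h | h <;> rw [h]
    · exact exists_order_e A
    · exact exists_order_e' A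
  have hg1 : g ≠ 1 := fun h => by rw [h, orderOf_one] at hgk; omega
  obtain ⟨x, y, hxy, hx, hy, -⟩ : ∃ x y : OnePoint KK, x ≠ y ∧ g • x = x ∧ g • y = y ∧
      ∀ z, g • z = z → z = x ∨ z = y := by
    rcases fixed_cases hg1 with ⟨x, hx, -⟩ | ⟨x, y, hxy, -, -, h⟩
    · exfalso
      have hd : k ∣ p := hgk ▸ orderOf_dvd_of_pow_eq_one (pow_char_of_isTr hx)
      rcases (Nat.dvd_prime Fact.out).1 hd with h | h
      · omega
      · exact hpk (h ▸ dvd_rfl)
    · exact ⟨x, y, hxy, (h x).2 (Or.inl rfl), (h y).2 (Or.inr rfl), fun z hz => (h z).1 hz⟩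
  obtain ⟨k', hk', hgD, -, ⟨f⟩, -⟩ := A.torus hq4 hg hxy hg1 hx hy
  have hd : k ∣ k' := by
    have ho : orderOf (f ⟨g, hgD⟩) = k := by rw [MulEquiv.orderOf_eq, Subgroup.orderOf_mk, hgk]
    rw [← ho]
    exact dihedral_order_dvd _ (by omega)
  have hkk : k' = k := by
    by_contra hne
    have h2 : k ∣ 2 := by
      rcases hk with h | h <;> rcases hk' with h' | h'
      · exact absurd (h'.trans h.symm) hne
      · exact (Nat.dvd_gcd (dvd_of_eq h) (hd.trans (dvd_of_eq h'))).trans hgcd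
      · exact (Nat.dvd_gcd (hd.trans (dvd_of_eq h')) (dvd_of_eq h)).trans hgcd
      · exact absurd (h'.trans h.symm) hne
    have := Nat.le_of_dvd two_pos h2
    omega
  subst hkk
  exact ⟨_, inf_le_left, ⟨f⟩⟩

/-- The dihedral Sylow 2-subgroup as the data of the fusion library. -/
theorem exists_setup (hodd : Fintype.card F % 2 = 1) (h16 : 16 ∣ Fintype.card F ^ 2 - 1)
    [Finite (Matrix.ProjectiveSpecialLinearGroup (Fin 2) F)]
    (S : Sylow 2 (Matrix.ProjectiveSpecialLinearGroup (Fin 2) F)) :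
    ∃ (k : ℕ) (D : Fusion.DihedralModel.Setup (Matrix.ProjectiveSpecialLinearGroup (Fin 2) F) k), D.S = S := by
  haveI : Fact (Nat.Prime 2) := ⟨Nat.prime_two⟩
  set q := Fintype.card F with hq
  have hsq : q ^ 2 - 1 = (q - 1) * (q + 1) := by
    zify [show 1 ≤ q ^ 2 from Nat.one_le_pow _ _ (by omega), show 1 ≤ q by omega]; ring
  have hgcd2 : Nat.gcd 2 (q - 1) = 2 := Nat.gcd_eq_left (by omega)
  have h8 : q % 8 = 1 ∨ q % 8 = 7 := by
    by_contra hc
    push Not at hc
    rw [hsq] at h16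
    obtain ⟨a, ha⟩ : ∃ a, q = 8 * a + 3 ∨ q = 8 * a + 5 := ⟨q / 8, by omega⟩
    obtain ⟨b, hb⟩ := h16
    rcases ha with ha | ha
    · have e : (q - 1) * (q + 1) = 8 * ((4 * a + 1) * (2 * a + 1)) := by
        rw [ha, show 8 * a + 3 - 1 = 2 * (4 * a + 1) by omega]; ring
      have ho : ((4 * a + 1) * (2 * a + 1)) % 2 = 1 := by
        rw [Nat.mul_mod, show (4 * a + 1) % 2 = 1 by omega, show (2 * a + 1) % 2 = 1 by omega]
      omega
    · have e : (q - 1) * (q + 1) = 8 * ((2 * a + 1) * (4 * a + 3)) := by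
        rw [ha, show 8 * a + 5 - 1 = 4 * (2 * a + 1) by omega]; ring
      have ho : ((2 * a + 1) * (4 * a + 3)) % 2 = 1 := by
        rw [Nat.mul_mod, show (4 * a + 3) % 2 = 1 by omega, show (2 * a + 1) % 2 = 1 by omega]
      omega
  have hq4 : 4 ≤ q := by
    have := Fintype.one_lt_card (α := F)
    omega
  obtain ⟨k, o, hk, hk4, hk3, ho, hqk⟩ : ∃ k o : ℕ, (k = (q - 1) / Nat.gcd 2 (q - 1) ∨
      k = (q + 1) / Nat.gcd 2 (q - 1)) ∧ 4 ∣ k ∧ 3 ≤ k ∧ o % 2 = 1 ∧ q ^ 2 - 1 = 4 * (k * o) := by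
    rw [hgcd2, hsq]
    rcases h8 with h | h
    · refine ⟨(q - 1) / 2, (q + 1) / 2, Or.inl rfl, by omega, by omega, by omega, ?_⟩
      obtain ⟨a, ha⟩ : ∃ a, q = 8 * a + 1 := ⟨q / 8, by omega⟩
      rw [ha, show (8 * a + 1 - 1) / 2 = 4 * a by omega, show (8 * a + 1 + 1) / 2 = 4 * a + 1 by omega,
        show 8 * a + 1 - 1 = 8 * a by omega]
      ring
    · refine ⟨(q + 1) / 2, (q - 1) / 2, Or.inr rfl, by omega, by omega, by omega, ?_⟩
      obtain ⟨a, ha⟩ : ∃ a, q = 8 * a + 7 := ⟨q / 8, by omega⟩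
      rw [ha, show (8 * a + 7 + 1) / 2 = 4 * a + 4 by omega, show (8 * a + 7 - 1) / 2 = 4 * a + 3 by omega,
        show 8 * a + 7 - 1 = 8 * a + 6 by omega]
      ring
  obtain ⟨a, m, hm, hkm⟩ := Nat.exists_eq_two_pow_mul_odd (n := k) (by omega)
  have hm0 : 0 < m := hm.pos
  have ha2 : 2 ≤ a := by
    by_contra hc
    rw [hkm] at hk4
    have hodd' := Nat.odd_iff.mp hm
    interval_cases a <;> omega
  have hcard : Nat.card (Matrix.ProjectiveSpecialLinearGroup (Fin 2) F) = 2 ^ (a + 1) * (q * m * o) := by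
    have hc := SL2.card_PSL2_mul (F := F)
    rw [← hq, hgcd2, hqk, hkm] at hc
    refine Nat.eq_of_mul_eq_mul_left two_pos (hc.trans ?_)
    ring
  have hfac : (Nat.card (Matrix.ProjectiveSpecialLinearGroup (Fin 2) F)).factorization 2 = a + 1 := by
    have hodd' : (q * m * o) % 2 = 1 := by
      rw [Nat.mul_mod, Nat.mul_mod q m, hodd, Nat.odd_iff.mp hm, ho]
    rw [hcard, Nat.factorization_mul (by positivity) (by omega), Finsupp.add_apply,
      Nat.factorization_eq_zero_of_not_dvd (n := q * m * o) (by omega),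
      Nat.Prime.factorization_pow Nat.prime_two, Finsupp.single_eq_same, add_zero]
  obtain ⟨D, hD, ⟨e⟩⟩ := exists_dihedral (F := F) hk3 hq4 hk
  haveI : NeZero (2 ^ a) := ⟨by positivity⟩
  obtain ⟨f, hf⟩ : ∃ f : DihedralGroup (2 ^ a) →* DihedralGroup k, Function.Injective f :=
    hkm ▸ exists_dihedral_embedding (2 ^ a) m hm0
  have hDr : D ≤ (emb (F := F)).range := hD
  let eD : (D.comap (emb (F := F))) ≃* D :=
    ((D.comap (emb (F := F))).equivMapOfInjective emb emb_injective).trans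
      (MulEquiv.subgroupCongr (Subgroup.map_comap_eq_self hDr))
  let ι : DihedralGroup (2 ^ a) →* Matrix.ProjectiveSpecialLinearGroup (Fin 2) F :=
    (D.comap (emb (F := F))).subtype.comp ((eD.trans e).symm.toMonoidHom.comp f)
  have hι : Function.Injective ι := (Subgroup.subtype_injective _).comp ((eD.trans e).symm.injective.comp hf)
  have hcι : Nat.card ι.range = 2 ^ (a + 1) := by
    rw [← Nat.card_congr (MonoidHom.ofInjective hι).toEquiv, DihedralGroup.nat_card, pow_succ']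
  let P : Sylow 2 (Matrix.ProjectiveSpecialLinearGroup (Fin 2) F) := Sylow.ofCard ι.range (by rw [hcι, hfac])
  exact ⟨a, ⟨S, ha2, (MonoidHom.ofInjective hι).trans (P.equiv S)⟩, rfl⟩

theorem fusion_simple (hodd : Fintype.card F % 2 = 1) (h16 : 16 ∣ Fintype.card F ^ 2 - 1)
    (S : Sylow 2 (Matrix.ProjectiveSpecialLinearGroup (Fin 2) F)) :
    (Cfsg.groupFusionSystem (S : Subgroup (Matrix.ProjectiveSpecialLinearGroup (Fin 2) F))).IsSimple 2 := by
  haveI : Fact (Nat.Prime 2) := ⟨Nat.prime_two⟩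
  haveI : Finite (Matrix.ProjectiveSpecialLinearGroup (Fin 2) F) := Finite.of_surjective _ SL2Two.proj_surjective
  have hq4 : 4 ≤ Fintype.card F := by
    by_contra hc
    have h1 := Fintype.one_lt_card (α := F)
    interval_cases h : Fintype.card F <;> norm_num at *
  obtain ⟨k, D, rfl⟩ := exists_setup hodd h16 S
  haveI := psl_simple_of_four_le hq4
  have h3 : ∀ ε, 3 ∣ Nat.card (D.U ε).normalizerMonoidHom.range := by
    intro ε
    by_contra hc
    obtain ⟨H, hH⟩ := D.exists_index_two hc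
    haveI := Subgroup.normal_of_index_eq_two hH
    rcases Subgroup.Normal.eq_bot_or_eq_top (inferInstance : H.Normal) with rfl | rfl
    · rw [Subgroup.index_bot] at hH
      have := SL2.card_PSL2_mul (F := F)
      rw [hH] at this
      have h2 := Nat.le_of_dvd two_pos (Nat.gcd_dvd_left 2 (Fintype.card F - 1))
      have h4 : 4 * 15 ≤ Fintype.card F * (Fintype.card F ^ 2 - 1) :=
        Nat.mul_le_mul hq4 (by have := Nat.pow_le_pow_left hq4 2; omega)
      nlinarith
    · rw [Subgroup.index_top] at hH; norm_num at hH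
  have hconj : ∀ x y : Matrix.ProjectiveSpecialLinearGroup (Fin 2) F, orderOf x = 2 → orderOf y = 2 →
      IsConj x y := fun x y hx hy => (D.one_class h3 hx).trans (D.one_class h3 hy).symm
  have hF := Fusion.isSaturated_groupFusionSystem D.S
  have hS1 : (D.S : Subgroup (Matrix.ProjectiveSpecialLinearGroup (Fin 2) F)) ≠ ⊥ := fun h =>
    D.zI_ne_one ((Subgroup.mem_bot).1 (h ▸ D.U_le 0 (D.zI_mem 0)))
  refine Fusion.isSimple_of_inn D.S.2 hF hS1 ?_ fun T hT => ?_
  · refine le_antisymm (fun α hα => ?_) (Fusion.inn_le_autGroup le_rfl)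
    obtain ⟨a, ha, -, hax⟩ := Fusion.mem_autInducedBy.1
      (Fusion.EssentialControl.autGroup_self_le D.S.2 hF D.isPGroup_autGroup_S hα)
    exact ⟨⟨a, ha⟩, MulEquiv.ext fun x => Subtype.ext (hax x).symm⟩
  · refine Fusion.stronglyClosed_eq_bot_or_top D.S.2 ?_ ?_ hT
    · refine le_antisymm ((Subgroup.closure_le _).2 fun x hx => hx.1) fun x hx => ?_
      obtain ⟨w, rfl⟩ := D.exists_ι hx
      have hsr : ∀ i, D.ι (DihedralGroup.sr i) ∈ Subgroup.closure
          {x | x ∈ (D.S : Subgroup (Matrix.ProjectiveSpecialLinearGroup (Fin 2) F)) ∧ orderOf x = 2} := fun i =>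
        Subgroup.subset_closure ⟨D.ι_mem _, by rw [orderOf_injective _ D.ι_injective, DihedralGroup.orderOf_sr]⟩
      cases w with
      | sr i => exact hsr i
      | r i =>
        have := mul_mem (hsr 0) (hsr i)
        rwa [← map_mul, DihedralGroup.sr_mul_sr, sub_zero] at this
    · intro A B hA hB cA cB
      obtain ⟨x, hx, hxA⟩ : ∃ x, orderOf x = 2 ∧ A = Subgroup.zpowers x := by
        obtain ⟨⟨x, hxA⟩, hx⟩ := exists_prime_orderOf_dvd_card' (G := A) 2 (dvd_of_eq cA.symm)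
        rw [Subgroup.orderOf_mk] at hx
        exact ⟨x, hx, (Subgroup.eq_of_le_of_card_ge (Subgroup.zpowers_le.2 hxA)
          (by rw [cA, Nat.card_zpowers, hx])).symm⟩
      obtain ⟨y, hy, hyB⟩ : ∃ y, orderOf y = 2 ∧ B = Subgroup.zpowers y := by
        obtain ⟨⟨y, hyB⟩, hy⟩ := exists_prime_orderOf_dvd_card' (G := B) 2 (dvd_of_eq cB.symm)
        rw [Subgroup.orderOf_mk] at hy
        exact ⟨y, hy, (Subgroup.eq_of_le_of_card_ge (Subgroup.zpowers_le.2 hyB)
          (by rw [cB, Nat.card_zpowers, hy])).symm⟩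
      subst hxA hyB
      obtain ⟨g, hg⟩ := isConj_iff.1 (hconj x y hx hy)
      have hmap : (Subgroup.zpowers x).map (MulAut.conj g).toMonoidHom = Subgroup.zpowers y := by
        rw [MonoidHom.map_zpowers]; exact congrArg Subgroup.zpowers hg
      refine ⟨(MulAut.conj g).toMonoidHom.comp (Subgroup.zpowers x).subtype, ⟨hA, fun z => ?_, g, fun z => rfl⟩, ?_⟩
      · exact hB (hmap ▸ ⟨z.1, z.2, rfl⟩)
      · rw [MonoidHom.range_comp, Subgroup.range_subtype, hmap]

end Cfsg.Agent.Classical.PSLTwoSylow
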