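import Cfsg.Agent.Lib.Classical.PSLTwoSolubilizer

/-!
Sizes of solubilizers in `PSL₂(2 ^ f)` and `PSL₂(3 ^ f)`.
-/

set_option autoImplicit false
set_option linter.style.haveILetI false
set_option linter.unusedSectionVars false

open scoped MatrixGroups Classical
open Matrix

noncomputable section

namespace Cfsg.Agent.Classical.PSLTwoSol

open SL2Two
open Cfsg.Agent.GL2 (Nonscalar nonscalar_iff exists_gl_conj isConj_of_trace)

variable {F : Type*} [Field F] [Fintype F]

local notation "G2" => Matrix.ProjectiveSpecialLinearGroup (Fin 2) F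
local notation "S2" => Matrix.SpecialLinearGroup (Fin 2) F
local notation "M2" => Matrix (Fin 2) (Fin 2) F

/-! ### Matrices -/

/-- A diagonal element. -/
def dS (l : Fˣ) : S2 := ⟨!![(l : F), 0; 0, ((l⁻¹ : Fˣ) : F)], by simp [Matrix.det_fin_two]⟩

theorem dS_coe (l : Fˣ) : ((dS l : S2) : M2) = !![(l : F), 0; 0, ((l⁻¹ : Fˣ) : F)] := rfl

theorem uS_coe' (a : F) : ((PSLTwoAut.uS a : S2) : M2) = !![1, a; 0, 1] := rfl

theorem dS_mul (l m : Fˣ) : dS l * dS m = dS (l * m) := by
  apply Subtype.ext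
  rw [SL2.coe_mul']
  ext i j
  fin_cases i <;> fin_cases j <;> simp [SL2.coe_mul', dS_coe, Matrix.mul_apply, Fin.sum_univ_two, Matrix.vecMul, dotProduct, mul_comm]

theorem dS_one : dS (1 : Fˣ) = 1 := by
  apply Subtype.ext
  ext i j
  fin_cases i <;> fin_cases j <;> simp [dS]

theorem dS_pow (l : Fˣ) (n : ℕ) : dS l ^ n = dS (l ^ n) := by
  induction n with
  | zero => simp [dS_one]
  | succ n ih => rw [pow_succ, ih, dS_mul, pow_succ]

theorem det_eq (Y : S2) : (Y : M2) 0 0 * (Y : M2) 1 1 - (Y : M2) 0 1 * (Y : M2) 1 0 = 1 := by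
  have := Y.2
  rwa [Matrix.det_fin_two] at this

theorem trace_eq (Y : S2) : (Y : M2).trace = (Y : M2) 0 0 + (Y : M2) 1 1 := Matrix.trace_fin_two _

theorem ext_entries {Y Z : S2} (h00 : (Y : M2) 0 0 = (Z : M2) 0 0) (h01 : (Y : M2) 0 1 = (Z : M2) 0 1)
    (h10 : (Y : M2) 1 0 = (Z : M2) 1 0) (h11 : (Y : M2) 1 1 = (Z : M2) 1 1) : Y = Z :=
  Subtype.ext (SL2.coord h00 h01 h10 h11)

/-- Equality in the projective group, in entries. -/
theorem proj_eq_iff {Y Z : S2} : proj Y = proj Z ↔ ∃ e : F, e * e = 1 ∧ ∀ i j, (Y : M2) i j = e * (Z : M2) i j := by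
  constructor
  · intro h
    have h' : proj (Y * Z⁻¹) = 1 := by rw [map_mul, map_inv, h, mul_inv_cancel]
    rcases (SL2Two.proj_eq_one_iff _).1 h' with e | e <;> rw [mul_inv_eq_iff_eq_mul] at e
    · exact ⟨1, one_mul 1, fun i j => by rw [e, one_mul, one_mul]⟩
    · exact ⟨-1, by ring, fun i j => by rw [e, SL2.coe_mul', SL2Two.coe_negOne]; simp⟩
  · rintro ⟨e, he, h⟩
    rcases mul_self_eq_one_iff.1 he with rfl | rfl
    · exact congrArg _ (ext_entries (by simp [h]) (by simp [h]) (by simp [h]) (by simp [h]))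
    · have : Y = negOne * Z := by
        refine ext_entries ?_ ?_ ?_ ?_ <;> rw [SL2.coe_mul', SL2Two.coe_negOne, h] <;> simp
      rw [this, map_mul, PSLTwoCovering.proj_negOne, one_mul]

theorem proj_one_entries {Y : S2} (h : proj Y = 1) : (Y : M2) 0 1 = 0 ∧ (Y : M2) 1 0 = 0 ∧ (Y : M2) 0 0 = (Y : M2) 1 1 := by
  rcases (SL2Two.proj_eq_one_iff Y).1 h with rfl | rfl <;> simp [SL2Two.coe_negOne]

theorem trace_mul_left (X Y : S2) : ((X * Y : S2) : M2).trace = (X : M2) 0 0 * (Y : M2) 0 0 +
    (X : M2) 0 1 * (Y : M2) 1 0 + (X : M2) 1 0 * (Y : M2) 0 1 + (X : M2) 1 1 * (Y : M2) 1 1 := by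
  rw [SL2.coe_mul', Matrix.trace_fin_two]
  simp [Matrix.mul_apply, Fin.sum_univ_two]
  ring

/-- Automorphisms identify elements with the same trace. -/
theorem exists_aut {X X' : S2} (hX : Nonscalar (X : M2)) (hX' : Nonscalar (X' : M2))
    (ht : (X : M2).trace = (X' : M2).trace) : ∃ α : MulAut G2, α (proj X) = proj X' := by
  obtain ⟨γ, hγ⟩ := exists_gl_conj hX hX' ht
  refine ⟨PSLTwoAut.diagAut (ProjGenLinGroup.mk γ), PSLTwoAut.th_injective ?_⟩
  rw [PSLTwoAut.th_diagAut, PSLTwoAut.th_proj, PSLTwoAut.th_proj, ← map_inv, ← map_mul, ← map_mul, hγ]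

theorem card_sol_eq_of_trace {X X' : S2} (hX : Nonscalar (X : M2)) (hX' : Nonscalar (X' : M2))
    (ht : (X : M2).trace = (X' : M2).trace) :
    Nat.card {y // Sol (proj X) y} = Nat.card {y // Sol (proj X') y} := by
  obtain ⟨α, hα⟩ := exists_aut hX hX' ht
  rw [← hα, card_sol_congr]

theorem sol_map (α : MulAut G2) {x y : G2} (h : Sol x y) : Sol (α x) (α y) := by
  have e : Subgroup.closure ({α x, α y} : Set G2) = (Subgroup.closure ({x, y} : Set G2)).map α.toMonoidHom := by
    rw [MonoidHom.map_closure, Set.image_pair]; rfl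
  unfold Sol at h ⊢
  rw [e]
  let i := (Subgroup.closure ({x, y} : Set G2)).equivMapOfInjective α.toMonoidHom α.injective
  haveI := h
  exact solvable_of_solvable_injective (f := i.symm.toMonoidHom) i.symm.injective

theorem sol_of_commonFix {X Y : S2} (h : CommonFix X Y) : Sol (proj X) (proj Y) := by
  obtain ⟨g, hX, hY⟩ := h
  have := sol_map (MulAut.conj (proj g)) (sol_of_upper hX hY)
  simp only [MulAut.conj_apply] at this
  rw [map_mul, map_mul, map_inv, map_mul, map_mul, map_inv] at this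
  rwa [show proj g * ((proj g)⁻¹ * proj X * proj g) * (proj g)⁻¹ = proj X by group,
    show proj g * ((proj g)⁻¹ * proj Y * proj g) * (proj g)⁻¹ = proj Y by group] at this

/-! ### Counting -/

theorem card_upper : Nat.card {Y : S2 // (Y : M2) 1 0 = 0} = Fintype.card F * (Fintype.card F - 1) := by
  have e : {Y : S2 // (Y : M2) 1 0 = 0} ≃ F × Fˣ :=
    { toFun := fun Y => ((Y.1 : M2) 0 1, ⟨(Y.1 : M2) 0 0, (Y.1 : M2) 1 1,
        by have := det_eq Y.1; rw [Y.2] at this; linear_combination this,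
        by have := det_eq Y.1; rw [Y.2] at this; linear_combination this⟩)
      invFun := fun p => ⟨⟨!![(p.2 : F), p.1; 0, ((p.2⁻¹ : Fˣ) : F)], by simp [Matrix.det_fin_two]⟩, by simp⟩
      left_inv := fun Y => Subtype.ext (ext_entries (by simp) (by simp) (by simpa using Y.2.symm) (by simp))
      right_inv := fun p => Prod.ext (by simp) (Units.ext (by simp)) }
  rw [Nat.card_congr e, Nat.card_prod, Nat.card_units, Nat.card_eq_fintype_card]

theorem card_or {α : Type*} [Finite α] (P Q : α → Prop) (h : ∀ a, P a → Q a → False) :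
    Nat.card {a // P a ∨ Q a} = Nat.card {a // P a} + Nat.card {a // Q a} := by
  rw [← Nat.card_sum]
  exact Nat.card_congr (subtypeOrEquiv _ _ (by
    intro r hr1 hr2 x hx
    exact h x (hr1 x hx) (hr2 x hx)))

theorem card_split {α : Type*} [Finite α] (P Q : α → Prop) :
    Nat.card {a // P a} = Nat.card {a // P a ∧ Q a} + Nat.card {a // P a ∧ ¬ Q a} := by
  rw [← card_or _ _ (fun a h h' => h'.2 h.2)]
  exact Nat.card_congr (Equiv.subtypeEquivRight fun a => by tauto)

/-! ### A split semisimple element -/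

theorem card_sol_split (ℓ f : ℕ) [Fact ℓ.Prime] [CharP F ℓ] (hℓ : ℓ = 2 ∨ (ℓ = 3 ∧ Odd f)) (hf : f.Prime)
    (hF : Fintype.card F = ℓ ^ f) {l : Fˣ} (h2 : proj (dS l) * proj (dS l) ≠ 1)
    (h3 : ℓ = 3 → proj (dS l) ^ 3 ≠ 1) :
    Nat.card (Subgroup.center S2) * Nat.card {y // Sol (proj (dS l)) y} =
      2 * Fintype.card F * (Fintype.card F - 1) := by
  have h4 : 4 ≤ Fintype.card F := by
    rw [hF]
    exact le_trans (by norm_num) ((Nat.pow_le_pow_left (Fact.out : ℓ.Prime).two_le 2).trans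
      (Nat.pow_le_pow_right (Fact.out : ℓ.Prime).pos hf.two_le))
  have hprop := hprop_of ℓ f hℓ hf hF
  have hx1 : proj (dS l) ≠ 1 := fun e => h2 (by rw [e, one_mul])
  have hl4 : ∀ e : F, e * e = 1 → (l : F) * (l : F) ≠ e := fun e he e' => h2 (by
    rw [← map_mul, dS_mul, ← map_one proj, proj_eq_iff]
    refine ⟨e, he, fun i j => ?_⟩
    have e'' : ((l⁻¹ : Fˣ) : F) * ((l⁻¹ : Fˣ) : F) = e := by
      rw [Units.val_inv_eq_inv_val, ← _root_.mul_inv, e']; exact inv_eq_of_mul_eq_one_right he
    fin_cases i <;> fin_cases j <;> simp [dS, _root_.mul_inv_rev]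
    · exact e'
    · simpa using e'')
  rw [← card_proj_preimage]
  have key : ∀ Y : S2, Sol (proj (dS l)) (proj Y) ↔
      ((Y : M2) 1 0 = 0 ∨ ((Y : M2) 0 1 = 0 ∧ (Y : M2) 1 0 ≠ 0)) ∨ ((Y : M2) 0 0 = 0 ∧ (Y : M2) 1 1 = 0) := by
    intro Y
    constructor
    · intro h
      rcases sol_cases ℓ f hℓ hf hF hx1 h with ⟨g, hgX, hgY⟩ | (⟨hxx, -⟩ | hc) | ⟨h3', H, ψ, hmX, -⟩
      · rw [lower_conj] at hgX hgY
        simp [dS_coe] at hgX
        have hz : (g : M2) 1 0 * (g : M2) 0 0 * ((l : F)⁻¹ - (l : F)) = 0 := by linear_combination hgX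
        have hne : (l : F)⁻¹ - (l : F) ≠ 0 := fun e => hl4 1 (one_mul 1) (by
          field_simp at e; linear_combination -e)
        rcases mul_eq_zero.1 ((mul_eq_zero.1 hz).resolve_right hne) with e | e <;> rw [e] at hgY <;>
          have hd := det_eq g <;> rw [e] at hd
        · have : (g : M2) 0 0 ≠ 0 := fun e' => by rw [e'] at hd; simp at hd
          left; left
          simpa [this] using hgY
        · have : (g : M2) 1 0 ≠ 0 := fun e' => by rw [e'] at hd; simp at hd
          have hb : (Y : M2) 0 1 = 0 := by simpa [this] using hgY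
          by_cases hcz : (Y : M2) 1 0 = 0
          · exact Or.inl (Or.inl hcz)
          · exact Or.inl (Or.inr ⟨hb, hcz⟩)
      · exact absurd hxx h2
      · obtain ⟨m, hm, hc⟩ : ∃ m : Fˣ, (m = l ∨ m = l⁻¹) ∧ proj (Y * dS l) = proj (dS m * Y) := by
          rcases hc with h | h <;> rw [mul_inv_eq_iff_eq_mul] at h
          · exact ⟨l, Or.inl rfl, by rw [map_mul, map_mul, h]⟩
          · refine ⟨l⁻¹, Or.inr rfl, ?_⟩
            have : dS l⁻¹ = (dS l)⁻¹ := eq_inv_of_mul_eq_one_left (by rw [dS_mul, inv_mul_cancel, dS_one])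
            rw [this, map_mul, map_mul, map_inv, h]
        obtain ⟨e, he, hY⟩ := proj_eq_iff.1 hc
        have e00 := hY 0 0; have e01 := hY 0 1; have e11 := hY 1 1
        simp [SL2.coe_mul', dS_coe, Matrix.mul_apply, Fin.sum_univ_two, Matrix.vecMul, dotProduct] at e00 e01 e11
        have hl0 := l.ne_zero
        have hm0 := m.ne_zero
        by_cases hb : (Y : M2) 0 1 = 0
        · by_cases hcz : (Y : M2) 1 0 = 0
          · exact Or.inl (Or.inl hcz)
          · exact Or.inl (Or.inr ⟨hb, hcz⟩)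
        · have hem : (l : F)⁻¹ = e * (m : F) := mul_left_cancel₀ hb (by linear_combination e01)
          refine Or.inr ⟨?_, ?_⟩
          · by_contra ha
            have h' : (l : F) = e * (m : F) := mul_left_cancel₀ ha (by linear_combination e00)
            exact hl4 1 (one_mul 1) (by
              have := congrArg (fun z => (l : F) * z) (hem.trans h'.symm)
              simp [hl0] at this
              exact this.symm)
          · by_contra hd
            have h' : (l : F)⁻¹ = e * (m : F)⁻¹ := mul_left_cancel₀ hd (by linear_combination e11)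
            have h'' : (m : F) * (m : F) = 1 := by
              have h := hem.symm.trans h'
              field_simp at h
              have e0 : e ≠ 0 := fun e0 => by rw [e0, mul_zero] at he; exact zero_ne_one he
              first | exact mul_left_cancel₀ e0 (by linear_combination h) | linear_combination h
            rcases hm with rfl | rfl
            · exact hl4 1 (one_mul 1) h''
            · simp at h''
              field_simp at h''
              exact hl4 1 (one_mul 1) (by linear_combination -h'')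
      · exfalso
        have := Dickson.alt_four_orders (ψ ⟨_, hmX⟩)
        rcases this with e | e <;> rw [← map_pow, ← ψ.map_one, ψ.injective.eq_iff, Subtype.ext_iff] at e <;>
          simp at e
        · exact h2 (by rw [← pow_two]; exact e)
        · exact h3 h3' e
    · rintro ((h | ⟨h, -⟩) | ⟨ha, hd⟩)
      · exact sol_of_commonFix ⟨1, by simp [dS_coe, lower_conj], by simpa [lower_conj] using h⟩
      · refine sol_of_commonFix ⟨PSLTwoCovering.wS, ?_, ?_⟩ <;> rw [lower_conj] <;> simp [PSLTwoCovering.wS_coe, dS_coe, h]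
      · refine sol_of_diPair hprop h4 hx1 (Or.inr (Or.inr ?_))
        have e1 : proj (dS l) * proj Y * proj (dS l) = proj Y := by
          rw [← map_mul, ← map_mul]
          refine congrArg _ (ext_entries ?_ ?_ ?_ ?_) <;>
            simp [SL2.coe_mul', dS_coe, Matrix.mul_apply, Fin.sum_univ_two, Matrix.vecMul, dotProduct, ha, hd] <;> field_simp
        rw [mul_inv_eq_iff_eq_mul, eq_inv_mul_iff_mul_eq, ← mul_assoc, e1]
  rw [Nat.card_congr (Equiv.subtypeEquivRight key), card_or, card_or, card_upper]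
  · have hB : Nat.card {Y : S2 // (Y : M2) 0 1 = 0 ∧ (Y : M2) 1 0 ≠ 0} = (Fintype.card F - 1) * (Fintype.card F - 1) := by
      have e : {Y : S2 // (Y : M2) 0 1 = 0 ∧ (Y : M2) 1 0 ≠ 0} ≃ Fˣ × Fˣ :=
        { toFun := fun Y => (Units.mk0 _ Y.2.2, ⟨(Y.1 : M2) 0 0, (Y.1 : M2) 1 1,
            by have := det_eq Y.1; rw [Y.2.1] at this; linear_combination this,
            by have := det_eq Y.1; rw [Y.2.1] at this; linear_combination this⟩)
          invFun := fun p => ⟨⟨!![(p.2 : F), 0; (p.1 : F), ((p.2⁻¹ : Fˣ) : F)], by simp [Matrix.det_fin_two]⟩,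
            by simp, by simp⟩
          left_inv := fun Y => Subtype.ext (ext_entries (by simp) (by simpa using Y.2.1.symm) (by simp) (by simp))
          right_inv := fun p => Prod.ext (Units.ext (by simp)) (Units.ext (by simp)) }
      rw [Nat.card_congr e, Nat.card_prod, Nat.card_units, Nat.card_eq_fintype_card]
    have hC : Nat.card {Y : S2 // (Y : M2) 0 0 = 0 ∧ (Y : M2) 1 1 = 0} = Fintype.card F - 1 := by
      have e : {Y : S2 // (Y : M2) 0 0 = 0 ∧ (Y : M2) 1 1 = 0} ≃ Fˣ :=
        { toFun := fun Y => ⟨(Y.1 : M2) 0 1, -(Y.1 : M2) 1 0,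
            by have := det_eq Y.1; rw [Y.2.1, Y.2.2] at this; linear_combination this,
            by have := det_eq Y.1; rw [Y.2.1, Y.2.2] at this; linear_combination this⟩
          invFun := fun u => ⟨⟨!![0, (u : F); -((u⁻¹ : Fˣ) : F), 0], by simp [Matrix.det_fin_two]⟩, by simp, by simp⟩
          left_inv := fun Y => Subtype.ext (ext_entries (by simpa using Y.2.1.symm) (by simp) (by simp)
            (by simpa using Y.2.2.symm))
          right_inv := fun u => Units.ext (by simp) }
      rw [Nat.card_congr e, Nat.card_units, Nat.card_eq_fintype_card]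
    rw [hB, hC]
    obtain ⟨k, hk⟩ : ∃ k, Fintype.card F = k + 1 := ⟨_, (Nat.succ_pred Fintype.card_ne_zero).symm⟩
    rw [hk, Nat.add_sub_cancel]; ring
  · exact fun Y h h' => h'.2 h
  · intro Y h h'
    have hd := det_eq Y
    rw [h'.1, h'.2] at hd
    rcases h with h | ⟨h, -⟩ <;> rw [h] at hd <;> simp at hd

/-! ### A non-split semisimple element -/

theorem card_sol_nonsplit (ℓ f : ℕ) [Fact ℓ.Prime] [CharP F ℓ] (hℓ : ℓ = 2 ∨ (ℓ = 3 ∧ Odd f)) (hf : f.Prime)
    (hF : Fintype.card F = ℓ ^ f) {X : S2} (hno : ∀ l : F, l * l - (X : M2).trace * l + 1 ≠ 0)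
    (h2 : proj X * proj X ≠ 1) (h3 : ℓ = 3 → proj X ^ 3 ≠ 1) :
    Nat.card {y // Sol (proj X) y} = 2 * Nat.card (Subgroup.centralizer ({proj X} : Set G2)) := by
  have h4 : 4 ≤ Fintype.card F := by
    rw [hF]
    exact le_trans (by norm_num) ((Nat.pow_le_pow_left (Fact.out : ℓ.Prime).two_le 2).trans
      (Nat.pow_le_pow_right (Fact.out : ℓ.Prime).pos hf.two_le))
  have hprop := hprop_of ℓ f hℓ hf hF
  have hx1 : proj X ≠ 1 := fun e => h2 (by rw [e, one_mul])
  have key : ∀ y : G2, Sol (proj X) y ↔ (y * proj X * y⁻¹ = proj X ∨ y * proj X * y⁻¹ = (proj X)⁻¹) := by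
    intro y
    obtain ⟨Y, rfl⟩ := SL2Two.proj_surjective y
    refine ⟨fun h => ?_, fun h => sol_of_diPair hprop h4 hx1 (Or.inr h)⟩
    rcases sol_cases ℓ f hℓ hf hF hx1 h with ⟨g, hgX, -⟩ | (⟨hxx, -⟩ | hc) | ⟨h3', H, ψ, hmX, -⟩
    · exfalso
      set Z := g⁻¹ * X * g with hZ
      have ht : (Z : M2).trace = (X : M2).trace := by
        have := GL2.trace_isConjS (g := X) (h := Z) (isConj_iff.2 ⟨g⁻¹, by rw [hZ]; group⟩)
        exact this.symm
      have hd := det_eq Z
      rw [hgX] at hd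
      refine hno ((Z : M2) 0 0) ?_
      rw [← ht, trace_eq]
      linear_combination -hd
    · exact absurd hxx h2
    · exact hc
    · exfalso
      rcases Dickson.alt_four_orders (ψ ⟨_, hmX⟩) with e | e <;>
        rw [← map_pow, ← ψ.map_one, ψ.injective.eq_iff, Subtype.ext_iff] at e <;> simp at e
      · exact h2 (by rw [← pow_two]; exact e)
      · exact h3 h3' e
  rw [Nat.card_congr (Equiv.subtypeEquivRight key), card_or _ _ (fun y h h' => h2 (by
    have e := h.symm.trans h'
    exact mul_eq_one_iff_eq_inv.2 e)), two_mul]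
  have ht4 : (X : M2).trace * (X : M2).trace ≠ 4 := by
    intro e
    rcases GL2.two_cases (F := F) with ⟨-, h⟩ | ⟨-, h⟩
    · have h4' : (4 : F) = 0 := by linear_combination 2 * h
      rw [h4', mul_self_eq_zero] at e
      exact hno 1 (by rw [e]; linear_combination h)
    · exact hno ((X : M2).trace / 2) (by field_simp; linear_combination -e)
  have hinv : ((X⁻¹ : S2) : M2).trace = (X : M2).trace := by
    rw [Matrix.SpecialLinearGroup.coe_inv, Matrix.trace_fin_two, Matrix.trace_fin_two, Matrix.adjugate_fin_two]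
    simp [add_comm]
  obtain ⟨y₀, hy₀⟩ := isConj_iff.1 (proj.map_isConj (isConj_of_trace (g := X) (h := X⁻¹)
    (PSLTwoCovering.nonscalar_of_trace ht4) (PSLTwoCovering.nonscalar_of_trace (by rw [hinv]; exact ht4))
    hinv.symm ht4))
  rw [map_inv] at hy₀
  have hcen : ∀ y : G2, y ∈ Subgroup.centralizer ({proj X} : Set G2) ↔ y * proj X * y⁻¹ = proj X := fun y => by
    rw [Subgroup.mem_centralizer_singleton_iff, mul_inv_eq_iff_eq_mul]
  congr 1
  · exact Nat.card_congr (Equiv.subtypeEquivRight fun y => (hcen y).symm)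
  · refine Nat.card_congr (Equiv.subtypeEquiv (Equiv.mulLeft y₀⁻¹) fun y => ?_)
    rw [hcen]
    show _ ↔ y₀⁻¹ * y * proj X * (y₀⁻¹ * y)⁻¹ = proj X
    rw [show y₀⁻¹ * y * proj X * (y₀⁻¹ * y)⁻¹ = y₀⁻¹ * (y * proj X * y⁻¹) * y₀ by group,
      mul_assoc y₀⁻¹, inv_mul_eq_iff_eq_mul, show y₀ * proj X = (proj X)⁻¹ * y₀ by rw [← hy₀]; group, mul_left_inj]

/-! ### Characteristic two involutions -/

theorem card_sol_invol_two (f : ℕ) [CharP F 2] (hf : f.Prime) (hF : Fintype.card F = 2 ^ f) :
    Nat.card {y // Sol (proj (PSLTwoAut.uS (1 : F))) y} = 3 * Fintype.card F * (Fintype.card F - 1) := by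
  haveI : Fact (Nat.Prime 2) := ⟨Nat.prime_two⟩
  have h4 : 4 ≤ Fintype.card F := by
    rw [hF]; exact le_trans (by norm_num) (Nat.pow_le_pow_right two_pos hf.two_le)
  have hprop := hprop_of 2 f (Or.inl rfl) hf hF
  have h2 : (2 : F) = 0 := by exact_mod_cast CharP.cast_eq_zero F 2
  set X := PSLTwoAut.uS (1 : F) with hX
  have hx1 : proj X ≠ 1 := fun e => by
    have := (proj_one_entries e).1
    simp [hX, uS_coe'] at this
  have hxx : proj X * proj X = 1 := by
    rw [proj_sq_iff]; left; simp [hX, uS_coe', Matrix.trace_fin_two]; linear_combination h2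
  have hxi : (proj X)⁻¹ = proj X := inv_eq_of_mul_eq_one_right hxx
  have hxy : ∀ Y : S2, ((X * Y : S2) : M2).trace = (Y : M2).trace + (Y : M2) 1 0 := fun Y => by
    rw [trace_mul_left, trace_eq]; simp [hX, uS_coe']; ring
  have hone := card_proj_preimage (F := F) (Sol (proj X))
  rw [card_center_one h2, one_mul] at hone
  rw [← hone]
  have key : ∀ Y : S2, Sol (proj X) (proj Y) ↔
      ((Y : M2) 1 0 = 0 ∨ ((Y : M2).trace = 0 ∧ (Y : M2) 1 0 ≠ 0)) ∨
        ((Y : M2).trace + (Y : M2) 1 0 = 0 ∧ (Y : M2) 1 0 ≠ 0) := by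
    intro Y
    have aux : ∀ P : Prop, (P ∨ (Y : M2) 1 0 = 0) → (P ∧ (Y : M2) 1 0 ≠ 0) ∨ (Y : M2) 1 0 = 0 := by tauto
    constructor
    · intro h
      have hcomm : proj X * proj Y = proj Y * proj X → (Y : M2) 1 0 = 0 := fun e => by
        rw [← map_mul, ← map_mul] at e
        obtain ⟨ε, hε, hY⟩ := proj_eq_iff.1 e
        have e1 : ε = 1 := by
          rcases mul_self_eq_one_iff.1 hε with r | r
          · exact r
          · rw [r]; linear_combination -h2
        have e00 := hY 0 0
        simp [SL2.coe_mul', hX, uS_coe', Matrix.mul_apply, Fin.sum_univ_two, Matrix.vecMul, dotProduct, e1] at e00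
        exact e00
      rcases sol_cases 2 f (Or.inl rfl) hf hF hx1 h with ⟨g, hgX, hgY⟩ | (⟨-, hc | hc | hc⟩ | hc) | ⟨h3', -⟩
      · rw [lower_conj] at hgX hgY
        simp [hX, uS_coe'] at hgX
        have hs : (g : M2) 1 0 = 0 := by
          have : (g : M2) 1 0 * (g : M2) 1 0 = 0 := by linear_combination -hgX
          simpa using this
        have hd := det_eq g
        rw [hs] at hgY hd
        have : (g : M2) 0 0 ≠ 0 := fun e' => by rw [e'] at hd; simp at hd
        exact Or.inl (Or.inl (by simpa [this] using hgY))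
      · rcases aux _ ((proj_sq_iff Y).1 hc |>.imp id fun e => (proj_one_entries e).2.1) with h' | h'
        · exact Or.inl (Or.inr h')
        · exact Or.inl (Or.inl h')
      · rw [← map_mul, proj_sq_iff] at hc
        have hc' : ((Y : M2).trace + (Y : M2) 1 0 = 0) ∨ (Y : M2) 1 0 = 0 := by
          refine hc.imp (fun e => (hxy Y).symm.trans e) fun e => ?_
          have := (proj_one_entries e).2.1
          simpa [SL2.coe_mul', hX, uS_coe', Matrix.mul_apply, Fin.sum_univ_two, Matrix.vecMul, dotProduct] using this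
        rcases aux _ hc' with h' | h'
        · exact Or.inr h'
        · exact Or.inl (Or.inl h')
      · exact Or.inl (Or.inl (hcomm hc))
      · refine Or.inl (Or.inl (hcomm ?_))
        rw [hxi, or_self, mul_inv_eq_iff_eq_mul] at hc
        exact hc.symm
      · norm_num at h3'
    · rintro ((h | ⟨h, -⟩) | ⟨h, -⟩)
      · exact sol_of_upper (by simp [hX, uS_coe']) h
      · exact sol_of_diPair hprop h4 hx1 (Or.inl ⟨hxx, Or.inl ((proj_sq_iff Y).2 (Or.inl h))⟩)
      · refine sol_of_diPair hprop h4 hx1 (Or.inl ⟨hxx, Or.inr (Or.inl ?_)⟩)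
        rw [← map_mul, proj_sq_iff, hxy]; exact Or.inl h
  have hcount : ∀ k : F → F, Nat.card {Y : S2 // (Y : M2).trace = k ((Y : M2) 1 0) ∧ (Y : M2) 1 0 ≠ 0} =
      Fintype.card F * (Fintype.card F - 1) := by
    intro k
    have e : {Y : S2 // (Y : M2).trace = k ((Y : M2) 1 0) ∧ (Y : M2) 1 0 ≠ 0} ≃ F × Fˣ :=
      { toFun := fun Y => ((Y.1 : M2) 0 0, Units.mk0 _ Y.2.2)
        invFun := fun p => ⟨⟨!![p.1, (p.1 * (k p.2 - p.1) - 1) / p.2; (p.2 : F), k p.2 - p.1], by
          simp [Matrix.det_fin_two]⟩, by simp [Matrix.trace_fin_two], by simp⟩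
        left_inv := fun Y => by
          refine Subtype.ext (ext_entries (by simp) ?_ (by simp) ?_)
          · simp only [Units.val_mk0]
            simp
            rw [div_eq_iff Y.2.2, ← Y.2.1, trace_eq]
            linear_combination det_eq Y.1
          · simp
            rw [← Y.2.1, trace_eq]; ring
        right_inv := fun p => Prod.ext (by simp) (Units.ext (by simp)) }
    rw [Nat.card_congr e, Nat.card_prod, Nat.card_units, Nat.card_eq_fintype_card]
  rw [Nat.card_congr (Equiv.subtypeEquivRight key), card_or, card_or, card_upper, hcount (fun _ => 0),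
    show Nat.card {Y : S2 // (Y : M2).trace + (Y : M2) 1 0 = 0 ∧ (Y : M2) 1 0 ≠ 0} = _ from
      (Nat.card_congr (Equiv.subtypeEquivRight fun Y => by rw [add_eq_zero_iff_eq_neg])).trans (hcount (fun c => -c))]
  · ring
  · exact fun Y h h' => h'.2 h
  · rintro Y (h | ⟨h, -⟩) ⟨h', hne⟩
    · exact hne h
    · rw [h, zero_add] at h'; exact hne h'

end Cfsg.Agent.Classical.PSLTwoSol
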