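import Cfsg.Agent.Lib.Classical.PSLTwoSolCount

/-!
Sizes of solubilizers of involutions and of elements of order three in `PSL₂(3 ^ f)`.
-/

set_option autoImplicit false
set_option linter.style.haveILetI false
set_option linter.unusedSectionVars false

open scoped MatrixGroups Classical
open Matrix

noncomputable section

namespace Cfsg.Agent.Classical.PSLTwoSol

open SL2Two
open Cfsg.Agent.GL2 (Nonscalar)

variable {F : Type*} [Field F] [Fintype F]

local notation "G2" => Matrix.ProjectiveSpecialLinearGroup (Fin 2) F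
local notation "S2" => Matrix.SpecialLinearGroup (Fin 2) F
local notation "M2" => Matrix (Fin 2) (Fin 2) F

theorem alt_transfer {H : Subgroup G2} (ψ : H ≃* alternatingGroup (Fin 4)) {x y : G2} (hx : x ∈ H) (hy : y ∈ H) :
    (x * x = 1 → x ≠ 1 → y * y = 1 ∨ (y ^ 3 = 1 ∧ (x * y) ^ 3 = 1)) ∧
    (x ^ 3 = 1 → x ≠ 1 →
      ((y * y = 1 ∧ (y = 1 ∨ (x * y) ^ 3 = 1)) ∨
      ((x * y) * (x * y) = 1 ∧ (x * y = 1 ∨ (x * (x * y)) ^ 3 = 1)) ∨
      ((x * x * y) * (x * x * y) = 1 ∧ (x * x * y = 1 ∨ (x * (x * x * y)) ^ 3 = 1)))) := by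
  have k1 := alt_four_invol (ψ ⟨x, hx⟩) (ψ ⟨y, hy⟩)
  have k2 := alt_four_three (ψ ⟨x, hx⟩) (ψ ⟨y, hy⟩)
  simp only [← map_mul, ← map_pow, ← ψ.map_one, ψ.injective.eq_iff, ψ.injective.ne_iff, Subtype.ext_iff,
    ne_eq, Subgroup.coe_mul, SubmonoidClass.coe_pow, OneMemClass.coe_one] at k1 k2
  exact ⟨k1, k2⟩

theorem g0_coe : ((SL2Two.g0 : S2) : M2) = !![0, -1; 1, 0] := rfl

theorem circle_one (h2 : (2 : F) ≠ 0) (h4 : Fintype.card F % 4 = 3) :
    Nat.card {p : F × F // p.1 * p.1 + p.2 * p.2 = 1} = Fintype.card F + 1 := by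
  rw [← (SL2Two.card_centralizer_g0 h2).2 h4]
  refine Nat.card_congr
    { toFun := fun p => ⟨⟨!![p.1.1, -p.1.2; p.1.2, p.1.1], by
        rw [Matrix.det_fin_two_of]; linear_combination p.2⟩, by
        refine Subgroup.mem_centralizer_singleton_iff.2 (Subtype.ext ?_)
        show !![p.1.1, -p.1.2; p.1.2, p.1.1] * !![0, -1; 1, 0] = !![0, -1; 1, 0] * !![p.1.1, -p.1.2; p.1.2, p.1.1]
        simp⟩
      invFun := fun Y => ⟨((Y.1 : M2) 0 0, (Y.1 : M2) 1 0), ?_⟩
      left_inv := fun p => by simp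
      right_inv := fun Y => ?_ }
  all_goals
    have hc := Subgroup.mem_centralizer_singleton_iff.1 Y.2
    have e00 := congrArg (fun A : S2 => (A : M2) 0 0) hc
    have e01 := congrArg (fun A : S2 => (A : M2) 0 1) hc
    simp [SL2.coe_mul', g0_coe, Matrix.mul_apply, Fin.sum_univ_two, Matrix.vecMul, dotProduct] at e00 e01
  · have hd := det_eq Y.1
    linear_combination hd + (Y.1 : M2) 0 0 * e01 + (Y.1 : M2) 1 0 * e00
  · refine Subtype.ext (ext_entries (by simp) ?_ (by simp) ?_)
    · simp; linear_combination -e00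
    · simp; linear_combination e01

theorem circle_card (h2 : (2 : F) ≠ 0) (h4 : Fintype.card F % 4 = 3) {δ : F} (hδ : δ ≠ 0) :
    Nat.card {p : F × F // p.1 * p.1 + p.2 * p.2 = δ} = Fintype.card F + 1 := by
  rw [← circle_one h2 h4]
  obtain ⟨a, b, hab⟩ := GL2.norm_surj (t := (0 : F)) (by
    rw [mul_zero, show (4 : F) = 2 * 2 by norm_num]; exact (mul_ne_zero h2 h2).symm) δ
  have hab' : a * a + b * b = δ := by linear_combination hab
  refine Nat.card_congr
    { toFun := fun p => ⟨((p.1.1 * a + p.1.2 * b) / δ, (p.1.2 * a - p.1.1 * b) / δ), ?_⟩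
      invFun := fun p => ⟨(p.1.1 * a - p.1.2 * b, p.1.1 * b + p.1.2 * a), ?_⟩
      left_inv := fun p => ?_
      right_inv := fun p => ?_ }
  · simp only; field_simp
    linear_combination (p.1.1 * p.1.1 + p.1.2 * p.1.2) * hab' + δ * p.2
  · simp only
    linear_combination (p.1.1 * p.1.1 + p.1.2 * p.1.2) * hab' + δ * p.2
  · refine Subtype.ext (Prod.ext ?_ ?_) <;> simp only <;> field_simp
    · linear_combination p.1.1 * hab'
    · linear_combination p.1.2 * hab'
  · refine Subtype.ext (Prod.ext ?_ ?_) <;> simp only <;> field_simp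
    · linear_combination p.1.1 * hab'
    · linear_combination p.1.2 * hab'

variable [CharP F 3] {f : ℕ} (hf : f.Prime) (hodd : Odd f) (hF : Fintype.card F = 3 ^ f)

include hf hodd hF

theorem char_three_facts : (3 : F) = 0 ∧ (2 : F) ≠ 0 ∧ Fintype.card F % 4 = 3 ∧ 4 ≤ Fintype.card F := by
  have h3 : (3 : F) = 0 := by exact_mod_cast CharP.cast_eq_zero F 3
  refine ⟨h3, fun h => one_ne_zero (α := F) (by linear_combination h3 - h), ?_, ?_⟩
  · obtain ⟨j, rfl⟩ := hodd
    rw [hF, pow_succ, pow_mul, Nat.mul_mod, Nat.pow_mod]; norm_num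
  · rw [hF]; exact le_trans (by norm_num) (Nat.pow_le_pow_right (by norm_num : 0 < 3) hf.two_le)

theorem card_sol_three :
    2 * Nat.card {y // Sol (proj (PSLTwoAut.uS (1 : F))) y} = Fintype.card F * (Fintype.card F + 5) := by
  obtain ⟨h3, h2, hq4, h4⟩ := char_three_facts hf hodd hF
  haveI : Fact (Nat.Prime 3) := ⟨Nat.prime_three⟩
  have hprop := hprop_of 3 f (Or.inr ⟨rfl, hodd⟩) hf hF
  set X := PSLTwoAut.uS (1 : F) with hX
  have hXc : (X : M2) = !![1, 1; 0, 1] := rfl
  have hx1 : proj X ≠ 1 := fun e => by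
    have := (proj_one_entries e).1
    simp [hXc] at this
  have hx3 : proj X ^ 3 = 1 := by
    rw [proj_cube_iff]; simp [hXc, Matrix.trace_fin_two]; linear_combination h3
  have hxx : proj X * proj X ≠ 1 := fun e => hx1 (by
    calc proj X = proj X ^ 3 := by rw [pow_succ, pow_two, e, one_mul]
      _ = 1 := hx3)
  have htm : ∀ Y : S2, ((X * Y : S2) : M2).trace = (Y : M2).trace + (Y : M2) 1 0 := fun Y => by
    rw [trace_mul_left, trace_eq]; simp [hXc]; ring
  have hlm : ∀ Y : S2, ((X * Y : S2) : M2) 1 0 = (Y : M2) 1 0 := fun Y => by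
    simp [SL2.coe_mul', hXc, Matrix.mul_apply, Fin.sum_univ_two, Matrix.vecMul, dotProduct]
  have hpre := card_proj_preimage (F := F) (Sol (proj X))
  rw [card_center_two h2] at hpre
  rw [← hpre]
  have key : ∀ Y : S2, Sol (proj X) (proj Y) ↔
      (Y : M2) 1 0 = 0 ∨ ((Y : M2) 1 0 * (Y : M2) 1 0 = 1 ∧ (Y : M2).trace ^ 3 = (Y : M2).trace) := by
    intro Y
    set c := (Y : M2) 1 0 with hc0
    set t := (Y : M2).trace with ht0
    constructor
    · intro h
      by_cases hcz : c = 0
      · exact Or.inl hcz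
      rcases sol_cases 3 f (Or.inr ⟨rfl, hodd⟩) hf hF hx1 h with ⟨g, hgX, hgY⟩ | (⟨hc, -⟩ | hc) | ⟨-, H, ψ, hmX, hmY⟩
      · rw [lower_conj] at hgX hgY
        simp [hXc] at hgX
        have hs : (g : M2) 1 0 = 0 := by
          have : (g : M2) 1 0 * (g : M2) 1 0 = 0 := by linear_combination -hgX
          simpa using this
        have hd := det_eq g
        rw [hs] at hgY hd
        have : (g : M2) 0 0 ≠ 0 := fun e' => by rw [e'] at hd; simp at hd
        exact Or.inl (by simpa [this] using hgY)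
      · exact absurd hc hxx
      · exfalso
        obtain ⟨Z, hZ, hc⟩ : ∃ Z : S2, (Z = X ∨ Z = X⁻¹) ∧ proj (Y * X) = proj (Z * Y) := by
          rcases hc with h | h <;> rw [mul_inv_eq_iff_eq_mul] at h
          · exact ⟨X, Or.inl rfl, by rw [map_mul, map_mul, h]⟩
          · exact ⟨X⁻¹, Or.inr rfl, by rw [map_mul, map_mul, map_inv, h]⟩
        obtain ⟨ε, hε, hY⟩ := proj_eq_iff.1 hc
        have e00 := hY 0 0; have e10 := hY 1 0
        rcases hZ with rfl | rfl <;>
          simp [SL2.coe_mul', hXc, Matrix.SpecialLinearGroup.coe_inv, Matrix.adjugate_fin_two_of, Matrix.mul_apply,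
            Fin.sum_univ_two, Matrix.vecMul, dotProduct, ← hc0] at e00 e10 <;>
        · have e1 : ε = 1 := mul_right_cancel₀ hcz (by rw [one_mul]; linear_combination -e10)
          rw [e1] at e00
          first | exact hcz (by linear_combination e00) | exact hcz (by linear_combination -e00)
      · right
        have aux : ∀ (V : S2), (V : M2) 1 0 = c → proj V * proj V = 1 →
            (proj V = 1 ∨ (proj X * proj V) ^ 3 = 1) → c * c = 1 ∧ (V : M2).trace = 0 := by
          intro V hV hsq hor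
          have hV1 : proj V ≠ 1 := fun e => hcz (hV ▸ (proj_one_entries e).2.1)
          have htv := ((proj_sq_iff V).1 hsq).resolve_right hV1
          have h' := hor.resolve_left hV1
          rw [← map_mul, proj_cube_iff, htm, htv, hV, zero_add] at h'
          exact ⟨h', htv⟩
        rcases (alt_transfer ψ hmX hmY).2 hx3 hx1 with ⟨a, b⟩ | ⟨a, b⟩ | ⟨a, b⟩
        · obtain ⟨hc1, ht⟩ := aux Y rfl a b
          exact ⟨hc1, by rw [ht0, ht]; ring⟩
        · rw [← map_mul] at a b
          obtain ⟨hc1, ht⟩ := aux (X * Y) (hlm Y) a b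
          rw [htm, ← ht0, ← hc0] at ht
          exact ⟨hc1, by linear_combination (t ^ 2 - t * c + c ^ 2 - 1) * ht - c * hc1⟩
        · rw [← map_mul, ← map_mul] at a b
          obtain ⟨hc1, ht⟩ := aux (X * X * Y) (by rw [mul_assoc, hlm, hlm]) a b
          rw [mul_assoc, htm, htm, hlm, ← ht0, ← hc0] at ht
          exact ⟨hc1, by linear_combination (t ^ 2 - 2 * t * c + 4 * c ^ 2 - 1) * ht - (8 * c) * hc1 - 2 * c * h3⟩
    · rintro (h | ⟨hc1, ht⟩)
      · exact sol_of_upper (by simp [hXc]) h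
      have fin : ∀ V : S2, Subgroup.closure ({proj X, proj Y} : Set G2) = Subgroup.closure {proj X, proj V} →
          (V : M2).trace = 0 → (V : M2) 1 0 * (V : M2) 1 0 = 1 → Sol (proj X) (proj Y) := by
        intro V hcl htv hcv
        refine sol_congr_closure hcl (sol_of_tetra hprop h4 hx3 ?_ ?_ ?_)
        · rw [proj_sq_iff]; exact Or.inl htv
        · intro e
          rw [(proj_one_entries e).2.1, mul_zero] at hcv
          exact zero_ne_one hcv
        · rw [← map_mul, proj_cube_iff, htm, htv, zero_add]; exact hcv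
      have clo : ∀ V : S2, proj V ∈ Subgroup.closure ({proj X, proj Y} : Set G2) →
          proj Y ∈ Subgroup.closure ({proj X, proj V} : Set G2) →
          Subgroup.closure ({proj X, proj Y} : Set G2) = Subgroup.closure {proj X, proj V} := by
        intro V h1 h2'
        refine le_antisymm ?_ ?_ <;> rw [Subgroup.closure_le] <;> rintro g (rfl | rfl)
        · exact Subgroup.subset_closure (Or.inl rfl)
        · exact h2'
        · exact Subgroup.subset_closure (Or.inl rfl)
        · exact h1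
      have hX' : ∀ Z : S2, proj X ∈ Subgroup.closure ({proj X, proj Z} : Set G2) := fun Z => Subgroup.subset_closure (Or.inl rfl)
      have hY' : ∀ Z : S2, proj Z ∈ Subgroup.closure ({proj X, proj Z} : Set G2) := fun Z => Subgroup.subset_closure (Or.inr rfl)
      have hcases : t = 0 ∨ t + c = 0 ∨ t + 2 * c = 0 := by
        have h0 : t * (t + c) * (t + 2 * c) = 0 := by linear_combination ht + 2 * t * hc1 + (t ^ 2 * c + t) * h3
        simpa [mul_eq_zero, or_assoc] using h0
      rcases hcases with h | h | h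
      · exact fin Y rfl h hc1
      · refine fin (X * Y) (clo _ ?_ ?_) (by rw [htm]; exact h) (by rw [hlm]; exact hc1)
        · rw [map_mul]; exact mul_mem (hX' Y) (hY' Y)
        · have := mul_mem (inv_mem (hX' (X * Y))) (hY' (X * Y))
          rwa [map_mul, inv_mul_cancel_left] at this
      · refine fin (X * X * Y) (clo _ ?_ ?_) (by rw [mul_assoc, htm, htm, hlm, add_assoc, ← two_mul]; exact h)
          (by rw [mul_assoc, hlm, hlm]; exact hc1)
        · rw [map_mul, map_mul]; exact mul_mem (mul_mem (hX' Y) (hX' Y)) (hY' Y)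
        · have := mul_mem (inv_mem (mul_mem (hX' (X * X * Y)) (hX' (X * X * Y)))) (hY' (X * X * Y))
          rwa [map_mul (proj) (X * X) Y, map_mul (proj) X X, inv_mul_cancel_left] at this
  rw [Nat.card_congr (Equiv.subtypeEquivRight key), card_or _ _ (fun Y h h' => by simp [h] at h'), card_upper]
  have e : {Y : S2 // (Y : M2) 1 0 * (Y : M2) 1 0 = 1 ∧ (Y : M2).trace ^ 3 = (Y : M2).trace} ≃
      F × {c : F // c * c = 1} × {t : F // t ^ 3 = t} :=
    { toFun := fun Y => ((Y.1 : M2) 0 0, ⟨_, Y.2.1⟩, ⟨_, Y.2.2⟩)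
      invFun := fun p => ⟨⟨!![p.1, (p.1 * (p.2.2.1 - p.1) - 1) * p.2.1.1; p.2.1.1, p.2.2.1 - p.1], by
        rw [Matrix.det_fin_two_of]; linear_combination (-(p.1 * (p.2.2.1 - p.1) - 1)) * p.2.1.2⟩,
        by simpa using p.2.1.2, by simpa [Matrix.trace_fin_two] using p.2.2.2⟩
      left_inv := fun Y => by
        refine Subtype.ext (ext_entries (by simp) ?_ (by simp) ?_)
        · simp [Matrix.trace_fin_two]
          linear_combination (Y.1 : M2) 1 0 * det_eq Y.1 + (Y.1 : M2) 0 1 * Y.2.1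
        · simp [Matrix.trace_fin_two]
      right_inv := fun p => by
        refine Prod.ext (by simp) (Prod.ext (Subtype.ext (by simp)) (Subtype.ext ?_))
        simp [Matrix.trace_fin_two] }
  rw [Nat.card_congr e, Nat.card_prod, Nat.card_prod]
  have hc2 : Nat.card {c : F // c * c = 1} = 2 := by
    rw [← card_center_two h2]
    have hz : Nat.card {c : F // c * c = 1} = Set.ncard ({1, -1} : Set F) := by
      rw [← Nat.card_coe_set_eq]
      exact Nat.card_congr (Equiv.subtypeEquivRight fun c => by simp [mul_self_eq_one_iff])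
    rw [hz, Set.ncard_pair (fun e => h2 (by linear_combination e)), card_center_two h2]
  have ht3 : Nat.card {t : F // t ^ 3 = t} = 3 := by
    have hz : Nat.card {t : F // t ^ 3 = t} = Set.ncard ({0, 1, -1} : Set F) := by
      rw [← Nat.card_coe_set_eq]
      refine Nat.card_congr (Equiv.subtypeEquivRight fun t => ?_)
      simp only [Set.mem_insert_iff, Set.mem_singleton_iff]
      constructor
      · intro h
        have : t * ((t - 1) * (t + 1)) = 0 := by linear_combination h
        simpa [mul_eq_zero, sub_eq_zero, add_eq_zero_iff_eq_neg] using this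
      · rintro (rfl | rfl | rfl) <;> ring
    rw [hz, Set.ncard_eq_three]
    exact ⟨0, 1, -1, zero_ne_one, fun e => one_ne_zero (α := F) (by linear_combination e),
      fun e => h2 (by linear_combination e), rfl⟩
  rw [hc2, ht3, Nat.card_eq_fintype_card]
  obtain ⟨k, hk⟩ : ∃ k, Fintype.card F = k + 1 := ⟨_, (Nat.succ_pred Fintype.card_ne_zero).symm⟩
  rw [hk, Nat.add_sub_cancel]; ring

theorem card_sol_invol_three :
    Nat.card {y // Sol (proj (SL2Two.g0 : S2)) y} = Fintype.card F * (Fintype.card F + 1) := by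
  obtain ⟨h3, h2, hq4, h4⟩ := char_three_facts hf hodd hF
  haveI : Fact (Nat.Prime 3) := ⟨Nat.prime_three⟩
  have hprop := hprop_of 3 f (Or.inr ⟨rfl, hodd⟩) hf hF
  set X : S2 := SL2Two.g0 with hX
  have hXc : (X : M2) = !![0, -1; 1, 0] := rfl
  have hx1 : proj X ≠ 1 := fun e => by
    have := (proj_one_entries e).2.1
    simp [hXc] at this
  have hxx : proj X * proj X = 1 := (proj_sq_iff X).2 (Or.inl SL2Two.trace_g0)
  have hxi : (proj X)⁻¹ = proj X := inv_eq_of_mul_eq_one_right hxx
  have htm : ∀ Y : S2, ((X * Y : S2) : M2).trace = (Y : M2) 0 1 - (Y : M2) 1 0 := fun Y => by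
    rw [trace_mul_left]; simp [hXc]; ring
  have hns : ∀ a b : F, a * a + b * b = 0 → a = 0 ∧ b = 0 := fun a b h => by
    by_cases hb : b = 0
    · subst hb; simp at h; exact ⟨h, rfl⟩
    · exfalso
      have : IsSquare (-1 : F) := ⟨a / b, by field_simp; linear_combination -h⟩
      exact absurd (FiniteField.isSquare_neg_one_iff.1 this) (by rw [hq4]; simp)
  have key : ∀ Y : S2, Sol (proj X) (proj Y) ↔
      (((Y : M2).trace = 0 ∨ ((Y : M2) 0 1 = (Y : M2) 1 0 ∧ (Y : M2).trace ≠ 0)) ∨
        (((Y : M2) 0 0 = (Y : M2) 1 1 ∧ (Y : M2) 0 1 + (Y : M2) 1 0 = 0) ∧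
          (Y : M2).trace ≠ 0 ∧ (Y : M2) 0 1 ≠ (Y : M2) 1 0)) ∨
        ((Y : M2).trace * (Y : M2).trace = 1 ∧ ((Y : M2) 0 1 - (Y : M2) 1 0) * ((Y : M2) 0 1 - (Y : M2) 1 0) = 1) := by
    intro Y
    have flat : ∀ A B C D : Prop, (A ∨ B ∨ C ∨ D) → ((A ∨ (B ∧ ¬A)) ∨ (C ∧ ¬A ∧ ¬B)) ∨ D := by tauto
    constructor
    · intro h
      apply flat
      have hcom : proj X * proj Y = proj Y * proj X →
          (Y : M2).trace = 0 ∨ ((Y : M2) 0 0 = (Y : M2) 1 1 ∧ (Y : M2) 0 1 + (Y : M2) 1 0 = 0) := by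
        intro e
        rw [← map_mul, ← map_mul] at e
        obtain ⟨ε, hε, hY⟩ := proj_eq_iff.1 e
        have e00 := hY 0 0; have e01 := hY 0 1
        simp [SL2.coe_mul', hXc, Matrix.mul_apply, Fin.sum_univ_two, Matrix.vecMul, dotProduct] at e00 e01
        rcases mul_self_eq_one_iff.1 hε with r | r <;> rw [r] at e00 e01
        · exact Or.inr ⟨by linear_combination -e01, by linear_combination -e00⟩
        · left; rw [trace_eq]; linear_combination e01
      rcases sol_cases 3 f (Or.inr ⟨rfl, hodd⟩) hf hF hx1 h with ⟨g, hgX, -⟩ | (⟨-, hc | hc | hc⟩ | hc) | ⟨-, H, ψ, hmX, hmY⟩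
      · exfalso
        rw [lower_conj] at hgX
        simp [hXc] at hgX
        obtain ⟨h00, h10⟩ := hns ((g : M2) 0 0) ((g : M2) 1 0) (by linear_combination hgX)
        have hd := det_eq g
        rw [h00, h10] at hd
        simp at hd
      · rcases (proj_sq_iff Y).1 hc with h' | h'
        · exact Or.inl h'
        · obtain ⟨h01, h10, h00⟩ := proj_one_entries h'
          exact Or.inr (Or.inr (Or.inl ⟨h00, by rw [h01, h10, add_zero]⟩))
      · rw [← map_mul, proj_sq_iff] at hc
        rcases hc with h' | h'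
        · rw [htm] at h'; exact Or.inr (Or.inl (sub_eq_zero.1 h'))
        · left
          obtain ⟨h01, h10, h00⟩ := proj_one_entries h'
          simp [SL2.coe_mul', hXc, Matrix.mul_apply, Fin.sum_univ_two, Matrix.vecMul, dotProduct] at h01 h10 h00
          rw [trace_eq]; linear_combination h10 + h01
      · exact (hcom hc).imp id fun h' => Or.inr (Or.inl h')
      · rw [hxi, or_self, mul_inv_eq_iff_eq_mul] at hc
        exact (hcom hc.symm).imp id fun h' => Or.inr (Or.inl h')
      · rcases (alt_transfer ψ hmX hmY).1 hxx hx1 with h' | ⟨h', h''⟩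
        · rcases (proj_sq_iff Y).1 h' with h' | h'
          · exact Or.inl h'
          · obtain ⟨h01, h10, h00⟩ := proj_one_entries h'
            exact Or.inr (Or.inr (Or.inl ⟨h00, by rw [h01, h10, add_zero]⟩))
        · rw [proj_cube_iff] at h'
          rw [← map_mul, proj_cube_iff, htm] at h''
          exact Or.inr (Or.inr (Or.inr ⟨h', h''⟩))
    · rintro (((h | ⟨h, -⟩) | ⟨⟨h, h'⟩, -⟩) | ⟨h, h'⟩)
      · exact sol_of_diPair hprop h4 hx1 (Or.inl ⟨hxx, Or.inl ((proj_sq_iff Y).2 (Or.inl h))⟩)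
      · refine sol_of_diPair hprop h4 hx1 (Or.inl ⟨hxx, Or.inr (Or.inl ?_)⟩)
        rw [← map_mul, proj_sq_iff, htm]; exact Or.inl (sub_eq_zero.2 h)
      · refine sol_of_comm hprop h4 hx1 ?_
        rw [← map_mul, ← map_mul]
        refine congrArg _ (ext_entries ?_ ?_ ?_ ?_) <;>
          simp [SL2.coe_mul', hXc, Matrix.mul_apply, Fin.sum_univ_two, Matrix.vecMul, dotProduct] <;>
          first | linear_combination h | linear_combination -h | linear_combination h' | linear_combination -h'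
      · refine sol_congr_closure (y' := proj Y) rfl ?_
        have hy3 : proj Y ^ 3 = 1 := (proj_cube_iff Y).2 h
        have hyx : (proj Y * proj X) ^ 3 = 1 := by
          have e : (proj X * proj Y) ^ 3 = 1 := by rw [← map_mul, proj_cube_iff, htm]; exact h'
          rw [show proj Y * proj X = (proj X)⁻¹ * (proj X * proj Y) * (proj X)⁻¹⁻¹ by group, conj_pow, e,
            mul_one, mul_inv_cancel]
        have := sol_of_tetra hprop h4 hy3 hxx hx1 hyx
        unfold Sol at this ⊢
        rwa [Set.pair_comm]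
  have hA : Nat.card {Y : S2 // (Y : M2).trace = 0} = Fintype.card F * (Fintype.card F - 1) :=
    (SL2Two.card_trace_zero h2).2 hq4
  have hA' : Nat.card {Y : S2 // (Y : M2) 0 1 = (Y : M2) 1 0} = Fintype.card F * (Fintype.card F - 1) := by
    rw [← hA]
    refine Nat.card_congr (Equiv.subtypeEquiv (Equiv.mulLeft X) fun Y => ?_)
    show _ ↔ ((X * Y : S2) : M2).trace = 0
    rw [htm, sub_eq_zero]
  have hAA : Nat.card {Y : S2 // (Y : M2) 0 1 = (Y : M2) 1 0 ∧ (Y : M2).trace = 0} = Fintype.card F + 1 := by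
    rw [← circle_card h2 hq4 (δ := -1) (by simp)]
    refine Nat.card_congr
      { toFun := fun Y => ⟨((Y.1 : M2) 0 0, (Y.1 : M2) 0 1), by
          have hd := det_eq Y.1; have ht := Y.2.2; rw [trace_eq] at ht; rw [← Y.2.1] at hd
          linear_combination -hd + (Y.1 : M2) 0 0 * ht⟩
        invFun := fun p => ⟨⟨!![p.1.1, p.1.2; p.1.2, -p.1.1], by
          rw [Matrix.det_fin_two_of]; linear_combination -p.2⟩, by simp, by simp [Matrix.trace_fin_two]⟩
        left_inv := fun Y => by
          refine Subtype.ext (ext_entries (by simp) (by simp) (by simpa using Y.2.1) ?_)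
          have ht := Y.2.2; rw [trace_eq] at ht
          simp; linear_combination -ht
        right_inv := fun p => by simp }
  have hsp := card_split (fun Y : S2 => (Y : M2) 0 1 = (Y : M2) 1 0) (fun Y : S2 => (Y : M2).trace = 0)
  rw [hA', hAA] at hsp
  have hC : Nat.card {Y : S2 // ((Y : M2) 0 0 = (Y : M2) 1 1 ∧ (Y : M2) 0 1 + (Y : M2) 1 0 = 0) ∧
      (Y : M2).trace ≠ 0 ∧ (Y : M2) 0 1 ≠ (Y : M2) 1 0} + 4 = Fintype.card F + 1 := by
    rw [← circle_one h2 hq4]
    have e : {Y : S2 // ((Y : M2) 0 0 = (Y : M2) 1 1 ∧ (Y : M2) 0 1 + (Y : M2) 1 0 = 0) ∧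
        (Y : M2).trace ≠ 0 ∧ (Y : M2) 0 1 ≠ (Y : M2) 1 0} ≃
        {p : F × F // p.1 * p.1 + p.2 * p.2 = 1 ∧ ¬ (p.1 = 0 ∨ p.2 = 0)} :=
      { toFun := fun Y => ⟨((Y.1 : M2) 0 0, (Y.1 : M2) 0 1), by
          have hd := det_eq Y.1
          linear_combination hd + (Y.1 : M2) 0 0 * Y.2.1.1 + (Y.1 : M2) 0 1 * Y.2.1.2, by
          rintro (e | e)
          · refine Y.2.2.1 ?_
            rw [trace_eq, ← Y.2.1.1]; simp only at e; rw [e, add_zero]
          · refine Y.2.2.2 ?_
            simp only at e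
            have := Y.2.1.2
            rw [e, zero_add] at this
            rw [e, this]⟩
        invFun := fun p => ⟨⟨!![p.1.1, p.1.2; -p.1.2, p.1.1], by
          rw [Matrix.det_fin_two_of]; linear_combination p.2.1⟩, by simp, by
          obtain ⟨ha, hb⟩ := not_or.1 p.2.2
          refine ⟨?_, ?_⟩
          · simp [Matrix.trace_fin_two]
            intro e; exact ha (by simpa [← two_mul, h2] using e)
          · simp
            intro e; exact hb (by
              have : (2 : F) * p.1.2 = 0 := by linear_combination e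
              simpa [h2] using this)⟩
        left_inv := fun Y => by
          refine Subtype.ext (ext_entries (by simp) (by simp) ?_ (by simpa using Y.2.1.1))
          simp; linear_combination -Y.2.1.2
        right_inv := fun p => by simp }
    rw [Nat.card_congr e, card_split (fun p : F × F => p.1 * p.1 + p.2 * p.2 = 1) (fun p => p.1 = 0 ∨ p.2 = 0),
      add_comm]
    congr 1
    rw [Nat.card_congr (Equiv.subtypeEquivRight (q := fun p : F × F => p ∈ ({(0, 1), (0, -1), (1, 0), (-1, 0)} : Set (F × F))) ?_)]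
    · show 4 = Nat.card ({(0, 1), (0, -1), (1, 0), (-1, 0)} : Set (F × F))
      have n1 : (1 : F) ≠ -1 := fun e => h2 (by linear_combination e)
      rw [Nat.card_coe_set_eq, Set.ncard_insert_of_notMem (by simp [n1]), Set.ncard_insert_of_notMem (by simp),
        Set.ncard_pair (by simp [n1])]
    · rintro ⟨u, w⟩
      simp only [Set.mem_insert_iff, Set.mem_singleton_iff, Prod.mk.injEq]
      constructor
      · rintro ⟨h, rfl | rfl⟩
        · rcases mul_self_eq_one_iff.1 (show w * w = 1 by linear_combination h) with e | e <;> simp [e]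
        · rcases mul_self_eq_one_iff.1 (show u * u = 1 by linear_combination h) with e | e <;> simp [e]
      · rintro (⟨rfl, rfl⟩ | ⟨rfl, rfl⟩ | ⟨rfl, rfl⟩ | ⟨rfl, rfl⟩) <;> simp
  have hT : Nat.card {Y : S2 // (Y : M2).trace * (Y : M2).trace = 1 ∧
      ((Y : M2) 0 1 - (Y : M2) 1 0) * ((Y : M2) 0 1 - (Y : M2) 1 0) = 1} = 4 * (Fintype.card F + 1) := by
    have e : {Y : S2 // (Y : M2).trace * (Y : M2).trace = 1 ∧
        ((Y : M2) 0 1 - (Y : M2) 1 0) * ((Y : M2) 0 1 - (Y : M2) 1 0) = 1} ≃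
        {t : F // t * t = 1} × {s : F // s * s = 1} × {p : F × F // p.1 * p.1 + p.2 * p.2 = 1} :=
      { toFun := fun Y => (⟨_, Y.2.1⟩, ⟨_, Y.2.2⟩,
          ⟨((Y.1 : M2) 0 0 + (Y.1 : M2).trace, (Y.1 : M2) 1 0 - ((Y.1 : M2) 0 1 - (Y.1 : M2) 1 0)), by
            have hd := det_eq Y.1
            have ht := Y.2.1; have hs := Y.2.2
            rw [trace_eq] at ht ⊢
            simp only
            linear_combination -hd + ht + hs + ((Y.1 : M2) 0 0 * (Y.1 : M2) 0 0 + (Y.1 : M2) 0 0 * (Y.1 : M2) 1 1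
              + (Y.1 : M2) 1 0 * (Y.1 : M2) 1 0 - (Y.1 : M2) 0 1 * (Y.1 : M2) 1 0) * h3⟩)
        invFun := fun p => ⟨⟨!![p.2.2.1.1 - p.1.1, p.2.2.1.2 + 2 * p.2.1.1; p.2.2.1.2 + p.2.1.1, 2 * p.1.1 - p.2.2.1.1], by
          rw [Matrix.det_fin_two_of]
          linear_combination -p.2.2.2 - 2 * p.1.2 - 2 * p.2.1.2 +
            (p.2.2.1.1 * p.1.1 - p.2.2.1.2 * p.2.1.1 - 2) * h3⟩, by
          simp [Matrix.trace_fin_two]; linear_combination p.1.2, by
          simp; linear_combination p.2.1.2⟩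
        left_inv := fun Y => by
          refine Subtype.ext (ext_entries ?_ ?_ ?_ ?_) <;> simp [Matrix.trace_fin_two] <;> ring
        right_inv := fun p => by
          refine Prod.ext (Subtype.ext ?_) (Prod.ext (Subtype.ext ?_) (Subtype.ext (Prod.ext ?_ ?_))) <;>
            simp [Matrix.trace_fin_two] <;> ring }
    have hc2 : Nat.card {c : F // c * c = 1} = 2 := by
      have hz : Nat.card {c : F // c * c = 1} = Set.ncard ({1, -1} : Set F) := by
        rw [← Nat.card_coe_set_eq]
        exact Nat.card_congr (Equiv.subtypeEquivRight fun c => by simp [mul_self_eq_one_iff])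
      rw [hz, Set.ncard_pair (fun e => h2 (by linear_combination e))]
    rw [Nat.card_congr e, Nat.card_prod, Nat.card_prod, hc2, circle_one h2 hq4]
    ring
  have hmain := card_proj_preimage (F := F) (Sol (proj X))
  rw [card_center_two h2, Nat.card_congr (Equiv.subtypeEquivRight key), card_or, card_or, card_or, hA, hT] at hmain
  · obtain ⟨k, hk⟩ : ∃ k, Fintype.card F = k + 1 := ⟨_, (Nat.succ_pred Fintype.card_ne_zero).symm⟩
    rw [hk, Nat.add_sub_cancel] at hmain hsp
    rw [hk] at hC ⊢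
    have e1 : (k + 1) * (k + 1 + 1) = (k + 1) * k + 2 * (k + 1) := by ring
    simp only [← ne_eq] at hsp
    omega
  · exact fun Y h h' => h'.2 h
  · rintro Y (h | ⟨h, -⟩) ⟨-, h', h''⟩
    · exact h' h
    · exact h'' h
  · rintro Y ((h | ⟨h, -⟩) | ⟨⟨h, h'⟩, hne, hne'⟩) ⟨ht, hs⟩
    · rw [h, mul_zero] at ht; exact zero_ne_one ht
    · rw [h, sub_self, mul_zero] at hs; exact zero_ne_one hs
    · rw [trace_eq] at ht
      exact h2 (by
        linear_combination -(4 : F) * det_eq Y + ht + hs - ((Y : M2) 0 0 - (Y : M2) 1 1) * h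
          - ((Y : M2) 0 1 + (Y : M2) 1 0) * h')

omit [CharP F 3] hf hodd hF

/-- Orders dividing `q - 1` or `q + 1` and the eigenvalues. -/
theorem torus_facts (ℓ : ℕ) [Fact ℓ.Prime] [CharP F ℓ] {X : S2} (hd : 2 < orderOf (proj X))
    (hq : orderOf (proj X) ∣ Fintype.card F - 1 ∨ orderOf (proj X) ∣ Fintype.card F + 1) :
    (X : M2).trace * (X : M2).trace ≠ 4 ∧ proj X * proj X ≠ 1 ∧ (ℓ = 3 → proj X ^ 3 ≠ 1) ∧
    (orderOf (proj X) ∣ Fintype.card F - 1 → ∃ l : Fˣ,
      Nonscalar ((dS l : S2) : M2) ∧ (X : M2).trace = ((dS l : S2) : M2).trace ∧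
      orderOf (proj (dS l)) = orderOf (proj X)) ∧
    (orderOf (proj X) ∣ Fintype.card F + 1 → ∀ l : F, l * l - (X : M2).trace * l + 1 ≠ 0) := by
  set d := orderOf (proj X) with hd0
  obtain ⟨n, -, hn⟩ := FiniteField.card F ℓ
  have hℓq : ℓ ∣ Fintype.card F := hn ▸ dvd_pow_self ℓ n.ne_zero
  have hpos := Fintype.card_pos (α := F)
  have hnℓ : ¬ ℓ ∣ d := fun h => by
    have h1 : ℓ ∣ 1 := by
      rcases hq with hq | hq
      · have := Nat.dvd_sub hℓq (h.trans hq)
        rwa [Nat.sub_sub_self (by omega)] at this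
      · exact (Nat.dvd_add_right hℓq).1 (h.trans hq)
    exact (Fact.out : ℓ.Prime).ne_one (Nat.dvd_one.1 h1)
  have hboth : d ∣ Fintype.card F - 1 → d ∣ Fintype.card F + 1 → False := fun h h' => by
    have := Nat.dvd_sub h' h
    rw [show Fintype.card F + 1 - (Fintype.card F - 1) = 2 by omega] at this
    have := Nat.le_of_dvd two_pos this
    omega
  have ht4 : (X : M2).trace * (X : M2).trace ≠ 4 := fun h => by
    rcases (Nat.dvd_prime Fact.out).1 (orderOf_dvd_of_pow_eq_one (PSLTwoCovering.proj_pow_char ℓ h)) with e | e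
    · rw [← hd0] at e; omega
    · exact hnℓ (dvd_of_eq (hd0.trans e).symm)
  have conj : ∀ l : F, l * l - (X : M2).trace * l + 1 = 0 → ∃ u : Fˣ, Nonscalar ((dS u : S2) : M2) ∧
      (X : M2).trace = ((dS u : S2) : M2).trace ∧ orderOf (proj (dS u)) = d := by
    intro l hl
    have hl0 : l ≠ 0 := fun e => by rw [e] at hl; simp at hl
    have htr : (X : M2).trace = ((dS (Units.mk0 l hl0) : S2) : M2).trace := by
      rw [dS_coe, Matrix.trace_fin_two_of]
      simp
      field_simp
      linear_combination -hl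
    have hns : Nonscalar ((dS (Units.mk0 l hl0) : S2) : M2) := PSLTwoCovering.nonscalar_of_trace (htr ▸ ht4)
    obtain ⟨α, hα⟩ := exists_aut (PSLTwoCovering.nonscalar_of_trace ht4) hns htr
    refine ⟨_, hns, htr, ?_⟩
    rw [hd0, ← hα]
    exact orderOf_injective α.toMonoidHom α.injective _
  refine ⟨ht4, fun h => ?_, fun h3 h => hnℓ ?_, fun h => ?_, fun h l hl => ?_⟩
  · rw [← pow_two] at h
    have := Nat.le_of_dvd two_pos (orderOf_dvd_of_pow_eq_one h)
    omega
  · subst h3
    rcases (Nat.dvd_prime Nat.prime_three).1 (orderOf_dvd_of_pow_eq_one h) with e | e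
    · rw [← hd0] at e; omega
    · exact dvd_of_eq (hd0.trans e).symm
  · rcases exists_root_or_pow X with ⟨l, hl⟩ | e
    · exact conj l hl
    · exact (hboth h (orderOf_dvd_of_pow_eq_one (by rw [← map_pow, e, map_one]))).elim
  · obtain ⟨u, -, -, ho⟩ := conj l hl
    refine hboth ?_ h
    rw [← ho]
    refine orderOf_dvd_of_pow_eq_one ?_
    have hu : u ^ (Fintype.card F - 1) = 1 := Units.ext (by
      simp [FiniteField.pow_card_sub_one_eq_one (u : F) u.ne_zero])
    rw [← map_pow, dS_pow, hu, dS_one, map_one]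

theorem card_sol_plus (ℓ : ℕ) {f : ℕ} [Fact ℓ.Prime] [CharP F ℓ] (hℓ : ℓ = 2 ∨ (ℓ = 3 ∧ Odd f)) (hf : f.Prime)
    (hF : Fintype.card F = ℓ ^ f) {X : S2} (hd : 2 < orderOf (proj X))
    (hq : orderOf (proj X) ∣ Fintype.card F - 1) :
    Nat.card (Subgroup.center S2) * Nat.card {y // Sol (proj X) y} = 2 * Fintype.card F * (Fintype.card F - 1) := by
  obtain ⟨ht4, -, -, hsplit, -⟩ := torus_facts ℓ hd (Or.inl hq)
  obtain ⟨l, hns, htr, ho⟩ := hsplit hq
  obtain ⟨-, h2, h3, -, -⟩ := torus_facts ℓ (X := dS l) (ho.symm ▸ hd) (Or.inl (ho.symm ▸ hq))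
  rw [card_sol_eq_of_trace (PSLTwoCovering.nonscalar_of_trace ht4) hns htr]
  exact card_sol_split ℓ f hℓ hf hF h2 h3

theorem card_sol_minus (ℓ : ℕ) {f : ℕ} [Fact ℓ.Prime] [CharP F ℓ] (hℓ : ℓ = 2 ∨ (ℓ = 3 ∧ Odd f)) (hf : f.Prime)
    (hF : Fintype.card F = ℓ ^ f) {X : S2} (hd : 2 < orderOf (proj X))
    (hq : orderOf (proj X) ∣ Fintype.card F + 1) :
    Nat.card {y // Sol (proj X) y} = 2 * ((Fintype.card F + 1) / Nat.gcd 2 (Fintype.card F - 1)) := by
  have h4 : 4 ≤ Fintype.card F := by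
    rw [hF]
    exact le_trans (by norm_num) ((Nat.pow_le_pow_left (Fact.out : ℓ.Prime).two_le 2).trans
      (Nat.pow_le_pow_right (Fact.out : ℓ.Prime).pos hf.two_le))
  obtain ⟨-, h2, h3, -, hno⟩ := torus_facts ℓ hd (Or.inr hq)
  rw [card_sol_nonsplit ℓ f hℓ hf hF (hno hq) h2 h3]
  congr 1
  set d := orderOf (proj X) with hd0
  have hdk : d ∣ (Fintype.card F + 1) / Nat.gcd 2 (Fintype.card F - 1) := by
    have hpow : X ^ (Fintype.card F + 1) = 1 := (exists_root_or_pow X).resolve_left fun ⟨l, hl⟩ => hno hq l hl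
    rcases (Nat.dvd_prime Nat.prime_two).1 (Nat.gcd_dvd_left 2 (Fintype.card F - 1)) with h | h
    · rw [h, Nat.div_one]; exact hq
    · rw [h]
      have h' := Nat.gcd_dvd_right 2 (Fintype.card F - 1)
      rw [h] at h'
      have h2F : (2 : F) ≠ 0 := by
        intro e
        have := (FiniteField.even_card_iff_char_two (F := F)).1
          (CharP.ringChar_of_prime_eq_zero Nat.prime_two (by exact_mod_cast e))
        omega
      refine orderOf_dvd_of_pow_eq_one ?_
      rw [← map_pow, SL2Two.proj_eq_one_iff, ← SL2Two.sq_eq_one_iff h2F, ← pow_add,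
        show (Fintype.card F + 1) / 2 + (Fintype.card F + 1) / 2 = Fintype.card F + 1 by omega, hpow]
  refine (Dickson.centralizer_card_of_order ℓ h4 (Dickson.ambient_pslF (F := F)) (Or.inr rfl) hd0.symm (by omega) hdk
    fun he he' => ?_).2 hd
  have := Nat.dvd_sub hq (he.trans (Nat.div_dvd_of_dvd (Nat.gcd_dvd_right _ _)))
  rw [show Fintype.card F + 1 - (Fintype.card F - 1) = 2 by omega] at this
  have := Nat.le_of_dvd two_pos this
  omega

end Cfsg.Agent.Classical.PSLTwoSol
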