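import Cfsg.Agent.Lib.Classical.DicksonSolvable
import Cfsg.Agent.Lib.Classical.DicksonClasses
import Cfsg.Agent.Lib.Classical.PSLTwoCovering
import Cfsg.Agent.Lib.Classical.PSLTwoAut
import Cfsg.Agent.Lib.Classical.SL2Subgroups

/-!
Pairs generating solvable subgroups of `PSL₂(q)` when all proper subgroups are solvable,
for `q = 2 ^ f` and `q = 3 ^ f` with `f` prime.
-/

set_option autoImplicit false
set_option linter.style.haveILetI false
set_option linter.unusedSectionVars false

open scoped MatrixGroups Classical Pointwise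
open Matrix OnePoint

noncomputable section

namespace Cfsg.Agent.Classical.PSLTwoSol

open Dickson SL2Two
open Cfsg.Agent.GL2 (Nonscalar nonscalar_iff)

variable {F : Type*} [Field F] [Fintype F]

local notation "G2" => Matrix.ProjectiveSpecialLinearGroup (Fin 2) F
local notation "S2" => Matrix.SpecialLinearGroup (Fin 2) F
local notation "M2" => Matrix (Fin 2) (Fin 2) F
local notation "KK" => AlgebraicClosure F

instance : Finite G2 := Finite.of_surjective _ SL2Two.proj_surjective

/-- `x` and `y` generate a solvable subgroup. -/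
def Sol (x y : G2) : Prop := Group.IsSolvable ↥(Subgroup.closure ({x, y} : Set G2))

/-! ### Small group lemmas -/

theorem dihedral_pair {n : ℕ} (a b : DihedralGroup n) :
    (a * a = 1 ∧ (b * b = 1 ∨ (a * b) * (a * b) = 1 ∨ a * b = b * a)) ∨
      b * a * b⁻¹ = a ∨ b * a * b⁻¹ = a⁻¹ := by
  rcases a with i | i <;> rcases b with j | j
  · right; left
    rw [mul_inv_eq_iff_eq_mul]
    simp [add_comm]
  · right; right
    rw [mul_inv_eq_iff_eq_mul]
    simp only [DihedralGroup.inv_r, DihedralGroup.r_mul_sr, DihedralGroup.sr_mul_r, sub_neg_eq_add]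
  · left
    refine ⟨by simp, Or.inr (Or.inl ?_)⟩
    simp
  · left
    exact ⟨by simp, Or.inl (by simp)⟩

set_option maxRecDepth 4000 in
theorem alt_four_invol : ∀ a b : alternatingGroup (Fin 4), a * a = 1 → a ≠ 1 →
    b * b = 1 ∨ (b ^ 3 = 1 ∧ (a * b) ^ 3 = 1) := by decide

set_option maxRecDepth 4000 in
theorem alt_four_three : ∀ a b : alternatingGroup (Fin 4), a ^ 3 = 1 → a ≠ 1 →
    ((b * b = 1 ∧ (b = 1 ∨ (a * b) ^ 3 = 1)) ∨
      ((a * b) * (a * b) = 1 ∧ (a * b = 1 ∨ (a * (a * b)) ^ 3 = 1)) ∨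
      ((a * a * b) * (a * a * b) = 1 ∧ (a * a * b = 1 ∨ (a * (a * a * b)) ^ 3 = 1))) := by decide

theorem card_preimage {A B : Type*} [Group A] [Group B] (f : A →* B) (hf : Function.Surjective f) (P : B → Prop) :
    Nat.card {a // P (f a)} = Nat.card f.ker * Nat.card {b // P b} := by
  choose σ hσ using hf
  rw [← Nat.card_prod]
  refine Nat.card_congr
    { toFun := fun a => (⟨(σ (f a.1))⁻¹ * a.1, by rw [MonoidHom.mem_ker, map_mul, map_inv, hσ, inv_mul_cancel]⟩, ⟨f a.1, a.2⟩)
      invFun := fun kb => ⟨σ kb.2.1 * kb.1.1, by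
        rw [map_mul, MonoidHom.mem_ker.1 kb.1.2, mul_one, hσ]; exact kb.2.2⟩
      left_inv := fun a => Subtype.ext (mul_inv_cancel_left _ _)
      right_inv := fun ⟨k, b⟩ => by
        have e : f (σ b.1 * k.1) = b.1 := by rw [map_mul, MonoidHom.mem_ker.1 k.2, mul_one, hσ]
        refine Prod.ext (Subtype.ext ?_) (Subtype.ext e)
        show (σ (f (σ b.1 * k.1)))⁻¹ * (σ b.1 * k.1) = k.1
        rw [e, inv_mul_cancel_left] }

theorem card_proj_preimage (P : G2 → Prop) :
    Nat.card {A : S2 // P (proj A)} = Nat.card (Subgroup.center S2) * Nat.card {y : G2 // P y} := by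
  rw [card_preimage proj SL2Two.proj_surjective, QuotientGroup.ker_mk']

theorem card_center_two (h2 : (2 : F) ≠ 0) : Nat.card (Subgroup.center S2) = 2 := by
  have : ((Subgroup.center S2 : Subgroup S2) : Set S2) = {1, negOne} := Set.ext fun g => SL2Two.mem_center_iff g
  show Nat.card ((Subgroup.center S2 : Subgroup S2) : Set S2) = 2
  rw [this, Nat.card_coe_set_eq, Set.ncard_pair (SL2Two.negOne_ne_one h2).symm]

theorem card_center_one (h2 : (2 : F) = 0) : Nat.card (Subgroup.center S2) = 1 := by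
  rw [Subgroup.card_eq_one, eq_bot_iff]
  exact fun g hg => Subgroup.mem_bot.2 (SL2Two.center_trivial h2 g hg)

theorem card_sol_congr (α : MulAut G2) (x : G2) : Nat.card {y // Sol (α x) y} = Nat.card {y // Sol x y} := by
  refine (Nat.card_congr (Equiv.subtypeEquiv α.toEquiv fun y => ?_)).symm
  have e : Subgroup.closure ({α x, α y} : Set G2) = (Subgroup.closure ({x, y} : Set G2)).map α.toMonoidHom := by
    rw [MonoidHom.map_closure, Set.image_pair]; rfl
  show Sol x y ↔ Sol (α x) (α y)
  unfold Sol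
  rw [e]
  let i := (Subgroup.closure ({x, y} : Set G2)).equivMapOfInjective α.toMonoidHom α.injective
  constructor
  · intro h; haveI := h
    exact solvable_of_solvable_injective (f := i.symm.toMonoidHom) i.symm.injective
  · intro h; haveI := h
    exact solvable_of_solvable_injective (f := i.toMonoidHom) i.injective

/-! ### Characteristic polynomials -/

theorem proj_sq_iff (Y : S2) : proj Y * proj Y = 1 ↔ (Y : M2).trace = 0 ∨ proj Y = 1 := by
  constructor
  · intro h
    by_cases h1 : proj Y = 1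
    · exact Or.inr h1
    left
    rw [← map_mul, SL2Two.proj_eq_one_iff] at h
    have hsq : (Y : M2) * (Y : M2) = (Y : M2).trace • (Y : M2) - 1 := by
      have := SL2.sq_eq (Y : M2)
      rwa [Y.2, one_smul] at this
    have hn := PSLTwoCovering.nonscalar_of_proj h1
    rcases h with h | h <;> have e := congrArg (fun A : S2 => (A : M2)) h <;>
      rw [SL2.coe_mul', hsq] at e
    · by_contra ht
      refine hn ⟨((Y : M2).trace)⁻¹ * 2, ?_⟩
      have e' : (Y : M2).trace • (Y : M2) = (2 : F) • (1 : M2) := by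
        rw [two_smul]; exact sub_eq_iff_eq_add.1 e
      have h2 := congrArg (fun A : M2 => ((Y : M2).trace)⁻¹ • A) e'
      simpa [smul_smul, ht] using h2
    · rw [SL2Two.coe_negOne, sub_eq_neg_self] at e
      rcases smul_eq_zero.1 e with h' | h'
      · exact h'
      · exact absurd ⟨(0 : F), by rw [h', zero_smul]⟩ hn
  · rintro (h | h)
    · rw [← map_mul, SL2Two.sq_of_trace_zero Y h, PSLTwoCovering.proj_negOne]
    · rw [h, one_mul]

theorem proj_cube_iff [CharP F 3] (Y : S2) :
    proj Y ^ 3 = 1 ↔ (Y : M2).trace * (Y : M2).trace = 1 := by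
  have h3 : (3 : F) = 0 := by exact_mod_cast CharP.cast_eq_zero F 3
  haveI : Fact (Nat.Prime 3) := ⟨Nat.prime_three⟩
  constructor
  · intro h
    have hsq : (Y : M2) * (Y : M2) = (Y : M2).trace • (Y : M2) - 1 := by
      have := SL2.sq_eq (Y : M2)
      rwa [Y.2, one_smul] at this
    rw [← map_pow, SL2Two.proj_eq_one_iff] at h
    have hc : (Y : M2) ^ 3 = ((Y : M2).trace * (Y : M2).trace - 1) • (Y : M2) - (Y : M2).trace • 1 := by
      rw [pow_succ, pow_two, hsq, sub_mul, smul_mul_assoc, hsq, smul_sub, smul_smul, one_mul, sub_smul, one_smul]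
      abel
    by_contra ht
    have ht' : (Y : M2).trace * (Y : M2).trace - 1 ≠ 0 := sub_ne_zero.2 ht
    have hs : ∃ a : F, (Y : M2) = a • (1 : M2) := by
      obtain ⟨s, hs⟩ : ∃ s : F, (Y : M2) ^ 3 = s • (1 : M2) := by
        rcases h with h | h <;> have e := congrArg (fun A : S2 => (A : M2)) h <;> rw [SL2.coe_pow'] at e
        · exact ⟨1, by rw [e, one_smul]; rfl⟩
        · exact ⟨-1, by rw [e, SL2Two.coe_negOne, neg_smul, one_smul]⟩
      refine ⟨((Y : M2).trace * (Y : M2).trace - 1)⁻¹ * (s + (Y : M2).trace), ?_⟩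
      have e' : ((Y : M2).trace * (Y : M2).trace - 1) • (Y : M2) = (s + (Y : M2).trace) • (1 : M2) := by
        rw [add_smul, ← hs, hc, sub_add_cancel]
      have h2 := congrArg (fun A : M2 => (((Y : M2).trace * (Y : M2).trace - 1))⁻¹ • A) e'
      simpa [smul_smul, ht'] using h2
    obtain ⟨a, ha⟩ := hs
    have hd := Y.2
    rw [ha, Matrix.det_smul, Matrix.det_one, mul_one, Fintype.card_fin] at hd
    apply ht
    rw [ha]
    simp [Matrix.trace_fin_two]
    linear_combination 4 * hd + h3
  · intro h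
    exact PSLTwoCovering.proj_pow_char 3 (by linear_combination h - h3)

theorem exists_root_or_pow (X₀ : S2) :
    (∃ l : F, l * l - (X₀ : M2).trace * l + 1 = 0) ∨ X₀ ^ (Fintype.card F + 1) = 1 := by
  by_contra hcon
  push Not at hcon
  obtain ⟨hno, hpow⟩ := hcon
  set t := (X₀ : M2).trace with ht
  apply hpow
  set P : Polynomial F := Polynomial.X ^ 2 - Polynomial.C t * Polynomial.X + 1 with hP
  have hdeg : P.natDegree = 2 := by rw [hP]; compute_degree!
  have hmon : P.Monic := by rw [hP]; monicity!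
  have hirr : Irreducible P := (Polynomial.irreducible_iff_roots_eq_zero_of_degree_le_three
    (by rw [hdeg]) (by rw [hdeg]; norm_num)).2 (Multiset.eq_zero_of_forall_notMem fun l hl => by
      rw [Polynomial.mem_roots hmon.ne_zero, Polynomial.IsRoot, hP] at hl
      simp at hl
      exact hno l (by linear_combination hl))
  obtain ⟨l, hl⟩ := IsAlgClosed.exists_aeval_eq_zero KK P (by
    rw [Polynomial.degree_eq_natDegree hmon.ne_zero, hdeg]; decide)
  have hmin : P = minpoly F l := minpoly.eq_of_irreducible_of_monic hirr hl hmon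
  have hlq : Polynomial.aeval (l ^ Fintype.card F) P = 0 := by
    rw [show l ^ Fintype.card F = FiniteField.frobeniusAlgHom F KK l from rfl, Polynomial.aeval_algHom_apply, hl,
      map_zero]
  rw [hP] at hl hlq
  simp at hl hlq
  have hne : l ^ Fintype.card F ≠ l := by
    intro e
    obtain ⟨a, ha⟩ := Dickson.mem_range_of_pow_card e
    exact hno a ((algebraMap F KK).injective (by
      rw [map_zero, map_add, map_sub, map_mul, map_mul, map_one, ha]; linear_combination hl))
  have hsum : l ^ Fintype.card F = algebraMap F KK t - l := by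
    have : (l ^ Fintype.card F - l) * (l ^ Fintype.card F + l - algebraMap F KK t) = 0 := by
      linear_combination hlq - hl
    linear_combination (mul_eq_zero.1 this).resolve_left (sub_ne_zero.2 hne)
  have hone : Polynomial.aeval l (Polynomial.X ^ (Fintype.card F + 1) - 1 : Polynomial F) = 0 := by
    simp [pow_succ, hsum]
    linear_combination -hl
  obtain ⟨Q, hQ⟩ := minpoly.dvd F l hone
  rw [← hmin] at hQ
  have hX : Polynomial.aeval (X₀ : M2) P = 0 := by
    have hsq := SL2.sq_eq (X₀ : M2)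
    rw [X₀.2, one_smul] at hsq
    rw [hP]
    simp only [map_add, map_sub, map_mul, Polynomial.aeval_X, Polynomial.aeval_C, map_one, pow_two, hsq,
      ← Algebra.smul_def, ← ht]
    abel
  have h0 := congrArg (Polynomial.aeval (X₀ : M2)) hQ
  rw [map_mul, hX, zero_mul] at h0
  simp [sub_eq_zero] at h0
  exact Subtype.ext (by rw [SL2.coe_pow', h0]; rfl)

/-! ### Solvable pairs -/

/-- The dihedral condition. -/
def DiPair (x y : G2) : Prop :=
  (x * x = 1 ∧ (y * y = 1 ∨ (x * y) * (x * y) = 1 ∨ x * y = y * x)) ∨ y * x * y⁻¹ = x ∨ y * x * y⁻¹ = x⁻¹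

/-- A common fixed rational point, in matrix terms. -/
def CommonFix (X Y : S2) : Prop :=
  ∃ h : S2, ((h⁻¹ * X * h : S2) : M2) 1 0 = 0 ∧ ((h⁻¹ * Y * h : S2) : M2) 1 0 = 0

theorem lower_conj (h Y : S2) : ((h⁻¹ * Y * h : S2) : M2) 1 0 =
    -(h : M2) 1 0 * ((Y : M2) 0 0 * (h : M2) 0 0 + (Y : M2) 0 1 * (h : M2) 1 0) +
      (h : M2) 0 0 * ((Y : M2) 1 0 * (h : M2) 0 0 + (Y : M2) 1 1 * (h : M2) 1 0) := by
  rw [SL2.coe_mul', SL2.coe_mul', Matrix.SpecialLinearGroup.coe_inv, Matrix.adjugate_fin_two]
  simp [Matrix.mul_apply, Fin.sum_univ_two, Matrix.vecMul, dotProduct]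
  ring

theorem emb_fix_infty_iff (A : S2) :
    emb (proj A) • (∞ : OnePoint KK) = ∞ ↔ (A : M2) 1 0 = 0 := by
  show ProjGenLinGroup.map (algebraMap F KK) (ProjGenLinGroup.mk (SpecialLinearGroup.toGL A)) • (∞ : OnePoint KK) = ∞ ↔ _
  rw [ProjGenLinGroup.map_mk, Dickson.mk_smul', smul_infty_eq_self_iff]
  show algebraMap F KK ((A : M2) 1 0) = 0 ↔ _
  rw [map_eq_zero_iff _ (algebraMap F KK).injective]

theorem sol_of_upper {X Y : S2} (hX : (X : M2) 1 0 = 0) (hY : (Y : M2) 1 0 = 0) : Sol (proj X) (proj Y) := by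
  set H := Subgroup.closure ({proj X, proj Y} : Set G2)
  have hle : H ≤ (MulAction.stabilizer (PGL(2, KK)) (∞ : OnePoint KK)).comap emb := by
    rw [Subgroup.closure_le]
    rintro g (rfl | rfl)
    · exact (emb_fix_infty_iff X).2 hX
    · exact (emb_fix_infty_iff Y).2 hY
  haveI : Group.IsSolvable (H.map emb) := isSolvable_fixing (H.map emb) (x := (∞ : OnePoint KK)) (by
    rintro _ ⟨g, hg, rfl⟩
    exact hle hg)
  exact solvable_of_solvable_injective (f := (H.equivMapOfInjective emb emb_injective).toMonoidHom)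
    (H.equivMapOfInjective emb emb_injective).injective

theorem psl_simple (h4 : 4 ≤ Fintype.card F) : IsSimpleGroup G2 := by
  refine PSL_simple (Or.inr ?_)
  by_contra hcon
  push Not at hcon
  have : Fintype.card F ≤ ({0, 1, -1} : Finset F).card := by
    rw [← Finset.card_univ]
    refine Finset.card_le_card fun a _ => ?_
    by_cases ha : a = 0
    · simp [ha]
    · rcases sq_eq_one_iff.1 (hcon a ha) with h | h <;> simp [h]
  have := this.trans Finset.card_le_three
  omega

variable (hprop : ∀ H : Subgroup (Matrix.ProjectiveSpecialLinearGroup (Fin 2) F), H ≠ ⊤ → Group.IsSolvable ↥H) (h4 : 4 ≤ Fintype.card F)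

include hprop h4

theorem sol_of_normal_abelian (N : Subgroup G2) (hN : N ≠ ⊥)
    (hcomm : ∀ a ∈ N, ∀ b ∈ N, a * b = b * a) {x y : G2}
    (hx : x ∈ Subgroup.normalizer (N : Set G2)) (hy : y ∈ Subgroup.normalizer (N : Set G2)) : Sol x y := by
  refine hprop _ fun htop => ?_
  have hnorm : Subgroup.normalizer (N : Set G2) = ⊤ := by
    rw [eq_top_iff, ← htop, Subgroup.closure_le]
    rintro g (rfl | rfl)
    · exact hx
    · exact hy
  haveI := Subgroup.normalizer_eq_top_iff.1 hnorm
  haveI := psl_simple h4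
  rcases Subgroup.Normal.eq_bot_or_eq_top (H := N) inferInstance with h | h
  · exact hN h
  · exact not_isSolvable_psl h4 (isSolvable_of_double_comm fun a b c d => by
      have e : ∀ u v : G2, u * v * u⁻¹ * v⁻¹ = 1 := fun u v => by
        rw [hcomm u (h ▸ Subgroup.mem_top u) v (h ▸ Subgroup.mem_top v)]; group
      simp [e, commutatorElement_def])

theorem sol_of_comm {x y : G2} (hx : x ≠ 1) (h : x * y = y * x) : Sol x y := by
  refine sol_of_normal_abelian hprop h4 (Subgroup.closure {x, y}) ?_ ?_ ?_ ?_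
  · intro e
    exact hx (Subgroup.mem_bot.1 (e ▸ Subgroup.subset_closure (Set.mem_insert x {y})))
  · intro a ha b hb
    have hc : Subgroup.closure ({x, y} : Set G2) ≤ Subgroup.centralizer (Subgroup.closure ({x, y} : Set G2) : Set G2) := by
      rw [Subgroup.closure_le, Subgroup.centralizer_closure]
      rintro g (rfl | rfl) k (rfl | rfl)
      · rfl
      · exact h.symm
      · exact h
      · rfl
    exact (Subgroup.mem_centralizer_iff.1 (hc ha) b hb).symm
  · exact Subgroup.le_normalizer (Subgroup.subset_closure (by simp))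
  · exact Subgroup.le_normalizer (Subgroup.subset_closure (by simp))

omit hprop h4 in
theorem mem_normalizer_zpowers {w g : G2} (h : g * w * g⁻¹ = w ∨ g * w * g⁻¹ = w⁻¹) :
    g ∈ Subgroup.normalizer (Subgroup.zpowers w : Set G2) := by
  have hle : (Subgroup.zpowers w).map (MulAut.conj g).toMonoidHom ≤ Subgroup.zpowers w := by
    rw [MonoidHom.map_zpowers, Subgroup.zpowers_le]
    show g * w * g⁻¹ ∈ _
    rcases h with h | h <;> rw [h]
    · exact Subgroup.mem_zpowers w
    · exact inv_mem (Subgroup.mem_zpowers w)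
  have heq : (Subgroup.zpowers w).map (MulAut.conj g).toMonoidHom = Subgroup.zpowers w :=
    Subgroup.eq_of_le_of_card_ge hle (le_of_eq (Subgroup.card_map_of_injective (MulAut.conj g).injective).symm)
  rw [Subgroup.mem_normalizer_iff]
  intro z
  constructor
  · intro hz
    exact heq ▸ Subgroup.mem_map_of_mem (MulAut.conj g).toMonoidHom hz
  · intro hz
    rw [← heq] at hz
    obtain ⟨u, hu, e⟩ := hz
    have : u = z := (MulAut.conj g).injective e
    exact this ▸ hu

omit hprop h4 in
theorem zpowers_comm (w a : G2) (ha : a ∈ Subgroup.zpowers w) (b : G2) (hb : b ∈ Subgroup.zpowers w) :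
    a * b = b * a := by
  obtain ⟨i, rfl⟩ := Subgroup.mem_zpowers_iff.1 ha
  obtain ⟨j, rfl⟩ := Subgroup.mem_zpowers_iff.1 hb
  rw [← _root_.zpow_add, ← _root_.zpow_add, add_comm]

theorem sol_of_diPair {x y : G2} (hx : x ≠ 1) (h : DiPair x y) : Sol x y := by
  rcases h with ⟨hx2, h | h | h⟩ | h
  · by_cases hxy : x * y = 1
    · exact sol_of_comm hprop h4 hx (by rw [hxy, mul_eq_one_comm.1 hxy])
    have hxi : x⁻¹ = x := inv_eq_of_mul_eq_one_right hx2
    have hyi : y⁻¹ = y := inv_eq_of_mul_eq_one_right h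
    refine sol_of_normal_abelian hprop h4 (Subgroup.zpowers (x * y)) (by simpa using hxy) (zpowers_comm _)
      (mem_normalizer_zpowers (Or.inr ?_)) (mem_normalizer_zpowers (Or.inr ?_))
    · rw [_root_.mul_inv_rev, hxi, hyi, ← mul_assoc x x y, hx2, one_mul]
    · rw [_root_.mul_inv_rev, hxi, hyi, mul_assoc, mul_assoc, h, mul_one]
  · by_cases hy : y = 1
    · exact sol_of_comm hprop h4 hx (by rw [hy, mul_one, one_mul])
    refine sol_of_normal_abelian hprop h4 (Subgroup.zpowers y) (by simpa using hy) (zpowers_comm _)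
      (mem_normalizer_zpowers (Or.inr ?_)) (Subgroup.le_normalizer (Subgroup.mem_zpowers y))
    rw [inv_eq_of_mul_eq_one_right hx2, eq_inv_iff_mul_eq_one, mul_assoc]
    rwa [mul_assoc] at h ⊢
  · exact sol_of_comm hprop h4 hx h
  · exact sol_of_normal_abelian hprop h4 (Subgroup.zpowers x) (by simpa using hx) (zpowers_comm _)
      (Subgroup.le_normalizer (Subgroup.mem_zpowers x)) (mem_normalizer_zpowers h)

theorem sol_of_tetra {x v : G2} (hx : x ^ 3 = 1) (hv : v * v = 1) (hv1 : v ≠ 1) (hxv : (x * v) ^ 3 = 1) :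
    Sol x v := by
  set w := x * v * x⁻¹ with hw
  have e1 : x * v * x * v * x * v = 1 := by
    rw [← hxv, pow_succ, pow_two]; group
  have hvi : v⁻¹ = v := inv_eq_of_mul_eq_one_right hv
  have hvw : v * w = w * v := by
    have e2 : (v * w) * (v * w) = 1 := by
      rw [hw, show x⁻¹ = x * x from inv_eq_of_mul_eq_one_right (by rw [← hx, pow_succ, pow_two]; group)]
      calc v * (x * v * (x * x)) * (v * (x * v * (x * x)))
          = v * x * v * (x * x * v * x * v) * (x * x) := by group
        _ = v * x * v * (x * (x * v * x * v * x * v) * v⁻¹ * x⁻¹) * (x * x) := by group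
        _ = v * x * v * x * v * x := by rw [e1, mul_one, hvi]; group
        _ = v * (x * v * x * v * x * v) * v⁻¹ := by group
        _ = 1 := by rw [e1, mul_one, mul_inv_cancel]
    have hwi : w⁻¹ = w := by rw [hw]; simp [_root_.mul_inv_rev, hvi, mul_assoc]
    have := inv_eq_of_mul_eq_one_right e2
    rw [_root_.mul_inv_rev, hvi, hwi] at this
    exact this.symm
  have e3 : x * w * x⁻¹ = v * w := by
    rw [hw]
    have hx1 : x⁻¹ = x * x := inv_eq_of_mul_eq_one_right (by rw [← hx, pow_succ, pow_two]; group)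
    calc x * (x * v * x⁻¹) * x⁻¹ = (x * x) * v * (x⁻¹ * x⁻¹) := by group
      _ = x⁻¹ * v * x := by
          rw [← hx1]
          congr 1
          rw [← _root_.mul_inv_rev, ← hx1, inv_inv]
      _ = (x⁻¹ * v * x⁻¹ * v⁻¹ * x⁻¹ * v⁻¹) * (v * (x * v * x⁻¹)) * (x * x * x) := by group
      _ = v * (x * v * x⁻¹) := by
          rw [hvi, show x * x * x = 1 by rw [← hx, pow_succ, pow_two],
            show x⁻¹ * v * x⁻¹ * v * x⁻¹ * v = (v * x * v * x * v * x)⁻¹ by
              simp [_root_.mul_inv_rev, hvi, mul_assoc],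
            show v * x * v * x * v * x = v * (x * v * x * v * x * v) * v⁻¹ by group, e1, mul_one, mul_one,
            mul_inv_cancel, inv_one, one_mul]
  have hN : ∀ g ∈ Subgroup.closure ({v, w} : Set G2), x * g * x⁻¹ ∈ Subgroup.closure ({v, w} : Set G2) := by
    intro g hg
    induction hg using Subgroup.closure_induction with
    | mem g hg =>
      rcases hg with rfl | rfl
      · exact Subgroup.subset_closure (Or.inr rfl)
      · rw [e3]; exact mul_mem (Subgroup.subset_closure (Or.inl rfl)) (Subgroup.subset_closure (Or.inr rfl))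
    | one => simp
    | mul a b _ _ ha hb => rw [show x * (a * b) * x⁻¹ = x * a * x⁻¹ * (x * b * x⁻¹) by group]; exact mul_mem ha hb
    | inv a _ ha => rw [show x * a⁻¹ * x⁻¹ = (x * a * x⁻¹)⁻¹ by group]; exact inv_mem ha
  refine sol_of_normal_abelian hprop h4 (Subgroup.closure {v, w}) ?_ ?_ ?_ ?_
  · intro e
    exact hv1 (Subgroup.mem_bot.1 (e ▸ Subgroup.subset_closure (Set.mem_insert v {w})))
  · intro a ha b hb
    have hc : Subgroup.closure ({v, w} : Set G2) ≤ Subgroup.centralizer (Subgroup.closure ({v, w} : Set G2) : Set G2) := by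
      rw [Subgroup.closure_le, Subgroup.centralizer_closure]
      rintro g (rfl | rfl) k (rfl | rfl)
      · rfl
      · exact hvw.symm
      · exact hvw
      · rfl
    exact (Subgroup.mem_centralizer_iff.1 (hc ha) b hb).symm
  · have hle : (Subgroup.closure ({v, w} : Set G2)).map (MulAut.conj x).toMonoidHom ≤ Subgroup.closure {v, w} := by
      rintro _ ⟨g, hg, rfl⟩; exact hN g hg
    have heq := Subgroup.eq_of_le_of_card_ge hle (le_of_eq (Subgroup.card_map_of_injective (MulAut.conj x).injective).symm)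
    rw [Subgroup.mem_normalizer_iff]
    intro z
    refine ⟨hN z, fun hz => ?_⟩
    rw [← heq] at hz
    obtain ⟨u, hu, e⟩ := hz
    have : u = z := (MulAut.conj x).injective e
    exact this ▸ hu
  · exact Subgroup.le_normalizer (Subgroup.subset_closure (Or.inl rfl))

omit hprop h4 in
theorem sol_congr_closure {x y y' : G2} (h : Subgroup.closure ({x, y} : Set G2) = Subgroup.closure {x, y'})
    (hs : Sol x y') : Sol x y := by
  unfold Sol at hs ⊢; rwa [h]

/-! ### The necessary condition -/

omit hprop h4 in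
theorem sol_cases (ℓ f : ℕ) [Fact ℓ.Prime] [CharP F ℓ] (hℓ : ℓ = 2 ∨ (ℓ = 3 ∧ Odd f)) (hf : f.Prime)
    (hF : Fintype.card F = ℓ ^ f) {X Y : S2} (hx : proj X ≠ 1) (hs : Sol (proj X) (proj Y)) :
    CommonFix X Y ∨ DiPair (proj X) (proj Y) ∨
      (ℓ = 3 ∧ ∃ (H : Subgroup G2) (_ : H ≃* alternatingGroup (Fin 4)), proj X ∈ H ∧ proj Y ∈ H) := by
  have h4 : 4 ≤ Fintype.card F := by
    rw [hF]
    exact le_trans (by norm_num) ((Nat.pow_le_pow_left (Fact.out : ℓ.Prime).two_le 2).trans
      (Nat.pow_le_pow_right (Fact.out : ℓ.Prime).pos hf.two_le))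
  set H := Subgroup.closure ({proj X, proj Y} : Set G2) with hH
  have hmX : proj X ∈ H := Subgroup.subset_closure (Or.inl rfl)
  have hmY : proj Y ∈ H := Subgroup.subset_closure (Or.inr rfl)
  set H' := H.map emb with hH'
  have hle : H' ≤ pslF F := by rintro _ ⟨g, -, rfl⟩; exact ⟨g, rfl⟩
  have e0 : H ≃* H' := H.equivMapOfInjective _ emb_injective
  haveI : Finite H' := Finite.of_equiv _ e0.toEquiv
  have hne : H' ≠ ⊥ := fun e => hx (by
    rw [hH', Subgroup.map_eq_bot_iff_of_injective _ emb_injective] at e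
    exact Subgroup.mem_bot.1 (e ▸ hmX))
  rcases sub_cases ℓ (pslF_le F) le_rfl (ambient_pslF (F := F)) h4 hle hne with
    ⟨z, ⟨_, ⟨g, rfl⟩, hgz⟩, hz⟩ | ⟨D, k, -, hHD, -, -, ⟨φ⟩⟩ | ⟨h2, h3, -⟩ | ⟨h2, h3, -⟩ | ⟨h2, h5, hd, -⟩ |
    ⟨K₀, c, -, hK₀, h3, -, hcase⟩
  · left
    obtain ⟨h, rfl⟩ := SL2Two.proj_surjective g
    refine ⟨h, ?_, ?_⟩ <;> rw [← emb_fix_infty_iff] <;> simp only [map_mul, map_inv, mul_smul, hgz] <;>
      rw [inv_smul_eq_iff] <;> simp only [hgz]
    · exact (hz (Subgroup.mem_map_of_mem emb hmX)).2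
    · exact (hz (Subgroup.mem_map_of_mem emb hmY)).2
  · right; left
    set j : H →* DihedralGroup k := φ.toMonoidHom.comp ((Subgroup.inclusion hHD).comp e0.toMonoidHom) with hj
    have hji : Function.Injective j := φ.injective.comp ((Subgroup.inclusion_injective hHD).comp e0.injective)
    have key := dihedral_pair (j ⟨_, hmX⟩) (j ⟨_, hmY⟩)
    simp only [← map_mul, ← map_inv, ← j.map_one, hji.eq_iff, Subtype.ext_iff, Subgroup.coe_mul, Subgroup.coe_inv,
      OneMemClass.coe_one] at key
    exact key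
  · rcases hℓ with h | ⟨h, -⟩
    · exact absurd h h2
    · exact absurd h h3
  · rcases hℓ with h | ⟨h, -⟩
    · exact absurd h h2
    · exact absurd h h3
  · exfalso
    rcases hℓ with h | ⟨rfl, hodd⟩
    · exact h2 h
    · obtain ⟨j, rfl⟩ := hodd
      have key : Fintype.card F ^ 2 - 1 = (Fintype.card F + 1) * (Fintype.card F - 1) := by
        simpa using Nat.sq_sub_sq (Fintype.card F) 1
      have h5' : 5 ∣ Fintype.card F ^ 2 - 1 := by
        rw [key]
        rcases hd with hd | hd
        · exact dvd_mul_of_dvd_right (hd.trans (Nat.div_dvd_of_dvd (Nat.gcd_dvd_right _ _))) _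
        · refine dvd_mul_of_dvd_left (hd.trans (Nat.div_dvd_of_dvd ?_)) _
          have h1 := Nat.gcd_dvd_right 2 (Fintype.card F - 1)
          rcases (Nat.dvd_prime Nat.prime_two).1 (Nat.gcd_dvd_left 2 (Fintype.card F - 1)) with h | h <;>
            rw [h] at h1 ⊢
          · exact one_dvd _
          · omega
      rw [hF, ← pow_mul, show (2 * j + 1) * 2 = 4 * j + 2 by ring, pow_add, pow_mul] at h5'
      have hm : (3 ^ 4) ^ j % 5 = 1 := by rw [Nat.pow_mod]; norm_num
      generalize (3 ^ 4) ^ j = Z at hm h5'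
      omega
  · obtain ⟨m, hm0, hm, -⟩ := card_eq_pow hK₀ le_rfl
    rw [card_fieldRange, hF] at hm
    obtain ⟨a, -, ha⟩ := (Nat.dvd_prime_pow (Fact.out : ℓ.Prime)).1 (hm ▸ dvd_pow_self (Nat.card K₀) hm0.ne')
    rw [ha, ← pow_mul] at hm
    have ham := Nat.pow_right_injective (Fact.out : ℓ.Prime).two_le hm
    rcases hf.eq_one_or_self_of_dvd a ⟨m, ham⟩ with rfl | rfl
    · rw [pow_one] at ha
      rcases hℓ with rfl | ⟨rfl, hodd⟩
      · omega
      right; right
      refine ⟨rfl, H, ?_, hmX, hmY⟩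
      have h12 : Nat.card H = 12 := by
        rw [Nat.card_congr e0.toEquiv]
        rw [ha] at hcase
        rcases hcase with ⟨hc, -⟩ | ⟨-, hc, -⟩ <;> norm_num at hc
        · exfalso
          have hG := SL2.card_PSL2_mul (F := F)
          have h24 : 24 ∣ Nat.card G2 := by
            rw [← show Nat.card H = 24 by rw [Nat.card_congr e0.toEquiv, hc]]
            exact Subgroup.card_subgroup_dvd_card H
          obtain ⟨i, hi⟩ := hodd
          subst hi
          have e3 : Fintype.card F % 2 = 1 := by rw [hF, Nat.pow_mod]; norm_num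
          have hg : Nat.gcd 2 (Fintype.card F - 1) = 2 := Nat.gcd_eq_left (by omega)
          have e9 : Fintype.card F ^ 2 % 16 = 9 := by
            rw [hF, ← pow_mul, show (2 * i + 1) * 2 = 4 * i + 2 by ring, pow_add, pow_mul, Nat.mul_mod, Nat.pow_mod]
            norm_num
          have h16 : 16 ∣ Fintype.card F * (Fintype.card F ^ 2 - 1) := by
            rw [← hG, hg]; omega
          have hco : Nat.Coprime 16 (Fintype.card F) :=
            Nat.Coprime.pow_left 4 (Nat.coprime_two_left.2 (Nat.odd_iff.2 e3))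
          have := hco.dvd_of_dvd_mul_left h16
          omega
        · omega
      refine (SL2Two.nonempty_alt_four h12 fun g hg => ?_).some
      rw [← Subgroup.orderOf_coe, ← orderOf_injective emb emb_injective] at hg
      have := order_cases 3 (ambient_pslF (F := F)) (g := emb (g : G2)) ⟨_, rfl⟩
      rw [hg] at this
      obtain ⟨hpe, hpe'⟩ := coprime_char 3 (ambient_pslF (F := F))
      rcases this with h | h | h
      · have := Nat.le_of_dvd (by norm_num) h; omega
      · exact hpe ((show 3 ∣ 6 by norm_num).trans h)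
      · exact hpe' ((show 3 ∣ 6 by norm_num).trans h)
    · exfalso
      rw [← hF] at ha
      have hG : Nat.card (pslF F) ≤ Nat.card H' := by
        rw [card_pslF]
        have hG := SL2.card_PSL2_mul (F := F)
        rw [ha] at hcase
        rcases hcase with ⟨hc, -⟩ | ⟨ho, hc, -⟩
        · rw [hc, ← hG]
          exact Nat.le_mul_of_pos_left _ (Nat.gcd_pos_of_pos_left _ (by norm_num))
        · have h2g : Nat.gcd 2 (Fintype.card F - 1) = 2 :=
            Nat.gcd_eq_left (by obtain ⟨j, hj⟩ := ho; omega)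
          rw [h2g] at hG
          omega
      have htop : H = ⊤ := by
        refine Subgroup.map_injective emb_injective ?_
        rw [← MonoidHom.range_eq_map]
        exact Subgroup.eq_of_le_of_card_ge hle hG
      apply not_isSolvable_psl h4
      have hs' : Group.IsSolvable H := hs
      rw [htop] at hs'
      haveI := hs'
      exact solvable_of_solvable_injective (f := (Subgroup.topEquiv (G := G2)).symm.toMonoidHom) (Subgroup.topEquiv (G := G2)).symm.injective

omit hprop h4 in
theorem hprop_of (ℓ f : ℕ) [Fact ℓ.Prime] [CharP F ℓ] (hℓ : ℓ = 2 ∨ (ℓ = 3 ∧ Odd f)) (hf : f.Prime)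
    (hF : Fintype.card F = ℓ ^ f) (H : Subgroup G2) (hH : H ≠ ⊤) : Group.IsSolvable H := by
  have h4 : 4 ≤ Fintype.card F := by
    rw [hF]
    exact le_trans (by norm_num) ((Nat.pow_le_pow_left (Fact.out : ℓ.Prime).two_le 2).trans
      (Nat.pow_le_pow_right (Fact.out : ℓ.Prime).pos hf.two_le))
  rcases solvable_cases ℓ h4 hH with h | ⟨h2, -, h5⟩ | ⟨K₀, hK₀, h4', hlt⟩
  · exact h
  · exfalso
    rcases hℓ with h | ⟨rfl, hodd⟩
    · exact h2 h
    · obtain ⟨j, rfl⟩ := hodd
      rw [hF, ← pow_mul, show (2 * j + 1) * 2 = 4 * j + 2 by ring, pow_add, pow_mul] at h5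
      have hm : (3 ^ 4) ^ j % 5 = 1 := by rw [Nat.pow_mod]; norm_num
      generalize (3 ^ 4) ^ j = Z at hm h5
      omega
  · exfalso
    obtain ⟨m, hm0, hm, -⟩ := card_eq_pow hK₀ le_rfl
    rw [card_fieldRange, hF] at hm
    obtain ⟨a, -, ha⟩ := (Nat.dvd_prime_pow (Fact.out : ℓ.Prime)).1 (hm ▸ dvd_pow_self (Nat.card K₀) hm0.ne')
    rw [ha, ← pow_mul] at hm
    have ham := Nat.pow_right_injective (Fact.out : ℓ.Prime).two_le hm
    rcases hf.eq_one_or_self_of_dvd a ⟨m, ham⟩ with rfl | rfl
    · rw [pow_one] at ha; rcases hℓ with rfl | ⟨rfl, -⟩ <;> omega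
    · rw [ha, hF] at hlt; omega

end Cfsg.Agent.Classical.PSLTwoSol
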