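import Mathlib
import Cfsg.Prelude.Def_ClassicalGeometry

/-!
Maximal parabolic subgroups of general linear groups.
-/

set_option autoImplicit false
set_option linter.style.haveILetI false
set_option linter.unusedSectionVars false

namespace Cfsg.Agent.Classical.Parabolic

open Matrix

variable {F : Type*} [Field F] [Finite F] {n : ℕ}

/-- The span of the first `k` coordinate vectors. -/
def std (F : Type*) [Field F] (n k : ℕ) : Submodule F (Fin n → F) where
  carrier := {v | ∀ i : Fin n, k ≤ (i : ℕ) → v i = 0}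
  zero_mem' := fun _ _ => rfl
  add_mem' := fun {a b} ha hb i hi => by simp [ha i hi, hb i hi]
  smul_mem' := fun c v hv i hi => by simp [hv i hi]

/-- Its stabiliser. -/
abbrev P (F : Type*) [Field F] (n k : ℕ) : Subgroup (GL (Fin n) F) :=
  Cfsg.stabilizing (Cfsg.glToMat (Fin n) F) {v : Fin n → F | ∀ i : Fin n, k ≤ (i : ℕ) → v i = 0}

theorem single_mem {k : ℕ} {i : Fin n} (hi : (i : ℕ) < k) (a : F) :
    (Pi.single i a : Fin n → F) ∈ std F n k := fun j hj => by
  rw [Pi.single_apply, if_neg (fun e => by subst e; omega)]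

theorem mulVec_injective (g : GL (Fin n) F) :
    Function.Injective fun v : Fin n → F => (g : Matrix (Fin n) (Fin n) F) *ᵥ v := by
  intro a b h
  have := congrArg (fun u => ((g⁻¹ : GL (Fin n) F) : Matrix (Fin n) (Fin n) F) *ᵥ u) h
  simpa [mulVec_mulVec] using this

theorem mem_iff_mapsTo {k : ℕ} (g : GL (Fin n) F) :
    g ∈ P F n k ↔ ∀ v ∈ std F n k, (g : Matrix (Fin n) (Fin n) F) *ᵥ v ∈ std F n k := by
  refine ⟨fun h v hv => (h v).1 hv, fun h v => ⟨h v, fun hv => ?_⟩⟩
  let f : std F n k → std F n k := fun u => ⟨_, h u u.2⟩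
  have hf : Function.Injective f := fun a b e =>
    Subtype.ext (mulVec_injective g (congrArg Subtype.val e))
  obtain ⟨u, hu⟩ := Finite.injective_iff_surjective.1 hf ⟨_, hv⟩
  have := mulVec_injective g (congrArg Subtype.val hu)
  exact this ▸ u.2

theorem mem_iff {k : ℕ} (g : GL (Fin n) F) :
    g ∈ P F n k ↔ ∀ i j : Fin n, k ≤ (i : ℕ) → (j : ℕ) < k → (g : Matrix (Fin n) (Fin n) F) i j = 0 := by
  rw [mem_iff_mapsTo]
  constructor
  · intro h i j hi hj
    have := h _ (single_mem hj 1) i hi
    simpa [mulVec_single] using this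
  · intro h v hv i hi
    show ∑ j, (g : Matrix (Fin n) (Fin n) F) i j * v j = 0
    refine Finset.sum_eq_zero fun j _ => ?_
    by_cases hj : (j : ℕ) < k
    · rw [h i j hi hj, zero_mul]
    · rw [hv j (by omega), mul_zero]

/-- Transvection as an element of the general linear group. -/
def t (i j : Fin n) (hij : i ≠ j) (c : F) : GL (Fin n) F :=
  GeneralLinearGroup.mkOfDetNeZero (Matrix.transvection i j c)
    (by rw [det_transvection_of_ne i j hij]; exact one_ne_zero)

theorem t_mem {k : ℕ} {i j : Fin n} (hij : i ≠ j) (c : F) (h : (i : ℕ) < k ∨ k ≤ (j : ℕ)) :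
    t i j hij c ∈ P F n k := by
  rw [mem_iff]
  intro a b ha hb
  show Matrix.transvection i j c a b = 0
  rw [transvection, Matrix.add_apply, one_apply_ne (fun e => by subst e; omega),
    Matrix.single_apply, if_neg, add_zero]
  rintro ⟨rfl, rfl⟩
  omega

theorem diag_mem {k : ℕ} (g : GL (Fin n) F)
    (hg : ∀ i j, i ≠ j → (g : Matrix (Fin n) (Fin n) F) i j = 0) : g ∈ P F n k := by
  rw [mem_iff]
  exact fun i j hi hj => hg i j fun e => by subst e; omega

theorem generate (H : Subgroup (GL (Fin n) F)) (ht : ∀ i j hij c, t i j hij c ∈ H)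
    (hd : ∀ g : GL (Fin n) F, (∀ i j, i ≠ j → (g : Matrix (Fin n) (Fin n) F) i j = 0) → g ∈ H) :
    H = ⊤ := by
  rw [eq_top_iff]
  intro g _
  have key : ∀ M : Matrix (Fin n) (Fin n) F, M.det ≠ 0 → ∀ g : GL (Fin n) F,
      (g : Matrix (Fin n) (Fin n) F) = M → g ∈ H := by
    intro M hM
    refine Matrix.diagonal_transvection_induction_of_det_ne_zero
      (fun M => ∀ g : GL (Fin n) F, (g : Matrix (Fin n) (Fin n) F) = M → g ∈ H) M hM ?_ ?_ ?_
    · intro D _ g hg
      exact hd g fun i j hij => by rw [hg, diagonal_apply_ne _ hij]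
    · intro tt g hg
      rw [show g = t tt.i tt.j tt.hij tt.c from Units.ext hg]
      exact ht _ _ _ _
    · intro A B hA hB hAP hBP g hg
      rw [show g = GeneralLinearGroup.mkOfDetNeZero A hA * GeneralLinearGroup.mkOfDetNeZero B hB
        from Units.ext hg]
      exact mul_mem (hAP _ rfl) (hBP _ rfl)
  exact key _ (IsUnit.ne_zero ((Matrix.isUnit_iff_isUnit_det _).1 g.isUnit)) g rfl

theorem ne_top {k : ℕ} (hk0 : 0 < k) (hkn : k < n) : P F n k ≠ ⊤ := by
  intro h
  have hm : t (⟨k, hkn⟩ : Fin n) ⟨0, by omega⟩ (by rw [Ne, Fin.ext_iff]; simp; omega) (1 : F) ∈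
      P F n k := h ▸ Subgroup.mem_top _
  have := (mem_iff _).1 hm ⟨k, hkn⟩ ⟨0, by omega⟩ le_rfl hk0
  simp [t, transvection, one_apply_ne (show (⟨k, hkn⟩ : Fin n) ≠ ⟨0, by omega⟩ by
    rw [Ne, Fin.ext_iff]; simp; omega)] at this

theorem isCoatom {k : ℕ} (hk0 : 0 < k) (hkn : k < n) : IsCoatom (P F n k) := by
  classical
  refine ⟨ne_top hk0 hkn, fun H hH => ?_⟩
  obtain ⟨g, hgH, hgP⟩ := SetLike.exists_of_lt hH
  have hgP' : g⁻¹ ∉ P F n k := fun e => hgP (inv_mem_iff.1 e)
  rw [mem_iff] at hgP hgP'
  simp only [not_forall] at hgP hgP'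
  obtain ⟨a', a, ha', ha, hga⟩ := hgP
  obtain ⟨b, b', hb, hb', hgb⟩ := hgP'
  refine generate H (fun i j hij c => ?_) (fun g hg => hH.le (diag_mem g hg))
  by_cases hij' : (i : ℕ) < k ∨ k ≤ (j : ℕ)
  · exact hH.le (t_mem hij c hij')
  simp only [not_or, not_lt, not_le] at hij'
  obtain ⟨hi, hj⟩ := hij'
  have hab : a ≠ b := fun e => by subst e; omega
  have hτ : g * t a b hab c * g⁻¹ ∈ H :=
    mul_mem (mul_mem hgH (hH.le (t_mem hab c (Or.inl ha)))) (inv_mem hgH)
  set x : Fin n → F := fun l => (g : Matrix (Fin n) (Fin n) F) l a with hx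
  set φ : Fin n → F := fun l => ((g⁻¹ : GL (Fin n) F) : Matrix (Fin n) (Fin n) F) b l with hφ
  have hφx : φ ⬝ᵥ x = 0 := by
    have : (((g⁻¹ : GL (Fin n) F) : Matrix (Fin n) (Fin n) F) * (g : Matrix (Fin n) (Fin n) F)) b a = 0 := by
      rw [← Units.val_mul, inv_mul_cancel, Units.val_one, one_apply_ne (Ne.symm hab)]
    exact this
  have hxW : x a' ≠ 0 := hga
  have hφW : φ b' ≠ 0 := hgb
  -- a basis change in the parabolic subgroup, exchanging the coordinates of `x` and `φ` with `i`, `j`
  obtain ⟨p, hp, hpi, hpj⟩ : ∃ p : GL (Fin n) F, p ∈ P F n k ∧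
      (∀ l, (p : Matrix (Fin n) (Fin n) F) l i = x l) ∧
      (∀ l, (φ ᵥ* (p : Matrix (Fin n) (Fin n) F)) l = if l = j then 1 else 0) := by
    let σ : Equiv.Perm (Fin n) := Equiv.swap i a' * Equiv.swap j b'
    have hσi : σ i = a' := by
      simp [σ, Equiv.swap_apply_of_ne_of_ne hij (show i ≠ b' by rw [Ne, Fin.ext_iff]; omega)]
    have hσj : σ j = b' := by
      simp [σ, Equiv.swap_apply_of_ne_of_ne (show b' ≠ i by rw [Ne, Fin.ext_iff]; omega)
        (show b' ≠ a' by rw [Ne, Fin.ext_iff]; omega)]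
    have hσk : ∀ l, (σ l : ℕ) < k ↔ (l : ℕ) < k := by
      intro l
      simp only [σ, Equiv.Perm.mul_apply, Equiv.swap_apply_def]
      split_ifs <;> subst_vars <;> simp_all <;> omega
    -- columns
    let cj : Fin n → F := Pi.single b' (φ b')⁻¹
    let col : Fin n → (Fin n → F) := fun l =>
      if l = i then x else if l = j then cj else Pi.single (σ l) 1 - (φ (σ l)) • cj
    have hdot : ∀ l, φ ⬝ᵥ col l = if l = j then 1 else 0 := by
      intro l
      simp only [col]
      by_cases hli : l = i
      · subst hli; rw [if_pos rfl, hφx, if_neg hij]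
      · by_cases hlj : l = j
        · subst hlj
          rw [if_neg hli, if_pos rfl, if_pos rfl, dotProduct_single, mul_inv_cancel₀ hφW]
        · rw [if_neg hli, if_neg hlj, if_neg hlj, dotProduct_sub, dotProduct_single,
            dotProduct_smul, dotProduct_single, mul_inv_cancel₀ hφW, smul_eq_mul]
          simp
    have hind : LinearIndependent F col := by
      rw [Fintype.linearIndependent_iff]
      intro e he
      have hj0 : e j = 0 := by
        have := congrArg (φ ⬝ᵥ ·) he
        simp only [dotProduct_sum, dotProduct_smul, hdot, dotProduct_zero, smul_eq_mul,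
          mul_ite, mul_one, mul_zero, Finset.sum_ite_eq', Finset.mem_univ, if_true] at this
        exact this
      have hcoord : ∀ r, ∑ l, e l * col l r = 0 := fun r => by
        have := congrFun he r
        simpa [Finset.sum_apply] using this
      have hi0 : e i = 0 := by
        have h1 := hcoord a'
        rw [Finset.sum_eq_single i (fun l _ hl => ?_) (by simp)] at h1
        · simp only [col, if_pos] at h1
          exact (mul_eq_zero.1 h1).resolve_right hxW
        · simp only [col, if_neg hl]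
          by_cases hlj : l = j
          · simp [hlj, hj0]
          · have h1 : σ l ≠ a' := fun e => hl (σ.injective (e.trans hσi.symm))
            have h2 : a' ≠ b' := by rw [Ne, Fin.ext_iff]; omega
            simp [hlj, cj, h1.symm, h2]
      intro l
      by_cases hli : l = i
      · subst hli; exact hi0
      by_cases hlj : l = j
      · subst hlj; exact hj0
      have h1 := hcoord (σ l)
      rw [Finset.sum_eq_single l (fun m _ hm => ?_) (by simp)] at h1
      · have h2 : σ l ≠ b' := fun e => hlj (σ.injective (e.trans hσj.symm))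
        simpa [col, hli, hlj, cj, h2] using h1
      · by_cases hmi : m = i
        · simp [hmi, hi0]
        by_cases hmj : m = j
        · simp [hmj, hj0]
        have h2 : σ l ≠ b' := fun e => hlj (σ.injective (e.trans hσj.symm))
        have h3 : σ l ≠ σ m := fun e => hm (σ.injective e).symm
        simp [col, hmi, hmj, cj, h2, h3]
    let M : Matrix (Fin n) (Fin n) F := Matrix.of fun r l => col l r
    have hM : IsUnit M := by
      rw [← Matrix.linearIndependent_cols_iff_isUnit]
      exact hind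
    refine ⟨hM.unit, ?_, fun l => by simp [M, col], fun l => ?_⟩
    · rw [mem_iff]
      intro r l hr hl
      have hli : l ≠ i := fun e => by subst e; omega
      have hrb : r ≠ b' := fun e => by subst e; omega
      show col l r = 0
      simp only [col, if_neg hli]
      split_ifs with hlj
      · simp [cj, hrb]
      · have : r ≠ σ l := fun e => by have := (hσk l).2 hl; rw [← e] at this; omega
        simp [cj, hrb, this]
    · rw [← hdot l]
      rfl
  have hfinal : p⁻¹ * (g * t a b hab c * g⁻¹) * p = t i j hij c := by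
    rw [mul_assoc p⁻¹, inv_mul_eq_iff_eq_mul]
    refine Units.ext ?_
    have hLm : ((g * t a b hab c * g⁻¹ : GL (Fin n) F) : Matrix (Fin n) (Fin n) F) =
        1 + c • vecMulVec x φ := by
      rw [Units.val_mul, Units.val_mul]
      show (g : Matrix (Fin n) (Fin n) F) * Matrix.transvection a b c *
        ((g⁻¹ : GL (Fin n) F) : Matrix (Fin n) (Fin n) F) = _
      rw [transvection, mul_add, add_mul, mul_one, ← Units.val_mul, mul_inv_cancel, Units.val_one]
      congr 1
      ext r s
      rw [mul_apply, Finset.sum_eq_single b (fun l _ hl => by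
        rw [mul_apply, Finset.sum_eq_zero (fun m _ => by simp [Ne.symm hl]), zero_mul]) (by simp),
        mul_apply, Finset.sum_eq_single a (fun m _ hm => by simp [Ne.symm hm]) (by simp)]
      simp [vecMulVec, x, φ]
      ring
    rw [Units.val_mul (g * t a b hab c * g⁻¹) p, hLm, Units.val_mul p]
    show _ = (p : Matrix (Fin n) (Fin n) F) * Matrix.transvection i j c
    rw [transvection, mul_add, mul_one, add_mul, one_mul, smul_mul, vecMulVec_mul]
    congr 1
    ext r s
    rw [Matrix.smul_apply, vecMulVec_apply, hpj,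
      mul_apply, Finset.sum_eq_single i (fun m _ hm => by simp [Ne.symm hm]) (by simp), hpi]
    by_cases hs : s = j
    · subst hs; simp; ring
    · simp [hs, Ne.symm hs]
  rw [← hfinal]
  exact mul_mem (mul_mem (inv_mem (hH.le hp)) hτ) (hH.le hp)

theorem finrank_std {k : ℕ} (hk : k ≤ n) : Module.finrank F (std F n k) = k := by
  let f : std F n k ≃ₗ[F] (Fin k → F) :=
    { toFun := fun v i => (v : Fin n → F) (Fin.castLE hk i)
      map_add' := fun _ _ => rfl
      map_smul' := fun _ _ => rfl
      invFun := fun w => ⟨fun i => if h : (i : ℕ) < k then w ⟨i, h⟩ else 0,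
        fun i hi => dif_neg (by omega)⟩
      left_inv := fun v => Subtype.ext (funext fun i => by
        by_cases h : (i : ℕ) < k
        · simp [h]
        · simp [h, v.2 i (by omega)])
      right_inv := fun w => funext fun i => by simp }
  rw [f.finrank_eq, Module.finrank_pi, Fintype.card_fin]

/-- The only invariant subspaces of a parabolic are the obvious ones. -/
theorem invariant_cases {k : ℕ} (X : Submodule F (Fin n → F))
    (hX : ∀ g ∈ P F n k, ∀ v ∈ X, (g : Matrix (Fin n) (Fin n) F) *ᵥ v ∈ X) :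
    X = ⊥ ∨ X = std F n k ∨ X = ⊤ := by
  classical
  have hmove : ∀ v ∈ X, ∀ i j : Fin n, i ≠ j → v j ≠ 0 → ((i : ℕ) < k ∨ k ≤ (j : ℕ)) →
      (Pi.single i 1 : Fin n → F) ∈ X := by
    intro v hv i j hij hvj h
    have h1 := hX _ (t_mem hij (1 : F) h) v hv
    have h2 : (t i j hij (1 : F) : Matrix (Fin n) (Fin n) F) *ᵥ v = v + Pi.single i (v j) := by
      show Matrix.transvection i j (1 : F) *ᵥ v = _
      rw [transvection, add_mulVec, one_mulVec, single_mulVec, Pi.single, one_mul]
    rw [h2] at h1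
    have h3 := X.smul_mem (v j)⁻¹ (sub_mem h1 hv)
    rwa [add_sub_cancel_left, ← Pi.single_smul, smul_eq_mul, inv_mul_cancel₀ hvj] at h3
  by_cases hbot : X = ⊥
  · exact Or.inl hbot
  right
  by_cases hle : X ≤ std F n k
  · left
    refine le_antisymm hle fun w hw => ?_
    obtain ⟨v, hv, hv0⟩ := Submodule.exists_mem_ne_zero_of_ne_bot hbot
    obtain ⟨j, hj⟩ := Function.ne_iff.1 hv0
    have hjk : (j : ℕ) < k := by
      by_contra h
      exact hj (hle hv j (by omega))
    have hne : ∀ i : Fin n, i ≠ j → (i : ℕ) < k → (Pi.single i 1 : Fin n → F) ∈ X :=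
      fun i hij hik => hmove v hv i j hij hj (Or.inl hik)
    have hjj : (Pi.single j 1 : Fin n → F) ∈ X := by
      have hs : v = ∑ i, v i • (Pi.single i 1 : Fin n → F) := by
        funext l; simp [Finset.sum_apply, Pi.single_apply]
      have hrest : ∑ i ∈ Finset.univ.erase j, v i • (Pi.single i 1 : Fin n → F) ∈ X :=
        sum_mem fun i hi => by
          by_cases hik : (i : ℕ) < k
          · exact X.smul_mem _ (hne i (Finset.ne_of_mem_erase hi) hik)
          · rw [hle hv i (by omega), zero_smul]; exact X.zero_mem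
      rw [← Finset.add_sum_erase _ _ (Finset.mem_univ j)] at hs
      have h3 := X.smul_mem (v j)⁻¹ (sub_mem hv hrest)
      rw [show v - ∑ i ∈ Finset.univ.erase j, v i • (Pi.single i 1 : Fin n → F) =
        v j • (Pi.single j 1 : Fin n → F) from sub_eq_iff_eq_add.2 hs, smul_smul,
        inv_mul_cancel₀ hj, one_smul] at h3
      exact h3
    rw [show w = ∑ i, w i • (Pi.single i 1 : Fin n → F) by
      funext l; simp [Finset.sum_apply, Pi.single_apply]]
    refine sum_mem fun i _ => ?_
    by_cases hik : (i : ℕ) < k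
    · by_cases hij : i = j
      · subst hij; exact X.smul_mem _ hjj
      · exact X.smul_mem _ (hne i hij hik)
    · rw [hw i (by omega), zero_smul]; exact X.zero_mem
  · right
    obtain ⟨v, hv, hvs⟩ := SetLike.not_le_iff_exists.1 hle
    have hvs' : ∃ j : Fin n, k ≤ (j : ℕ) ∧ v j ≠ 0 := by
      by_contra h
      simp only [not_exists, not_and, not_not] at h
      exact hvs fun j hj => h j hj
    obtain ⟨j, hjk, hj⟩ := hvs'
    have hne : ∀ i : Fin n, i ≠ j → (Pi.single i 1 : Fin n → F) ∈ X :=
      fun i hij => hmove v hv i j hij hj (Or.inr hjk)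
    have hjj : (Pi.single j 1 : Fin n → F) ∈ X := by
      have hs : v = ∑ i, v i • (Pi.single i 1 : Fin n → F) := by
        funext l; simp [Finset.sum_apply, Pi.single_apply]
      have hrest : ∑ i ∈ Finset.univ.erase j, v i • (Pi.single i 1 : Fin n → F) ∈ X :=
        sum_mem fun i hi => X.smul_mem _ (hne i (Finset.ne_of_mem_erase hi))
      rw [← Finset.add_sum_erase _ _ (Finset.mem_univ j)] at hs
      have h3 := X.smul_mem (v j)⁻¹ (sub_mem hv hrest)
      rw [show v - ∑ i ∈ Finset.univ.erase j, v i • (Pi.single i 1 : Fin n → F) =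
        v j • (Pi.single j 1 : Fin n → F) from sub_eq_iff_eq_add.2 hs, smul_smul,
        inv_mul_cancel₀ hj, one_smul] at h3
      exact h3
    refine eq_top_iff.2 fun w _ => ?_
    rw [show w = ∑ i, w i • (Pi.single i 1 : Fin n → F) by
      funext l; simp [Finset.sum_apply, Pi.single_apply]]
    refine sum_mem fun i _ => X.smul_mem _ ?_
    by_cases hij : i = j
    · subst hij; exact hjj
    · exact hne i hij

theorem not_conj {k l : ℕ} (hk0 : 0 < k) (hkn : k < n) (hl : l ≤ n) (hkl : k ≠ l)
    (g : GL (Fin n) F) : (P F n k).map (MulAut.conj g).toMonoidHom ≠ P F n l := by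
  intro h
  let X : Submodule F (Fin n → F) := (std F n k).map (g : Matrix (Fin n) (Fin n) F).mulVecLin
  have hdim : Module.finrank F X = k := by
    rw [← (Submodule.equivMapOfInjective _ (show Function.Injective
      (g : Matrix (Fin n) (Fin n) F).mulVecLin from mulVec_injective g) _).finrank_eq,
      finrank_std hkn.le]
  have hinv : ∀ u ∈ P F n l, ∀ v ∈ X, (u : Matrix (Fin n) (Fin n) F) *ᵥ v ∈ X := by
    intro u hu v hv
    rw [← h] at hu
    obtain ⟨p, hp, rfl⟩ := hu
    obtain ⟨w, hw, rfl⟩ := hv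
    refine ⟨(p : Matrix (Fin n) (Fin n) F) *ᵥ w, (mem_iff_mapsTo p).1 hp w hw, ?_⟩
    simp [mulVec_mulVec, Matrix.mul_assoc]
  rcases invariant_cases X hinv with e | e | e <;> rw [e] at hdim
  · rw [finrank_bot] at hdim; omega
  · rw [finrank_std hl] at hdim; omega
  · rw [finrank_top, Module.finrank_pi, Fintype.card_fin] at hdim; omega

/-- Inverse transpose composed with reversal of the coordinates. -/
theorem nonempty_equiv {k : ℕ} (hkn : k ≤ n) : Nonempty (P F n k ≃* P F n (n - k)) := by
  let r : Equiv.Perm (Fin n) := Fin.revPerm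
  let f : GL (Fin n) F ≃* GL (Fin n) F :=
    { toFun := fun g => ⟨((g⁻¹ : GL (Fin n) F) : Matrix (Fin n) (Fin n) F)ᵀ.submatrix r r,
        (g : Matrix (Fin n) (Fin n) F)ᵀ.submatrix r r,
        by rw [submatrix_mul_equiv, ← transpose_mul, ← Units.val_mul, mul_inv_cancel]; simp,
        by rw [submatrix_mul_equiv, ← transpose_mul, ← Units.val_mul, inv_mul_cancel]; simp⟩
      invFun := fun g => ⟨((g⁻¹ : GL (Fin n) F) : Matrix (Fin n) (Fin n) F)ᵀ.submatrix r r,
        (g : Matrix (Fin n) (Fin n) F)ᵀ.submatrix r r,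
        by rw [submatrix_mul_equiv, ← transpose_mul, ← Units.val_mul, mul_inv_cancel]; simp,
        by rw [submatrix_mul_equiv, ← transpose_mul, ← Units.val_mul, inv_mul_cancel]; simp⟩
      left_inv := fun g => Units.ext (by
        ext a b
        show (g : Matrix (Fin n) (Fin n) F) (r (r a)) (r (r b)) = _
        simp [r])
      right_inv := fun g => Units.ext (by
        ext a b
        show (g : Matrix (Fin n) (Fin n) F) (r (r a)) (r (r b)) = _
        simp [r])
      map_mul' := fun g h => Units.ext (by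
        show (((g * h)⁻¹ : GL (Fin n) F) : Matrix (Fin n) (Fin n) F)ᵀ.submatrix r r = _
        rw [_root_.mul_inv_rev, Units.val_mul, transpose_mul, ← submatrix_mul_equiv _ _ r r r]
        rfl) }
  have hmap : (P F n k).map f.toMonoidHom = P F n (n - k) := by
    ext g
    constructor
    · rintro ⟨p, hp, rfl⟩
      rw [mem_iff]
      intro i j hi hj
      refine (mem_iff p⁻¹).1 (inv_mem hp) (r j) (r i) ?_ ?_ <;> simp [r, Fin.val_rev] <;> omega
    · intro hg
      refine ⟨f.symm g, ?_, f.apply_symm_apply g⟩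
      refine (mem_iff _).2 fun i j hi hj => ?_
      refine (mem_iff g⁻¹).1 (inv_mem hg) (r j) (r i) ?_ ?_ <;> simp [r, Fin.val_rev] <;> omega
  exact ⟨(f.subgroupMap _).trans (MulEquiv.subgroupCongr hmap)⟩

theorem card_eq (k l : ℕ) :
    Nat.card (P F (k + l) k) =
      Nat.card (GL (Fin k) F) * Nat.card (GL (Fin l) F) * Nat.card F ^ (k * l) := by
  classical
  let S := {M : Matrix (Fin k ⊕ Fin l) (Fin k ⊕ Fin l) F // M.det ≠ 0 ∧ M.toBlocks₂₁ = 0}
  let e := (finSumFinEquiv : Fin k ⊕ Fin l ≃ Fin (k + l))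
  have h1 : Nat.card (P F (k + l) k) = Nat.card S := by
    refine Nat.card_congr (Equiv.ofBijective (fun g => (⟨((g : GL (Fin (k + l)) F) :
      Matrix (Fin (k + l)) (Fin (k + l)) F).submatrix e e, ?_, ?_⟩ : S)) ⟨?_, ?_⟩)
    · rw [det_submatrix_equiv_self]
      exact IsUnit.ne_zero ((Matrix.isUnit_iff_isUnit_det _).1 (g : GL (Fin (k + l)) F).isUnit)
    · ext a b
      exact (mem_iff _).1 g.2 (e (Sum.inr a)) (e (Sum.inl b)) (by simp [e]) (by simp [e])
    · intro a b h
      refine Subtype.ext (Units.ext ?_)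
      ext x y
      have := congrFun (congrFun (congrArg Subtype.val h) (e.symm x)) (e.symm y)
      simpa using this
    · rintro ⟨M, hM, hM0⟩
      refine ⟨⟨GeneralLinearGroup.mkOfDetNeZero (M.submatrix e.symm e.symm)
        (by rwa [det_submatrix_equiv_self]), ?_⟩, Subtype.ext ?_⟩
      · rw [mem_iff]
        intro i j hi hj
        obtain ⟨a, rfl⟩ : ∃ a, e (Sum.inr a) = i := ⟨⟨i - k, by omega⟩, Fin.ext (by simp [e]; omega)⟩
        obtain ⟨b, rfl⟩ : ∃ b, e (Sum.inl b) = j := ⟨⟨j, hj⟩, Fin.ext (by simp [e])⟩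
        show M (e.symm (e (Sum.inr a))) (e.symm (e (Sum.inl b))) = 0
        rw [e.symm_apply_apply, e.symm_apply_apply]
        exact congrFun (congrFun hM0 a) b
      · show (M.submatrix e.symm e.symm).submatrix e e = M
        simp [submatrix_submatrix]
  have h2 : Nat.card S = Nat.card (GL (Fin k) F × GL (Fin l) F × Matrix (Fin k) (Fin l) F) := by
    refine (Nat.card_congr (Equiv.ofBijective (fun p => (⟨fromBlocks (p.1 : Matrix (Fin k) (Fin k) F) p.2.2 0
      (p.2.1 : Matrix (Fin l) (Fin l) F), ?_, toBlocks_fromBlocks₂₁ _ _ _ _⟩ : S)) ⟨?_, ?_⟩)).symm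
    · rw [det_fromBlocks_zero₂₁]
      exact mul_ne_zero (IsUnit.ne_zero ((Matrix.isUnit_iff_isUnit_det _).1 p.1.isUnit))
        (IsUnit.ne_zero ((Matrix.isUnit_iff_isUnit_det _).1 p.2.1.isUnit))
    · rintro ⟨A, D, B⟩ ⟨A', D', B'⟩ h
      obtain ⟨hA, hB, -, hD⟩ := fromBlocks_inj.1 (congrArg Subtype.val h)
      obtain rfl : A = A' := Units.ext hA
      obtain rfl : D = D' := Units.ext hD
      obtain rfl : B = B' := hB
      rfl
    · rintro ⟨M, hM, hM0⟩
      have hdet := hM
      rw [← fromBlocks_toBlocks M, hM0, det_fromBlocks_zero₂₁, mul_ne_zero_iff] at hdet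
      refine ⟨⟨GeneralLinearGroup.mkOfDetNeZero _ hdet.1, GeneralLinearGroup.mkOfDetNeZero _ hdet.2,
        M.toBlocks₁₂⟩, Subtype.ext ?_⟩
      show fromBlocks M.toBlocks₁₁ M.toBlocks₁₂ 0 M.toBlocks₂₂ = M
      rw [← hM0, fromBlocks_toBlocks]
  have h3 : Nat.card (Matrix (Fin k) (Fin l) F) = Nat.card F ^ (k * l) := by
    show Nat.card (Fin k → Fin l → F) = _
    rw [Nat.card_fun, Nat.card_fun]
    simp [← pow_mul, mul_comm]
  rw [h1, h2, Nat.card_prod, Nat.card_prod, h3]
  ring

end Cfsg.Agent.Classical.Parabolic
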