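import Cfsg.Agent.Lib.Classical.PartitionStab

/-!
The even stabiliser of a uniform partition is maximal in the alternating group.
-/

set_option autoImplicit false
set_option linter.style.haveILetI false
set_option linter.unusedSectionVars false

namespace Cfsg.Agent.Classical.PartAlt

open MulAction Equiv Equiv.Perm
open scoped Pointwise

variable {Ω : Type*} [Fintype Ω] [DecidableEq Ω] {b a : ℕ} (f : Ω → Fin b)
variable (ha : 2 ≤ a) (hb : 2 ≤ b) (hf : ∀ i : Fin b, Nat.card {x : Ω // f x = i} = a)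

/-- The even permutations preserving the partition. -/
def H : Subgroup (Perm Ω) := Classical.partStab f ⊓ alternatingGroup Ω

include ha hb hf

theorem exists_pt (i : Fin b) (s : Finset Ω) (hs : s.card < a) : ∃ x, f x = i ∧ x ∉ s := by
  by_contra hcon
  push Not at hcon
  have : Nat.card {x : Ω // f x = i} ≤ s.card := by
    rw [← Nat.card_eq_finsetCard]
    exact Nat.card_le_card_of_injective (fun x => (⟨x.1, hcon _ x.2⟩ : s)) fun x y e => Subtype.ext (congrArg (fun z : s => z.1) e)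
  rw [hf] at this
  omega

theorem exists_mate (x : Ω) : ∃ x', x' ≠ x ∧ f x' = f x := by
  obtain ⟨x', h1, h2⟩ := exists_pt f ha hb hf (f x) {x} (by simp; omega)
  exact ⟨x', by simpa using h2, h1⟩

/-- A pair inside a fibre, away from a given fibre and a given point. -/
theorem exists_pair (h : 3 ≤ a ∨ 3 ≤ b) (i : Fin b) (w : Ω) :
    ∃ p q, p ≠ q ∧ f p = f q ∧ f p ≠ i ∧ p ≠ w ∧ q ≠ w := by
  rcases h with h | h
  · obtain ⟨j, hj⟩ := Fintype.exists_ne_of_one_lt_card (by simpa using (by omega : 1 < b)) i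
    obtain ⟨p, hp, hp'⟩ := exists_pt f ha hb hf j {w} (by simp; omega)
    obtain ⟨q, hq, hq'⟩ := exists_pt f ha hb hf j {w, p} (lt_of_le_of_lt Finset.card_le_two (by omega))
    simp only [Finset.mem_insert, Finset.mem_singleton, not_or] at hp' hq'
    exact ⟨p, q, Ne.symm hq'.2, hp.trans hq.symm, hp ▸ hj, hp', hq'.1⟩
  · obtain ⟨j, hj⟩ : ∃ j, j ∉ ({i, f w} : Finset (Fin b)) := by
      by_contra hcon
      push Not at hcon
      have := Finset.card_le_card (fun j _ => hcon j : (Finset.univ : Finset (Fin b)) ⊆ {i, f w})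
      have h2 := Finset.card_le_two (a := i) (b := f w)
      rw [Finset.card_univ, Fintype.card_fin] at this
      omega
    simp only [Finset.mem_insert, Finset.mem_singleton, not_or] at hj
    obtain ⟨p, hp, -⟩ := exists_pt f ha hb hf j ∅ (by simp; omega)
    obtain ⟨q, hq1, hq2⟩ := exists_mate f ha hb hf p
    exact ⟨p, q, Ne.symm hq1, hq2.symm, hp ▸ hj.1, fun e => hj.2 (by rw [← e, hp]),
      fun e => hj.2 (by rw [← e, hq2, hp])⟩

/-- Correct the parity of an element of the stabiliser without moving the relevant points. -/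
theorem exists_even (h : 3 ≤ a ∨ 3 ≤ b) (g : Perm Ω) (hg : g ∈ Classical.partStab f) (i : Fin b) (w : Ω) :
    ∃ g' ∈ H f, ∀ x, (f x = i ∨ x = w) → g' x = g x := by
  rcases Int.units_eq_one_or (sign g) with e | e
  · exact ⟨g, ⟨hg, mem_alternatingGroup.2 e⟩, fun _ _ => rfl⟩
  obtain ⟨p, q, hpq, hfpq, hpi, hpw, hqw⟩ := exists_pair f ha hb hf h i w
  refine ⟨g * swap p q, ⟨mul_mem hg (Classical.swap_mem_partStab f hfpq), mem_alternatingGroup.2 (by
    rw [map_mul, sign_swap hpq, e]; rfl)⟩, fun x hx => ?_⟩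
  rw [Perm.mul_apply, swap_apply_of_ne_of_ne]
  · rcases hx with hx | hx
    · exact fun e => hpi (e ▸ hx)
    · exact hx ▸ hpw.symm
  · rcases hx with hx | hx
    · exact fun e => hpi (hfpq.trans (e ▸ hx))
    · exact hx ▸ hqw.symm

theorem exists_moveH (h : 3 ≤ a ∨ 3 ≤ b) (y z : Ω) : ∃ g ∈ H f, g y = z := by
  obtain ⟨g, hg, hgy, -⟩ := Classical.exists_partStab_move f hf (y := y) (z := z)
  obtain ⟨g', hg', hgg⟩ := exists_even f ha hb hf h g hg (f y) y
  exact ⟨g', hg', by rw [hgg y (Or.inr rfl), hgy]⟩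

/-- A group properly containing the stabiliser is primitive. -/
theorem isPreprimitive (h : 3 ≤ a ∨ 3 ≤ b) (L : Subgroup (Perm Ω)) (hL : H f ≤ L) {g : Perm Ω} (hgL : g ∈ L)
    (hgS : g ∉ Classical.partStab f) : IsPreprimitive L Ω := by
  have : IsPretransitive L Ω := ⟨fun x y => by
    obtain ⟨k, hk, hky⟩ := exists_moveH f ha hb hf h x y
    exact ⟨⟨k, hL hk⟩, hky⟩⟩
  refine IsPreprimitive.mk fun {B} hB => ?_
  show B.Subsingleton ∨ B = Set.univ
  by_contra hnt
  push Not at hnt
  obtain ⟨hns, hnu⟩ := hnt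
  obtain ⟨x, hx, y, hy, hxy⟩ := hns
  have hfix : ∀ k ∈ L, ∀ u ∈ B, k u ∈ B → ∀ w ∈ B, k w ∈ B := by
    intro k hk u hu hku w hw
    have heq : (⟨k, hk⟩ : L) • B = B := hB.smul_eq_of_mem hu hku
    rw [← heq]
    exact Set.smul_mem_smul_set (a := (⟨k, hk⟩ : L)) hw
  have hfib : ∀ u w, u ∈ B → w ∈ B → f u = f w → u ≠ w → ∀ v, f v = f u → v ∈ B := by
    intro u w hu hw huw hne' v hv
    rcases eq_or_ne v u with rfl | h1
    · exact hu
    obtain ⟨k, hk, hkk⟩ := exists_even f ha hb hf h _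
      (Classical.swap_mem_partStab f (x := w) (y := v) (by rw [← huw, hv])) (f u) u
    have := hfix k (hL hk) u hu (by rw [hkk u (Or.inr rfl), swap_apply_of_ne_of_ne hne' h1.symm]; exact hu) w hw
    rwa [hkk w (Or.inl huw.symm), swap_apply_left] at this
  have hcross : ∀ u w, u ∈ B → w ∈ B → f u ≠ f w → B = Set.univ := by
    intro u w hu hw huw
    have hout : ∀ v, f v ≠ f u → v ∈ B := by
      intro v hv
      obtain ⟨k, hk, hkv, hko⟩ := Classical.exists_partStab_move f hf (y := w) (z := v)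
      have hku : k u = u := hko u huw (Ne.symm hv)
      obtain ⟨k', hk', hkk⟩ := exists_even f ha hb hf h k hk (f u) w
      have := hfix k' (hL hk') u hu (by rw [hkk u (Or.inl rfl), hku]; exact hu) w hw
      rwa [hkk w (Or.inr rfl), hkv] at this
    refine Set.eq_univ_of_forall fun v => ?_
    by_cases hv : f v = f u
    · obtain ⟨k, hk, hkk⟩ := exists_even f ha hb hf h _
        (Classical.swap_mem_partStab f (x := u) (y := v) hv.symm) (f u) w
      have := hfix k (hL hk) w hw
        (by rw [hkk w (Or.inr rfl), swap_apply_of_ne_of_ne (fun e => huw (by rw [e])) (fun e => huw (by rw [e, hv]))]; exact hw) u hu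
      rwa [hkk u (Or.inl rfl), swap_apply_left] at this
    · exact hout v hv
  have hsame : ∀ u ∈ B, ∀ w ∈ B, f u = f w := fun u hu w hw => by
    by_contra h'; exact hnu (hcross u w hu hw h')
  have hBeq : ∀ v, v ∈ B ↔ f v = f x :=
    fun v => ⟨fun hv => hsame v hv x hx, fun hv => hfib x y hx hy (hsame x hx y hy) hxy v hv⟩
  refine hgS fun u w => ?_
  obtain ⟨s, hs, hsu⟩ := exists_moveH f ha hb hf h x u
  obtain ⟨t, ht, htu⟩ := exists_moveH f ha hb hf h (g u) x
  have hts : t * g * s ∈ L := L.mul_mem (L.mul_mem (hL ht) hgL) (hL hs)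
  have hx' : (t * g * s) x = x := by simp [Perm.mul_apply, hsu, htu]
  have key : ∀ v, v ∈ B ↔ (t * g * s) v ∈ B := by
    intro v
    have heq : (⟨_, hts⟩ : L) • B = B :=
      hB.smul_eq_of_mem hx (show (t * g * s) x ∈ B by rw [hx']; exact hx)
    conv_rhs => rw [← heq]
    exact (Set.smul_mem_smul_set_iff (a := (⟨_, hts⟩ : L))).symm
  have := key (s⁻¹ w)
  rw [hBeq, hBeq] at this
  simp only [Perm.mul_apply, Classical.apply_inv_self'] at this
  have e1 : f (s⁻¹ w) = f x ↔ f w = f u := by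
    have := hs.1 (s⁻¹ w) x
    rwa [Classical.apply_inv_self', hsu] at this
  have e2 : f (t (g w)) = f x ↔ f (g w) = f (g u) := by
    have := ht.1 (g w) (g u)
    rw [htu] at this
    exact this.symm
  rw [e1, e2] at this
  exact ⟨fun h' => (this.1 h'.symm).symm, fun h' => (this.2 h'.symm).symm⟩

/-- Fibres with at least three points supply a three-cycle. -/
theorem exists_three (h : 3 ≤ a) : ∃ k ∈ H f, k.IsThreeCycle := by
  obtain ⟨x, hx, -⟩ := exists_pt f ha hb hf ⟨0, by omega⟩ ∅ (by simp; omega)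
  obtain ⟨y, hy, hy'⟩ := exists_pt f ha hb hf (f x) {x} (by simp; omega)
  obtain ⟨z, hz, hz'⟩ := exists_pt f ha hb hf (f x) {x, y} (lt_of_le_of_lt Finset.card_le_two (by omega))
  simp only [Finset.mem_insert, Finset.mem_singleton, not_or] at hy' hz'
  have h3 := isThreeCycle_swap_mul_swap_same (Ne.symm hy') (Ne.symm hz'.1) (Ne.symm hz'.2)
  exact ⟨_, ⟨mul_mem (Classical.swap_mem_partStab f hy.symm) (Classical.swap_mem_partStab f hz.symm),
    mem_alternatingGroup.2 h3.sign⟩, h3⟩

/-- The commutator of two double transpositions with one common moved point. -/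
theorem three_of_meet {x y z w x' p q : Ω} (hxy : x ≠ y) (hxx : x ≠ x') (hyx : y ≠ x')
    (h1 : z ≠ x ∧ w ≠ x ∧ z ≠ y ∧ w ≠ y ∧ z ≠ x' ∧ w ≠ x') (h2 : p ≠ x ∧ q ≠ x ∧ p ≠ x' ∧ q ≠ x' ∧ p ≠ y ∧ q ≠ y)
    (h3 : p ≠ z ∧ p ≠ w ∧ q ≠ z ∧ q ≠ w) :
    ((swap x y * swap z w) * (swap x x' * swap p q) * (swap x y * swap z w) * (swap x x' * swap p q)).IsThreeCycle := by
  obtain ⟨a1, a2, a3, a4, a5, a6⟩ := h1
  obtain ⟨b1, b2, b3, b4, b5, b6⟩ := h2
  obtain ⟨c1, c2, c3, c4⟩ := h3
  have h := (isThreeCycle_swap_mul_swap_same hxy hxx hyx).isThreeCycle_sq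
  suffices (swap x y * swap z w) * (swap x x' * swap p q) * (swap x y * swap z w) * (swap x x' * swap p q) =
      swap x y * swap x x' * (swap x y * swap x x') by rw [this]; exact h
  ext v
  simp only [Perm.mul_apply]
  rcases eq_or_ne v x with rfl | v1
  · simp [swap_apply_of_ne_of_ne, swap_apply_def] <;> grind
  rcases eq_or_ne v y with rfl | v2
  · simp [swap_apply_of_ne_of_ne, swap_apply_def] <;> grind
  rcases eq_or_ne v x' with rfl | v3
  · simp [swap_apply_of_ne_of_ne, swap_apply_def] <;> grind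
  simp [swap_apply_def] <;> grind

/-- Fibres of size two: a three-cycle in every proper overgroup, for at least five fibres. -/
theorem exists_three_two (h2 : a = 2) (h5 : 5 ≤ b) (L : Subgroup (Perm Ω)) (hL : H f ≤ L) {g : Perm Ω}
    (hgL : g ∈ L) (hgS : g ∉ Classical.partStab f) : ∃ k ∈ L, k.IsThreeCycle := by
  classical
  have htwo : ∀ u v w : Ω, f v = f u → f w = f u → v ≠ u → w ≠ u → v = w := by
    intro u v w hv hw hvu hwu
    by_contra hvw
    have hc : ({u, v, w} : Finset Ω).card ≤ Fintype.card {x : Ω // f x = f u} := by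
      rw [Fintype.card_subtype]
      exact Finset.card_le_card fun z hz => by
        simp only [Finset.mem_insert, Finset.mem_singleton] at hz
        rcases hz with rfl | rfl | rfl <;> simp [*]
    rw [← Nat.card_eq_fintype_card, hf, h2, Finset.card_eq_three.2 ⟨u, v, w, hvu.symm, hwu.symm, hvw, rfl⟩] at hc
    omega
  -- a fibre torn apart
  obtain ⟨u, u', hu', hne, hgu⟩ : ∃ u u', f u' = f u ∧ u' ≠ u ∧ f (g u') ≠ f (g u) := by
    by_contra hcon
    push Not at hcon
    apply hgS
    let φ : Fin b → Fin b := fun i => f (g (exists_pt f ha hb hf i ∅ (by simp; omega)).choose)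
    have hφ : ∀ x, f (g x) = φ (f x) := fun x => by
      set x0 := (exists_pt f ha hb hf (f x) ∅ (by simp; omega)).choose with hx0
      have h0 : f x0 = f x := (exists_pt f ha hb hf (f x) ∅ (by simp; omega)).choose_spec.1
      rcases eq_or_ne x x0 with e | e
      · exact congrArg (fun z => f (g z)) e
      · exact hcon x0 x h0.symm e
    have hsurj : Function.Surjective φ := fun j => by
      obtain ⟨y, hy, -⟩ := exists_pt f ha hb hf j ∅ (by simp; omega)
      exact ⟨f (g⁻¹ y), by rw [← hφ, Classical.apply_inv_self', hy]⟩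
    intro x y
    rw [hφ, hφ, (Finite.injective_iff_surjective.2 hsurj).eq_iff]
  -- the partners of the images
  obtain ⟨c, hc, hcf⟩ := exists_mate f ha hb hf (g u)
  obtain ⟨c', hc', hcf'⟩ := exists_mate f ha hb hf (g u')
  obtain ⟨j, hj⟩ : ∃ j, j ∉ ({f u, f (g⁻¹ c)} : Finset (Fin b)) := by
    by_contra hcon
    push Not at hcon
    have := Finset.card_le_card (fun j _ => hcon j : (Finset.univ : Finset (Fin b)) ⊆ {f u, f (g⁻¹ c)})
    have h2' := Finset.card_le_two (a := f u) (b := f (g⁻¹ c))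
    rw [Finset.card_univ, Fintype.card_fin] at this
    omega
  simp only [Finset.mem_insert, Finset.mem_singleton, not_or] at hj
  obtain ⟨v, hv, -⟩ := exists_pt f ha hb hf j ∅ (by simp; omega)
  obtain ⟨v', hv'1, hv'2⟩ := exists_mate f ha hb hf v
  have hvu : ∀ z, f z = f u → z ≠ v ∧ z ≠ v' := fun z hz =>
    ⟨fun e => hj.1 (by rw [← hv, ← e, hz]), fun e => hj.1 (by rw [← hv, ← hv'2, ← e, hz])⟩
  set k₁ := g * (swap u u' * swap v v') * g⁻¹ with hk₁
  have hk₁e : k₁ = swap (g u) (g u') * swap (g v) (g v') := by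
    rw [hk₁, swap_apply_apply, swap_apply_apply]; group
  have hH1 : swap u u' * swap v v' ∈ H f := ⟨mul_mem (Classical.swap_mem_partStab f hu'.symm)
    (Classical.swap_mem_partStab f hv'2.symm), mem_alternatingGroup.2 (by
      rw [map_mul, sign_swap hne.symm, sign_swap hv'1.symm]; rfl)⟩
  have hk₁L : k₁ ∈ L := mul_mem (mul_mem hgL (hL hH1)) (inv_mem hgL)
  -- the partner of `g u` is not moved by `k₁`
  have hcv : c ≠ g v ∧ c ≠ g v' := by
    constructor
    · intro e; exact hj.2 (by rw [e]; simp [hv])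
    · intro e; exact hj.2 (by rw [e]; simp [hv, hv'2])
  have hcu : c ≠ g u' := fun e => hgu (by rw [← e, hcf])
  -- a fibre avoiding everything
  obtain ⟨l, hl⟩ : ∃ l, l ∉ ({f (g u), f (g u'), f (g v), f (g v')} : Finset (Fin b)) := by
    by_contra hcon
    push Not at hcon
    have := Finset.card_le_card (fun j _ => hcon j :
      (Finset.univ : Finset (Fin b)) ⊆ {f (g u), f (g u'), f (g v), f (g v')})
    have h4 := Finset.card_le_four (a := f (g u)) (b := f (g u')) (c := f (g v)) (d := f (g v'))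
    rw [Finset.card_univ, Fintype.card_fin] at this
    omega
  simp only [Finset.mem_insert, Finset.mem_singleton, not_or] at hl
  obtain ⟨p, hp, -⟩ := exists_pt f ha hb hf l ∅ (by simp; omega)
  obtain ⟨q, hq1, hq2⟩ := exists_mate f ha hb hf p
  set k₂ := swap (g u) c * swap p q with hk₂
  have hk₂L : k₂ ∈ L := hL ⟨mul_mem (Classical.swap_mem_partStab f hcf.symm)
    (Classical.swap_mem_partStab f hq2.symm), mem_alternatingGroup.2 (by
      rw [map_mul, sign_swap hc.symm, sign_swap hq1.symm]; rfl)⟩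
  have off : ∀ z, f z = l → z ≠ g u ∧ z ≠ g u' ∧ z ≠ g v ∧ z ≠ g v' ∧ z ≠ c := fun z hz =>
    ⟨fun e => hl.1 (by rw [← hz, e]), fun e => hl.2.1 (by rw [← hz, e]), fun e => hl.2.2.1 (by rw [← hz, e]),
      fun e => hl.2.2.2 (by rw [← hz, e]), fun e => hl.1 (by rw [← hz, e, hcf])⟩
  obtain ⟨p1, p2, p3, p4, p5⟩ := off p hp
  obtain ⟨q1, q2, q3, q4, q5⟩ := off q (hq2.trans hp)
  refine ⟨k₁ * k₂ * k₁ * k₂, mul_mem (mul_mem (mul_mem hk₁L hk₂L) hk₁L) hk₂L, ?_⟩
  rw [hk₁e, hk₂]
  exact three_of_meet f ha hb hf (fun e => hne (g.injective e).symm) hc.symm (Ne.symm hcu)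
    ⟨fun e => (hvu u rfl).1 (g.injective e).symm, fun e => (hvu u rfl).2 (g.injective e).symm,
      fun e => (hvu u' hu').1 (g.injective e).symm, fun e => (hvu u' hu').2 (g.injective e).symm,
      hcv.1.symm, hcv.2.symm⟩
    ⟨p1, q1, p5, q5, p2, q2⟩ ⟨p3, p4, q3, q4⟩

/-- The number of even permutations preserving the partition of `Fin b × Fin a`. -/
theorem card_H_transport : Nat.card (H f) =
    Nat.card {g : Perm (Fin b × Fin a) // (∀ x y, x.1 = y.1 ↔ (g x).1 = (g y).1) ∧ sign g = 1} := by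
  have hcard : ∀ i, Fintype.card {x : Ω // f x = i} = a := fun i => by rw [← Nat.card_eq_fintype_card, hf]
  let e : Ω ≃ Fin b × Fin a := ((Equiv.sigmaFiberEquiv f).symm.trans
    (Equiv.sigmaCongrRight fun i => Fintype.equivFinOfCardEq (hcard i))).trans (Equiv.sigmaEquivProd (Fin b) (Fin a))
  have he : ∀ x, (e x).1 = f x := fun x => rfl
  refine Nat.card_congr ((e.permCongr).subtypeEquiv fun g => ?_)
  show g ∈ Classical.partStab f ⊓ alternatingGroup Ω ↔ _
  rw [Subgroup.mem_inf, mem_alternatingGroup, sign_permCongr]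
  refine and_congr_left' ⟨fun hg x y => ?_, fun hg x y => ?_⟩
  · have := hg (e.symm x) (e.symm y)
    simp only [← he, Equiv.apply_symm_apply] at this
    simpa [Equiv.permCongr_apply] using this
  · have := hg (e x) (e y)
    simpa [Equiv.permCongr_apply, he] using this

end Cfsg.Agent.Classical.PartAlt
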