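import Mathlib

set_option autoImplicit false

/-!
The stabiliser of a uniform partition, given by a labelling map, is maximal in the symmetric group.
-/

namespace Cfsg.Agent.Classical

open MulAction Equiv
open scoped Pointwise

variable {Ω : Type*} [Fintype Ω] [DecidableEq Ω] {β : Type*}

theorem apply_inv_self' {α : Type*} (g : Equiv.Perm α) (x : α) : g (g⁻¹ x) = x := g.apply_symm_apply x

/-- Permutations preserving the partition of `Ω` into the fibres of `f`. -/
def partStab (f : Ω → β) : Subgroup (Equiv.Perm Ω) where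
  carrier := {g | ∀ x y, f x = f y ↔ f (g x) = f (g y)}
  mul_mem' {g h} hg hh := fun x y => (hh x y).trans (hg _ _)
  one_mem' := fun _ _ => Iff.rfl
  inv_mem' {g} hg := fun x y => by
    have := hg (g⁻¹ x) (g⁻¹ y)
    simp only [apply_inv_self'] at this
    exact this.symm

theorem closure_partSet (f : Ω → β) :
    Subgroup.closure {g : Equiv.Perm Ω | ∀ x y : Ω, f x = f y ↔ f (g x) = f (g y)} = partStab f :=
  Subgroup.closure_eq (partStab f)

theorem swap_mem_partStab (f : Ω → β) {x y : Ω} (h : f x = f y) : Equiv.swap x y ∈ partStab f := by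
  have key : ∀ w, f (Equiv.swap x y w) = f w := by
    intro w
    rcases eq_or_ne w x with rfl | h1
    · rw [Equiv.swap_apply_left, h]
    rcases eq_or_ne w y with rfl | h2
    · rw [Equiv.swap_apply_right, h]
    rw [Equiv.swap_apply_of_ne_of_ne h1 h2]
  intro u w
  rw [key, key]

variable [Fintype β] [DecidableEq β]

/-- An element preserving the partition and exchanging two fibres, fixing all other points. -/
theorem exists_partStab_move (f : Ω → β) {a : ℕ} (hf : ∀ i : β, Nat.card {x : Ω // f x = i} = a)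
    {y z : Ω} : ∃ g ∈ partStab f, g y = z ∧ ∀ w, f w ≠ f y → f w ≠ f z → g w = w := by
  have hcard : ∀ i, Fintype.card {x : Ω // f x = i} = a := fun i => by rw [← Nat.card_eq_fintype_card, hf]
  let e : Ω ≃ β × Fin a := ((Equiv.sigmaFiberEquiv f).symm.trans
    (Equiv.sigmaCongrRight fun i => Fintype.equivFinOfCardEq (hcard i))).trans (Equiv.sigmaEquivProd β (Fin a))
  have he : ∀ x, (e x).1 = f x := fun x => rfl
  let h : Equiv.Perm Ω := (e.trans ((Equiv.swap (f y) (f z)).prodCongr (Equiv.refl _))).trans e.symm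
  have hh : ∀ x, f (h x) = Equiv.swap (f y) (f z) (f x) := fun x => by
    rw [← he (h x)]; simp [h, he]
  have hmem : h ∈ partStab f := fun u w => by rw [hh, hh, (Equiv.swap (f y) (f z)).injective.eq_iff]
  have hyz : f (h y) = f z := by rw [hh, Equiv.swap_apply_left]
  refine ⟨Equiv.swap (h y) z * h, (partStab f).mul_mem (swap_mem_partStab f hyz) hmem, by simp, ?_⟩
  intro w h1 h2
  have hw : h w = w := by
    apply e.injective
    simp only [h, Equiv.trans_apply, Equiv.apply_symm_apply]
    refine Prod.ext ?_ rfl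
    show Equiv.swap (f y) (f z) (e w).1 = (e w).1
    rw [he, Equiv.swap_apply_of_ne_of_ne h1 h2]
  rw [Equiv.Perm.mul_apply, hw, Equiv.swap_apply_of_ne_of_ne]
  · exact fun e' => h2 (e' ▸ hyz)
  · exact fun e' => h2 (e' ▸ rfl)

theorem isCoatom_partStab (f : Ω → β) {a : ℕ} (ha : 2 ≤ a) (hb : 2 ≤ Fintype.card β)
    (hf : ∀ i : β, Nat.card {x : Ω // f x = i} = a) : IsCoatom (partStab f) := by
  have hne : ∀ i, ∃ x, f x = i := fun i => by
    have : 0 < Nat.card {x : Ω // f x = i} := by rw [hf]; omega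
    obtain ⟨⟨x, hx⟩⟩ := (Nat.card_pos_iff.1 this).1
    exact ⟨x, hx⟩
  have hmate : ∀ x, ∃ x', x' ≠ x ∧ f x' = f x := fun x => by
    have : 1 < Fintype.card {w : Ω // f w = f x} := by rw [← Nat.card_eq_fintype_card, hf]; omega
    obtain ⟨⟨w, hw⟩, hne'⟩ := Fintype.exists_ne_of_one_lt_card this ⟨x, rfl⟩
    exact ⟨w, fun e => hne' (Subtype.ext e), hw⟩
  have : Nonempty Ω := by
    obtain ⟨i, -⟩ := Fintype.one_lt_card_iff.1 hb
    obtain ⟨x, -⟩ := hne i
    exact ⟨x⟩
  refine ⟨fun htop => ?_, fun L hL => ?_⟩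
  · obtain ⟨i, j, hij⟩ := Fintype.one_lt_card_iff.1 hb
    obtain ⟨x, hx⟩ := hne i
    obtain ⟨y, hy⟩ := hne j
    obtain ⟨x', hx', hfx'⟩ := hmate x
    have : Equiv.swap x y ∈ partStab f := htop ▸ Subgroup.mem_top _
    have h' := (this x x').1 hfx'.symm
    rw [Equiv.swap_apply_left, Equiv.swap_apply_of_ne_of_ne hx' (fun e => hij (by rw [← hx, ← hy, ← e, hfx']))] at h'
    exact hij (by rw [← hx, ← hy, h', hfx'])
  have hprim : IsPreprimitive L Ω := by
    have : IsPretransitive L Ω := ⟨fun x y => by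
      obtain ⟨g, hg, hgy, -⟩ := exists_partStab_move f hf (y := x) (z := y)
      exact ⟨⟨g, hL.le hg⟩, hgy⟩⟩
    refine IsPreprimitive.mk fun {B} hB => ?_
    show B.Subsingleton ∨ B = Set.univ
    by_contra hnt
    push Not at hnt
    obtain ⟨hns, hnu⟩ := hnt
    obtain ⟨x, hx, y, hy, hxy⟩ := hns
    -- an element of `L` fixing a point of `B` stabilises `B`
    have hfix : ∀ g ∈ L, ∀ u ∈ B, g u ∈ B → ∀ w ∈ B, g w ∈ B := by
      intro g hg u hu hgu w hw
      have heq : (⟨g, hg⟩ : L) • B = B := hB.smul_eq_of_mem hu hgu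
      rw [← heq]
      exact Set.smul_mem_smul_set (a := (⟨g, hg⟩ : L)) hw
    have hfib : ∀ u w, u ∈ B → w ∈ B → f u = f w → u ≠ w → ∀ v, f v = f u → v ∈ B := by
      intro u w hu hw huw hne' v hv
      rcases eq_or_ne v u with rfl | h1
      · exact hu
      have := hfix _ (hL.le (swap_mem_partStab f (x := w) (y := v) (by rw [← huw, hv]))) u hu
        (by rw [Equiv.swap_apply_of_ne_of_ne hne' h1.symm]; exact hu) w hw
      rwa [Equiv.swap_apply_left] at this
    have hcross : ∀ u w, u ∈ B → w ∈ B → f u ≠ f w → B = Set.univ := by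
      intro u w hu hw huw
      have hout : ∀ v, f v ≠ f u → v ∈ B := by
        intro v hv
        obtain ⟨g, hg, hgv, hgo⟩ := exists_partStab_move f hf (y := w) (z := v)
        have hgu : g u = u := hgo u huw (Ne.symm hv)
        exact hgv ▸ hfix g (hL.le hg) u hu (hgu.symm ▸ hu) w hw
      refine Set.eq_univ_of_forall fun v => ?_
      by_cases hv : f v = f u
      · have := hfix _ (hL.le (swap_mem_partStab f (x := u) (y := v) hv.symm)) w hw
          (by rw [Equiv.swap_apply_of_ne_of_ne (fun e => huw (by rw [e])) (fun e => huw (by rw [e, hv]))]; exact hw) u hu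
        rwa [Equiv.swap_apply_left] at this
      · exact hout v hv
    have hsame : ∀ u ∈ B, ∀ w ∈ B, f u = f w := fun u hu w hw => by
      by_contra h; exact hnu (hcross u w hu hw h)
    -- so B is a whole fibre; then L preserves the partition
    have hBeq : ∀ v, v ∈ B ↔ f v = f x :=
      fun v => ⟨fun hv => hsame v hv x hx, fun hv => hfib x y hx hy (hsame x hx y hy) hxy v hv⟩
    obtain ⟨g, hgL, hgS⟩ := SetLike.exists_of_lt hL
    refine hgS fun u w => ?_
    -- move the fibre of u to B
    obtain ⟨s, hs, hsu, -⟩ := exists_partStab_move f hf (y := x) (z := u)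
    obtain ⟨t, ht, htu, -⟩ := exists_partStab_move f hf (y := g u) (z := x)
    have hts : t * g * s ∈ L := L.mul_mem (L.mul_mem (hL.le ht) hgL) (hL.le hs)
    have hx' : (t * g * s) x = x := by simp [Equiv.Perm.mul_apply, hsu, htu]
    have key : ∀ v, v ∈ B ↔ (t * g * s) v ∈ B := by
      intro v
      have heq : (⟨_, hts⟩ : L) • B = B :=
        hB.smul_eq_of_mem hx (show (t * g * s) x ∈ B by rw [hx']; exact hx)
      conv_rhs => rw [← heq]
      exact (Set.smul_mem_smul_set_iff (a := (⟨_, hts⟩ : L))).symm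
    have := key (s⁻¹ w)
    rw [hBeq, hBeq] at this
    simp only [Equiv.Perm.mul_apply, apply_inv_self'] at this
    have e1 : f (s⁻¹ w) = f x ↔ f w = f u := by
      have := hs (s⁻¹ w) x
      rwa [apply_inv_self', hsu] at this
    have e2 : f (t (g w)) = f x ↔ f (g w) = f (g u) := by
      have := ht (g w) (g u)
      rw [htu] at this
      exact this.symm
    rw [e1, e2] at this
    exact ⟨fun h => (this.1 h.symm).symm, fun h => (this.2 h.symm).symm⟩
  obtain ⟨x⟩ := ‹Nonempty Ω›
  obtain ⟨x', hx', hfx'⟩ := hmate x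
  exact Equiv.Perm.subgroup_eq_top_of_isPreprimitive_of_isSwap_mem hprim _
    ⟨x, x', hx'.symm, rfl⟩ (hL.le (swap_mem_partStab f hfx'.symm))

end Cfsg.Agent.Classical
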