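import Cfsg.Agent.Lib.Classical.CompLength
import Cfsg.Agent.Lib.Classical.MinimalNormal
import Cfsg.Agent.Lib.Solv.Basic

/-!
A permutation group of degree `n` with `r` orbits has composition length at most `4/3 (n - r)`.
No classification is used: for a group with a non-regular minimal normal subgroup `T^k`, `k ≥ 3`,
there is a smaller faithful action, and otherwise elementary counting suffices.
-/

set_option autoImplicit false
set_option linter.style.haveILetI false

namespace Cfsg.Agent.Classical

open MulAction ArithmeticFunction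
open scoped Pointwise
open scoped ArithmeticFunction.Omega

/-- The number of orbits. -/
noncomputable def orbCount (G X : Type*) [Group G] [MulAction G X] : ℕ :=
  Nat.card (Quotient (orbitRel G X))

theorem orbCount_pos {G X : Type*} [Group G] [MulAction G X] [Finite X] [Nonempty X] :
    0 < orbCount G X := by
  haveI : Nonempty (Quotient (orbitRel G X)) := Nonempty.map Quotient.mk'' ‹_›
  exact Nat.card_pos

/-- The bound for all permutation groups of degree below `n`. -/
def LengthBelow (n : ℕ) : Prop :=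
  ∀ m < n, ∀ G : Subgroup (Equiv.Perm (Fin m)), LenLE G (4 * (m - orbCount G (Fin m)))

theorem LengthBelow.range_bound {n : ℕ} (IH : LengthBelow n) {G X : Type*} [Group G]
    [MulAction G X] [Finite X] (hX : Nat.card X < n) :
    LenLE (toPermHom G X).range (4 * (Nat.card X - orbCount G X)) := by
  obtain ⟨m, ⟨e⟩⟩ := Finite.exists_equiv_fin X
  have hm : Nat.card X = m := by rw [Nat.card_congr e, Nat.card_fin]
  let ψ : Equiv.Perm X ≃* Equiv.Perm (Fin m) := e.permCongrHom
  let K := ((toPermHom G X).range).map ψ.toMonoidHom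
  have h1 := IH m (by omega) K
  have hle : orbCount G X ≤ orbCount K (Fin m) := by
    refine Nat.card_le_card_of_surjective
      (Quotient.lift (fun i => (⟦e.symm i⟧ : Quotient (orbitRel G X))) ?_) ?_
    · rintro i j ⟨⟨k, hk⟩, hkj⟩
      obtain ⟨s, ⟨g, rfl⟩, rfl⟩ := hk
      refine Quotient.sound ⟨g, ?_⟩
      have : e (g • e.symm j) = i := hkj
      simp [← this]
    · intro q
      induction q using Quotient.inductionOn with
      | _ x => exact ⟨⟦e x⟧, by simp⟩
  refine (h1.of_mulEquiv ?_).mono (by omega)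
  exact ((toPermHom G X).range.equivMapOfInjective ψ.toMonoidHom ψ.injective).symm

theorem LengthBelow.faithful_bound {n : ℕ} (IH : LengthBelow n) {G X : Type*} [Group G]
    [MulAction G X] [Finite X] [FaithfulSMul G X] (hX : Nat.card X < n) :
    LenLE G (4 * (Nat.card X - orbCount G X)) :=
  (IH.range_bound hX).of_mulEquiv
    (MonoidHom.ofInjective (f := toPermHom G X) toPerm_injective).symm

theorem LengthBelow.intransitive {n : ℕ} (IH : LengthBelow n) {G X : Type*} [Group G]
    [MulAction G X] [Finite X] [FaithfulSMul G X] (hX : Nat.card X = n)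
    (hr : 2 ≤ orbCount G X) : LenLE G (4 * (n - orbCount G X)) := by
  classical
  have hne : Nonempty (Quotient (orbitRel G X)) :=
    not_isEmpty_iff.1 fun h => by
      haveI := h
      simp [orbCount] at hr
  obtain ⟨q⟩ := hne
  induction q using Quotient.inductionOn with
  | _ α =>
  let A : SubMulAction G X :=
    { carrier := orbit G α, smul_mem' := fun g x hx => mem_orbit_of_mem_orbit g hx }
  let B : SubMulAction G X :=
    { carrier := (orbit G α)ᶜ
      smul_mem' := fun g x hx h => hx (by simpa using mem_orbit_of_mem_orbit g⁻¹ h) }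
  have hsum : Nat.card A + Nat.card B = n := by
    rw [← Nat.card_sum, ← hX]
    exact Nat.card_congr (Equiv.Set.sumCompl (orbit G α))
  haveI : Nonempty A := ⟨⟨α, mem_orbit_self α⟩⟩
  haveI : Nonempty B := by
    by_contra h
    have : ∀ x : X, x ∈ orbit G α := fun x => by
      by_contra hx; exact h ⟨⟨x, hx⟩⟩
    have : Subsingleton (Quotient (orbitRel G X)) := ⟨fun a b => by
      induction a using Quotient.inductionOn with
      | _ x => induction b using Quotient.inductionOn with
        | _ y =>
          refine Quotient.sound ?_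
          show x ∈ orbit G y
          rw [orbit_eq_iff.2 (this y)]; exact this x⟩
    have := Finite.card_le_one_iff_subsingleton.2 this
    unfold orbCount at hr
    omega
  have hA : Nat.card A < n := by
    have := Nat.card_pos (α := B)
    omega
  have hB : Nat.card B < n := by
    have := Nat.card_pos (α := A)
    omega
  let K := (toPermHom G A).ker
  haveI : FaithfulSMul K B := by
    refine ⟨fun {a b} h => Subtype.ext (FaithfulSMul.eq_of_smul_eq_smul (α := X) fun x => ?_)⟩
    by_cases hx : x ∈ orbit G α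
    · have ha := congrArg (fun s : Equiv.Perm A => s ⟨x, hx⟩) (MonoidHom.mem_ker.1 a.2)
      have hb := congrArg (fun s : Equiv.Perm A => s ⟨x, hx⟩) (MonoidHom.mem_ker.1 b.2)
      have := congrArg Subtype.val (ha.trans hb.symm)
      exact this
    · exact congrArg Subtype.val (h ⟨x, hx⟩)
  have h1 : LenLE K (4 * (Nat.card B - orbCount K B)) := IH.faithful_bound hB
  have h2 := IH.range_bound (G := G) hA
  have hext : LenLE G
      (4 * (Nat.card B - orbCount K B) + 4 * (Nat.card A - orbCount G A)) := by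
    refine LenLE.of_ker (toPermHom G A).rangeRestrict
      (MonoidHom.rangeRestrict_surjective _) ?_ h2
    exact h1.of_mulEquiv (MulEquiv.subgroupCongr (MonoidHom.ker_rangeRestrict _).symm)
  have hcount : orbCount G X ≤ orbCount K B + 1 := by
    have : Nat.card (Quotient (orbitRel K B) ⊕ Unit) = orbCount K B + 1 := by
      simp [orbCount, Nat.card_sum]
    rw [← this]
    refine Nat.card_le_card_of_surjective (Sum.elim
      (Quotient.lift (fun b => (⟦(b : X)⟧ : Quotient (orbitRel G X))) ?_) (fun _ => ⟦α⟧)) ?_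
    · rintro a b ⟨k, hk⟩
      exact Quotient.sound ⟨k, congrArg Subtype.val hk⟩
    · intro q
      induction q using Quotient.inductionOn with
      | _ x =>
        by_cases hx : x ∈ orbit G α
        · exact ⟨.inr (), Quotient.sound ((orbitRel G X).symm hx)⟩
        · exact ⟨.inl ⟦⟨x, hx⟩⟧, rfl⟩
  have hKB : orbCount K B ≤ Nat.card B :=
    Nat.card_le_card_of_surjective _ Quotient.mk_surjective
  have hApos := orbCount_pos (G := G) (X := A)
  refine hext.mono ?_
  omega

/-! ### Arithmetic for the regular case -/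

theorem two_pow_cardFactors_le {n : ℕ} (hn : n ≠ 0) : 2 ^ Ω n ≤ n := by
  rw [cardFactors_apply]
  conv_rhs => rw [← Nat.prod_primeFactorsList hn]
  exact List.pow_card_le_prod _ _ fun x hx => (Nat.prime_of_mem_primeFactorsList hx).two_le

theorem regular_arith {n d : ℕ} (hn : 2 ≤ n) (hd : d ∣ Nat.factorial (n - 1))
    (hlt : d < n ^ Ω n) : 3 * (Ω n + Ω d) ≤ 4 * (n - 1) := by
  have hd0 : d ≠ 0 := fun h => Nat.factorial_ne_zero _ (Nat.eq_zero_of_zero_dvd (h ▸ hd))
  have hk := two_pow_cardFactors_le (n := n) (by omega)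
  have hb : 2 ^ Ω d < n ^ Ω n := (two_pow_cardFactors_le hd0).trans_lt hlt
  have hkpos : 0 < Ω n := cardFactors_pos_iff_one_lt.2 (by omega)
  by_cases hk1 : Ω n = 1
  · rw [hk1, pow_one] at hb
    have := Nat.lt_two_pow_self (n := Ω d)
    omega
  have hn4 : 4 ≤ n := le_trans (Nat.pow_le_pow_right two_pos (show 2 ≤ Ω n by omega)) hk
  have gen : ∀ K, Ω n ≤ K → n ^ K ≤ 2 ^ (4 * (n - 1) / 3 - K + 1) → K ≤ 4 * (n - 1) / 3 →
      3 * (Ω n + Ω d) ≤ 4 * (n - 1) := by
    intro K hK hpow hK'
    have h1 : 2 ^ Ω d < 2 ^ (4 * (n - 1) / 3 - K + 1) :=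
      hb.trans_le ((Nat.pow_le_pow_right (by omega) hK).trans hpow)
    have h2 := (Nat.pow_lt_pow_iff_right (by norm_num)).1 h1
    omega
  by_cases h10 : 10 ≤ n
  · by_cases h16 : n < 16
    · have hK : Ω n ≤ 3 := by
        by_contra h
        have := le_trans (Nat.pow_le_pow_right two_pos (show 4 ≤ Ω n by omega)) hk
        omega
      refine gen 3 hK ?_ (by omega)
      interval_cases n <;> norm_num
    by_cases h32 : n < 32
    · have hK : Ω n ≤ 4 := by
        by_contra h
        have := le_trans (Nat.pow_le_pow_right two_pos (show 5 ≤ Ω n by omega)) hk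
        omega
      refine gen 4 hK ?_ (by omega)
      interval_cases n <;> norm_num
    · obtain ⟨m, hm, hlo, hhi⟩ : ∃ m, 5 ≤ m ∧ 2 ^ m ≤ n ∧ n < 2 ^ (m + 1) :=
        ⟨Nat.log 2 n, (Nat.le_log_iff_pow_le (by norm_num) (by omega)).2 (by omega),
          Nat.pow_log_le_self 2 (by omega), Nat.lt_pow_succ_log_self (by norm_num) n⟩
      have key : ∀ j, 5 ≤ j → 3 * (j * j + 2 * j) + 4 ≤ 4 * 2 ^ j := by
        intro j hj
        induction j, hj using Nat.le_induction with
        | base => norm_num
        | succ j hj ih => rw [pow_succ]; nlinarith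
      have hkm : Ω n ≤ m := by
        by_contra h
        have := le_trans (Nat.pow_le_pow_right two_pos (show m + 1 ≤ Ω n by omega)) hk
        omega
      have := key m hm
      refine gen m hkm ?_ (by omega)
      calc n ^ m ≤ (2 ^ (m + 1)) ^ m := Nat.pow_le_pow_left hhi.le m
        _ = 2 ^ ((m + 1) * m) := (pow_mul ..).symm
        _ ≤ _ := by
          refine Nat.pow_le_pow_right two_pos ?_
          rw [add_mul, one_mul]
          omega
  -- the small degrees
  have p2 : Ω 2 = 1 := cardFactors_apply_prime Nat.prime_two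
  have p3 : Ω 3 = 1 := cardFactors_apply_prime Nat.prime_three
  have p5 : Ω 5 = 1 := cardFactors_apply_prime Nat.prime_five
  have p7 : Ω 7 = 1 := cardFactors_apply_prime (by norm_num)
  have o4 : Ω 4 = 2 := by rw [show 4 = 2 * 2 from rfl, cardFactors_mul two_ne_zero two_ne_zero, p2]
  have o6 : Ω 6 = 2 := by
    rw [show 6 = 2 * 3 from rfl, cardFactors_mul two_ne_zero three_ne_zero, p2, p3]
  have o9 : Ω 9 = 2 := by
    rw [show 9 = 3 * 3 from rfl, cardFactors_mul three_ne_zero three_ne_zero, p3]
  have o8 : Ω 8 = 3 := by rw [show 8 = 4 * 2 from rfl, cardFactors_mul (by norm_num) two_ne_zero,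
    o4, p2]
  obtain ⟨e, he⟩ := hd
  have he0 : e ≠ 0 := fun h => Nat.factorial_ne_zero _ (by rw [he, h, mul_zero])
  have hde : Ω (Nat.factorial (n - 1)) = Ω d + Ω e := by rw [he, cardFactors_mul hd0 he0]
  interval_cases n
  · rw [show Nat.factorial (4 - 1) = 6 from rfl, o6] at hde
    rw [o4]; omega
  · exact absurd p5 hk1
  · rw [show Nat.factorial (6 - 1) = 120 from rfl] at hde he
    rw [show (120 : ℕ) = 4 * 6 * 5 from rfl, cardFactors_mul (by norm_num) (by norm_num),
      cardFactors_mul (by norm_num) (by norm_num), o4, o6, p5] at hde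
    rw [o6] at hlt ⊢
    by_contra hc
    have : Ω e = 0 := by omega
    rcases cardFactors_eq_zero_iff_eq_zero_or_one.1 this with h | h
    · exact he0 h
    · subst h; norm_num at hlt; omega
  · exact absurd p7 hk1
  · rw [show Nat.factorial (8 - 1) = 5040 from rfl] at hde he
    rw [show (5040 : ℕ) = 8 * 9 * 5 * 7 * 2 from rfl,
      cardFactors_mul (by norm_num) (by norm_num), cardFactors_mul (by norm_num) (by norm_num),
      cardFactors_mul (by norm_num) (by norm_num), cardFactors_mul (by norm_num) (by norm_num),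
      o8, o9, p5, p7, p2] at hde
    rw [o8] at hlt ⊢
    by_contra hc
    have h7 : e ≤ 7 := by
      rcases Nat.eq_zero_or_pos (Ω e) with h | h
      · rcases cardFactors_eq_zero_iff_eq_zero_or_one.1 h with h | h <;> omega
      · have hp : e.Prime := cardFactors_eq_one_iff_prime.1 (by omega)
        have h1 : e ∣ 2 ^ 4 * 3 ^ 2 * 5 * 7 := ⟨d, by rw [mul_comm e]; norm_num; exact he⟩
        rcases (Nat.Prime.dvd_mul hp).1 h1 with h1 | h1
        · rcases (Nat.Prime.dvd_mul hp).1 h1 with h1 | h1
          · rcases (Nat.Prime.dvd_mul hp).1 h1 with h1 | h1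
            · exact (Nat.le_of_dvd two_pos (hp.dvd_of_dvd_pow h1)).trans (by norm_num)
            · exact (Nat.le_of_dvd three_pos (hp.dvd_of_dvd_pow h1)).trans (by norm_num)
          · exact (Nat.le_of_dvd (by norm_num) h1).trans (by norm_num)
        · exact Nat.le_of_dvd (by norm_num) h1
    have : d * e ≤ 511 * 7 := Nat.mul_le_mul (by norm_num at hlt; omega) h7
    omega
  · rw [o9] at hlt hb ⊢
    by_contra hc
    have : 2 ^ 8 ≤ 2 ^ Ω d := Nat.pow_le_pow_right two_pos (by omega)
    norm_num at hb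
    omega

theorem exists_small_generating {G : Type*} [Group G] [Finite G] (H : Subgroup G) :
    ∃ S : Finset G, S.card ≤ Ω (Nat.card H) ∧ Subgroup.closure (S : Set G) = H := by
  classical
  induction hc : Nat.card H using Nat.strong_induction_on generalizing H with
  | _ c ih =>
  subst hc
  by_cases hH : H = ⊥
  · exact ⟨∅, by simp, by simp [hH]⟩
  obtain ⟨M, hM⟩ := (Set.toFinite {M : Subgroup G | M < H}).exists_maximal
    ⟨⊥, bot_lt_iff_ne_bot.2 hH⟩
  have hlt : M < H := hM.1
  have hcard : Nat.card M < Nat.card H := by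
    by_contra h
    exact hlt.ne (Subgroup.eq_of_le_of_card_ge hlt.le (by omega))
  obtain ⟨S, hS, hSM⟩ := ih _ hcard M rfl
  obtain ⟨x, hxH, hxM⟩ := SetLike.exists_of_lt hlt
  refine ⟨insert x S, ?_, ?_⟩
  · have := cardFactors_lt_of_lt hlt
    have := Finset.card_insert_le x S
    omega
  · rw [Finset.coe_insert]
    have hle : Subgroup.closure (insert x (S : Set G)) ≤ H := by
      rw [Subgroup.closure_le, Set.insert_subset_iff]
      exact ⟨hxH, fun y hy => hlt.le (hSM ▸ Subgroup.subset_closure hy)⟩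
    by_contra hne
    have hMc : M ≤ Subgroup.closure (insert x (S : Set G)) := by
      rw [← hSM]; exact Subgroup.closure_mono (Set.subset_insert _ _)
    exact hxM (hM.2 (lt_of_le_of_ne hle hne) hMc (Subgroup.subset_closure (Set.mem_insert _ _)))

theorem seven_le_card_simple {S : Type*} [Group S] [Finite S]
    (hs : ∀ M : Subgroup S, M.Normal → M = ⊥ ∨ M = ⊤) (hna : ∃ a b : S, a * b ≠ b * a) :
    7 ≤ Nat.card S := by
  obtain ⟨a, b, hab⟩ := hna
  by_contra hc
  have hpos : 0 < Nat.card S := Nat.card_pos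
  have hprime : (Nat.card S).Prime → False := fun hp => by
    haveI : Fact (Nat.card S).Prime := ⟨hp⟩
    haveI := isCyclic_of_prime_card (α := S) rfl
    exact hab (IsCyclic.commGroup.mul_comm a b)
  interval_cases h : Nat.card S
  · haveI := (Nat.card_eq_one_iff_unique.1 h).1
    exact hab (Subsingleton.elim _ _)
  · exact hprime Nat.prime_two
  · exact hprime Nat.prime_three
  · haveI : Fact (Nat.Prime 2) := ⟨Nat.prime_two⟩
    exact hab (IsPGroup.commutative_of_card_eq_prime_sq (G := S) (p := 2) (by rw [h]; norm_num) a b)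
  · exact hprime Nat.prime_five
  · haveI : Fact (Nat.Prime 3) := ⟨Nat.prime_three⟩
    obtain ⟨x, hx⟩ := exists_prime_orderOf_dvd_card' (G := S) 3 (by rw [h]; norm_num)
    have hcx : Nat.card (Subgroup.zpowers x) = 3 := by rw [Nat.card_zpowers, hx]
    have hidx : (Subgroup.zpowers x).index = 2 := by
      have := (Subgroup.zpowers x).card_mul_index
      rw [hcx, h] at this
      omega
    rcases hs _ (Subgroup.normal_of_index_eq_two hidx) with h' | h' <;> rw [h'] at hcx
    · rw [Subgroup.card_bot] at hcx; omega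
    · rw [Subgroup.card_top, h] at hcx; omega

variable {G X : Type*} [Group G] [MulAction G X]

/-- A group with a regular normal subgroup satisfies the bound. -/
theorem regular_case [Finite G] [Finite X] [FaithfulSMul G X] (N : Subgroup G) [hNn : N.Normal]
    [hNt : IsPretransitive N X] (α : X) (hreg : ∀ x ∈ N, x • α = α → x = 1)
    (h2 : 2 ≤ Nat.card X) : LenLE G (4 * (Nat.card X - 1)) := by
  classical
  haveI : IsPretransitive G X := ⟨fun x y => by
    obtain ⟨k, hk⟩ := exists_smul_eq N x y
    exact ⟨(k : G), hk⟩⟩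
  have hNcard : Nat.card N = Nat.card X := by
    rw [← Subgroup.index_bot (G := N), ← index_stabilizer_of_transitive N α]
    congr 1
    symm
    rw [Subgroup.eq_bot_iff_forall]
    intro x hx
    exact Subtype.ext (hreg x x.2 hx)
  let A := stabilizer G α
  have hG : Nat.card G = Nat.card X * Nat.card A := by
    rw [← A.card_mul_index, index_stabilizer_of_transitive, mul_comm]
  have hdvd : Nat.card G ∣ Nat.factorial (Nat.card X) := by
    rw [← Nat.card_perm, Nat.card_congr
      (MonoidHom.ofInjective (f := toPermHom G X) toPerm_injective).toEquiv]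
    exact Subgroup.card_subgroup_dvd_card _
  have hd : Nat.card A ∣ Nat.factorial (Nat.card X - 1) := by
    rw [hG, ← Nat.mul_factorial_pred (show Nat.card X ≠ 0 by omega)] at hdvd
    exact Nat.dvd_of_mul_dvd_mul_left (by omega) hdvd
  obtain ⟨S, hS, hSN⟩ := exists_small_generating N
  have hSmem : ∀ s : S, (s : G) ∈ N := fun s => hSN ▸ Subgroup.subset_closure s.2
  let f : A → S → N := fun a s => ⟨a * s * (a : G)⁻¹, hNn.conj_mem _ (hSmem s) _⟩
  have hf : Function.Injective f := by
    intro a b hab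
    have hcl : N ≤ Subgroup.centralizer {(b : G)⁻¹ * a} := by
      rw [← hSN, Subgroup.closure_le]
      intro s hs
      rw [SetLike.mem_coe, Subgroup.mem_centralizer_singleton_iff]
      have := congrArg Subtype.val (congrFun hab ⟨s, hs⟩)
      simp only [f] at this
      rw [mul_inv_eq_iff_eq_mul] at this
      rw [mul_assoc (b : G)⁻¹, this]
      group
    have : (b : G)⁻¹ * a = 1 := FaithfulSMul.eq_of_smul_eq_smul (α := X) fun y => by
      obtain ⟨⟨x, hx⟩, rfl⟩ := exists_smul_eq N α y
      rw [one_smul]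
      show ((b : G)⁻¹ * a) • x • α = x • α
      rw [← mul_smul, ← Subgroup.mem_centralizer_singleton_iff.1 (hcl hx), mul_smul]
      congr 1
      exact (A.mul_mem (A.inv_mem b.2) a.2)
    exact Subtype.ext (inv_mul_eq_one.1 this).symm
  haveI : Fintype A := Fintype.ofFinite _
  have hlt : Nat.card A < Nat.card X ^ Ω (Nat.card X) := by
    haveI : Nontrivial N := Finite.one_lt_card_iff_nontrivial.1 (by omega)
    obtain ⟨s0, hs0⟩ : S.Nonempty := by
      rcases S.eq_empty_or_nonempty with rfl | h
      · rw [Finset.coe_empty, Subgroup.closure_empty] at hSN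
        exact absurd hSN.symm ((Subgroup.nontrivial_iff_ne_bot N).1 inferInstance)
      · exact h
    obtain ⟨s, hsS, hs1⟩ : ∃ s ∈ S, s ≠ 1 := by
      by_contra hc
      push Not at hc
      apply (Subgroup.nontrivial_iff_ne_bot N).1 inferInstance
      rw [← hSN, eq_bot_iff, Subgroup.closure_le]
      exact fun s hs => hc s hs
    have hns : ¬ Function.Surjective f := by
      intro h
      obtain ⟨a, ha⟩ := h fun _ => 1
      have := congrArg Subtype.val (congrFun ha ⟨s, hsS⟩)
      simp only [f, OneMemClass.coe_one] at this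
      exact hs1 (conj_eq_one_iff.1 this)
    haveI : Fintype N := Fintype.ofFinite _
    have := Fintype.card_lt_of_injective_not_surjective f hf hns
    rw [Fintype.card_fun, Fintype.card_coe, ← Nat.card_eq_fintype_card,
      ← Nat.card_eq_fintype_card, hNcard] at this
    exact this.trans_le (Nat.pow_le_pow_right (by omega) (hNcard ▸ hS))
  refine (lenLE_cardFactors (G := G)).mono ?_
  rw [hG, cardFactors_mul (by omega) Nat.card_pos.ne']
  exact regular_arith h2 hd hlt

theorem pow_growth {k t : ℕ} (hk : 3 ≤ k) (ht : 7 ≤ t) : (k * (t - 1)) ^ 2 < t ^ k := by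
  induction k, hk using Nat.le_induction with
  | base =>
    rcases le_or_gt 9 t with h | h
    · calc (3 * (t - 1)) ^ 2 < (3 * t) ^ 2 := Nat.pow_lt_pow_left (by omega) two_ne_zero
        _ = 9 * t ^ 2 := by ring
        _ ≤ t * t ^ 2 := Nat.mul_le_mul_right _ h
        _ = t ^ 3 := by ring
    · interval_cases t <;> norm_num
  | succ k hk ih =>
    have h1 : ((k + 1) * (t - 1)) ^ 2 ≤ 2 * (k * (t - 1)) ^ 2 := by
      have : (k + 1) ^ 2 ≤ 2 * k ^ 2 := by nlinarith
      calc ((k + 1) * (t - 1)) ^ 2 = (k + 1) ^ 2 * (t - 1) ^ 2 := mul_pow ..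
        _ ≤ 2 * k ^ 2 * (t - 1) ^ 2 := Nat.mul_le_mul_right _ this
        _ = _ := by ring
    rw [pow_succ t k]
    have : 2 * t ^ k ≤ t ^ k * t := by
      rw [mul_comm (t ^ k)]; exact Nat.mul_le_mul_right _ (by omega)
    omega

theorem mul_lt_pow_of_two_le {k m : ℕ} (hk : 3 ≤ k) (hm : 2 ≤ m) : k * m < m ^ k := by
  have h : k < m ^ (k - 1) := by
    obtain ⟨j, rfl⟩ : ∃ j, k = j + 3 := ⟨k - 3, by omega⟩
    have h2 : 2 ^ (j + 2) ≤ m ^ (j + 3 - 1) := Nat.pow_le_pow_left hm _
    have := Nat.lt_two_pow_self (n := j + 1)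
    rw [pow_succ] at h2
    omega
  calc k * m < m ^ (k - 1) * m := Nat.mul_lt_mul_of_pos_right h (by omega)
    _ = m ^ k := by rw [← pow_succ]; congr 1; omega

/-- A group with a non-regular minimal normal subgroup with at least three factors has a smaller
faithful action. -/
theorem exists_small_action [Finite G] [Finite X] [FaithfulSMul G X] (N : Subgroup G)
    [hNn : N.Normal] [hNt : IsPretransitive N X]
    (hmin : ∀ K : Subgroup G, K.Normal → K ≤ N → K = ⊥ ∨ K = N)
    (hC : ∀ g : G, (∀ x ∈ N, g * x = x * g) → g = 1)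
    {ι : Type*} [MulAction G ι] [IsPretransitive G ι] [Finite ι] (D : SimpleDecomp N ι)
    (α : X) (x₀ : G) (hx₀N : x₀ ∈ N) (hx₀α : x₀ • α = α) (hx₀ : x₀ ≠ 1)
    (hk : 3 ≤ Nat.card ι) {n : ℕ} (hX : Nat.card X = n) (IH : LengthBelow n) :
    LenLE G (4 * (n - 1)) := by
  classical
  haveI : Fintype ι := Fintype.ofFinite _
  haveI : IsPretransitive G X := ⟨fun x y => by
    obtain ⟨k, hk⟩ := exists_smul_eq N x y
    exact ⟨(k : G), hk⟩⟩
  have finish : ∀ (Y : Type _) [MulAction G Y] [Finite Y] [Nonempty Y] [FaithfulSMul G Y],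
      Nat.card Y < n → LenLE G (4 * (n - 1)) := by
    intro Y _ _ _ _ hY
    have := orbCount_pos (G := G) (X := Y)
    exact (IH.faithful_bound hY).mono (by omega)
  have ext2 : ∀ x y : N, (∀ i, D.proj i x = D.proj i y) → x = y := fun x y h =>
    inv_mul_eq_one.1 (D.proj_ext _ fun i => by rw [map_mul, map_inv, h i, inv_mul_cancel])
  have proj_T : ∀ i (x : N), (x : G) ∈ D.T i → ∀ j, j ≠ i → D.proj j x = 1 :=
    fun i x hx j hj => D.proj_other j i hj x hx
  -- conjugation by elements of `N`
  have hconjN : ∀ (x : N) i (a : G) (ha : a ∈ D.T i),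
      (x : G) * a * (x : G)⁻¹ = D.proj i x * a * (D.proj i x)⁻¹ := by
    intro x i a ha
    have hb : D.proj i x * a * (D.proj i x)⁻¹ ∈ D.T i :=
      mul_mem (mul_mem (D.proj_mem i x) ha) (inv_mem (D.proj_mem i x))
    have := ext2 (x * ⟨a, D.le i ha⟩ * x⁻¹) ⟨_, D.le i hb⟩ fun j => by
      rw [map_mul, map_mul, map_inv]
      by_cases hj : j = i
      · subst hj
        rw [D.proj_self j ⟨a, D.le j ha⟩ ha, D.proj_self j ⟨_, D.le j hb⟩ hb]
      · rw [proj_T i ⟨a, D.le i ha⟩ ha j hj, proj_T i ⟨_, D.le i hb⟩ hb j hj, mul_one,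
          mul_inv_cancel]
    exact congrArg Subtype.val this
  have hfix : ∀ x ∈ N, ∀ i : ι, x • i = i := by
    intro x hx i
    by_contra hne
    obtain ⟨a, ha, b, hb, hab⟩ := D.nonabelian i
    have h1 := D.conj_mem x i a ha
    have h2 : x * b * x⁻¹ ∈ D.T i := by
      rw [hconjN ⟨x, hx⟩ i b hb]
      exact mul_mem (mul_mem (D.proj_mem i _) hb) (inv_mem (D.proj_mem i _))
    have := D.commute _ _ hne _ h1 _ h2
    rw [conj_mul, conj_mul] at this
    exact hab (mul_left_cancel (mul_right_cancel this))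
  haveI : ∀ i, Finite (D.T i) := fun i => inferInstance
  obtain ⟨i₀⟩ : Nonempty ι := (Nat.card_pos_iff.1 (by omega)).1
  -- all factors have the same order
  have hTmap : ∀ (g : G) i, Nat.card (D.T i) ≤ Nat.card (D.T (g • i)) := fun g i =>
    Nat.card_le_card_of_injective (fun a : D.T i => (⟨_, D.conj_mem g i a a.2⟩ : D.T (g • i)))
      fun a b h => Subtype.ext (by simpa using congrArg Subtype.val h)
  set t := Nat.card (D.T i₀) with ht
  have hT : ∀ i, Nat.card (D.T i) = t := by
    intro i
    obtain ⟨g, rfl⟩ := exists_smul_eq G i₀ i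
    refine le_antisymm ?_ (hTmap g i₀)
    have := hTmap g⁻¹ (g • i₀)
    rwa [inv_smul_smul] at this
  have hN : Nat.card N = t ^ Nat.card ι := by
    have : Function.Bijective
        (fun (x : N) (i : ι) => (⟨D.proj i x, D.proj_mem i x⟩ : D.T i)) := by
      refine ⟨fun x y h => ext2 x y fun i => congrArg Subtype.val (congrFun h i), fun f => ?_⟩
      obtain ⟨x, hx⟩ := D.proj_surj (fun i => f i) (fun i => (f i).2)
      exact ⟨x, funext fun i => Subtype.ext (hx i)⟩
    rw [Nat.card_congr (Equiv.ofBijective _ this), Nat.card_pi]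
    simp [hT, Finset.prod_const, Nat.card_eq_fintype_card]
  let M := stabilizer N α
  have hnM : n * Nat.card M = t ^ Nat.card ι := by
    rw [← hN, ← M.card_mul_index, index_stabilizer_of_transitive, hX, mul_comm]
  let R : ι → Subgroup G := fun i => M.map (D.proj i)
  have hRT : ∀ i, R i ≤ D.T i := by
    rintro i _ ⟨x, -, rfl⟩; exact D.proj_mem i x
  -- equivariance under the stabiliser
  have hRconj : ∀ a ∈ stabilizer G α, ∀ i, ∀ r ∈ R i, a * r * a⁻¹ ∈ R (a • i) := by
    rintro a ha i _ ⟨x, hx, rfl⟩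
    let y : N := ⟨a * x * a⁻¹, hNn.conj_mem _ x.2 a⟩
    have hy : y ∈ M := by
      show (a * x * a⁻¹) • α = α
      have hinv : a⁻¹ • α = α := (stabilizer G α).inv_mem ha
      rw [mul_smul, mul_smul, hinv, show (x : G) • α = α from hx]
      exact ha
    exact ⟨y, hy, D.proj_conj a i x y rfl⟩
  have htrans : ∀ i j : ι, ∃ a ∈ stabilizer G α, a • i = j := by
    intro i j
    obtain ⟨g, rfl⟩ := exists_smul_eq G i j
    obtain ⟨⟨x, hx⟩, hxg⟩ := exists_smul_eq N α (g • α)
    refine ⟨x⁻¹ * g, ?_, ?_⟩
    · show (x⁻¹ * g) • α = α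
      rw [mul_smul, ← hxg]
      exact inv_smul_smul x α
    · rw [mul_smul, hfix _ (N.inv_mem hx)]
  have hRle : ∀ i j, Nat.card (R i) ≤ Nat.card (R j) := fun i j => by
    obtain ⟨a, ha, rfl⟩ := htrans i j
    exact Nat.card_le_card_of_injective (fun r : R i => (⟨_, hRconj a ha i r r.2⟩ : R (a • i)))
      fun a b h => Subtype.ext (by simpa using congrArg Subtype.val h)
  have hR : ∀ i, Nat.card (R i) = Nat.card (R i₀) := fun i => le_antisymm (hRle _ _) (hRle _ _)
  have hM1 : M ≠ ⊥ := fun h => hx₀ <| congrArg Subtype.val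
    ((Subgroup.eq_bot_iff_forall _).1 h ⟨x₀, hx₀N⟩ hx₀α)
  have hna' : ∀ i, ∃ a b : D.T i, a * b ≠ b * a := fun i => by
    obtain ⟨a, ha, b, hb, hab⟩ := D.nonabelian i
    exact ⟨⟨a, ha⟩, ⟨b, hb⟩, fun e => hab (congrArg Subtype.val e)⟩
  have ht7 : 7 ≤ t := seven_le_card_simple (D.simple i₀) (hna' i₀)
  by_cases hfull : R i₀ = D.T i₀
  · -- diagonal case: conjugation on the factors
    have hfull' : ∀ i, R i = D.T i := fun i =>
      Subgroup.eq_of_le_of_card_ge (hRT i) (by rw [hR i, hfull, hT i])
    let φ : N →* ∀ i, D.T i :=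
      { toFun := fun x i => ⟨D.proj i x, D.proj_mem i x⟩
        map_one' := by funext i; ext; simp
        map_mul' := fun x y => by funext i; ext; simp }
    have hφ : Function.Injective φ := fun x y h =>
      ext2 x y fun i => congrArg Subtype.val (congrFun h i)
    have hsq := card_sq_le_of_proj (S := fun i => D.T i) t hT (by omega) (D.simple) hna'
      (M.map φ) ?_ ?_
    rotate_left
    · intro i x
      obtain ⟨m, hm, hmx⟩ : (x : G) ∈ R i := (hfull' i).symm ▸ x.2
      exact ⟨φ m, ⟨m, hm, rfl⟩, Subtype.ext hmx⟩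
    · rintro i _ ⟨m, hm, rfl⟩ h1
      have hm' : ∀ j, j ≠ i → D.proj j m = 1 := fun j hj => congrArg Subtype.val (h1 j hj)
      have hmT : (m : G) ∈ D.T i := by
        have := ext2 m ⟨D.proj i m, D.le i (D.proj_mem i m)⟩ fun j => by
          by_cases hj : j = i
          · subst hj; rw [D.proj_self j ⟨_, D.le j (D.proj_mem j m)⟩ (D.proj_mem j m)]
          · rw [hm' j hj, proj_T i ⟨_, D.le i (D.proj_mem i m)⟩ (D.proj_mem i m) j hj]
        rw [this]; exact D.proj_mem i m
      let E : Subgroup (D.T i) := (stabilizer G α).subgroupOf (D.T i)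
      have hE : E.Normal := ⟨fun a ha b => by
        obtain ⟨m', hm'', hb⟩ : (b : G) ∈ R i := (hfull' i).symm ▸ b.2
        show ((b : G) * a * (b : G)⁻¹) • α = α
        have he := hconjN m' i a a.2
        rw [hb] at he
        rw [← he, mul_smul, mul_smul]
        have h1 : ((m' : G))⁻¹ • α = α :=
          (stabilizer G α).inv_mem (show (m' : G) ∈ stabilizer G α from hm'')
        rw [h1, show (a : G) • α = α from ha]
        exact hm''⟩
      rcases D.simple i E hE with h | h
      · have hmE : (⟨m, hmT⟩ : D.T i) ∈ E := hm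
        rw [h, Subgroup.mem_bot] at hmE
        have : m = 1 := Subtype.ext (congrArg Subtype.val hmE :)
        rw [this, map_one]
      · exfalso
        obtain ⟨a, ha, b, hb, hab⟩ := D.nonabelian i
        have triv : ∀ c ∈ D.T i, c = 1 := fun c hc => by
          refine FaithfulSMul.eq_of_smul_eq_smul (α := X) fun y => ?_
          obtain ⟨⟨x, hx⟩, rfl⟩ := exists_smul_eq N α y
          rw [one_smul]
          show c • x • α = x • α
          have hxc : x⁻¹ * c * x ∈ D.T i := by
            have := D.conj_mem x⁻¹ i c hc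
            rwa [hfix _ (N.inv_mem hx), inv_inv] at this
          have h2 : (x⁻¹ * c * x) • α = α :=
            (h ▸ Subgroup.mem_top (⟨_, hxc⟩ : D.T i) : (⟨_, hxc⟩ : D.T i) ∈ E)
          rwa [mul_smul, mul_smul, inv_smul_eq_iff] at h2
        exact hab (by rw [triv a ha, triv b hb])
    rw [← Nat.card_congr (M.equivMapOfInjective φ hφ).toEquiv,
      ← Nat.card_eq_fintype_card] at hsq
    -- `t ^ k ≤ n ^ 2`
    have hn2 : t ^ Nat.card ι ≤ n ^ 2 := by
      have hpos : 0 < Nat.card M ^ 2 := pow_pos Nat.card_pos 2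
      refine Nat.le_of_mul_le_mul_left ?_ hpos
      calc Nat.card M ^ 2 * t ^ Nat.card ι
          ≤ t ^ Nat.card ι * t ^ Nat.card ι := Nat.mul_le_mul_right _ hsq
        _ = Nat.card M ^ 2 * n ^ 2 := by rw [← hnM]; ring
    have hlt : Nat.card ι * (t - 1) < n :=
      (Nat.pow_lt_pow_iff_left two_ne_zero).1 ((pow_growth hk ht7).trans_le hn2)
    let Y := {x : G // x ≠ 1 ∧ ∃ i, x ∈ D.T i}
    letI : MulAction G Y :=
      { smul := fun g y => ⟨g * y.1 * g⁻¹, fun h => y.2.1 (conj_eq_one_iff.1 h),
          y.2.2.elim fun i hi => ⟨g • i, D.conj_mem g i _ hi⟩⟩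
        one_smul := fun y => Subtype.ext (show 1 * y.1 * 1⁻¹ = y.1 by simp)
        mul_smul := fun g h y => Subtype.ext
          (show g * h * y.1 * (g * h)⁻¹ = g * (h * y.1 * h⁻¹) * g⁻¹ by group) }
    haveI : Nonempty Y := by
      obtain ⟨a, ha, b, -, hab⟩ := D.nonabelian i₀
      exact ⟨⟨a, fun h => hab (by simp [h]), i₀, ha⟩⟩
    haveI : FaithfulSMul G Y := ⟨fun {g h} hgh => by
      refine (inv_mul_eq_one.1 (hC (g⁻¹ * h) ?_))
      have : ∀ i, D.T i ≤ Subgroup.centralizer {g⁻¹ * h} := by
        intro i a ha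
        rw [Subgroup.mem_centralizer_singleton_iff]
        by_cases ha1 : a = 1
        · simp [ha1]
        have h1 : g * a * g⁻¹ = h * a * h⁻¹ := congrArg Subtype.val (hgh ⟨a, ha1, i, ha⟩)
        calc a * (g⁻¹ * h) = g⁻¹ * (g * a * g⁻¹) * h := by group
          _ = g⁻¹ * (h * a * h⁻¹) * h := by rw [h1]
          _ = g⁻¹ * h * a := by group
      intro x hx
      exact (Subgroup.mem_centralizer_singleton_iff.1
        (iSup_le this (D.iSup_eq.symm ▸ hx))).symm⟩
    refine finish Y (lt_of_le_of_lt ?_ hlt)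
    have hsig : Nat.card (Σ i, {a : D.T i // a ≠ 1}) = Nat.card ι * (t - 1) := by
      rw [Nat.card_sigma]
      have : ∀ i, Nat.card {a : D.T i // a ≠ 1} = t - 1 := by
        intro i
        haveI : Fintype (D.T i) := Fintype.ofFinite _
        rw [Nat.card_eq_fintype_card, Fintype.card_subtype_compl, Fintype.card_subtype_eq,
          ← Nat.card_eq_fintype_card, hT i]
      simp [this, Nat.card_eq_fintype_card]
    rw [← hsig]
    refine Nat.card_le_card_of_surjective
      (fun s => (⟨s.2.1, fun h => s.2.2 (Subtype.ext h), s.1, s.2.1.2⟩ : Y)) ?_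
    rintro ⟨x, hx1, i, hi⟩
    exact ⟨⟨i, ⟨x, hi⟩, fun h => hx1 (congrArg Subtype.val h)⟩, rfl⟩
  · -- proper projections: conjugates of one of them
    have hR0 : R i₀ ≠ ⊥ := by
      intro h
      apply hM1
      rw [Subgroup.eq_bot_iff_forall]
      intro x hx
      refine D.proj_ext x fun i => ?_
      have hRi : R i = ⊥ :=
        Subgroup.eq_bot_of_card_eq _ (by rw [hR i, h, Subgroup.card_bot])
      have : D.proj i x ∈ R i := ⟨x, hx, rfl⟩
      rwa [hRi, Subgroup.mem_bot] at this
    obtain ⟨m, hm⟩ := Subgroup.card_dvd_of_le (hRT i₀)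
    have hm2 : 2 ≤ m := by
      by_contra h
      interval_cases m
      · rw [mul_zero] at hm; exact Nat.card_pos.ne' hm
      · exact hfull (Subgroup.eq_of_le_of_card_ge (hRT i₀) (by rw [hm, mul_one]))
    have hMR : Nat.card M ≤ Nat.card (R i₀) ^ Nat.card ι := by
      refine le_trans (Nat.card_le_card_of_injective
        (fun (x : M) (i : ι) => (⟨D.proj i x.1, x.1, x.2, rfl⟩ : R i))
        fun x y h => Subtype.ext (ext2 _ _ fun i => congrArg Subtype.val (congrFun h i))) ?_
      rw [Nat.card_pi]
      simp [hR, Finset.prod_const, Nat.card_eq_fintype_card]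
    have hnm : m ^ Nat.card ι ≤ n := by
      refine Nat.le_of_mul_le_mul_right ?_ (pow_pos (Nat.card_pos (α := R i₀)) (Nat.card ι))
      rw [← mul_pow, mul_comm m, ← hm, ← ht, ← hnM]
      exact Nat.mul_le_mul_left _ hMR
    let H := Subgroup.normalizer (R i₀ : Set G)
    have hAH : stabilizer G i₀ ≤ N ⊔ H := by
      intro g hg
      obtain ⟨⟨x, hx⟩, hxg⟩ := exists_smul_eq N α (g • α)
      have hmem : x⁻¹ * g ∈ stabilizer G α := by
        show (x⁻¹ * g) • α = α
        rw [mul_smul, ← hxg]
        exact inv_smul_smul x α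
      have hi : (x⁻¹ * g) • i₀ = i₀ := by
        rw [mul_smul, show g • i₀ = i₀ from hg, hfix _ (N.inv_mem hx)]
      have hH : x⁻¹ * g ∈ H := by
        rw [Subgroup.mem_normalizer_iff]
        intro r
        refine ⟨fun hr => ?_, fun hr => ?_⟩
        · have := hRconj _ hmem i₀ r hr
          rwa [hi] at this
        · have := hRconj _ ((stabilizer G α).inv_mem hmem) i₀ _ hr
          rw [inv_smul_eq_iff.2 hi.symm] at this
          simpa [mul_assoc] using this
      have := mul_mem (Subgroup.mem_sup_left (T := H) hx) (Subgroup.mem_sup_right (S := N) hH)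
      rwa [mul_inv_cancel_left] at this
    have hrange : (D.proj i₀).range = D.T i₀ := by
      refine le_antisymm ?_ fun a ha => ⟨⟨a, D.le _ ha⟩, D.proj_self _ _ ha⟩
      rintro _ ⟨x, rfl⟩; exact D.proj_mem _ x
    let P := (R i₀).comap (D.proj i₀)
    have hP : P.map N.subtype ≤ N ⊓ H := by
      rintro _ ⟨x, hx, rfl⟩
      refine Subgroup.mem_inf.2 ⟨x.2, ?_⟩
      rw [Subgroup.mem_normalizer_iff]
      intro r
      have hx' : D.proj i₀ x ∈ R i₀ := hx
      refine ⟨fun hr => ?_, fun hr => ?_⟩
      · show (x : G) * r * (x : G)⁻¹ ∈ R i₀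
        rw [hconjN x i₀ r (hRT _ hr)]
        exact mul_mem (mul_mem hx' hr) (inv_mem hx')
      · have hr' : (x : G) * r * (x : G)⁻¹ ∈ R i₀ := hr
        have h2 := hconjN x⁻¹ i₀ _ (hRT _ hr')
        rw [map_inv, inv_inv] at h2
        have hr2 : r = (D.proj i₀ x)⁻¹ * ((x : G) * r * (x : G)⁻¹) * D.proj i₀ x := by
          rw [← h2, Subgroup.coe_inv, inv_inv]; group
        rw [hr2]
        exact mul_mem (mul_mem (inv_mem hx') hr') hx'
    have hPi : P.index = m := by
      show ((R i₀).comap (D.proj i₀)).index = m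
      rw [Subgroup.index_comap, hrange]
      refine Nat.eq_of_mul_eq_mul_left (Nat.card_pos (α := R i₀)) ?_
      rw [← hm, Subgroup.relIndex, ← Nat.card_congr (Subgroup.subgroupOfEquivOfLe (hRT i₀)).toEquiv,
        Subgroup.card_mul_index]
    have hNH : Nat.card N ≤ m * Nat.card ↥(N ⊓ H) := by
      rw [← P.card_mul_index, hPi, mul_comm m]
      refine Nat.mul_le_mul_right _ ?_
      rw [← Solv.card_map_subtype N P]
      exact Subgroup.card_le_of_le hP
    have hcount : H.index ≤ Nat.card ι * m := by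
      have h1 : Nat.card G = Nat.card (stabilizer G i₀) * Nat.card ι := by
        rw [← index_stabilizer_of_transitive G i₀, Subgroup.card_mul_index]
      have h2 := Solv.card_sup_mul_card_inf N H
        (le_top.trans_eq (Subgroup.normalizer_eq_top (H := N)).symm)
      have h3 : Nat.card (stabilizer G i₀) ≤ Nat.card ↥(N ⊔ H) := Subgroup.card_le_of_le hAH
      refine Nat.le_of_mul_le_mul_left ?_ (Nat.card_pos (α := H))
      refine Nat.le_of_mul_le_mul_right ?_ (Nat.card_pos (α := ↥(N ⊓ H)))
      rw [H.card_mul_index, h1]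
      calc Nat.card (stabilizer G i₀) * Nat.card ι * Nat.card ↥(N ⊓ H)
          ≤ Nat.card ↥(N ⊔ H) * Nat.card ι * Nat.card ↥(N ⊓ H) :=
            Nat.mul_le_mul_right _ (Nat.mul_le_mul_right _ h3)
        _ = Nat.card N * Nat.card H * Nat.card ι := by rw [← h2]; ring
        _ ≤ m * Nat.card ↥(N ⊓ H) * Nat.card H * Nat.card ι :=
            Nat.mul_le_mul_right _ (Nat.mul_le_mul_right _ hNH)
        _ = _ := by ring
    haveI : FaithfulSMul G (G ⧸ H) := by
      have hcore : H.normalCore = ⊥ := by
        rcases hmin (H.normalCore ⊓ N) inferInstance inf_le_right with h | h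
        · rw [Subgroup.eq_bot_iff_forall]
          intro g hg
          refine hC g fun x hx => ?_
          exact Subgroup.commute_of_normal_of_disjoint _ _ inferInstance hNn
            (disjoint_iff.2 h) g x hg hx
        · exfalso
          have hNH : N ≤ H := (h ▸ inf_le_left : N ≤ H.normalCore).trans H.normalCore_le
          rcases D.simple i₀ ((R i₀).subgroupOf (D.T i₀)) ⟨fun a ha b =>
              (Subgroup.mem_normalizer_iff.1 (hNH (D.le _ b.2)) a).1 ha⟩ with h' | h'
          · rw [Subgroup.subgroupOf_eq_bot] at h'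
            exact hR0 (le_bot_iff.1 ((le_inf le_rfl (hRT i₀)).trans h'.eq_bot.le))
          · exact hfull (le_antisymm (hRT _) (Subgroup.subgroupOf_eq_top.1 h'))
      refine ⟨fun {a b} h => inv_mul_eq_one.1 ?_⟩
      have hk : a⁻¹ * b ∈ (toPermHom G (G ⧸ H)).ker :=
        MonoidHom.mem_ker.2 (Equiv.ext fun q => by
          show (a⁻¹ * b) • q = q
          rw [mul_smul, ← h q, inv_smul_smul])
      rwa [← Subgroup.normalCore_eq_ker, hcore, Subgroup.mem_bot] at hk
    refine finish (G ⧸ H) ?_
    rw [← Subgroup.index_eq_card]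
    exact hcount.trans_lt ((mul_lt_pow_of_two_le hk hm2).trans_le hnm)

theorem lengthBound_all : ∀ n, LengthBelow n := by
  intro n
  induction n with
  | zero => intro m hm; omega
  | succ n IH =>
  intro m hm G
  rcases Nat.lt_succ_iff_lt_or_eq.1 hm with hm | rfl
  · exact IH m hm G
  classical
  have hcard : Nat.card (Fin m) = m := Nat.card_fin m
  by_cases hr : 2 ≤ orbCount G (Fin m)
  · exact IH.intransitive hcard hr
  rcases Nat.lt_or_ge m 2 with hm2 | hm2
  · haveI : Subsingleton (Fin m) := Fin.subsingleton_iff_le_one.2 (by omega)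
    haveI : Subsingleton G := ⟨fun a b => Subtype.ext (Equiv.ext fun x => Subsingleton.elim _ _)⟩
    exact lenLE_of_subsingleton _
  haveI : Nonempty (Fin m) := ⟨⟨0, by omega⟩⟩
  have hr1 : orbCount G (Fin m) = 1 := by
    have := orbCount_pos (G := G) (X := Fin m)
    omega
  rw [hr1]
  haveI : IsPretransitive G (Fin m) := by
    rw [pretransitive_iff_subsingleton_quotient]
    refine Finite.card_le_one_iff_subsingleton.1 ?_
    exact le_of_eq hr1
  by_cases hp : IsPreprimitive G (Fin m)
  swap
  · -- imprimitive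
    obtain ⟨B, hB, hBt⟩ : ∃ B : Set (Fin m), IsBlock G B ∧ ¬ IsTrivialBlock B := by
      by_contra hc
      push Not at hc
      exact hp (IsPreprimitive.mk fun {B} hB => hc B hB)
    have hBs : ¬ B.Subsingleton := fun h => hBt (Or.inl h)
    have hBu : B ≠ Set.univ := fun h => hBt (Or.inr h)
    have hBne : B.Nonempty := by
      by_contra h
      rw [Set.not_nonempty_iff_eq_empty] at h
      exact hBs (h ▸ Set.subsingleton_empty)
    have hmul := hB.ncard_block_mul_ncard_orbit_eq hBne
    rw [hcard] at hmul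
    have hc2 : 2 ≤ B.ncard := by
      by_contra h
      exact hBs (Set.ncard_le_one_iff_subsingleton.1 (by omega))
    have hcm : B.ncard < m := by
      have := Set.ncard_lt_ncard (Set.ssubset_univ_iff.2 hBu) Set.finite_univ
      rwa [Set.ncard_univ, hcard] at this
    let Y := orbit G B
    have hY : Nat.card Y = (orbit G B).ncard := Nat.card_coe_set_eq _
    have hY2 : 2 ≤ Nat.card Y := by
      rw [hY]; by_contra h
      interval_cases (orbit G B).ncard <;> omega
    have hYm : Nat.card Y < m := by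
      rw [hY]
      refine lt_of_lt_of_eq ?_ hmul
      have : 0 < (orbit G B).ncard := by omega
      calc (orbit G B).ncard = 1 * (orbit G B).ncard := (one_mul _).symm
        _ < B.ncard * (orbit G B).ncard := Nat.mul_lt_mul_of_pos_right hc2 this
    haveI : Nonempty Y := ⟨⟨B, mem_orbit_self B⟩⟩
    let K := (toPermHom G Y).ker
    have hK : Nat.card Y ≤ orbCount K (Fin m) := by
      have hpick : ∀ y : Y, ∃ x, x ∈ (y : Set (Fin m)) := by
        rintro ⟨_, g, rfl⟩
        exact hBne.image (g • ·)
      choose pick hpick using hpick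
      refine Nat.card_le_card_of_injective
        (fun y => (⟦pick y⟧ : Quotient (orbitRel K (Fin m)))) fun y z h => ?_
      obtain ⟨k, hk⟩ := Quotient.exact h
      have hky : ((k : G) • (z : Set (Fin m))) = (z : Set (Fin m)) :=
        congrArg Subtype.val (congrArg (fun s : Equiv.Perm Y => s z) (MonoidHom.mem_ker.1 k.2))
      have h1 : pick y ∈ (z : Set (Fin m)) := by
        rw [← hky, ← hk]
        exact Set.smul_mem_smul_set (hpick z)
      obtain ⟨g, hg⟩ := y.2
      obtain ⟨g', hg'⟩ := z.2
      by_contra hne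
      have hd : Disjoint (g • B) (g' • B) :=
        hB fun e => hne (Subtype.ext (hg.symm.trans (e.trans hg')))
      have hg1 : pick y ∈ g • B := (show g • B = (y : Set (Fin m)) from hg).symm ▸ hpick y
      have hg2 : pick y ∈ g' • B := (show g' • B = (z : Set (Fin m)) from hg').symm ▸ h1
      exact Set.disjoint_left.1 hd hg1 hg2
    have hext := LenLE.of_ker (toPermHom G Y).rangeRestrict
      (MonoidHom.rangeRestrict_surjective _)
      ((IH.intransitive (G := K) hcard (by omega)).of_mulEquiv
        (MulEquiv.subgroupCongr (MonoidHom.ker_rangeRestrict _).symm))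
      (IH.range_bound hYm)
    have hKle : orbCount K (Fin m) ≤ m := by
      exact (Nat.card_le_card_of_surjective _ Quotient.mk_surjective).trans_eq hcard
    have := orbCount_pos (G := G) (X := Y)
    exact hext.mono (by omega)
  -- primitive
  haveI : Nontrivial G := by
    refine not_subsingleton_iff_nontrivial.1 fun hs => ?_
    obtain ⟨g, hg⟩ := exists_smul_eq G (⟨0, by omega⟩ : (Fin m)) ⟨1, by omega⟩
    rw [Subsingleton.elim g 1, one_smul] at hg
    exact absurd (congrArg Fin.val hg) (by simp)
  obtain ⟨N, hNn, -, hN0, hmin⟩ :=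
    Solv.exists_minimal_normal_le (N := (⊤ : Subgroup G)) top_ne_bot
  have transN : ∀ K : Subgroup G, K.Normal → K ≠ ⊥ → IsPretransitive K (Fin m) := by
    intro K hK hK0
    haveI := hK
    refine IsQuasiPreprimitive.isPretransitive_of_normal (G := G) fun h => hK0 ?_
    rw [Subgroup.eq_bot_iff_forall]
    intro k hk
    refine FaithfulSMul.eq_of_smul_eq_smul (α := Fin m) fun x => ?_
    rw [one_smul]
    exact (h.symm ▸ Set.mem_univ x : x ∈ fixedPoints K (Fin m)) ⟨k, hk⟩
  haveI := transN N hNn hN0
  obtain ⟨α⟩ := ‹Nonempty (Fin m)›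
  by_cases hreg : ∀ x ∈ N, x • α = α → x = 1
  · have := regular_case N α hreg (by omega)
    rwa [hcard] at this
  push Not at hreg
  obtain ⟨x₀, hx₀N, hx₀α, hx₀⟩ := hreg
  have hC : ∀ g : G, (∀ x ∈ N, g * x = x * g) → g = 1 := by
    intro g hg
    by_contra hne
    let C := Subgroup.centralizer (N : Set G)
    have hgC : g ∈ C := Subgroup.mem_centralizer_iff.2 fun x hx => (hg x hx).symm
    haveI := transN C inferInstance fun h => hne (by rwa [h, Subgroup.mem_bot] at hgC)
    refine hx₀ (FaithfulSMul.eq_of_smul_eq_smul (α := Fin m) fun y => ?_)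
    obtain ⟨⟨c, hc⟩, rfl⟩ := exists_smul_eq C α y
    rw [one_smul]
    show x₀ • c • α = c • α
    rw [← mul_smul, Subgroup.mem_centralizer_iff.1 hc x₀ hx₀N, mul_smul, hx₀α]
  have hnab : ∃ a ∈ N, ∃ b ∈ N, a * b ≠ b * a := by
    by_contra hc
    push Not at hc
    exact hx₀ (hC x₀ fun x hx => hc x₀ hx₀N x hx)
  obtain ⟨U, ⟨D⟩⟩ := exists_simpleDecomp N hmin hnab
  let k := Nat.card (G ⧸ U)
  rcases Nat.lt_or_ge k 3 with hk | hk
  swap
  · exact exists_small_action N hmin hC D α x₀ hx₀N hx₀α hx₀ hk hcard IH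
  -- at most two factors
  have hlenN : LenLE N (3 * k) := by
    haveI : Fintype (G ⧸ U) := Fintype.ofFinite _
    let e : Fin k ≃ G ⧸ U := (Finite.equivFin _).symm
    refine lenLE_of_iSup_normal k N (fun j => (D.T (e j)).subgroupOf N) ?_ ?_ ?_
    · intro j
      refine ⟨fun a ha x => ?_⟩
      let p := D.proj (e j)
      have hb : p x * (a : G) * (p x)⁻¹ ∈ D.T (e j) :=
        mul_mem (mul_mem (D.proj_mem _ x) ha) (inv_mem (D.proj_mem _ x))
      have : x * a * x⁻¹ = ⟨_, D.le _ hb⟩ := by
        refine inv_mul_eq_one.1 (D.proj_ext _ fun i => ?_)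
        rw [map_mul, map_inv, map_mul, map_mul, map_inv]
        by_cases hi : i = e j
        · subst hi
          rw [D.proj_self (e j) ⟨_, D.le _ hb⟩ hb, D.proj_self (e j) a ha, inv_mul_cancel]
        · rw [D.proj_other i (e j) hi ⟨_, D.le _ hb⟩ hb, D.proj_other i (e j) hi a ha]
          simp
      show ((x * a * x⁻¹ : N) : G) ∈ D.T (e j)
      rw [this]; exact hb
    · intro j
      exact (lenLE_simple (D.simple (e j))).of_mulEquiv
        (Subgroup.subgroupOfEquivOfLe (D.le (e j))).symm
    · apply Subgroup.map_injective N.subtype_injective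
      rw [Subgroup.map_iSup, ← MonoidHom.range_eq_map, Subgroup.range_subtype]
      conv_rhs => rw [← D.iSup_eq]
      simp only [Subgroup.map_subgroupOf_eq_of_le (D.le _)]
      exact e.iSup_comp
  let A := stabilizer G α
  have hA : LenLE A (4 * (m - 2)) := by
    have h2 : 2 ≤ orbCount A (Fin m) := by
      haveI : Nontrivial (Fin m) := Fin.nontrivial_iff_two_le.2 hm2
      obtain ⟨β, hβ⟩ := exists_ne α
      haveI : Nontrivial (Quotient (orbitRel A (Fin m))) := ⟨⟨⟦α⟧, ⟦β⟧, fun h => by
        obtain ⟨a, ha⟩ := Quotient.exact h.symm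
        exact hβ (ha.symm.trans a.2)⟩⟩
      exact Finite.one_lt_card
    exact (IH.intransitive hcard h2).mono (by omega)
  let f : A →* G ⧸ N := (QuotientGroup.mk' N).comp A.subtype
  have hf : Function.Surjective f := by
    intro q
    obtain ⟨g, rfl⟩ := QuotientGroup.mk_surjective q
    obtain ⟨⟨x, hx⟩, hxg⟩ := exists_smul_eq N α (g • α)
    have hmem : x⁻¹ * g ∈ A := by
      show (x⁻¹ * g) • α = α
      rw [mul_smul, ← hxg]
      exact inv_smul_smul x α
    refine ⟨⟨x⁻¹ * g, hmem⟩, ?_⟩
    show ((x⁻¹ * g : G) : G ⧸ N) = (g : G ⧸ N)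
    rw [QuotientGroup.mk_mul, QuotientGroup.mk_inv, (QuotientGroup.eq_one_iff x).2 hx, inv_one,
      one_mul]
  have hker : f.ker ≠ ⊥ := fun h => hx₀ <| by
    have h1 : (⟨x₀, hx₀α⟩ : A) ∈ f.ker := (QuotientGroup.eq_one_iff x₀).2 hx₀N
    rw [h, Subgroup.mem_bot] at h1
    exact congrArg Subtype.val h1
  obtain ⟨h3, hq⟩ := hA.of_surjective_strict f hf hker
  exact (LenLE.of_ker _ (QuotientGroup.mk'_surjective N)
    (hlenN.of_mulEquiv (MulEquiv.subgroupCongr (QuotientGroup.ker_mk' N).symm)) hq).mono (by omega)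

end Cfsg.Agent.Classical
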