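import Cfsg.Agent.Lib.Classical.OrthCommutator
import Cfsg.Agent.Lib.Classical.Spinor
import Cfsg.Agent.Lib.Classical.PlusMaximal
import Cfsg.Agent.Lib.Classical.Linear

/-!
The four-dimensional orthogonal groups of plus type and pairs of two by two matrices.
-/

set_option autoImplicit false
set_option linter.unusedSectionVars false
set_option maxHeartbeats 1000000

open Matrix QuadraticMap
open scoped commutatorElement

namespace Cfsg.Agent.Classical.PlusFour

variable {F : Type*} [Field F] [Fintype F]

local notation "M2" => Matrix (Fin 2) (Fin 2) F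
local notation "V4" => (Fin 2 ⊕ Fin 2 → F)
local notation "Q4" => (PlusMax.QP (F := F) (m := 2))
local notation "O4" => Refl.O (PlusMax.QP (F := F) (m := 2))
local notation "S2" => Matrix.SpecialLinearGroup (Fin 2) F
local notation "SS" => S2 × S2

/-- A vector as a matrix. -/
def toM : V4 →ₗ[F] M2 where
  toFun v := !![v (.inl 0), v (.inl 1); -v (.inr 1), v (.inr 0)]
  map_add' u v := by ext i j; fin_cases i <;> fin_cases j <;> simp; ring
  map_smul' c v := by ext i j; fin_cases i <;> fin_cases j <;> simp

/-- A matrix as a vector. -/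
def toV : M2 →ₗ[F] V4 where
  toFun X := Sum.elim ![X 0 0, X 0 1] ![X 1 1, -X 1 0]
  map_add' X Y := by funext s; rcases s with i | i <;> fin_cases i <;> simp; ring
  map_smul' c X := by funext s; rcases s with i | i <;> fin_cases i <;> simp

theorem toV_toM (v : V4) : toV (toM v) = v := by
  funext s; rcases s with i | i <;> fin_cases i <;> simp [toV, toM]

theorem toM_toV (X : M2) : toM (toV X) = X := by
  ext i j; fin_cases i <;> fin_cases j <;> simp [toV, toM]

theorem det_toM (v : V4) : (toM v).det = Q4 v := by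
  rw [PlusMax.QP_apply, det_fin_two]
  simp [toM, Cfsg.quadFormPlus, Fin.sum_univ_two]

/-- Vectors and matrices. -/
def eqv : V4 ≃ₗ[F] M2 :=
  { toM with
    invFun := toV
    left_inv := toV_toM
    right_inv := toM_toV }

/-- An element from an equivalence of matrices preserving determinants. -/
noncomputable def ofM (e : M2 ≃ₗ[F] M2) (he : ∀ X, (e X).det = X.det) : O4 :=
  Refl.ofLin Q4 ((eqv.trans e).trans eqv.symm)
    (fun v => by
      show Q4 (toV (e (toM v))) = _
      rw [← det_toM, toM_toV, he, det_toM])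

theorem toM_ofM (e : M2 ≃ₗ[F] M2) (he : ∀ X, (e X).det = X.det) (v : V4) :
    toM (Refl.act Q4 (ofM e he) v) = e (toM v) := by
  rw [ofM, Refl.act_ofLin]
  exact toM_toV _

theorem ext_toM {a b : O4} (h : ∀ v, toM (Refl.act Q4 a v) = toM (Refl.act Q4 b v)) : a = b :=
  Refl.act_ext Q4 fun v => by rw [← toV_toM (Refl.act Q4 a v), h, toV_toM]

/-- Left and right multiplication by invertible matrices with reciprocal determinants. -/
noncomputable def lr (g h : M2) (hd : g.det * h.det = 1) : O4 :=
  ofM (LinearEquiv.ofInjectiveEndo (LinearMap.mulLeft F g ∘ₗ LinearMap.mulRight F h)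
      (fun a b e => by
        have hg : IsUnit g.det := IsUnit.of_mul_eq_one _ hd
        have hh : IsUnit h.det := IsUnit.of_mul_eq_one _ ((mul_comm _ _).trans hd)
        have e' : g * (a * h) = g * (b * h) := e
        have e1 := congrArg (fun X => g⁻¹ * X * h⁻¹) e'
        simpa [← mul_assoc, nonsing_inv_mul g hg, mul_assoc _ h h⁻¹, mul_nonsing_inv h hh] using e1))
    (fun X => by
      show (g * (X * h)).det = _
      rw [det_mul, det_mul]; linear_combination X.det * hd)

theorem toM_lr (g h : M2) (hd : g.det * h.det = 1) (v : V4) :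
    toM (Refl.act Q4 (lr g h hd) v) = g * toM v * h := by
  rw [lr, toM_ofM, mul_assoc]; rfl

/-- The image of a pair. -/
noncomputable def rho : SS →* O4 :=
  MonoidHom.mk' (fun p => lr (p.1 : M2) ((p.2⁻¹ : S2) : M2) (by rw [p.1.2, (p.2⁻¹).2, mul_one]))
    (fun p r => ext_toM fun v => by
      rw [Refl.act_mul, toM_lr, toM_lr, toM_lr, Prod.fst_mul, Prod.snd_mul, _root_.mul_inv_rev]
      show ((p.1 : M2) * (r.1 : M2)) * toM v * (((r.2⁻¹ : S2) : M2) * ((p.2⁻¹ : S2) : M2)) = _
      simp only [mul_assoc])

theorem toM_rho (p : SS) (v : V4) :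
    toM (Refl.act Q4 (rho p) v) = (p.1 : M2) * toM v * ((p.2⁻¹ : S2) : M2) :=
  toM_lr _ _ (by rw [p.1.2, (p.2⁻¹).2, mul_one]) v

theorem toM_refl (u : V4) (hu : Q4 u ≠ 0) (v : V4) :
    toM (Refl.act Q4 (Refl.refl Q4 u hu) v) = (-(toM u).det⁻¹) • (toM u * (toM v).adjugate * toM u) := by
  rw [Refl.act_refl, map_sub, map_smul, ← det_toM, polar, ← det_toM, ← det_toM, ← det_toM, map_add]
  have hd : (toM u).det ≠ 0 := by rwa [det_toM]
  generalize toM u = U at hd ⊢
  generalize toM v = X
  rw [adjugate_fin_two]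
  ext i j
  simp only [det_fin_two] at hd ⊢
  fin_cases i <;> fin_cases j <;> simp [mul_apply, Fin.sum_univ_two] <;> field_simp <;> ring

theorem adj_eq_inv (g : S2) : (g : M2).adjugate = ((g⁻¹ : S2) : M2) :=
  (Matrix.SpecialLinearGroup.coe_inv g).symm

theorem adj_adj (X : M2) : X.adjugate.adjugate = X := by
  ext i j; fin_cases i <;> fin_cases j <;> simp [adjugate_fin_two]

theorem conj_mem (u : V4) (hu : Q4 u ≠ 0) (p : SS) :
    Refl.refl Q4 u hu * rho p * Refl.refl Q4 u hu ∈ (rho (F := F)).range := by
  have hd : (toM u).det ≠ 0 := by rwa [det_toM]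
  set U := toM u
  have hg : ((U.det)⁻¹ • (U * (p.2 : M2) * U.adjugate)).det = 1 := by
    rw [det_smul, det_mul, det_mul, p.2.2, det_adjugate, Fintype.card_fin]
    field_simp
    ring
  have hh : ((U.det)⁻¹ • (U.adjugate * (p.1 : M2) * U)).det = 1 := by
    rw [det_smul, det_mul, det_mul, p.1.2, det_adjugate, Fintype.card_fin]
    field_simp
    ring
  refine ⟨((⟨_, hg⟩ : S2), (⟨_, hh⟩ : S2)), ext_toM fun v => ?_⟩
  rw [toM_rho, Refl.act_mul, Refl.act_mul, toM_refl, toM_rho, toM_refl, ← adj_eq_inv, ← adj_eq_inv]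
  show (U.det⁻¹ • (U * (p.2 : M2) * U.adjugate)) * toM v * (U.det⁻¹ • (U.adjugate * (p.1 : M2) * U)).adjugate = _
  simp only [adjugate_smul, adjugate_mul_distrib, adj_adj, Fintype.card_fin, pow_one,
    smul_mul_assoc, mul_smul_comm, smul_smul, Matrix.mul_assoc]
  congr 1
  ring

theorem comm_refl_mem (u : V4) (hu : Q4 u ≠ 0) (w : V4) (hw : Q4 w ≠ 0) :
    ⁅Refl.refl Q4 u hu, Refl.refl Q4 w hw⁆ ∈ (rho (F := F)).range := by
  have hd : (toM u).det ≠ 0 := by rwa [det_toM]
  have he : (toM w).det ≠ 0 := by rwa [det_toM]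
  set U := toM u
  set W := toM w
  have hg : ((U.det * W.det)⁻¹ • (U * W.adjugate * (U * W.adjugate))).det = 1 := by
    rw [det_smul, det_mul, det_mul, det_adjugate, Fintype.card_fin]
    field_simp
    ring
  have hh : ((U.det * W.det)⁻¹ • (W.adjugate * U * (W.adjugate * U))).det = 1 := by
    rw [det_smul, det_mul, det_mul, det_adjugate, Fintype.card_fin]
    field_simp
    ring
  obtain ⟨A, hA⟩ : ∃ A : S2, (A : M2) = (U.det * W.det)⁻¹ • (U * W.adjugate * (U * W.adjugate)) := ⟨⟨_, hg⟩, rfl⟩
  obtain ⟨S, hS⟩ : ∃ S : S2, (S : M2) = (U.det * W.det)⁻¹ • (W.adjugate * U * (W.adjugate * U)) := ⟨⟨_, hh⟩, rfl⟩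
  refine ⟨(A, S⁻¹), ext_toM fun v => ?_⟩
  rw [toM_rho]
  simp only [inv_inv]
  rw [hA, hS, commutatorElement_def, Refl.refl_inv, Refl.refl_inv, Refl.act_mul, Refl.act_mul, Refl.act_mul,
    toM_refl, toM_refl, toM_refl, toM_refl]
  simp only [adjugate_smul, adjugate_mul_distrib, Fintype.card_fin, pow_one,
    smul_mul_assoc, mul_smul_comm, smul_smul, Matrix.mul_assoc]
  simp only [adj_adj]
  congr 1
  ring

variable (hq : 3 ≤ Fintype.card F)
include hq

theorem commutator_le : commutator O4 ≤ (rho (F := F)).range := by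
  set S := (rho (F := F)).range
  have hR : ∀ g : O4, g ∈ Refl.R Q4 := fun g =>
    Refl.eq_top Q4 PlusMax.nondeg (Or.inl (by omega)) ▸ Subgroup.mem_top g
  have hconj : ∀ g : O4, ∀ x ∈ S, g * x * g⁻¹ ∈ S := by
    intro g
    induction hR g using Subgroup.closure_induction'' with
    | mem y hy =>
      obtain ⟨u, hu, he⟩ := hy
      obtain rfl : y = Refl.refl Q4 u hu := Subtype.ext (Units.ext he)
      rintro x ⟨p, rfl⟩
      rw [Refl.refl_inv]
      exact conj_mem u hu p
    | inv_mem y hy =>
      obtain ⟨u, hu, he⟩ := hy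
      obtain rfl : y = Refl.refl Q4 u hu := Subtype.ext (Units.ext he)
      rintro x ⟨p, rfl⟩
      rw [inv_inv, Refl.refl_inv]
      exact conj_mem u hu p
    | one => intro x hx; simpa using hx
    | mul a b _ _ ha hb =>
      intro x hx
      rw [show a * b * x * (a * b)⁻¹ = a * (b * x * b⁻¹) * a⁻¹ by group]
      exact ha _ (hb _ hx)
  haveI : S.Normal := ⟨fun x hx g => hconj g x hx⟩
  have key : ∀ g h : O4, Commute (QuotientGroup.mk' S g) (QuotientGroup.mk' S h) := by
    have h1 : ∀ u hu w hw, Commute (QuotientGroup.mk' S (Refl.refl Q4 u hu)) (QuotientGroup.mk' S (Refl.refl Q4 w hw)) := by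
      intro u hu w hw
      rw [Commute, SemiconjBy, ← commutatorElement_eq_one_iff_mul_comm, ← map_commutatorElement, QuotientGroup.mk'_apply,
        QuotientGroup.eq_one_iff]
      exact comm_refl_mem u hu w hw
    intro g h
    induction hR g using Subgroup.closure_induction with
    | mem y hy =>
      obtain ⟨u, hu, he⟩ := hy
      obtain rfl : y = Refl.refl Q4 u hu := Subtype.ext (Units.ext he)
      induction hR h using Subgroup.closure_induction with
      | mem z hz =>
        obtain ⟨w, hw, he⟩ := hz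
        obtain rfl : z = Refl.refl Q4 w hw := Subtype.ext (Units.ext he)
        exact h1 u hu w hw
      | one => rw [map_one]; exact Commute.one_right _
      | mul a b _ _ ha hb => rw [map_mul]; exact ha.mul_right hb
      | inv a _ ha => rw [map_inv]; exact ha.inv_right
    | one => rw [map_one]; exact Commute.one_left _
    | mul a b _ _ ha hb => rw [map_mul]; exact ha.mul_left hb
    | inv a _ ha => rw [map_inv]; exact ha.inv_left
  rw [commutator_def, Subgroup.commutator_le]
  intro g _ h _
  rw [← QuotientGroup.eq_one_iff, ← QuotientGroup.mk'_apply, map_commutatorElement, commutatorElement_eq_one_iff_mul_comm]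
  exact key g h

theorem range_eq : (rho (F := F)).range = commutator O4 := by
  refine le_antisymm ?_ (commutator_le hq)
  obtain ⟨μ, hμ0, hμ1⟩ : ∃ μ : F, μ ≠ 0 ∧ μ ≠ 1 := by
    classical
    obtain ⟨μ, -, hμ⟩ := Finset.exists_mem_notMem_of_card_lt_card (s := ({0, 1} : Finset F)) (t := Finset.univ)
      (by rw [Finset.card_univ]; exact lt_of_le_of_lt Finset.card_le_two (by omega))
    simp only [Finset.mem_insert, Finset.mem_singleton, not_or] at hμ
    exact ⟨μ, hμ.1, hμ.2⟩
  let d : M2 := !![μ, 0; 0, 1]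
  let d' : M2 := !![μ⁻¹, 0; 0, 1]
  have hdd : d.det * d'.det = 1 := by simp [d, d', det_fin_two, hμ0]
  let E : O4 := lr d d' hdd
  have hdd' : d * d' = 1 := by ext i j; fin_cases i <;> fin_cases j <;> simp [d, d', hμ0]
  have hd'd : d' * d = 1 := by ext i j; fin_cases i <;> fin_cases j <;> simp [d, d', hμ0]
  have hconj : ∀ i j (hij : i ≠ j), ∃ k : F, k ≠ 1 ∧ ∀ c : F,
      d * ((Matrix.SpecialLinearGroup.transvection hij c : S2) : M2) * d' = ((Matrix.SpecialLinearGroup.transvection hij (k * c) : S2) : M2) := by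
    intro i j hij
    refine ⟨if i = 0 then μ else μ⁻¹, by split_ifs <;> simp [hμ1], fun c => ?_⟩
    rw [Matrix.SpecialLinearGroup.transvection_coe, Matrix.SpecialLinearGroup.transvection_coe]
    ext a b
    fin_cases i <;> fin_cases j <;> first
      | exact absurd rfl hij
      | (fin_cases a <;> fin_cases b <;> simp [d, d', mul_apply, Fin.sum_univ_two, hμ0, vecMul, dotProduct, Matrix.single, Matrix.one_apply] <;> (try field_simp))
  have hmem : ∀ (i j : Fin 2) (hij : i ≠ j) (c : F), rho (Matrix.SpecialLinearGroup.transvection hij c, 1) ∈ commutator O4 ∧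
      rho (1, Matrix.SpecialLinearGroup.transvection hij c) ∈ commutator O4 := by
    intro i j hij c
    obtain ⟨k, hk, hkc⟩ := hconj i j hij
    set s := c / (k - 1)
    have hs : k * s - s = c := by
      rw [← sub_one_mul, mul_div_cancel₀ _ (sub_ne_zero.2 hk)]
    have hts : Matrix.SpecialLinearGroup.transvection hij (k * s) = Matrix.SpecialLinearGroup.transvection hij c * Matrix.SpecialLinearGroup.transvection hij s := by
      rw [← Matrix.SpecialLinearGroup.transvection_add]
      congr 1
      linear_combination hs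
    have hcom : ∀ p : SS, (E * rho p * E⁻¹) * (rho p)⁻¹ ∈ commutator O4 := fun p => by
      rw [← commutatorElement_def, commutator_def]
      exact Subgroup.commutator_mem_commutator (Subgroup.mem_top _) (Subgroup.mem_top _)
    have hE : ∀ p r : SS, d * (p.1 : M2) * d' = (r.1 : M2) →
        d * ((p.2⁻¹ : S2) : M2) * d' = ((r.2⁻¹ : S2) : M2) →
        E * rho p * E⁻¹ = rho r := fun p r h1 h2 => by
      rw [mul_inv_eq_iff_eq_mul]
      refine ext_toM fun v => ?_
      rw [Refl.act_mul, Refl.act_mul, toM_lr, toM_rho, toM_rho, toM_lr, ← h1, ← h2]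
      simp only [Matrix.mul_assoc]
      rw [← Matrix.mul_assoc d' d, hd'd, Matrix.one_mul, ← Matrix.mul_assoc d' d, hd'd, Matrix.one_mul]
    constructor
    · have h1 := hcom (Matrix.SpecialLinearGroup.transvection hij s, 1)
      rw [hE (Matrix.SpecialLinearGroup.transvection hij s, 1) (Matrix.SpecialLinearGroup.transvection hij (k * s), 1) (hkc s)
        (by simp [hdd']), hts, ← map_inv, ← map_mul] at h1
      simpa using h1
    · have hts' : ∀ x : F, (Matrix.SpecialLinearGroup.transvection hij x)⁻¹ = Matrix.SpecialLinearGroup.transvection hij (-x) :=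
        fun x => Matrix.SpecialLinearGroup.transvection_inv hij x
      have h1 := hcom (1, Matrix.SpecialLinearGroup.transvection hij s)
      rw [hE (1, Matrix.SpecialLinearGroup.transvection hij s) (1, Matrix.SpecialLinearGroup.transvection hij (k * s))
        (by simp [hdd']) (by show d * (((Matrix.SpecialLinearGroup.transvection hij s)⁻¹ : S2) : M2) * d' = (((Matrix.SpecialLinearGroup.transvection hij (k * s))⁻¹ : S2) : M2); rw [hts', hts', hkc, mul_neg]), hts, ← map_inv, ← map_mul] at h1
      simpa using h1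
  rintro _ ⟨⟨g, h⟩, rfl⟩
  rw [show ((g, h) : SS) = (g, 1) * (1, h) by simp, map_mul]
  refine mul_mem ?_ ?_
  · induction g using SL_transvection_induction with
    | htransvec i j hij c => exact (hmem i j hij c).1
    | hmul A B hA hB =>
      rw [show ((A * B, 1) : SS) = (A, 1) * (B, 1) by simp, map_mul]; exact mul_mem hA hB
  · induction h using SL_transvection_induction with
    | htransvec i j hij c => exact (hmem i j hij c).2
    | hmul A B hA hB =>
      rw [show ((1, A * B) : SS) = (1, A) * (1, B) by simp, map_mul]; exact mul_mem hA hB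

end Cfsg.Agent.Classical.PlusFour
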