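import Cfsg.Agent.Lib.Classical.SmallIso

/-!
The orthogonal group of plus type in dimension six over two elements is the symmetric group of degree eight.
-/

set_option autoImplicit false
set_option linter.style.haveILetI false

namespace Cfsg.Agent.Classical.PlusSixTwo

open Matrix

abbrev I6 := Fin 3 ⊕ Fin 3
abbrev Z := ZMod 2

def Qz (v : I6 → Z) : Z :=
  v (.inl 0) * v (.inr 0) + v (.inl 1) * v (.inr 1) + v (.inl 2) * v (.inr 2)

theorem Qz_eq (v : I6 → Z) : Cfsg.quadFormPlus 3 Z v = Qz v := by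
  simp [Cfsg.quadFormPlus, Qz, Fin.sum_univ_three]

def xs : Fin 3 → Fin 8 → Z := ![![0, 0, 0, 0, 1, 1, 1, 1], ![0, 0, 1, 1, 1, 0, 0, 1], ![0, 1, 0, 1, 1, 1, 0, 0]]
def ys : Fin 3 → Fin 8 → Z := ![![0, 0, 0, 1, 0, 1, 1, 1], ![0, 0, 1, 1, 1, 0, 1, 0], ![0, 1, 1, 0, 0, 0, 1, 1]]

/-- The columns: even vectors giving a hyperbolic basis modulo the all-ones vector. -/
def Bm : Matrix (Fin 8) I6 Z := Matrix.of fun k => Sum.elim (fun i => xs i k) (fun i => ys i k)

/-- Coordinates. -/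
def Cm : Matrix I6 (Fin 8) Z := Matrix.of (Sum.elim ys xs)

def Pm (σ : Equiv.Perm (Fin 8)) : Matrix (Fin 8) (Fin 8) Z := Matrix.of fun i j => if σ j = i then 1 else 0

theorem Pm_mulVec (σ : Equiv.Perm (Fin 8)) (w : Fin 8 → Z) (i : Fin 8) : (Pm σ *ᵥ w) i = w (σ.symm i) := by
  rw [Matrix.mulVec, dotProduct, Finset.sum_eq_single (σ.symm i)]
  · simp [Pm]
  · intro b _ hb
    have : σ b ≠ i := fun e => hb (by rw [← e]; simp)
    simp [Pm, this]
  · simp

/-- The weight. -/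
def wt (w : Fin 8 → Z) : ℕ := ∑ i, if w i = 1 then 1 else 0

/-- Half the weight modulo two. -/
def Q8 (w : Fin 8 → Z) : Z := ((wt w / 2 : ℕ) : Z)

theorem cb : Cm * Bm = 1 := by decide +kernel

def evens : List (Fin 8 → Z) :=
  let b : List Z := [0, 1]
  b.flatMap fun a0 => b.flatMap fun a1 => b.flatMap fun a2 => b.flatMap fun a3 => b.flatMap fun a4 =>
    b.flatMap fun a5 => b.flatMap fun a6 => [![a0, a1, a2, a3, a4, a5, a6, a0 + a1 + a2 + a3 + a4 + a5 + a6]]

theorem evens_all : ∀ w : Fin 8 → Z, (∑ i, w i) = 0 → w ∈ evens := by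
  intro w hw
  have hb : ∀ x : Z, x ∈ ([0, 1] : List Z) := by decide
  simp only [evens, List.mem_flatMap, List.mem_singleton]
  refine ⟨w 0, hb _, w 1, hb _, w 2, hb _, w 3, hb _, w 4, hb _, w 5, hb _, w 6, hb _, ?_⟩
  rw [Fin.sum_univ_eight] at hw
  have h7 : w 7 = w 0 + w 1 + w 2 + w 3 + w 4 + w 5 + w 6 := by
    revert hw
    generalize w 0 = a0
    generalize w 1 = a1
    generalize w 2 = a2
    generalize w 3 = a3
    generalize w 4 = a4
    generalize w 5 = a5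
    generalize w 6 = a6
    generalize w 7 = a7
    intro hw
    linear_combination (norm := ring_nf) hw
    rw [show (2 : Z) = 0 from rfl]
    ring
  funext i
  fin_cases i <;> first | exact h7 | rfl

theorem even_checks : (evens.all fun w => Qz (Cm *ᵥ w) == Q8 w &&
    (List.finRange 8).all fun i => (Bm *ᵥ (Cm *ᵥ w)) i + w i == (Bm *ᵥ (Cm *ᵥ w)) 0 + w 0) = true := by
  decide +kernel

theorem col_even : ∀ v : I6 → Z, (∑ i, (Bm *ᵥ v) i) = 0 ∧ Q8 (Bm *ᵥ v) = Qz v := by decide +kernel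

theorem C_const : ∀ c : Z, Cm *ᵥ (fun _ => c) = 0 := by decide +kernel

attribute [local irreducible] evens Qz Q8 Cm Bm in
theorem C_defect {w : Fin 8 → Z} (hw : (∑ i, w i) = 0) (σ : Equiv.Perm (Fin 8)) :
    Cm *ᵥ (Pm σ *ᵥ (Bm *ᵥ (Cm *ᵥ w))) = Cm *ᵥ (Pm σ *ᵥ w) := by
  have h := List.all_eq_true.1 even_checks w (evens_all w hw)
  simp only [Bool.and_eq_true, beq_iff_eq, List.all_eq_true, List.mem_finRange, true_implies] at h
  set c := (Bm *ᵥ (Cm *ᵥ w)) 0 + w 0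
  have e : Pm σ *ᵥ (Bm *ᵥ (Cm *ᵥ w)) = Pm σ *ᵥ w + fun _ => c := by
    funext i
    rw [Pi.add_apply, Pm_mulVec, Pm_mulVec, ← h.2 (σ.symm i), add_comm, add_assoc, CharTwo.add_self_eq_zero, add_zero]
  rw [e, Matrix.mulVec_add, C_const, add_zero]

theorem perm_even {w : Fin 8 → Z} (hw : (∑ i, w i) = 0) (σ : Equiv.Perm (Fin 8)) :
    (∑ i, (Pm σ *ᵥ w) i) = 0 ∧ Q8 (Pm σ *ᵥ w) = Q8 w := by
  refine ⟨?_, ?_⟩
  · simp only [Pm_mulVec]
    rw [Equiv.sum_comp σ.symm w]; exact hw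
  · simp only [Q8, wt, Pm_mulVec]
    rw [Equiv.sum_comp σ.symm fun i => if w i = 1 then 1 else 0]

attribute [local irreducible] evens Qz Q8 Cm Bm Pm in
theorem mh_mul (σ τ : Equiv.Perm (Fin 8)) :
    Cm * (Pm (σ * τ) * Bm) = Cm * (Pm σ * Bm) * (Cm * (Pm τ * Bm)) := by
  apply Matrix.ext_of_mulVec_single
  intro k
  rw [← Matrix.mulVec_mulVec, ← Matrix.mulVec_mulVec, ← Matrix.mulVec_mulVec, ← Matrix.mulVec_mulVec,
    ← Matrix.mulVec_mulVec, ← Matrix.mulVec_mulVec, ← Matrix.mulVec_mulVec,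
    C_defect (perm_even (col_even (Pi.single k 1)).1 τ).1 σ]
  refine congrArg (Cm *ᵥ ·) ?_
  funext i
  rw [Pm_mulVec, Pm_mulVec, Pm_mulVec]
  rfl

attribute [local irreducible] evens Qz Q8 Cm Bm Pm in
theorem mh_pres' (σ : Equiv.Perm (Fin 8)) (u : I6 → Z) : Qz ((Cm * (Pm σ * Bm)) *ᵥ u) = Qz u := by
  rw [← Matrix.mulVec_mulVec, ← Matrix.mulVec_mulVec]
  have he := perm_even (col_even u).1 σ
  have h := List.all_eq_true.1 even_checks _ (evens_all _ he.1)
  rw [Bool.and_eq_true, beq_iff_eq] at h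
  rw [h.1, he.2, (col_even u).2]

/-- The representation. -/
def Mh : Equiv.Perm (Fin 8) →* Matrix I6 I6 Z where
  toFun σ := Cm * (Pm σ * Bm)
  map_one' := by
    have : Pm 1 = 1 := by ext i j; simp [Pm, Matrix.one_apply, eq_comm]
    rw [this, Matrix.one_mul, cb]
  map_mul' σ τ := mh_mul σ τ

theorem Mh_pres (σ : Equiv.Perm (Fin 8)) (u : I6 → Z) : Qz (Mh σ *ᵥ u) = Qz u := mh_pres' σ u

theorem Mh_injective : Function.Injective Mh := by
  rw [← MonoidHom.ker_eq_bot_iff]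
  by_contra hne
  have hle := Equiv.Perm.alternatingGroup_le_of_normal (α := Fin 8) (N := Mh.ker) (by simp)
    ((Subgroup.nontrivial_iff_ne_bot _).2 hne)
  have h3 : Equiv.swap (0 : Fin 8) 1 * Equiv.swap 1 2 ∈ alternatingGroup (Fin 8) := by
    rw [Equiv.Perm.mem_alternatingGroup, map_mul, Equiv.Perm.sign_swap (by decide), Equiv.Perm.sign_swap (by decide)]
    rfl
  have hnot : Mh (Equiv.swap (0 : Fin 8) 1 * Equiv.swap 1 2) ≠ 1 := by decide +kernel
  exact hnot (MonoidHom.mem_ker.1 (hle h3))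

/-- The representation in the isometry group. -/
def rep : Equiv.Perm (Fin 8) →* Cfsg.isometryGroup Z (Cfsg.quadFormPlus 3 Z) :=
  Mh.toHomUnits.codRestrict _ fun σ => fun u _ =>
    ((Qz_eq _).trans (Mh_pres σ u)).trans (Qz_eq u).symm

theorem rep_injective : Function.Injective rep := fun a b h =>
  Mh_injective (congrArg (fun g : Cfsg.isometryGroup Z (Cfsg.quadFormPlus 3 Z) => ((g : GL I6 Z) : Matrix I6 I6 Z)) h)

def pol (u v : I6 → Z) : Z := Qz (u + v) - Qz u - Qz v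

def vecs : List (I6 → Z) :=
  let b : List Z := [0, 1]
  b.flatMap fun a0 => b.flatMap fun a1 => b.flatMap fun a2 => b.flatMap fun a3 => b.flatMap fun a4 =>
    b.map fun a5 => Sum.elim ![a0, a1, a2] ![a3, a4, a5]

theorem vecs_all (v : I6 → Z) : v ∈ vecs := by
  have hb : ∀ x : Z, x ∈ ([0, 1] : List Z) := by decide
  simp only [vecs, List.mem_flatMap, List.mem_map]
  refine ⟨v (.inl 0), hb _, v (.inl 1), hb _, v (.inl 2), hb _, v (.inr 0), hb _, v (.inr 1), hb _,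
    v (.inr 2), hb _, ?_⟩
  funext i
  rcases i with i | i <;> fin_cases i <;> rfl

def e0 : I6 → Z := Sum.elim ![1, 0, 0] ![0, 0, 0]
def f0 : I6 → Z := Sum.elim ![0, 0, 0] ![1, 0, 0]

def pairs0 : List ((I6 → Z) × (I6 → Z)) :=
  (vecs.filter fun a => Qz a == 0).flatMap fun a =>
    (vecs.filter fun b => Qz b == 0 && pol a b == 1).map fun b => (a, b)

def perp : List (I6 → Z) := vecs.filter fun v => Qz v == 0 && pol e0 v == 0 && pol f0 v == 0

def quads : List (Fin 4 → I6 → Z) :=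
  perp.flatMap fun a => (perp.filter fun b => pol a b == 1).flatMap fun b =>
    (perp.filter fun c => pol a c == 0 && pol b c == 0).flatMap fun c =>
      (perp.filter fun d => pol a d == 0 && pol b d == 0 && pol c d == 1).map fun d => ![a, b, c, d]

theorem pairs0_length : pairs0.length = 560 := by decide +kernel
theorem quads_length : quads.length = 72 := by decide +kernel

def s4 : Fin 4 → I6 := ![.inl 1, .inr 1, .inl 2, .inr 2]

theorem std : Qz e0 = 0 ∧ Qz f0 = 0 ∧ pol e0 f0 = 1 ∧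
    e0 = Pi.single (.inl 0) 1 ∧ f0 = Pi.single (.inr 0) 1 ∧
    (∀ k, Qz (Pi.single (s4 k) 1) = 0 ∧ pol e0 (Pi.single (s4 k) 1) = 0 ∧ pol f0 (Pi.single (s4 k) 1) = 0) ∧
    pol (Pi.single (s4 0) 1) (Pi.single (s4 1) 1) = 1 ∧ pol (Pi.single (s4 0) 1) (Pi.single (s4 2) 1) = 0 ∧
    pol (Pi.single (s4 1) 1) (Pi.single (s4 2) 1) = 0 ∧ pol (Pi.single (s4 0) 1) (Pi.single (s4 3) 1) = 0 ∧
    pol (Pi.single (s4 1) 1) (Pi.single (s4 3) 1) = 0 ∧ pol (Pi.single (s4 2) 1) (Pi.single (s4 3) 1) = 1 := by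
  decide +kernel

abbrev O6 := Cfsg.isometryGroup Z (Cfsg.quadFormPlus 3 Z)

def mat (g : O6) : Matrix I6 I6 Z := ((g : GL I6 Z) : Matrix I6 I6 Z)

theorem mat_mul (a b : O6) : mat (a * b) = mat a * mat b := rfl

theorem pres (g : O6) (u : I6 → Z) : Qz (mat g *ᵥ u) = Qz u := by
  exact ((Qz_eq _).symm.trans (g.2 u u)).trans (Qz_eq u)

theorem pres_pol (g : O6) (u v : I6 → Z) : pol (mat g *ᵥ u) (mat g *ᵥ v) = pol u v := by
  simp only [pol, ← Matrix.mulVec_add, pres]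

/-- The stabiliser of the hyperbolic pair. -/
def fix2 : Subgroup O6 where
  carrier := {g | mat g *ᵥ e0 = e0 ∧ mat g *ᵥ f0 = f0}
  mul_mem' {a b} ha hb := by
    show mat (a * b) *ᵥ e0 = e0 ∧ mat (a * b) *ᵥ f0 = f0
    rw [mat_mul, ← Matrix.mulVec_mulVec, ← Matrix.mulVec_mulVec, hb.1, hb.2, ha.1, ha.2]
    exact ⟨rfl, rfl⟩
  one_mem' := ⟨Matrix.one_mulVec _, Matrix.one_mulVec _⟩
  inv_mem' {a} ha := by
    have h : mat a⁻¹ * mat a = 1 := by rw [← mat_mul, inv_mul_cancel]; rfl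
    constructor
    · show mat a⁻¹ *ᵥ e0 = e0
      conv_lhs => rw [← ha.1]
      rw [Matrix.mulVec_mulVec, h, Matrix.one_mulVec]
    · show mat a⁻¹ *ᵥ f0 = f0
      conv_lhs => rw [← ha.2]
      rw [Matrix.mulVec_mulVec, h, Matrix.one_mulVec]

theorem index_le : fix2.index ≤ 560 := by
  obtain ⟨q0, q1, p, -⟩ := std
  rw [← pairs0_length]
  let f : O6 ⧸ fix2 → {c // c ∈ pairs0} := fun Q => ⟨(mat Q.out *ᵥ e0, mat Q.out *ᵥ f0), by
    simp only [pairs0, List.mem_flatMap, List.mem_map, List.mem_filter, Bool.and_eq_true, beq_iff_eq]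
    exact ⟨_, ⟨vecs_all _, (pres _ _).trans q0⟩, _, ⟨vecs_all _, (pres _ _).trans q1, (pres_pol _ _ _).trans p⟩, rfl⟩⟩
  haveI : Finite {c // c ∈ pairs0} := pairs0.finite_toSet.to_subtype
  refine (Nat.card_le_card_of_injective f ?_).trans ?_
  · intro a b h
    have h' := congrArg Subtype.val h
    simp only [f, Prod.mk.injEq] at h'
    rw [← QuotientGroup.out_eq' a, ← QuotientGroup.out_eq' b, QuotientGroup.eq]
    have hinv : mat a.out⁻¹ * mat a.out = 1 := by rw [← mat_mul, inv_mul_cancel]; rfl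
    constructor
    · show mat (a.out⁻¹ * b.out) *ᵥ e0 = e0
      rw [mat_mul, ← Matrix.mulVec_mulVec, ← h'.1, Matrix.mulVec_mulVec, hinv, Matrix.one_mulVec]
    · show mat (a.out⁻¹ * b.out) *ᵥ f0 = f0
      rw [mat_mul, ← Matrix.mulVec_mulVec, ← h'.2, Matrix.mulVec_mulVec, hinv, Matrix.one_mulVec]
  · refine le_trans (Nat.card_le_card_of_surjective
      (fun i : Fin pairs0.length => (⟨pairs0.get i, pairs0.get_mem i⟩ : {c // c ∈ pairs0})) fun c => ?_) (by simp)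
    obtain ⟨i, hi⟩ := List.mem_iff_get.1 c.2
    exact ⟨i, Subtype.ext hi⟩

theorem fix_le : Nat.card fix2 ≤ 72 := by
  obtain ⟨-, -, -, he, hf, hs, p01, p02, p12, p03, p13, p23⟩ := std
  rw [← quads_length]
  haveI : Finite {c // c ∈ quads} := quads.finite_toSet.to_subtype
  let f : fix2 → {c // c ∈ quads} := fun g => ⟨fun k => mat g.1 *ᵥ Pi.single (s4 k) 1, by
    have hm : ∀ k, mat g.1 *ᵥ Pi.single (s4 k) 1 ∈ perp := fun k => by
      obtain ⟨a, b, c⟩ := hs k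
      simp only [perp, List.mem_filter, Bool.and_eq_true, beq_iff_eq]
      refine ⟨vecs_all _, ⟨(pres _ _).trans a, ?_⟩, ?_⟩
      · conv_lhs => rw [← g.2.1]
        exact (pres_pol _ _ _).trans b
      · conv_lhs => rw [← g.2.2]
        exact (pres_pol _ _ _).trans c
    simp only [quads, List.mem_flatMap, List.mem_map, List.mem_filter, Bool.and_eq_true, beq_iff_eq]
    refine ⟨_, hm 0, _, ⟨hm 1, (pres_pol _ _ _).trans p01⟩,
      _, ⟨hm 2, (pres_pol _ _ _).trans p02, (pres_pol _ _ _).trans p12⟩,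
      _, ⟨hm 3, ⟨(pres_pol _ _ _).trans p03, (pres_pol _ _ _).trans p13⟩, (pres_pol _ _ _).trans p23⟩, ?_⟩
    funext k
    fin_cases k <;> rfl⟩
  refine (Nat.card_le_card_of_injective f ?_).trans ?_
  · intro a b h
    have h' := congrArg Subtype.val h
    refine Subtype.ext (Subtype.ext (Units.ext (Matrix.ext_of_mulVec_single fun j => ?_)))
    show mat a.1 *ᵥ Pi.single j 1 = mat b.1 *ᵥ Pi.single j 1
    have hk := fun k => congrFun h' k
    rcases j with j | j <;> fin_cases j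
    · show mat a.1 *ᵥ Pi.single (.inl 0) 1 = mat b.1 *ᵥ Pi.single (.inl 0) 1
      rw [← he, a.2.1, b.2.1]
    · exact hk 0
    · exact hk 2
    · show mat a.1 *ᵥ Pi.single (.inr 0) 1 = mat b.1 *ᵥ Pi.single (.inr 0) 1
      rw [← hf, a.2.2, b.2.2]
    · exact hk 1
    · exact hk 3
  · refine le_trans (Nat.card_le_card_of_surjective
      (fun i : Fin quads.length => (⟨quads.get i, quads.get_mem i⟩ : {c // c ∈ quads})) fun c => ?_) (by simp)
    obtain ⟨i, hi⟩ := List.mem_iff_get.1 c.2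
    exact ⟨i, Subtype.ext hi⟩

theorem equiv_perm : Nonempty (O6 ≃* Equiv.Perm (Fin 8)) := by
  refine SmallIso.of_hom rep rep_injective ?_
  rw [Nat.card_perm, Nat.card_fin, show (8 : ℕ).factorial = 560 * 72 by rfl, ← fix2.index_mul_card]
  exact Nat.mul_le_mul index_le fix_le

end Cfsg.Agent.Classical.PlusSixTwo
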