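import Cfsg.Agent.Lib.Classical.SympInvolution
import Cfsg.Agent.Lib.Classical.SymplecticMatrix
import Mathlib.LinearAlgebra.Matrix.GeneralLinearGroup.Card

/-!
The number of ordered pairs of complementary Lagrangian subspaces.
-/

set_option autoImplicit false
set_option linter.style.haveILetI false

open Module

set_option maxHeartbeats 1000000

namespace Cfsg.Agent.Classical.PolarPairs

variable {F : Type*} [Field F] [Fintype F] {d : ℕ}

abbrev V (F : Type*) (d : ℕ) := Fin d ⊕ Fin d → F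

/-- Complementary isotropic pairs. -/
abbrev Pairs (F : Type*) [Field F] (d : ℕ) : Type _ :=
  {P : Submodule F (Fin d ⊕ Fin d → F) × Submodule F (Fin d ⊕ Fin d → F) // IsCompl P.1 P.2 ∧
    (∀ u ∈ P.1, ∀ v ∈ P.1, Cfsg.sympForm d F u v = 0) ∧ (∀ u ∈ P.2, ∀ v ∈ P.2, Cfsg.sympForm d F u v = 0)}

omit [Fintype F] in
theorem finrank_iso_le (S : Submodule F (Fin d ⊕ Fin d → F))
    (hS : ∀ u ∈ S, ∀ v ∈ S, Cfsg.sympForm d F u v = 0) : finrank F S ≤ d := by
  let φ : S →ₗ[F] S.dualAnnihilator := LinearMap.codRestrict S.dualAnnihilator (LinearMap.comp (Sp.sympB F d) S.subtype) fun s =>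
    (Submodule.mem_dualAnnihilator _).2 fun v hv => by
      show Sp.sympB F d s v = 0
      rw [Sp.sympB_apply]; exact hS s s.2 v hv
  have hφ : Function.Injective φ := by
    refine (injective_iff_map_eq_zero φ).2 fun s hs => ?_
    by_contra h
    obtain ⟨v, hv⟩ := Sp.sympB_nondeg (F := F) d (s : Fin d ⊕ Fin d → F) (fun e => h (Subtype.ext e))
    exact hv (LinearMap.congr_fun (congrArg Subtype.val hs) v)
  have h1 := LinearMap.finrank_le_finrank_of_injective hφ
  have h2 := Subspace.finrank_add_finrank_dualAnnihilator_eq S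
  rw [Sp.finrank_space] at h2
  omega

theorem finrank_pair (P : Pairs F d) : finrank F P.1.1 = d ∧ finrank F P.1.2 = d := by
  obtain ⟨⟨U, W⟩, hC, hU, hW⟩ := P
  have h2 := Submodule.finrank_add_eq_of_isCompl hC
  rw [Sp.finrank_space] at h2
  have := finrank_iso_le U hU
  have := finrank_iso_le W hW
  dsimp only at *
  omega

/-- The number of pairs times the order of `GL_d` is the order of the symplectic group. -/
theorem card_mul : Nat.card (Pairs F d) * (∏ i : Fin d, (Fintype.card F ^ d - Fintype.card F ^ (i : ℕ))) =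
    Nat.card (Sp.Grp (Sp.sympB F d)) := by
  classical
  let B := Sp.sympB F d
  have hA : B.IsAlt := Sp.sympB_isAlt (F := F) d
  have hnd := Sp.sympB_nondeg (F := F) d
  haveI : Fintype (Pairs F d) := Fintype.ofFinite _
  have hcard : ∀ P : Pairs F d, Nat.card {u : Fin d → P.1.1 // LinearIndependent F u} =
      ∏ i : Fin d, (Fintype.card F ^ d - Fintype.card F ^ (i : ℕ)) := fun P => by
    rw [card_linearIndependent (finrank_pair P).1.ge, (finrank_pair P).1]
  have hsum : Nat.card (Σ P : Pairs F d, {u : Fin d → P.1.1 // LinearIndependent F u}) =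
      Nat.card (Pairs F d) * (∏ i : Fin d, (Fintype.card F ^ d - Fintype.card F ^ (i : ℕ))) := by
    rw [Nat.card_sigma, Finset.sum_congr rfl fun P _ => hcard P, Finset.sum_const, Finset.card_univ, smul_eq_mul,
      Nat.card_eq_fintype_card (α := Pairs F d)]
  rw [← hsum]
  let e : Fin d ⊕ Fin d → (Fin d ⊕ Fin d → F) := fun s => Pi.single s 1
  have he : ∀ s t : Fin d ⊕ Fin d, B (e s) (e t) = Matrix.J (Fin d) F s t := fun s t => by
    show Matrix.toBilin' (Matrix.J (Fin d) F) (e s) (e t) = _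
    exact Matrix.toBilin'_single _ s t
  let b := Pi.basisFun F (Fin d ⊕ Fin d)
  have hb : ∀ s, b s = e s := fun s => Pi.basisFun_apply F _ s
  let El : Submodule F (Fin d ⊕ Fin d → F) := Submodule.span F (Set.range fun i => e (Sum.inl i))
  let Er : Submodule F (Fin d ⊕ Fin d → F) := Submodule.span F (Set.range fun i => e (Sum.inr i))
  have hiso : ∀ f : Fin d → (Fin d ⊕ Fin d → F), (∀ i j, B (f i) (f j) = 0) →
      ∀ u ∈ Submodule.span F (Set.range f), ∀ v ∈ Submodule.span F (Set.range f), B u v = 0 := fun f hf u hu v hv => by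
    induction hu using Submodule.span_induction with
    | mem x hx =>
      obtain ⟨i, rfl⟩ := hx
      induction hv using Submodule.span_induction with
      | mem y hy => obtain ⟨j, rfl⟩ := hy; exact hf i j
      | zero => simp
      | add _ _ _ _ h1 h2 => rw [map_add, h1, h2, add_zero]
      | smul c _ _ h1 => rw [map_smul, h1, smul_zero]
    | zero => simp
    | add _ _ _ _ h1 h2 => rw [map_add, LinearMap.add_apply, h1, h2, add_zero]
    | smul c _ _ h1 => rw [map_smul, LinearMap.smul_apply, h1, smul_zero]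
  let φ : Sp.Grp B → Σ P : Pairs F d, {u : Fin d → P.1.1 // LinearIndependent F u} := fun g =>
    ⟨⟨(Submodule.span F (Set.range fun i => (g : (Fin d ⊕ Fin d → F) ≃ₗ[F] (Fin d ⊕ Fin d → F)) (e (Sum.inl i))),
        Submodule.span F (Set.range fun i => (g : (Fin d ⊕ Fin d → F) ≃ₗ[F] (Fin d ⊕ Fin d → F)) (e (Sum.inr i)))), by
        have hli : LinearIndependent F fun s => (g : (Fin d ⊕ Fin d → F) ≃ₗ[F] (Fin d ⊕ Fin d → F)) (e s) := by
          exact (show (g : (Fin d ⊕ Fin d → F) ≃ₗ[F] (Fin d ⊕ Fin d → F)).toLinearMap ∘ b = fun s => (g : (Fin d ⊕ Fin d → F) ≃ₗ[F] (Fin d ⊕ Fin d → F)) (e s) from funext fun s => by rw [Function.comp_apply, hb]; rfl) ▸ b.linearIndependent.map' (g : (Fin d ⊕ Fin d → F) ≃ₗ[F] (Fin d ⊕ Fin d → F)).toLinearMap (LinearEquiv.ker _)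
        have hsp : Submodule.span F (Set.range fun s => (g : (Fin d ⊕ Fin d → F) ≃ₗ[F] (Fin d ⊕ Fin d → F)) (e s)) = ⊤ :=
          hli.span_eq_top_of_card_eq_finrank' (by rw [Module.finrank_fintype_fun_eq_card])
        refine ⟨⟨?_, ?_⟩, fun u hu v hv => ?_, fun u hu v hv => ?_⟩
        · have h := linearIndependent_sum.1 hli
          exact h.2.2
        · rw [codisjoint_iff, ← Submodule.span_union, ← Set.Sum.elim_range, ← hsp]
          congr 2
          funext s; rcases s with i | i <;> rfl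
        · rw [← Sp.sympB_apply]
          exact hiso _ (fun i j => (Sp.Grp.map_form g _ _).trans ((he _ _).trans (by simp [Matrix.J]))) u hu v hv
        · rw [← Sp.sympB_apply]
          exact hiso _ (fun i j => (Sp.Grp.map_form g _ _).trans ((he _ _).trans (by simp [Matrix.J]))) u hu v hv⟩,
      ⟨fun i => ⟨(g : (Fin d ⊕ Fin d → F) ≃ₗ[F] (Fin d ⊕ Fin d → F)) (e (Sum.inl i)), Submodule.subset_span ⟨i, rfl⟩⟩,
        LinearIndependent.of_comp (Submodule.subtype _) (by
          have hli : LinearIndependent F fun s => (g : (Fin d ⊕ Fin d → F) ≃ₗ[F] (Fin d ⊕ Fin d → F)) (e s) := by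
            exact (show (g : (Fin d ⊕ Fin d → F) ≃ₗ[F] (Fin d ⊕ Fin d → F)).toLinearMap ∘ b = fun s => (g : (Fin d ⊕ Fin d → F) ≃ₗ[F] (Fin d ⊕ Fin d → F)) (e s) from funext fun s => by rw [Function.comp_apply, hb]; rfl) ▸ b.linearIndependent.map' (g : (Fin d ⊕ Fin d → F) ≃ₗ[F] (Fin d ⊕ Fin d → F)).toLinearMap (LinearEquiv.ker _)
          exact hli.comp Sum.inl Sum.inl_injective)⟩⟩
  refine Nat.card_congr (Equiv.ofBijective φ ⟨fun g g' h => ?_, fun ⟨P, u, hu⟩ => ?_⟩).symm
  · have h1 : (Submodule.span F (Set.range fun i => (g : (Fin d ⊕ Fin d → F) ≃ₗ[F] (Fin d ⊕ Fin d → F)) (e (Sum.inr i)))) =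
        Submodule.span F (Set.range fun i => (g' : (Fin d ⊕ Fin d → F) ≃ₗ[F] (Fin d ⊕ Fin d → F)) (e (Sum.inr i))) := congrArg (fun x => x.1.1.2) h
    have h2 : ∀ i, (g : (Fin d ⊕ Fin d → F) ≃ₗ[F] (Fin d ⊕ Fin d → F)) (e (Sum.inl i)) = (g' : (Fin d ⊕ Fin d → F) ≃ₗ[F] (Fin d ⊕ Fin d → F)) (e (Sum.inl i)) := fun i =>
      congrArg (fun x : Σ P : Pairs F d, {u : Fin d → P.1.1 // LinearIndependent F u} => (x.2.1 i : Fin d ⊕ Fin d → F)) h
    refine Subtype.ext (b.ext' fun s => ?_)
    rw [hb]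
    rcases s with i | i
    · exact h2 i
    · refine sub_eq_zero.1 ?_
      by_contra hne
      set w := (g : (Fin d ⊕ Fin d → F) ≃ₗ[F] (Fin d ⊕ Fin d → F)) (e (Sum.inr i)) - (g' : (Fin d ⊕ Fin d → F) ≃ₗ[F] (Fin d ⊕ Fin d → F)) (e (Sum.inr i)) with hw
      have hwmem : w ∈ Submodule.span F (Set.range fun i => (g' : (Fin d ⊕ Fin d → F) ≃ₗ[F] (Fin d ⊕ Fin d → F)) (e (Sum.inr i))) :=
        Submodule.sub_mem _ (h1 ▸ Submodule.subset_span ⟨i, rfl⟩) (Submodule.subset_span ⟨i, rfl⟩)
      obtain ⟨y, hy⟩ := hnd w hne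
      refine hy ?_
      rw [← LinearMap.congr_fun (show (0 : (Fin d ⊕ Fin d → F) →ₗ[F] F) = B w from
        (b.map (g' : (Fin d ⊕ Fin d → F) ≃ₗ[F] (Fin d ⊕ Fin d → F))).ext fun s => ?_) y, LinearMap.zero_apply]
      rw [LinearMap.zero_apply, Basis.map_apply, hb]
      rcases s with j | j
      · rw [hw, map_sub, LinearMap.sub_apply]
        nth_rewrite 1 [← h2 j]
        rw [Sp.Grp.map_form, Sp.Grp.map_form, sub_self]
      · exact (hiso _ (fun i j => (Sp.Grp.map_form g' _ _).trans ((he _ _).trans (by simp [Matrix.J]))) _ hwmem _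
          (Submodule.subset_span ⟨j, rfl⟩)).symm
  · obtain ⟨⟨U, W⟩, hC, hU, hW⟩ := P
    obtain ⟨hU', hW'⟩ := finrank_pair (⟨(U, W), hC, hU, hW⟩ : Pairs F d)
    have hUs : Submodule.span F (Set.range fun i => (u i : Fin d ⊕ Fin d → F)) = U := by
      rw [show (Set.range fun i => (u i : Fin d ⊕ Fin d → F)) = U.subtype '' Set.range u from Set.range_comp _ _,
        ← Submodule.map_span, hu.span_eq_top_of_card_eq_finrank' (by rw [hU', Fintype.card_fin]), Submodule.map_subtype_top]
    let A : W →ₗ[F] (Fin d → F) := LinearMap.pi fun i => (B (u i : Fin d ⊕ Fin d → F)).comp W.subtype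
    have hAi : Function.Injective A := by
      rw [← LinearMap.ker_eq_bot, LinearMap.ker_eq_bot']
      intro w hw
      by_contra hne
      obtain ⟨y, hy⟩ := hnd (w : Fin d ⊕ Fin d → F) (fun h => hne (Subtype.ext h))
      refine hy ?_
      clear hy
      obtain ⟨y₁, hy₁, y₂, hy₂, rfl⟩ := Submodule.mem_sup.1 (hC.sup_eq_top.ge (Submodule.mem_top : y ∈ ⊤))
      rw [map_add, show B (w : Fin d ⊕ Fin d → F) y₂ = 0 by rw [Sp.sympB_apply]; exact hW _ w.2 _ hy₂, add_zero,
        ← neg_eq_zero, ← Sp.alt_neg B hA]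
      rw [← hUs] at hy₁
      induction hy₁ using Submodule.span_induction with
      | mem x hx => obtain ⟨j, rfl⟩ := hx; exact congrFun hw j
      | zero => simp
      | add _ _ _ _ h1 h2 => rw [map_add, LinearMap.add_apply, h1, h2, add_zero]
      | smul c _ _ h1 => rw [map_smul, LinearMap.smul_apply, h1, smul_zero]
    have hAs : Function.Surjective A :=
      (LinearMap.injective_iff_surjective_of_finrank_eq_finrank (by rw [hW', finrank_fin_fun])).1 hAi
    choose w hw using fun j : Fin d => hAs (fun i => B (e (Sum.inl i)) (e (Sum.inr j)))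
    have hwB : ∀ i j, B (u i : Fin d ⊕ Fin d → F) (w j : Fin d ⊕ Fin d → F) = B (e (Sum.inl i)) (e (Sum.inr j)) :=
      fun i j => congrFun (hw j) i
    let f : Fin d ⊕ Fin d → (Fin d ⊕ Fin d → F) := Sum.elim (fun i => (u i : _)) (fun i => (w i : _))
    let L := b.constr F f
    have hLe : ∀ s, L (e s) = f s := fun s => by rw [← hb]; exact b.constr_basis F f s
    have hLB : LinearMap.BilinForm.comp B L L = B := by
      refine LinearMap.BilinForm.ext_basis b fun s t => ?_
      show B (L (b s)) (L (b t)) = B (b s) (b t)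
      rw [hb, hb, hLe, hLe]
      rcases s with i | i <;> rcases t with j | j
      · rw [he]; simp only [f, Sum.elim_inl]; rw [Sp.sympB_apply]; simpa [Matrix.J] using hU _ (u i).2 _ (u j).2
      · exact hwB i j
      · simp only [f, Sum.elim_inl, Sum.elim_inr]
        rw [Sp.alt_neg B hA _ (w i : _), hwB, ← Sp.alt_neg B hA]
      · rw [he]; simp only [f, Sum.elim_inr]; rw [Sp.sympB_apply]; simpa [Matrix.J] using hW _ (w i).2 _ (w j).2
    have hLi : Function.Injective L := by
      rw [← LinearMap.ker_eq_bot, LinearMap.ker_eq_bot']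
      intro x hx
      by_contra hne
      obtain ⟨y, hy⟩ := hnd x hne
      refine hy ?_
      rw [show Sp.sympB F d = B from rfl, ← hLB]
      show B (L x) (L y) = 0
      rw [hx, map_zero, LinearMap.zero_apply]
    let g : Sp.Grp B := ⟨LinearEquiv.ofBijective L ⟨hLi, LinearMap.injective_iff_surjective.1 hLi⟩,
      fun x y => LinearMap.congr_fun (LinearMap.congr_fun hLB x) y⟩
    refine ⟨g, ?_⟩
    have hg : ∀ s, (g : (Fin d ⊕ Fin d → F) ≃ₗ[F] (Fin d ⊕ Fin d → F)) (e s) = f s := hLe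
    have e1 : (Submodule.span F (Set.range fun i => (g : (Fin d ⊕ Fin d → F) ≃ₗ[F] (Fin d ⊕ Fin d → F)) (e (Sum.inl i)))) = U := by
      simp only [hg]; exact hUs
    have e2 : (Submodule.span F (Set.range fun i => (g : (Fin d ⊕ Fin d → F) ≃ₗ[F] (Fin d ⊕ Fin d → F)) (e (Sum.inr i)))) = W := by
      simp only [hg]
      refine Submodule.eq_of_le_of_finrank_le (Submodule.span_le.2 (by rintro _ ⟨i, rfl⟩; exact (w i).2)) ?_
      rw [finrank_span_eq_card, Fintype.card_fin, hW']
      have : LinearIndependent F fun s => (g : (Fin d ⊕ Fin d → F) ≃ₗ[F] (Fin d ⊕ Fin d → F)) (e s) := by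
        exact (show (g : (Fin d ⊕ Fin d → F) ≃ₗ[F] (Fin d ⊕ Fin d → F)).toLinearMap ∘ b = fun s => (g : (Fin d ⊕ Fin d → F) ≃ₗ[F] (Fin d ⊕ Fin d → F)) (e s) from funext fun s => by rw [Function.comp_apply, hb]; rfl) ▸ b.linearIndependent.map' (g : (Fin d ⊕ Fin d → F) ≃ₗ[F] (Fin d ⊕ Fin d → F)).toLinearMap (LinearEquiv.ker _)
      simp only [hg] at this
      exact this.comp Sum.inr Sum.inr_injective
    have key : ∀ (a : Σ P : Pairs F d, {u : Fin d → P.1.1 // LinearIndependent F u}) (c : Σ P : Pairs F d, {u : Fin d → P.1.1 // LinearIndependent F u}),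
        a.1 = c.1 → (∀ i, (a.2.1 i : Fin d ⊕ Fin d → F) = c.2.1 i) → a = c := by
      rintro ⟨P, u₁, hu₁⟩ ⟨P', u₂, hu₂⟩ rfl h2
      exact congrArg (Sigma.mk P) (Subtype.ext (funext fun i => Subtype.ext (h2 i)))
    exact key _ _ (Subtype.ext (Prod.ext e1 e2)) fun i => hg (Sum.inl i)

end Cfsg.Agent.Classical.PolarPairs
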