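import Cfsg.Agent.Lib.Classical.CyclicPrime

/-!
Invariant subspaces of endomorphisms with scalar prime power, and counts of subspaces.
-/

set_option autoImplicit false
set_option linter.style.haveILetI false

open Module Polynomial

namespace Cfsg.Agent.Classical.PrimeChains

universe uF uV

variable {F : Type uF} [Field F]

theorem extend_chain {V : Type uV} [AddCommGroup V] [Module F V] [FiniteDimensional F V] (T : V →ₗ[F] V)
    (P₀ : F[X]) (hP₀ : P₀ ≠ 0) (hT : aeval T P₀ = 0) {i : ℕ} (_hi : 0 < i)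
    (hdeg : ∀ g : F[X], Irreducible g → g ∣ P₀ → g.natDegree ≤ i)
    (R : Submodule F V) (hR : ∀ v ∈ R, T v ∈ R)
    (hdiv : ∀ W : Submodule F V, W ≤ R → (∀ v ∈ W, T v ∈ W) → i ∣ finrank F W) :
    ∀ (b : ℕ) (U : Submodule F V), U ≤ R → (∀ v ∈ U, T v ∈ U) → finrank F U + i * b ≤ finrank F R →
      ∃ W, U ≤ W ∧ W ≤ R ∧ (∀ v ∈ W, T v ∈ W) ∧ finrank F W = finrank F U + i * b := by
  intro b
  induction b with
  | zero => exact fun U hU hUT _ => ⟨U, le_rfl, hU, hUT, by simp⟩
  | succ b ih =>
    intro U hU hUT hle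
    rw [Nat.mul_succ] at hle
    obtain ⟨W, hUW, hWR, hWT, hWd⟩ := ih U hU hUT (by omega)
    obtain ⟨u, huR, huW⟩ : ∃ u ∈ R, u ∉ W := by
      by_contra h
      push Not at h
      have := Submodule.finrank_mono (show R ≤ W from h)
      omega
    have hpR : ∀ (P : F[X]) v, v ∈ R → aeval T P v ∈ R := by
      intro P
      induction P using Polynomial.induction_on' with
      | add P Q hP hQ => intro v hv; rw [map_add, LinearMap.add_apply]; exact R.add_mem (hP v hv) (hQ v hv)
      | monomial s a =>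
        intro v hv
        rw [aeval_monomial, Module.algebraMap_end_eq_smul_id, smul_mul_assoc, LinearMap.smul_apply]
        refine R.smul_mem _ ?_
        rw [Module.End.mul_apply, LinearMap.id_apply]
        induction s with
        | zero => exact hv
        | succ s ihs => rw [pow_succ', Module.End.mul_apply]; exact hR _ ihs
    obtain ⟨g, hg, hgP, v, hvR, hvW, hgv⟩ : ∃ g : F[X], Irreducible g ∧ g ∣ P₀ ∧ ∃ v ∈ R, v ∉ W ∧ aeval T g v ∈ W := by
      suffices key : ∀ (m : ℕ) (P : F[X]), P.natDegree ≤ m → P ∣ P₀ → ∀ v ∈ R, v ∉ W → aeval T P v ∈ W →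
          ∃ g : F[X], Irreducible g ∧ g ∣ P₀ ∧ ∃ v ∈ R, v ∉ W ∧ aeval T g v ∈ W from
        key P₀.natDegree P₀ le_rfl dvd_rfl u huR huW (by rw [hT, LinearMap.zero_apply]; exact W.zero_mem)
      intro m
      induction m with
      | zero =>
        intro P hP hPd v _ hvW hv
        exfalso
        rw [Polynomial.eq_C_of_natDegree_le_zero hP, aeval_C, Module.algebraMap_end_apply] at hv
        have hc : P.coeff 0 ≠ 0 := fun e => hP₀ (by
          obtain ⟨Q, hQ⟩ := hPd
          rw [hQ, Polynomial.eq_C_of_natDegree_le_zero hP, e, map_zero, zero_mul])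
        exact hvW ((Submodule.smul_mem_iff _ hc).1 hv)
      | succ m ihm =>
        intro P hP hPd v hvR hvW hv
        have hP0 : P ≠ 0 := fun e => hP₀ (by obtain ⟨Q, hQ⟩ := hPd; rw [hQ, e, zero_mul])
        by_cases hu : IsUnit P
        · exact ihm P (by rw [Polynomial.natDegree_eq_zero_of_isUnit hu]; omega) hPd v hvR hvW hv
        obtain ⟨g, hg, Q, hQ⟩ := WfDvdMonoid.exists_irreducible_factor hu hP0
        by_cases hQv : aeval T Q v ∈ W
        · refine ihm Q ?_ ((Dvd.intro_left g hQ.symm).trans hPd) v hvR hvW hQv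
          rw [hQ, Polynomial.natDegree_mul hg.ne_zero (fun e => hP0 (by rw [hQ, e, mul_zero]))] at hP
          have := hg.natDegree_pos
          omega
        · refine ⟨g, hg, (Dvd.intro Q hQ.symm).trans hPd, _, hpR Q v hvR, hQv, ?_⟩
          rw [← Module.End.mul_apply, ← map_mul, ← hQ]
          exact hv
    let S := Submodule.span F (Set.range fun j : Fin g.natDegree => (T ^ (j : ℕ)) v)
    have hSR : S ≤ R := Submodule.span_le.2 (by
      rintro _ ⟨j, rfl⟩
      have := hpR (X ^ (j : ℕ)) v hvR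
      rwa [map_pow, aeval_X] at this)
    have hgv' : aeval T g v = g.leadingCoeff • (T ^ g.natDegree) v + ∑ j ∈ Finset.range g.natDegree, g.coeff j • (T ^ j) v := by
      rw [aeval_eq_sum_range, LinearMap.sum_apply, Finset.sum_range_succ, add_comm]
      rfl
    have htop : (T ^ g.natDegree) v ∈ W ⊔ S := by
      refine (Submodule.smul_mem_iff _ (Polynomial.leadingCoeff_ne_zero.2 hg.ne_zero)).1 ?_
      rw [show g.leadingCoeff • (T ^ g.natDegree) v = aeval T g v - ∑ j ∈ Finset.range g.natDegree, g.coeff j • (T ^ j) v by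
        rw [hgv', add_sub_cancel_right]]
      exact Submodule.sub_mem _ (Submodule.mem_sup_left hgv) (Submodule.sum_mem _ fun j hj => Submodule.smul_mem _ _
        (Submodule.mem_sup_right (Submodule.subset_span ⟨⟨j, Finset.mem_range.1 hj⟩, rfl⟩)))
    have hinv : ∀ x ∈ W ⊔ S, T x ∈ W ⊔ S := by
      intro x hx
      obtain ⟨a, ha, c, hc, rfl⟩ := Submodule.mem_sup.1 hx
      rw [map_add]
      refine Submodule.add_mem _ (Submodule.mem_sup_left (hWT a ha)) ?_
      refine (Submodule.map_span_le T _ (W ⊔ S)).2 ?_ ⟨c, hc, rfl⟩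
      rintro _ ⟨⟨j, hj⟩, rfl⟩
      show T ((T ^ j) v) ∈ _
      rw [← Module.End.mul_apply, ← pow_succ']
      by_cases hj' : j + 1 < g.natDegree
      · exact Submodule.mem_sup_right (Submodule.subset_span ⟨⟨j + 1, hj'⟩, rfl⟩)
      · rw [show j + 1 = g.natDegree by omega]; exact htop
    have hlt : W < W ⊔ S := lt_of_le_of_ne le_sup_left fun e => hvW (e ▸ Submodule.mem_sup_right
      (Submodule.subset_span ⟨⟨0, hg.natDegree_pos⟩, by simp⟩))
    have h1 := Submodule.finrank_lt_finrank_of_lt hlt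
    have h2 : finrank F ↥(W ⊔ S) ≤ finrank F W + i := by
      refine (Submodule.finrank_add_le_finrank_add_finrank W S).trans (Nat.add_le_add_left ?_ _)
      refine (finrank_range_le_card (R := F) fun j : Fin g.natDegree => (T ^ (j : ℕ)) v).trans ?_
      rw [Fintype.card_fin]; exact hdeg g hg hgP
    have h3 := hdiv W hWR hWT
    have h4 := hdiv _ (sup_le hWR hSR) hinv
    refine ⟨W ⊔ S, hUW.trans le_sup_left, sup_le hWR hSR, hinv, ?_⟩
    rw [Nat.mul_succ]
    obtain ⟨a, ha⟩ := h3
    obtain ⟨a', ha'⟩ := h4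
    have : a < a' := by
      by_contra hh
      have := Nat.mul_le_mul_left i (not_lt.1 hh)
      omega
    have h5 := Nat.mul_le_mul_left i this
    rw [Nat.mul_succ] at h5
    omega

/-- A chain `U ≤ W` of invariant subspaces. -/
theorem exists_pair {V : Type uV} [AddCommGroup V] [Module F V] [FiniteDimensional F V] (T : V →ₗ[F] V)
    (P₀ : F[X]) (hP₀ : P₀ ≠ 0) (hT : aeval T P₀ = 0) {i : ℕ} (hi : 0 < i)
    (hdeg : ∀ g : F[X], Irreducible g → g ∣ P₀ → g.natDegree ≤ i)
    (R : Submodule F V) (hR : ∀ v ∈ R, T v ∈ R)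
    (hdiv : ∀ W : Submodule F V, W ≤ R → (∀ v ∈ W, T v ∈ W) → i ∣ finrank F W)
    {b b' : ℕ} (hbb : b ≤ b') (hb : i * b' ≤ finrank F R) :
    ∃ U W, U ≤ W ∧ W ≤ R ∧ (∀ v ∈ U, T v ∈ U) ∧ (∀ v ∈ W, T v ∈ W) ∧ finrank F U = i * b ∧ finrank F W = i * b' := by
  have h0 : finrank F (⊥ : Submodule F V) = 0 := finrank_bot F V
  have hle : i * b ≤ i * b' := Nat.mul_le_mul_left i hbb
  obtain ⟨U, -, hUR, hUT, hUd⟩ := extend_chain T P₀ hP₀ hT hi hdeg R hR hdiv b ⊥ bot_le
    (fun v hv => by rw [(Submodule.mem_bot F).1 hv, map_zero]; exact Submodule.zero_mem _) (by omega)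
  have hsplit : i * b' = i * b + i * (b' - b) := by rw [← Nat.mul_add, Nat.add_sub_cancel' hbb]
  obtain ⟨W, hUW, hWR, hWT, hWd⟩ := extend_chain T P₀ hP₀ hT hi hdeg R hR hdiv (b' - b) U hUR hUT (by omega)
  exact ⟨U, W, hUW, hWR, hUT, hWT, by omega, by omega⟩

/-- Being a power. -/
theorem power_of_pow {c d : F} {m r : ℕ} (hr : r.Prime) (hc : c ≠ 0) (hm : ¬ r ∣ m) (h : c ^ m = d ^ r) :
    ∃ a : F, a ^ r = c := by
  obtain ⟨s, -, hs⟩ := Nat.exists_mul_mod_eq_one_of_coprime (Nat.Coprime.symm (hr.coprime_iff_not_dvd.2 hm)) hr.one_lt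
  refine ⟨d ^ s / c ^ (m * s / r), ?_⟩
  rw [div_pow, ← pow_mul, mul_comm s r, pow_mul, ← h, ← pow_mul, ← pow_mul, div_eq_iff (pow_ne_zero _ hc), ← pow_succ']
  congr 1
  have := Nat.div_add_mod (m * s) r
  rw [mul_comm (m * s / r) r]
  omega

theorem dvd_finrank_of_no_root {V : Type uV} [AddCommGroup V] [Module F V] [FiniteDimensional F V] (T : V →ₗ[F] V)
    {c : F} {r : ℕ} (hr : r.Prime) (hc : c ≠ 0) (hT : ∀ v, (T ^ r) v = c • v) (hnp : ∀ a : F, a ^ r ≠ c)
    (W : Submodule F V) (hW : ∀ v ∈ W, T v ∈ W) : r ∣ finrank F W := by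
  by_contra hm
  let T' : W →ₗ[F] W := T.restrict hW
  have hj : ∀ (j : ℕ) (v : W), ((T' ^ j) v : V) = (T ^ j) (v : V) := by
    intro j
    induction j with
    | zero => intro v; rfl
    | succ j ih => intro v; rw [pow_succ', pow_succ', Module.End.mul_apply, Module.End.mul_apply, ← ih]; rfl
  have h1 : T' ^ r = c • (1 : W →ₗ[F] W) := LinearMap.ext fun v => Subtype.ext (by rw [hj, hT]; rfl)
  have h2 := congrArg LinearMap.det h1
  rw [map_pow, LinearMap.det_smul, map_one, mul_one] at h2
  obtain ⟨a, ha⟩ := power_of_pow hr hc hm h2.symm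
  exact hnp a ha

/-- The determinant when `X ^ r - c` is irreducible. -/
theorem det_eq {c : F} {r : ℕ} (hr : r.Prime) (hc : c ≠ 0) (hnp : ∀ a : F, a ^ r ≠ c) :
    ∀ (b : ℕ) {V : Type uV} [AddCommGroup V] [Module F V] [FiniteDimensional F V] (T : V →ₗ[F] V),
      (∀ v, (T ^ r) v = c • v) → finrank F V = r * b → LinearMap.det T = ((-1) ^ (r + 1) * c) ^ b := by
  intro b
  induction b with
  | zero =>
    intro V _ _ _ T _ hV
    haveI : Subsingleton V := Module.finrank_zero_iff.1 (by rw [hV, mul_zero])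
    rw [pow_zero, LinearMap.det_eq_one_of_subsingleton]
  | succ b ih =>
    intro V _ _ _ T hT hV
    have hirr : Irreducible (X ^ r - C c) := X_pow_sub_C_irreducible_of_prime hr hnp
    have hmon : (X ^ r - C c).Monic := Polynomial.monic_X_pow_sub_C c hr.ne_zero
    have hev : ∀ {V' : Type uV} [AddCommGroup V'] [Module F V'] (T' : V' →ₗ[F] V'), (∀ v, (T' ^ r) v = c • v) →
        aeval T' (X ^ r - C c) = 0 := fun T' h => LinearMap.ext fun v => by
      rw [map_sub, map_pow, aeval_X, aeval_C, LinearMap.sub_apply, Module.algebraMap_end_apply, h, sub_self, LinearMap.zero_apply]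
    have hdeg : ∀ g : F[X], Irreducible g → g ∣ X ^ r - C c → g.natDegree ≤ r := fun g _ hg =>
      (Polynomial.natDegree_le_of_dvd hg hmon.ne_zero).trans (le_of_eq Polynomial.natDegree_X_pow_sub_C)
    obtain ⟨U, -, -, hUT, hUd⟩ := extend_chain T _ hmon.ne_zero (hev T hT) hr.pos hdeg ⊤ (fun _ _ => Submodule.mem_top)
      (fun W _ hW => dvd_finrank_of_no_root T hr hc hT hnp W hW) 1 ⊥ bot_le
      (fun v hv => by rw [(Submodule.mem_bot F).1 hv, map_zero]; exact Submodule.zero_mem _)
      (by rw [finrank_bot, finrank_top, hV, zero_add]; exact Nat.mul_le_mul_left r (by omega))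
    rw [finrank_bot, zero_add, mul_one] at hUd
    have he : U ≤ U.comap T := hUT
    rw [LinearMap.det_eq_det_mul_det U T he, pow_succ']
    have hT1 : ∀ v, ((T.restrict he) ^ r) v = c • v := fun v => Subtype.ext (by
      have hj : ∀ (j : ℕ) (v : U), (((T.restrict he) ^ j) v : V) = (T ^ j) (v : V) := by
        intro j
        induction j with
        | zero => intro v; rfl
        | succ j ih => intro v; rw [pow_succ', pow_succ', Module.End.mul_apply, Module.End.mul_apply, ← ih]; rfl
      rw [hj, hT]; rfl)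
    have hT2 : ∀ v, ((U.mapQ U T he) ^ r) v = c • v := fun v => by
      obtain ⟨x, rfl⟩ := Submodule.Quotient.mk_surjective U v
      have hj : ∀ (j : ℕ) (x : V), ((U.mapQ U T he) ^ j) (Submodule.Quotient.mk x) = Submodule.Quotient.mk ((T ^ j) x) := by
        intro j
        induction j with
        | zero => intro x; rfl
        | succ j ih => intro x; rw [pow_succ', pow_succ', Module.End.mul_apply, Module.End.mul_apply, ih]; rfl
      rw [hj, hT]; rfl
    rw [ih (U.mapQ U T he) hT2 (by
      have := U.finrank_quotient_add_finrank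
      rw [hUd, hV, Nat.mul_succ] at this
      omega)]
    congr 1
    haveI : Nontrivial U := Module.nontrivial_of_finrank_pos (R := F) (by rw [hUd]; exact hr.pos)
    have hmin := minpoly.eq_of_irreducible_of_monic hirr (hev _ hT1) hmon
    have hchar : (T.restrict he).charpoly = X ^ r - C c :=
      Polynomial.eq_of_monic_of_dvd_of_natDegree_le hmon (LinearMap.charpoly_monic _)
        (hmin ▸ LinearMap.minpoly_dvd_charpoly _) (by rw [LinearMap.charpoly_natDegree, hUd, Polynomial.natDegree_X_pow_sub_C])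
    rw [LinearMap.det_eq_sign_charpoly_coeff, hchar, hUd, Polynomial.coeff_sub, Polynomial.coeff_X_pow,
      Polynomial.coeff_C_zero, if_neg hr.ne_zero.symm, pow_succ]
    ring

/-- Irreducible factors of `X ^ r - 1`. -/
theorem deg_le [Fintype F] {r i : ℕ} (hi : 0 < i) (hr : r ∣ Fintype.card F ^ i - 1) (g : F[X]) (hg : Irreducible g)
    (hgd : g ∣ X ^ r - 1) : g.natDegree ≤ i := by
  refine Nat.le_of_dvd hi ?_
  refine hg.natDegree_dvd_of_dvd_X_pow_card_pow_sub_X (hgd.trans ?_)
  rw [Nat.card_eq_fintype_card]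
  have h1 : Fintype.card F ^ i = (Fintype.card F ^ i - 1) + 1 := by
    have := Nat.one_le_pow i (Fintype.card F) Fintype.card_pos
    omega
  rw [h1, pow_succ, show X ^ (Fintype.card F ^ i - 1) * X - X = (X ^ (Fintype.card F ^ i - 1) - 1) * (X : F[X]) by ring]
  refine Dvd.dvd.mul_right ?_ _
  obtain ⟨t, ht⟩ := hr
  rw [ht, pow_mul]
  simpa using sub_dvd_pow_sub_pow (X ^ r : F[X]) 1 1 |>.trans (by simpa using sub_one_dvd_pow_sub_one (X ^ r : F[X]) t)

/-- Subspace counts through frames. -/
theorem card_subspaces_mul [Fintype F] {V : Type uV} [AddCommGroup V] [Module F V] [FiniteDimensional F V] {m N : ℕ}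
    (hN : finrank F V = N) (hm : m ≤ N) :
    Nat.card {W : Submodule F V // finrank F W = m} * ∏ j : Fin m, (Fintype.card F ^ m - Fintype.card F ^ (j : ℕ)) =
      ∏ j : Fin m, (Fintype.card F ^ N - Fintype.card F ^ (j : ℕ)) := by
  classical
  haveI : Finite V := Module.finite_of_finite F
  haveI : Fintype V := Fintype.ofFinite V
  haveI : Fintype {W : Submodule F V // finrank F W = m} := Fintype.ofFinite _
  have h1 : Nat.card {s : Fin m → V // LinearIndependent F s} = ∏ j : Fin m, (Fintype.card F ^ N - Fintype.card F ^ (j : ℕ)) := by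
    rw [card_linearIndependent (hN ▸ hm), hN]
  rw [← h1]
  let f : (Σ W : {W : Submodule F V // finrank F W = m}, {s : Fin m → W.1 // LinearIndependent F s}) →
      {s : Fin m → V // LinearIndependent F s} := fun p =>
    ⟨fun j => (p.2.1 j : V), p.2.2.map' p.1.1.subtype (Submodule.ker_subtype _)⟩
  have hf : Function.Bijective f := by
    refine ⟨?_, fun s => ?_⟩
    · have hspan : ∀ p : (Σ W : {W : Submodule F V // finrank F W = m}, {s : Fin m → W.1 // LinearIndependent F s}),
          Submodule.span F (Set.range fun j => (p.2.1 j : V)) = p.1.1 := fun p =>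
        Submodule.eq_of_le_of_finrank_eq (Submodule.span_le.2 (by rintro _ ⟨j, rfl⟩; exact (p.2.1 j).2))
          (by rw [finrank_span_eq_card (f p).2, Fintype.card_fin, p.1.2])
      rintro ⟨W, s⟩ ⟨W', s'⟩ h
      have h' : (fun j => (s.1 j : V)) = fun j => (s'.1 j : V) := congrArg Subtype.val h
      have hW : W = W' := Subtype.ext ((hspan ⟨W, s⟩).symm.trans ((congrArg (fun g => Submodule.span F (Set.range g)) h').trans (hspan ⟨W', s'⟩)))
      subst hW
      exact congrArg (Sigma.mk W) (Subtype.ext (funext fun j => Subtype.ext (congrFun h' j)))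
    · let W : Submodule F V := Submodule.span F (Set.range s.1)
      refine ⟨⟨⟨W, by rw [finrank_span_eq_card s.2, Fintype.card_fin]⟩,
        ⟨fun j => ⟨s.1 j, Submodule.subset_span ⟨j, rfl⟩⟩, LinearIndependent.of_comp W.subtype s.2⟩⟩, rfl⟩
  rw [← Nat.card_congr (Equiv.ofBijective f hf), Nat.card_sigma, Finset.sum_congr rfl (fun W _ => by
    rw [card_linearIndependent W.2.ge, W.2]), Finset.sum_const, Finset.card_univ, smul_eq_mul,
    Nat.card_eq_fintype_card]

theorem prod_sub_pow (q M m : ℕ) (hm : m ≤ M) :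
    (∏ j : Fin m, (q ^ M - q ^ (j : ℕ))) = q ^ (∑ j ∈ Finset.range m, j) * ∏ j ∈ Finset.range m, (q ^ (M - j) - 1) := by
  rw [Fin.prod_univ_eq_prod_range (fun j => q ^ M - q ^ j) m, ← Finset.prod_pow_eq_pow_sum, ← Finset.prod_mul_distrib]
  refine Finset.prod_congr rfl fun j hj => ?_
  rw [Nat.mul_sub, mul_one, ← pow_add, Nat.add_sub_cancel' ((Finset.mem_range.1 hj).le.trans hm)]

theorem card_subspaces_mul' [Fintype F] {V : Type uV} [AddCommGroup V] [Module F V] [FiniteDimensional F V] {m N : ℕ}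
    (hN : finrank F V = N) (hm : m ≤ N) :
    Nat.card {W : Submodule F V // finrank F W = m} * ∏ j ∈ Finset.range m, (Fintype.card F ^ (m - j) - 1) =
      ∏ j ∈ Finset.range m, (Fintype.card F ^ (N - j) - 1) := by
  have h := card_subspaces_mul (F := F) hN hm
  rw [prod_sub_pow _ m m le_rfl, prod_sub_pow _ N m hm, mul_left_comm] at h
  exact Nat.eq_of_mul_eq_mul_left (Nat.pow_pos Fintype.card_pos) h

/-- Complementary dimensions give equally many subspaces. -/
theorem card_symm [Fintype F] {V : Type uV} [AddCommGroup V] [Module F V] [FiniteDimensional F V] {m N : ℕ}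
    (hN : finrank F V = N) (hm : m ≤ N) :
    Nat.card {W : Submodule F V // finrank F W = N - m} = Nat.card {W : Submodule F V // finrank F W = m} := by
  set g : ℕ → ℕ := fun j => Fintype.card F ^ (j + 1) - 1 with hg
  have hg0 : ∀ s, 0 < ∏ j ∈ Finset.range s, g j := fun s => Finset.prod_pos fun j _ => by
    have := Nat.one_lt_pow (show j + 1 ≠ 0 by omega) (Fintype.one_lt_card (α := F))
    simp only [hg]; omega
  have key : ∀ k, k ≤ N → Nat.card {W : Submodule F V // finrank F W = k} * ((∏ j ∈ Finset.range k, g j) * ∏ j ∈ Finset.range (N - k), g j) =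
      ∏ j ∈ Finset.range N, g j := by
    intro k hk
    have h1 := card_subspaces_mul' (F := F) hN hk
    have e1 : (∏ j ∈ Finset.range k, (Fintype.card F ^ (k - j) - 1)) = ∏ j ∈ Finset.range k, g j := by
      rw [← Finset.prod_range_reflect]
      exact Finset.prod_congr rfl fun j hj => by
        have := Finset.mem_range.1 hj
        simp only [hg]; rw [show k - (k - 1 - j) = j + 1 by omega]
    have e2 : (∏ j ∈ Finset.range k, (Fintype.card F ^ (N - j) - 1)) = ∏ j ∈ Finset.range k, g ((N - k) + j) := by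
      rw [← Finset.prod_range_reflect]
      exact Finset.prod_congr rfl fun j hj => by
        have := Finset.mem_range.1 hj
        simp only [hg]; rw [show N - (k - 1 - j) = N - k + j + 1 by omega]
    rw [← mul_assoc, ← e1, h1, e2, mul_comm, ← Finset.prod_range_add, Nat.sub_add_cancel hk]
  have h1 := key (N - m) (Nat.sub_le _ _)
  rw [Nat.sub_sub_self hm, mul_comm (∏ j ∈ Finset.range (N - m), g j), ← key m hm] at h1
  exact Nat.eq_of_mul_eq_mul_right (Nat.mul_pos (hg0 _) (hg0 _)) h1

end Cfsg.Agent.Classical.PrimeChains
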