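import Cfsg.Agent.Lib.Classical.PrimeChains
import Cfsg.Agent.Lib.Classical.FieldExtension

/-!
Elements of prime order of `SL_n` and the dimensions of their invariant subspaces.
-/

set_option autoImplicit false
set_option linter.style.haveILetI false
set_option maxHeartbeats 1000000

open Module Polynomial

namespace Cfsg.Agent.Classical.PrimeSubspaces

variable {F : Type*} [Field F] [Fintype F] {r : ℕ} [Fact r.Prime]

/-- A prime dividing a number of subspaces. -/
theorem dvd_count {V : Type*} [AddCommGroup V] [Module F V] [FiniteDimensional F V] {m N p : ℕ} [Fact p.Prime]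
    [CharP F p] (hN : finrank F V = N) (hm : m ≤ N) (h : r ∣ Nat.card {W : Submodule F V // finrank F W = m}) :
    r ≠ p ∧ ∃ j < m, orderOf (Fintype.card F : ZMod r) ∣ N - j := by
  have h1 := PrimeChains.card_subspaces_mul' (F := F) hN hm
  have h2 : r ∣ ∏ j ∈ Finset.range m, (Fintype.card F ^ (N - j) - 1) := h1 ▸ Dvd.dvd.mul_right h _
  obtain ⟨j, hj, h3⟩ := ((Fact.out : r.Prime).prime.dvd_finsetProd_iff _).1 h2
  have hj' := Finset.mem_range.1 hj
  refine ⟨fun e => ?_, j, hj', orderOf_dvd_of_pow_eq_one ?_⟩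
  · subst e
    obtain ⟨s, -, hs⟩ := FiniteField.card F r
    have h4 : r ∣ Fintype.card F ^ (N - j) := hs ▸ dvd_pow (dvd_pow_self r s.ne_zero) (by omega)
    have h5 := Nat.dvd_sub h4 h3
    rw [Nat.sub_sub_self (Nat.one_le_pow _ _ Fintype.card_pos)] at h5
    exact (Fact.out : r.Prime).one_lt.ne' (Nat.dvd_one.1 h5)
  · have h4 := (ZMod.natCast_eq_zero_iff _ _).2 h3
    rw [Nat.cast_sub (Nat.one_le_pow _ _ Fintype.card_pos), Nat.cast_pow, Nat.cast_one, sub_eq_zero] at h4
    exact h4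

theorem card_pairs {V : Type*} [AddCommGroup V] [Module F V] [FiniteDimensional F V] {m m' N : ℕ}
    (hN : finrank F V = N) (hm : m ≤ m') (hm' : m' ≤ N) :
    ∃ c, Nat.card {P : Submodule F V × Submodule F V // P.1 ≤ P.2 ∧ finrank F P.1 = m ∧ finrank F P.2 = m'} =
        Nat.card {W : Submodule F V // finrank F W = m} * c ∧
      ∀ U : {W : Submodule F V // finrank F W = m}, c = Nat.card {W : Submodule F (V ⧸ U.1) // finrank F W = m' - m} := by
  classical
  haveI : Finite V := Module.finite_of_finite F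
  haveI : Fintype {W : Submodule F V // finrank F W = m} := Fintype.ofFinite _
  let A := {W : Submodule F V // finrank F W = m}
  have hq : ∀ U : A, finrank F (V ⧸ U.1) = N - m := fun U => by
    have := U.1.finrank_quotient_add_finrank
    rw [U.2, hN] at this; omega
  let f : A → ℕ := fun U => Nat.card {W : Submodule F (V ⧸ U.1) // finrank F W = m' - m}
  have hconst : ∀ U U' : A, f U = f U' := fun U U' => by
    have h1 := PrimeChains.card_subspaces_mul' (F := F) (hq U) (show m' - m ≤ N - m by omega)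
    have h2 := PrimeChains.card_subspaces_mul' (F := F) (hq U') (show m' - m ≤ N - m by omega)
    refine Nat.eq_of_mul_eq_mul_right (Finset.prod_pos fun j hj => ?_) (h1.trans h2.symm)
    have := Finset.mem_range.1 hj
    have := Nat.one_lt_pow (show m' - m - j ≠ 0 by omega) (Fintype.one_lt_card (α := F))
    omega
  have hdim : ∀ (U : A) (W' : Submodule F (V ⧸ U.1)), finrank F (W'.comap U.1.mkQ) = finrank F W' + m := fun U W' => by
    have h1 := LinearMap.finrank_range_add_finrank_ker (U.1.mkQ.comp (W'.comap U.1.mkQ).subtype)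
    have h2 : LinearMap.range (U.1.mkQ.comp (W'.comap U.1.mkQ).subtype) = W' := by
      rw [LinearMap.range_comp, Submodule.range_subtype, Submodule.map_comap_eq, Submodule.range_mkQ, top_inf_eq]
    have h3 : LinearMap.ker (U.1.mkQ.comp (W'.comap U.1.mkQ).subtype) = U.1.comap (W'.comap U.1.mkQ).subtype := by
      rw [LinearMap.ker_comp, Submodule.ker_mkQ]
    rw [h2, h3, (Submodule.comapSubtypeEquivOfLe (Submodule.le_comap_mkQ U.1 W')).finrank_eq, U.2] at h1
    exact h1.symm
  let E : {P : Submodule F V × Submodule F V // P.1 ≤ P.2 ∧ finrank F P.1 = m ∧ finrank F P.2 = m'} ≃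
      Σ U : A, {W : Submodule F (V ⧸ U.1) // finrank F W = m' - m} :=
    { toFun := fun P => ⟨⟨P.1.1, P.2.2.1⟩, ⟨P.1.2.map P.1.1.mkQ, by
        have h1 := hdim ⟨P.1.1, P.2.2.1⟩ (P.1.2.map P.1.1.mkQ)
        simp only at h1
        rw [Submodule.comap_map_eq, Submodule.ker_mkQ, sup_eq_left.2 P.2.1] at h1
        exact Nat.eq_sub_of_add_eq (h1.symm.trans P.2.2.2)⟩⟩
      invFun := fun Q => ⟨(Q.1.1, Q.2.1.comap Q.1.1.mkQ), Submodule.le_comap_mkQ _ _, Q.1.2, by
        show finrank F (Q.2.1.comap Q.1.1.mkQ) = m'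
        rw [hdim, Q.2.2]; omega⟩
      left_inv := fun P => Subtype.ext (Prod.ext rfl (by
        show (P.1.2.map P.1.1.mkQ).comap P.1.1.mkQ = P.1.2
        rw [Submodule.comap_map_eq, Submodule.ker_mkQ, sup_eq_left.2 P.2.1]))
      right_inv := fun Q => by
        obtain ⟨U, W, hW⟩ := Q
        refine congrArg (Sigma.mk U) (Subtype.ext ?_)
        show (W.comap U.1.mkQ).map U.1.mkQ = W
        rw [Submodule.map_comap_eq, Submodule.range_mkQ, top_inf_eq] }
  haveI : ∀ U : A, Finite {W : Submodule F (V ⧸ U.1) // finrank F W = m' - m} := fun U => by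
    haveI : Finite (V ⧸ U.1) := Finite.of_surjective _ U.1.mkQ_surjective
    exact Finite.of_injective (fun W => ((W.1 : Submodule F (V ⧸ U.1)) : Set (V ⧸ U.1))) fun W W' h => Subtype.ext (SetLike.coe_injective h)
  rw [Nat.card_congr E, Nat.card_sigma]
  rcases isEmpty_or_nonempty A with hA | hA
  · exact ⟨0, by simp, fun U => isEmptyElim U⟩
  · obtain ⟨U₀⟩ := hA
    refine ⟨f U₀, ?_, fun U => hconst U₀ U⟩
    rw [Finset.sum_congr rfl (fun U _ => hconst U U₀), Finset.sum_const, Finset.card_univ, smul_eq_mul,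
      Nat.card_eq_fintype_card]

variable (r) in
/-- Fixed and moving parts. -/
theorem parts {V : Type*} [AddCommGroup V] [Module F V] [FiniteDimensional F V] (hrF : (r : F) ≠ 0)
    (y : V →ₗ[F] V) (hy : y ^ r = 1) :
    (∀ v ∈ LinearMap.range (y - 1), y v ∈ LinearMap.range (y - 1)) ∧
    (∀ W : Submodule F V, W ≤ LinearMap.range (y - 1) → (∀ v ∈ W, y v ∈ W) →
      orderOf (Fintype.card F : ZMod r) ∣ finrank F W) ∧
    finrank F (LinearMap.ker (y - 1)) + finrank F (LinearMap.range (y - 1)) = finrank F V ∧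
    (∀ W : Submodule F V, (∀ v ∈ W, y v ∈ W) →
      finrank F W = finrank F ↥(W ⊓ LinearMap.ker (y - 1)) + finrank F ↥(W ⊓ LinearMap.range (y - 1))) ∧
    Disjoint (LinearMap.ker (y - 1)) (LinearMap.range (y - 1)) := by
  have hWy : ∀ v ∈ LinearMap.range (y - 1), y v ∈ LinearMap.range (y - 1) := by
    rintro _ ⟨u, rfl⟩
    exact ⟨y u, by simp⟩
  have hWfix : ∀ v ∈ LinearMap.range (y - 1), y v = v → v = 0 := by
    rintro _ ⟨u, rfl⟩ hv
    set w := (y - 1) u with hw
    have hpw : ∀ j : ℕ, (y ^ j) u = u + (j : F) • w := by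
      intro j
      induction j with
      | zero => simp
      | succ j ih =>
        rw [pow_succ', Module.End.mul_apply, ih, map_add, map_smul, hv]
        rw [hw, LinearMap.sub_apply, Module.End.one_apply, Nat.cast_succ, add_smul, one_smul]
        abel
    have := hpw r
    rw [hy, Module.End.one_apply, left_eq_add, smul_eq_zero] at this
    exact this.resolve_left hrF
  have hdisj : Disjoint (LinearMap.ker (y - 1)) (LinearMap.range (y - 1)) := by
    rw [Submodule.disjoint_def]
    intro v hv hv'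
    rw [LinearMap.mem_ker, LinearMap.sub_apply, Module.End.one_apply, sub_eq_zero] at hv
    exact hWfix v hv' hv
  refine ⟨hWy, fun W hW hWi => CyclicPrime.dvd_finrank W y hy hWi fun v hv => hWfix v (hW hv),
    by rw [add_comm]; exact LinearMap.finrank_range_add_finrank_ker _, fun W hW => ?_, hdisj⟩
  have hd : Disjoint (W ⊓ LinearMap.ker (y - 1)) (W ⊓ LinearMap.range (y - 1)) := hdisj.mono inf_le_right inf_le_right
  have hs : (W ⊓ LinearMap.ker (y - 1)) ⊔ (W ⊓ LinearMap.range (y - 1)) = W := by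
    refine le_antisymm (sup_le inf_le_left inf_le_left) fun v hv => ?_
    have hmem : ∀ j : ℕ, (y ^ j) v ∈ W := by
      intro j
      induction j with
      | zero => simpa using hv
      | succ j ih => rw [pow_succ', Module.End.mul_apply]; exact hW _ ih
    set s := (r : F)⁻¹ • ∑ j ∈ Finset.range r, (y ^ j) v with hsd
    have hsW : s ∈ W := W.smul_mem _ (W.sum_mem fun j _ => hmem j)
    have hs1 : s ∈ LinearMap.ker (y - 1) := by
      rw [LinearMap.mem_ker, hsd, map_smul]
      have h2 := LinearMap.congr_fun (mul_geom_sum y r) v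
      rw [hy, sub_self, LinearMap.zero_apply, Module.End.mul_apply, LinearMap.sum_apply] at h2
      rw [h2, smul_zero]
    have hs2 : v - s ∈ LinearMap.range (y - 1) := by
      have h3 : (r : F)⁻¹ • ∑ j ∈ Finset.range r, (v - (y ^ j) v) = v - s := by
        rw [Finset.sum_sub_distrib, Finset.sum_const, Finset.card_range, smul_sub, ← Nat.cast_smul_eq_nsmul F,
          inv_smul_smul₀ hrF]
      rw [← h3]
      refine Submodule.smul_mem _ _ (Submodule.sum_mem _ fun j _ => ?_)
      have h4 := LinearMap.congr_fun (mul_geom_sum y j) v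
      rw [Module.End.mul_apply, LinearMap.sub_apply (y ^ j), Module.End.one_apply] at h4
      rw [show v - (y ^ j) v = -((y ^ j) v - v) by abel, ← h4]
      exact Submodule.neg_mem _ ⟨_, rfl⟩
    exact Submodule.mem_sup.2 ⟨s, ⟨hsW, hs1⟩, v - s, ⟨W.sub_mem hv hsW, hs2⟩, add_sub_cancel _ _⟩
  have := Submodule.finrank_sup_add_finrank_inf_eq (W ⊓ LinearMap.ker (y - 1)) (W ⊓ LinearMap.range (y - 1))
  rw [hs, hd.eq_bot, finrank_bot, add_zero] at this
  exact this

theorem root_one (hr1 : ¬ r ∣ Fintype.card F - 1) (u : F) (hu : u ^ r = 1) : u = 1 := by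
  classical
  by_contra hu1
  have hr : r.Prime := Fact.out
  have hu0 : u ≠ 0 := fun e => by rw [e, zero_pow hr.ne_zero] at hu; exact zero_ne_one hu
  have h1 : orderOf (Units.mk0 u hu0) = r :=
    orderOf_eq_prime (Units.ext (by simpa using hu)) (fun e => hu1 (congrArg Units.val e))
  have h2 := orderOf_dvd_card (x := Units.mk0 u hu0)
  rw [h1, Fintype.card_units] at h2
  exact hr1 h2

/-- An element with smallest possible fixed space. -/
theorem exists_blocks {n i p : ℕ} [Fact p.Prime] [CharP F p] (hi : i = orderOf (Fintype.card F : ZMod r)) (hi2 : 2 ≤ i)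
    (hin : i ≤ n) (hrF : (r : F) ≠ 0) :
    ∃ M : Matrix (Fin n) (Fin n) F, M.det = 1 ∧ M ^ r = 1 ∧ (∀ c : F, M ≠ c • 1) ∧
      ∀ W : Submodule F (Fin n → F), W.map (Matrix.toLin' M) ≤ W → ∃ a b, finrank F W = a + i * b ∧ a ≤ n % i ∧
        a = finrank F ↥(W ⊓ LinearMap.ker (Matrix.toLin' M - 1)) := by
  classical
  have hr : r.Prime := Fact.out
  have hr1 : ¬ r ∣ Fintype.card F - 1 := fun h => by
    have h4 := (ZMod.natCast_eq_zero_iff _ _).2 h
    rw [Nat.cast_sub Fintype.card_pos, Nat.cast_one, sub_eq_zero] at h4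
    rw [h4, orderOf_one] at hi; omega
  set q := Fintype.card F with hq
  obtain ⟨s, -, hs⟩ := FiniteField.card F p
  rw [← hq] at hs
  let L := GaloisField p (s * i)
  haveI : Fintype L := Fintype.ofFinite L
  have hLc : Fintype.card L = q ^ i := by
    rw [← Nat.card_eq_fintype_card, GaloisField.card p _ (Nat.mul_ne_zero s.ne_zero (by omega)), hs, pow_mul]
  obtain ⟨ι⟩ := FieldExt.exists_emb F L (by omega : i ≠ 0) (by rw [hLc])
  letI : Algebra F L := ι.toAlgebra
  haveI : Module.Finite F L := Module.Finite.of_finite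
  have hfd : finrank F L = i := by
    have := Module.card_eq_pow_finrank (K := F) (V := L)
    rw [hLc] at this
    exact (Nat.pow_right_injective (Fintype.one_lt_card (α := F)) this).symm
  obtain ⟨ζu, hζ⟩ := exists_prime_orderOf_dvd_card' (G := Lˣ) r (by
    rw [Nat.card_units, Nat.card_eq_fintype_card, hLc, ← ZMod.natCast_eq_zero_iff,
      Nat.cast_sub (Nat.one_le_pow i q Fintype.card_pos), Nat.cast_pow, Nat.cast_one, hi, pow_orderOf_eq_one, sub_self])
  set ζ : L := (ζu : L) with hζd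
  have hζr : ζ ^ r = 1 := by rw [hζd, ← Units.val_pow_eq_pow_val, ← hζ, pow_orderOf_eq_one]; rfl
  have hζ1 : ζ ≠ 1 := fun e0 => by
    rw [Units.val_eq_one.1 e0, orderOf_one] at hζ
    exact hr.ne_one hζ.symm
  let k := n / i
  let f := n % i
  have hnk : n = i * k + f := (Nat.div_add_mod n i).symm
  have hk : 0 < k := Nat.div_pos hin (by omega)
  let φ : (Fin n → F) ≃ₗ[F] (Fin k → L) × (Fin f → F) :=
    LinearEquiv.ofFinrankEq _ _ (by
      rw [finrank_prod, finrank_fin_fun, finrank_fin_fun, Module.finrank_pi_fintype, Finset.sum_const, Finset.card_univ,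
        Fintype.card_fin, hfd, smul_eq_mul, mul_comm]
      exact hnk)
  let T : (Fin n → F) →ₗ[F] (Fin n → F) :=
    φ.symm.toLinearMap ∘ₗ ((LinearMap.mulLeft F ζ).compLeft (Fin k)).prodMap LinearMap.id ∘ₗ φ.toLinearMap
  have hT : ∀ v, φ (T v) = (fun j => ζ * (φ v).1 j, (φ v).2) := fun v => by simp [T]; rfl
  have hTj : ∀ (j : ℕ) v, φ ((T ^ j) v) = (fun l => ζ ^ j * (φ v).1 l, (φ v).2) := by
    intro j
    induction j with
    | zero => intro v; simp
    | succ j ih => intro v; rw [pow_succ', Module.End.mul_apply, hT, ih]; simp [pow_succ', mul_assoc]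
  have hTr : T ^ r = 1 := LinearMap.ext fun v => φ.injective (by rw [hTj, hζr]; simp)
  have hker : finrank F (LinearMap.ker (T - 1)) = f := by
    have hk' : ∀ v, v ∈ LinearMap.ker (T - 1) ↔ (φ v).1 = 0 := fun v => by
      rw [LinearMap.mem_ker, LinearMap.sub_apply, Module.End.one_apply, sub_eq_zero, ← φ.injective.eq_iff, hT]
      refine ⟨fun h => funext fun j => ?_, fun h => Prod.ext (funext fun j => by rw [h]; simp) rfl⟩
      have h1 := congrFun (congrArg Prod.fst h) j
      have h2 : (ζ - 1) * (φ v).1 j = 0 := by rw [sub_mul, one_mul, sub_eq_zero]; exact h1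
      exact (mul_eq_zero.1 h2).resolve_left (sub_ne_zero.2 hζ1)
    rw [show LinearMap.ker (T - 1) = (LinearMap.range (LinearMap.inr F (Fin k → L) (Fin f → F))).map φ.symm.toLinearMap from
      Submodule.ext fun v => by
        rw [hk' v]
        refine ⟨fun h => ⟨φ v, ⟨(φ v).2, Prod.ext h.symm rfl⟩, φ.symm_apply_apply v⟩, ?_⟩
        rintro ⟨_, ⟨z, rfl⟩, rfl⟩
        simp]
    rw [LinearEquiv.finrank_map_eq, LinearMap.finrank_range_of_inj LinearMap.inr_injective, finrank_fin_fun]
  have hM : Matrix.toLin' (LinearMap.toMatrix' T) = T := Matrix.toLin'_toMatrix' T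
  refine ⟨LinearMap.toMatrix' T, ?_, ?_, fun c hc => ?_, fun W hW => ?_⟩
  · rw [LinearMap.det_toMatrix']; exact root_one hr1 _ (by rw [← map_pow, hTr, map_one])
  · refine Matrix.toLin'.injective ?_
    rw [Matrix.toLin'_pow, hM, hTr, Matrix.toLin'_one]; rfl
  · have h1 : T = c • LinearMap.id := by rw [← hM, hc, map_smul, Matrix.toLin'_one]
    have h2 := hT (φ.symm (fun _ => 1, 0))
    rw [h1, LinearMap.smul_apply, LinearMap.id_apply, map_smul, LinearEquiv.apply_symm_apply] at h2
    have h3 : c • (1 : L) = ζ * 1 := congrFun (congrArg Prod.fst h2) ⟨0, hk⟩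
    rw [mul_one, Algebra.smul_def, mul_one] at h3
    have h4 : c ^ r = 1 := (algebraMap F L).injective (by rw [map_pow, h3, hζr, map_one])
    rw [root_one hr1 c h4, map_one] at h3
    exact hζ1 h3.symm
  · rw [hM] at hW ⊢
    obtain ⟨-, hdiv, -, hsum, -⟩ := parts r hrF T hTr
    have hWi : ∀ v ∈ W, T v ∈ W := fun v hv => hW ⟨v, hv, rfl⟩
    obtain ⟨hR, -⟩ := parts r hrF T hTr
    obtain ⟨b, hb⟩ := hdiv (W ⊓ LinearMap.range (T - 1)) inf_le_right (fun v hv => ⟨hWi v hv.1, hR v hv.2⟩)
    rw [← hi] at hb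
    exact ⟨_, b, by rw [hsum W hWi, hb], (Submodule.finrank_mono inf_le_right).trans hker.le, rfl⟩

/-- An element whose invariant subspaces have dimension divisible by `r`. -/
theorem exists_noroot {n : ℕ} (hn : 0 < n) (hr1 : r ∣ Fintype.card F - 1)
    (hv : padicValNat r (Fintype.card F - 1) < padicValNat r n ∨ r = 2 ∧ Even n ∧ Fintype.card F % 4 = 3) :
    ∃ (M : Matrix (Fin n) (Fin n) F) (c : F), M.det = 1 ∧ M ^ r = c • 1 ∧ (∀ z : F, M ≠ z • 1) ∧
      ∀ W : Submodule F (Fin n → F), W.map (Matrix.toLin' M) ≤ W → r ∣ finrank F W := by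
  classical
  have hr : r.Prime := Fact.out
  have hrn : r ∣ n := by
    rcases hv with h | ⟨rfl, he, -⟩
    · exact dvd_of_one_le_padicValNat (by omega)
    · exact even_iff_two_dvd.1 he
  obtain ⟨b, rfl⟩ := hrn
  set Q := Fintype.card F - 1 with hQd
  have hQ0 : Q ≠ 0 := by
    have := Fintype.one_lt_card (α := F); omega
  set v := padicValNat r Q with hvd
  obtain ⟨t, ht⟩ : r ^ v ∣ Q := pow_padicValNat_dvd
  have hv1 : 1 ≤ v := one_le_padicValNat_of_dvd hQ0 hr1
  have hrt : ¬ r ∣ t := fun ⟨u, hu⟩ =>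
    pow_succ_padicValNat_not_dvd hQ0 ⟨u, show Q = r ^ (v + 1) * u by rw [ht, hu, pow_succ, mul_assoc]⟩
  obtain ⟨g, hg⟩ := IsCyclic.exists_generator (α := Fˣ)
  have hgo : orderOf g = Q := by
    rw [orderOf_eq_card_of_forall_mem_zpowers hg, Nat.card_units, Nat.card_eq_fintype_card]
  set cu : Fˣ := g ^ t with hcu
  have hco : orderOf cu = r ^ v := by
    rw [hcu, orderOf_pow, hgo, ht, Nat.gcd_mul_left_left, Nat.mul_div_cancel]
    exact Nat.pos_of_ne_zero fun e => hrt (e ▸ dvd_zero r)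
  set c : F := (cu : F) with hcd
  have hc0 : c ≠ 0 := cu.ne_zero
  have hnp : ∀ a : F, a ^ r ≠ c := fun a ha => by
    have ha0 : a ≠ 0 := fun e => hc0 (by rw [← ha, e, zero_pow hr.ne_zero])
    let au := Units.mk0 a ha0
    have hau : au ^ r = cu := Units.ext (by rw [Units.val_pow_eq_pow_val]; exact ha)
    have h1 : cu ^ (r ^ (v - 1) * t) = 1 := by
      rw [← hau, ← pow_mul, ← mul_assoc, ← pow_succ', Nat.sub_add_cancel hv1, ← ht,
        show Q = Fintype.card Fˣ by rw [Fintype.card_units], pow_card_eq_one]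
    have h2 := orderOf_dvd_of_pow_eq_one h1
    rw [hco, show r ^ v = r ^ (v - 1) * r by rw [← pow_succ, Nat.sub_add_cancel hv1]] at h2
    exact hrt (Nat.dvd_of_mul_dvd_mul_left (Nat.pow_pos hr.pos) h2)
  have hdetc : ((-1 : F) ^ (r + 1) * c) ^ b = 1 := by
    rcases hv with h | ⟨rfl, -, h4⟩
    · rw [padicValNat.mul hr.ne_zero (fun e => by rw [e, mul_zero] at hn; exact lt_irrefl 0 hn), padicValNat.self hr.one_lt] at h
      have hb : r ^ v ∣ b := (pow_dvd_pow r (show v ≤ padicValNat r b by omega)).trans pow_padicValNat_dvd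
      have hc : c ^ b = 1 := by rw [hcd, ← Units.val_pow_eq_pow_val, orderOf_dvd_iff_pow_eq_one.1 (hco ▸ hb)]; rfl
      rw [mul_pow, hc, mul_one, ← pow_mul]
      rcases hr.eq_two_or_odd' with rfl | ho
      · exact Even.neg_one_pow ((even_iff_two_dvd.2 ((dvd_pow_self 2 (by omega)).trans hb)).mul_left _)
      · exact Even.neg_one_pow ((ho.add_odd odd_one).mul_right _)
    · have hv' : v = 1 := by
        refine le_antisymm ?_ hv1
        by_contra hlt
        obtain ⟨u, hu⟩ := (pow_dvd_pow 2 (show 2 ≤ v by omega)).trans (Dvd.intro t ht.symm)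
        rw [pow_two] at hu; omega
      have hc1 : c = -1 := by
        have h2 : c ^ 2 = 1 := by
          rw [hcd, ← Units.val_pow_eq_pow_val, orderOf_dvd_iff_pow_eq_one.1 (by rw [hco, hv', pow_one])]; rfl
        refine ((sq_eq_one_iff).1 h2).resolve_left fun e => ?_
        rw [hcd, Units.val_eq_one] at e
        rw [e, orderOf_one, hv', pow_one] at hco
        omega
      rw [hc1, show ((-1 : F) ^ (2 + 1) * -1) = 1 by ring, one_pow]
  have hirr : Irreducible (X ^ r - C c) := X_pow_sub_C_irreducible_of_prime hr hnp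
  haveI : Fact (Irreducible (X ^ r - C c)) := ⟨hirr⟩
  let L := AdjoinRoot (X ^ r - C c)
  have hfd : finrank F L = r := by
    rw [(AdjoinRoot.powerBasis hirr.ne_zero).finrank, AdjoinRoot.powerBasis_dim, Polynomial.natDegree_X_pow_sub_C]
  haveI : Module.Finite F L := Module.finite_of_finrank_pos (by rw [hfd]; exact hr.pos)
  let θ : L := AdjoinRoot.root _
  have hθ : θ ^ r = algebraMap F L c := by
    have h1 := AdjoinRoot.eval₂_root (X ^ r - C c)
    rw [eval₂_sub, eval₂_X_pow, eval₂_C, sub_eq_zero] at h1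
    exact h1
  let φ : (Fin (r * b) → F) ≃ₗ[F] (Fin b → L) :=
    LinearEquiv.ofFinrankEq _ _ (by
      rw [finrank_fin_fun, Module.finrank_pi_fintype, Finset.sum_const, Finset.card_univ, Fintype.card_fin, hfd, smul_eq_mul, mul_comm])
  let T : (Fin (r * b) → F) →ₗ[F] (Fin (r * b) → F) :=
    φ.symm.toLinearMap ∘ₗ ((LinearMap.mulLeft F θ).compLeft (Fin b)) ∘ₗ φ.toLinearMap
  have hT : ∀ v, φ (T v) = fun j => θ * φ v j := fun v => by simp [T]; rfl
  have hTj : ∀ (j : ℕ) v, φ ((T ^ j) v) = fun l => θ ^ j * φ v l := by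
    intro j
    induction j with
    | zero => intro v; simp
    | succ j ih => intro v; rw [pow_succ', Module.End.mul_apply, hT, ih]; simp [pow_succ', mul_assoc]
  have hTr : ∀ v, (T ^ r) v = c • v := fun v => φ.injective (by
    rw [hTj, map_smul]; funext l; rw [hθ, Pi.smul_apply, Algebra.smul_def])
  have hM : Matrix.toLin' (LinearMap.toMatrix' T) = T := Matrix.toLin'_toMatrix' T
  refine ⟨LinearMap.toMatrix' T, c, ?_, ?_, fun z hz => ?_, fun W hW => ?_⟩
  · rw [LinearMap.det_toMatrix', PrimeChains.det_eq hr hc0 hnp b T hTr (finrank_fin_fun F)]; exact hdetc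
  · refine Matrix.toLin'.injective ?_
    rw [Matrix.toLin'_pow, hM, map_smul, Matrix.toLin'_one]
    exact LinearMap.ext fun v => hTr v
  · have h1 : T = z • LinearMap.id := by rw [← hM, hz, map_smul, Matrix.toLin'_one]
    refine hnp z ?_
    have hb : 0 < b := Nat.pos_of_ne_zero fun e => by rw [e, mul_zero] at hn; exact lt_irrefl 0 hn
    have h2 := hTr (Pi.single ⟨0, hn⟩ 1)
    have hp : ∀ (j : ℕ) v, (T ^ j) v = z ^ j • v := by
      intro j
      induction j with
      | zero => intro v; simp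
      | succ j ih => intro v; rw [pow_succ', Module.End.mul_apply, ih, h1, LinearMap.smul_apply, LinearMap.id_apply, smul_smul, pow_succ']
    rw [hp] at h2
    simpa using congrFun h2 ⟨0, hn⟩
  · rw [hM] at hW
    exact PrimeChains.dvd_finrank_of_no_root T hr hc0 hTr hnp W fun v hv => hW ⟨v, hv, rfl⟩

/-- The dimensions of invariant subspaces when `r ∣ q - 1`. -/
theorem scalar_chain {n : ℕ} (hn : 0 < n) (x : Matrix (Fin n) (Fin n) F) (hdet : x.det = 1) {c : F} (hx : x ^ r = c • 1)
    (hr1 : r ∣ Fintype.card F - 1) {m m' : ℕ} (hmm : m ≤ m') (hm' : m' ≤ n)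
    (hcond : (r ∣ m ∧ (r ∣ n → r ∣ m')) ∨
      (padicValNat r n ≤ padicValNat r (Fintype.card F - 1) ∧ (r = 2 → Even n → Fintype.card F % 4 = 1))) :
    ∃ U W : Submodule F (Fin n → F), U ≤ W ∧ finrank F U = m ∧ finrank F W = m' ∧
      U.map (Matrix.toLin' x) ≤ U ∧ W.map (Matrix.toLin' x) ≤ W := by
  classical
  have hr : r.Prime := Fact.out
  set T := Matrix.toLin' x with hTd
  have hT : ∀ v, (T ^ r) v = c • v := fun v => by
    rw [hTd, ← Matrix.toLin'_pow, hx, map_smul, Matrix.toLin'_one]; rfl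
  have hc0 : c ≠ 0 := by
    have h1 := congrArg Matrix.det hx
    rw [Matrix.det_pow, hdet, one_pow, Matrix.det_smul, Matrix.det_one, mul_one, Fintype.card_fin] at h1
    intro e
    rw [e, zero_pow hn.ne'] at h1
    exact one_ne_zero h1
  have hdegle : ∀ P : F[X], P.Monic → ∀ g : F[X], Irreducible g → g ∣ P → g.natDegree ≤ P.natDegree :=
    fun P hP g _ hg => Polynomial.natDegree_le_of_dvd hg hP.ne_zero
  have hmon : (X ^ r - C c).Monic := Polynomial.monic_X_pow_sub_C c hr.ne_zero
  have hev : aeval T (X ^ r - C c) = 0 := LinearMap.ext fun v => by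
    rw [map_sub, map_pow, aeval_X, aeval_C, LinearMap.sub_apply, Module.algebraMap_end_apply, hT, sub_self, LinearMap.zero_apply]
  by_cases hpow : ∃ a : F, a ^ r = c
  · obtain ⟨a, ha⟩ := hpow
    have ha0 : a ≠ 0 := fun e => hc0 (by rw [← ha, e, zero_pow hr.ne_zero])
    obtain ⟨zu, hzu⟩ := exists_prime_orderOf_dvd_card' (G := Fˣ) r (by
      rw [Nat.card_units, Nat.card_eq_fintype_card]; exact hr1)
    have hz : IsPrimitiveRoot (zu : F) r := by
      have := IsPrimitiveRoot.orderOf (zu : F)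
      rwa [orderOf_units, hzu] at this
    have hdeg : ∀ g : F[X], Irreducible g → g ∣ X ^ r - C c → g.natDegree ≤ 1 := fun g hg hgd => by
      rw [X_pow_sub_C_eq_prod hz hr.pos ha] at hgd
      obtain ⟨i, -, hi⟩ := hg.prime.dvd_finsetProd_iff _ |>.1 hgd
      exact (Polynomial.natDegree_le_of_dvd hi (X_sub_C_ne_zero _)).trans (Polynomial.natDegree_X_sub_C _).le
    obtain ⟨U, W, hUW, -, hU, hW, hUd, hWd⟩ := PrimeChains.exists_pair T _ hmon.ne_zero hev one_pos hdeg ⊤
      (fun _ _ => Submodule.mem_top) (fun _ _ _ => one_dvd _) hmm (by rw [one_mul, finrank_top, finrank_fin_fun]; exact hm')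
    exact ⟨U, W, hUW, by omega, by omega, by rintro _ ⟨v, hv, rfl⟩; exact hU v hv, by rintro _ ⟨v, hv, rfl⟩; exact hW v hv⟩
  · push Not at hpow
    have hdiv := PrimeChains.dvd_finrank_of_no_root T hr hc0 hT hpow
    obtain ⟨b, hb⟩ : r ∣ n := by
      have := hdiv ⊤ (fun _ _ => Submodule.mem_top)
      rwa [finrank_top, finrank_fin_fun] at this
    rcases hcond with ⟨⟨s, hs⟩, hm2⟩ | ⟨hv, hpar⟩
    · obtain ⟨s', hs'⟩ := hm2 ⟨b, hb⟩
      obtain ⟨U, W, hUW, -, hU, hW, hUd, hWd⟩ := PrimeChains.exists_pair T _ hmon.ne_zero hev hr.pos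
        (fun g hg hgd => (hdegle _ hmon g hg hgd).trans Polynomial.natDegree_X_pow_sub_C.le) ⊤
        (fun _ _ => Submodule.mem_top) (fun W _ hW => hdiv W hW) (b := s) (b' := s')
        (Nat.le_of_mul_le_mul_left (by omega : r * s ≤ r * s') hr.pos) (by rw [finrank_top, finrank_fin_fun]; omega)
      exact ⟨U, W, hUW, by omega, by omega, by rintro _ ⟨v, hv, rfl⟩; exact hU v hv, by rintro _ ⟨v, hv, rfl⟩; exact hW v hv⟩
    · exfalso
      have hdet' : ((-1 : F) ^ (r + 1) * c) ^ b = 1 := by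
        rw [← PrimeChains.det_eq hr hc0 hpow b T hT (by rw [finrank_fin_fun]; exact hb), hTd, LinearMap.det_toLin', hdet]
      obtain ⟨u, hu⟩ : ∃ u : F, u ^ r = (-1) ^ (r + 1) := by
        rcases hr.eq_two_or_odd' with rfl | ho
        · have h4 := hpar rfl (even_iff_two_dvd.2 ⟨b, hb⟩)
          obtain ⟨u, hu⟩ := (FiniteField.isSquare_neg_one_iff (F := F)).2 (by omega)
          exact ⟨u, by rw [pow_two, ← hu]; ring⟩
        · exact ⟨1, by rw [one_pow, Even.neg_one_pow (ho.add_odd odd_one)]⟩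
      set e := (-1 : F) ^ (r + 1) * c with hed
      have he0 : e ≠ 0 := mul_ne_zero (pow_ne_zero _ (neg_ne_zero.2 one_ne_zero)) hc0
      have hQ0 : Fintype.card F - 1 ≠ 0 := by have := Fintype.one_lt_card (α := F); omega
      set o := orderOf (Units.mk0 e he0) with ho'
      have hob : o ∣ b := orderOf_dvd_of_pow_eq_one (Units.ext (by rw [Units.val_pow_eq_pow_val]; exact hdet'))
      have hoQ : o ∣ Fintype.card F - 1 := by rw [← Fintype.card_units]; exact orderOf_dvd_card
      have hb0 : b ≠ 0 := fun e0 => by rw [e0, mul_zero] at hb; omega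
      have ho0 : o ≠ 0 := fun e0 => by rw [e0, zero_dvd_iff] at hob; exact hb0 hob
      have hvo : padicValNat r o < padicValNat r (Fintype.card F - 1) := by
        have h1 : padicValNat r n = 1 + padicValNat r b := by
          rw [hb, padicValNat.mul hr.ne_zero hb0, padicValNat.self hr.one_lt]
        have h2 : padicValNat r o ≤ padicValNat r b :=
          (padicValNat_dvd_iff_le hb0).1 (pow_padicValNat_dvd.trans hob)
        omega
      have hdvd : o * r ∣ Fintype.card F - 1 := by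
        obtain ⟨t, ht⟩ := hoQ
        refine ht ▸ Nat.mul_dvd_mul_left o (by
          by_contra hrt
          rw [ht, padicValNat.mul ho0 (fun e0 => by rw [ht, e0, mul_zero] at hQ0; exact hQ0 rfl),
            padicValNat.eq_zero_of_not_dvd hrt] at hvo
          omega)
      obtain ⟨a, ha⟩ : ∃ a : Fˣ, a ^ r = Units.mk0 e he0 := by
        obtain ⟨g, hg⟩ := IsCyclic.exists_generator (α := Fˣ)
        obtain ⟨k, hk⟩ := Subgroup.mem_zpowers_iff.1 (hg (Units.mk0 e he0))
        have hgo : orderOf g = Fintype.card F - 1 := by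
          rw [orderOf_eq_card_of_forall_mem_zpowers hg, Nat.card_units, Nat.card_eq_fintype_card]
        have h1 : g ^ (k * (o : ℤ)) = 1 := by rw [zpow_mul, hk, zpow_natCast, ho', pow_orderOf_eq_one]
        rw [← orderOf_dvd_iff_zpow_eq_one, hgo] at h1
        have h2 : ((o * r : ℕ) : ℤ) ∣ k * o := (Int.natCast_dvd_natCast.2 hdvd).trans h1
        obtain ⟨l, hl⟩ := h2
        refine ⟨g ^ l, ?_⟩
        rw [← hk, ← zpow_natCast, ← zpow_mul]
        congr 1
        refine mul_right_cancel₀ (show (o : ℤ) ≠ 0 by exact_mod_cast ho0) ?_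
        rw [hl]; push_cast; ring
      refine hpow ((a : F) / u) ?_
      rw [div_pow, hu, ← Units.val_pow_eq_pow_val, ha, Units.val_mk0, hed, mul_div_assoc,
        mul_comm, div_mul_cancel₀]
      exact pow_ne_zero _ (neg_ne_zero.2 one_ne_zero)

/-- The dimensions of invariant subspaces when `r ∤ q - 1`. -/
theorem moving_chain {n : ℕ} (x : Matrix (Fin n) (Fin n) F) (hrF : (r : F) ≠ 0) (hr1 : ¬ r ∣ Fintype.card F - 1)
    {c : F} (hx : x ^ r = c • 1) (hc : c ≠ 0) :
    ∃ k, orderOf (Fintype.card F : ZMod r) * k ≤ n ∧ ∀ b b' a a' : ℕ, b ≤ b' → b' ≤ k → a ≤ a' →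
      a' ≤ n - orderOf (Fintype.card F : ZMod r) * k →
      ∃ U W : Submodule F (Fin n → F), U ≤ W ∧ finrank F U = a + orderOf (Fintype.card F : ZMod r) * b ∧
        finrank F W = a' + orderOf (Fintype.card F : ZMod r) * b' ∧
        U.map (Matrix.toLin' x) ≤ U ∧ W.map (Matrix.toLin' x) ≤ W := by
  classical
  have hr : r.Prime := Fact.out
  set i := orderOf (Fintype.card F : ZMod r) with hid
  have hqr : (Fintype.card F : ZMod r) ≠ 0 := fun h => by
    rw [ZMod.natCast_eq_zero_iff] at h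
    obtain ⟨s, hsp, hs⟩ := FiniteField.card F (ringChar F)
    haveI : Fact (ringChar F).Prime := ⟨hsp⟩
    rw [hs] at h
    refine hrF ?_
    rw [(Nat.prime_dvd_prime_iff_eq hr hsp).1 (hr.dvd_of_dvd_pow h)]
    exact CharP.cast_eq_zero F _
  have hi0 : 0 < i := (isOfFinOrder_iff_pow_eq_one.2 ⟨r - 1, by have := hr.two_le; omega, ZMod.pow_card_sub_one_eq_one hqr⟩).orderOf_pos
  have hri : r ∣ Fintype.card F ^ i - 1 := by
    rw [← ZMod.natCast_eq_zero_iff, Nat.cast_sub (Nat.one_le_pow i _ Fintype.card_pos), Nat.cast_pow, Nat.cast_one, hid,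
      pow_orderOf_eq_one, sub_self]
  have hcop : (Nat.card Fˣ).Coprime r := by
    rw [Nat.card_units, Nat.card_eq_fintype_card, Nat.coprime_comm, hr.coprime_iff_not_dvd]; exact hr1
  obtain ⟨a, ha⟩ : ∃ a : Fˣ, a ^ r = Units.mk0 c hc := ⟨(powCoprime hcop).symm (Units.mk0 c hc), (powCoprime hcop).apply_symm_apply _⟩
  have hac : (a : F) ^ r = c := by rw [← Units.val_pow_eq_pow_val, ha]; rfl
  let T := Matrix.toLin' x
  let y : (Fin n → F) →ₗ[F] (Fin n → F) := (a : F)⁻¹ • T
  have hy : y ^ r = 1 := by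
    rw [_root_.smul_pow, ← Matrix.toLin'_pow, hx, map_smul, Matrix.toLin'_one, smul_smul, inv_pow, hac, inv_mul_cancel₀ hc, one_smul]
    rfl
  have hTy : ∀ v, T v = (a : F) • y v := fun v => by simp [y, smul_smul]
  obtain ⟨hR, hdiv, hdim, -, hdisj⟩ := parts r hrF y hy
  rw [finrank_fin_fun] at hdim
  set R := LinearMap.range (y - 1) with hRd
  set K := LinearMap.ker (y - 1) with hKd
  obtain ⟨k, hk⟩ := hdiv R le_rfl hR
  rw [← hid] at hk
  refine ⟨k, by omega, fun b b' a₀ a₁ hbb hb' haa ha₁ => ?_⟩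
  have hev : aeval y (X ^ r - 1 : F[X]) = 0 := by rw [map_sub, map_pow, aeval_X, map_one, hy, sub_self]
  have hne : (X ^ r - 1 : F[X]) ≠ 0 := fun h => (Polynomial.monic_X_pow_sub_C (1 : F) hr.ne_zero).ne_zero (by rwa [map_one])
  obtain ⟨U₁, W₁, hUW, hWR, hU, hW, hUd, hWd⟩ := PrimeChains.exists_pair y _ hne hev hi0
    (fun g hg hgd => PrimeChains.deg_le hi0 hri g hg hgd) R hR (fun W h1 h2 => hdiv W h1 h2) hbb
    (hk ▸ Nat.mul_le_mul_left i hb')
  obtain ⟨U₀, W₀, hUW₀, hW₀K, hU₀d, hW₀d⟩ : ∃ U₀ W₀ : Submodule F (Fin n → F), U₀ ≤ W₀ ∧ W₀ ≤ K ∧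
      finrank F U₀ = a₀ ∧ finrank F W₀ = a₁ := by
    have hfix : ∀ v ∈ K, y v = v := fun v hv => by
      rw [hKd, LinearMap.mem_ker, LinearMap.sub_apply, Module.End.one_apply, sub_eq_zero] at hv
      exact hv
    obtain ⟨b', hb'⟩ := exists_linearIndependent_of_le_finrank (R := F) (M := K) (n := a₁) (by omega)
    refine ⟨Submodule.span F (Set.range fun j : Fin a₀ => (b' (Fin.castLE haa j) : Fin n → F)),
      Submodule.span F (Set.range fun j : Fin a₁ => (b' j : Fin n → F)), Submodule.span_mono (by rintro _ ⟨j, rfl⟩; exact ⟨_, rfl⟩),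
      Submodule.span_le.2 (by rintro _ ⟨j, rfl⟩; exact (b' j).2), ?_, ?_⟩
    · exact (finrank_span_eq_card ((hb'.comp _ (Fin.castLE_injective haa)).map' K.subtype K.ker_subtype)).trans (Fintype.card_fin _)
    · exact (finrank_span_eq_card (hb'.map' K.subtype K.ker_subtype)).trans (Fintype.card_fin _)
  have hmap : ∀ (A B : Submodule F (Fin n → F)), A ≤ K → (∀ v ∈ B, y v ∈ B) → (A ⊔ B).map T ≤ A ⊔ B := by
    rintro A B hA hB _ ⟨v, hv, rfl⟩
    obtain ⟨v₀, h₀, v₁, h₁, rfl⟩ := Submodule.mem_sup.1 hv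
    have h2 : y v₀ = v₀ := by
      have := hA h₀
      rw [hKd, LinearMap.mem_ker, LinearMap.sub_apply, Module.End.one_apply, sub_eq_zero] at this
      exact this
    rw [hTy, map_add, h2]
    exact Submodule.smul_mem _ _ (Submodule.add_mem _ (Submodule.mem_sup_left h₀) (Submodule.mem_sup_right (hB v₁ h₁)))
  have hsum : ∀ (A B : Submodule F (Fin n → F)), A ≤ K → B ≤ R → finrank F ↥(A ⊔ B) = finrank F A + finrank F B := fun A B hA hB => by
    have := Submodule.finrank_sup_add_finrank_inf_eq A B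
    rw [(hdisj.mono hA hB).eq_bot, finrank_bot, add_zero] at this
    exact this
  refine ⟨U₀ ⊔ U₁, W₀ ⊔ W₁, sup_le_sup hUW₀ hUW, ?_, ?_, hmap _ _ (hUW₀.trans hW₀K) hU, hmap _ _ hW₀K hW⟩
  · rw [hsum _ _ (hUW₀.trans hW₀K) (hUW.trans hWR), hU₀d, hUd]
  · rw [hsum _ _ hW₀K hWR, hW₀d, hWd]

end Cfsg.Agent.Classical.PrimeSubspaces
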