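import Cfsg.Agent.Lib.Classical.Linear

/-!
Triples of points on the projective line.
-/

set_option autoImplicit false

open scoped LinearAlgebra.Projectivization MatrixGroups
open Matrix

namespace Cfsg.Agent.Classical.ProjLine

variable {F : Type*} [Field F]

local notation "M2" => Matrix (Fin 2) (Fin 2) F

/-- The three standard vectors. -/
def stdVec : Fin 3 → (Fin 2 → F) := ![![1, 0], ![0, 1], ![1, 1]]

theorem stdVec_ne (i : Fin 3) : stdVec (F := F) i ≠ 0 := by
  intro h
  have h0 := congrFun h 0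
  have h1 := congrFun h 1
  fin_cases i <;> simp [stdVec] at h0 h1

theorem mulVec_ne {A : M2} (hA : A.det ≠ 0) {v : Fin 2 → F} (hv : v ≠ 0) : A *ᵥ v ≠ 0 := fun h => by
  have h2 := congrArg (A.adjugate *ᵥ ·) h
  simp only [mulVec_mulVec, adjugate_mul, mulVec_zero, smul_mulVec, one_mulVec] at h2
  exact hv (by simpa [hA] using h2)

/-- A matrix taking the standard triple to a given triple of distinct points. -/
theorem exists_mat (x : Fin 3 ↪ ℙ F (Fin 2 → F)) : ∃ (A : M2) (hA : A.det ≠ 0),
    ∀ i, Projectivization.mk F (A *ᵥ stdVec i) (mulVec_ne hA (stdVec_ne i)) = x i := by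
  have hne : ∀ i j, i ≠ j → ∀ t : F, t • (x j).rep ≠ (x i).rep := fun i j hij t e => hij (x.injective (by
    rw [← (x i).mk_rep, ← (x j).mk_rep, Projectivization.mk_eq_mk_iff']; exact ⟨t, e⟩))
  have hpair : ∀ i j, i ≠ j → (x i).rep 0 * (x j).rep 1 - (x i).rep 1 * (x j).rep 0 ≠ 0 := by
    intro i j hij h
    have hj := (x j).rep_nonzero
    by_cases h0 : (x j).rep 0 = 0
    · have h1 : (x j).rep 1 ≠ 0 := fun h1 => hj (by ext k; fin_cases k <;> simp [h0, h1])
      refine hne i j hij ((x i).rep 1 / (x j).rep 1) ?_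
      rw [h0, mul_zero, sub_zero] at h
      have hi : (x i).rep 0 = 0 := (mul_eq_zero.1 h).resolve_right h1
      ext k; fin_cases k <;> simp [h0, h1, hi]
    · refine hne i j hij ((x i).rep 0 / (x j).rep 0) ?_
      ext k; fin_cases k <;> simp <;> field_simp
      linear_combination h
  set a := (x 0).rep with ha
  set b := (x 1).rep with hb
  set c := (x 2).rep with hc
  have hD := hpair 0 1 (by decide)
  set s := (c 0 * b 1 - c 1 * b 0) / (a 0 * b 1 - a 1 * b 0) with hs
  set t := (a 0 * c 1 - a 1 * c 0) / (a 0 * b 1 - a 1 * b 0) with ht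
  have hs0 : s ≠ 0 := div_ne_zero (hpair 2 1 (by decide)) hD
  have ht0 : t ≠ 0 := div_ne_zero (hpair 0 2 (by decide)) hD
  refine ⟨!![s * a 0, t * b 0; s * a 1, t * b 1], ?_, fun i => ?_⟩
  · rw [det_fin_two_of]
    intro h
    have : s * t * (a 0 * b 1 - a 1 * b 0) = 0 := by linear_combination h
    simp [hs0, ht0] at this
    exact hD this
  · conv_rhs => rw [← (x i).mk_rep]
    rw [Projectivization.mk_eq_mk_iff']
    fin_cases i
    · exact ⟨s, by ext k; fin_cases k <;> simp [stdVec, ha, mulVec, dotProduct, Fin.sum_univ_two]⟩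
    · exact ⟨t, by ext k; fin_cases k <;> simp [stdVec, hb, mulVec, dotProduct, Fin.sum_univ_two]⟩
    · refine ⟨1, ?_⟩
      have hD' : a 0 * b 1 - a 1 * b 0 ≠ 0 := hD
      have key : ∀ k, s * a k + t * b k = c k := fun k => by
        rw [hs, ht, div_mul_eq_mul_div, div_mul_eq_mul_div, ← add_div, div_eq_iff hD']
        fin_cases k <;> simp <;> ring
      clear_value s t
      ext k; fin_cases k <;>
        simp [stdVec, mulVec, dotProduct, Fin.sum_univ_two, ← hc, key]

/-- A matrix fixing the three standard points is scalar. -/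
theorem scalar_of_fix (A : M2) (h : ∀ i, ∃ l : F, l • stdVec i = A *ᵥ stdVec i) :
    ∃ l : F, A = l • 1 := by
  obtain ⟨l, h0⟩ := h 0
  obtain ⟨m, h1⟩ := h 1
  obtain ⟨n, h2⟩ := h 2
  have e00 := congrFun h0 0
  have e01 := congrFun h0 1
  have e10 := congrFun h1 0
  have e11 := congrFun h1 1
  have e20 := congrFun h2 0
  have e21 := congrFun h2 1
  simp [stdVec, mulVec, dotProduct, Fin.sum_univ_two] at e00 e01 e10 e11 e20 e21
  refine ⟨l, ?_⟩
  ext i j
  fin_cases i <;> fin_cases j <;> simp
  · exact e00.symm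
  · exact e10.symm
  · exact e01.symm
  · linear_combination -e21 + e20 + e01 - e00 - e10

/-- Transitivity on triples from transitivity from the standard triple. -/
theorem three_transitive {G : Type*} [Group G] [MulAction G (ℙ F (Fin 2 → F))]
    (h : ∀ x : Fin 3 ↪ ℙ F (Fin 2 → F), ∃ g : G, ∀ i,
      g • Projectivization.mk F (stdVec i) (stdVec_ne i) = x i) :
    MulAction.IsMultiplyPretransitive G (ℙ F (Fin 2 → F)) 3 := by
  rw [MulAction.isMultiplyPretransitive_iff]
  intro x y
  obtain ⟨g, hg⟩ := h x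
  obtain ⟨k, hk⟩ := h y
  refine ⟨k * g⁻¹, ?_⟩
  ext i
  show (k * g⁻¹) • x i = y i
  rw [← hg i, mul_smul, inv_smul_smul, hk i]

end Cfsg.Agent.Classical.ProjLine
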