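import Cfsg.Prelude.Def_GeometricClasses

/-!
Involutions and quadratic field structures.
-/

set_option autoImplicit false
set_option linter.unusedSectionVars false
set_option maxHeartbeats 800000

open Module Matrix

namespace Cfsg.Agent.Classical.QuadExtInvol

variable {F : Type*} [Field F] [Fintype F] {n : ℕ}

/-- A basis of pairs for an endomorphism killed by an irreducible quadratic. -/
theorem pairs {V : Type*} [AddCommGroup V] [Module F V] [FiniteDimensional F V] (J : V →ₗ[F] V) (α β : F)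
    (hJ : ∀ v, J (J v) = α • J v + β • v) (hirr : ∀ c : F, c * c ≠ α * c + β) :
    ∃ (r : ℕ) (b : Basis (Fin 2 × Fin r) F V), ∀ i, J (b (0, i)) = b (1, i) := by
  suffices key : ∀ m, ∃ s, s ≤ m ∧ ∃ v : Fin s → V,
      LinearIndependent F (fun p : Fin 2 × Fin s => ![v p.2, J (v p.2)] p.1) ∧
        (s = m ∨ Submodule.span F (Set.range fun p : Fin 2 × Fin s => ![v p.2, J (v p.2)] p.1) = ⊤) by
    obtain ⟨s, -, v, hv, h⟩ := key (finrank F V + 1)
    have hle := hv.fintype_card_le_finrank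
    simp only [Fintype.card_prod, Fintype.card_fin] at hle
    have htop := h.resolve_left (by omega)
    exact ⟨s, Basis.mk hv htop.ge, fun i => by simp⟩
  intro m
  induction m with
  | zero => exact ⟨0, le_rfl, Fin.elim0, linearIndependent_empty_type, Or.inl rfl⟩
  | succ m ih =>
    obtain ⟨s, hs, v, hv, h⟩ := ih
    rcases h with rfl | h
    swap
    · exact ⟨s, by omega, v, hv, Or.inr h⟩
    set f := fun p : Fin 2 × Fin s => ![v p.2, J (v p.2)] p.1 with hf
    rcases eq_or_ne (Submodule.span F (Set.range f)) ⊤ with h | h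
    · exact ⟨s, by omega, v, hv, Or.inr h⟩
    set W := Submodule.span F (Set.range f) with hW
    obtain ⟨w, -, hw⟩ := SetLike.exists_of_lt (lt_top_iff_ne_top.2 h)
    have hWJ : ∀ y ∈ W, J y ∈ W := fun y hy => by
      refine (Submodule.map_span_le J _ W).2 ?_ ⟨y, hy, rfl⟩
      rintro _ ⟨⟨a, i⟩, rfl⟩
      fin_cases a
      · exact Submodule.subset_span ⟨(1, i), rfl⟩
      · show J (J (v i)) ∈ W
        rw [hJ]
        exact W.add_mem (W.smul_mem _ (Submodule.subset_span ⟨(1, i), rfl⟩)) (W.smul_mem _ (Submodule.subset_span ⟨(0, i), rfl⟩))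
    have hind : ∀ a b : F, a • w + b • J w ∈ W → a = 0 ∧ b = 0 := by
      intro a b hab
      by_cases hb : b = 0
      · subst hb
        rw [zero_smul, add_zero] at hab
        exact ⟨by_contra fun ha => hw (by simpa [ha] using W.smul_mem a⁻¹ hab), rfl⟩
      exfalso
      have h1 : J w + (a / b) • w ∈ W := by
        have h0 := W.smul_mem b⁻¹ hab
        rwa [smul_add, smul_smul, smul_smul, inv_mul_cancel₀ hb, one_smul, add_comm, mul_comm, ← div_eq_mul_inv] at h0
      have h2 := hWJ _ h1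
      rw [map_add, map_smul, hJ] at h2
      have h3 := W.sub_mem h2 (W.smul_mem (α + a / b) h1)
      rw [show α • J w + β • w + (a / b) • J w - (α + a / b) • (J w + (a / b) • w) =
        (β + α * (-(a / b)) - (-(a / b)) * (-(a / b))) • w by module] at h3
      have h4 : β + α * (-(a / b)) - (-(a / b)) * (-(a / b)) ≠ 0 := fun e => hirr (-(a / b)) (by linear_combination -e)
      have h5 := W.smul_mem (β + α * (-(a / b)) - (-(a / b)) * (-(a / b)))⁻¹ h3
      rw [smul_smul, inv_mul_cancel₀ h4, one_smul] at h5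
      exact hw h5
    refine ⟨s + 1, le_rfl, Fin.cons w v, ?_, Or.inl rfl⟩
    rw [Fintype.linearIndependent_iff]
    intro g hg
    rw [Fintype.sum_prod_type, Fin.sum_univ_two, Fin.sum_univ_succ, Fin.sum_univ_succ] at hg
    simp only [Matrix.cons_val_zero, Matrix.cons_val_one, Fin.cons_zero, Fin.cons_succ] at hg
    have hmem : g (0, 0) • w + g (1, 0) • J w ∈ W := by
      have : g (0, 0) • w + g (1, 0) • J w =
          -((∑ i : Fin s, g (0, i.succ) • v i) + ∑ i : Fin s, g (1, i.succ) • J (v i)) := by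
        rw [eq_neg_iff_add_eq_zero, ← hg]; abel
      rw [this]
      exact W.neg_mem (W.add_mem (W.sum_mem fun i _ => W.smul_mem _ (Submodule.subset_span ⟨(0, i), rfl⟩))
        (W.sum_mem fun i _ => W.smul_mem _ (Submodule.subset_span ⟨(1, i), rfl⟩)))
    obtain ⟨e0, e1⟩ := hind _ _ hmem
    rw [e0, e1, zero_smul, zero_smul, zero_add, zero_add] at hg
    have hrest := Fintype.linearIndependent_iff.1 hv (fun p => g (p.1, p.2.succ)) (by
      simp only [Fintype.sum_prod_type, Fin.sum_univ_two, hf, Matrix.cons_val_zero, Matrix.cons_val_one]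
      exact hg)
    rintro ⟨a, i⟩
    refine Fin.cases ?_ (fun i => hrest (a, i)) i
    fin_cases a
    exacts [e0, e1]

/-- Two such endomorphisms are conjugate in the special linear group. -/
theorem exists_intertwine (J J' : Matrix (Fin n) (Fin n) F) (α β : F)
    (hJ : J * J = α • J + β • 1) (hJ' : J' * J' = α • J' + β • 1) (hirr : ∀ c : F, c * c ≠ α * c + β) (hn : 0 < n)
    (hnorm : ∀ r : F, r ≠ 0 → ∃ a b : F, a * a + α * (a * b) - β * (b * b) = r) :
    ∃ P : Matrix.SpecialLinearGroup (Fin n) F, (P : Matrix (Fin n) (Fin n) F) * J = J' * (P : Matrix (Fin n) (Fin n) F) := by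
  classical
  have hlin : ∀ A : Matrix (Fin n) (Fin n) F, A * A = α • A + β • 1 →
      ∀ v, Matrix.toLin' A (Matrix.toLin' A v) = α • Matrix.toLin' A v + β • v := fun A hA v => by
    rw [← LinearMap.comp_apply, ← Matrix.toLin'_mul, hA]; simp
  obtain ⟨r, b, hb⟩ := pairs (Matrix.toLin' J) α β (hlin J hJ) hirr
  obtain ⟨r', b', hb'⟩ := pairs (Matrix.toLin' J') α β (hlin J' hJ') hirr
  have hr : r = r' := by
    have h1 := Module.finrank_eq_card_basis b
    have h2 := Module.finrank_eq_card_basis b'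
    simp at h1 h2
    omega
  subst hr
  have hr0 : 0 < r := by
    have h1 := Module.finrank_eq_card_basis b
    simp at h1
    omega
  have hb2 : ∀ i, Matrix.toLin' J (b (1, i)) = α • b (1, i) + β • b (0, i) := fun i => by
    rw [← hb, hlin J hJ]
  have hb2' : ∀ i, Matrix.toLin' J' (b' (1, i)) = α • b' (1, i) + β • b' (0, i) := fun i => by
    rw [← hb', hlin J' hJ']
  let E := b.equiv b' (Equiv.refl _)
  have hE : LinearMap.det (E : (Fin n → F) →ₗ[F] (Fin n → F)) ≠ 0 := E.isUnit_det'.ne_zero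
  obtain ⟨a₀, c₀, hac⟩ := hnorm _ (inv_ne_zero hE)
  let Bk : Fin r → Matrix (Fin 2) (Fin 2) F := Function.update 1 ⟨0, hr0⟩ !![a₀, β * c₀; c₀, a₀ + α * c₀]
  let h : (Fin n → F) →ₗ[F] (Fin n → F) := Matrix.toLin b b (Matrix.blockDiagonal Bk)
  have hdet : LinearMap.det h = (LinearMap.det (E : (Fin n → F) →ₗ[F] (Fin n → F)))⁻¹ := by
    rw [← LinearMap.det_toMatrix b, LinearMap.toMatrix_toLin, Matrix.det_blockDiagonal,
      Finset.prod_eq_single ⟨0, hr0⟩ (fun i _ hi => by simp [Bk, hi]) (by simp)]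
    simp only [Bk, Function.update_self, Matrix.det_fin_two_of]
    rw [← hac]; ring
  have hh : ∀ a i, h (b (a, i)) = Bk i 0 a • b (0, i) + Bk i 1 a • b (1, i) := fun a i => by
    rw [Matrix.toLin_self, Fintype.sum_prod_type, Fin.sum_univ_two]
    congr 1 <;>
      exact (Finset.sum_eq_single i (fun k _ hk => by simp [Matrix.blockDiagonal_apply_ne _ _ _ hk]) (by simp)).trans
        (by simp [Matrix.blockDiagonal_apply_eq])
  have hBk : ∀ i, Bk i 0 1 = β * Bk i 1 0 ∧ Bk i 1 1 = Bk i 0 0 + α * Bk i 1 0 := fun i => by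
    rcases eq_or_ne i ⟨0, hr0⟩ with rfl | hi
    · simp [Bk]
    · simp [Bk, hi]
  let G : (Fin n → F) →ₗ[F] (Fin n → F) := (E : (Fin n → F) →ₗ[F] (Fin n → F)) ∘ₗ h
  have hG : G ∘ₗ Matrix.toLin' J = Matrix.toLin' J' ∘ₗ G := b.ext fun p => by
    obtain ⟨a, i⟩ := p
    obtain ⟨e1, e2⟩ := hBk i
    fin_cases a
    · simp [G, E, -Matrix.toLin'_apply, hb, hh, hb', hb2', e1, e2]
      module
    · simp [G, E, -Matrix.toLin'_apply, hb2, hh, hb', hb2', e1, e2]
      module
  refine ⟨⟨LinearMap.toMatrix' G, ?_⟩, ?_⟩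
  · rw [LinearMap.det_toMatrix', LinearMap.det_comp, hdet, mul_inv_cancel₀ hE]
  · show LinearMap.toMatrix' G * J = J' * LinearMap.toMatrix' G
    clear_value G
    have := congrArg LinearMap.toMatrix' hG
    rwa [LinearMap.toMatrix'_comp, LinearMap.toMatrix'_comp, LinearMap.toMatrix'_toLin', LinearMap.toMatrix'_toLin'] at this

theorem generator (K : Subalgebra F (Matrix (Fin n) (Fin n) F)) (hK : Cfsg.Geo.IsFieldSubalgebra 2 K) (hn : 0 < n) :
    ∃ (k : Matrix (Fin n) (Fin n) F) (α β : F), k ∈ K ∧ k * k = α • k + β • 1 ∧ (∀ c : F, c * c ≠ α * c + β) ∧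
      (∀ c : F, k ≠ c • 1) ∧ ∀ y ∈ K, ∃ r s : F, y = r • k + s • 1 := by
  classical
  haveI : Nonempty (Fin n) := ⟨⟨0, hn⟩⟩
  obtain ⟨k, hk, hne⟩ : ∃ k ∈ K, ∀ c : F, k ≠ c • (1 : Matrix (Fin n) (Fin n) F) := by
    by_contra h
    push Not at h
    have hle : Subalgebra.toSubmodule K ≤ Submodule.span F {(1 : Matrix (Fin n) (Fin n) F)} := fun y hy => by
      obtain ⟨c, hc⟩ := h y hy
      exact Submodule.mem_span_singleton.2 ⟨c, hc.symm⟩
    have h1 := (Submodule.finrank_mono hle).trans (finrank_span_le_card ({(1 : Matrix (Fin n) (Fin n) F)} : Set _))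
    rw [Subalgebra.finrank_toSubmodule, hK.finrank_eq] at h1
    simp at h1
  have hli : LinearIndependent F ![k, 1] := by
    refine LinearIndependent.pair_iff.2 fun r s h => ?_
    by_cases hr : r = 0
    · subst hr
      rw [zero_smul, zero_add, smul_eq_zero] at h
      exact ⟨rfl, h.resolve_right one_ne_zero⟩
    · exact absurd (by
        rw [← smul_right_injective _ hr |>.eq_iff, smul_smul]
        rw [eq_neg_of_add_eq_zero_left h, ← neg_smul]
        congr 1
        field_simp) (hne (-s / r))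
  have hspan : Submodule.span F (Set.range ![k, 1]) = Subalgebra.toSubmodule K := by
    refine Submodule.eq_of_le_of_finrank_eq (Submodule.span_le.2 ?_) ?_
    · rintro _ ⟨i, rfl⟩
      fin_cases i
      exacts [hk, K.one_mem]
    · rw [finrank_span_eq_card hli, Subalgebra.finrank_toSubmodule, hK.finrank_eq, Fintype.card_fin]
  have hall : ∀ y ∈ K, ∃ r s : F, y = r • k + s • 1 := fun y hy => by
    have hy' : y ∈ Submodule.span F (Set.range ![k, 1]) := hspan ▸ hy
    rw [Matrix.range_cons_cons_empty] at hy'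
    obtain ⟨r, s, h⟩ := Submodule.mem_span_pair.1 hy'
    exact ⟨r, s, h.symm⟩
  obtain ⟨α, β, hkk⟩ := hall _ (K.mul_mem hk hk)
  refine ⟨k, α, β, hk, hkk, fun c hc => ?_, hne, hall⟩
  have h1 : (k - c • 1) * (k - (α - c) • 1) = 0 := by
    simp only [sub_mul, mul_sub, Matrix.smul_mul, Matrix.mul_smul, one_mul, mul_one, hkk, smul_smul]
    rw [show α * c - c * c = -β by linear_combination -hc]
    module
  obtain ⟨y, -, hy⟩ := hK.inv _ (K.sub_mem hk (K.smul_mem K.one_mem c)) (sub_ne_zero.2 (hne c))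
  have h2 : y * (k - c • 1) = 1 := mul_eq_one_comm.1 hy
  have h3 := congrArg (fun M => y * M) h1
  simp only [← mul_assoc, h2, one_mul, mul_zero] at h3
  exact hne _ (sub_eq_zero.1 h3)

/-- Conjugating the generator into the field normalises the field. -/
theorem conj_mem {K : Subalgebra F (Matrix (Fin n) (Fin n) F)} {k : Matrix (Fin n) (Fin n) F} (hk : k ∈ K)
    (hall : ∀ y ∈ K, ∃ r s : F, y = r • k + s • 1) (g : GL (Fin n) F)
    (hg : (g : Matrix (Fin n) (Fin n) F) * k * ((g⁻¹ : GL (Fin n) F) : Matrix (Fin n) (Fin n) F) ∈ K) :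
    g ∈ Cfsg.Geo.subalgebraNormalizer K := by
  classical
  have h1 : ∀ y ∈ K, (g : Matrix (Fin n) (Fin n) F) * y * ((g⁻¹ : GL (Fin n) F) : Matrix (Fin n) (Fin n) F) ∈ K := fun y hy => by
    obtain ⟨r, s, rfl⟩ := hall y hy
    simp only [mul_add, add_mul, Matrix.mul_smul, Matrix.smul_mul, mul_one, Units.mul_inv]
    exact K.add_mem (K.smul_mem hg r) (K.smul_mem K.one_mem s)
  let φ : K → K := fun y => ⟨_, h1 y y.2⟩
  have hφ : Function.Injective φ := fun a b e => by
    have := congrArg Subtype.val e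
    exact Subtype.ext ((Units.mul_right_inj g).1 ((Units.mul_left_inj g⁻¹).1 this))
  intro y
  refine ⟨h1 y, fun hy => ?_⟩
  obtain ⟨y', hy'⟩ := Finite.injective_iff_surjective.1 hφ ⟨_, hy⟩
  have := congrArg Subtype.val hy'
  rw [← (Units.mul_right_inj g).1 ((Units.mul_left_inj g⁻¹).1 this)]
  exact y'.2

/-- No member of the normaliser is a scalar plus a map of rank one. -/
theorem rank_one_not_mem {K : Subalgebra F (Matrix (Fin n) (Fin n) F)} (hK : Cfsg.Geo.IsFieldSubalgebra 2 K)
    (hn : 3 ≤ n) {g : GL (Fin n) F} (hg : g ∈ Cfsg.Geo.subalgebraNormalizer K) (l : F)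
    (hr : finrank F (LinearMap.range (Matrix.toLin' ((g : Matrix (Fin n) (Fin n) F) - l • 1))) = 1) : False := by
  classical
  obtain ⟨k, α, β, hk, hkk, hirr, hne, hall⟩ := generator K hK (by omega)
  set N := Matrix.toLin' ((g : Matrix (Fin n) (Fin n) F) - l • 1) with hN
  set k' := (g : Matrix (Fin n) (Fin n) F) * k * ((g⁻¹ : GL (Fin n) F) : Matrix (Fin n) (Fin n) F) with hk'
  have hk'K : k' ∈ K := (hg k).1 hk
  have hinj : ∀ y ∈ K, y ≠ 0 → Function.Injective (Matrix.toLin' y) := fun y hy hy0 => by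
    obtain ⟨z, -, hz⟩ := hK.inv y hy hy0
    exact Function.LeftInverse.injective (g := Matrix.toLin' z) fun v => by
      rw [← LinearMap.comp_apply, ← Matrix.toLin'_mul, mul_eq_one_comm.1 hz, Matrix.toLin'_one, LinearMap.id_apply]
  have hid : ∀ v, N (k *ᵥ v) = k' *ᵥ N v + (l • (k' - k)) *ᵥ v := fun v => by
    simp only [hN, Matrix.toLin'_apply, Matrix.mulVec_mulVec, ← Matrix.add_mulVec]
    congr 1
    rw [hk', sub_mul, mul_sub, mul_assoc _ _ (g : Matrix (Fin n) (Fin n) F), Units.inv_mul, mul_one]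
    simp only [Matrix.smul_mul, Matrix.mul_smul, one_mul, mul_one, smul_sub]
    abel
  obtain ⟨v₀, hv₀⟩ : ∃ v, N v ≠ 0 := by
    by_contra h
    push Not at h
    rw [show N = 0 from LinearMap.ext h, LinearMap.range_zero, finrank_bot] at hr
    exact zero_ne_one hr
  have hl : l ≠ 0 := by
    rintro rfl
    rw [hN, zero_smul, sub_zero] at hr
    have h1 : Function.Surjective (Matrix.toLin' (g : Matrix (Fin n) (Fin n) F)) := fun v =>
      ⟨((g⁻¹ : GL (Fin n) F) : Matrix (Fin n) (Fin n) F) *ᵥ v, by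
        rw [Matrix.toLin'_apply, Matrix.mulVec_mulVec, Units.mul_inv, Matrix.one_mulVec]⟩
    rw [LinearMap.range_eq_top.2 h1, finrank_top, Module.finrank_pi, Fintype.card_fin] at hr
    omega
  have hker := LinearMap.finrank_range_add_finrank_ker N
  rw [hr, Module.finrank_pi, Fintype.card_fin] at hker
  by_cases hkk' : k' = k
  · have hR : ∀ w ∈ LinearMap.range N, k *ᵥ w ∈ LinearMap.range N := by
      rintro _ ⟨v, rfl⟩
      exact ⟨k *ᵥ v, by rw [hid, hkk', sub_self, smul_zero, Matrix.zero_mulVec, add_zero]⟩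
    obtain ⟨c, hc⟩ := (finrank_eq_one_iff_of_nonzero' (⟨N v₀, v₀, rfl⟩ : LinearMap.range N)
      (fun e => hv₀ (congrArg Subtype.val e))).1 hr ⟨_, hR _ ⟨v₀, rfl⟩⟩
    have h0 : k - c • 1 ≠ 0 := sub_ne_zero.2 (hne c)
    refine hv₀ (hinj _ (K.sub_mem hk (K.smul_mem K.one_mem c)) h0 ?_)
    rw [map_zero, Matrix.toLin'_apply, Matrix.sub_mulVec, Matrix.smul_mulVec, Matrix.one_mulVec]
    exact sub_eq_zero.2 (congrArg Subtype.val hc).symm
  · have h0 : l • (k' - k) ≠ 0 := smul_ne_zero hl (sub_ne_zero.2 hkk')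
    let D := (Matrix.toLin' (l • (k' - k))).domRestrict (LinearMap.ker N)
    have hD : ∀ v : LinearMap.ker N, D v ∈ LinearMap.range N := fun v => ⟨k *ᵥ (v : Fin n → F), by
      rw [hid, LinearMap.mem_ker.1 v.2, Matrix.mulVec_zero, zero_add]
      simp [D, Matrix.sub_mulVec, Matrix.smul_mulVec, smul_sub]⟩
    have := LinearMap.finrank_le_finrank_of_injective (f := D.codRestrict _ hD) fun v w e =>
      Subtype.ext (hinj _ (K.smul_mem (K.sub_mem hk'K hk) l) h0 (congrArg Subtype.val e))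
    omega

end Cfsg.Agent.Classical.QuadExtInvol
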