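import Cfsg.Agent.Lib.Classical.OmegaTrans
import Cfsg.Agent.Lib.Classical.OrthClasses
import Cfsg.Prelude.Def_FischerSpaces

set_option autoImplicit false
open Matrix QuadraticMap Module

namespace Cfsg.Agent.Lib.ReflectionIndexTwo

open Cfsg.Agent.Classical Cfsg.Agent.Classical.Refl

variable {ι : Type} [Fintype ι] [DecidableEq ι] (Q : QuadraticForm (ZMod 3) (ι → ZMod 3))
  (hQ : (polarBilin Q).Nondegenerate)

include hQ

theorem exists_common (hn : 5 ≤ Fintype.card ι) {u v : ι → ZMod 3} (hu : Q u ≠ 0) {d : ZMod 3}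
    (hd : d ≠ 0) : ∃ w, polar Q u w = 0 ∧ polar Q v w = 0 ∧ Q w = d := by
  set B := polarBilin Q with hB
  have hr : B.IsRefl := fun x y h => by
    simp only [hB, polarBilin_apply_apply] at h ⊢
    rwa [polar_comm]
  set W : Submodule (ZMod 3) (ι → ZMod 3) := Submodule.span (ZMod 3) (Set.range ![u, v]) with hW
  set K := LinearMap.BilinForm.orthogonal B W with hK
  set R := K ⊓ LinearMap.BilinForm.orthogonal B K with hR
  have hWd : finrank (ZMod 3) W ≤ 2 :=
    le_trans (finrank_range_le_card (R := ZMod 3) ![u, v]) (by simp)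
  have hKd : Fintype.card ι - 2 ≤ finrank (ZMod 3) K := by
    rw [hK, LinearMap.BilinForm.finrank_orthogonal hQ, Module.finrank_pi]
    omega
  have hRW : R ≤ W := by
    refine le_trans inf_le_right (le_of_eq ?_)
    rw [hK, LinearMap.BilinForm.orthogonal_orthogonal hQ hr]
  have huW : u ∈ W := Submodule.subset_span ⟨0, rfl⟩
  have hvW : v ∈ W := Submodule.subset_span ⟨1, rfl⟩
  have huR : u ∉ R := by
    intro h
    have h1 : polar Q u u = 0 := h.1 u huW
    have h2 : ∀ a : ZMod 3, a ≠ 0 → (2 : ZMod 3) * a ≠ 0 := by decide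
    apply h2 _ hu
    rw [← h1, polar_self]
    simp
  have hRd : finrank (ZMod 3) R ≤ 1 := by
    have hlt : R < W := lt_of_le_of_ne hRW fun h => huR (h ▸ huW)
    have := Submodule.finrank_lt_finrank_of_lt hlt
    omega
  obtain ⟨T, hT⟩ := Submodule.exists_isCompl R
  set S := K ⊓ T with hS
  have hsup : R ⊔ S = K := by
    rw [hS, inf_comm K T, ← sup_inf_assoc_of_le T (inf_le_left : R ≤ K), hT.sup_eq_top, top_inf_eq]
  have hSd : 2 ≤ finrank (ZMod 3) S := by
    have := Submodule.finrank_add_le_finrank_add_finrank R S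
    rw [hsup] at this
    omega
  have hnd : S ⊓ LinearMap.BilinForm.orthogonal B S = ⊥ := by
    rw [eq_bot_iff]
    rintro x ⟨hxS, hxO⟩
    have hxK : x ∈ LinearMap.BilinForm.orthogonal B K := by
      intro y hy
      rw [← hsup] at hy
      obtain ⟨r, hr', s, hs, rfl⟩ := Submodule.mem_sup.mp hy
      have e1 : B r x = 0 := hr _ _ (hr'.2 x hxS.1)
      have e2 : B s x = 0 := hxO s hs
      show B (r + s) x = 0
      rw [map_add, LinearMap.add_apply, e1, e2, add_zero]
    have : x ∈ R ⊓ T := ⟨⟨hxS.1, hxK⟩, hxS.2⟩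
    rwa [hT.inf_eq_bot] at this
  obtain ⟨w, hw, hwd⟩ := OmegaTrans.exists_value Q hQ hnd hSd hd
  exact ⟨w, hw.1 u huW, hw.1 v hvW, hwd⟩

omit hQ in
theorem two_refl {c : ZMod 3} (hc : c ≠ 0) {u w : ι → ZMod 3} (hu : Q u = -c) (hw : Q w = -c)
    (h : polar Q u w = 0) (hu0 : Q u ≠ 0) (hw0 : Q w ≠ 0) (hp : Q (u + w) ≠ 0) (hm : Q (u - w) ≠ 0) :
    refl Q u hu0 * refl Q w hw0 = refl Q (u + w) hp * refl Q (u - w) hm := by
  refine act_ext Q fun x => ?_
  have hQp : Q (u + w) = c := by
    rw [QuadraticMap.map_add (⇑Q), hu, hw, h]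
    exact (by decide : ∀ c : ZMod 3, -c + -c + 0 = c) c
  have hQm : Q (u - w) = c := by
    rw [sub_eq_add_neg, QuadraticMap.map_add (⇑Q), QuadraticMap.map_neg, polar_neg_right, hu, hw, h]
    exact (by decide : ∀ c : ZMod 3, -c + -c + -0 = c) c
  have hinv : ∀ a : ZMod 3, a ≠ 0 → a⁻¹ = a := fun a ha =>
    inv_eq_of_mul_eq_one_right ((by decide : ∀ b : ZMod 3, b ≠ 0 → b * b = 1) a ha)
  have huu : polar Q u u = c := by
    rw [polar_self, hu]
    exact (by decide : ∀ c : ZMod 3, (2 : ℕ) • (-c) = c) c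
  have hww : polar Q w w = c := by
    rw [polar_self, hw]
    exact (by decide : ∀ c : ZMod 3, (2 : ℕ) • (-c) = c) c
  have hwu : polar Q w u = 0 := by rw [polar_comm]; exact h
  rw [act_mul, act_mul, act_refl, act_refl, act_refl, act_refl, hu, hw, hQp, hQm, hinv c hc,
    hinv (-c) (neg_ne_zero.mpr hc)]
  simp only [sub_eq_add_neg, polar_add_left, polar_add_right, polar_neg_left, polar_neg_right,
    polar_smul_right, smul_eq_mul, huu, hww, h, hwu]
  funext i
  simp only [Pi.add_apply, Pi.neg_apply, Pi.smul_apply, smul_eq_mul]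
  exact (by decide : ∀ x a b p r c : ZMod 3, c ≠ 0 →
    x + -(-c * r * b) + -(-c * (p + -(-c * r * 0)) * a) =
      x + -(c * (p + -r) * (a + -b)) + -(c * (p + r + -(c * (p + -r) * (c + 0 + -(0 + c)))) * (a + b)))
    (x i) (u i) (w i) (polar Q u x) (polar Q w x) c hc

theorem index_two (hn : 5 ≤ Fintype.card ι) (c : ZMod 3) (hc : c ≠ 0) :
    (Cfsg.reflectionSubgroup (⇑Q) c).index = 2 := by
  classical
  set H := Cfsg.reflectionSubgroup (⇑Q) c with hH
  have h2 : (2 : ZMod 3) ≠ 0 := by decide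
  have hex : Fintype.card (ZMod 3) ≠ 2 ∨ Fintype.card ι ≠ 4 := Or.inl (by rw [ZMod.card]; decide)
  have hnc : -c ≠ 0 := neg_ne_zero.mpr hc
  have hmem : ∀ v (hv : Q v ≠ 0), Q v = c → refl Q v hv ∈ H := fun v hv he =>
    Subgroup.subset_closure ⟨v, he, rfl⟩
  have hdic : ∀ a : ZMod 3, a ≠ 0 → a ≠ c → a = -c := by
    have : ∀ c a : ZMod 3, c ≠ 0 → a ≠ 0 → a ≠ c → a = -c := by decide
    exact fun a => this c a hc
  have horth : ∀ u w (hu : Q u ≠ 0) (hw : Q w ≠ 0), Q u = -c → Q w = -c → polar Q u w = 0 →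
      refl Q u hu * refl Q w hw ∈ H := by
    intro u w hu hw eu ew h
    have e1 : Q (u + w) = c := by
      rw [QuadraticMap.map_add (⇑Q), eu, ew, h]
      exact (by decide : ∀ c : ZMod 3, -c + -c + 0 = c) c
    have e2 : Q (u - w) = c := by
      rw [sub_eq_add_neg, QuadraticMap.map_add (⇑Q), QuadraticMap.map_neg, polar_neg_right, eu, ew, h]
      exact (by decide : ∀ c : ZMod 3, -c + -c + -0 = c) c
    rw [two_refl Q hc eu ew h hu hw (e1 ▸ hc) (e2 ▸ hc)]
    exact mul_mem (hmem _ _ e1) (hmem _ _ e2)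
  obtain ⟨u, hu⟩ := represents Q hQ h2 (by omega) hnc
  have hu0 : Q u ≠ 0 := hu ▸ hnc
  have hpair : ∀ v (hv : Q v ≠ 0), Q v = -c → refl Q u hu0 * refl Q v hv ∈ H := by
    intro v hv ev
    obtain ⟨w, h1, h2', ew⟩ := exists_common Q hQ hn hu0 (v := v) hnc
    have hw : Q w ≠ 0 := ew ▸ hnc
    have a := horth u w hu0 hw hu ew h1
    have b := horth w v hw hv ew ev (by rw [polar_comm]; exact h2')
    have := mul_mem a b
    rwa [mul_assoc, ← mul_assoc (refl Q w hw), refl_mul_self, one_mul] at this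
  -- generators
  have hconj : ∀ (g : O Q), ∀ x ∈ H, g * x * g⁻¹ ∈ H := by
    intro g x hx
    induction hx using Subgroup.closure_induction with
    | mem y hy =>
      obtain ⟨v, hv, he⟩ := hy
      obtain rfl : y = refl Q v (hv ▸ hc) := Subtype.ext (Units.ext he)
      rw [refl_conj]
      exact hmem _ _ (by rw [Q_act, hv])
    | one => simp
    | mul y z _ _ hy hz =>
      have := mul_mem hy hz
      simpa [mul_assoc] using this
    | inv y _ hy =>
      have := inv_mem hy
      simpa [mul_assoc] using this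
  have hcover : ∀ g : O Q, g ∈ H ∨ refl Q u hu0 * g ∈ H := by
    intro g
    have hg : g ∈ R Q := eq_top Q hQ hex ▸ Subgroup.mem_top g
    have step : ∀ v (hv : Q v ≠ 0) (y : O Q), (y ∈ H ∨ refl Q u hu0 * y ∈ H) →
        (refl Q v hv * y ∈ H ∨ refl Q u hu0 * (refl Q v hv * y) ∈ H) := by
      intro v hv y hy
      by_cases hcv : Q v = c
      · rcases hy with hy | hy
        · exact Or.inl (mul_mem (hmem v hv hcv) hy)
        · right
          have h1 := mul_mem (hconj (refl Q u hu0) _ (hmem v hv hcv)) hy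
          rwa [refl_inv, mul_assoc, ← mul_assoc (refl Q u hu0) (refl Q u hu0), refl_mul_self, one_mul,
            mul_assoc] at h1
      · have hp := hpair v hv (hdic _ hv hcv)
        rcases hy with hy | hy
        · right
          rw [← mul_assoc]
          exact mul_mem hp hy
        · left
          have h1 := mul_mem (inv_mem hp) hy
          rwa [_root_.mul_inv_rev, refl_inv, refl_inv, mul_assoc, ← mul_assoc (refl Q u hu0) (refl Q u hu0),
            refl_mul_self, one_mul] at h1
    induction hg using Subgroup.closure_induction_left with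
    | one => exact Or.inl (one_mem H)
    | mul_left x hx y _ ih =>
      obtain ⟨v, hv, he⟩ := hx
      obtain rfl : x = refl Q v hv := Subtype.ext (Units.ext he)
      exact step v hv y ih
    | inv_mul_cancel x hx y _ ih =>
      obtain ⟨v, hv, he⟩ := hx
      obtain rfl : x = refl Q v hv := Subtype.ext (Units.ext he)
      rw [refl_inv]
      exact step v hv y ih
  -- a homomorphism detecting the index
  let φ : O Q →* ℤˣ := dickson Q hQ hex * chi Q c
  have hcls : ¬ Cls c (-c) := by
    rintro ⟨a, ha⟩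
    exact (by decide : ∀ a c : ZMod 3, c ≠ 0 → a * a * (-c) ≠ c) a c hc ha
  have hker : H ≤ φ.ker := by
    rw [hH, Cfsg.reflectionSubgroup, Subgroup.closure_le]
    rintro y ⟨v, hv, he⟩
    obtain rfl : y = refl Q v (hv ▸ hc) := Subtype.ext (Units.ext he)
    show φ _ = 1
    simp [φ, dickson_refl Q hQ, chi_refl_self Q hQ h2 hc v (hv ▸ hc) (hv ▸ Cls.refl _)]
  have hφu : φ (refl Q u hu0) = -1 := by
    simp [φ, dickson_refl Q hQ, chi_refl_other Q hQ h2 hc u hu0 (hu ▸ hcls)]
  have heq : H = φ.ker := by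
    refine le_antisymm hker fun g hg => ?_
    rcases hcover g with h | h
    · exact h
    · exfalso
      have := hker h
      rw [MonoidHom.mem_ker, map_mul, MonoidHom.mem_ker.mp hg, mul_one, hφu] at this
      exact absurd this (by decide)
  have hsurj : φ.range = ⊤ := by
    rw [eq_top_iff]
    intro a _
    rcases Int.units_eq_one_or a with rfl | rfl
    · exact one_mem _
    · exact ⟨_, hφu⟩
  rw [heq, Subgroup.index_ker, hsurj, Subgroup.card_top, Nat.card_eq_fintype_card]
  rfl

end Cfsg.Agent.Lib.ReflectionIndexTwo
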