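import Cfsg.Agent.Lib.Classical.Quad

/-!
Generation of finite orthogonal groups by reflections, in any characteristic.
-/

set_option autoImplicit false
set_option linter.style.haveILetI false

open Matrix QuadraticMap Module

namespace Cfsg.Agent.Classical.Refl

variable {F : Type*} [Field F] [Fintype F] {ι : Type} [Fintype ι] [DecidableEq ι] (Q : QuadraticForm F (ι → F))

local notation "n" => Fintype.card ι

/-- The isometry group. -/
abbrev O : Subgroup (GL ι F) := Cfsg.isometryGroup F ⇑Q

/-- The action. -/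
def act (g : O Q) (x : ι → F) : ι → F := ((g : GL ι F) : Matrix ι ι F) *ᵥ x

/-- The action as a linear map. -/
def lin (g : O Q) : (ι → F) →ₗ[F] (ι → F) :=
  Matrix.toLin' ((g : GL ι F) : Matrix ι ι F)

theorem lin_apply (g : O Q) (x : ι → F) : lin Q g x = act Q g x := Matrix.toLin'_apply _ _

theorem act_mul (g h : O Q) (x : ι → F) : act Q (g * h) x = act Q g (act Q h x) :=
  (Matrix.mulVec_mulVec _ _ _).symm

theorem act_inv (g : O Q) (x : ι → F) : act Q g (act Q g⁻¹ x) = x := by
  rw [← act_mul, mul_inv_cancel]; exact Matrix.one_mulVec x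

theorem Q_act (g : O Q) (x : ι → F) : Q (act Q g x) = Q x := g.2 x x

theorem act_add (g : O Q) (x y : ι → F) : act Q g (x + y) = act Q g x + act Q g y := Matrix.mulVec_add _ _ _

theorem polar_act (g : O Q) (x y : ι → F) :
    polar Q (act Q g x) (act Q g y) = polar Q x y := by
  simp only [polar, ← act_add, Q_act]

/-- A reflection as an isometry. -/
noncomputable def refl (v : ι → F) (hv : Q v ≠ 0) : O Q :=
  ⟨Matrix.GeneralLinearGroup.mkOfDetNeZero (Cfsg.reflectionMatrix (⇑Q) v)
    (by rw [Quad.reflection_det Q hv]; exact neg_ne_zero.2 one_ne_zero),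
    fun x _ => Quad.reflection_isometry Q hv x⟩

theorem act_refl (v : ι → F) (hv : Q v ≠ 0) (x : ι → F) :
    act Q (refl Q v hv) x = x - ((Q v)⁻¹ * polar Q v x) • v := Quad.reflection_mulVec Q v x

theorem act_refl_back {x y : ι → F} (hxy : Q y = Q x) (hd : Q (y - x) ≠ 0) :
    act Q (refl Q (y - x) hd) y = x := by
  have e : polar Q (y - x) y = Q (y - x) := by
    have h1 : Q (y + -(y - x)) = Q x := by congr 1; abel
    rw [QuadraticMap.map_add (⇑Q), QuadraticMap.map_neg, polar_neg_right, hxy] at h1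
    rw [polar_comm]
    linear_combination -h1
  rw [act_refl, e, inv_mul_cancel₀ hd, one_smul, sub_sub_cancel]

/-- The subgroup generated by reflections. -/
def R : Subgroup (O Q) := Subgroup.closure
  {g : O Q | ∃ v : ι → F, Q v ≠ 0 ∧
    ((g : GL ι F) : Matrix ι ι F) = Cfsg.reflectionMatrix ⇑Q v}

theorem refl_mem (v : ι → F) (hv : Q v ≠ 0) : refl Q v hv ∈ R Q :=
  Subgroup.subset_closure ⟨v, hv, rfl⟩

/-- Fixed vectors. -/
def Fix (g : O Q) : Submodule F (ι → F) := LinearMap.ker (lin Q g - LinearMap.id)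

theorem mem_Fix (g : O Q) (x : ι → F) : x ∈ Fix Q g ↔ act Q g x = x := by
  simp [Fix, LinearMap.mem_ker, lin_apply, sub_eq_zero]

omit [Fintype F] in
theorem exists_avoid_two {A B : Submodule F (ι → F)} (hA : A ≠ ⊤) (hB : B ≠ ⊤) :
    ∃ x, x ∉ A ∧ x ∉ B := by
  obtain ⟨a, ha⟩ : ∃ a, a ∉ A := by
    by_contra h; push Not at h; exact hA (eq_top_iff.2 fun x _ => h x)
  obtain ⟨b, hb⟩ : ∃ b, b ∉ B := by
    by_contra h; push Not at h; exact hB (eq_top_iff.2 fun x _ => h x)
  by_cases h1 : a ∈ B
  · by_cases h2 : b ∈ A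
    · exact ⟨a + b, fun h => ha (by simpa using A.sub_mem h h2), fun h => hb (by simpa using B.sub_mem h h1)⟩
    · exact ⟨b, h2, hb⟩
  · exact ⟨a, ha, h1⟩

theorem exists_avoid_three {A B C : Submodule F (ι → F)} (hA : finrank F A < n) (hB : finrank F B < n)
    (hC : finrank F C < n) (h : Fintype.card F ≠ 2 ∨
      finrank F C + 2 ≤ n ∧ n ≤ finrank F ↥(A ⊓ B) + 2) :
    ∃ x, x ∉ A ∧ x ∉ B ∧ x ∉ C := by
  classical
  by_contra hno
  push Not at hno
  let S : Submodule F (ι → F) → Finset (ι → F) := fun W => Finset.univ.filter (· ∈ W)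
  have hS : ∀ W, (S W).card = Fintype.card F ^ finrank F W := fun W => by
    rw [← Fintype.card_subtype, ← Nat.card_eq_fintype_card, ← Nat.card_eq_fintype_card (α := F)]
    exact Module.natCard_eq_pow_finrank (K := F) (V := W)
  have hcov : Finset.univ ⊆ (S A ∪ S B) ∪ (S C).erase 0 := fun x _ => by
    by_cases hxA : x ∈ A
    · simp [S, hxA]
    by_cases hxB : x ∈ B
    · simp [S, hxB]
    have hxC := hno x hxA hxB
    have hx0 : x ≠ 0 := fun e => hxA (e ▸ A.zero_mem)
    simp [S, hxC, hx0]
  have h1 := (Finset.card_le_card hcov).trans (Finset.card_union_le _ _)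
  rw [Finset.card_univ, Fintype.card_fun, Finset.card_erase_of_mem (by simp [S]), hS] at h1
  have h2 := Finset.card_union_add_card_inter (S A) (S B)
  have hinter : S A ∩ S B = S (A ⊓ B) := by ext x; simp [S]
  rw [hinter, hS, hS, hS] at h2
  set q := Fintype.card F with hq
  have hq1 : 1 < q := Fintype.one_lt_card
  have hp : 0 < q ^ finrank F C := by positivity
  obtain ⟨N, hN⟩ : ∃ N, n = N + 1 := ⟨n - 1, by omega⟩
  rw [hN] at h1 hA hB hC h
  have ha : q ^ finrank F A ≤ q ^ N := Nat.pow_le_pow_right (by omega) (by omega)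
  have hb : q ^ finrank F B ≤ q ^ N := Nat.pow_le_pow_right (by omega) (by omega)
  have hc : q ^ finrank F C ≤ q ^ N := Nat.pow_le_pow_right (by omega) (by omega)
  rw [pow_succ] at h1
  rcases h with h | ⟨h3, h4⟩
  · have : q ^ N * 3 ≤ q ^ N * q := Nat.mul_le_mul_left _ (by omega)
    omega
  · obtain ⟨M, rfl⟩ : ∃ M, N = M + 1 := ⟨N - 1, by omega⟩
    have hab : q ^ M ≤ q ^ finrank F ↥(A ⊓ B) := Nat.pow_le_pow_right (by omega) (by omega)
    have hc' : q ^ finrank F C ≤ q ^ M := Nat.pow_le_pow_right (by omega) (by omega)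
    have : q ^ (M + 1) * 2 ≤ q ^ (M + 1) * q := Nat.mul_le_mul_left _ hq1
    omega

omit [Fintype F] in
theorem le_finrank_ker (f : (ι → F) →ₗ[F] F) : n ≤ finrank F (LinearMap.ker f) + 1 := by
  have h1 := LinearMap.finrank_range_add_finrank_ker f
  have h2 := Submodule.finrank_le (LinearMap.range f)
  rw [finrank_self] at h2
  rw [finrank_pi] at h1
  omega

variable (hQ : (polarBilin Q).Nondegenerate)

include hQ

omit [Fintype F] in
theorem eq_zero_of_polar {x : ι → F} (h : ∀ y, polar Q x y = 0) : x = 0 := hQ.1 x h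

/-- An isometry with a non-singular displacement gains a fixed vector after one reflection. -/
theorem of_displacement {k : ℕ} (ih : ∀ g : O Q, k < finrank F (Fix Q g) → g ∈ R Q) (g : O Q)
    (hk : k ≤ finrank F (Fix Q g)) {x : ι → F} (hx : Q (act Q g x - x) ≠ 0) : g ∈ R Q := by
  set r := refl Q _ hx with hr
  have hlt : Fix Q g < Fix Q (r * g) := by
    refine lt_of_le_of_ne (fun y hy => ?_) (fun e => hx ?_)
    · rw [mem_Fix] at hy ⊢
      rw [act_mul, hy, hr, act_refl]
      have h0 : polar Q (act Q g x - x) y = 0 := by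
        rw [polar_sub_left]
        conv_lhs => arg 1; rw [← hy, polar_act]
        rw [sub_self]
      rw [h0, mul_zero, zero_smul, sub_zero]
    · have hmem : x ∈ Fix Q (r * g) := by
        rw [mem_Fix, act_mul, hr, act_refl_back Q (Q_act Q g x)]
      rw [← e, mem_Fix] at hmem
      rw [hmem, sub_self, QuadraticMap.map_zero]
  have := (R Q).mul_mem ((R Q).inv_mem (refl_mem Q _ hx)) (ih _ (lt_of_le_of_lt hk (Submodule.finrank_lt_finrank_of_lt hlt)))
  rwa [← hr, inv_mul_cancel_left] at this

/-- After two reflections the fixed space does not shrink. -/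
theorem fix_le (g : O Q) {v x : ι → F} (hv : Q v ≠ 0)
    (hd : Q (act Q (refl Q v hv * g) x - x) ≠ 0) (hvx : polar Q v x ≠ 0) :
    finrank F (Fix Q g) ≤ finrank F (Fix Q (refl Q _ hd * (refl Q v hv * g))) := by
  set d := act Q (refl Q v hv * g) x - x with hddef
  set W := Fix Q g ⊓ LinearMap.ker (polarBilin Q v) with hW
  have hle : W ⊔ Submodule.span F {x} ≤ Fix Q (refl Q d hd * (refl Q v hv * g)) := by
    refine sup_le (fun y hy => ?_) ((Submodule.span_singleton_le_iff_mem _ _).2 ?_)
    · obtain ⟨hy1, hy2⟩ := Submodule.mem_inf.1 hy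
      have hy2' : polar Q v y = 0 := hy2
      rw [mem_Fix] at hy1 ⊢
      have e : act Q (refl Q v hv * g) y = y := by
        rw [act_mul, hy1, act_refl, hy2', mul_zero, zero_smul, sub_zero]
      have h0 : polar Q d y = 0 := by
        rw [hddef, polar_sub_left]
        conv_lhs => arg 1; rw [← e, polar_act]
        rw [sub_self]
      rw [act_mul, e, act_refl, h0, mul_zero, zero_smul, sub_zero]
    · rw [mem_Fix, act_mul]
      exact act_refl_back Q (Q_act Q _ x) hd
  have hxW : x ∉ W := fun h => hvx h.2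
  have h1 : W < W ⊔ Submodule.span F {x} := lt_of_le_of_ne le_sup_left fun e =>
    hxW (e ▸ Submodule.mem_sup_right (Submodule.mem_span_singleton_self x))
  have h2 := Submodule.finrank_sup_add_finrank_inf_eq (Fix Q g) (LinearMap.ker (polarBilin Q v))
  have h3 := le_finrank_ker (polarBilin Q v)
  have h4 := Submodule.finrank_le (Fix Q g ⊔ LinearMap.ker (polarBilin Q v))
  rw [finrank_pi] at h4
  have h5 := Submodule.finrank_lt_finrank_of_lt h1
  have h6 := Submodule.finrank_mono hle
  rw [← hW] at h2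
  show finrank F (Fix Q g) ≤ finrank F (Fix Q (refl Q d hd * (refl Q v hv * g)))
  omega

/-- Isometries with totally singular displacement, some non-singular vector fixed. -/
theorem of_fixed {k : ℕ} (ih : ∀ g : O Q, k < finrank F (Fix Q g) → g ∈ R Q) (g : O Q)
    (hk : k ≤ finrank F (Fix Q g)) (hg : g ≠ 1) (hts : ∀ x, Q (act Q g x - x) = 0)
    {v : ι → F} (hv : Q v ≠ 0) (hgv : act Q g v = v) : g ∈ R Q := by
  have hμv : ∀ y, polar Q (act Q g y - y) v = 0 := fun y => by
    rw [polar_sub_left]
    conv_lhs => arg 1; rw [← hgv, polar_act]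
    rw [sub_self]
  have hμμ : ∀ y z, polar Q (act Q g y - y) (act Q g z - z) = 0 := fun y z => by
    have h := hts (y + z)
    rw [act_add, show act Q g y + act Q g z - (y + z) = (act Q g y - y) + (act Q g z - z) by abel,
      QuadraticMap.map_add (⇑Q), hts, hts, zero_add, zero_add] at h
    exact h
  obtain ⟨x, hxv, hxK⟩ := exists_avoid_two
    (A := LinearMap.ker (polarBilin Q v)) (B := Fix Q g)
    (fun e => hv (by
      have : v = 0 := eq_zero_of_polar Q hQ fun y => (show y ∈ LinearMap.ker (polarBilin Q v) from e ▸ trivial)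
      rw [this, QuadraticMap.map_zero]))
    (fun e => hg (Subtype.ext (Units.ext (Matrix.toLin'.injective (LinearMap.ext fun y => by
      have hy : act Q g y = y := (mem_Fix Q g y).1 (e ▸ trivial)
      simpa [lin_apply, act] using hy)))))
  have hxv' : polar Q v x ≠ 0 := hxv
  rw [mem_Fix] at hxK
  set μ := act Q g x - x with hμ
  have hμ0 : μ ≠ 0 := sub_ne_zero.2 hxK
  have hvg : ∀ y, polar Q v (act Q g y) = polar Q v y := fun y => by
    conv_lhs => rw [← hgv, polar_act]
  set c := (Q v)⁻¹ * polar Q v x with hc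
  have hc0 : c ≠ 0 := mul_ne_zero (inv_ne_zero hv) hxv'
  have hdval : act Q (refl Q v hv * g) x - x = μ + (-c) • v := by
    rw [act_mul, act_refl, hvg, ← hc, hμ, neg_smul]; abel
  have hQd : Q (act Q (refl Q v hv * g) x - x) = c * c * Q v := by
    rw [hdval, QuadraticMap.map_add (⇑Q), QuadraticMap.map_smul, hts, polar_smul_right, hμv]
    simp
  have hd : Q (act Q (refl Q v hv * g) x - x) ≠ 0 := by
    rw [hQd]; exact mul_ne_zero (mul_ne_zero hc0 hc0) hv
  obtain ⟨y, hy⟩ : ∃ y, polar Q μ y ≠ 0 := by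
    by_contra h; push Not at h; exact hμ0 (eq_zero_of_polar Q hQ h)
  have hk' := fix_le Q hQ g hv hd hxv'
  suffices hne : Q (act Q (refl Q _ hd * (refl Q v hv * g)) y - y) ≠ 0 by
    have h := of_displacement Q hQ ih _ (hk.trans hk') hne
    have h' := (R Q).mul_mem ((R Q).inv_mem (refl_mem Q v hv)) ((R Q).mul_mem ((R Q).inv_mem (refl_mem Q _ hd)) h)
    rwa [inv_mul_cancel_left, inv_mul_cancel_left] at h'
  have hg'y : act Q (refl Q v hv * g) y = act Q g y + (-((Q v)⁻¹ * polar Q v y)) • v := by
    rw [act_mul, act_refl, hvg, neg_smul]; abel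
  rw [act_mul, act_refl, hQd, hdval, hg'y]
  have hBμg : polar Q μ (act Q g y) = polar Q μ y := by
    have := hμμ x y
    rwa [← hμ, polar_sub_right, sub_eq_zero] at this
  set e := (c * c * Q v)⁻¹ * polar Q (μ + (-c) • v) (act Q g y + (-((Q v)⁻¹ * polar Q v y)) • v) with he
  have he' : e = (c * c * Q v)⁻¹ * (polar Q μ y + c * polar Q v y) := by
    rw [he]
    simp only [polar_add_left, polar_add_right, polar_smul_left, polar_smul_right, smul_eq_mul, hvg,
      hBμg, hμ ▸ hμv x, polar_self, nsmul_eq_mul, Nat.cast_ofNat]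
    field_simp
    ring
  have hval : act Q g y + (-((Q v)⁻¹ * polar Q v y)) • v - e • (μ + (-c) • v) - y =
      ((act Q g y - y) + (-e) • μ) + (polar Q μ y / (c * Q v)) • v := by
    have : e * c - (Q v)⁻¹ * polar Q v y = polar Q μ y / (c * Q v) := by
      rw [he']; field_simp; ring
    rw [← this]; module
  have hts' : Q ((act Q g y - y) + (-e) • μ) = 0 := by
    rw [QuadraticMap.map_add (⇑Q), QuadraticMap.map_smul, hts, hts, polar_smul_right, hμ, hμμ]; simp
  have hμv' : polar Q ((act Q g y - y) + (-e) • μ) v = 0 := by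
    rw [polar_add_left, polar_smul_left, hμv, hμ, hμv]; simp
  rw [hval, QuadraticMap.map_add (⇑Q), hts', QuadraticMap.map_smul, polar_smul_right, hμv']
  have : polar Q μ y / (c * Q v) ≠ 0 := div_ne_zero hy (mul_ne_zero hc0 hv)
  simp [this, hv]

/-- Isometries with totally singular displacement and totally singular fixed space. -/
theorem of_unfixed (hex : Fintype.card F ≠ 2 ∨ n ≠ 4) {k : ℕ}
    (ih : ∀ g : O Q, k < finrank F (Fix Q g) → g ∈ R Q) (g : O Q)
    (hk : k ≤ finrank F (Fix Q g)) (hg : g ≠ 1) (hts : ∀ x, Q (act Q g x - x) = 0)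
    (hfix : ∀ w ∈ Fix Q g, Q w = 0) : g ∈ R Q := by
  have hμμ : ∀ y z, polar Q (act Q g y - y) (act Q g z - z) = 0 := fun y z => by
    have h := hts (y + z)
    rw [act_add, show act Q g y + act Q g z - (y + z) = (act Q g y - y) + (act Q g z - z) by abel,
      QuadraticMap.map_add (⇑Q), hts, hts, zero_add, zero_add] at h
    exact h
  have hmemK : ∀ y, act Q g y - y ∈ Fix Q g := fun y => by
    rw [mem_Fix]
    refine sub_eq_zero.1 (eq_zero_of_polar Q hQ fun z => ?_)
    obtain ⟨z', rfl⟩ : ∃ z', act Q g z' = z := ⟨_, act_inv Q g z⟩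
    rw [polar_sub_left, polar_act]
    have h := hμμ y z'
    rw [polar_sub_right] at h
    linear_combination -h
  have hKK : Fix Q g ≤ LinearMap.BilinForm.orthogonal (polarBilin Q) (Fix Q g) := fun a ha b hb => by
    show polar Q b a = 0
    rw [polar, hfix _ ((Fix Q g).add_mem hb ha), hfix _ ha, hfix _ hb]; ring
  have hdim : finrank F (Fix Q g) + finrank F (Fix Q g) = n := by
    have h1 := LinearMap.finrank_range_add_finrank_ker (lin Q g - LinearMap.id)
    rw [finrank_pi] at h1
    have h2 : finrank F (LinearMap.range (lin Q g - LinearMap.id)) ≤ finrank F (Fix Q g) := by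
      refine Submodule.finrank_mono ?_
      rintro _ ⟨y, rfl⟩
      simpa [lin_apply] using hmemK y
    have h3 := LinearMap.BilinForm.finrank_orthogonal hQ (Fix Q g)
    have h4 := Submodule.finrank_mono hKK
    rw [finrank_pi] at h3
    have h5 := Submodule.finrank_le (Fix Q g)
    rw [finrank_pi] at h5
    change finrank F _ + finrank F (Fix Q g) = n at h1
    omega
  obtain ⟨y0, hy0⟩ : ∃ y, act Q g y ≠ y := by
    by_contra h
    push Not at h
    exact hg (Subtype.ext (Units.ext (Matrix.toLin'.injective (LinearMap.ext fun y => by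
      simpa [lin_apply, act] using h y))))
  obtain ⟨v, hv⟩ : ∃ v, Q v ≠ 0 := by
    by_contra h
    push Not at h
    exact hy0 (sub_eq_zero.1 (eq_zero_of_polar Q hQ fun z => by rw [polar, h, h, h]; ring))
  have hvK : v ∉ Fix Q g := fun h => hv (hfix v h)
  set μv := act Q g v - v with hμvdef
  have hμvv : polar Q μv v = 0 := by
    have h1 : Q (μv + v) = Q v := by rw [hμvdef, sub_add_cancel, Q_act]
    rw [QuadraticMap.map_add (⇑Q), hμvdef, hts, zero_add] at h1
    linear_combination h1
  have hμK : ∀ w ∈ Fix Q g, polar Q μv w = 0 := fun w hw => by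
    rw [mem_Fix] at hw
    rw [hμvdef, polar_sub_left]
    conv_lhs => arg 1; rw [← hw, polar_act]
    rw [sub_self]
  have hKv : finrank F ↥(Fix Q g ⊔ Submodule.span F {v}) ≤ finrank F (Fix Q g) + 1 := by
    have h1 := Submodule.finrank_sup_add_finrank_inf_eq (Fix Q g) (Submodule.span F {v})
    have h2 : finrank F (Submodule.span F ({v} : Set (ι → F))) = 1 :=
      finrank_span_singleton fun e => hv (by rw [e, QuadraticMap.map_zero])
    omega
  have hk2 : 2 ≤ finrank F (Fix Q g) := by
    by_contra hlt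
    have hK1 : finrank F (Fix Q g) = 1 := by
      rcases Nat.lt_or_ge 0 (finrank F (Fix Q g)) with h | h
      · omega
      · exfalso
        have : n = 0 := by omega
        exact hy0 (funext fun i => (Fintype.card_eq_zero_iff.1 this).elim i)
    have hlt2 : Fix Q g < Fix Q g ⊔ Submodule.span F {v} := lt_of_le_of_ne le_sup_left fun e =>
      hvK (e ▸ Submodule.mem_sup_right (Submodule.mem_span_singleton_self v))
    have h6 := Submodule.finrank_lt_finrank_of_lt hlt2
    have htop : Fix Q g ⊔ Submodule.span F {v} = ⊤ := Submodule.eq_top_of_finrank_eq (by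
      rw [finrank_pi]; omega)
    have h0 : μv = 0 := eq_zero_of_polar Q hQ fun z => by
      obtain ⟨w, hw, u, hu, rfl⟩ := Submodule.mem_sup.1 (htop ▸ (Submodule.mem_top : z ∈ ⊤))
      obtain ⟨s, rfl⟩ := Submodule.mem_span_singleton.1 hu
      rw [polar_add_right, polar_smul_right, hμK w hw, hμvv]; simp
    exact hvK ((mem_Fix Q g v).2 (sub_eq_zero.1 h0))
  let fA : (ι → F) →ₗ[F] F := polarBilin Q v
  let fB : (ι → F) →ₗ[F] F := (polarBilin Q v).comp (lin Q g)
  have hv0 : ∃ z, polar Q v z ≠ 0 := by
    by_contra h; push Not at h; exact hv (by rw [eq_zero_of_polar Q hQ h, QuadraticMap.map_zero])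
  obtain ⟨z0, hz0⟩ := hv0
  have hA : finrank F (LinearMap.ker fA) < n := by
    have h1 : LinearMap.ker fA < ⊤ := lt_top_iff_ne_top.2 fun e =>
      hz0 (show z0 ∈ LinearMap.ker fA from e ▸ trivial)
    have := Submodule.finrank_lt h1.ne
    rwa [finrank_pi] at this
  have hB : finrank F (LinearMap.ker fB) < n := by
    have h1 : LinearMap.ker fB ≠ ⊤ := fun e => hz0 (by
      have h := show act Q g⁻¹ z0 ∈ LinearMap.ker fB from e ▸ trivial
      simpa [fB, LinearMap.mem_ker, lin_apply, act_inv] using h)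
    have := Submodule.finrank_lt h1
    rwa [finrank_pi] at this
  obtain ⟨x, hxA, hxB, hxC⟩ := exists_avoid_three (A := LinearMap.ker fA) (B := LinearMap.ker fB)
    (C := Fix Q g ⊔ Submodule.span F {v}) hA hB (by omega) (by
      rcases hex with h | h
      · exact Or.inl h
      · refine Or.inr ⟨by omega, ?_⟩
        have h1 := Submodule.finrank_sup_add_finrank_inf_eq (LinearMap.ker fA) (LinearMap.ker fB)
        have h2 := Submodule.finrank_le (LinearMap.ker fA ⊔ LinearMap.ker fB)
        rw [finrank_pi] at h2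
        have h3 := le_finrank_ker fA
        have h4 := le_finrank_ker fB
        omega)
  have hxv : polar Q v x ≠ 0 := hxA
  have hxgv : polar Q v (act Q g x) ≠ 0 := by
    simpa [fB, LinearMap.mem_ker, lin_apply] using hxB
  set μ := act Q g x - x with hμ
  set c := (Q v)⁻¹ * polar Q v (act Q g x) with hc
  have hc0 : c ≠ 0 := mul_ne_zero (inv_ne_zero hv) hxgv
  have hdval : act Q (refl Q v hv * g) x - x = μ + (-c) • v := by
    rw [act_mul, act_refl, ← hc, hμ, neg_smul]; abel
  have hBμv : polar Q μ v = polar Q v (act Q g x) - polar Q v x := by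
    rw [hμ, polar_comm, polar_sub_right]
  have hQd : Q (act Q (refl Q v hv * g) x - x) = c * polar Q v x := by
    rw [hdval, QuadraticMap.map_add (⇑Q), QuadraticMap.map_smul, hts, polar_smul_right, hBμv, smul_eq_mul, smul_eq_mul]
    have : c * Q v = polar Q v (act Q g x) := by rw [hc]; field_simp
    linear_combination c * this
  have hd : Q (act Q (refl Q v hv * g) x - x) ≠ 0 := by rw [hQd]; exact mul_ne_zero hc0 hxv
  have hk' := fix_le Q hQ g hv hd hxv
  set d := μ + (-c) • v with hddef
  let ev : (ι → F) →ₗ[F] F := (c * polar Q v x)⁻¹ • ((polarBilin Q d).comp (lin Q (refl Q v hv * g)))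
  have hev : ∀ y, ev y = (c * polar Q v x)⁻¹ * polar Q d (act Q (refl Q v hv * g) y) := fun y => by
    simp [ev, lin_apply]
  let T : (ι → F) →ₗ[F] F := c • ev - (Q v)⁻¹ • fB
  let L : (ι → F) →ₗ[F] F := polar Q v x • ev - fA
  have hT : LinearMap.ker T ≠ ⊤ := by
    intro e
    have hall : ∀ z, polar Q ((c * (c * polar Q v x)⁻¹) • d + (Q v)⁻¹ • v) z = 0 := fun z => by
      set y := act Q (refl Q v hv * g)⁻¹ z with hy
      have h0 : T y = 0 := show y ∈ LinearMap.ker T from e ▸ trivial
      have hyz : act Q (refl Q v hv * g) y = z := act_inv Q _ z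
      have hfB : fB y = -polar Q v z := by
        have h1 : act Q g y - ((Q v)⁻¹ * polar Q v (act Q g y)) • v = z := by
          rw [← hyz, act_mul, act_refl]
        have h2 := congrArg (polar Q v) h1
        rw [polar_sub_right, polar_smul_right, polar_self, nsmul_eq_mul, smul_eq_mul] at h2
        show polar Q v (lin Q g y) = _
        rw [lin_apply]
        field_simp at h2
        push_cast at h2
        linear_combination -h2
      have h0' : c * ((c * polar Q v x)⁻¹ * polar Q d z) - (Q v)⁻¹ * fB y = 0 := by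
        rw [← h0, ← hyz, ← hev]; rfl
      rw [hfB] at h0'
      rw [polar_add_left, polar_smul_left, polar_smul_left, smul_eq_mul, smul_eq_mul]
      linear_combination h0'
    have hz := eq_zero_of_polar Q hQ hall
    apply hxC
    have hμspan : μ ∈ Submodule.span F ({v} : Set (ι → F)) := by
      have hd' : d = (-(c * (c * polar Q v x)⁻¹)⁻¹ * (Q v)⁻¹) • v := by
        have := eq_neg_of_add_eq_zero_left hz
        have h' := congrArg ((c * (c * polar Q v x)⁻¹)⁻¹ • ·) this
        simp only [inv_smul_smul₀ (mul_ne_zero hc0 (inv_ne_zero (mul_ne_zero hc0 hxv))), smul_neg, smul_smul] at h'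
        rw [h', neg_mul, neg_smul]
      rw [hddef] at hd'
      have : μ = (-(c * (c * polar Q v x)⁻¹)⁻¹ * (Q v)⁻¹ + c) • v := by
        rw [add_smul, ← hd', neg_smul]; abel
      exact Submodule.mem_span_singleton.2 ⟨_, this.symm⟩
    obtain ⟨s, hs⟩ := Submodule.mem_span_singleton.1 hμspan
    have hs0 : s = 0 := by
      by_contra hs0
      exact hvK (by
        have := (Fix Q g).smul_mem s⁻¹ (hmemK x)
        rwa [← hμ, ← hs, inv_smul_smul₀ hs0] at this)
    rw [hs0, zero_smul] at hs
    exact Submodule.mem_sup_left ((mem_Fix Q g x).2 (sub_eq_zero.1 (hμ ▸ hs.symm)))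
  have hgv' : act Q (refl Q v hv * g) v = μv + (-1 : F) • v := by
    have h1 : polar Q v (act Q g v) = 2 * Q v := by
      rw [show act Q g v = μv + v by rw [hμvdef, sub_add_cancel], polar_add_right, polar_comm (⇑Q) v μv,
        hμvv, polar_self, zero_add, two_nsmul, two_mul]
    rw [act_mul, act_refl, h1, show (Q v)⁻¹ * (2 * Q v) = (2 : F) by field_simp, hμvdef]
    module
  have hL : LinearMap.ker L ≠ ⊤ := by
    intro e
    set a := polar Q v x * (c * polar Q v x)⁻¹ with ha
    have ha0 : a ≠ 0 := mul_ne_zero hxv (inv_ne_zero (mul_ne_zero hc0 hxv))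
    have hall : ∀ z, polar Q (a • d - act Q (refl Q v hv * g) v) z = 0 := fun z => by
      set y := act Q (refl Q v hv * g)⁻¹ z with hy
      have h0 : L y = 0 := show y ∈ LinearMap.ker L from e ▸ trivial
      have hyz : act Q (refl Q v hv * g) y = z := act_inv Q _ z
      have h1 : polar Q (act Q (refl Q v hv * g) v) z = polar Q v y := by rw [← hyz, polar_act]
      have h0' : polar Q v x * ((c * polar Q v x)⁻¹ * polar Q d z) - polar Q v y = 0 := by
        rw [← h0, ← hyz, ← hev]; rfl
      rw [polar_sub_left, polar_smul_left, smul_eq_mul, h1]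
      linear_combination h0'
    have hz := sub_eq_zero.1 (eq_zero_of_polar Q hQ hall)
    rw [hgv', hddef] at hz
    have h2 : (a * c - 1) • v = a • μ - μv := by
      rw [eq_comm, ← sub_eq_zero]
      rw [← sub_eq_zero] at hz
      rw [← hz]; module
    have hac : a * c - 1 = 0 := by
      by_contra hne
      exact hvK (by
        have := (Fix Q g).smul_mem (a * c - 1)⁻¹ (h2 ▸ (Fix Q g).sub_mem ((Fix Q g).smul_mem a (hmemK x)) (hmemK v) : (a * c - 1) • v ∈ Fix Q g)
        rwa [inv_smul_smul₀ hne] at this)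
    rw [hac, zero_smul] at h2
    apply hxC
    have h3 : a • x - v ∈ Fix Q g := by
      rw [Fix, LinearMap.mem_ker]
      have : (lin Q g - LinearMap.id : (ι → F) →ₗ[F] _) (a • x - v) = a • μ - μv := by
        rw [LinearMap.sub_apply, LinearMap.id_apply, map_sub, map_smul, lin_apply, lin_apply, hμ, hμvdef]; module
      rw [this, ← h2]
    have h4 : a • x ∈ Fix Q g ⊔ Submodule.span F {v} := Submodule.mem_sup.2
      ⟨_, h3, v, Submodule.mem_span_singleton_self v, sub_add_cancel _ _⟩
    have := Submodule.smul_mem _ a⁻¹ h4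
    rwa [inv_smul_smul₀ ha0] at this
  obtain ⟨y, hyT, hyL⟩ := exists_avoid_two hT hL
  suffices hne : Q (act Q (refl Q _ hd * (refl Q v hv * g)) y - y) ≠ 0 by
    have h := of_displacement Q hQ ih _ (hk.trans hk') hne
    have h' := (R Q).mul_mem ((R Q).inv_mem (refl_mem Q v hv)) ((R Q).mul_mem ((R Q).inv_mem (refl_mem Q _ hd)) h)
    rwa [inv_mul_cancel_left, inv_mul_cancel_left] at h'
  have hTy : T y = c * ev y - (Q v)⁻¹ * polar Q v (act Q g y) := by
    simp [T, fB, lin_apply]
  have hLy : L y = polar Q v x * ev y - polar Q v y := by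
    simp [L, fA]
  rw [LinearMap.mem_ker, hTy] at hyT
  rw [LinearMap.mem_ker, hLy] at hyL
  rw [act_mul, act_refl, hQd, hdval, ← hev]
  have hval : act Q (refl Q v hv * g) y - ev y • d - y =
      ((act Q g y - y) + (-ev y) • μ) + (c * ev y - (Q v)⁻¹ * polar Q v (act Q g y)) • v := by
    rw [act_mul, act_refl, hddef]; module
  have hts' : Q ((act Q g y - y) + (-ev y) • μ) = 0 := by
    rw [QuadraticMap.map_add (⇑Q), QuadraticMap.map_smul, hts, hts, polar_smul_right, hμ, hμμ]; simp
  have hμ' : polar Q ((act Q g y - y) + (-ev y) • μ) v =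
      polar Q v (act Q g y) - polar Q v y - ev y * (polar Q v (act Q g x) - polar Q v x) := by
    rw [polar_add_left, polar_smul_left, hBμv, polar_sub_left, polar_comm (⇑Q) _ v, polar_comm (⇑Q) y v, smul_eq_mul]
    ring
  rw [hval, QuadraticMap.map_add (⇑Q), hts', QuadraticMap.map_smul, polar_smul_right, hμ', smul_eq_mul, smul_eq_mul]
  have e : c * Q v = polar Q v (act Q g x) := by rw [hc]; field_simp
  intro h
  apply mul_ne_zero hyT hyL
  rw [← e] at h
  field_simp at h ⊢
  linear_combination h

/-- Reflections generate, apart from the hyperbolic quadric of dimension four over two elements. -/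
theorem eq_top (hex : Fintype.card F ≠ 2 ∨ n ≠ 4) : R Q = ⊤ := by
  suffices key : ∀ j, ∀ g : O Q, n ≤ finrank F (Fix Q g) + j → g ∈ R Q from
    eq_top_iff.2 fun g _ => key n g (Nat.le_add_left _ _)
  intro j
  induction j with
  | zero =>
    intro g hg
    have h : Fix Q g = ⊤ := Submodule.eq_top_of_finrank_eq (le_antisymm (Submodule.finrank_le _) (by
      rwa [finrank_pi]))
    rw [show g = 1 from Subtype.ext (Units.ext (Matrix.toLin'.injective (LinearMap.ext fun y => by
      have hy : act Q g y = y := (mem_Fix Q g y).1 (h ▸ trivial)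
      simpa [lin_apply, act] using hy)))]
    exact one_mem _
  | succ j ih =>
    intro g hg
    rcases eq_or_ne g 1 with rfl | hg1
    · exact one_mem _
    have ih' : ∀ g' : O Q, finrank F (Fix Q g) < finrank F (Fix Q g') → g' ∈ R Q := fun g' h =>
      ih g' (by omega)
    by_cases hts : ∀ x, Q (act Q g x - x) = 0
    · by_cases hfix : ∀ w ∈ Fix Q g, Q w = 0
      · exact of_unfixed Q hQ hex ih' g le_rfl hg1 hts hfix
      · push Not at hfix
        obtain ⟨v, hv1, hv2⟩ := hfix
        exact of_fixed Q hQ ih' g le_rfl hg1 hts hv2 ((mem_Fix Q g v).1 hv1)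
    · push Not at hts
      obtain ⟨x, hx⟩ := hts
      exact of_displacement Q hQ ih' g le_rfl hx

end Cfsg.Agent.Classical.Refl
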