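import Cfsg.Agent.Lib.Classical.SL2Two

/-!
Klein four subgroups of two dimensional projective special linear groups.
-/

set_option autoImplicit false
set_option linter.style.haveILetI false
set_option linter.unusedSectionVars false

open scoped MatrixGroups
open Matrix

namespace Cfsg.Agent.Classical.SL2Two

open SL2

variable {F : Type*} [Field F] [Fintype F]

local notation "M2" => Matrix (Fin 2) (Fin 2) F
local notation "S2" => SpecialLinearGroup (Fin 2) F
local notation "P2" => Matrix.ProjectiveSpecialLinearGroup (Fin 2) F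

theorem negOne_mul_self (h2 : (2 : F) ≠ 0) : (negOne : S2) * negOne = 1 :=
  (SL2Two.sq_eq_one_iff h2 _).2 (Or.inr rfl)

theorem negOne_comm (h2 : (2 : F) ≠ 0) (g : S2) : negOne * g = g * negOne :=
  ((Subgroup.mem_center_iff.1 ((mem_center_iff (negOne : S2)).2 (Or.inr rfl))) g).symm

theorem inv_eq_mul_negOne (h2 : (2 : F) ≠ 0) (g : S2) (hg : (g : M2).trace = 0) :
    g⁻¹ = g * negOne := by
  refine inv_eq_of_mul_eq_one_right ?_
  rw [← mul_assoc, sq_of_trace_zero g hg, negOne_mul_self h2]

theorem proj_eq_iff (a b : S2) : proj a = proj b ↔ a = b ∨ a = b * negOne := by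
  constructor
  · intro e
    have h : proj (b⁻¹ * a) = 1 := by rw [map_mul, map_inv, e, inv_mul_cancel]
    rcases (proj_eq_one_iff _).1 h with h | h
    · exact Or.inl (inv_mul_eq_one.1 h).symm
    · exact Or.inr (inv_mul_eq_iff_eq_mul.1 h)
  · rintro (rfl | rfl)
    · rfl
    · rw [map_mul, (proj_eq_one_iff negOne).2 (Or.inr rfl), mul_one]

theorem trace_zero_of_inverting (h2 : (2 : F) ≠ 0) {g h : S2} (hg : (g : M2).trace = 0)
    (hh : h * g * h⁻¹ = g⁻¹) : (h : M2).trace = 0 := by
  have e : h * g = g⁻¹ * h := mul_inv_eq_iff_eq_mul.1 hh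
  have e' : (h : M2) * (g : M2) = -((g : M2) * (h : M2)) := by
    have := congrArg (fun x : S2 => (x : M2)) e
    simp only [coe_mul', coe_neg_inv g hg] at this
    rw [this, neg_mul]
  have e1 : (h : M2) * ((g : M2) * (g : M2)) = -((g : M2) * (h : M2) * (g : M2)) := by
    rw [← Matrix.mul_assoc, e', neg_mul]
  have hgg : (g : M2) * (g : M2) = -1 := by
    rw [← coe_mul', sq_of_trace_zero g hg, coe_negOne]
  rw [hgg, mul_neg, mul_one] at e1
  have e2 := congrArg Matrix.trace (neg_inj.1 e1)
  rw [Matrix.trace_mul_comm, ← Matrix.mul_assoc, hgg, neg_mul, one_mul, Matrix.trace_neg] at e2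
  exact (mul_eq_zero.1 (show (2 : F) * (h : M2).trace = 0 by linear_combination e2)).resolve_left h2

theorem eq_of_commuting (h2 : (2 : F) ≠ 0) {g h : S2} (hg : (g : M2).trace = 0)
    (hh : (h : M2).trace = 0) (hc : h * g = g * h) : h = g ∨ h = g * negOne := by
  have hns : ¬ ∃ a : F, (g : M2) = a • 1 := by
    rintro ⟨a, ha⟩
    have h1 := g.2
    rw [ha] at hg h1
    rw [Matrix.trace_smul, Matrix.trace_one, Fintype.card_fin, smul_eq_mul] at hg
    have ha0 : a = 0 := (mul_eq_zero.1 hg).resolve_right (by exact_mod_cast h2)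
    rw [ha0, zero_smul, Matrix.det_zero] at h1
    exact zero_ne_one h1
  obtain ⟨a, b, hab⟩ := exists_affine hns (h := (h : M2))
    (congrArg (fun x : S2 => (x : M2)) hc.symm)
  have ha : a = 0 := by
    rw [hab, Matrix.trace_add, Matrix.trace_smul, Matrix.trace_smul, hg, smul_zero, add_zero,
      Matrix.trace_one, Fintype.card_fin, smul_eq_mul] at hh
    exact (mul_eq_zero.1 hh).resolve_right (by exact_mod_cast h2)
  rw [ha, zero_smul, zero_add] at hab
  have hb : b * b = 1 := by
    have := h.2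
    rw [hab, Matrix.det_smul, g.2, mul_one, Fintype.card_fin, sq] at this
    exact this
  rcases mul_self_eq_one_iff.1 hb with e | e
  · left; apply sl_ext; rw [hab, e, one_smul]
  · right; apply sl_ext; rw [hab, e, coe_mul', coe_negOne, mul_neg, mul_one, neg_smul, one_smul]

/-- Pairs of an involution and an element inverting it. -/
abbrev Inverting (F : Type*) [Field F] [Fintype F] : Type _ :=
  {p : SpecialLinearGroup (Fin 2) F × SpecialLinearGroup (Fin 2) F //
    (p.1 : Matrix (Fin 2) (Fin 2) F).trace = 0 ∧ p.2 * p.1 * p.2⁻¹ = p.1⁻¹}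

/-- Ordered pairs of distinct commuting involutions of `PSL₂`. -/
abbrev CommPairs (F : Type*) [Field F] [Fintype F] : Type _ :=
  {p : Matrix.ProjectiveSpecialLinearGroup (Fin 2) F × Matrix.ProjectiveSpecialLinearGroup (Fin 2) F //
    orderOf p.1 = 2 ∧ orderOf p.2 = 2 ∧ p.1 * p.2 = p.2 * p.1 ∧ p.1 ≠ p.2}

theorem card_inverting (h2 : (2 : F) ≠ 0) : Nat.card (Inverting F) = Nat.card S2 := by
  classical
  haveI : Fintype S2 := Fintype.ofFinite S2
  let e : Inverting F ≃ Σ g : {g : S2 // (g : M2).trace = 0}, {h : S2 // h * g.1 * h⁻¹ = g.1⁻¹} :=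
    { toFun := fun p => ⟨⟨p.1.1, p.2.1⟩, ⟨p.1.2, p.2.2⟩⟩
      invFun := fun q => ⟨(q.1.1, q.2.1), q.1.2, q.2.2⟩
      left_inv := fun _ => rfl
      right_inv := fun _ => rfl }
  have hfib : ∀ g : {g : S2 // (g : M2).trace = 0},
      Nat.card {h : S2 // h * g.1 * h⁻¹ = g.1⁻¹} = Nat.card (Subgroup.centralizer ({g0} : Set S2)) := by
    rintro ⟨g, hg⟩
    obtain ⟨c, rfl⟩ := conj_g0 h2 g hg
    rw [← card_conj_eq_inv h2]
    refine Nat.card_congr ((MulAut.conj c⁻¹).toEquiv.subtypeEquiv fun x => ?_)
    show x * (c * g0 * c⁻¹) * x⁻¹ = (c * g0 * c⁻¹)⁻¹ ↔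
      c⁻¹ * x * c⁻¹⁻¹ * g0 * (c⁻¹ * x * c⁻¹⁻¹)⁻¹ = g0⁻¹
    constructor
    · intro hx
      calc c⁻¹ * x * c⁻¹⁻¹ * g0 * (c⁻¹ * x * c⁻¹⁻¹)⁻¹
          = c⁻¹ * (x * (c * g0 * c⁻¹) * x⁻¹) * c := by group
        _ = g0⁻¹ := by rw [hx]; group
    · intro hx
      calc x * (c * g0 * c⁻¹) * x⁻¹
          = c * (c⁻¹ * x * c⁻¹⁻¹ * g0 * (c⁻¹ * x * c⁻¹⁻¹)⁻¹) * c⁻¹ := by group
        _ = (c * g0 * c⁻¹)⁻¹ := by rw [hx]; group
  rw [Nat.card_congr e, Nat.card_sigma, Finset.sum_congr rfl fun g _ => hfib g, Finset.sum_const,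
    Finset.card_univ, smul_eq_mul, ← Nat.card_eq_fintype_card, card_class_g0_mul h2]

theorem card_commPairs (h2 : (2 : F) ≠ 0) : 4 * Nat.card (CommPairs F) = Nat.card S2 := by
  classical
  haveI : Finite P2 := Finite.of_surjective _ proj_surjective
  haveI : Fintype (CommPairs F) := Fintype.ofFinite _
  have hz : proj (negOne : S2) = 1 := (proj_eq_one_iff negOne).2 (Or.inr rfl)
  let f : Inverting F → CommPairs F := fun p => ⟨(proj p.1.1, proj p.1.2), by
    obtain ⟨⟨g, h⟩, hg, hgh⟩ := p
    have ht := trace_zero_of_inverting h2 hg hgh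
    refine ⟨(orderOf_proj_two_iff h2 g).2 hg, (orderOf_proj_two_iff h2 h).2 ht, ?_, ?_⟩
    · show proj g * proj h = proj h * proj g
      have e : h * g = g * negOne * h := by
        rw [← inv_eq_mul_negOne h2 g hg]; exact mul_inv_eq_iff_eq_mul.1 hgh
      rw [← map_mul, ← map_mul, e, map_mul, map_mul, map_mul, hz, mul_one]
    · intro e
      have hne : g⁻¹ ≠ g := by
        intro e'
        have h1 : g * g = 1 := by rw [← inv_eq_iff_mul_eq_one.1 e']
        rw [sq_of_trace_zero g hg] at h1
        exact negOne_ne_one h2 h1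
      have hcomm : h * g * h⁻¹ = g := by
        rcases (proj_eq_iff h g).1 e.symm with rfl | rfl
        · rw [mul_inv_cancel_right]
        · rw [mul_assoc g, negOne_comm h2, ← mul_assoc, _root_.mul_inv_rev, mul_assoc, ← mul_assoc negOne,
            mul_inv_cancel, one_mul, mul_inv_cancel_right]
      exact hne (hgh.symm.trans hcomm)⟩
  have hfib : ∀ P : CommPairs F, Nat.card {p : Inverting F // f p = P} = 4 := by
    rintro ⟨⟨x, y⟩, hx, hy, hxy, hne⟩
    obtain ⟨g, rfl⟩ := proj_surjective x
    obtain ⟨h, rfl⟩ := proj_surjective y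
    have hg := (orderOf_proj_two_iff h2 g).1 hx
    have hh := (orderOf_proj_two_iff h2 h).1 hy
    have hinv : ∀ a b : S2, proj a = proj g → proj b = proj h →
        (a : M2).trace = 0 ∧ b * a * b⁻¹ = a⁻¹ := by
      intro a b ha hb
      have hat : (a : M2).trace = 0 := (orderOf_proj_two_iff h2 a).1 (by rw [ha]; exact hx)
      have hbt : (b : M2).trace = 0 := (orderOf_proj_two_iff h2 b).1 (by rw [hb]; exact hy)
      refine ⟨hat, ?_⟩
      have e : proj (b * a) = proj (a * b) := by rw [map_mul, map_mul, ha, hb, hxy]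
      rcases (proj_eq_iff _ _).1 e with e | e
      · exfalso
        rcases eq_of_commuting h2 hat hbt e with rfl | rfl
        · exact hne (ha.symm.trans hb)
        · rw [map_mul, hz, mul_one] at hb
          exact hne (ha.symm.trans hb)
      · rw [mul_inv_eq_iff_eq_mul, e, inv_eq_mul_negOne h2 a hat, mul_assoc, mul_assoc,
          negOne_comm h2]
    let e : {p : Inverting F // f p = ⟨(proj g, proj h), hx, hy, hxy, hne⟩} ≃
        {a : S2 // proj a = proj g} × {b : S2 // proj b = proj h} :=
      { toFun := fun p => (⟨p.1.1.1, congrArg (fun q : CommPairs F => q.1.1) p.2⟩,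
          ⟨p.1.1.2, congrArg (fun q : CommPairs F => q.1.2) p.2⟩)
        invFun := fun q => ⟨⟨(q.1.1, q.2.1), hinv _ _ q.1.2 q.2.2⟩,
          Subtype.ext (Prod.ext q.1.2 q.2.2)⟩
        left_inv := fun _ => rfl
        right_inv := fun _ => rfl }
    have hcard : ∀ a : S2, Nat.card {b : S2 // proj b = proj a} = 2 := by
      intro a
      rw [Nat.card_congr (Equiv.subtypeEquivRight (q := fun b => b = a ∨ b = a * negOne)
        fun b => proj_eq_iff b a)]
      show Nat.card ({b : S2 | b = a ∨ b = a * negOne} : Set S2) = 2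
      rw [Nat.card_coe_set_eq, show {b : S2 | b = a ∨ b = a * negOne} = {a, a * negOne} by ext; simp]
      refine Set.ncard_pair fun e => negOne_ne_one h2 ?_
      exact mul_left_cancel (e.symm.trans (mul_one a).symm)
    rw [Nat.card_congr e, Nat.card_prod, hcard, hcard]
  rw [← card_inverting h2, ← Nat.card_congr (Equiv.sigmaFiberEquiv f), Nat.card_sigma,
    Finset.sum_congr rfl fun P _ => hfib P, Finset.sum_const, Finset.card_univ, smul_eq_mul,
    ← Nat.card_eq_fintype_card, mul_comm]

theorem card_klein_mul {G : Type*} [Group G] [Finite G] :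
    6 * Nat.card {V : Subgroup G // IsKleinFour V} =
      Nat.card {p : G × G // orderOf p.1 = 2 ∧ orderOf p.2 = 2 ∧ p.1 * p.2 = p.2 * p.1 ∧ p.1 ≠ p.2} := by
  classical
  haveI : Fintype {V : Subgroup G // IsKleinFour V} := Fintype.ofFinite _
  let P := {p : G × G // orderOf p.1 = 2 ∧ orderOf p.2 = 2 ∧ p.1 * p.2 = p.2 * p.1 ∧ p.1 ≠ p.2}
  have hV : ∀ p : P, ∃ V : Subgroup G, IsKleinFour V ∧ p.1.1 ∈ V ∧ p.1.2 ∈ V := by
    rintro ⟨⟨x, y⟩, hx, hy, hxy, hne⟩
    have hx2 : x * x = 1 := by rw [← sq, ← hx, pow_orderOf_eq_one]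
    have hy2 : y * y = 1 := by rw [← sq, ← hy, pow_orderOf_eq_one]
    have hx1 : x ≠ 1 := fun e => by rw [e, orderOf_one] at hx; norm_num at hx
    have hy1 : y ≠ 1 := fun e => by rw [e, orderOf_one] at hy; norm_num at hy
    have hc1 : y * x = x * y := hxy.symm
    have hc2 : y * (x * y) = x := by rw [← mul_assoc, hc1, mul_assoc, hy2, mul_one]
    have hc3 : x * (x * y) = y := by rw [← mul_assoc, hx2, one_mul]
    have hc4 : x * y * x = y := by rw [mul_assoc, hc1, hc3]
    have hc5 : x * y * y = x := by rw [mul_assoc, hy2, mul_one]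
    have hc6 : x * y * (x * y) = 1 := by rw [← mul_assoc, hc4, hy2]
    let V : Subgroup G :=
      { carrier := {1, x, y, x * y}
        one_mem' := Set.mem_insert _ _
        mul_mem' := by
          intro a b ha hb
          simp only [Set.mem_insert_iff, Set.mem_singleton_iff] at ha hb ⊢
          rcases ha with rfl | rfl | rfl | rfl <;> rcases hb with rfl | rfl | rfl | rfl <;>
            simp [hx2, hy2, hc1, hc2, hc3, hc4, hc5, hc6]
        inv_mem' := by
          intro a ha
          simp only [Set.mem_insert_iff, Set.mem_singleton_iff] at ha ⊢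
          rcases ha with rfl | rfl | rfl | rfl
          · simp
          · exact Or.inr (Or.inl (inv_eq_of_mul_eq_one_right hx2))
          · exact Or.inr (Or.inr (Or.inl (inv_eq_of_mul_eq_one_right hy2)))
          · exact Or.inr (Or.inr (Or.inr (inv_eq_of_mul_eq_one_right hc6))) }
    have hxy1 : (1 : G) ≠ x * y := fun e => hne (by rw [← hc5, ← e, one_mul])
    have hcard : Nat.card V = 4 := by
      show Nat.card ({1, x, y, x * y} : Set G) = 4
      rw [Nat.card_coe_set_eq, Set.ncard_insert_of_notMem, Set.ncard_insert_of_notMem,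
        Set.ncard_pair]
      · exact fun e => hx1 (by rw [← hc5, ← e, hy2])
      · simp [hne, hy1]
      · simp [Ne.symm hx1, Ne.symm hy1, hxy1]
    refine ⟨V, ⟨hcard, ?_⟩, Or.inr (Or.inl rfl), Or.inr (Or.inr (Or.inl rfl))⟩
    haveI : Nontrivial V := Finite.one_lt_card_iff_nontrivial.1 (by rw [hcard]; norm_num)
    refine Monoid.exponent_eq_prime_iff Nat.prime_two |>.2 fun v hv => ?_
    refine orderOf_eq_prime ?_ hv
    rcases v.2 with e | e | e | e <;> refine Subtype.ext ?_ <;>
      simp only [sq, Subgroup.coe_mul, Subgroup.coe_one] <;> rw [e]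
    · exact one_mul 1
    · exact hx2
    · exact hy2
    · exact hc6
  choose f hf hfx hfy using hV
  let F' : P → {V : Subgroup G // IsKleinFour V} := fun p => ⟨f p, hf p⟩
  haveI : Fintype P := Fintype.ofFinite _
  have hfib : ∀ V, Nat.card {p : P // F' p = V} = 6 := by
    rintro ⟨V, hVk⟩
    haveI := hVk
    haveI : Fintype V := Fintype.ofFinite V
    have hord : ∀ a : V, a ≠ 1 → orderOf (a : G) = 2 := fun a ha => by
      rw [Subgroup.orderOf_coe]
      exact orderOf_eq_prime (by rw [← IsKleinFour.exponent_two (G := V)]; exact Monoid.pow_exponent_eq_one a) ha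
    have hcom : ∀ a b : V, a * b = b * a := fun a b => by
      have hs : ∀ c : V, c * c = 1 := fun c => by
        rw [← sq, ← IsKleinFour.exponent_two (G := V)]; exact Monoid.pow_exponent_eq_one c
      have hi : ∀ c : V, c⁻¹ = c := fun c => inv_eq_of_mul_eq_one_right (hs c)
      calc a * b = (a * b)⁻¹ := (hi _).symm
        _ = b⁻¹ * a⁻¹ := mul_inv_rev a b
        _ = b * a := by rw [hi, hi]
    let e : {p : P // F' p = ⟨V, hVk⟩} ≃ {q : V × V // q.1 ≠ 1 ∧ q.2 ≠ 1 ∧ q.1 ≠ q.2} :=
      { toFun := fun p => ⟨(⟨p.1.1.1, (congrArg Subtype.val p.2).le (hfx p.1)⟩,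
            ⟨p.1.1.2, (congrArg Subtype.val p.2).le (hfy p.1)⟩),
          fun e => by
            have := p.1.2.1
            rw [show p.1.1.1 = 1 from congrArg Subtype.val e, orderOf_one] at this
            norm_num at this,
          fun e => by
            have := p.1.2.2.1
            rw [show p.1.1.2 = 1 from congrArg Subtype.val e, orderOf_one] at this
            norm_num at this,
          fun e => p.1.2.2.2.2 (congrArg Subtype.val e)⟩
        invFun := fun q => ⟨⟨((q.1.1 : G), (q.1.2 : G)), hord _ q.2.1, hord _ q.2.2.1,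
            congrArg Subtype.val (hcom q.1.1 q.1.2), fun e => q.2.2.2 (Subtype.ext e)⟩, by
          refine Subtype.ext ?_
          show f _ = V
          generalize hp : (⟨((q.1.1 : G), (q.1.2 : G)), _⟩ : P) = p
          haveI := hf p
          have h1 : p.1.1 = (q.1.1 : G) := by rw [← hp]
          have h2' : p.1.2 = (q.1.2 : G) := by rw [← hp]
          haveI : Fintype (f p) := Fintype.ofFinite (f p)
          have hu := IsKleinFour.eq_finset_univ (G := V) q.2.1 q.2.2.1 q.2.2.2
          refine (Subgroup.eq_of_le_of_card_ge ?_ (by rw [(hf p).card_four, hVk.card_four])).symm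
          intro v hv
          have hm : (⟨v, hv⟩ : V) ∈ ({q.1.1 * q.1.2, q.1.1, q.1.2, 1} : Finset V) := by
            rw [hu]; exact Finset.mem_univ _
          simp only [Finset.mem_insert, Finset.mem_singleton] at hm
          rcases hm with e | e | e | e <;> rw [show v = ((⟨v, hv⟩ : V) : G) from rfl, e]
          · rw [Subgroup.coe_mul, ← h1, ← h2']; exact mul_mem (hfx p) (hfy p)
          · rw [← h1]; exact hfx p
          · rw [← h2']; exact hfy p
          · exact one_mem _⟩
        left_inv := fun _ => rfl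
        right_inv := fun _ => rfl }
    rw [Nat.card_congr e, Nat.card_eq_fintype_card, Fintype.card_subtype]
    have h4 : Fintype.card V = 4 := by rw [← Nat.card_eq_fintype_card]; exact hVk.card_four
    have hset : (Finset.univ.filter fun q : V × V => q.1 ≠ 1 ∧ q.2 ≠ 1 ∧ q.1 ≠ q.2) =
        ((Finset.univ : Finset V).erase 1).offDiag := by
      ext ⟨a, b⟩
      simp [Finset.mem_offDiag]
    rw [hset, Finset.offDiag_card, Finset.card_erase_of_mem (Finset.mem_univ _), Finset.card_univ, h4]
  rw [← Nat.card_congr (Equiv.sigmaFiberEquiv F'), Nat.card_sigma, Finset.sum_congr rfl fun V _ => hfib V,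
    Finset.sum_const, Finset.card_univ, smul_eq_mul, ← Nat.card_eq_fintype_card, mul_comm]

theorem twelve_mul_card_klein (h2 : (2 : F) ≠ 0) :
    12 * Nat.card {V : Subgroup P2 // IsKleinFour V} = Nat.card P2 := by
  haveI : Finite P2 := Finite.of_surjective _ proj_surjective
  have h6 := card_klein_mul (G := P2)
  have h4 := card_commPairs (F := F) h2
  have hodd : Fintype.card F % 2 = 1 := FiniteField.odd_card_of_char_ne_two fun h =>
    h2 (by have := CharP.cast_eq_zero F (ringChar F); rw [h] at this; simpa using this)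
  have hc := card_PSL2_mul (F := F)
  rw [Nat.gcd_eq_left (Nat.dvd_of_mod_eq_zero (by omega)), ← card_SL2, ← h4] at hc
  refine Nat.eq_of_mul_eq_mul_left two_pos (Eq.trans ?_ hc.symm)
  rw [show Nat.card (CommPairs F) = 6 * Nat.card {V : Subgroup P2 // IsKleinFour V} from h6.symm]
  ring

end Cfsg.Agent.Classical.SL2Two
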