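import Cfsg.Agent.Lib.Classical.FieldFour
import Cfsg.Agent.S0243

/-!
Elements of `PSL₃(4)`: one class of involutions, no elements of order fifteen.
-/

set_option autoImplicit false
set_option linter.style.haveILetI false

namespace Cfsg.Agent.Classical.SLThreeFour

open Matrix

theorem center_scalar {F : Type*} [Field F] (z : Matrix.SpecialLinearGroup (Fin 3) F)
    (hz : z ∈ Subgroup.center (Matrix.SpecialLinearGroup (Fin 3) F)) :
    ∃ c : F, c ^ 3 = 1 ∧ (z : Matrix (Fin 3) (Fin 3) F) = scalar (Fin 3) c := by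
  obtain ⟨c, hc, e⟩ := Matrix.SpecialLinearGroup.mem_center_iff.1 hz
  rw [Fintype.card_fin] at hc
  exact ⟨c, hc, e.symm⟩

theorem center_pow_three {F : Type*} [Field F] (z : Matrix.SpecialLinearGroup (Fin 3) F)
    (hz : z ∈ Subgroup.center (Matrix.SpecialLinearGroup (Fin 3) F)) : z ^ 3 = 1 := by
  obtain ⟨c, hc, e⟩ := center_scalar z hz
  apply Subtype.ext
  show ((z ^ 3 : Matrix.SpecialLinearGroup (Fin 3) F) : Matrix (Fin 3) (Fin 3) F) = 1
  rw [Matrix.SpecialLinearGroup.coe_pow, e, ← map_pow, hc, map_one]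

theorem involution_normal_form {F : Type*} [Field F] [CharP F 2] (t : Matrix.SpecialLinearGroup (Fin 3) F)
    (ht : t * t = 1) (ht1 : t ≠ 1) :
    ∃ P : Matrix.SpecialLinearGroup (Fin 3) F,
      (t : Matrix (Fin 3) (Fin 3) F) * (P : Matrix (Fin 3) (Fin 3) F) = (P : Matrix (Fin 3) (Fin 3) F) * !![1, 0, 1; 0, 1, 0; 0, 0, 1] := by
  classical
  set T := (t : Matrix (Fin 3) (Fin 3) F) with hT
  let N : (Fin 3 → F) →ₗ[F] (Fin 3 → F) := Matrix.mulVecLin (T - 1)
  have hN : ∀ x, N x = T *ᵥ x - x := fun x => by simp [N, Matrix.sub_mulVec]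
  have hTT : T * T = 1 := congrArg Subtype.val ht
  have hNN : ∀ x, N (N x) = 0 := fun x => by
    show (T - 1) *ᵥ ((T - 1) *ᵥ x) = 0
    rw [Matrix.mulVec_mulVec, sub_mul, mul_sub, mul_sub, hTT]
    have e : (1 : Matrix (Fin 3) (Fin 3) F) - T * 1 - (1 * T - 1 * 1) = (2 : F) • (1 - T) := by
      simp only [mul_one, one_mul]; module
    rw [e, CharTwo.two_eq_zero, zero_smul, Matrix.zero_mulVec]
  obtain ⟨w, hw⟩ : ∃ w, N w ≠ 0 := by
    by_contra! hc
    refine ht1 (Subtype.ext ?_)
    refine Matrix.ext_of_mulVec_single fun i => ?_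
    have := hc (Pi.single i 1)
    rw [hN, sub_eq_zero] at this
    show T *ᵥ Pi.single i 1 = (1 : Matrix (Fin 3) (Fin 3) F) *ᵥ Pi.single i 1
    rw [Matrix.one_mulVec]
    exact this
  set v := N w with hv
  have hvk : v ∈ LinearMap.ker N := hNN w
  have hdim : 2 ≤ Module.finrank F (LinearMap.ker N) := by
    have h := LinearMap.finrank_range_add_finrank_ker N
    have h2 : Module.finrank F (LinearMap.range N) ≤ Module.finrank F (LinearMap.ker N) :=
      Submodule.finrank_mono (by rintro _ ⟨x, rfl⟩; exact hNN x)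
    rw [Module.finrank_pi, Fintype.card_fin] at h
    omega
  obtain ⟨u, huk, hu⟩ : ∃ u ∈ LinearMap.ker N, u ∉ Submodule.span F {v} := by
    by_contra! hc
    have := (Submodule.finrank_mono (show LinearMap.ker N ≤ Submodule.span F {v} from hc)).trans_eq
      (finrank_span_singleton hw)
    omega
  let cols : F → Matrix (Fin 3) (Fin 3) F := fun d => (Matrix.of ![v, d • u, w])ᵀ
  have hli : LinearIndependent F ![v, u, w] := by
    rw [Fintype.linearIndependent_iff]
    intro g hg
    simp only [Fin.sum_univ_three, Matrix.cons_val_zero, Matrix.cons_val_one, Matrix.cons_val_two,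
      Matrix.tail_cons, Matrix.head_cons] at hg
    have h2 : g 2 = 0 := by
      have := congrArg N hg
      rw [map_add, map_add, map_smul, map_smul, map_smul, show N v = 0 from hvk, show N u = 0 from huk,
        smul_zero, smul_zero, zero_add, zero_add, map_zero] at this
      exact (smul_eq_zero.1 this).resolve_right hw
    rw [h2, zero_smul, add_zero] at hg
    have h1 : g 1 = 0 := by
      by_contra h
      apply hu
      have e : u = (-(g 1)⁻¹ * g 0) • v := by
        rw [mul_smul, ← sub_eq_zero]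
        have := congrArg ((g 1)⁻¹ • ·) hg
        simp only [smul_add, smul_smul, inv_mul_cancel₀ h, one_smul, smul_zero] at this
        rw [smul_smul, neg_mul, neg_smul, sub_neg_eq_add, add_comm]
        exact this
      exact e ▸ Submodule.smul_mem _ _ (Submodule.mem_span_singleton_self v)
    rw [h1, zero_smul, add_zero] at hg
    have h0 : g 0 = 0 := (smul_eq_zero.1 hg).resolve_right hw
    intro i; fin_cases i <;> assumption
  have hd : (cols 1).det ≠ 0 := by
    have hu' : IsUnit (cols 1) := by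
      rw [← Matrix.linearIndependent_cols_iff_isUnit]
      have e : (cols 1).col = ![v, u, w] := by funext j i; fin_cases j <;> simp [cols, Matrix.col]
      rw [e]; exact hli
    exact ((Matrix.isUnit_iff_isUnit_det _).1 hu').ne_zero
  have hscale : ∀ d, (cols d).det = d * (cols 1).det := by
    intro d
    simp [cols, Matrix.det_fin_three]
    ring
  refine ⟨(⟨cols (cols 1).det⁻¹, by rw [hscale, inv_mul_cancel₀ hd]⟩ : Matrix.SpecialLinearGroup (Fin 3) F), ?_⟩
  have hTv : ∀ x, x ∈ LinearMap.ker N → T *ᵥ x = x := fun x hx => by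
    have h := (hN x).symm.trans hx
    rwa [sub_eq_zero] at h
  have hTw : T *ᵥ w = v + w := by rw [hv, hN, sub_add_cancel]
  show T * cols _ = cols _ * _
  ext i j
  have hcol : (T * cols (cols 1).det⁻¹) i j = (T *ᵥ fun k => cols (cols 1).det⁻¹ k j) i := rfl
  rw [hcol]
  fin_cases j
  · rw [show (fun k => cols (cols 1).det⁻¹ k ⟨0, by norm_num⟩) = v from rfl, hTv v hvk]
    simp [cols, Matrix.mul_apply, Fin.sum_univ_three]
  · rw [show (fun k => cols (cols 1).det⁻¹ k ⟨1, by norm_num⟩) = (cols 1).det⁻¹ • u from rfl,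
      Matrix.mulVec_smul, hTv u huk]
    simp [cols, Matrix.mul_apply, Fin.sum_univ_three]
  · rw [show (fun k => cols (cols 1).det⁻¹ k ⟨2, by norm_num⟩) = w from rfl, hTw]
    simp [cols, Matrix.mul_apply, Fin.sum_univ_three]

theorem isConj_involutions {F : Type*} [Field F] [CharP F 2] (x y : ProjectiveSpecialLinearGroup (Fin 3) F)
    (hx : orderOf x = 2) (hy : orderOf y = 2) : IsConj x y := by
  let t0 : Matrix.SpecialLinearGroup (Fin 3) F := ⟨!![1, 0, 1; 0, 1, 0; 0, 0, 1], by simp [Matrix.det_fin_three]⟩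
  have key : ∀ x : ProjectiveSpecialLinearGroup (Fin 3) F, orderOf x = 2 →
      IsConj (t0 : ProjectiveSpecialLinearGroup (Fin 3) F) x := by
    intro x hx
    obtain ⟨u, rfl⟩ := QuotientGroup.mk_surjective x
    have hsq : u * u ∈ Subgroup.center (Matrix.SpecialLinearGroup (Fin 3) F) := by
      rw [← QuotientGroup.eq_one_iff, QuotientGroup.mk_mul, ← sq]
      have := pow_orderOf_eq_one (u : ProjectiveSpecialLinearGroup (Fin 3) F)
      rwa [hx] at this
    have h3 := center_pow_three _ hsq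
    set t := u * (u * u) with ht
    have htt : t * t = 1 := by
      rw [← h3, ht, pow_three]
      simp only [mul_assoc]
    have htx : (t : ProjectiveSpecialLinearGroup (Fin 3) F) = (u : ProjectiveSpecialLinearGroup (Fin 3) F) := by
      rw [ht, QuotientGroup.mk_mul, (QuotientGroup.eq_one_iff _).2 hsq, mul_one]
    have ht1 : t ≠ 1 := fun e => by
      rw [← htx, e, QuotientGroup.mk_one, orderOf_one] at hx
      omega
    obtain ⟨P, hP⟩ := involution_normal_form t htt ht1
    rw [← htx]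
    refine isConj_iff.2 ⟨(P : ProjectiveSpecialLinearGroup (Fin 3) F), ?_⟩
    rw [← QuotientGroup.mk_inv, ← QuotientGroup.mk_mul, ← QuotientGroup.mk_mul]
    congr 1
    rw [mul_inv_eq_iff_eq_mul]
    exact Subtype.ext hP.symm
  exact (key x hx).symm.trans (key y hy)

def x5 : Matrix.SpecialLinearGroup (Fin 3) F4 := ⟨!![1, 0, 0; 0, 0, 1; 0, 1, F4.w], by decide +kernel⟩

theorem x5_order : x5 ^ 5 = 1 ∧ ¬ (∀ c : F4, (x5 : Matrix (Fin 3) (Fin 3) F4) = scalar (Fin 3) c) := by
  decide +kernel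

theorem x5_nonscalar : ∀ c : F4, (x5 : Matrix (Fin 3) (Fin 3) F4) ≠ scalar (Fin 3) c := by decide +kernel

theorem eqs : ∀ a b : F4, a = b → a + F4.w * b = b → a = 0 ∧ b = 0 := by decide +kernel

theorem eqs' : ∀ a b : F4, b = a → a + b * F4.w = b → a = 0 ∧ b = 0 := by decide +kernel

theorem block : ∀ a b c : F4, (!![c, 0, 0; 0, a, b; 0, b, a + F4.w * b]).det = 1 →
    ∃ d : F4, (!![c, 0, 0; 0, a, b; 0, b, a + F4.w * b]) ^ 5 = scalar (Fin 3) d := by decide +kernel

theorem commutant (Y : Matrix (Fin 3) (Fin 3) F4) (hY : Y * (x5 : Matrix (Fin 3) (Fin 3) F4) = x5 * Y) :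
    ∃ a b c : F4, Y = !![c, 0, 0; 0, a, b; 0, b, a + F4.w * b] := by
  have h := fun i j => congrFun (congrFun hY i) j
  have hx : (x5 : Matrix (Fin 3) (Fin 3) F4) = !![1, 0, 0; 0, 0, 1; 0, 1, F4.w] := rfl
  simp only [hx, Matrix.mul_apply, Fin.sum_univ_three] at h
  have h01 := h 0 1
  have h02 := h 0 2
  have h10 := h 1 0
  have h20 := h 2 0
  have h11 := h 1 1
  have h12 := h 1 2
  simp at h01 h02 h10 h20 h11 h12
  obtain ⟨e1, e2⟩ := eqs' (Y 0 1) (Y 0 2) h01 h02
  obtain ⟨e3, e4⟩ := eqs (Y 1 0) (Y 2 0) h10 h20.symm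
  refine ⟨Y 1 1, Y 1 2, Y 0 0, ?_⟩
  ext i j
  fin_cases i <;> fin_cases j <;> simp [e1, e2, e3, e4]
  · exact h11.symm
  · rw [← h12, mul_comm]

theorem card_psl : Nat.card (ProjectiveSpecialLinearGroup (Fin 3) F4) = 20160 := by
  have h := Cfsg.Agent.S0243.result F4.card_eq 3 (by norm_num)
  rw [Fin.prod_univ_three] at h
  norm_num at h
  rw [Nat.card_eq_fintype_card]
  omega

theorem no_fifteen (g : ProjectiveSpecialLinearGroup (Fin 3) F4) : orderOf g ≠ 15 := by
  classical
  intro hg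
  haveI : Fact (Nat.Prime 5) := ⟨by norm_num⟩
  set X : ProjectiveSpecialLinearGroup (Fin 3) F4 := (x5 : ProjectiveSpecialLinearGroup (Fin 3) F4) with hX
  have hX5 : orderOf X = 5 := orderOf_eq_prime (by rw [hX, ← QuotientGroup.mk_pow, x5_order.1, QuotientGroup.mk_one])
    fun e => by
      obtain ⟨c, -, hc⟩ := center_scalar x5 ((QuotientGroup.eq_one_iff _).1 e)
      exact x5_nonscalar c hc
  have hg3 : orderOf (g ^ 3) = 5 := by rw [orderOf_pow, hg]; norm_num
  have hsyl : ∀ z : ProjectiveSpecialLinearGroup (Fin 3) F4, orderOf z = 5 →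
      Nat.card (Subgroup.zpowers z) = 5 ^ (Nat.card (ProjectiveSpecialLinearGroup (Fin 3) F4)).factorization 5 := by
    intro z hz
    rw [Nat.card_zpowers, hz, card_psl, show (20160 : ℕ) = 5 * 4032 by norm_num,
      Nat.factorization_mul (by norm_num) (by norm_num), Finsupp.add_apply,
      Nat.Prime.factorization_self (by norm_num), Nat.factorization_eq_zero_of_not_dvd (show ¬ 5 ∣ 4032 by norm_num)]
    norm_num
  obtain ⟨c, hc⟩ := MulAction.exists_smul_eq (ProjectiveSpecialLinearGroup (Fin 3) F4)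
    (Sylow.ofCard (Subgroup.zpowers (g ^ 3)) (hsyl _ hg3)) (Sylow.ofCard (Subgroup.zpowers X) (hsyl _ hX5))
  have hmem : X ∈ Subgroup.zpowers (c * g ^ 3 * c⁻¹) := by
    have h1 : X ∈ ((c • (Sylow.ofCard (Subgroup.zpowers (g ^ 3)) (hsyl _ hg3))) : Sylow 5 (ProjectiveSpecialLinearGroup (Fin 3) F4)) := by
      rw [hc]; exact Subgroup.mem_zpowers X
    obtain ⟨u, hu, e⟩ := h1
    obtain ⟨k, rfl⟩ := Subgroup.mem_zpowers_iff.1 hu
    refine Subgroup.mem_zpowers_iff.2 ⟨k, ?_⟩
    rw [← e, conj_zpow]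
    rfl
  obtain ⟨k, hk⟩ := Subgroup.mem_zpowers_iff.1 hmem
  set h := c * g * c⁻¹ with hh
  have hcomm : Commute h X := by
    rw [← hk, show c * g ^ 3 * c⁻¹ = h ^ 3 by rw [hh, conj_pow]]
    exact ((Commute.refl h).pow_right 3).zpow_right k
  have hoh : orderOf h = 15 := by
    rw [hh, ← hg]; exact (MulEquiv.orderOf_eq (MulAut.conj c) g)
  obtain ⟨Y, hY⟩ := QuotientGroup.mk_surjective h
  have hz : (x5 * Y)⁻¹ * (Y * x5) ∈ Subgroup.center (Matrix.SpecialLinearGroup (Fin 3) F4) := by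
    rw [← QuotientGroup.eq, QuotientGroup.mk_mul, QuotientGroup.mk_mul, hY]
    exact hcomm.eq.symm
  obtain ⟨z, hzdef⟩ : ∃ z, z = (x5 * Y)⁻¹ * (Y * x5) := ⟨_, rfl⟩
  rw [← hzdef] at hz
  have hYx : Y * x5 = x5 * Y * z := by rw [hzdef, mul_inv_cancel_left]
  have hz1 : z = 1 := by
    have hzc := fun a => (Subgroup.mem_center_iff.1 hz a)
    have e : Y * x5 * Y⁻¹ = x5 * z := by
      rw [hYx, mul_assoc x5 Y z, hzc Y, mul_assoc x5, mul_assoc z, mul_inv_cancel, mul_one]
    have h5 : z ^ 5 = 1 := by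
      have h' := congrArg (· ^ 5) e
      simp only [conj_pow, x5_order.1, mul_one, mul_inv_cancel, (show Commute x5 z from hzc x5).mul_pow, one_mul] at h'
      exact h'.symm
    have h3 := center_pow_three z hz
    have e1 : z = (z ^ 3) ^ 2 * (z ^ 5)⁻¹ := by
      rw [← pow_mul, show 3 * 2 = 5 + 1 from rfl, pow_succ' z 5, mul_assoc, mul_inv_cancel, mul_one]
    rw [e1, h3, h5]; simp
  rw [hz1, mul_one] at hYx
  obtain ⟨a, b, d, hYm⟩ := commutant (Y : Matrix (Fin 3) (Fin 3) F4) (congrArg Subtype.val hYx)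
  obtain ⟨e, he⟩ := block a b d (by rw [← hYm]; exact Y.2)
  have h5 : h ^ 5 = 1 := by
    rw [← hY, ← QuotientGroup.mk_pow, QuotientGroup.eq_one_iff]
    refine Subgroup.mem_center_iff.2 fun u => Subtype.ext ?_
    show (u : Matrix (Fin 3) (Fin 3) F4) * ((Y ^ 5 : Matrix.SpecialLinearGroup (Fin 3) F4) : Matrix (Fin 3) (Fin 3) F4) =
      ((Y ^ 5 : Matrix.SpecialLinearGroup (Fin 3) F4) : Matrix (Fin 3) (Fin 3) F4) * (u : Matrix (Fin 3) (Fin 3) F4)
    rw [Matrix.SpecialLinearGroup.coe_pow, hYm, he]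
    exact (scalar_commute e (fun r => Commute.all e r) _).eq.symm
  have := orderOf_dvd_of_pow_eq_one h5
  rw [hoh] at this
  norm_num at this

end Cfsg.Agent.Classical.SLThreeFour
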