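import Cfsg.Agent.Lib.Classical.Siegel

/-!
Siegel transformations in dimensions at least five.
-/

set_option autoImplicit false
set_option linter.unusedSectionVars false
set_option maxHeartbeats 800000

open Module Matrix QuadraticMap

namespace Cfsg.Agent.Classical.Siegel

open Refl MaxLin
open scoped commutatorElement

variable {F : Type*} [Field F] [Fintype F] {ι : Type} [Fintype ι] [DecidableEq ι] (Q : QuadraticForm F (ι → F))
variable (hQ : (polarBilin Q).Nondegenerate) (hn : 5 ≤ Fintype.card ι)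

local notation "V" => ι → F

include hQ hn

/-- Siegel transformations move singular vectors transitively. -/
theorem trans_sing5 {a b : V} (ha0 : a ≠ 0) (hb0 : b ≠ 0) (ha : Q a = 0) (hb : Q b = 0) :
    ∃ e ∈ E Q, act Q e a = b := by
  have one : ∀ a b : V, a ≠ 0 → Q a = 0 → Q b = 0 → polar Q a b = 0 → (∀ r : F, b ≠ r • a) →
      ∃ e ∈ E Q, act Q e a = b := by
    intro a b ha0 ha hb horth hab
    obtain ⟨p, hp, hpa, hpb⟩ := exists_p_orth Q hQ ha0 hab ha horth
    obtain ⟨b', h, e⟩ := one_step Q hp hpa hpb (ha.trans hb.symm)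
    exact ⟨_, sO_mem Q p b' hp h, e⟩
  have two : ∀ a b : V, a ≠ 0 → b ≠ 0 → Q a = 0 → Q b = 0 → polar Q a b ≠ 0 → ∃ e ∈ E Q, act Q e a = b := by
    intro a b ha0 hb0 ha hb hab
    obtain ⟨d, hd0, hd, hL⟩ := exists_zero_lin Q ![(polarBilin Q).flip a, (polarBilin Q).flip b] (by omega)
    have hda : polar Q d a = 0 := hL 0
    have hdb : polar Q d b = 0 := hL 1
    obtain ⟨e₁, he₁, ha'⟩ := one a d ha0 ha hd (by rw [polar_comm]; exact hda) (fun r e => hd0 (by
      rw [e, polar_smul_left, smul_eq_mul, mul_eq_zero] at hdb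
      rw [e, hdb.resolve_right hab, zero_smul]))
    obtain ⟨e₂, he₂, hb'⟩ := one d b hd0 hd hb hdb (fun r e => hab (by rw [e, polar_smul_right, polar_comm, hda, smul_zero]))
    exact ⟨e₂ * e₁, mul_mem he₂ he₁, by rw [act_mul, ha', hb']⟩
  by_cases hab : polar Q a b = 0
  · by_cases hr : ∀ r : F, b ≠ r • a
    · exact one a b ha0 ha hb hab hr
    push Not at hr
    obtain ⟨r, rfl⟩ := hr
    have hr0 : r ≠ 0 := fun e => hb0 (by rw [e, zero_smul])
    obtain ⟨c, hc, hca⟩ := exists_partner Q hQ ha0 ha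
    have hc0 : c ≠ 0 := fun e => by rw [e, polar_zero_left] at hca; exact zero_ne_one hca
    obtain ⟨e₁, he₁, h₁⟩ := two a c ha0 hc0 ha hc (by rw [polar_comm, hca]; exact one_ne_zero)
    obtain ⟨e₂, he₂, h₂⟩ := two c (r • a) hc0 hb0 hc hb (by
      rw [polar_smul_right, hca, smul_eq_mul, mul_one]; exact hr0)
    exact ⟨e₂ * e₁, mul_mem he₂ he₁, by rw [act_mul, h₁, h₂]⟩
  · exact two a b ha0 hb0 ha hb hab

theorem exists_sing_nonorth5 {v : V} (hv : v ≠ 0) : ∃ p, Q p = 0 ∧ polar Q p v ≠ 0 := by
  by_contra hc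
  push Not at hc
  obtain ⟨a, ha0, ha, -⟩ := exists_zero_lin Q (![] : Fin 0 → Dual F (ι → F)) (by omega)
  obtain ⟨c, hc', hca⟩ := exists_partner Q hQ ha0 ha
  have good : ∀ x, polar Q x a ≠ 0 → polar Q x v = 0 := fun x hx => by
    have h := hc (x + (-Q x / polar Q x a) • a) (by
      rw [Q_add, Q_smul, ha, polar_smul_right, smul_eq_mul]; field_simp; ring)
    rwa [polar_add_left, polar_smul_left, hc a ha, smul_zero, add_zero] at h
  refine hv (eq_zero_of Q hQ v fun x => ?_)
  by_cases hx : polar Q x a = 0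
  · have := good (x + c) (by rw [polar_add_left, hx, hca, zero_add]; exact one_ne_zero)
    rwa [polar_add_left, hc c hc', add_zero] at this
  · exact good x hx

theorem commutator_le5 : commutator (O Q) ≤ E Q := by
  classical
  obtain ⟨a, ha0, ha, -⟩ := exists_zero_lin Q (![] : Fin 0 → Dual F (ι → F)) (by omega)
  obtain ⟨c, hc, hca⟩ := exists_partner Q hQ ha0 ha
  have hc0 : c ≠ 0 := fun e => by rw [e, polar_zero_left] at hca; exact zero_ne_one hca
  have hac : polar Q a c = 1 := by rw [polar_comm]; exact hca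
  have haa : polar Q a a = 0 := by rw [polar_diag, ha, mul_zero]
  have hcc : polar Q c c = 0 := by rw [polar_diag, hc, mul_zero]
  have hu : ∀ s : F, Q (a + s • c) = s := fun s => by
    rw [Q_add, Q_smul, ha, hc, polar_smul_right, smul_eq_mul, hac]; ring
  let π := QuotientGroup.mk' (E Q)
  have hpi : ∀ v (hv : Q v ≠ 0), π (refl Q v hv) = π (refl Q (a + Q v • c) (by rw [hu]; exact hv)) := by
    intro v hv
    obtain ⟨p, hp, hpv⟩ := exists_sing_nonorth5 Q hQ hn (v := v) (fun e => hv (by rw [e, QuadraticMap.map_zero]))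
    set p' := (polar Q p v)⁻¹ • p
    have hp' : Q p' = 0 := by rw [Q_smul, hp, mul_zero]
    have hpv' : polar Q p' v = 1 := by rw [polar_smul_left, smul_eq_mul, inv_mul_cancel₀ hpv]
    have hp'0 : p' ≠ 0 := fun e => by rw [e, polar_zero_left] at hpv'; exact zero_ne_one hpv'
    obtain ⟨e₁, he₁, hpc⟩ := trans_sing5 Q hQ hn hp'0 hc0 hp' hc
    have h1 : polar Q c (act Q e₁ v) = 1 := by rw [← hpc, polar_act]; exact hpv'
    have h2 : polar Q c (a + Q v • c) = 1 := by rw [polar_add_right, polar_smul_right, hcc, hca]; simp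
    obtain ⟨b', hb', he⟩ := one_step Q hc h1 h2 (by rw [Q_act, hu])
    set e := sO Q c b' hc hb' * e₁
    have hev : act Q e v = a + Q v • c := by rw [act_mul, he]
    have hconj : e * refl Q v hv * e⁻¹ = refl Q (a + Q v • c) (by rw [hu]; exact hv) := O_ext Q fun x => by
      obtain ⟨y, rfl⟩ : ∃ y, x = act Q e y := ⟨_, (act_inv Q e x).symm⟩
      rw [act_mul, act_mul, act_inv', act_refl, act_refl, act_sub, act_smul, hev, hu]
      congr 2
      rw [← hev, polar_act]
    have he1 : π e = 1 := (QuotientGroup.eq_one_iff _).2 (mul_mem (sO_mem Q _ _ _ _) he₁)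
    rw [← hconj, map_mul, map_mul, map_inv, he1]
    simp
  obtain ⟨y₁, hy1', hy1⟩ := exists_aniso_perp Q hQ ![a, c] (by omega)
  have hy1a : polar Q y₁ a = 0 := hy1' 0
  have hy1c : polar Q y₁ c = 0 := hy1' 1
  set b := y₁
  set k := Q b
  have hab : polar Q a b = 0 := by rw [polar_comm]; exact hy1a
  have hcb : polar Q c b = 0 := by rw [polar_comm]; exact hy1c
  let w : F → O Q := fun t => sO Q a (t • b) ha (by rw [polar_smul_right, hab, smul_zero]) *
    sO Q c ((t * k)⁻¹ • b) hc (by rw [polar_smul_right, hcb, smul_zero]) *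
    sO Q a (t • b) ha (by rw [polar_smul_right, hab, smul_zero])
  have hw : ∀ t, t ≠ 0 → act Q (w t) a = (-(t ^ 2 * k)⁻¹) • c ∧ act Q (w t) c = (-(t ^ 2 * k)) • a ∧
      ∀ z, polar Q z a = 0 → polar Q z c = 0 → act Q (w t) z = z - (polar Q z b / k) • b := by
    intro t ht
    have htk : t * k ≠ 0 := mul_ne_zero ht hy1
    refine ⟨?_, ?_, fun z hza hzc => ?_⟩ <;>
    · simp only [w, act_mul, act_sO, Q_smul, polar_add_left, polar_sub_left, polar_smul_left, polar_smul_right,
        smul_eq_mul, haa, hac, hca, hcc, hab, hcb, hy1a, hy1c, polar_diag Q b]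
      (try simp only [*])
      match_scalars <;> field_simp <;> ring
  have hsq : ∀ (s t : F) (hs : Q (a + s • c) ≠ 0) (ht : Q (a + t • c) ≠ 0),
      (refl Q _ hs * refl Q _ ht) * (refl Q _ hs * refl Q _ ht) ∈ E Q := by
    intro s t hs ht
    have hs0 : s ≠ 0 := by rw [hu] at hs; exact hs
    have ht0 : t ≠ 0 := by rw [hu] at ht; exact ht
    suffices refl Q _ hs * refl Q _ ht * (refl Q _ hs * refl Q _ ht) = w (t / s) * w 1 by
      rw [this]
      exact mul_mem (mul_mem (mul_mem (sO_mem Q _ _ _ _) (sO_mem Q _ _ _ _)) (sO_mem Q _ _ _ _))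
        (mul_mem (mul_mem (sO_mem Q _ _ _ _) (sO_mem Q _ _ _ _)) (sO_mem Q _ _ _ _))
    refine O_ext Q fun x => ?_
    set z := x - polar Q x c • a - polar Q x a • c with hz
    have hza : polar Q z a = 0 := by simp [hz, polar_sub_left, polar_smul_left, haa, hca]
    have hzc : polar Q z c = 0 := by simp [hz, polar_sub_left, polar_smul_left, hcc, hac]
    have hx : x = polar Q x c • a + polar Q x a • c + z := by rw [hz]; abel
    obtain ⟨w1a, w1c, w1z⟩ := hw 1 one_ne_zero
    obtain ⟨wa, wc, wz⟩ := hw (t / s) (div_ne_zero ht0 hs0)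
    have haz : polar Q a z = 0 := by rw [polar_comm]; exact hza
    have hcz : polar Q c z = 0 := by rw [polar_comm]; exact hzc
    have hbb : polar Q b b = 2 * k := polar_diag Q b
    have r1 : ∀ (r : F) (hr : Q (a + r • c) ≠ 0), act Q (refl Q _ hr) a = (-r) • c ∧
        act Q (refl Q _ hr) c = (-r⁻¹) • a ∧ act Q (refl Q _ hr) z = z := by
      intro r hr
      have hr0 : r ≠ 0 := by rw [hu] at hr; exact hr
      simp only [act_refl, hu, polar_add_left, polar_smul_left, haa, hac, hca, hcc, haz, hcz, smul_eq_mul]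
      refine ⟨?_, ?_, ?_⟩ <;> match_scalars <;> field_simp <;> ring
    obtain ⟨sa, sc, sz⟩ := r1 s hs
    obtain ⟨ta, tc, tz⟩ := r1 t ht
    rw [hx]
    simp only [act_mul, act_add, act_smul, sa, sc, sz, ta, tc, tz, w1a, w1c, w1z z hza hzc, act_sub]
    rw [wz z hza hzc, wz b hy1a hy1c, wa, wc, hbb]
    match_scalars <;> field_simp <;> ring
  have hinv : ∀ v (hv : Q v ≠ 0), refl Q v hv * refl Q v hv = 1 := fun v hv => O_ext Q fun x => by
    rw [act_mul, act_refl, act_refl, polar_sub_right, polar_smul_right, polar_diag, smul_eq_mul]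
    show _ = (1 : Matrix ι ι F) *ᵥ x
    rw [Matrix.one_mulVec]
    match_scalars <;> field_simp <;> ring
  have hcomm : ∀ u v (hu' : Q u ≠ 0) (hv : Q v ≠ 0), Commute (π (refl Q u hu')) (π (refl Q v hv)) := by
    intro u v hu' hv
    rw [hpi u hu', hpi v hv]
    set r := refl Q (a + Q u • c) (by rw [hu]; exact hu')
    set r' := refl Q (a + Q v • c) (by rw [hu]; exact hv)
    have h : π r * π r' * (π r * π r') = 1 := by
      rw [← map_mul, ← map_mul]; exact (QuotientGroup.eq_one_iff _).2 (hsq _ _ _ _)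
    have h1 : π r * π r = 1 := by rw [← map_mul, hinv, map_one]
    have h2 : π r' * π r' = 1 := by rw [← map_mul, hinv, map_one]
    show π r * π r' = π r' * π r
    rw [eq_comm, ← _root_.inv_inj, _root_.mul_inv_rev, inv_eq_of_mul_eq_one_right h1, inv_eq_of_mul_eq_one_right h2,
      inv_eq_of_mul_eq_one_right h]
  have hex : Fintype.card F ≠ 2 ∨ Fintype.card ι ≠ 4 := Or.inr (by omega)
  have hall : ∀ g h : O Q, Commute (π g) (π h) := by
    have key : ∀ l : List {v : ι → F // Q v ≠ 0}, ∀ x, (∀ v (hv : Q v ≠ 0), Commute (π (refl Q v hv)) x) →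
        Commute (π (Disc.reflList Q l)) x := by
      intro l
      induction l with
      | nil => intro x _; show Commute (π 1) x; rw [map_one]; exact Commute.one_left x
      | cons v l ih =>
        intro x hx
        show Commute (π (refl Q v.1 v.2 * Disc.reflList Q l)) x
        rw [map_mul]; exact (hx v.1 v.2).mul_left (ih x hx)
    intro g h
    obtain ⟨l, rfl⟩ := exists_reflList Q hQ hex g
    obtain ⟨l', rfl⟩ := exists_reflList Q hQ hex h
    exact key l _ fun v hv => (key l' _ fun v' hv' => hcomm v' v hv' hv).symm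
  rw [commutator_def, Subgroup.commutator_le]
  intro g _ h _
  refine (QuotientGroup.eq_one_iff _).1 ?_
  show π ⁅g, h⁆ = 1
  rw [map_commutatorElement]
  exact commutatorElement_eq_one_iff_commute.2 (hall g h)

theorem sO_mem_commutator5 (a b : V) (ha : Q a = 0) (hab : polar Q a b = 0) : sO Q a b ha hab ∈ commutator (O Q) := by
  have hex : Fintype.card F ≠ 2 ∨ Fintype.card ι ≠ 4 := Or.inr (by omega)
  rcases eq_or_ne a 0 with rfl | ha0
  · rw [show sO Q 0 b ha hab = 1 from O_ext Q fun x => by
      rw [act_sO, polar_zero_right, zero_smul, smul_zero, add_zero, sub_zero]; exact (Matrix.one_mulVec x).symm]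
    exact one_mem _
  have haa : polar Q a a = 0 := by rw [polar_diag, ha, mul_zero]
  have main : ∀ b (hab : polar Q a b = 0), Q b ≠ 0 → sO Q a b ha hab ∈ commutator (O Q) := by
    intro b hab hb
    have hba : polar Q b a = 0 := by rw [polar_comm]; exact hab
    have hb' : Q (b + (-Q b) • a) ≠ 0 := by
      rw [Q_add, Q_smul, ha, polar_smul_right, hba]; simpa using hb
    have he : sO Q a b ha hab = Disc.reflList Q [⟨_, hb'⟩, ⟨b, hb⟩] := O_ext Q fun x => by
      show _ = act Q (refl Q _ hb' * (refl Q b hb * 1)) x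
      rw [mul_one, act_mul, act_sO, act_refl, act_refl, Q_add, Q_smul, ha]
      simp only [polar_add_left, polar_smul_left, polar_smul_right, polar_sub_right, hba, hab, smul_eq_mul,
        polar_diag Q b, polar_comm (⇑Q) a x, polar_comm (⇑Q) b x]
      match_scalars <;> field_simp <;> ring
    rw [he, reflList_mem_iff Q hQ (by omega) hex]
    refine ⟨by simp, ⟨Q b, ?_⟩⟩
    simp [Q_add, Q_smul, ha, polar_smul_right, hba]
  by_cases hb : Q b = 0
  · obtain ⟨e, he', he⟩ := exists_aniso_perp Q hQ ![a, b] (by omega)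
    have hea : polar Q e a = 0 := he' 0
    have heb : polar Q e b = 0 := he' 1
    have hae : polar Q a e = 0 := by rw [polar_comm]; exact hea
    have hbe : polar Q b e = 0 := by rw [polar_comm]; exact heb
    have h1 : polar Q a (b - e) = 0 := by rw [polar_sub_right, hab, hae, sub_zero]
    have hne : Q (b - e) ≠ 0 := by
      rw [sub_eq_add_neg, Q_add, QuadraticMap.map_neg, polar_neg_right, hb, hbe]; simpa using he
    have hsplit : sO Q a b ha hab = sO Q a (b - e) ha h1 * sO Q a e ha hae := O_ext Q fun x => by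
      rw [act_mul, act_sO, act_sO, act_sO, sub_eq_add_neg b e, Q_add, QuadraticMap.map_neg]
      simp only [polar_add_left, polar_sub_left, polar_smul_left, polar_add_right, polar_neg_right, smul_eq_mul, haa,
        hea, hab, hae, hbe, heb, polar_diag Q e]
      module
    rw [hsplit]
    exact mul_mem (main _ h1 hne) (main _ hae he)
  · exact main b hab hb

end Cfsg.Agent.Classical.Siegel
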