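import Cfsg.Agent.Lib.Classical.MaxSymp
import Cfsg.Agent.Lib.Classical.SympInvolution

/-!
A map with a common determinant on a system of planes is conjugate to a symplectic similitude.
-/

set_option autoImplicit false
set_option linter.unusedSectionVars false
set_option maxHeartbeats 800000

open Module Matrix

namespace Cfsg.Agent.Classical.SimConj

variable {F : Type*} [Field F] {n : ℕ} {κ : Type} [Fintype κ] [DecidableEq κ]

theorem exists_conj {f : (Fin n → F) → (Fin n → F) → F} (hf : Cfsg.Geo.IsSymplecticForm f)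
    (x : Matrix.SpecialLinearGroup (Fin n) F) (c : Basis (κ ⊕ κ) F (Fin n → F)) {μ : F} (hμ : μ ≠ 0)
    (a b a' b' : κ → F)
    (hl : ∀ k, (x : Matrix (Fin n) (Fin n) F) *ᵥ c (.inl k) = a k • c (.inl k) + b k • c (.inr k))
    (hr : ∀ k, (x : Matrix (Fin n) (Fin n) F) *ᵥ c (.inr k) = a' k • c (.inl k) + b' k • c (.inr k))
    (hdet : ∀ k, a k * b' k - b k * a' k = μ)
    (hsur : ∀ r : F, r ≠ 0 → ∃ al be ga de : κ → F, ((∏ k, al k) * ∏ k, de k) = r ∧ ∀ k,
      al k ≠ 0 ∧ de k ≠ 0 ∧ be k * b k = a' k * (ga k * al k) ∧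
      be k * a k + (ga k * be k + de k) * a' k = al k * a' k + be k * b' k ∧
      ga k * al k * a k + (ga k * be k + de k) * b k = al k * b k + ga k * al k * b' k) :
    ∃ P : Matrix.SpecialLinearGroup (Fin n) F, P⁻¹ * x * P ∈
      (Cfsg.Geo.similarityGroup f).comap
        (Matrix.SpecialLinearGroup.toGL : Matrix.SpecialLinearGroup (Fin n) F →* GL (Fin n) F) := by
  classical
  let T : (Fin n → F) →ₗ[F] (Fin n → F) := Matrix.toLin' (x : Matrix (Fin n) (Fin n) F)
  have hT : ∀ v, T v = (x : Matrix (Fin n) (Fin n) F) *ᵥ v := fun v => Matrix.toLin'_apply _ _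
  let B : LinearMap.BilinForm F (Fin n → F) :=
    ∑ k, ((c.coord (.inl k)).smulRight (c.coord (.inr k)) - (c.coord (.inr k)).smulRight (c.coord (.inl k)))
  have hB : ∀ u v, B u v = ∑ k, (c.repr u (.inl k) * c.repr v (.inr k) - c.repr u (.inr k) * c.repr v (.inl k)) :=
    fun u v => by simp [B]
  have hco : ∀ u k, c.repr (T u) (.inl k) = a k * c.repr u (.inl k) + a' k * c.repr u (.inr k) ∧
      c.repr (T u) (.inr k) = b k * c.repr u (.inl k) + b' k * c.repr u (.inr k) := by
    intro u k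
    have h1 : (c.coord (.inl k)).comp T = a k • c.coord (.inl k) + a' k • c.coord (.inr k) := c.ext fun i => by
      rcases i with i | i <;> simp [hT, hl, hr, Finsupp.single_apply] <;> split_ifs with e <;> simp_all
    have h2 : (c.coord (.inr k)).comp T = b k • c.coord (.inl k) + b' k • c.coord (.inr k) := c.ext fun i => by
      rcases i with i | i <;> simp [hT, hl, hr, Finsupp.single_apply] <;> split_ifs with e <;> simp_all
    exact ⟨by simpa using LinearMap.congr_fun h1 u, by simpa using LinearMap.congr_fun h2 u⟩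
  have hBT : ∀ u v, B (T u) (T v) = μ * B u v := fun u v => by
    rw [hB, hB, Finset.mul_sum]
    refine Finset.sum_congr rfl fun k _ => ?_
    rw [(hco u k).1, (hco u k).2, (hco v k).1, (hco v k).2, ← hdet k]
    ring
  have hBalt : B.IsAlt := fun u => by
    rw [hB]; exact Finset.sum_eq_zero fun k _ => by ring
  have hBnd : Sp.Nondeg B := fun u hu => by
    by_contra h
    push Not at h
    refine hu (c.repr.injective (Finsupp.ext fun i => ?_))
    rw [map_zero, Finsupp.zero_apply]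
    rcases i with k | k
    · have := h (c (.inr k)); rw [hB] at this
      simpa [Finsupp.single_apply] using this
    · have := h (c (.inl k)); rw [hB] at this
      simpa [Finsupp.single_apply] using this
  obtain ⟨-, e, he⟩ := Sp.exists_equiv (finrank F (Fin n → F)) B (MaxLin.bilinOf hf.bilinear) hBalt hBnd
    (MaxLin.bilinOf_isAlt hf) (MaxLin.bilinOf_nondeg hf) rfl rfl
  set E := LinearMap.toMatrix' e.toLinearMap with hE
  have hE0 : E.det ≠ 0 := by
    rw [hE, LinearMap.det_toMatrix']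
    exact (LinearEquiv.isUnit_det' e).ne_zero
  obtain ⟨al, be, ga, de, hdr, hk⟩ := hsur E.det⁻¹ (inv_ne_zero hE0)
  let M : Matrix (κ ⊕ κ) (κ ⊕ κ) F := Matrix.fromBlocks 1 0 (Matrix.diagonal ga) 1 *
    Matrix.fromBlocks (Matrix.diagonal al) (Matrix.diagonal be) 0 (Matrix.diagonal de)
  let h : (Fin n → F) →ₗ[F] (Fin n → F) := Matrix.toLin c c M
  have hMdet : LinearMap.det h = E.det⁻¹ := by
    rw [← LinearMap.det_toMatrix c, LinearMap.toMatrix_toLin, Matrix.det_mul, Matrix.det_fromBlocks_zero₁₂,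
      Matrix.det_fromBlocks_zero₂₁, Matrix.det_one, Matrix.det_diagonal, Matrix.det_diagonal, one_mul, one_mul, hdr]
  have hMeq : M = Matrix.fromBlocks (Matrix.diagonal al) (Matrix.diagonal be)
      (Matrix.diagonal fun k => ga k * al k) (Matrix.diagonal fun k => ga k * be k + de k) := by
    simp [M, Matrix.fromBlocks_multiply]
  have hhl : ∀ k, h (c (.inl k)) = al k • c (.inl k) + (ga k * al k) • c (.inr k) := fun k => by
    rw [Matrix.toLin_self, hMeq, Fintype.sum_sum_type]
    simp [Matrix.diagonal_apply]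
  have hhr : ∀ k, h (c (.inr k)) = be k • c (.inl k) + (ga k * be k + de k) • c (.inr k) := fun k => by
    rw [Matrix.toLin_self, hMeq, Fintype.sum_sum_type]
    simp [Matrix.diagonal_apply]
  have hcomm : ∀ v, h (T v) = T (h v) := by
    refine fun v => LinearMap.congr_fun (c.ext (f₁ := h ∘ₗ T) (f₂ := T ∘ₗ h) fun i => ?_) v
    rcases i with k | k
    · simp only [LinearMap.comp_apply, hT (c (.inl k)), hl, hhl, map_add, map_smul, hhr]
      simp only [hT, hl, hr, smul_add, smul_smul]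
      obtain ⟨-, -, h3, -, h5⟩ := hk k
      linear_combination (norm := module) (h3 • c (.inl k)) + (h5 • c (.inr k))
    · simp only [LinearMap.comp_apply, hT (c (.inr k)), hr, hhr, map_add, map_smul, hhl]
      simp only [hT, hl, hr, smul_add, smul_smul]
      obtain ⟨-, -, h3, h4, -⟩ := hk k
      linear_combination (norm := module) (h4.symm • c (.inl k)) - (h3 • c (.inr k))
  let G : Matrix.SpecialLinearGroup (Fin n) F := ⟨E * LinearMap.toMatrix' h, by
    rw [Matrix.det_mul, show (LinearMap.toMatrix' h).det = E.det⁻¹ by rw [LinearMap.det_toMatrix', hMdet],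
      mul_inv_cancel₀ hE0]⟩
  have hG : ∀ v, (G : Matrix (Fin n) (Fin n) F) *ᵥ v = e (h v) := fun v => by
    show (E * LinearMap.toMatrix' h) *ᵥ v = _
    rw [← Matrix.mulVec_mulVec, hE, LinearMap.toMatrix'_mulVec, LinearMap.toMatrix'_mulVec]
    rfl
  refine ⟨G⁻¹, Units.mk0 μ hμ, fun u v => ?_⟩
  obtain ⟨u, rfl⟩ : ∃ w, (G : Matrix (Fin n) (Fin n) F) *ᵥ w = u := ⟨(G⁻¹ : Matrix.SpecialLinearGroup (Fin n) F).1 *ᵥ u, by
    rw [Matrix.mulVec_mulVec, ← Matrix.SpecialLinearGroup.coe_mul, mul_inv_cancel, Matrix.SpecialLinearGroup.coe_one,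
      Matrix.one_mulVec]⟩
  obtain ⟨v, rfl⟩ : ∃ w, (G : Matrix (Fin n) (Fin n) F) *ᵥ w = v := ⟨(G⁻¹ : Matrix.SpecialLinearGroup (Fin n) F).1 *ᵥ v, by
    rw [Matrix.mulVec_mulVec, ← Matrix.SpecialLinearGroup.coe_mul, mul_inv_cancel, Matrix.SpecialLinearGroup.coe_one,
      Matrix.one_mulVec]⟩
  have key : ∀ w, ((G⁻¹⁻¹ * x * G⁻¹ : Matrix.SpecialLinearGroup (Fin n) F) : Matrix (Fin n) (Fin n) F) *ᵥ
      ((G : Matrix (Fin n) (Fin n) F) *ᵥ w) = e (T (h w)) := fun w => by
    rw [inv_inv, Matrix.mulVec_mulVec, ← Matrix.SpecialLinearGroup.coe_mul, inv_mul_cancel_right,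
      Matrix.SpecialLinearGroup.coe_mul, ← Matrix.mulVec_mulVec, hG, ← hT, hcomm]
  show f (((G⁻¹⁻¹ * x * G⁻¹ : Matrix.SpecialLinearGroup (Fin n) F) : Matrix (Fin n) (Fin n) F) *ᵥ _)
    (((G⁻¹⁻¹ * x * G⁻¹ : Matrix.SpecialLinearGroup (Fin n) F) : Matrix (Fin n) (Fin n) F) *ᵥ _) = _
  rw [key, key, hG, hG]
  show MaxLin.bilinOf hf.bilinear _ _ = μ * MaxLin.bilinOf hf.bilinear _ _
  rw [he, he, hBT]

end Cfsg.Agent.Classical.SimConj
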