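import Cfsg.Prelude.Def_GeometricClasses

/-!
Normalisers of field subalgebras of full prime degree.
-/

set_option autoImplicit false
set_option linter.style.haveILetI false
set_option linter.unusedSectionVars false

open Module Matrix

namespace Cfsg.Agent.Classical.SingerNormal

variable {F : Type*} [Field F] [Fintype F] {n : ℕ} {K : Subalgebra F (Matrix (Fin n) (Fin n) F)}

/-- Multiplication of a fixed nonzero vector. -/
def act (K : Subalgebra F (Matrix (Fin n) (Fin n) F)) (v : Fin n → F) : K →ₗ[F] (Fin n → F) where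
  toFun k := (k : Matrix (Fin n) (Fin n) F) *ᵥ v
  map_add' a b := by rw [Subalgebra.coe_add, Matrix.add_mulVec]
  map_smul' c a := by rw [Subalgebra.coe_smul, Matrix.smul_mulVec, RingHom.id_apply]

theorem act_bijective (hK : Cfsg.Geo.IsFieldSubalgebra n K) {v : Fin n → F} (hv : v ≠ 0) :
    Function.Bijective (act K v) := by
  have hi : Function.Injective (act K v) := by
    refine (injective_iff_map_eq_zero _).2 fun k hk => ?_
    by_contra hk0
    obtain ⟨y, hy, hky⟩ := hK.inv k.1 k.2 fun e => hk0 (Subtype.ext e)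
    refine hv ?_
    rw [← Matrix.one_mulVec v, ← hky, hK.comm k.1 k.2 y hy, ← Matrix.mulVec_mulVec]
    rw [show (k : Matrix (Fin n) (Fin n) F) *ᵥ v = 0 from hk, Matrix.mulVec_zero]
  exact ⟨hi, (LinearMap.injective_iff_surjective_of_finrank_eq_finrank (by rw [hK.finrank_eq, finrank_fin_fun])).1 hi⟩

theorem isField (hK : Cfsg.Geo.IsFieldSubalgebra n K) [NeZero n] : IsField K where
  exists_pair_ne := ⟨0, 1, fun e => by
    have h : (0 : Matrix (Fin n) (Fin n) F) = 1 := congrArg Subtype.val e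
    exact zero_ne_one h⟩
  mul_comm a b := Subtype.ext (hK.comm a.1 a.2 b.1 b.2)
  mul_inv_cancel := fun {a} ha => by
    obtain ⟨y, hy, h⟩ := hK.inv a.1 a.2 fun e => ha (Subtype.ext e)
    exact ⟨⟨y, hy⟩, Subtype.ext h⟩

/-- A non-scalar element of the normaliser has eigenspaces of dimension at most one. -/
theorem eigen_line (hn : n.Prime) (hK : Cfsg.Geo.IsFieldSubalgebra n K) {g : GL (Fin n) F}
    (hg : g ∈ Cfsg.Geo.subalgebraNormalizer K) (hns : ∀ c : F, (g : Matrix (Fin n) (Fin n) F) ≠ c • 1)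
    {l : F} {v w : Fin n → F} (hv : v ≠ 0) (hgv : (g : Matrix (Fin n) (Fin n) F) *ᵥ v = l • v)
    (hgw : (g : Matrix (Fin n) (Fin n) F) *ᵥ w = l • w) : ∃ a : F, w = a • v := by
  classical
  obtain ⟨hinj, hsur⟩ := act_bijective hK hv
  obtain ⟨k, hk⟩ := hsur w
  have hk' : (k : Matrix (Fin n) (Fin n) F) *ᵥ v = w := hk
  set G := (g : Matrix (Fin n) (Fin n) F) with hG
  set G' := ((g⁻¹ : GL (Fin n) F) : Matrix (Fin n) (Fin n) F) with hG'
  have hG1 : G' * G = 1 := by rw [hG, hG', ← Units.val_mul, inv_mul_cancel, Units.val_one]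
  let τ : Matrix (Fin n) (Fin n) F →ₐ[F] Matrix (Fin n) (Fin n) F :=
    { toFun := fun x => G * x * G'
      map_one' := by rw [mul_one, hG, hG', ← Units.val_mul, mul_inv_cancel, Units.val_one]
      map_mul' := fun x y => by
        rw [show G * x * G' * (G * y * G') = G * x * (G' * G) * y * G' by simp only [mul_assoc], hG1, mul_one,
          mul_assoc G x y]
      map_zero' := by simp
      map_add' := fun x y => by rw [mul_add, add_mul]
      commutes' := fun c => by
        rw [← Algebra.commutes, mul_assoc, hG, hG', ← Units.val_mul, mul_inv_cancel, Units.val_one, mul_one] }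
  have hτ : ∀ x, τ x * G = G * x := fun x => by
    show G * x * G' * G = _
    rw [mul_assoc, hG1, mul_one]
  -- the fixed subalgebra
  let E : Subalgebra F K := AlgHom.equalizer (τ.comp K.val) K.val
  have hkE : k ∈ E := by
    have h1 : τ k.1 *ᵥ (G *ᵥ v) = G *ᵥ w := by
      rw [Matrix.mulVec_mulVec, hτ, ← Matrix.mulVec_mulVec, hk']
    rw [hgv, hgw, Matrix.mulVec_smul] at h1
    have hl : l ≠ 0 := fun e => by
      rw [e, zero_smul] at hgv
      exact hv (by rw [← Matrix.one_mulVec v, ← hG1, ← Matrix.mulVec_mulVec, hgv, Matrix.mulVec_zero])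
    have h2 : τ k.1 *ᵥ v = w := smul_right_injective _ hl h1
    show τ k.1 = k.1
    exact congrArg Subtype.val (hinj (a₁ := (⟨τ k.1, (hg k.1).1 k.2⟩ : K)) (a₂ := k) (h2.trans hk'.symm))
  by_contra hcon
  have hkb : k ∉ (⊥ : Subalgebra F K) := fun h => by
    obtain ⟨a, ha⟩ := Algebra.mem_bot.1 h
    refine hcon ⟨a, ?_⟩
    rw [← hk', ← ha]
    show (algebraMap F (Matrix (Fin n) (Fin n) F) a) *ᵥ v = _
    rw [Algebra.algebraMap_eq_smul_one, Matrix.smul_mulVec, Matrix.one_mulVec]
  haveI : NeZero n := ⟨hn.ne_zero⟩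
  letI : Field K := (isField hK).toField
  haveI : Module.Finite F K := Module.Finite.of_finite
  let S := IntermediateField.adjoin F ({k} : Set K)
  have hS : S = ⊤ := by
    have h1 := Module.finrank_mul_finrank F S K
    rw [hK.finrank_eq] at h1
    rcases (Nat.dvd_prime hn).1 (Dvd.intro _ h1) with h | h
    · exfalso
      have h2 := IntermediateField.finrank_eq_one_iff.1 h
      have h3 : k ∈ S := IntermediateField.mem_adjoin_simple_self F k
      rw [h2, IntermediateField.mem_bot] at h3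
      exact hkb (Algebra.mem_bot.2 h3)
    · exact IntermediateField.eq_of_le_of_finrank_eq le_top (by rw [IntermediateField.finrank_top', hK.finrank_eq]; exact h)
  have hE : E = ⊤ := by
    refine top_le_iff.1 ?_
    have h2 : Algebra.adjoin F {k} = (⊤ : Subalgebra F K) := by
      rw [← IntermediateField.adjoin_simple_toSubalgebra_of_isAlgebraic (Algebra.IsAlgebraic.isAlgebraic k)]
      show S.toSubalgebra = ⊤
      rw [hS]; rfl
    rw [← h2]
    exact Algebra.adjoin_le (Set.singleton_subset_iff.2 hkE)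
  refine hns l (Matrix.ext_of_mulVec_single fun i => ?_)
  obtain ⟨x, hx⟩ := hsur (Pi.single i 1)
  have hxE : τ x.1 = x.1 := (show x ∈ E from hE ▸ Algebra.mem_top)
  have hx' : (x : Matrix (Fin n) (Fin n) F) *ᵥ v = Pi.single i 1 := hx
  rw [← hx', Matrix.smul_mulVec, Matrix.one_mulVec, Matrix.mulVec_mulVec, ← hτ, hxE, ← Matrix.mulVec_mulVec, hgv,
    Matrix.mulVec_smul]

/-- An element of order `n` normalising the field. -/
theorem exists_semilinear₀ (hn : n.Prime)
    (hK : Cfsg.Geo.IsFieldSubalgebra n K) :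
    ∃ g : GL (Fin n) F, g ∈ Cfsg.Geo.subalgebraNormalizer K ∧
      (g : Matrix (Fin n) (Fin n) F) ^ n = 1 ∧ (g : Matrix (Fin n) (Fin n) F) ≠ 1 ∧
      ∃ u, u ≠ 0 ∧ (g : Matrix (Fin n) (Fin n) F) *ᵥ u = u := by
  classical
  haveI : NeZero n := ⟨hn.ne_zero⟩
  let v : Fin n → F := Pi.single 0 1
  have hv : v ≠ 0 := by simp [v]
  let e : K ≃ₗ[F] (Fin n → F) := LinearEquiv.ofBijective (act K v) (act_bijective hK hv)
  letI : Field K := (isField hK).toField
  haveI : Module.Finite F K := Module.Finite.of_finite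
  haveI : Finite K := Module.finite_of_finite F
  let σ : K ≃ₐ[F] K := FiniteField.frobeniusAlgEquivOfAlgebraic F K
  have hσ : orderOf σ = n := by rw [FiniteField.orderOf_frobeniusAlgEquivOfAlgebraic]; exact hK.finrank_eq
  let S : (Fin n → F) ≃ₗ[F] (Fin n → F) := e.symm.trans (σ.toLinearEquiv.trans e)
  have hS : ∀ x : K, S (e x) = e (σ x) := fun x => by simp [S]
  let G : GL (Fin n) F := ⟨LinearMap.toMatrix' S.toLinearMap, LinearMap.toMatrix' S.symm.toLinearMap,
    by rw [← LinearMap.toMatrix'_comp, LinearEquiv.comp_coe, LinearEquiv.symm_trans_self]; exact LinearMap.toMatrix'_id,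
    by rw [← LinearMap.toMatrix'_comp, LinearEquiv.comp_coe, LinearEquiv.self_trans_symm]; exact LinearMap.toMatrix'_id⟩
  have hGv : ∀ x : K, (G : Matrix (Fin n) (Fin n) F) *ᵥ e x = e (σ x) := fun x => by
    rw [← hS]; exact LinearMap.toMatrix'_mulVec _ _
  have hG'v : ∀ x : K, ((G⁻¹ : GL (Fin n) F) : Matrix (Fin n) (Fin n) F) *ᵥ e (σ x) = e x := fun x => by
    rw [← hGv, Matrix.mulVec_mulVec, ← Units.val_mul, inv_mul_cancel, Units.val_one, Matrix.one_mulVec]
  have hmul : ∀ k x : K, (k : Matrix (Fin n) (Fin n) F) *ᵥ e x = e (k * x) := fun k x => by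
    show (k : Matrix (Fin n) (Fin n) F) *ᵥ ((x : Matrix (Fin n) (Fin n) F) *ᵥ v) = _
    rw [Matrix.mulVec_mulVec]; rfl
  have hconj : ∀ k : K, (G : Matrix (Fin n) (Fin n) F) * k * ((G⁻¹ : GL (Fin n) F) : Matrix (Fin n) (Fin n) F) = (σ k : K) := fun k => by
    refine Matrix.ext_of_mulVec_single fun i => ?_
    obtain ⟨x, hx⟩ := (σ.surjective.comp (Function.surjective_id)) (e.symm (Pi.single i 1))
    rw [← e.apply_symm_apply (Pi.single i 1), ← hx]
    show _ *ᵥ e (σ x) = _ *ᵥ e (σ x)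
    rw [← Matrix.mulVec_mulVec, ← Matrix.mulVec_mulVec, hG'v, hmul, hGv, hmul, map_mul]
  have hpw : ∀ (j : ℕ) (x : K), ((G : Matrix (Fin n) (Fin n) F) ^ j) *ᵥ e x = e ((σ ^ j) x) := by
    intro j
    induction j with
    | zero => intro x; simp
    | succ j ih => intro x; rw [pow_succ', ← Matrix.mulVec_mulVec, ih, hGv, pow_succ', AlgEquiv.mul_apply]
  have hGn : (G : Matrix (Fin n) (Fin n) F) ^ n = 1 := Matrix.ext_of_mulVec_single fun i => by
    rw [← e.apply_symm_apply (Pi.single i 1), hpw, Matrix.one_mulVec,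
      show σ ^ n = 1 by have h7 := pow_orderOf_eq_one σ; rwa [hσ] at h7, AlgEquiv.one_apply]
  refine ⟨G, fun k => ⟨fun hk => ?_, fun hk => ?_⟩, hGn, fun h1 => ?_, e 1, fun h => one_ne_zero (e.map_eq_zero_iff.1 h), by rw [hGv, map_one]⟩
  · rw [show k = ((⟨k, hk⟩ : K) : Matrix (Fin n) (Fin n) F) from rfl, hconj]
    exact (σ ⟨k, hk⟩).2
  · obtain ⟨y, hy⟩ := σ.surjective ⟨_, hk⟩
    have h2 := hconj y
    rw [hy] at h2
    have h3 : (G : Matrix (Fin n) (Fin n) F) * y * ((G⁻¹ : GL (Fin n) F) : Matrix (Fin n) (Fin n) F) = (G : Matrix (Fin n) (Fin n) F) * k * ((G⁻¹ : GL (Fin n) F) : Matrix (Fin n) (Fin n) F) := h2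
    rw [Units.mul_left_inj, Units.mul_right_inj] at h3
    exact h3 ▸ y.2
  · have h4 : σ = 1 := AlgEquiv.ext fun x => e.injective (by rw [← hGv, h1, Matrix.one_mulVec]; rfl)
    rw [h4, orderOf_one] at hσ
    exact hn.ne_one hσ.symm

/-- An element of order `n` of the special linear group normalising the field. -/
theorem exists_semilinear (hn : n.Prime) (_hn2 : n ≠ 2) (hq : ∀ c : F, c ^ n = 1 → c = 1)
    (hK : Cfsg.Geo.IsFieldSubalgebra n K) :
    ∃ g : GL (Fin n) F, g ∈ Cfsg.Geo.subalgebraNormalizer K ∧ (g : Matrix (Fin n) (Fin n) F).det = 1 ∧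
      (g : Matrix (Fin n) (Fin n) F) ^ n = 1 ∧ (g : Matrix (Fin n) (Fin n) F) ≠ 1 := by
  obtain ⟨g, h1, h2, h3, -⟩ := exists_semilinear₀ hn hK
  exact ⟨g, h1, hq _ (by rw [← Matrix.det_pow, h2, Matrix.det_one]), h2, h3⟩

end Cfsg.Agent.Classical.SingerNormal
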