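import Mathlib
import Cfsg.Prelude.Def_Classical
import Cfsg.Prelude.Def_ClassicalGeometry

/-!
Tools for exceptional isomorphisms of small classical groups: change of field, recognition by a
homomorphism and a bound on the order, and column bounds for isometry groups.
-/

set_option autoImplicit false
set_option linter.style.haveILetI false
set_option linter.unusedSectionVars false

namespace Cfsg.Agent.Classical.SmallIso

open Matrix

theorem of_hom {S H : Type*} [Group S] [Group H] [Finite H] (f : S →* H) (hf : Function.Injective f)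
    (hc : Nat.card H ≤ Nat.card S) : Nonempty (H ≃* S) := by
  haveI : Finite S := Finite.of_injective f hf
  exact ⟨(MulEquiv.ofBijective f (hf.bijective_of_nat_card_le hc)).symm⟩

theorem exists_zmod {F : Type*} [Field F] [Fintype F] {p : ℕ} [Fact p.Prime] (hF : Fintype.card F = p) :
    Nonempty (F ≃+* ZMod p) :=
  ⟨(ZMod.ringEquivOfPrime F Fact.out hF).symm⟩

variable {ι : Type} [Fintype ι] [DecidableEq ι]

/-- Change of field on general linear groups. -/
noncomputable def glEquiv {F K : Type*} [Field F] [Field K] (e : F ≃+* K) :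
    GL ι F ≃* GL ι K :=
  Units.mapEquiv e.mapMatrix.toMulEquiv

theorem glEquiv_mulVec {F K : Type*} [Field F] [Field K] (e : F ≃+* K) (g : GL ι F) (v : ι → F) :
    ((glEquiv e g : GL ι K) : Matrix ι ι K) *ᵥ (fun i => e (v i)) =
      fun i => e (((g : Matrix ι ι F) *ᵥ v) i) := by
  funext i
  exact ((e : F →+* K).map_mulVec (g : Matrix ι ι F) v i).symm

theorem map_isometryGroup {F K : Type*} [Field F] [Field K] (e : F ≃+* K) (Q : (ι → F) → F)
    (Q' : (ι → K) → K) (h : ∀ v : ι → F, Q' (fun i => e (v i)) = e (Q v)) :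
    (Cfsg.isometryGroup F Q).map (glEquiv e).toMonoidHom = Cfsg.isometryGroup K Q' := by
  ext g
  constructor
  · rintro ⟨g, hg, rfl⟩ u v
    obtain ⟨u, rfl⟩ : ∃ u' : ι → F, (fun i => e (u' i)) = u := ⟨fun i => e.symm (u i), funext fun i => e.apply_symm_apply _⟩
    show Q' (((glEquiv e g : GL ι K) : Matrix ι ι K) *ᵥ _) = Q' _
    rw [glEquiv_mulVec, h, h]
    exact congrArg e (hg u u)
  · intro hg
    refine ⟨(glEquiv e).symm g, fun u v => ?_, (glEquiv e).apply_symm_apply g⟩
    show Q (((((glEquiv e).symm g) : GL ι F) : Matrix ι ι F) *ᵥ u) = Q u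
    apply e.injective
    rw [← h, ← h, ← glEquiv_mulVec, (glEquiv e).apply_symm_apply]
    exact hg _ (fun i => e (u i))

/-- Isometry groups along an isomorphism of fields. -/
noncomputable def isometryEquiv {F K : Type*} [Field F] [Field K] (e : F ≃+* K) (Q : (ι → F) → F)
    (Q' : (ι → K) → K) (h : ∀ v : ι → F, Q' (fun i => e (v i)) = e (Q v)) :
    Cfsg.isometryGroup F Q ≃* Cfsg.isometryGroup K Q' :=
  ((glEquiv e).subgroupMap _).trans (MulEquiv.subgroupCongr (map_isometryGroup e Q Q' h))

/-- Special isometry groups along an isomorphism of fields. -/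
theorem special_congr {F K : Type*} [Field F] [Field K] (e : F ≃+* K) (Q : (ι → F) → F)
    (Q' : (ι → K) → K) (h : ∀ v : ι → F, Q' (fun i => e (v i)) = e (Q v)) :
    Nonempty (Cfsg.specialIsometryGroup F Q ≃* Cfsg.specialIsometryGroup K Q') := by
  refine ⟨((isometryEquiv e Q Q' h).subgroupMap _).trans (MulEquiv.subgroupCongr ?_)⟩
  ext x
  obtain ⟨g, rfl⟩ := (isometryEquiv e Q Q' h).surjective x
  show (isometryEquiv e Q Q' h) g ∈ Subgroup.map (isometryEquiv e Q Q' h).toMonoidHom _ ↔ _
  refine (Subgroup.mem_map_iff_mem (f := (isometryEquiv e Q Q' h).toMonoidHom)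
    (isometryEquiv e Q Q' h).injective).trans ?_
  show Matrix.GeneralLinearGroup.det (g : GL ι F) = 1 ↔
    Matrix.GeneralLinearGroup.det (glEquiv e (g : GL ι F)) = 1
  rw [Units.ext_iff, Units.ext_iff, GeneralLinearGroup.val_det_apply, GeneralLinearGroup.val_det_apply]
  show _ ↔ (e.mapMatrix ((g : GL ι F) : Matrix ι ι F)).det = ((1 : Kˣ) : K)
  rw [← RingEquiv.map_det, Units.val_one, Units.val_one, EmbeddingLike.map_eq_one_iff]

/-- A group embedded in matrices has at most as many elements as a list of admissible column families. -/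
theorem card_le_of_columns {H K : Type*} [Field K] (toMat : H → Matrix ι ι K) (hinj : Function.Injective toMat)
    {n : ℕ} (e : Fin n ≃ ι) (L : List (Fin n → ι → K)) (hL : ∀ h : H, (fun k i => toMat h i (e k)) ∈ L) :
    Nat.card H ≤ L.length := by
  let f : H → {c : Fin n → ι → K // c ∈ L} := fun h => ⟨_, hL h⟩
  haveI : Finite {c : Fin n → ι → K // c ∈ L} :=
    Finite.of_surjective (fun i : Fin L.length => (⟨L.get i, L.get_mem i⟩ : {c // c ∈ L})) fun c => by
      obtain ⟨i, hi⟩ := List.mem_iff_get.1 c.2
      exact ⟨i, Subtype.ext hi⟩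
  refine (Nat.card_le_card_of_injective f fun a b hab => hinj ?_).trans ?_
  · ext i j
    have h := congrFun (congrFun (congrArg Subtype.val hab) (e.symm j)) i
    simpa [f] using h
  · refine le_trans (Nat.card_le_card_of_surjective
      (fun i : Fin L.length => (⟨L.get i, L.get_mem i⟩ : {c // c ∈ L})) fun c => ?_) (by simp)
    obtain ⟨i, hi⟩ := List.mem_iff_get.1 c.2
    exact ⟨i, Subtype.ext hi⟩

end Cfsg.Agent.Classical.SmallIso
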