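import Mathlib

/-!
Fixed-point spaces in a soluble, irreducible, primitive linear group: every non-identity element
fixes at most three quarters of the space.
-/

set_option autoImplicit false
set_option linter.style.haveILetI false

open scoped commutatorElement

namespace Cfsg.Agent.Classical

variable {F V G : Type*} [Field F] [AddCommGroup V] [Module F V] [Group G]
  (ρ : G →* Module.End F V)

/-- The common fixed space of a subgroup. -/
def fixSpace (B : Subgroup G) : Submodule F V where
  carrier := {v | ∀ b ∈ B, ρ b v = v}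
  zero_mem' := fun b _ => map_zero _
  add_mem' := fun {v w} hv hw b hb => by rw [map_add, hv b hb, hw b hb]
  smul_mem' := fun c v hv b hb => by rw [map_smul, hv b hb]

theorem rho_mul_apply (a b : G) (v : V) : ρ (a * b) v = ρ a (ρ b v) := by
  rw [map_mul]; rfl

theorem rho_inv_apply (a : G) (v : V) : ρ a⁻¹ (ρ a v) = v := by
  rw [← rho_mul_apply, inv_mul_cancel, map_one]; rfl

theorem rho_apply_inv (a : G) (v : V) : ρ a (ρ a⁻¹ v) = v := by
  rw [← rho_mul_apply, mul_inv_cancel, map_one]; rfl

theorem rho_one_apply (v : V) : ρ (1 : G) v = v := by rw [map_one]; rfl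

theorem map_fixSpace (g : G) (B : Subgroup G) :
    (fixSpace ρ B).map (ρ g) = fixSpace ρ (B.map (MulAut.conj g).toMonoidHom) := by
  refine le_antisymm ?_ fun v hv => ⟨ρ g⁻¹ v, fun b hb => ?_, rho_apply_inv ρ g v⟩
  · rintro _ ⟨v, hv, rfl⟩ _ ⟨b, hb, rfl⟩
    show ρ (g * b * g⁻¹) (ρ g v) = ρ g v
    rw [rho_mul_apply, rho_inv_apply, rho_mul_apply, hv b hb]
  · have := hv (g * b * g⁻¹) ⟨b, hb, rfl⟩
    have h2 : ρ g⁻¹ (ρ (g * b * g⁻¹) v) = ρ g⁻¹ v := by rw [this]
    rwa [← rho_mul_apply, show g⁻¹ * (g * b * g⁻¹) = b * g⁻¹ by group, rho_mul_apply] at h2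

/-- In an irreducible primitive group, non-identity elements of abelian normal subgroups have no
fixed points. -/
theorem eq_zero_of_fixed_abelian_normal [Finite G] [Fintype F] [FiniteDimensional F V]
    (hinj : Function.Injective ρ)
    (hirr : ∀ W : Submodule F V, (∀ g, W.map (ρ g) ≤ W) → W = ⊥ ∨ W = ⊤)
    (hprim : ∀ (t m : ℕ) (D : Fin t → Submodule F V), 2 ≤ t → 0 < m →
      (∀ i, Module.finrank F (D i) = m) → iSupIndep D → iSup D = ⊤ →
      ¬ ∀ g, ∃ σ : Equiv.Perm (Fin t), ∀ i, (D i).map (ρ g) = D (σ i))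
    (A : Subgroup G) [hA : A.Normal] (hc : ∀ a ∈ A, ∀ b ∈ A, a * b = b * a)
    {a : G} (ha : a ∈ A) (ha1 : a ≠ 1) {v : V} (hv : ρ a v = v) : v = 0 := by
  classical
  -- nothing of the characteristic's order
  obtain ⟨p, hp⟩ := CharP.exists F
  haveI := hp
  haveI hpp : Fact p.Prime := ⟨CharP.char_is_prime F p⟩
  haveI : Finite V := Module.finite_of_finite F
  have hordp : ∀ b ∈ A, b ^ p = 1 → b = 1 := by
    intro b hb hbp
    by_contra hb1
    let P : Subgroup G :=
      { carrier := {x | x ∈ A ∧ x ^ p = 1}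
        one_mem' := ⟨A.one_mem, one_pow p⟩
        mul_mem' := fun {x y} hx hy => ⟨A.mul_mem hx.1 hy.1, by
          rw [(show Commute x y from hc x hx.1 y hy.1).mul_pow, hx.2, hy.2, one_mul]⟩
        inv_mem' := fun {x} hx => ⟨A.inv_mem hx.1, by rw [inv_pow, hx.2, inv_one]⟩ }
    have hPgroup : IsPGroup p P := fun x => ⟨1, Subtype.ext (by rw [pow_one]; exact x.2.2)⟩
    letI : MulAction P V :=
      { smul := fun x w => ρ x w
        one_smul := fun w => rho_one_apply ρ w
        mul_smul := fun x y w => rho_mul_apply ρ x y w }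
    by_cases hV : Nontrivial V
    swap
    · haveI := not_nontrivial_iff_subsingleton.1 hV
      exact hb1 (hinj (LinearMap.ext fun w => Subsingleton.elim _ _))
    have hdvd : p ∣ Nat.card V := by
      obtain ⟨k, hk⟩ : ∃ k : ℕ+, Fintype.card F = p ^ (k : ℕ) := ⟨_, (FiniteField.card F p).choose_spec.2⟩
      rw [Module.natCard_eq_pow_finrank (K := F), Nat.card_eq_fintype_card, hk, ← pow_mul]
      exact dvd_pow_self p (mul_ne_zero k.ne_zero (Module.finrank_pos (R := F) (M := V)).ne')
    obtain ⟨w, hw, hw0⟩ := hPgroup.exists_fixed_point_of_prime_dvd_card_of_fixed_point V hdvd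
      (a := (0 : V)) (fun x => map_zero (ρ x))
    have hPn : ∀ g : G, P.map (MulAut.conj g).toMonoidHom = P := by
      have key : ∀ g : G, P.map (MulAut.conj g).toMonoidHom ≤ P := by
        rintro g _ ⟨x, hx, rfl⟩
        exact ⟨hA.conj_mem x hx.1 g, by
          show (g * x * g⁻¹) ^ p = 1
          rw [conj_pow, hx.2, mul_one, mul_inv_cancel]⟩
      intro g
      refine le_antisymm (key g) fun x hx => ⟨g⁻¹ * x * g, ?_, ?_⟩
      · simpa using key g⁻¹ ⟨x, hx, rfl⟩
      · simp [mul_assoc]
    rcases hirr (fixSpace ρ P) (fun g => by rw [map_fixSpace, hPn g]) with h | h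
    · have : w ∈ fixSpace ρ P := fun x hx => hw ⟨x, hx⟩
      rw [h, Submodule.mem_bot] at this
      exact hw0 this.symm
    · refine hb1 (hinj (LinearMap.ext fun u => ?_))
      rw [map_one]
      exact (h ▸ Submodule.mem_top : u ∈ fixSpace ρ P) b ⟨hb, hbp⟩
  by_contra hv0
  obtain ⟨B, hBm⟩ := (Set.toFinite {B : Subgroup G | a ∈ B ∧ B ≤ A ∧ fixSpace ρ B ≠ ⊥}).exists_maximal
    ⟨Subgroup.zpowers a, Subgroup.mem_zpowers a, (Subgroup.zpowers_le).2 ha, fun h => hv0 (by
      have hle : Subgroup.zpowers a ≤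
          ({ carrier := {x | ρ x v = v}
             one_mem' := rho_one_apply ρ v
             mul_mem' := fun {x y} hx hy => by
               show ρ (x * y) v = v
               rw [rho_mul_apply, show ρ y v = v from hy, show ρ x v = v from hx]
             inv_mem' := fun {x} hx => by
               show ρ x⁻¹ v = v
               conv_lhs => rw [← show ρ x v = v from hx, rho_inv_apply] } : Subgroup G) :=
        Subgroup.zpowers_le.2 hv
      have : v ∈ fixSpace ρ (Subgroup.zpowers a) := fun b hb => hle hb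
      rw [h, Submodule.mem_bot] at this
      exact this)⟩
  obtain ⟨⟨haB, hBA, hB0⟩, hBmax⟩ := hBm
  haveI : ∀ K : Subgroup G, Fintype K := fun K => Fintype.ofFinite K
  let C : G → Subgroup G := fun g => B.map (MulAut.conj g).toMonoidHom
  let S : Finset (Subgroup G) := (Set.toFinite (Set.range C)).toFinset
  let D : Fin S.card → Submodule F V := fun i => fixSpace ρ (S.equivFin.symm i).1
  have hS : ∀ i, ∃ g, C g = (S.equivFin.symm i).1 := fun i =>
    Set.mem_range.1 ((Set.Finite.mem_toFinset (Set.toFinite (Set.range C))).1 (S.equivFin.symm i).2)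
  have hCA : ∀ g, C g ≤ A := by
    rintro g _ ⟨b, hb, rfl⟩; exact hA.conj_mem b (hBA hb) g
  have hCmax : ∀ g, ∀ K : Subgroup G, C g ≤ K → K ≤ A → fixSpace ρ K ≠ ⊥ → K = C g := by
    intro g K hle hKA hK
    let K' := K.map (MulAut.conj g⁻¹).toMonoidHom
    have h1 : B ≤ K' := fun b hb => ⟨g * b * g⁻¹, hle ⟨b, hb, rfl⟩, by simp [mul_assoc]⟩
    have h2 : K' ≤ A := by
      rintro _ ⟨b, hb, rfl⟩; exact hA.conj_mem b (hKA hb) g⁻¹
    have h3 : fixSpace ρ K' ≠ ⊥ := by
      rw [← map_fixSpace]
      intro h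
      apply hK
      rw [eq_bot_iff]
      intro u hu
      have : ρ g⁻¹ u ∈ (fixSpace ρ K).map (ρ g⁻¹) := ⟨u, hu, rfl⟩
      rw [h, Submodule.mem_bot] at this
      rw [Submodule.mem_bot, ← rho_apply_inv ρ g u, this, map_zero]
    have h4 : K' = B := le_antisymm (hBmax ⟨h1 haB, h2, h3⟩ h1) h1
    refine le_antisymm (fun x hx => ?_) hle
    exact ⟨g⁻¹ * x * g, h4 ▸ ⟨x, hx, by simp⟩, by simp [mul_assoc]⟩
  have hDdim : ∀ i, Module.finrank F (D i) = Module.finrank F (fixSpace ρ B) := by
    intro i
    obtain ⟨g, hg⟩ := hS i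
    show Module.finrank F (fixSpace ρ _) = _
    rw [← hg, show C g = B.map _ from rfl, ← map_fixSpace]
    exact (Submodule.equivMapOfInjective (ρ g)
      (Function.LeftInverse.injective (rho_inv_apply ρ g)) _).finrank_eq.symm
  have hindep : iSupIndep D := by
    intro i
    obtain ⟨g, hg⟩ := hS i
    let σ : V →ₗ[F] V := ∑ b : C g, ρ b
    have hσ0 : (⨆ j, ⨆ (_ : j ≠ i), D j) ≤ LinearMap.ker σ := by
      refine iSup₂_le fun j hj w hw => ?_
      obtain ⟨h, hh⟩ := hS j
      have hw' : w ∈ fixSpace ρ (C h) := by rw [hh]; exact hw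
      rw [LinearMap.mem_ker]
      by_contra hne
      have hmem : σ w ∈ fixSpace ρ (C g ⊔ C h) := by
        have key : C g ⊔ C h ≤
            ({ carrier := {x | ρ x (σ w) = σ w}
               one_mem' := rho_one_apply ρ _
               mul_mem' := fun {x y} hx hy => by
                 show ρ (x * y) (σ w) = σ w
                 rw [rho_mul_apply, show ρ y (σ w) = σ w from hy, show ρ x (σ w) = σ w from hx]
               inv_mem' := fun {x} hx => by
                 show ρ x⁻¹ (σ w) = σ w
                 conv_lhs => rw [← show ρ x (σ w) = σ w from hx, rho_inv_apply] } : Subgroup G) := by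
          refine sup_le (fun x hx => ?_) (fun x hx => ?_)
          · show ρ x (σ w) = σ w
            simp only [σ, LinearMap.sum_apply, map_sum, ← rho_mul_apply]
            exact Fintype.sum_equiv (Equiv.mulLeft (⟨x, hx⟩ : C g)) _ _ fun b => rfl
          · show ρ x (σ w) = σ w
            simp only [σ, LinearMap.sum_apply, map_sum]
            refine Finset.sum_congr rfl fun b _ => ?_
            rw [← rho_mul_apply, hc x (hCA h hx) b (hCA g b.2), rho_mul_apply, hw' x hx]
        exact fun b hb => key hb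
      have hne' : fixSpace ρ (C g ⊔ C h) ≠ ⊥ := fun e => hne (by
        rwa [e, Submodule.mem_bot] at hmem)
      have e1 := hCmax g _ le_sup_left (sup_le (hCA g) (hCA h)) hne'
      have e2 := hCmax h _ le_sup_right (sup_le (hCA g) (hCA h)) hne'
      exact hj (S.equivFin.symm.injective (Subtype.ext (hh.symm.trans (e2.symm.trans (e1.trans hg)))))
    rw [Submodule.disjoint_def]
    intro w hw hw'
    have h1 : σ w = 0 := hσ0 hw'
    have hw2 : w ∈ fixSpace ρ (C g) := by rw [hg]; exact hw
    have h2 : σ w = (Fintype.card (C g) : F) • w := by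
      simp only [σ, LinearMap.sum_apply]
      rw [Finset.sum_congr rfl fun (b : C g) _ => hw2 b b.2, Finset.sum_const, Finset.card_univ,
        Nat.cast_smul_eq_nsmul]
    rw [h1] at h2
    refine (smul_eq_zero.1 h2.symm).resolve_left fun h3 => ?_
    obtain ⟨x, hx⟩ := exists_prime_orderOf_dvd_card p ((CharP.cast_eq_zero_iff F p _).1 h3)
    have hx1 : (x : G) = 1 := hordp x (hCA g x.2) (by
      rw [← Subgroup.coe_pow, ← hx, pow_orderOf_eq_one]; rfl)
    rw [← Subgroup.orderOf_coe, hx1, orderOf_one] at hx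
    exact hpp.out.one_lt.ne hx
  have hstab : ∀ g, ∀ i, ∃ j, (D i).map (ρ g) = D j := by
    intro g i
    obtain ⟨h, hh⟩ := hS i
    refine ⟨S.equivFin ⟨C (g * h), (Set.Finite.mem_toFinset _).2 ⟨_, rfl⟩⟩, ?_⟩
    simp only [D, Equiv.symm_apply_apply, ← hh, C]
    rw [map_fixSpace, Subgroup.map_map]
    congr 2
    ext x
    simp [mul_assoc]
  have hpos : 0 < Module.finrank F (fixSpace ρ B) := by
    rw [pos_iff_ne_zero, Ne, Submodule.finrank_eq_zero]; exact hB0
  have hbot : ∀ i, D i ≠ ⊥ := fun i h => by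
    have := hDdim i
    rw [h, finrank_bot] at this
    omega
  have hsup : iSup D = ⊤ := by
    refine (hirr _ fun g => ?_).resolve_left fun h => ?_
    · rw [Submodule.map_iSup]
      refine iSup_le fun i => ?_
      obtain ⟨j, hj⟩ := hstab g i
      exact hj ▸ le_iSup D j
    · have hne : 0 < S.card := Finset.card_pos.2 ⟨C 1, (Set.Finite.mem_toFinset _).2 ⟨1, rfl⟩⟩
      exact hbot ⟨0, hne⟩ (le_bot_iff.1 (h ▸ le_iSup D _))
  by_cases ht : 2 ≤ S.card
  · refine hprim S.card _ D ht hpos hDdim hindep hsup fun g => ?_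
    choose f hf using hstab g
    have hDinj : Function.Injective D := fun i j h => by
      by_contra hne
      exact hbot i (disjoint_self.1 ((hindep i).mono_right
        (h ▸ le_iSup₂_of_le j (Ne.symm hne) le_rfl)))
    have hfi : Function.Injective f := fun i j h => hDinj
      (Submodule.map_injective_of_injective
        (Function.LeftInverse.injective (rho_inv_apply ρ g)) (by rw [hf, hf, h]))
    exact ⟨Equiv.ofBijective f (Finite.injective_iff_bijective.1 hfi), hf⟩
  · haveI : Subsingleton (Fin S.card) := Fin.subsingleton_iff_le_one.2 (by omega)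
    let i := S.equivFin ⟨C 1, (Set.Finite.mem_toFinset _).2 ⟨1, rfl⟩⟩
    have hD1 : D i = ⊤ := top_le_iff.1 (hsup ▸ iSup_le fun j => by rw [Subsingleton.elim j i])
    simp only [D, i, Equiv.symm_apply_apply, C] at hD1
    refine ha1 (hinj (LinearMap.ext fun u => ?_))
    rw [map_one]
    exact (hD1 ▸ Submodule.mem_top : u ∈ fixSpace ρ (B.map (MulAut.conj 1).toMonoidHom)) a
      ⟨a, haB, by simp⟩

theorem fixed_commutator [FiniteDimensional F V] (x y : G) :
    2 * Module.finrank F (Module.End.eigenspace (ρ x) 1) ≤ Module.finrank F V +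
      Module.finrank F (Module.End.eigenspace (ρ (x * y * x⁻¹ * y⁻¹)) 1) := by
  let W := Module.End.eigenspace (ρ x) 1
  let W' := W.map (ρ y)
  have hW : Module.finrank F W' = Module.finrank F W :=
    (Submodule.equivMapOfInjective (ρ y)
      (Function.LeftInverse.injective (rho_inv_apply ρ y)) _).finrank_eq.symm
  have hle : W ⊓ W' ≤ Module.End.eigenspace (ρ (x * y * x⁻¹ * y⁻¹)) 1 := by
    rintro v ⟨h1, w, h2, rfl⟩
    rw [SetLike.mem_coe] at h1 h2
    rw [Module.End.mem_eigenspace_iff, one_smul]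
    simp only [W, Module.End.mem_eigenspace_iff, one_smul] at h1 h2
    have h3 : ρ x⁻¹ w = w := by
      conv_lhs => rw [← h2]
      exact rho_inv_apply ρ x w
    rw [rho_mul_apply, rho_inv_apply, rho_mul_apply, h3, rho_mul_apply, h1]
  have h1 := Submodule.finrank_sup_add_finrank_inf_eq W W'
  have h2 := Submodule.finrank_le (W ⊔ W')
  have h3 := Submodule.finrank_mono hle
  show 2 * Module.finrank F W ≤ _
  omega

/-- Every non-identity element of a soluble irreducible primitive group fixes at most three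
quarters of the space. -/
theorem fixed_le_three_quarters [Finite G] [Fintype F] [FiniteDimensional F V]
    [hsol : Group.IsSolvable G] (hinj : Function.Injective ρ)
    (hirr : ∀ W : Submodule F V, (∀ g, W.map (ρ g) ≤ W) → W = ⊥ ∨ W = ⊤)
    (hprim : ∀ (t m : ℕ) (D : Fin t → Submodule F V), 2 ≤ t → 0 < m →
      (∀ i, Module.finrank F (D i) = m) → iSupIndep D → iSup D = ⊤ →
      ¬ ∀ g, ∃ σ : Equiv.Perm (Fin t), ∀ i, (D i).map (ρ g) = D (σ i))
    {g : G} (hg : g ≠ 1) :
    4 * Module.finrank F (Module.End.eigenspace (ρ g) 1) ≤ 3 * Module.finrank F V := by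
  let d : G → ℕ := fun x => Module.finrank F (Module.End.eigenspace (ρ x) 1)
  obtain ⟨A, ⟨hAn, hAc⟩, hAmax⟩ := (Set.toFinite
      {A : Subgroup G | A.Normal ∧ ∀ a ∈ A, ∀ b ∈ A, a * b = b * a}).exists_maximal
    ⟨⊥, inferInstance, fun a ha b hb => by
      rw [Subgroup.mem_bot] at ha hb; rw [ha, hb]⟩
  haveI := hAn
  have hA0 : ∀ a ∈ A, a ≠ 1 → d a = 0 := fun a ha ha1 => by
    show Module.finrank F _ = 0
    rw [Submodule.finrank_eq_zero, eq_bot_iff]
    intro v hv
    rw [Module.End.mem_eigenspace_iff, one_smul] at hv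
    rw [Submodule.mem_bot]
    exact eq_zero_of_fixed_abelian_normal ρ hinj hirr hprim A hAc ha ha1 hv
  by_cases hgA : g ∈ A
  · have : d g = 0 := hA0 g hgA hg
    simp only [d] at this
    omega
  have one_ne : ∀ x y : G, x * y ≠ y * x → x * y * x⁻¹ * y⁻¹ ≠ 1 := fun x y h e => h (by
    rwa [← commutatorElement_def, commutatorElement_eq_one_iff_mul_comm] at e)
  have half : ∀ x y : G, x * y * x⁻¹ * y⁻¹ ∈ A → x * y ≠ y * x →
      2 * d x ≤ Module.finrank F V := fun x y h h' => by
    have h1 := hA0 _ h (one_ne x y h')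
    have h2 := fixed_commutator ρ x y
    simp only [d] at h1 ⊢
    omega
  by_cases hgC : g ∈ Subgroup.centralizer (A : Set G)
  swap
  · rw [Subgroup.mem_centralizer_iff] at hgC
    push Not at hgC
    obtain ⟨a, ha, hne⟩ := hgC
    have := half g a (mul_mem (hAn.conj_mem a ha g) (inv_mem ha)) (Ne.symm hne)
    simp only [d] at this
    omega
  obtain ⟨S, ⟨hSn, hAS, hSC, hSS⟩, hSmax⟩ := (Set.toFinite
      {S : Subgroup G | S.Normal ∧ A ≤ S ∧ S ≤ Subgroup.centralizer (A : Set G) ∧
        ⁅S, S⁆ ≤ A}).exists_maximal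
    ⟨A, hAn, le_rfl, fun a ha => Subgroup.mem_centralizer_iff.2 fun b hb => hAc b hb a ha,
      Subgroup.commutator_le_self A⟩
  haveI := hSn
  have hZ : S ⊓ Subgroup.centralizer (S : Set G) ≤ A := by
    refine hAmax ⟨inferInstance, fun a ha b hb => ?_⟩ (le_inf hAS fun a ha =>
      Subgroup.mem_centralizer_iff.2 fun s hs => (Subgroup.mem_centralizer_iff.1 (hSC hs) a ha).symm)
    exact (Subgroup.mem_centralizer_iff.1 hb.2 a ha.1)
  have hSd : ∀ s ∈ S, s ∉ A → 2 * d s ≤ Module.finrank F V := by
    intro s hs hsA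
    obtain ⟨y, hy, hne⟩ : ∃ y ∈ S, y * s ≠ s * y := by
      by_contra hc
      push Not at hc
      exact hsA (hZ ⟨hs, Subgroup.mem_centralizer_iff.2 hc⟩)
    exact half s y (hSS (Subgroup.commutator_mem_commutator hs hy)) (Ne.symm hne)
  by_cases hgS : g ∈ Subgroup.centralizer (S : Set G)
  swap
  · rw [Subgroup.mem_centralizer_iff] at hgS
    push Not at hgS
    obtain ⟨y, hy, hne⟩ := hgS
    have hc : g * y * g⁻¹ * y⁻¹ ∈ S := mul_mem (hSn.conj_mem y hy g) (inv_mem hy)
    by_cases hcA : g * y * g⁻¹ * y⁻¹ ∈ A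
    · have := half g y hcA (Ne.symm hne)
      simp only [d] at this
      omega
    · have h1 := hSd _ hc hcA
      have h2 := fixed_commutator ρ g y
      simp only [d] at h1
      omega
  -- the centraliser of `S` is inside `A`
  exfalso
  have key : ∀ k, ∀ E : Subgroup G, E.Normal → E ≤ Subgroup.centralizer (S : Set G) →
      (derivedSeries E k) = ⊥ → E ≤ A := by
    intro k
    induction k with
    | zero =>
      intro E _ _ h
      rw [derivedSeries_zero] at h
      haveI := Subgroup.subsingleton_iff.1 (subsingleton_of_bot_eq_top h.symm)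
      intro x hx
      rw [show x = 1 from congrArg Subtype.val (Subsingleton.elim (⟨x, hx⟩ : E) 1)]
      exact A.one_mem
    | succ k ih =>
      intro E hE hEC h
      haveI := hE
      let E' := (derivedSeries E k).map E.subtype
      have hE'n : E'.Normal := inferInstance
      have hE'le : E' ≤ Subgroup.centralizer (S : Set G) := (Subgroup.map_subtype_le _).trans hEC
      have hcomm : ⁅E', E'⁆ = ⊥ := by
        rw [← Subgroup.map_commutator, ← derivedSeries_succ, h, Subgroup.map_bot]
      have hE'A : E' ≤ A := by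
        have hn : (S ⊔ E').Normal := inferInstance
        have h1 : ⁅S ⊔ E', S ⊔ E'⁆ ≤ A := by
          rw [Subgroup.commutator_le]
          intro a ha b hb
          obtain ⟨s, hs, e, he, rfl⟩ := Subgroup.mem_sup_of_normal_left.1 ha
          obtain ⟨s', hs', e', he', rfl⟩ := Subgroup.mem_sup_of_normal_left.1 hb
          have c1 : ∀ x ∈ S, ∀ y ∈ E', Commute x y := fun x hx y hy =>
            Subgroup.mem_centralizer_iff.1 (hE'le hy) x hx
          have c2 : Commute e e' := by
            have := Subgroup.commutator_mem_commutator he he'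
            rwa [hcomm, Subgroup.mem_bot, commutatorElement_eq_one_iff_mul_comm] at this
          have : ⁅s * e, s' * e'⁆ = ⁅s, s'⁆ := by
            have d2 : e * (s' * e') * e⁻¹ = s' * e' :=
              mul_inv_eq_of_eq_mul ((c1 s' hs' e he).symm.mul_right c2).eq
            have d3 : e' * s⁻¹ * e'⁻¹ = s⁻¹ :=
              mul_inv_eq_of_eq_mul ((c1 s hs e' he').inv_left).symm.eq
            calc ⁅s * e, s' * e'⁆ = s * (e * (s' * e') * e⁻¹) * s⁻¹ * (s' * e')⁻¹ := by
                  rw [commutatorElement_def]; group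
              _ = s * s' * (e' * s⁻¹ * e'⁻¹) * s'⁻¹ := by rw [d2]; group
              _ = ⁅s, s'⁆ := by rw [d3, commutatorElement_def]
          rw [this]
          exact hSS (Subgroup.commutator_mem_commutator hs hs')
        have h2 : S ⊔ E' ≤ Subgroup.centralizer (A : Set G) :=
          sup_le hSC (hE'le.trans (Subgroup.centralizer_le hAS))
        have h3 := hSmax ⟨hn, hAS.trans le_sup_left, h2, h1⟩ le_sup_left
        exact fun x hx => hZ ⟨(le_sup_right.trans h3) hx, hE'le hx⟩
      -- now `E` modulo `A` has shorter derived series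
      by_cases hk : k = 0
      · subst hk
        simp only [E', derivedSeries_zero, ← MonoidHom.range_eq_map, Subgroup.range_subtype] at hE'A
        exact hE'A
      obtain ⟨k, rfl⟩ : ∃ j, k = j + 1 := ⟨k - 1, by omega⟩
      let E'' := (derivedSeries E k).map E.subtype
      haveI : E''.Normal := inferInstance
      have hE''le : E'' ≤ Subgroup.centralizer (S : Set G) := (Subgroup.map_subtype_le _).trans hEC
      have h1 : ⁅E'', E''⁆ ≤ A := by
        rw [← Subgroup.map_commutator, ← derivedSeries_succ]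
        exact hE'A
      have hE''A : E'' ≤ A := by
        have hn : (S ⊔ E'').Normal := inferInstance
        have h2 : ⁅S ⊔ E'', S ⊔ E''⁆ ≤ A := by
          rw [Subgroup.commutator_le]
          intro a ha b hb
          obtain ⟨s, hs, e, he, rfl⟩ := Subgroup.mem_sup_of_normal_left.1 ha
          obtain ⟨s', hs', e', he', rfl⟩ := Subgroup.mem_sup_of_normal_left.1 hb
          have c1 : ∀ x ∈ S, ∀ y ∈ E'', Commute x y := fun x hx y hy =>
            Subgroup.mem_centralizer_iff.1 (hE''le hy) x hx
          have hz := h1 (Subgroup.commutator_mem_commutator he he')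
          have : ⁅s * e, s' * e'⁆ = s * ⁅e, e'⁆ * s⁻¹ * ⁅s, s'⁆ := by
            have d1 : e * s' * e⁻¹ = s' := mul_inv_eq_of_eq_mul (c1 s' hs' e he).symm.eq
            have d3 : e' * s⁻¹ * e'⁻¹ = s⁻¹ :=
              mul_inv_eq_of_eq_mul ((c1 s hs e' he').inv_left).symm.eq
            have d4 : s' * ⁅e, e'⁆ * s'⁻¹ = ⁅e, e'⁆ :=
              mul_inv_eq_of_eq_mul (Subgroup.mem_centralizer_iff.1 (hSC hs') _ hz).symm
            calc ⁅s * e, s' * e'⁆
                = s * (e * s' * e⁻¹) * ⁅e, e'⁆ * (e' * s⁻¹ * e'⁻¹) * s'⁻¹ := by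
                  simp only [commutatorElement_def]; group
              _ = s * (s' * ⁅e, e'⁆ * s'⁻¹) * s' * s⁻¹ * s'⁻¹ := by rw [d1, d3]; group
              _ = s * ⁅e, e'⁆ * s' * s⁻¹ * s'⁻¹ := by rw [d4]
              _ = s * ⁅e, e'⁆ * s⁻¹ * ⁅s, s'⁆ := by simp only [commutatorElement_def]; group
          rw [this]
          exact mul_mem (hAn.conj_mem _ hz s) (hSS (Subgroup.commutator_mem_commutator hs hs'))
        have h3 : S ⊔ E'' ≤ Subgroup.centralizer (A : Set G) :=
          sup_le hSC (hE''le.trans (Subgroup.centralizer_le hAS))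
        have h4 := hSmax ⟨hn, hAS.trans le_sup_left, h3, h2⟩ le_sup_left
        exact fun x hx => hZ ⟨(le_sup_right.trans h4) hx, hE''le hx⟩
      refine ih E hE hEC ?_
      rw [← (Subgroup.map_eq_bot_iff_of_injective _ E.subtype_injective), derivedSeries_succ,
        Subgroup.map_commutator]
      rw [Subgroup.commutator_eq_bot_iff_le_centralizer]
      exact fun x hx => Subgroup.mem_centralizer_iff.2 fun y hy => hAc y (hE''A hy) x (hE''A hx)
  obtain ⟨k, hk⟩ := (isSolvable_def _).1
    (inferInstance : Group.IsSolvable (Subgroup.centralizer (S : Set G)))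
  exact hgA (key k _ inferInstance le_rfl hk hgS)

end Cfsg.Agent.Classical
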