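import Mathlib

/-!
Normal form of endomorphisms with square zero.
-/

set_option autoImplicit false
set_option linter.style.haveILetI false

open Module

namespace Cfsg.Agent.Classical.SquareZero

variable {F V : Type*} [Field F] [AddCommGroup V] [Module F V] [FiniteDimensional F V]

/-- An endomorphism with square zero has a basis adapted to it. -/
theorem exists_basis (N : V →ₗ[F] V) (h : ∀ v, N (N v) = 0) :
    ∃ (k : ℕ) (b : Basis ((Fin (finrank F (LinearMap.range N)) ⊕ Fin (finrank F (LinearMap.range N))) ⊕ Fin k) F V),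
      (∀ i, N (b (Sum.inl (Sum.inl i))) = b (Sum.inl (Sum.inr i))) ∧
      (∀ i, N (b (Sum.inl (Sum.inr i))) = 0) ∧ ∀ j, N (b (Sum.inr j)) = 0 := by
  obtain ⟨C, hC⟩ := exists_isCompl (LinearMap.ker N)
  have hle : LinearMap.range N ≤ LinearMap.ker N := by
    rintro _ ⟨v, rfl⟩
    exact h v
  obtain ⟨D, hD⟩ := exists_isCompl ((LinearMap.range N).comap (LinearMap.ker N).subtype)
  let f : (C × C) × D →ₗ[F] V :=
    ((C.subtype.coprod (N ∘ₗ C.subtype)).coprod ((LinearMap.ker N).subtype ∘ₗ D.subtype))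
  have hf : ∀ p : (C × C) × D, f p = (p.1.1 : V) + N p.1.2 + ((p.2 : LinearMap.ker N) : V) :=
    fun p => rfl
  have hdisj : ∀ x : V, x ∈ C → N x = 0 → x = 0 := fun x hx hN =>
    Submodule.disjoint_def.1 hC.disjoint x hN hx
  have hsum : ∀ v : V, ∃ x : C, ∃ k : LinearMap.ker N, (x : V) + k = v := by
    intro v
    obtain ⟨k, hk, x, hx, e⟩ : ∃ k ∈ LinearMap.ker N, ∃ x ∈ C, k + x = v :=
      Submodule.mem_sup.1 (by rw [hC.sup_eq_top]; exact Submodule.mem_top)
    exact ⟨⟨x, hx⟩, ⟨k, hk⟩, by rw [add_comm]; exact e⟩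
  have hbij : Function.Bijective f := by
    refine ⟨(injective_iff_map_eq_zero f).2 fun p hp => ?_, fun v => ?_⟩
    · obtain ⟨⟨x, y⟩, z⟩ := p
      rw [hf] at hp
      have hx : x = 0 := by
        refine Subtype.ext (hdisj _ x.2 ?_)
        have := congrArg N hp
        simpa [h, LinearMap.mem_ker.1 (z : LinearMap.ker N).2] using this
      have hp' : N y + ((z : LinearMap.ker N) : V) = 0 := by simpa [hx] using hp
      have hz : (z : LinearMap.ker N) = 0 := by
        refine Submodule.disjoint_def.1 hD.disjoint _ ?_ z.2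
        show ((z : LinearMap.ker N) : V) ∈ LinearMap.range N
        exact ⟨-(y : V), by rw [map_neg]; exact neg_eq_of_add_eq_zero_right hp'⟩
      have hy : y = 0 := Subtype.ext (hdisj _ y.2 (by simpa [hz] using hp'))
      simp [hx, hy, Subtype.ext_iff, hz]
    · obtain ⟨x, k, rfl⟩ := hsum v
      obtain ⟨u, hu, d, hd, rfl⟩ : ∃ u ∈ (LinearMap.range N).comap (LinearMap.ker N).subtype,
          ∃ d ∈ D, u + d = k := Submodule.mem_sup.1 (by rw [hD.sup_eq_top]; exact Submodule.mem_top)
      obtain ⟨w, hw⟩ : (u : V) ∈ LinearMap.range N := hu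
      obtain ⟨y, k', rfl⟩ := hsum w
      rw [map_add, LinearMap.mem_ker.1 k'.2, add_zero] at hw
      refine ⟨((x, y), ⟨d, hd⟩), ?_⟩
      rw [hf, Submodule.coe_add, ← hw, add_assoc]
  let e : ((C × C) × D) ≃ₗ[F] V := LinearEquiv.ofBijective f hbij
  have hr : finrank F C = finrank F (LinearMap.range N) := by
    have h1 := LinearMap.finrank_range_add_finrank_ker N
    have h2 := Submodule.finrank_add_eq_of_isCompl hC
    omega
  let bC : Basis (Fin (finrank F (LinearMap.range N))) F C := (finBasis F C).reindex (finCongr hr)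
  refine ⟨finrank F D, ((bC.prod bC).prod (finBasis F D)).map e, fun i => ?_, fun i => ?_, fun j => ?_⟩
  · simp [e, hf]
  · simp [e, hf, h]
  · simp [e, hf]

end Cfsg.Agent.Classical.SquareZero
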