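import Cfsg.Agent.Lib.Classical.SubfieldInvol

/-!
Elements of order three and subfield subgroups in characteristic three.
-/

set_option autoImplicit false
set_option linter.unusedSectionVars false
set_option maxHeartbeats 800000

open Module Matrix

namespace Cfsg.Agent.Classical.SubfieldCube

variable {F : Type*} [Field F] [Fintype F] {n : ℕ}

/-- An endomorphism with cube zero has a basis of chains. -/
theorem exists_basis {V : Type*} [AddCommGroup V] [Module F V] [FiniteDimensional F V] (N : V →ₗ[F] V)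
    (h : ∀ v, N (N (N v)) = 0) :
    ∃ (r s j : ℕ) (b : Basis ((Fin r × Fin 3) ⊕ ((Fin s ⊕ Fin s) ⊕ Fin j)) F V),
      (∀ i, N (b (.inl (i, 0))) = b (.inl (i, 1)) ∧ N (b (.inl (i, 1))) = b (.inl (i, 2)) ∧ N (b (.inl (i, 2))) = 0) ∧
      (∀ i, N (b (.inr (.inl (.inl i)))) = b (.inr (.inl (.inr i)))) ∧
      (∀ i, N (b (.inr (.inl (.inr i)))) = 0) ∧ ∀ i, N (b (.inr (.inr i))) = 0 := by
  classical
  obtain ⟨C, hC⟩ := exists_isCompl (LinearMap.ker (N ∘ₗ N))
  let r := finrank F C
  let v := finBasis F C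
  let w : Fin r → V := fun i => N (N (v i))
  have hw : LinearIndependent F w := by
    refine (v.linearIndependent.map' C.subtype C.ker_subtype).map (f := N ∘ₗ N) (Disjoint.mono_left ?_ hC.disjoint.symm)
    rw [Submodule.span_le]
    rintro _ ⟨i, rfl⟩
    exact (v i).2
  obtain ⟨ψ, hψ⟩ := LinearMap.exists_extend (p := Submodule.span F (Set.range w))
    ((Basis.span hw).equivFun.toLinearMap)
  have hψw : ∀ i, ψ (w i) = Pi.single i 1 := fun i => by
    have := LinearMap.congr_fun hψ (Basis.span hw i)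
    simp only [LinearMap.comp_apply, Submodule.subtype_apply, Basis.span_apply, LinearEquiv.coe_coe,
      Basis.equivFun_apply, Basis.repr_self] at this
    rw [this]
    funext k
    simp [Finsupp.single_apply, Pi.single_apply, eq_comm]
  let Ψ : V →ₗ[F] (Fin r × Fin 3 → F) := LinearMap.pi fun p =>
    ![LinearMap.proj p.1 ∘ₗ ψ, LinearMap.proj p.1 ∘ₗ ψ ∘ₗ N, LinearMap.proj p.1 ∘ₗ ψ ∘ₗ N ∘ₗ N] p.2
  let Φ : (Fin r × Fin 3 → F) →ₗ[F] V := Fintype.linearCombination F
    (fun p => ![(v p.1 : V), N (v p.1), N (N (v p.1))] p.2)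
  have hinj : Function.Injective (Ψ ∘ₗ Φ) := (injective_iff_map_eq_zero _).2 fun c hc => by
    have hexp : Φ c = ∑ i, (c (i, 0) • (v i : V) + c (i, 1) • N (v i) + c (i, 2) • N (N (v i))) := by
      simp [Φ, Fintype.linearCombination_apply, Fintype.sum_prod_type, Fin.sum_univ_three, add_assoc]
    have hNw : ∀ x, N (w x) = 0 := fun x => h _
    have e0 : ∀ i, c (i, 0) = 0 := fun i => by
      have := congrFun hc (i, 2)
      simpa [Ψ, hexp, map_sum, h, hNw, ← show ∀ i, w i = N (N (v i)) from fun i => rfl, hψw, Pi.single_apply,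
        Finset.sum_apply] using this
    have e1 : ∀ i, c (i, 1) = 0 := fun i => by
      have := congrFun hc (i, 1)
      simpa [Ψ, hexp, map_sum, h, hNw, e0, ← show ∀ i, w i = N (N (v i)) from fun i => rfl, hψw, Pi.single_apply,
        Finset.sum_apply] using this
    have e2 : ∀ i, c (i, 2) = 0 := fun i => by
      have := congrFun hc (i, 0)
      simpa [Ψ, hexp, map_sum, h, hNw, e0, e1, ← show ∀ i, w i = N (N (v i)) from fun i => rfl, hψw, Pi.single_apply,
        Finset.sum_apply] using this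
    funext ⟨i, a⟩
    fin_cases a
    exacts [e0 i, e1 i, e2 i]
  let E := LinearEquiv.ofBijective (Ψ ∘ₗ Φ) ⟨hinj, LinearMap.injective_iff_surjective.1 hinj⟩
  let U := LinearMap.ker Ψ
  have hmemU : ∀ u, u ∈ U ↔ ψ u = 0 ∧ ψ (N u) = 0 ∧ ψ (N (N u)) = 0 := fun u => by
    simp only [U, LinearMap.mem_ker, funext_iff, Prod.forall, Fin.forall_fin_succ, Fin.forall_fin_zero, and_true]
    simp [Ψ, forall_and]
  have hNU : ∀ u ∈ U, N u ∈ U := fun u hu => by
    obtain ⟨-, h1, h2⟩ := (hmemU u).1 hu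
    exact (hmemU _).2 ⟨h1, h2, by rw [h, map_zero]⟩
  have hNN : ∀ u : U, N (N (u : V)) = 0 := fun u => by
    obtain ⟨k, hk, c, hc, e⟩ : ∃ k ∈ LinearMap.ker (N ∘ₗ N), ∃ c ∈ C, k + c = (u : V) :=
      Submodule.mem_sup.1 (by rw [hC.sup_eq_top]; exact Submodule.mem_top)
    have hk' : N (N k) = 0 := hk
    have h1 : N (N (u : V)) = ∑ i, v.repr ⟨c, hc⟩ i • w i := by
      have h2 := congrArg (fun y : C => N (N (y : V))) (v.sum_repr ⟨c, hc⟩)
      simp only [Submodule.coe_sum, Submodule.coe_smul, map_sum, map_smul] at h2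
      rw [← e, map_add, map_add, hk', zero_add, ← h2]
    have h3 := ((hmemU _).1 u.2).2.2
    rw [h1, map_sum] at h3
    rw [h1]
    refine Finset.sum_eq_zero fun i _ => ?_
    have := congrFun h3 i
    simp [hψw, Pi.single_apply, Finset.sum_apply] at this
    rw [this, zero_smul]
  obtain ⟨j, b₂, b1, b2, b3⟩ := SquareZero.exists_basis (N.restrict hNU) fun u => Subtype.ext (hNN u)
  let L : (Fin r × Fin 3 → F) × U →ₗ[F] V := Φ.coprod U.subtype
  have hL : Function.Bijective L := by
    refine ⟨(injective_iff_map_eq_zero _).2 fun p hp => ?_, fun y => ?_⟩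
    · have h1 := congrArg Ψ hp
      simp only [L, LinearMap.coprod_apply, Submodule.subtype_apply, map_add, map_zero, LinearMap.mem_ker.1 p.2.2,
        add_zero] at h1
      have hp1 : p.1 = 0 := hinj (by rw [LinearMap.comp_apply, h1, map_zero])
      simp only [L, LinearMap.coprod_apply, hp1, map_zero, zero_add, Submodule.subtype_apply] at hp
      exact Prod.ext hp1 (Subtype.ext hp)
    · refine ⟨(E.symm (Ψ y), ⟨y - Φ (E.symm (Ψ y)), ?_⟩), by simp [L]⟩
      rw [LinearMap.mem_ker, map_sub, sub_eq_zero]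
      exact (E.apply_symm_apply (Ψ y)).symm
  let b := ((Pi.basisFun F (Fin r × Fin 3)).prod b₂).map (LinearEquiv.ofBijective L hL)
  have bl : ∀ i a, b (.inl (i, a)) = ![(v i : V), N (v i), N (N (v i))] a := fun i a => by
    simp [b, L, Φ, Fintype.linearCombination_apply_single]
  have br : ∀ i, b (.inr i) = (b₂ i : V) := fun i => by simp [b, L]
  refine ⟨r, _, j, b, fun i => ?_, fun i => ?_, fun i => ?_, fun i => ?_⟩
  · simp [bl, h]
  · rw [br, br, ← b1 i]; rfl
  · rw [br]; exact congrArg Subtype.val (b2 i)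
  · rw [br]; exact congrArg Subtype.val (b3 i)

/-- A matrix that is a scalar times a matrix over the subfield in some basis. -/
theorem conj_mem_ratio (F₀ : Subfield F) {ι : Type} [Fintype ι] [DecidableEq ι] (x : Matrix.SpecialLinearGroup (Fin n) F)
    (c : Basis ι F (Fin n → F)) {l : F} (hl : l ≠ 0) (g : Matrix ι ι F₀)
    (hc : ∀ j, (x : Matrix (Fin n) (Fin n) F) *ᵥ c j = l • ∑ i, (g i j : F) • c i)
    (hsur : ∀ r : F, r ≠ 0 → ∃ d : ι → F, (∏ i, d i) = r ∧ ∀ i j, g i j ≠ 0 → ∃ v : F₀, d j = d i * v) :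
    ∃ P : Matrix.SpecialLinearGroup (Fin n) F, P⁻¹ * x * P ∈
      (Cfsg.Geo.subfieldSubgroup F₀ (1 : GL (Fin n) F)).comap
        (Matrix.SpecialLinearGroup.toGL : Matrix.SpecialLinearGroup (Fin n) F →* GL (Fin n) F) := by
  classical
  have hcard : Fintype.card ι = Fintype.card (Fin n) := by
    rw [← Module.finrank_eq_card_basis c, Module.finrank_pi]
  let e : ι ≃ Fin n := Fintype.equivOfCardEq hcard
  let c' : Basis (Fin n) F (Fin n → F) := c.reindex e
  let g' : Matrix (Fin n) (Fin n) F₀ := g.submatrix e.symm e.symm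
  set E : Matrix (Fin n) (Fin n) F := Matrix.of fun i j => c' j i with hE
  have hE1 : E = (Pi.basisFun F (Fin n)).toMatrix c' := by
    ext i j; simp [hE, Module.Basis.toMatrix_apply]
  have hE0 : E.det ≠ 0 := by
    rw [hE1, ← Module.Basis.det_apply]
    exact ((Pi.basisFun F (Fin n)).isUnit_det c').ne_zero
  obtain ⟨d, hd, hdg⟩ := hsur E.det⁻¹ (inv_ne_zero hE0)
  let G : Matrix.SpecialLinearGroup (Fin n) F := ⟨E * Matrix.diagonal (fun i => d (e.symm i)), by
    rw [Matrix.det_mul, Matrix.det_diagonal, e.symm.prod_comp d, hd, mul_inv_cancel₀ hE0]⟩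
  set M : Matrix (Fin n) (Fin n) F := g'.map F₀.subtype with hM
  have hxE : (x : Matrix (Fin n) (Fin n) F) * E = E * (l • M) := by
    ext i j
    have h1 := congrFun (hc (e.symm j)) i
    rw [Matrix.mul_apply, Matrix.mul_apply]
    simp only [hE, hM, g', c', Matrix.of_apply, Module.Basis.reindex_apply, Matrix.smul_apply, Matrix.map_apply,
      Matrix.submatrix_apply, smul_eq_mul]
    simp only [Matrix.mulVec, dotProduct, Pi.smul_apply, Finset.sum_apply, smul_eq_mul] at h1
    rw [h1, Finset.mul_sum, ← e.symm.sum_comp (fun s => l * ((g s (e.symm j) : F) * c s i))]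
    exact Finset.sum_congr rfl fun s _ => by simp; ring
  have hdne : ∀ i, d i ≠ 0 := fun i e0 => inv_ne_zero hE0 (hd ▸ Finset.prod_eq_zero (Finset.mem_univ i) e0)
  have hN : ∀ i j, ∃ v : F₀, (v : F) * d (e.symm i) = M i j * d (e.symm j) := fun i j => by
    by_cases h0 : g (e.symm i) (e.symm j) = 0
    · exact ⟨0, by simp [hM, g', h0]⟩
    · obtain ⟨v, hv⟩ := hdg _ _ h0
      exact ⟨g' i j * v, by simp [hM, hv]; ring⟩
  choose g₁ hg₁ using hN
  set M₁ : Matrix (Fin n) (Fin n) F := (Matrix.of g₁).map F₀.subtype with hM₁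
  have hcomm : M * Matrix.diagonal (fun i => d (e.symm i)) = Matrix.diagonal (fun i => d (e.symm i)) * M₁ := by
    ext i j
    rw [Matrix.diagonal_mul, Matrix.mul_diagonal, mul_comm (d _)]
    exact (hg₁ i j).symm
  have hconj : ((G⁻¹ * x * G : Matrix.SpecialLinearGroup (Fin n) F) : Matrix (Fin n) (Fin n) F) = l • M₁ := by
    have h1 : (x : Matrix (Fin n) (Fin n) F) * (G : Matrix (Fin n) (Fin n) F) = (G : Matrix (Fin n) (Fin n) F) * (l • M₁) := by
      show (x : Matrix (Fin n) (Fin n) F) * (E * _) = E * _ * _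
      rw [← mul_assoc, hxE]
      simp only [mul_assoc, Matrix.smul_mul, Matrix.mul_smul, hcomm]
    rw [mul_assoc, Matrix.SpecialLinearGroup.coe_mul, Matrix.SpecialLinearGroup.coe_mul, h1, ← mul_assoc,
      ← Matrix.SpecialLinearGroup.coe_mul, inv_mul_cancel, Matrix.SpecialLinearGroup.coe_one, one_mul]
  have hg0 : (Matrix.of g₁).det ≠ 0 := fun e0 => by
    have h1 := congrArg Matrix.det hconj
    rw [Matrix.SpecialLinearGroup.det_coe, Matrix.det_smul, hM₁, ← RingHom.mapMatrix_apply, ← RingHom.map_det, e0,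
      map_zero, mul_zero] at h1
    exact one_ne_zero h1
  let u : GL (Fin n) F₀ := Matrix.GeneralLinearGroup.mkOfDetNeZero (Matrix.of g₁) hg0
  let sc : GL (Fin n) F := Units.map (Matrix.scalar (Fin n) : F →+* Matrix (Fin n) (Fin n) F).toMonoidHom (Units.mk0 l hl)
  refine ⟨G, sc * Matrix.GeneralLinearGroup.map (F₀.subtype : F₀ →+* F) u,
    mul_mem (Subgroup.mem_sup_right ⟨_, rfl⟩) (Subgroup.mem_sup_left ⟨u, rfl⟩), ?_⟩
  simp only [map_one, MulEquiv.toMonoidHom_eq_coe, MonoidHom.coe_coe, MulAut.one_apply]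
  refine Units.ext ?_
  show Matrix.scalar (Fin n) l * (Matrix.of g₁).map F₀.subtype = ((G⁻¹ * x * G : Matrix.SpecialLinearGroup (Fin n) F) : Matrix (Fin n) (Fin n) F)
  rw [hconj, hM₁, Matrix.scalar_apply, ← Matrix.smul_one_eq_diagonal, Matrix.smul_mul, one_mul]

end Cfsg.Agent.Classical.SubfieldCube
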