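import Cfsg.Agent.Lib.Classical.SubfieldLin
import Cfsg.Agent.Lib.Classical.MaxSUHS

/-!
Rational subspaces of hermitian spaces and Siegel transformations in a subgroup.
-/

set_option autoImplicit false
set_option linter.unusedSectionVars false
set_option maxHeartbeats 1600000

open Module Matrix

namespace Cfsg.Agent.Classical.SubfieldHerm

open SubfieldLin HermSep HermGen MaxSU MaxLin

variable {F : Type*} [Field F] [Fintype F] {ι : Type} [Fintype ι] [DecidableEq ι]
variable {σ : F ≃+* F} {f : (ι → F) → (ι → F) → F} {F₀ : Subfield F}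

local notation "V" => ι → F

theorem rv_smul (k : F₀) (a : ι → F₀) : rv F₀ (k • a) = (k : F) • rv F₀ a := funext fun i => by simp [rv]

theorem rv_add (a b : ι → F₀) : rv F₀ (a + b) = rv F₀ a + rv F₀ b := funext fun i => by simp [rv]

theorem rv_sub (a b : ι → F₀) : rv F₀ (a - b) = rv F₀ a - rv F₀ b := funext fun i => by simp [rv]

theorem rv_zero : rv F₀ (0 : ι → F₀) = 0 := funext fun i => by simp [rv]

theorem rv_single (i : ι) : rv F₀ (Pi.single i (1 : F₀)) = Pi.single i (1 : F) := funext fun k => by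
  simp [rv, Pi.single_apply, apply_ite Subtype.val]

/-- A rational hermitian space. -/
structure RForm (σ : F ≃+* F) (f : (ι → F) → (ι → F) → F) (F₀ : Subfield F) : Prop where
  form : Cfsg.Geo.IsUnitaryForm σ f
  inv : ∀ x ∈ F₀, σ x ∈ F₀
  moved : ∃ x ∈ F₀, σ x ≠ x
  rat : ∀ a b : ι → F₀, f (rv F₀ a) (rv F₀ b) ∈ F₀
  big : 13 ≤ Fintype.card ι

variable (hR : RForm σ f F₀)

include hR

/-- The restricted automorphism. -/
noncomputable def σ₀ : F₀ ≃+* F₀ where
  toFun x := ⟨σ x, hR.inv x x.2⟩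
  invFun x := ⟨σ x, hR.inv x x.2⟩
  left_inv x := Subtype.ext (hR.form.involutive x)
  right_inv x := Subtype.ext (hR.form.involutive x)
  map_mul' x y := Subtype.ext (map_mul σ (x : F) y)
  map_add' x y := Subtype.ext (map_add σ (x : F) y)

/-- The restricted form. -/
def f₀ (a b : ι → F₀) : F₀ := ⟨f (rv F₀ a) (rv F₀ b), hR.rat a b⟩

theorem eq_of_rat {x y : V} (h : ∀ a : ι → F₀, f (rv F₀ a) x = f (rv F₀ a) y) : x = y := by
  have e : fn hR.form x = fn hR.form y := (Pi.basisFun F ι).ext fun i => by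
    have := h (Pi.single i 1)
    rw [rv_single] at this
    simpa [fn_apply] using this
  by_contra hne
  obtain ⟨z, hz⟩ := (hR.form.nondegenerate (x - y) (sub_ne_zero.2 hne)).1
  apply hz
  rw [hR.form.herm, sub_left hR.form, map_sub, ← hR.form.herm, ← hR.form.herm, sub_eq_zero]
  exact LinearMap.congr_fun e z

theorem unitary₀ : Cfsg.Geo.IsUnitaryForm (σ₀ hR) (f₀ hR) where
  ne_refl e := by
    obtain ⟨x, hx, hne⟩ := hR.moved
    exact hne (congrArg Subtype.val (RingEquiv.congr_fun e ⟨x, hx⟩))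
  involutive a := Subtype.ext (hR.form.involutive a)
  add_left x y v := Subtype.ext (by show f (rv F₀ (x + y)) _ = _; rw [rv_add, hR.form.add_left]; rfl)
  smul_left c x v := Subtype.ext (by show f (rv F₀ (c • x)) _ = _; rw [rv_smul, hR.form.smul_left]; rfl)
  herm v w := Subtype.ext (hR.form.herm _ _)
  nondegenerate v hv := by
    have : ∃ w : ι → F₀, f (rv F₀ w) (rv F₀ v) ≠ 0 := by
      by_contra hc
      push Not at hc
      refine rv_ne F₀ hv (eq_of_rat hR fun a => ?_)
      rw [hc a, zero_right hR.form]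
    obtain ⟨w, hw⟩ := this
    refine ⟨⟨w, fun e => hw (congrArg Subtype.val e)⟩, w, fun e => hw ?_⟩
    rw [hR.form.herm, show f (rv F₀ v) (rv F₀ w) = 0 from congrArg Subtype.val e, map_zero]

omit hR in
theorem not_mem_span {m : ℕ} {W : Fin m → ι → F₀} {p : ι → F₀} (h : ∀ r : Fin m → F₀, p ≠ ∑ i, r i • W i) :
    p ∉ Submodule.span F₀ (Set.range W) := fun hm => by
  obtain ⟨r, hr⟩ := (Submodule.mem_span_range_iff_exists_fun F₀).1 hm
  exact h r hr.symm

/-- An isotropic vector orthogonal to given ones with product one with another. -/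
theorem iso_dual {m : ℕ} (W : Fin m → ι → F₀) (hm : m ≤ 4) {p : ι → F₀}
    (h : ∀ r : Fin m → F₀, p ≠ ∑ i, r i • W i) :
    ∃ b, f (rv F₀ b) (rv F₀ b) = 0 ∧ (∀ i, f (rv F₀ b) (rv F₀ (W i)) = 0) ∧ f (rv F₀ b) (rv F₀ p) = 1 := by
  haveI : Fintype F₀ := Fintype.ofFinite _
  obtain ⟨e, hee, heW, hep⟩ := exists_isotropic (unitary₀ hR) W (by have := hR.big; omega) (not_mem_span h)
  set t : F₀ := (f₀ hR e p)⁻¹
  have hee' : f (rv F₀ e) (rv F₀ e) = 0 := congrArg Subtype.val hee
  refine ⟨t • e, ?_, fun i => ?_, ?_⟩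
  · rw [rv_smul, hR.form.smul_left, smul_right hR.form, hee', mul_zero, mul_zero]
  · rw [rv_smul, hR.form.smul_left, show f (rv F₀ e) (rv F₀ (W i)) = 0 from congrArg Subtype.val (heW i), mul_zero]
  · rw [rv_smul, hR.form.smul_left]
    have h0 : f (rv F₀ e) (rv F₀ p) ≠ 0 := fun e' => hep (Subtype.ext e')
    show (((f₀ hR e p)⁻¹ : F₀) : F) * _ = 1
    push_cast
    exact inv_mul_cancel₀ h0

/-- An isotropic vector orthogonal to given ones outside the span of others. -/
theorem iso_avoid {m k : ℕ} (W : Fin m → ι → F₀) (A : Fin k → ι → F₀) (hm : m ≤ 4) (h : m + k < Fintype.card ι) :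
    ∃ c, f (rv F₀ c) (rv F₀ c) = 0 ∧ (∀ i, f (rv F₀ c) (rv F₀ (W i)) = 0) ∧
      ∀ r : Fin k → F₀, c ≠ ∑ i, r i • A i := by
  haveI : Fintype F₀ := Fintype.ofFinite _
  have hf := unitary₀ hR
  obtain ⟨u, hu, huW⟩ : ∃ u ∈ perp hf A, u ∉ Submodule.span F₀ (Set.range W) := by
    by_contra hc
    push Not at hc
    have h1 := finrank_perp hf A
    have h2 := Submodule.finrank_mono hc
    have h3 := finrank_range_le_card (R := F₀) W
    rw [Fintype.card_fin] at h3
    change finrank F₀ (Submodule.span F₀ (Set.range W)) ≤ m at h3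
    omega
  obtain ⟨e, hee, heW, heu⟩ := exists_isotropic hf W (by have := hR.big; omega) huW
  refine ⟨e, congrArg Subtype.val hee, fun i => congrArg Subtype.val (heW i), fun r e' => heu ?_⟩
  rw [e', sum_left hf]
  exact Finset.sum_eq_zero fun i _ => by rw [swap_zero hf ((mem_perp hf).1 hu i), mul_zero]

theorem exists_trace {x : F} (hx : x ∈ F₀) (hfix : σ x = x) : ∃ κ ∈ F₀, κ + σ κ = x := by
  haveI : Fintype F₀ := Fintype.ofFinite _
  obtain ⟨y, hy, hne⟩ : ∃ y ∈ F₀, y + σ y ≠ 0 := by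
    by_contra hc
    push Not at hc
    obtain ⟨z, hz, hne⟩ := hR.moved
    have h1 := hc 1 (one_mem _)
    rw [map_one] at h1
    exact hne (by linear_combination hc z hz - z * h1)
  refine ⟨x / (y + σ y) * y, mul_mem (div_mem hx (add_mem hy (hR.inv y hy))) hy, ?_⟩
  rw [map_mul, map_div₀, map_add, hR.form.involutive, hfix, add_comm (σ y) y, ← mul_add, div_mul_cancel₀ _ hne]

theorem exists_skew₀ : ∃ k ∈ F₀, k ≠ 0 ∧ σ k = -k := by
  obtain ⟨z, hz, hne⟩ := hR.moved
  exact ⟨z - σ z, sub_mem hz (hR.inv z hz), sub_ne_zero.2 (Ne.symm hne), by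
    rw [map_sub, hR.form.involutive]; ring⟩

/-- Rational isotropic vectors orthogonal to a small family span its orthogonal. -/
theorem iso_span {m : ℕ} (W : Fin m → ι → F₀) (hm : m ≤ 3) (U : Submodule F₀ (ι → F₀))
    (hU : ∀ e, f (rv F₀ e) (rv F₀ e) = 0 → (∀ i, f (rv F₀ e) (rv F₀ (W i)) = 0) → e ∈ U)
    {w : ι → F₀} (hw : ∀ i, f (rv F₀ w) (rv F₀ (W i)) = 0) : w ∈ U := by
  let W' : Fin (m + 1) → ι → F₀ := Fin.cons w W
  obtain ⟨e, hee, heW, hne⟩ := iso_avoid hR W' W' (by omega) (by have := hR.big; omega)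
  obtain ⟨g, hgg, hgW, hge⟩ := iso_dual hR W' (by omega) hne
  have hew : f (rv F₀ e) (rv F₀ w) = 0 := heW 0
  have hgw : f (rv F₀ g) (rv F₀ w) = 0 := hgW 0
  obtain ⟨κ, hκ, hκ'⟩ := exists_trace hR (hR.rat w w) (hR.form.herm _ _).symm
  set l : F₀ := -⟨κ, hκ⟩
  have heg : f (rv F₀ e) (rv F₀ g) = 1 := by rw [hR.form.herm, hge, map_one]
  have h1 : w + e + l • g ∈ U := hU _ (by
    rw [rv_add, rv_add, rv_smul, hR.form.add_left, hR.form.add_left, add_right hR.form, add_right hR.form,
      add_right hR.form, add_right hR.form, add_right hR.form, add_right hR.form, hR.form.smul_left, hR.form.smul_left,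
      hR.form.smul_left, smul_right hR.form, smul_right hR.form, smul_right hR.form, hee, hgg, hew, hgw,
      swap_zero hR.form hew, swap_zero hR.form hgw, heg, hge]
    simp only [l, NegMemClass.coe_neg, map_neg, mul_zero, add_zero, zero_add, mul_one]
    linear_combination -hκ') fun i => by
    rw [rv_add, rv_add, rv_smul, hR.form.add_left, hR.form.add_left, hR.form.smul_left, hw i,
      show f (rv F₀ e) (rv F₀ (W i)) = 0 by simpa [W'] using heW i.succ,
      show f (rv F₀ g) (rv F₀ (W i)) = 0 by simpa [W'] using hgW i.succ]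
    simp
  have he : e ∈ U := hU e hee fun i => by simpa [W'] using heW i.succ
  have hg : g ∈ U := hU g hgg fun i => by simpa [W'] using hgW i.succ
  have := U.sub_mem (U.sub_mem h1 he) (U.smul_mem l hg)
  rwa [show w + e + l • g - e - l • g = w by abel] at this

end Cfsg.Agent.Classical.SubfieldHerm

namespace Cfsg.Agent.Classical.SubfieldHerm

open Module Matrix SubfieldLin HermSep HermGen MaxSU MaxLin

variable {F : Type*} [Field F] [Fintype F] {ι : Type} [Fintype ι] [DecidableEq ι]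
variable {σ : F ≃+* F} {f : (ι → F) → (ι → F) → F} (hf : Cfsg.Geo.IsUnitaryForm σ f)

local notation "V" => ι → F

/-- The Siegel transformation with these parameters is in `M`. -/
def InM (M : Subgroup (GL ι F)) (a b : V) (κ : F) : Prop :=
  ∃ h1 h2 h3, hS hf a b κ h1 h2 h3 ∈ M

variable {hf} {M : Subgroup (GL ι F)}

theorem InM.congr {a b b' : V} {κ κ' : F} (h : InM hf M a b κ) (hb : b = b') (hκ : κ = κ') :
    InM hf M a b' κ' := hb ▸ hκ ▸ h

theorem InM.mul {a b c : V} {κ μ : F} (h : InM hf M a b κ) (h' : InM hf M a c μ) :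
    InM hf M a (b + c) (κ + μ + f c b) := by
  obtain ⟨ha, hb, hκ, hm⟩ := h
  obtain ⟨ha', hc, hμ, hm'⟩ := h'
  refine ⟨ha, by rw [hf.add_left, hb, hc, add_zero], ?_, ?_⟩
  · rw [map_add, map_add, ← hf.herm b c, hf.add_left, add_right hf, add_right hf, ← hκ, ← hμ]; ring
  have e : hS hf a (b + c) (κ + μ + f c b) ha (by rw [hf.add_left, hb, hc, add_zero])
      (by rw [map_add, map_add, ← hf.herm b c, hf.add_left, add_right hf, add_right hf, ← hκ, ← hμ]; ring) =
      hS hf a b κ ha hb hκ * hS hf a c μ ha hc hμ := gl_ext fun x => by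
    rw [Units.val_mul, ← Matrix.mulVec_mulVec, hS_apply, hS_apply, hS_apply]
    simp only [sub_eq_add_neg, ← neg_smul, hf.add_left, hf.smul_left, add_right hf, smul_eq_mul, ha, hb, hc,
      swap_zero hf hb, swap_zero hf hc]
    module
  rw [e]; exact mul_mem hm hm'

theorem InM.inv {a b : V} {κ : F} (h : InM hf M a b κ) : InM hf M a (-b) (σ κ) := by
  obtain ⟨ha, hb, hκ, hm⟩ := h
  have hb' : f (-b) a = 0 := by rw [← neg_one_smul F b, hf.smul_left, hb, mul_zero]
  have hκ' : σ κ + σ (σ κ) = f (-b) (-b) := by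
    rw [hf.involutive, ← neg_one_smul F b, hf.smul_left, smul_right hf, map_neg, map_one, ← hκ]; ring
  refine ⟨ha, hb', hκ', ?_⟩
  have e : hS hf a (-b) (σ κ) ha hb' hκ' = (hS hf a b κ ha hb hκ)⁻¹ := eq_inv_of_mul_eq_one_left (gl_ext fun x => by
    rw [Units.val_mul, ← Matrix.mulVec_mulVec, hS_apply, hS_apply, Units.val_one, Matrix.one_mulVec,
      ← neg_one_smul F b]
    simp only [sub_eq_add_neg, ← neg_smul, hf.add_left, hf.smul_left, smul_right hf, map_neg, map_one, smul_eq_mul,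
      ha, hb, swap_zero hf hb]
    rw [← hκ]
    module)
  rw [e]; exact inv_mem hm

theorem InM.map {a b : V} {κ : F} (h : InM hf M a b κ) {g : GL ι F} (hg : g ∈ M) (hp : Pres f g) :
    InM hf M ((g : Matrix ι ι F) *ᵥ a) ((g : Matrix ι ι F) *ᵥ b) κ := by
  obtain ⟨ha, hb, hκ, hm⟩ := h
  obtain ⟨h1, h2, h3, e⟩ := hS_conj hf hp a b κ ha hb hκ
  exact ⟨h1, h2, h3, e ▸ mul_mem (mul_mem hg hm) (inv_mem hg)⟩

theorem InM.smul_centre {a b : V} {κ : F} {l : F} (hl : l ≠ 0) (h : InM hf M a (σ l • b) (l * σ l * κ)) :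
    InM hf M (l • a) b κ := by
  obtain ⟨ha, hb, hκ, hm⟩ := h
  have hl' : σ l ≠ 0 := (map_ne_zero σ).2 hl
  rw [hf.smul_left] at hb
  have hb' : f b a = 0 := (mul_eq_zero.1 hb).resolve_left hl'
  refine ⟨by rw [hf.smul_left, smul_right hf, ha, mul_zero, mul_zero], by rw [smul_right hf, hb', mul_zero], ?_, ?_⟩
  · rw [map_mul, map_mul, hf.involutive, hf.smul_left, smul_right hf, hf.involutive] at hκ
    exact mul_left_cancel₀ (mul_ne_zero hl hl') (by linear_combination hκ)
  convert hm using 1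
  refine gl_ext fun x => ?_
  rw [hS_apply, hS_apply]
  simp only [smul_right hf, hf.involutive]
  module

/-- Commutators give transvections. -/
theorem InM.comm {a b c : V} {κ μ : F} (h : InM hf M a b κ) (h' : InM hf M a c μ) :
    InM hf M a 0 (f c b - f b c) := by
  refine ((h.mul h').mul (h'.mul h).inv).congr (by abel) ?_
  rw [← neg_one_smul F (c + b), hf.smul_left]
  simp only [map_add, ← hf.herm c b, hf.add_left, add_right hf]
  obtain ⟨-, -, hκ, -⟩ := h
  obtain ⟨-, -, hμ, -⟩ := h'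
  linear_combination hκ + hμ

end Cfsg.Agent.Classical.SubfieldHerm
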