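import Cfsg.Agent.Lib.Classical.SubfieldHermMax
import Cfsg.Agent.Lib.Classical.SubfieldMem

/-!
Subfield subgroups of special unitary groups are maximal.
-/

set_option autoImplicit false
set_option linter.unusedSectionVars false
set_option maxHeartbeats 1600000

open Module Matrix

namespace Cfsg.Agent.Classical.SubfieldHerm

open SubfieldLin HermSep HermGen MaxSU MaxLin

variable {F : Type*} [Field F] [Fintype F]

/-- An automorphism maps a subfield into itself. -/
theorem map_mem (σ : F ≃+* F) (F₀ : Subfield F) {x : F} (hx : x ∈ F₀) : σ x ∈ F₀ := by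
  classical
  haveI : Fintype F₀ := Fintype.ofFinite _
  have hQ : 1 < Fintype.card F₀ := Fintype.one_lt_card
  have hall : ∀ y ∈ F₀, y ^ Fintype.card F₀ = y := fun y hy =>
    congrArg Subtype.val (FiniteField.pow_card (⟨y, hy⟩ : F₀))
  let p : Polynomial F := Polynomial.X ^ Fintype.card F₀ - Polynomial.X
  have hp : p ≠ 0 := FiniteField.X_pow_card_sub_X_ne_zero F hQ
  by_contra hc
  let S : Finset F := insert (σ x) (Finset.univ.map ⟨((↑) : F₀ → F), Subtype.val_injective⟩)
  have h1 : S.card = Fintype.card F₀ + 1 := by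
    rw [Finset.card_insert_of_notMem (by
      simp only [Finset.mem_map, Finset.mem_univ, true_and, Function.Embedding.coeFn_mk, not_exists]
      exact fun y e => hc (e ▸ y.2)), Finset.card_map, Finset.card_univ]
  have h2 : S ⊆ p.roots.toFinset := fun y hy => by
    rw [Multiset.mem_toFinset, Polynomial.mem_roots hp]
    simp only [p, Polynomial.IsRoot, Polynomial.eval_sub, Polynomial.eval_pow, Polynomial.eval_X, sub_eq_zero]
    rcases Finset.mem_insert.1 hy with rfl | hy
    · rw [← map_pow, hall x hx]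
    · obtain ⟨z, -, rfl⟩ := Finset.mem_map.1 hy
      exact hall _ z.2
  have h3 := (Finset.card_le_card h2).trans ((Multiset.toFinset_card_le _).trans (Polynomial.card_roots' p))
  rw [h1, FiniteField.X_pow_card_sub_X_natDegree_eq F hQ] at h3
  omega

/-- For odd degree, the subfield is moved. -/
theorem exists_moved {q r : ℕ} (hF : Fintype.card F = q ^ 2) (hr : r.Prime) (hro : Odd r) {F₀ : Subfield F}
    (hcard : Fintype.card F = Nat.card F₀ ^ r) : ∃ x ∈ F₀, x ^ q ≠ x := by
  classical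
  haveI : Fintype F₀ := Fintype.ofFinite _
  rw [Nat.card_eq_fintype_card] at hcard
  obtain ⟨j, hj⟩ := hro
  set Q := Fintype.card F₀ with hQ
  have hQ1 : 1 < Q := Fintype.one_lt_card
  have hQj : 0 < Q ^ j := pow_pos (by omega) _
  obtain ⟨s, hs⟩ : Q ^ j ∣ q := by
    refine (Nat.pow_dvd_pow_iff (n := 2) (by norm_num)).1 ⟨Q, ?_⟩
    rw [← hF, hcard, hj, ← pow_mul, ← pow_succ, mul_comm j 2]
  have hss : s * s = Q := by
    have h := hF
    rw [hcard, hj, hs] at h
    exact Nat.eq_of_mul_eq_mul_left (pow_pos (show 0 < Q by omega) (2 * j))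
      (by rw [← pow_succ, h, mul_comm 2 j, pow_mul]; ring)
  by_contra hc
  push Not at hc
  have hs1 : 1 < s := by nlinarith
  have hpow : ∀ (y : F₀) (i : ℕ), y ^ (Q ^ i) = y := fun y i => by
    induction i with
    | zero => rw [pow_zero, pow_one]
    | succ i ih => rw [pow_succ, pow_mul, ih, hQ, FiniteField.pow_card]
  have hall : ∀ y : F₀, y ^ s = y := fun y => by
    apply Subtype.ext
    have h := hc y y.2
    rw [hs, pow_mul, show ((y : F₀) : F) ^ (Q ^ j) = ((y : F₀) : F) from congrArg Subtype.val (hpow y j)] at h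
    exact h
  let p : Polynomial F₀ := Polynomial.X ^ s - Polynomial.X
  have hp : p ≠ 0 := FiniteField.X_pow_card_sub_X_ne_zero F₀ hs1
  have h2 : (Finset.univ : Finset F₀) ⊆ p.roots.toFinset := fun y _ => by
    rw [Multiset.mem_toFinset, Polynomial.mem_roots hp]
    simp [p, sub_eq_zero, hall y]
  have h3 := (Finset.card_le_card h2).trans ((Multiset.toFinset_card_le _).trans (Polynomial.card_roots' p))
  rw [Finset.card_univ, FiniteField.X_pow_card_sub_X_natDegree_eq F₀ hs1, ← hQ] at h3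
  nlinarith

variable {n q : ℕ}

local notation "ι" => Fin n
local notation "V" => ι → F

theorem su_subfield_maximal (hF : Fintype.card F = q ^ 2) (hn : 13 ≤ n) (F₀ : Subfield F) {r : ℕ} (hr : r.Prime)
    (hro : Odd r) (hcard : Fintype.card F = Nat.card F₀ ^ r) (P : GL (Fin n) F)
    (hP : Cfsg.Geo.IsFormRationalStructure (Cfsg.hermForm n F q) F₀ 1 P) :
    Cfsg.Geo.IsMaximalIn (Cfsg.GU n F q ⊓ Cfsg.Geo.specialLinear (Fin n) F)
      (Cfsg.Geo.subfieldSubgroup F₀ P ⊓ (Cfsg.GU n F q ⊓ Cfsg.Geo.specialLinear (Fin n) F)) := by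
  classical
  obtain ⟨σ, hf⟩ := MaxSU.hermForm_unitary (n := n) hF
  have hσ : ∀ x, σ x = x ^ q := fun x => by
    have h := hf.herm (Pi.single (⟨0, by omega⟩ : ι) 1) (Pi.single (⟨0, by omega⟩ : ι) x)
    have hq0 : q ≠ 0 := by
      rintro rfl
      simp at hF
    rw [Cfsg.hermForm, Cfsg.hermForm, Finset.sum_eq_single (⟨0, by omega⟩ : ι) (fun l _ hl => by simp [hl, hq0])
      (by simp), Finset.sum_eq_single (⟨0, by omega⟩ : ι) (fun l _ hl => by simp [hl]) (by simp)] at h
    simpa using h.symm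
  let f' : V → V → F := fun u v => Cfsg.hermForm n F q ((P : Matrix ι ι F) *ᵥ u) ((P : Matrix ι ι F) *ᵥ v)
  have hform : Cfsg.Geo.IsUnitaryForm σ f' :=
    { ne_refl := hf.ne_refl
      involutive := hf.involutive
      add_left := fun x y v => by simp only [f', Matrix.mulVec_add, hf.add_left]
      smul_left := fun c x v => by simp only [f', Matrix.mulVec_smul, hf.smul_left]
      herm := fun v w => hf.herm _ _
      nondegenerate := fun v hv => by
        have hPv : (P : Matrix ι ι F) *ᵥ v ≠ 0 := fun e => hv (by rw [← gl_inv_mulVec' P v, e, Matrix.mulVec_zero])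
        obtain ⟨⟨w, hw⟩, w', hw'⟩ := hf.nondegenerate _ hPv
        exact ⟨⟨((P⁻¹ : GL ι F) : Matrix ι ι F) *ᵥ w, by simpa only [f', gl_inv_mulVec] using hw⟩,
          ((P⁻¹ : GL ι F) : Matrix ι ι F) *ᵥ w', by simpa only [f', gl_inv_mulVec] using hw'⟩ }
  obtain ⟨z, hz, hzq⟩ := exists_moved hF hr hro hcard
  have hR : RForm σ f' F₀ := ⟨hform, fun x hx => map_mem σ F₀ hx, ⟨z, hz, by rwa [hσ]⟩,
    fun a b => by
      have := hP (rv F₀ a) (rv F₀ b) (fun i => (a i).2) fun i => (b i).2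
      rwa [one_mul] at this, by simpa using hn⟩
  have hr3 : 3 ≤ r := by have := hr.two_le; obtain ⟨j, rfl⟩ := hro; omega
  have hcard' : Nat.card F = Nat.card F₀ ^ r := by rw [Nat.card_eq_fintype_card]; exact hcard
  -- conjugation by the basis
  have hpres : ∀ S : GL ι F, Pres f' S → Pres (Cfsg.hermForm n F q) (P * S * P⁻¹) := fun S hS => by
    refine ⟨fun x y => ?_, ?_⟩
    · have h := hS.1 (((P⁻¹ : GL ι F) : Matrix ι ι F) *ᵥ x) (((P⁻¹ : GL ι F) : Matrix ι ι F) *ᵥ y)
      simp only [f', gl_inv_mulVec] at h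
      simpa only [Units.val_mul, ← Matrix.mulVec_mulVec] using h
    · rw [Units.val_mul, Units.val_mul, Matrix.det_mul, Matrix.det_mul, hS.2, mul_one, ← Matrix.det_mul,
        ← Units.val_mul, mul_inv_cancel, Units.val_one, Matrix.det_one]
  have hpres' : ∀ A : GL ι F, Pres (Cfsg.hermForm n F q) A → Pres f' (P⁻¹ * A * P) := fun A hA => by
    refine ⟨fun x y => ?_, ?_⟩
    · simp only [f', Matrix.mulVec_mulVec, ← Units.val_mul]
      rw [show P * (P⁻¹ * A * P) = A * P by group, Units.val_mul, ← Matrix.mulVec_mulVec, ← Matrix.mulVec_mulVec,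
        hA.1]
    · rw [Units.val_mul, Units.val_mul, Matrix.det_mul, Matrix.det_mul, hA.2, mul_one, ← Matrix.det_mul,
        ← Units.val_mul, inv_mul_cancel, Units.val_one, Matrix.det_one]
  have hrat : ∀ x y : ι → F₀, f' (rv F₀ x) (rv F₀ y) ∈ F₀ := hR.rat
  obtain ⟨r', hr'σ, hr'⟩ : ∃ r', σ r' = r' ∧ r' ∉ F₀ := by
    by_contra hc
    push Not at hc
    obtain ⟨s, hs⟩ : ∃ s : F, s ∉ F₀ := by
      by_contra hc'
      push Not at hc'
      have h1 : Nat.card F₀ = Nat.card F := Nat.card_congr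
        { toFun := fun x => x.1, invFun := fun x => ⟨x, hc' x⟩, left_inv := fun _ => rfl, right_inv := fun _ => rfl }
      rw [← h1] at hcard'
      have h2 : 2 ≤ Nat.card F₀ := Finite.one_lt_card
      have := Nat.pow_lt_pow_right h2 hr.one_lt
      rw [pow_one] at this
      omega
    have hd : z - σ z ≠ 0 := sub_ne_zero.2 (by rw [hσ]; exact Ne.symm hzq)
    set B := (s - σ s) / (z - σ z)
    have hB : σ B = B := by
      simp only [B, map_div₀, map_sub, hf.involutive]
      rw [← neg_div_neg_eq, neg_sub, neg_sub]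
    have hA : σ (s - B * z) = s - B * z := by
      rw [map_sub, map_mul, hB]
      have : B * (z - σ z) = s - σ s := div_mul_cancel₀ _ hd
      linear_combination this
    exact hs (by
      have := add_mem (hc _ hA) (mul_mem (hc _ hB) hz)
      rwa [sub_add_cancel] at this)
  obtain ⟨k, hk, hk0, hks⟩ := exists_skew₀ hR
  refine MaxSU.su_isMaximalIn hf (by omega) ?_ fun M hM1 hM2 hM3 => ?_
  · -- a transvection outside the subfield group
    obtain ⟨a, haa, -, hane⟩ := iso_avoid hR (![] : Fin 0 → ι → F₀) ![(0 : ι → F₀)] (by norm_num)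
      (by have := hR.big; omega)
    obtain ⟨b, -, -, hba⟩ := iso_dual hR (![] : Fin 0 → ι → F₀) (by norm_num) (p := a)
      fun l e => hane 0 (by simpa using e)
    have h2 : f' (0 : V) (rv F₀ a) = 0 := zero_left hform _
    have h3 : k * r' + σ (k * r') = f' (0 : V) 0 := by
      rw [zero_left hform, map_mul, hks, hr'σ]; ring
    refine ⟨P * hS hform (rv F₀ a) 0 (k * r') haa h2 h3 * P⁻¹, hpres _ (hS_pres hform _ _ _ _ _ _), fun hK => hr' ?_⟩
    obtain ⟨l, y, hy, hAy⟩ := SubfieldMem.rat_image F₀ P hK (y := (P : Matrix ι ι F) *ᵥ rv F₀ b)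
      fun i => by rw [gl_inv_mulVec']; exact (b i).2
    set e' : ι → F₀ := fun i => ⟨_, hy i⟩
    have h4 : rv F₀ b - (k * r') • rv F₀ a = l • rv F₀ e' := by
      have := congrArg (fun w => ((P⁻¹ : GL ι F) : Matrix ι ι F) *ᵥ w) hAy
      simp only [Units.val_mul, ← Matrix.mulVec_mulVec, gl_inv_mulVec', Matrix.mulVec_smul] at this
      rw [hS_apply, zero_right hform, smul_zero, add_zero, zero_add, hba, mul_one] at this
      exact this
    have hl : l ∈ F₀ := by
      have h5 := congrArg (fun w => f' w (rv F₀ a)) h4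
      simp only [sub_left hform, hform.smul_left, haa, mul_zero, sub_zero, hba] at h5
      have hne : f' (rv F₀ e') (rv F₀ a) ≠ 0 := fun e0 => by rw [e0, mul_zero] at h5; exact one_ne_zero h5
      rw [show l = 1 / f' (rv F₀ e') (rv F₀ a) by rw [eq_div_iff hne]; exact h5.symm]
      exact div_mem (one_mem _) (hrat _ _)
    have h5 := congrArg (fun w => f' w (rv F₀ b)) h4
    simp only [sub_left hform, hform.smul_left, show f' (rv F₀ a) (rv F₀ b) = 1 by rw [hform.herm, hba, map_one],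
      mul_one] at h5
    have h6 : k * r' ∈ F₀ := by
      rw [show k * r' = f' (rv F₀ b) (rv F₀ b) - l * f' (rv F₀ e') (rv F₀ b) by linear_combination -h5]
      exact sub_mem (hrat _ _) (mul_mem hl (hrat _ _))
    rw [show r' = k * r' / k by field_simp]
    exact div_mem h6 hk
  -- the conjugated subgroup
  let M' : Subgroup (GL ι F) := M.comap (MulAut.conj P).toMonoidHom
  have hmem : ∀ S, S ∈ M' ↔ P * S * P⁻¹ ∈ M := fun S => by simp [M']
  have hD : Data hR M' := ⟨fun a b κ hκ haa hba hκb => by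
    refine ⟨haa, hba, hκb, (hmem _).2 (hM1 _ (hpres _ (hS_pres hform _ _ _ _ _ _)) ?_)⟩
    rw [SubfieldMem.mem_iff]
    refine ⟨1, hS hform (rv F₀ a) (rv F₀ b) κ haa hba hκb, one_ne_zero, fun i j => ?_, by
      rw [one_smul]; congr 1; group⟩
    have h := congrFun (hS_apply hform (rv F₀ a) (rv F₀ b) κ haa hba hκb (rv F₀ (Pi.single j 1))) i
    rw [rv_single, Matrix.mulVec_single_one] at h
    refine (show (hS hform (rv F₀ a) (rv F₀ b) κ haa hba hκb : Matrix ι ι F) i j = _ from h) ▸ ?_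
    rw [← rv_single (F₀ := F₀)]
    simp only [Pi.add_apply, Pi.sub_apply, Pi.smul_apply, smul_eq_mul]
    exact sub_mem (add_mem (Subtype.property _) (mul_mem (hrat _ _) (b i).2))
      (mul_mem (add_mem (hrat _ _) (mul_mem hκ (hrat _ _))) (a i).2),
    fun S hS => by
      have := hpres' _ (hM2 _ ((hmem S).1 hS))
      rwa [show P⁻¹ * (P * S * P⁻¹) * P = S by group] at this⟩
  obtain ⟨g, hgM, hgK⟩ := hM3
  set g' : GL ι F := P⁻¹ * g * P with hg'
  have hg'M : g' ∈ M' := (hmem _).2 (by rwa [hg', show P * (P⁻¹ * g * P) * P⁻¹ = g by group])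
  have hg'p : ∀ x y, f' ((g' : Matrix ι ι F) *ᵥ x) ((g' : Matrix ι ι F) *ᵥ y) = f' x y := (hD.pres _ hg'M).1
  obtain ⟨a', ha'a', hga⟩ : ∃ a' : ι → F₀, f' (rv F₀ a') (rv F₀ a') = 0 ∧
      ∀ (l : F) (e : ι → F₀), (g' : Matrix ι ι F) *ᵥ rv F₀ a' ≠ l • rv F₀ e := by
    by_contra hc
    push Not at hc
    obtain ⟨a₀, ha₀₀, -, hane⟩ := iso_avoid hR (![] : Fin 0 → ι → F₀) ![(0 : ι → F₀)] (by norm_num)
      (by have := hR.big; omega)
    have ha₀ : a₀ ≠ 0 := fun e => hane 0 (by simp [e])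
    obtain ⟨l₀, e₀, he₀⟩ := hc a₀ ha₀₀
    have hinj : ∀ x : V, (g' : Matrix ι ι F) *ᵥ x = 0 → x = 0 := fun x hx => by
      rw [← gl_inv_mulVec' g' x, hx, Matrix.mulVec_zero]
    have hl₀ : l₀ ≠ 0 := fun e => rv_ne F₀ ha₀ (hinj _ (by rw [he₀, e, zero_smul]))
    let W : Submodule F₀ (ι → F₀) :=
      { carrier := {y | ∃ d : ι → F₀, (g' : Matrix ι ι F) *ᵥ rv F₀ y = l₀ • rv F₀ d}
        zero_mem' := ⟨0, by rw [rv_zero, Matrix.mulVec_zero, smul_zero]⟩
        add_mem' := fun {x y} hx hy => by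
          obtain ⟨d, hd⟩ := hx
          obtain ⟨d', hd'⟩ := hy
          exact ⟨d + d', by rw [rv_add, rv_add, Matrix.mulVec_add, hd, hd', smul_add]⟩
        smul_mem' := fun c x hx => by
          obtain ⟨d, hd⟩ := hx
          exact ⟨c • d, by rw [rv_smul, rv_smul, Matrix.mulVec_smul, hd, smul_comm]⟩ }
    have hiso : ∀ a : ι → F₀, f' (rv F₀ a) (rv F₀ a) = 0 → a ∈ W := by
      intro a haa
      rcases eq_or_ne a 0 with rfl | ha
      · exact zero_mem W
      haveI : Fintype F₀ := Fintype.ofFinite _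
      obtain ⟨b, hbb, -, hb0, hba⟩ := exists_isotropic_two (unitary₀ hR) (![] : Fin 0 → ι → F₀)
        (by simp; omega) (u := a₀) (x := a) (by simpa using ha₀) (by simpa using ha)
      have hb0' : f' (rv F₀ b) (rv F₀ a₀) ≠ 0 := fun e => hb0 (Subtype.ext e)
      have hba' : f' (rv F₀ b) (rv F₀ a) ≠ 0 := fun e => hba (Subtype.ext e)
      obtain ⟨l, e, he⟩ := hc a haa
      obtain ⟨m, d, hd⟩ := hc b (congrArg Subtype.val hbb)
      have h1 := hg'p (rv F₀ b) (rv F₀ a₀)
      have h2 := hg'p (rv F₀ b) (rv F₀ a)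
      rw [he₀, hd, hform.smul_left, smul_right hform] at h1
      rw [he, hd, hform.smul_left, smul_right hform] at h2
      have hd0 : f' (rv F₀ d) (rv F₀ e₀) ≠ 0 := fun e0 => hb0' (by rw [← h1, e0, mul_zero, mul_zero])
      have hd1 : f' (rv F₀ d) (rv F₀ e) ≠ 0 := fun e0 => hba' (by rw [← h2, e0, mul_zero, mul_zero])
      have hm0 : m * σ l₀ ∈ F₀ := by
        rw [show m * σ l₀ = f' (rv F₀ b) (rv F₀ a₀) / f' (rv F₀ d) (rv F₀ e₀) by
          rw [eq_div_iff hd0, mul_assoc, h1]]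
        exact div_mem (hrat _ _) (hrat _ _)
      have hm1 : m * σ l ∈ F₀ := by
        rw [show m * σ l = f' (rv F₀ b) (rv F₀ a) / f' (rv F₀ d) (rv F₀ e) by
          rw [eq_div_iff hd1, mul_assoc, h2]]
        exact div_mem (hrat _ _) (hrat _ _)
      have hm : m ≠ 0 := fun e0 => hb0' (by rw [← h1, e0, zero_mul])
      have hq' : σ (l / l₀) ∈ F₀ := by
        rw [map_div₀, show σ l / σ l₀ = (m * σ l) / (m * σ l₀) from (mul_div_mul_left _ _ hm).symm]
        exact div_mem hm1 hm0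
      have hq : l / l₀ ∈ F₀ := by
        rw [← hf.involutive (l / l₀)]; exact map_mem σ F₀ hq'
      refine ⟨(⟨_, hq⟩ : F₀) • e, ?_⟩
      rw [he, rv_smul, smul_smul]
      show l • rv F₀ e = (l₀ * (l / l₀)) • rv F₀ e
      rw [mul_div_cancel₀ _ hl₀]
    refine hgK (SubfieldMem.mem_of_rat_image F₀ P fun y hy => ?_)
    obtain ⟨d, hd⟩ : (fun i => (⟨_, hy i⟩ : F₀)) ∈ W :=
      iso_span hR (![] : Fin 0 → ι → F₀) (by norm_num) W (fun e hee _ => hiso e hee) fun i => i.elim0
    refine ⟨l₀, (P : Matrix ι ι F) *ᵥ rv F₀ d, fun i => by rw [gl_inv_mulVec']; exact (d i).2, ?_⟩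
    rw [← Matrix.mulVec_smul, ← hd, hg', Units.val_mul, Units.val_mul, ← Matrix.mulVec_mulVec,
      ← Matrix.mulVec_mulVec, gl_inv_mulVec]
    rw [show rv F₀ (fun i => (⟨_, hy i⟩ : F₀)) = ((P⁻¹ : GL ι F) : Matrix ι ι F) *ᵥ y from rfl, gl_inv_mulVec]
  have hu : InM hR.form M' ((g' : Matrix ι ι F) *ᵥ rv F₀ a') 0 k := by
    have := (hD.el a' 0 k hk ha'a' (by rw [rv_zero, zero_left hform])
      (by rw [rv_zero, zero_left hform, hks]; ring)).map hg'M (hD.pres _ hg'M)
    rwa [rv_zero, Matrix.mulVec_zero] at this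
  have hcen := all_cen hD hr hcard' hr3 hk hk0 hks hu fun l e => hga l e
  intro v hvv
  refine cen_of_mem hf hvv fun c hc h0 => ?_
  have hv' : f' (((P⁻¹ : GL ι F) : Matrix ι ι F) *ᵥ v) (((P⁻¹ : GL ι F) : Matrix ι ι F) *ᵥ v) = 0 := by
    simp only [f', gl_inv_mulVec]; exact hvv
  obtain ⟨h0', hm⟩ := (hcen _ hv').2 c hc
  have hm' := (hmem _).1 hm
  convert hm' using 1
  refine gl_ext fun x => ?_
  rw [Units.val_mul, Units.val_mul, ← Matrix.mulVec_mulVec, ← Matrix.mulVec_mulVec, transGL_apply, transGL_apply,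
    Matrix.mulVec_add, Matrix.mulVec_smul, gl_inv_mulVec, gl_inv_mulVec]
  simp only [LinearMap.smul_apply, fn_apply, f', gl_inv_mulVec]

end Cfsg.Agent.Classical.SubfieldHerm
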