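import Cfsg.Agent.Lib.Classical.SubfieldHerm

/-!
Subfield subgroups of special unitary groups: new root parameters.
-/

set_option autoImplicit false
set_option linter.unusedSectionVars false
set_option maxHeartbeats 1600000

open Module Matrix

namespace Cfsg.Agent.Classical.SubfieldHerm

open SubfieldLin HermSep HermGen MaxSU MaxLin

variable {F : Type*} [Field F] [Fintype F] {ι : Type} [Fintype ι] [DecidableEq ι]
variable {σ : F ≃+* F} {f : (ι → F) → (ι → F) → F} {F₀ : Subfield F}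

local notation "V" => ι → F

variable (hR : RForm σ f F₀) {M : Subgroup (GL ι F)}

theorem InM.swap {hf : Cfsg.Geo.IsUnitaryForm σ f} {a e : V} {s : F} (ha : f a a = 0) (he : f e e = 0)
    (h : InM hf M a (s • e) 0) (hea : f e a = 0) : InM hf M e ((-σ s) • a) 0 := by
  obtain ⟨h1, h2, h3, hm⟩ := h
  refine ⟨he, by rw [hf.smul_left, swap_zero hf hea, mul_zero], by
    rw [hf.smul_left, smul_right hf, ha, mul_zero, mul_zero, map_zero, add_zero], ?_⟩
  convert hm using 1
  refine gl_ext fun x => ?_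
  rw [hS_apply, hS_apply]
  simp only [smul_right hf, map_neg, hf.involutive]
  module

/-- A subgroup with the rational Siegel transformations. -/
structure Data (M : Subgroup (GL ι F)) : Prop where
  el : ∀ (a b : ι → F₀) (κ : F), κ ∈ F₀ → f (rv F₀ a) (rv F₀ a) = 0 → f (rv F₀ b) (rv F₀ a) = 0 →
    κ + σ κ = f (rv F₀ b) (rv F₀ b) → InM hR.form M (rv F₀ a) (rv F₀ b) κ
  pres : ∀ g ∈ M, Pres f g

/-- The parameters of all pure root elements at rational places. -/
def Good (M : Subgroup (GL ι F)) (s : F) : Prop :=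
  ∀ a e : ι → F₀, f (rv F₀ a) (rv F₀ a) = 0 → f (rv F₀ e) (rv F₀ e) = 0 → f (rv F₀ e) (rv F₀ a) = 0 →
    a ≠ 0 → (∀ r : F₀, e ≠ r • a) → InM hR.form M (rv F₀ a) (s • rv F₀ e) 0

variable {hR} (hD : Data hR M)

include hD

theorem Data.pure {a e : ι → F₀} {t : F} (ht : t ∈ F₀) (ha : f (rv F₀ a) (rv F₀ a) = 0)
    (he : f (rv F₀ e) (rv F₀ e) = 0) (hea : f (rv F₀ e) (rv F₀ a) = 0) :
    InM hR.form M (rv F₀ a) (t • rv F₀ e) 0 := by
  have := hD.el a ((⟨t, ht⟩ : F₀) • e) 0 (zero_mem _) ha (by rw [rv_smul, hR.form.smul_left, hea, mul_zero]) (by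
    rw [rv_smul, hR.form.smul_left, smul_right hR.form, he, map_zero, mul_zero, mul_zero, add_zero])
  rwa [rv_smul] at this

theorem short_of_move {X : GL ι F} (hX : X ∈ M) {b c d : V} {s t : F} (hbb : f b b = 0) (hbc : f b c = 0)
    (hm : InM hR.form M d (t • b) 0) (h1 : (X : Matrix ι ι F) *ᵥ b = b + s • c)
    (h2 : (X : Matrix ι ι F) *ᵥ d = d) : InM hR.form M d ((t * s) • c) 0 := by
  have h := hm.map hX (hD.pres X hX)
  rw [h2, Matrix.mulVec_smul, h1] at h
  refine (h.mul hm.inv).congr (by module) ?_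
  rw [← neg_one_smul F (t • b), hR.form.smul_left, hR.form.smul_left, smul_right hR.form, add_right hR.form,
    smul_right hR.form, hbb, hbc, map_zero]
  ring

theorem good_step {a c d : ι → F₀} {s t : F} (ha : f (rv F₀ a) (rv F₀ a) = 0) (hdd : f (rv F₀ d) (rv F₀ d) = 0)
    (hda : f (rv F₀ d) (rv F₀ a) = 0) (hdc : f (rv F₀ d) (rv F₀ c) = 0)
    (hne : ∀ r : Fin 2 → F₀, a ≠ ∑ i, r i • ![c, d] i) (hm : InM hR.form M (rv F₀ a) (s • rv F₀ c) 0)
    (hall : ∀ b : ι → F₀, f (rv F₀ b) (rv F₀ b) = 0 → f (rv F₀ b) (rv F₀ d) = 0 → f (rv F₀ b) (rv F₀ a) = 1 →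
      InM hR.form M (rv F₀ d) (t • rv F₀ b) 0) :
    InM hR.form M (rv F₀ d) ((t * s) • rv F₀ c) 0 := by
  obtain ⟨b, hbb, hb, hab⟩ := iso_dual hR ![c, d] (by norm_num) hne
  have hbc : f (rv F₀ b) (rv F₀ c) = 0 := hb 0
  obtain ⟨h1, h2, h3, hm'⟩ := hm
  refine short_of_move hD hm' hbb hbc (hall b hbb (hb 1) hab) ?_ ?_
  · rw [hS_apply, hab, smul_right hR.form, hbc]; module
  · rw [hS_apply, hda, smul_right hR.form, hdc]; simp

theorem good_of_one {s : F} {a c : ι → F₀} (haa : f (rv F₀ a) (rv F₀ a) = 0) (hcc : f (rv F₀ c) (rv F₀ c) = 0)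
    (hca : f (rv F₀ c) (rv F₀ a) = 0) (ha : a ≠ 0) (hne : ∀ r : F₀, c ≠ r • a)
    (hm : InM hR.form M (rv F₀ a) (s • rv F₀ c) 0) : Good hR M s := by
  have symm : ∀ {x y : V}, f x y = 0 → f y x = 0 := fun h => swap_zero hR.form h
  have move1 : ∀ (t : F) (a c d : ι → F₀), f (rv F₀ a) (rv F₀ a) = 0 → f (rv F₀ d) (rv F₀ d) = 0 →
      f (rv F₀ d) (rv F₀ a) = 0 → f (rv F₀ d) (rv F₀ c) = 0 → (∀ r : Fin 2 → F₀, a ≠ ∑ i, r i • ![c, d] i) →
      InM hR.form M (rv F₀ a) (t • rv F₀ c) 0 → InM hR.form M (rv F₀ d) (t • rv F₀ c) 0 := by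
    intro t a c d ha hd hda hdc hne hm
    have := good_step hD ha hd hda hdc hne hm (t := 1) fun b hb hbd _ => hD.pure (one_mem _) hd hb hbd
    rwa [one_mul] at this
  have move2 : ∀ (a c d : ι → F₀), f (rv F₀ a) (rv F₀ a) = 0 → f (rv F₀ c) (rv F₀ c) = 0 →
      f (rv F₀ c) (rv F₀ a) = 0 → f (rv F₀ d) (rv F₀ d) = 0 → f (rv F₀ d) (rv F₀ a) = 0 →
      f (rv F₀ d) (rv F₀ c) = 0 → (∀ r : Fin 2 → F₀, c ≠ ∑ i, r i • ![a, d] i) →
      InM hR.form M (rv F₀ a) (s • rv F₀ c) 0 → InM hR.form M (rv F₀ a) (s • rv F₀ d) 0 := by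
    intro a c d ha hc hca hd hda hdc hne hm
    have h := move1 _ c a d hc hd hdc hda hne (hm.swap ha hc hca)
    have := h.swap hd ha (symm hda)
    rwa [map_neg, hR.form.involutive, neg_neg] at this
  intro p q hpp hqq hqp hp hpqne
  obtain ⟨d, hdd, hd, hdne⟩ := iso_avoid hR ![a, c, p, q] ![a, c, p, q] le_rfl (by have := hR.big; omega)
  obtain ⟨e, hee, he, hene⟩ := iso_avoid hR ![c, d, p, q] ![c, d, p, q] le_rfl (by have := hR.big; omega)
  have hda : f (rv F₀ d) (rv F₀ a) = 0 := hd 0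
  have hdc : f (rv F₀ d) (rv F₀ c) = 0 := hd 1
  have hdp : f (rv F₀ d) (rv F₀ p) = 0 := hd 2
  have hec : f (rv F₀ e) (rv F₀ c) = 0 := he 0
  have hed : f (rv F₀ e) (rv F₀ d) = 0 := he 1
  have hep : f (rv F₀ e) (rv F₀ p) = 0 := he 2
  have heq : f (rv F₀ e) (rv F₀ q) = 0 := he 3
  have h1 := move1 s a c d haa hdd hda hdc (fun r e' => by
    simp only [Fin.sum_univ_two, Matrix.cons_val_zero, Matrix.cons_val_one] at e'
    rcases eq_or_ne (r 1) 0 with h0 | h0
    · rw [h0, zero_smul, add_zero] at e'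
      rcases eq_or_ne (r 0) 0 with h2 | h2
      · exact ha (by rw [e', h2, zero_smul])
      · exact hne (r 0)⁻¹ (by rw [e', inv_smul_smul₀ h2])
    · refine hdne ![(r 1)⁻¹, -(r 1)⁻¹ * r 0, 0, 0] ?_
      simp only [Fin.sum_univ_four, Matrix.cons_val_zero, Matrix.cons_val_one, Matrix.cons_val_two,
        Matrix.cons_val_three, Matrix.tail_cons, Matrix.head_cons]
      rw [e', smul_add, inv_smul_smul₀ h0]
      module) hm
  have hc0 : c ≠ 0 := fun e' => hne 0 (by rw [e', zero_smul])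
  have h2 := move2 d c e hdd hcc (symm hdc) hee hed hec (fun r e' => by
    simp only [Fin.sum_univ_two, Matrix.cons_val_zero, Matrix.cons_val_one] at e'
    rcases eq_or_ne (r 1) 0 with h0 | h0
    · rw [h0, zero_smul, add_zero] at e'
      rcases eq_or_ne (r 0) 0 with h2 | h2
      · exact hc0 (by rw [e', h2, zero_smul])
      · refine hdne ![0, (r 0)⁻¹, 0, 0] ?_
        simp [Fin.sum_univ_four, e', h2]
    · refine hene ![(r 1)⁻¹, -(r 1)⁻¹ * r 0, 0, 0] ?_
      simp only [Fin.sum_univ_four, Matrix.cons_val_zero, Matrix.cons_val_one, Matrix.cons_val_two,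
        Matrix.cons_val_three, Matrix.tail_cons, Matrix.head_cons]
      rw [e', smul_add, inv_smul_smul₀ h0]
      module) h1
  have h3 := move1 s d e p hdd hpp (symm hdp) (symm hep) (fun r e' => by
    simp only [Fin.sum_univ_two, Matrix.cons_val_zero, Matrix.cons_val_one] at e'
    rcases eq_or_ne (r 0) 0 with h0 | h0
    · refine hdne ![0, 0, r 1, 0] ?_
      simp [Fin.sum_univ_four, e', h0]
    · refine hene ![0, (r 0)⁻¹, -(r 0)⁻¹ * r 1, 0] ?_
      simp only [Fin.sum_univ_four, Matrix.cons_val_zero, Matrix.cons_val_one, Matrix.cons_val_two,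
        Matrix.cons_val_three, Matrix.tail_cons, Matrix.head_cons]
      rw [e', smul_add, inv_smul_smul₀ h0]
      module) h2
  exact move2 p e q hpp hee hep hqq hqp (symm heq) (fun r e' => by
    simp only [Fin.sum_univ_two, Matrix.cons_val_zero, Matrix.cons_val_one] at e'
    refine hene ![0, 0, r 0, r 1] ?_
    simp [Fin.sum_univ_four, e']) h3

theorem good_mul {s t : F} (hs : Good hR M s) (ht : Good hR M t) : Good hR M (t * s) := by
  intro d c hdd hcc hcd hd hne
  obtain ⟨a, haa, ha, hane⟩ := iso_avoid hR ![c, d] ![c, d] (by norm_num) (by have := hR.big; omega)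
  have hac : f (rv F₀ a) (rv F₀ c) = 0 := ha 0
  have had : f (rv F₀ a) (rv F₀ d) = 0 := ha 1
  refine good_step hD haa hdd (swap_zero hR.form had) (swap_zero hR.form hcd) hane
    (hs a c haa hcc (swap_zero hR.form hac) (fun e => hane 0 (by simp [e])) fun r e => ?_)
    fun b hbb hbd hab => ht d b hdd hbb hbd hd fun r e => ?_
  · rcases eq_or_ne r 0 with rfl | hr
    · exact hne 0 (by rw [e, zero_smul, zero_smul])
    · refine hane ![r⁻¹, 0] ?_
      simp [Fin.sum_univ_two, e, hr]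
  · rw [e, rv_smul, hR.form.smul_left, swap_zero hR.form had, mul_zero] at hab
    exact zero_ne_one hab

theorem good_of_shift {d w : ι → F₀} {k s : F} (hk : k ∈ F₀) (hk0 : k ≠ 0) (hks : σ k = -k)
    (hdd : f (rv F₀ d) (rv F₀ d) = 0) (hww : f (rv F₀ w) (rv F₀ w) = 0) (hdw : f (rv F₀ d) (rv F₀ w) = 0)
    (hw : w ≠ 0) (hd : ∀ l : F₀, d ≠ l • w) (hm : InM hR.form M (rv F₀ d + s • rv F₀ w) 0 k) : Good hR M s := by
  obtain ⟨b₀, hb₀₀, hb₀, hb₀d⟩ := iso_dual hR ![w] (by norm_num) (p := d) fun l e => hd (l 0) (by simpa using e)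
  set b := ((⟨k, hk⟩ : F₀))⁻¹ • b₀ with hb
  have hbb : f (rv F₀ b) (rv F₀ b) = 0 := by
    rw [hb, rv_smul, hR.form.smul_left, smul_right hR.form, hb₀₀, mul_zero, mul_zero]
  have hbw : f (rv F₀ b) (rv F₀ w) = 0 := by
    rw [hb, rv_smul, hR.form.smul_left, show f (rv F₀ b₀) (rv F₀ w) = 0 from hb₀ 0, mul_zero]
  have hbd : k * f (rv F₀ b) (rv F₀ d) = 1 := by
    rw [hb, rv_smul, hR.form.smul_left, hb₀d]
    simp [hk0]
  obtain ⟨e, hee, he, hene⟩ := iso_avoid hR ![w, d, b] ![w] (by norm_num) (by have := hR.big; omega)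
  have hew : f (rv F₀ e) (rv F₀ w) = 0 := he 0
  have hed : f (rv F₀ e) (rv F₀ d) = 0 := he 1
  have heb : f (rv F₀ e) (rv F₀ b) = 0 := he 2
  have h0 : f (0 : V) 0 = 0 := zero_left hR.form 0
  have hneg := hD.el d 0 (-k) (neg_mem hk) hdd (by rw [rv_zero, zero_left hR.form])
    (by rw [rv_zero, h0, map_neg, hks]; ring)
  obtain ⟨_, _, _, hm1⟩ := hm
  obtain ⟨_, _, _, hm2⟩ := hneg
  have hX := mul_mem hm1 hm2
  have h3 := short_of_move hD hX (s := -s) hbb hbw (hD.pure (t := -1) (neg_mem (one_mem _)) hee hbb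
    (swap_zero hR.form heb)) ?_ ?_
  · rw [show (-1 : F) * -s = s by ring] at h3
    exact good_of_one hD hee hww (swap_zero hR.form hew) (fun e' => hene 0 (by simp [e'])) (fun l e' => by
      rcases eq_or_ne l 0 with rfl | hl
      · exact hw (by rw [e', zero_smul])
      · refine hene ![l⁻¹] ?_
        simp [e', hl]) h3
  · rw [Units.val_mul, ← Matrix.mulVec_mulVec, hS_apply, hS_apply, rv_zero, zero_right hR.form]
    simp only [smul_zero, add_zero, zero_add, neg_mul, hbd]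
    rw [show rv F₀ b - (-1 : F) • rv F₀ d = rv F₀ b + rv F₀ d by module, zero_right hR.form]
    simp only [hR.form.add_left, add_right hR.form, smul_right hR.form, hbw, hdd, hdw, mul_zero, add_zero, zero_add,
      hbd]
    module
  · rw [Units.val_mul, ← Matrix.mulVec_mulVec, hS_apply, hS_apply, rv_zero, zero_right hR.form]
    simp [hed, add_right hR.form, smul_right hR.form, hew, zero_right hR.form]

/-- A transvection with an irrational isotropic centre orthogonal to a rational isotropic vector. -/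
theorem exists_good_perp {v : V} {k : F} (hk : k ∈ F₀) (hk0 : k ≠ 0) (hks : σ k = -k)
    (hm : InM hR.form M v 0 k) (hv : ∀ (l : F) (a : ι → F₀), v ≠ l • rv F₀ a) {w : ι → F₀} (hw : w ≠ 0)
    (hww : f (rv F₀ w) (rv F₀ w) = 0) (hwv : f (rv F₀ w) v = 0) : ∃ s, s ∉ F₀ ∧ Good hR M s := by
  by_contra hno
  have symm : ∀ {x y : V}, f x y = 0 → f y x = 0 := fun h => swap_zero hR.form h
  have hvv : f v v = 0 := hm.1
  have hprod₀ : ∀ b d : ι → F₀, f (rv F₀ b) (rv F₀ b) = 0 → f (rv F₀ d) (rv F₀ d) = 0 →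
      f (rv F₀ b) (rv F₀ w) = 0 → f (rv F₀ d) (rv F₀ w) = 0 →
      k * (σ (f (rv F₀ b) v) * f (rv F₀ d) v) ∈ F₀ := by
    intro b d hbb hdd hb hd
    set t := -(k * f (rv F₀ b) v) with ht
    suffices hs : σ t * f (rv F₀ d) v ∈ F₀ by
      rw [ht, map_neg, map_mul, hks] at hs; simp only [neg_mul, neg_neg, mul_assoc] at hs; exact hs
    by_contra hs
    have hdw' : ∀ l : F₀, d ≠ l • w := fun l e => hs (by
      rw [e, rv_smul, hR.form.smul_left, hwv, mul_zero, mul_zero]; exact zero_mem _)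
    obtain ⟨_, _, _, hmX⟩ := hm
    have hWb := hD.pure (t := 1) (one_mem _) hww hbb hb
    rw [one_smul] at hWb
    have hX := hWb.map hmX (hD.pres _ hmX)
    rw [hS_apply, hS_apply, hwv, zero_right hR.form, zero_right hR.form] at hX
    simp only [mul_zero, add_zero, zero_smul, sub_zero, smul_zero, zero_add] at hX
    rw [show rv F₀ b - (k * f (rv F₀ b) v) • v = rv F₀ b + t • v by rw [ht]; module] at hX
    have hE := (hX.mul hWb.inv).congr (b' := t • v) (by abel) rfl
    obtain ⟨_, _, _, hE'⟩ := hE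
    have hconj := (hD.el d 0 k hk hdd (by rw [rv_zero, zero_left hR.form])
      (by rw [rv_zero, zero_left hR.form, hks]; ring)).map hE' (hD.pres _ hE')
    rw [rv_zero, Matrix.mulVec_zero, hS_apply, hd, zero_smul, add_zero, mul_zero, add_zero, smul_right hR.form,
      sub_eq_add_neg, ← neg_smul] at hconj
    exact hno ⟨_, fun h => hs (by simpa using neg_mem h), good_of_shift hD hk hk0 hks hdd hww hd hw hdw' hconj⟩
  -- extend to all orthogonal rational vectors
  let U₁ : (ι → F₀) → Submodule F₀ (ι → F₀) := fun b =>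
    { carrier := {d | k * (σ (f (rv F₀ b) v) * f (rv F₀ d) v) ∈ F₀}
      zero_mem' := by
        show _ ∈ F₀
        rw [rv_zero, zero_left hR.form, mul_zero, mul_zero]; exact zero_mem _
      add_mem' := fun {x y} hx hy => by
        show _ ∈ F₀
        rw [rv_add, hR.form.add_left, mul_add, mul_add]; exact add_mem hx hy
      smul_mem' := fun c x hx => by
        show _ ∈ F₀
        rw [rv_smul, hR.form.smul_left, mul_left_comm _ (c : F), mul_left_comm k]; exact mul_mem c.2 hx }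
  let U₂ : (ι → F₀) → Submodule F₀ (ι → F₀) := fun d =>
    { carrier := {b | k * (σ (f (rv F₀ b) v) * f (rv F₀ d) v) ∈ F₀}
      zero_mem' := by
        show _ ∈ F₀
        rw [rv_zero, zero_left hR.form, map_zero, zero_mul, mul_zero]; exact zero_mem _
      add_mem' := fun {x y} hx hy => by
        show _ ∈ F₀
        rw [rv_add, hR.form.add_left, map_add, add_mul, mul_add]; exact add_mem hx hy
      smul_mem' := fun c x hx => by
        show _ ∈ F₀
        rw [rv_smul, hR.form.smul_left, map_mul, mul_assoc, mul_left_comm k]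
        exact mul_mem (hR.inv _ c.2) hx }
  have hprod : ∀ b d : ι → F₀, f (rv F₀ b) (rv F₀ w) = 0 → f (rv F₀ d) (rv F₀ w) = 0 →
      k * (σ (f (rv F₀ b) v) * f (rv F₀ d) v) ∈ F₀ := by
    intro b d hb hd
    refine iso_span hR ![w] (by norm_num) (U₂ d) (fun b' hb' hb'w => ?_) (w := b) (fun i => by fin_cases i; exact hb)
    exact iso_span hR ![w] (by norm_num) (U₁ b') (fun d' hd' hd'w => hprod₀ b' d' hb' hd' (hb'w 0) (hd'w 0))
      (w := d) (fun i => by fin_cases i; exact hd)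
  obtain ⟨z, -, -, hzw⟩ := iso_dual hR (![] : Fin 0 → ι → F₀) (by norm_num) (p := w) fun r e => hw (by simpa using e)
  set μ := σ (f (rv F₀ z) v) with hμ
  let proj : (ι → F₀) → (ι → F₀) := fun x => x - (⟨f (rv F₀ x) (rv F₀ w), hR.rat _ _⟩ : F₀) • z
  have hproj : ∀ x, f (rv F₀ (proj x)) (rv F₀ w) = 0 := fun x => by
    rw [rv_sub, rv_smul, sub_left hR.form, hR.form.smul_left, hzw]; simp
  have hval : ∀ x, f (rv F₀ x) v - σ μ * f (rv F₀ x) (rv F₀ w) = f (rv F₀ (proj x)) v := fun x => by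
    rw [rv_sub, rv_smul, sub_left hR.form, hR.form.smul_left, hμ, hR.form.involutive]
    ring
  by_cases hall : ∀ x, f (rv F₀ (proj x)) v = 0
  · refine hv μ w (eq_of_rat hR fun x => ?_)
    have := hval x
    rw [hall x, sub_eq_zero] at this
    rw [this, smul_right hR.form]
  push Not at hall
  obtain ⟨x₀, hx₀⟩ := hall
  set φ₀ := f (rv F₀ (proj x₀)) v with hφ₀
  set c₀ := σ φ₀ with hc₀
  have hc00 : c₀ ≠ 0 := (map_ne_zero σ).2 hx₀
  have hN : k * (c₀ * φ₀) ∈ F₀ := hprod _ _ (hproj x₀) (hproj x₀)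
  have hN0 : k * (c₀ * φ₀) ≠ 0 := mul_ne_zero hk0 (mul_ne_zero hc00 hx₀)
  have hrat : ∀ x, (f (rv F₀ x) v - σ μ * f (rv F₀ x) (rv F₀ w)) / φ₀ ∈ F₀ := fun x => by
    rw [hval, show f (rv F₀ (proj x)) v / φ₀ = k * (c₀ * f (rv F₀ (proj x)) v) / (k * (c₀ * φ₀)) by
      rw [mul_div_mul_left _ _ hk0, mul_div_mul_left _ _ hc00]]
    exact div_mem (hprod _ _ (hproj x₀) (hproj x)) hN
  set r' : V := c₀⁻¹ • (v - μ • rv F₀ w) with hr'
  have hr'val : ∀ x, f (rv F₀ x) r' ∈ F₀ := fun x => by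
    rw [hr', smul_right hR.form, map_inv₀, hc₀, hR.form.involutive, sub_eq_add_neg v (μ • rv F₀ w), ← neg_smul,
      add_right hR.form, smul_right hR.form, map_neg, ← div_eq_inv_mul, neg_mul, ← sub_eq_add_neg]
    exact hrat x
  obtain ⟨r, hr⟩ : ∃ r : ι → F₀, rv F₀ r = r' := by
    haveI : Fintype F₀ := Fintype.ofFinite _
    let φ : Dual F₀ (ι → F₀) := ∑ i, (⟨_, hr'val (Pi.single i 1)⟩ : F₀) • LinearMap.proj i
    obtain ⟨r, hr⟩ := exists_rep (unitary₀ hR) φ
    refine ⟨r, eq_of_rat hR fun a => ?_⟩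
    have h1 : f (rv F₀ a) (rv F₀ r) = (φ a : F) := congrArg Subtype.val (LinearMap.congr_fun hr a)
    rw [h1, ← fn_apply hR.form r' (rv F₀ a), pi_eq_sum_univ' (rv F₀ a), map_sum]
    simp only [φ, LinearMap.coe_sum, Finset.sum_apply, LinearMap.smul_apply, LinearMap.proj_apply, smul_eq_mul,
      map_smul, fn_apply]
    push_cast
    refine Finset.sum_congr rfl fun i _ => ?_
    rw [rv_single, mul_comm]
    rfl
  have hvdec : v = c₀ • rv F₀ r + μ • rv F₀ w := by rw [hr, hr', smul_inv_smul₀ hc00]; module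
  have hrw : f (rv F₀ r) (rv F₀ w) = 0 := by
    apply symm
    rw [hr, hr', sub_eq_add_neg v (μ • rv F₀ w), ← neg_smul, smul_right hR.form, add_right hR.form,
      smul_right hR.form, hwv, hww]
    simp
  have hrr : f (rv F₀ r) (rv F₀ r) = 0 := by
    have h := hvv
    rw [hvdec, hR.form.add_left, add_right hR.form, add_right hR.form, hR.form.smul_left, hR.form.smul_left,
      hR.form.smul_left, hR.form.smul_left, smul_right hR.form, smul_right hR.form, smul_right hR.form,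
      smul_right hR.form, hrw, symm hrw, hww] at h
    simpa [hc00] using h
  have hrne : ∀ l : F₀, r ≠ l • w := fun l e => hv (c₀ * l + μ) w (by
    conv_lhs => rw [hvdec, e, rv_smul]
    module)
  have hk1 : μ / c₀ ∉ F₀ := fun h => hv c₀ (r + (⟨_, h⟩ : F₀) • w) (by
    conv_lhs => rw [hvdec]
    rw [rv_add, rv_smul, smul_add, smul_smul, mul_div_cancel₀ _ hc00])
  set k' := k * (c₀ * φ₀)
  have hks' : σ k' = -k' := by
    simp only [k', map_mul, hks, hc₀, hR.form.involutive]; ring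
  refine hno ⟨_, hk1, good_of_shift hD hN hN0 hks' hrr hww hrw hw hrne ?_⟩
  have he : v = c₀ • (rv F₀ r + (μ / c₀) • rv F₀ w) := by
    conv_lhs => rw [hvdec]
    rw [smul_add, smul_smul, mul_div_cancel₀ _ hc00]
  rw [show rv F₀ r + (μ / c₀) • rv F₀ w = c₀⁻¹ • v by rw [he, inv_smul_smul₀ hc00]]
  refine InM.smul_centre (inv_ne_zero hc00) (hm.congr (by rw [smul_zero]) ?_)
  have : σ c₀ = φ₀ := by rw [hc₀, hR.form.involutive]
  rw [map_inv₀, this]
  simp only [k']
  field_simp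

end Cfsg.Agent.Classical.SubfieldHerm
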