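import Cfsg.Agent.Lib.Classical.SubfieldHermGood

/-!
Subfield subgroups of special unitary groups contain every transvection.
-/

set_option autoImplicit false
set_option linter.unusedSectionVars false
set_option maxHeartbeats 1600000

open Module Matrix

namespace Cfsg.Agent.Classical.SubfieldHerm

open SubfieldLin HermSep HermGen MaxSU MaxLin

variable {F : Type*} [Field F] [Fintype F] {ι : Type} [Fintype ι] [DecidableEq ι]
variable {σ : F ≃+* F} {f : (ι → F) → (ι → F) → F} {F₀ : Subfield F}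

local notation "V" => ι → F
local notation "Mat" => Matrix ι ι F

variable {hR : RForm σ f F₀} {M : Subgroup (GL ι F)} (hD : Data hR M)

include hD

/-- A transvection with irrational isotropic centre gives an irrational parameter. -/
theorem exists_good {r : ℕ} (hr : r.Prime) (hcard : Nat.card F = Nat.card F₀ ^ r) (hr3 : 3 ≤ r) {k : F} (hk : k ∈ F₀)
    (hk0 : k ≠ 0) (hks : σ k = -k) {u : V} (hm : InM hR.form M u 0 k)
    (hu : ∀ (l : F) (a : ι → F₀), u ≠ l • rv F₀ a) : ∃ s, s ∉ F₀ ∧ Good hR M s := by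
  classical
  by_contra hno
  have symm : ∀ {x y : V}, f x y = 0 → f y x = 0 := fun h => swap_zero hR.form h
  have perp : ∀ v : V, InM hR.form M v 0 k →
      (∃ w : ι → F₀, w ≠ 0 ∧ f (rv F₀ w) (rv F₀ w) = 0 ∧ f (rv F₀ w) v = 0) →
      ∃ (l : F) (a : ι → F₀), v = l • rv F₀ a := fun v hv ⟨w, hw, hww, hwv⟩ => by
    by_contra hc
    push Not at hc
    exact hno (exists_good_perp hD hk hk0 hks hv hc hw hww hwv)
  have hfull : ∀ w : ι → F₀, f (rv F₀ w) (rv F₀ w) = 0 → f (rv F₀ w) u = 0 → w = 0 := fun w hww hwu => by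
    by_contra hw
    obtain ⟨l, a, e⟩ := perp u hm ⟨w, hw, hww, hwu⟩
    exact hu l a e
  haveI : Fintype F₀ := Fintype.ofFinite _
  have hq : 2 ≤ Nat.card F₀ := Finite.one_lt_card
  obtain ⟨a, haa, -, hane⟩ := iso_avoid hR (![] : Fin 0 → ι → F₀) ![(0 : ι → F₀)] (by norm_num)
    (by have := hR.big; omega)
  have ha : a ≠ 0 := fun e => hane 0 (by simp [e])
  set ta := f (rv F₀ a) u with hta
  have hta0 : ta ≠ 0 := fun e => ha (hfull a haa e)
  obtain ⟨b, hbb, hba, hbne, hN⟩ : ∃ b : ι → F₀, f (rv F₀ b) (rv F₀ b) = 0 ∧ f (rv F₀ b) (rv F₀ a) = 0 ∧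
      (∀ s : F₀, b ≠ s • a) ∧ f (rv F₀ b) u / ta * σ (f (rv F₀ b) u / ta) ∉ F₀ := by
    obtain ⟨b1, h11, h1, h1ne⟩ := iso_avoid hR ![a] ![a] (by norm_num) (by have := hR.big; omega)
    obtain ⟨b2, h22, h2, h2ne⟩ := iso_avoid hR ![a, b1] ![a, b1] (by norm_num) (by have := hR.big; omega)
    have h1a : f (rv F₀ b1) (rv F₀ a) = 0 := h1 0
    have h2a : f (rv F₀ b2) (rv F₀ a) = 0 := h2 0
    have h21 : f (rv F₀ b2) (rv F₀ b1) = 0 := h2 1
    by_contra hc
    push Not at hc
    set x1 := f (rv F₀ b1) u / ta with hx1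
    set x2 := f (rv F₀ b2) u / ta with hx2
    have hcomb : ∀ l : F₀, (x1 + (l : F) * x2) * σ (x1 + (l : F) * x2) ∈ F₀ := fun l => by
      have h := hc (b1 + l • b2)
        (by rw [rv_add, rv_smul, hR.form.add_left, add_right hR.form, add_right hR.form, hR.form.smul_left,
              hR.form.smul_left, smul_right hR.form, smul_right hR.form, h11, h22, h21, symm h21]; simp)
        (by rw [rv_add, rv_smul, hR.form.add_left, hR.form.smul_left, h1a, h2a]; simp) fun s e => by
          rcases eq_or_ne l 0 with rfl | hl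
          · exact h1ne ![s] (by simpa using e)
          · refine h2ne ![l⁻¹ * s, -l⁻¹] ?_
            simp only [Fin.sum_univ_two, Matrix.cons_val_zero, Matrix.cons_val_one]
            rw [mul_smul, ← e, smul_add, inv_smul_smul₀ hl]
            module
      rwa [rv_add, rv_smul, hR.form.add_left, hR.form.smul_left, add_div, mul_div_assoc, ← hx1, ← hx2] at h
    have hx2' : x2 * σ x2 ∈ F₀ := hc b2 h22 h2a fun s e => h2ne ![s, 0] (by simpa [Fin.sum_univ_two] using e)
    have hx1' : x1 * σ x1 ∈ F₀ := hc b1 h11 h1a fun s e => h1ne ![s] (by simpa using e)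
    have hcross : ∀ l : F₀, σ (l : F) * (x1 * σ x2) + (l : F) * (σ x1 * x2) ∈ F₀ := fun l => by
      have h := sub_mem (sub_mem (hcomb l) hx1') (mul_mem (mul_mem l.2 (hR.inv _ l.2)) hx2')
      rwa [show (x1 + (l : F) * x2) * σ (x1 + (l : F) * x2) - x1 * σ x1 - (l : F) * σ (l : F) * (x2 * σ x2) =
        σ (l : F) * (x1 * σ x2) + (l : F) * (σ x1 * x2) by rw [map_add, map_mul]; ring] at h
    obtain ⟨z, hz, hzne⟩ := hR.moved
    have h := sub_mem (hcross ⟨z, hz⟩) (mul_mem hz (hcross 1))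
    simp only [OneMemClass.coe_one, map_one, one_mul] at h
    have hc1 : x1 * σ x2 ∈ F₀ := by
      have h' := div_mem h (sub_mem (hR.inv z hz) hz)
      rwa [show σ z * (x1 * σ x2) + z * (σ x1 * x2) - z * (x1 * σ x2 + σ x1 * x2) = (x1 * σ x2) * (σ z - z) by ring,
        mul_div_cancel_right₀ _ (sub_ne_zero.2 hzne)] at h'
    have hx20 : x2 ≠ 0 := fun e => by
      rw [hx2, div_eq_zero_iff] at e
      exact h2ne 0 (by rw [hfull b2 h22 (e.resolve_right hta0)]; simp)
    set μ : F₀ := ⟨x1 * σ x2, hc1⟩ / ⟨x2 * σ x2, hx2'⟩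
    have hμ : (μ : F) * x2 = x1 := by
      show x1 * σ x2 / (x2 * σ x2) * x2 = x1
      have := (map_ne_zero σ).2 hx20
      field_simp
    have h0 := hfull (b1 - μ • b2)
      (by rw [rv_sub, rv_smul, sub_left hR.form, hR.form.smul_left, sub_eq_add_neg (rv F₀ b1), ← neg_smul,
            add_right hR.form, add_right hR.form, smul_right hR.form, smul_right hR.form, h11, h22, h21, symm h21]
          simp)
      (by rw [rv_sub, rv_smul, sub_left hR.form, hR.form.smul_left,
            show f (rv F₀ b1) u = x1 * ta from (div_mul_cancel₀ _ hta0).symm,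
            show f (rv F₀ b2) u = x2 * ta from (div_mul_cancel₀ _ hta0).symm, ← hμ]
          ring)
    rcases eq_or_ne μ 0 with h | h
    · rw [h, zero_smul, sub_zero] at h0
      exact h1ne 0 (by simp [h0])
    · refine h2ne ![0, μ⁻¹] ?_
      simp [Fin.sum_univ_two, sub_eq_zero.1 h0, h]
  set ρ := f (rv F₀ b) u / ta with hρ
  have hρ0 : ρ ∉ F₀ := fun h => hN (mul_mem h (hR.inv _ h))
  have hquad : ∀ x y z : F₀, (x : F) * ρ ^ 2 + (y : F) * ρ + z = 0 → x = 0 := by
    intro x y z h
    by_contra hx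
    have hx' : ((x : F₀) : F) ≠ 0 := fun e => hx (Subtype.ext e)
    let R : Subring F :=
      { carrier := {w | ∃ p q : F₀, w = (p : F) + (q : F) * ρ}
        one_mem' := ⟨1, 0, by simp⟩
        zero_mem' := ⟨0, 0, by simp⟩
        add_mem' := by
          rintro _ _ ⟨p, q, rfl⟩ ⟨p', q', rfl⟩
          exact ⟨p + p', q + q', by push_cast; ring⟩
        neg_mem' := by
          rintro _ ⟨p, q, rfl⟩
          exact ⟨-p, -q, by push_cast; ring⟩
        mul_mem' := by
          rintro _ _ ⟨p, q, rfl⟩ ⟨p', q', rfl⟩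
          refine ⟨p * p' - q * q' * z / x, p * q' + q * p' - q * q' * y / x, ?_⟩
          have h2 : ρ ^ 2 = -((y : F) * ρ + z) / x := by
            rw [eq_div_iff hx']; linear_combination h
          push_cast
          rw [show ((p : F) + q * ρ) * (p' + q' * ρ) = p * p' + (p * q' + q * p') * ρ + q * q' * ρ ^ 2 by ring, h2]
          field_simp
          ring }
    have htop := subring_top F₀ hr hcard R (fun w hw => ⟨⟨w, hw⟩, 0, by simp⟩) (show ρ ∈ R from ⟨0, 1, by simp⟩) hρ0
    have h1 : Nat.card F ≤ Nat.card (F₀ × F₀) := by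
      refine Nat.card_le_card_of_surjective (fun p => ((p.1 : F) + (p.2 : F) * ρ)) fun w => ?_
      obtain ⟨p, q, e⟩ := (show w ∈ R by rw [htop]; trivial)
      exact ⟨(p, q), e.symm⟩
    rw [Nat.card_prod, hcard, ← pow_two] at h1
    have := (Nat.pow_le_pow_iff_right hq).1 h1
    omega
  set rr := rv F₀ b - ρ • rv F₀ a with hrr
  let av := rv F₀ a
  let bv := rv F₀ b
  have hab : f av bv = 0 := symm hba
  have hrru : f rr u = 0 := by
    rw [hrr, sub_left hR.form, hR.form.smul_left, ← hta, hρ, div_mul_cancel₀ _ hta0, sub_self]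
  have hrra : f rr av = 0 := by
    rw [hrr, sub_left hR.form, hR.form.smul_left, haa, hba, mul_zero, sub_zero]
  have hrrb : f rr bv = 0 := by
    rw [hrr, sub_left hR.form, hR.form.smul_left, hbb, hab, mul_zero, sub_zero]
  have huu : f u u = 0 := hm.1
  have hrrrr : f rr rr = 0 := by
    rw [hrr, sub_eq_add_neg (rv F₀ b), ← neg_smul, add_right hR.form, smul_right hR.form]
    show f (rv F₀ b + (-ρ) • rv F₀ a) bv + σ (-ρ) * f (rv F₀ b + (-ρ) • rv F₀ a) av = 0
    rw [hR.form.add_left, hR.form.add_left, hR.form.smul_left, hR.form.smul_left, hbb, hba, hab, haa]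
    ring
  let Γ : Subgroup (GL (Fin 2) F) :=
    { carrier := {γ | ∃ X ∈ M, (X : Mat) *ᵥ rr = rr ∧
        (∃ z : F, (X : Mat) *ᵥ av = (γ : Matrix (Fin 2) (Fin 2) F) 0 0 • av +
          (γ : Matrix (Fin 2) (Fin 2) F) 1 0 • u + z • rr) ∧
        ∃ z : F, (X : Mat) *ᵥ u = (γ : Matrix (Fin 2) (Fin 2) F) 0 1 • av +
          (γ : Matrix (Fin 2) (Fin 2) F) 1 1 • u + z • rr}
      one_mem' := ⟨1, one_mem M, by simp, ⟨0, by simp⟩, 0, by simp⟩
      mul_mem' := by
        rintro γ δ ⟨X, hX, hXr, ⟨z1, ha1⟩, z2, hu1⟩ ⟨Y, hY, hYr, ⟨w1, ha2⟩, w2, hu2⟩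
        refine ⟨X * Y, mul_mem hX hY, by rw [Units.val_mul, ← Matrix.mulVec_mulVec, hYr, hXr],
          ⟨(δ : Matrix (Fin 2) (Fin 2) F) 0 0 * z1 + (δ : Matrix (Fin 2) (Fin 2) F) 1 0 * z2 + w1, ?_⟩,
          (δ : Matrix (Fin 2) (Fin 2) F) 0 1 * z1 + (δ : Matrix (Fin 2) (Fin 2) F) 1 1 * z2 + w2, ?_⟩
        · rw [Units.val_mul (α := Mat), ← Matrix.mulVec_mulVec, ha2, Matrix.mulVec_add, Matrix.mulVec_add,
            Matrix.mulVec_smul, Matrix.mulVec_smul, Matrix.mulVec_smul, ha1, hu1, hXr]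
          simp only [Units.val_mul, Matrix.mul_apply, Fin.sum_univ_two]
          module
        · rw [Units.val_mul (α := Mat), ← Matrix.mulVec_mulVec, hu2, Matrix.mulVec_add, Matrix.mulVec_add,
            Matrix.mulVec_smul, Matrix.mulVec_smul, Matrix.mulVec_smul, ha1, hu1, hXr]
          simp only [Units.val_mul, Matrix.mul_apply, Fin.sum_univ_two]
          module
      inv_mem' := by
        intro γ hγ
        have : γ⁻¹ = γ ^ (orderOf γ - 1) := inv_eq_of_mul_eq_one_left (by
          rw [← pow_succ, Nat.sub_add_cancel (orderOf_pos γ), pow_orderOf_eq_one])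
        rw [this]
        generalize orderOf γ - 1 = n
        induction n with
        | zero => exact ⟨1, one_mem M, by simp, ⟨0, by simp⟩, 0, by simp⟩
        | succ n ih =>
          rw [pow_succ]
          obtain ⟨X, hX, hXr, ⟨z1, ha1⟩, z2, hu1⟩ := ih
          obtain ⟨Y, hY, hYr, ⟨w1, ha2⟩, w2, hu2⟩ := hγ
          refine ⟨X * Y, mul_mem hX hY, by rw [Units.val_mul, ← Matrix.mulVec_mulVec, hYr, hXr],
            ⟨(γ : Matrix (Fin 2) (Fin 2) F) 0 0 * z1 + (γ : Matrix (Fin 2) (Fin 2) F) 1 0 * z2 + w1, ?_⟩,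
            (γ : Matrix (Fin 2) (Fin 2) F) 0 1 * z1 + (γ : Matrix (Fin 2) (Fin 2) F) 1 1 * z2 + w2, ?_⟩
          · rw [Units.val_mul (α := Mat), ← Matrix.mulVec_mulVec, ha2, Matrix.mulVec_add, Matrix.mulVec_add,
              Matrix.mulVec_smul, Matrix.mulVec_smul, Matrix.mulVec_smul, ha1, hu1, hXr]
            simp only [Units.val_mul, Matrix.mul_apply, Fin.sum_univ_two]
            module
          · rw [Units.val_mul (α := Mat), ← Matrix.mulVec_mulVec, hu2, Matrix.mulVec_add, Matrix.mulVec_add,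
              Matrix.mulVec_smul, Matrix.mulVec_smul, Matrix.mulVec_smul, ha1, hu1, hXr]
            simp only [Units.val_mul, Matrix.mul_apply, Fin.sum_univ_two]
            module }
  have hua : f u av = σ ta := hR.form.herm u av
  have hub : f u bv = σ ρ * σ ta := by
    rw [← map_mul, hρ, div_mul_cancel₀ _ hta0]; exact hR.form.herm u bv
  let K : AddSubgroup F :=
    { carrier := {x | x ∈ F₀ ∧ σ x = -x}
      zero_mem' := ⟨zero_mem _, by simp⟩
      add_mem' := fun {x y} hx hy => ⟨add_mem hx.1 hy.1, by rw [map_add, hx.2, hy.2]; ring⟩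
      neg_mem' := fun {x} hx => ⟨neg_mem hx.1, by rw [map_neg, hx.2]⟩ }
  let ψ : K × K →+ F :=
    { toFun := fun p => σ ta * ((p.1 : F) + (p.2 : F) * (ρ * σ ρ))
      map_zero' := by simp
      map_add' := fun p p' => by simp only [Prod.fst_add, Prod.snd_add, AddSubgroup.coe_add]; ring }
  let U := (⊤ : AddSubgroup (K × K)).map ψ
  have hψ : Function.Injective ψ := (injective_iff_map_eq_zero ψ).2 fun p hp => by
    change σ ta * ((p.1 : F) + (p.2 : F) * (ρ * σ ρ)) = 0 at hp
    have h := (mul_eq_zero.1 hp).resolve_left ((map_ne_zero σ).2 hta0)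
    have h2 : (p.2 : F) = 0 := by
      by_contra h2
      apply hN
      rw [show ρ * σ ρ = -(p.1 : F) / (p.2 : F) by rw [eq_div_iff h2]; linear_combination h]
      exact div_mem (neg_mem p.1.2.1) p.2.2.1
    rw [h2, zero_mul, add_zero] at h
    exact Prod.ext (Subtype.ext h) (Subtype.ext h2)
  have hz0 : f (0 : V) 0 = 0 := zero_left hR.form 0
  have hU : ∀ x ∈ U, ∃ γ ∈ Γ, (γ : Matrix (Fin 2) (Fin 2) F) = !![1, x; 0, 1] := by
    rintro _ ⟨⟨p, q⟩, -, rfl⟩
    obtain ⟨_, _, _, hm1⟩ := hD.el a 0 (-(p : F)) (neg_mem p.2.1) haa (by rw [rv_zero, zero_left hR.form])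
      (by rw [rv_zero, hz0, map_neg, p.2.2]; ring)
    obtain ⟨_, _, _, hm2⟩ := hD.el b 0 (-(q : F)) (neg_mem q.2.1) hbb (by rw [rv_zero, zero_left hR.form])
      (by rw [rv_zero, hz0, map_neg, q.2.2]; ring)
    refine ⟨Matrix.GeneralLinearGroup.mkOfDetNeZero !![1, ψ (p, q); 0, 1] (by simp [Matrix.det_fin_two]),
      ⟨_, mul_mem hm1 hm2, ?_, ⟨0, ?_⟩, (q : F) * f u bv, ?_⟩, rfl⟩
    · rw [Units.val_mul (α := Mat), ← Matrix.mulVec_mulVec, hS_apply, hS_apply]
      simp only [rv_zero, zero_right hR.form, smul_zero, zero_add, add_zero]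
      rw [show f rr (rv F₀ b) = 0 from hrrb]
      simp only [mul_zero, zero_smul, sub_zero]
      rw [show f rr (rv F₀ a) = 0 from hrra]
      simp
    · rw [Units.val_mul (α := Mat), ← Matrix.mulVec_mulVec, hS_apply, hS_apply]
      simp only [rv_zero, zero_right hR.form, smul_zero, zero_add, add_zero]
      rw [show f av (rv F₀ b) = 0 from hab]
      simp only [mul_zero, zero_smul, sub_zero]
      rw [show f av (rv F₀ a) = 0 from haa]
      simp [av]
    · rw [Units.val_mul (α := Mat), ← Matrix.mulVec_mulVec, hS_apply, hS_apply]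
      simp only [rv_zero, zero_right hR.form, smul_zero, zero_add, add_zero]
      rw [sub_eq_add_neg u, ← neg_smul, hR.form.add_left, hR.form.smul_left, hba, mul_zero, add_zero]
      show _ = ((!![1, ψ (p, q); 0, 1] : Matrix (Fin 2) (Fin 2) F) 0 1) • av +
        ((!![1, ψ (p, q); 0, 1] : Matrix (Fin 2) (Fin 2) F) 1 1) • u + ((q : F) * f u bv) • rr
      show _ = (σ ta * ((p : F) + (q : F) * (ρ * σ ρ))) • av + (1 : F) • u + ((q : F) * f u bv) • rr
      rw [show f u (rv F₀ a) = σ ta from hua, hub, hrr]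
      simp only [av]
      module
  have hlow : ∃ γ ∈ Γ, (γ : Matrix (Fin 2) (Fin 2) F) 1 0 ≠ 0 := by
    obtain ⟨_, _, _, hm'⟩ := hm
    refine ⟨Matrix.GeneralLinearGroup.mkOfDetNeZero !![1, 0; -(k * ta), 1] (by simp [Matrix.det_fin_two]),
      ⟨_, hm', ?_, ⟨0, ?_⟩, 0, ?_⟩, by simpa using And.intro hk0 hta0⟩
    · rw [hS_apply, hrru]; simp [zero_right hR.form]
    · rw [hS_apply]; simp [hta, av, zero_right hR.form]; module
    · rw [hS_apply, huu]; simp [zero_right hR.form]
  have hS : ∀ γ ∈ Γ, (γ : Matrix (Fin 2) (Fin 2) F) 1 0 = 0 →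
      (γ : Matrix (Fin 2) (Fin 2) F) 0 0 / (γ : Matrix (Fin 2) (Fin 2) F) 1 1 ∈ ({1} : Finset F) := by
    rintro γ ⟨X, hX, hXr, ⟨z, hXa⟩, z', hXu⟩ h10
    rw [h10, zero_smul, add_zero] at hXa
    set α := (γ : Matrix (Fin 2) (Fin 2) F) 0 0
    set δ := (γ : Matrix (Fin 2) (Fin 2) F) 1 1
    rw [Finset.mem_singleton]
    have hαδ : α * σ δ = 1 := by
      have h := (hD.pres X hX).1 av u
      rw [hXa, hXu] at h
      simp only [hR.form.add_left, hR.form.smul_left, add_right hR.form, smul_right hR.form, hrru, hrra,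
        symm hrra, hrrrr, show f av av = 0 from haa, mul_zero, add_zero, zero_add] at h
      exact mul_right_cancel₀ hta0 (by linear_combination h)
    by_contra hne
    have hα1 : α ≠ 1 := fun e => hne (by
      have h1 : σ δ = 1 := by rwa [e, one_mul] at hαδ
      have : δ = 1 := σ.injective (by rw [h1, map_one])
      rw [e, this, div_one])
    have hXb : (X : Mat) *ᵥ bv = (ρ * α) • av + (ρ * z + 1) • rr := by
      have e : bv = ρ • av + rr := by rw [hrr]; simp only [av, bv]; module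
      conv_lhs => rw [e]
      rw [Matrix.mulVec_add, Matrix.mulVec_smul, hXa, hXr]
      module
    have himg : ∀ c : ι → F₀, f (rv F₀ c) (rv F₀ c) = 0 → (∃ x y : F, (X : Mat) *ᵥ rv F₀ c = x • av + y • bv) →
        ∃ (l : F) (e : ι → F₀), (X : Mat) *ᵥ rv F₀ c = l • rv F₀ e := fun c hcc ⟨x, y, hc⟩ => by
      refine perp _ ?_ ⟨a, ha, haa, by rw [hc, add_right hR.form, smul_right hR.form, smul_right hR.form]
                                       simp [av, bv, haa, symm hba]⟩
      have := (hD.el c 0 k hk hcc (by rw [rv_zero, zero_left hR.form])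
        (by rw [rv_zero, hz0, hks]; ring)).map hX (hD.pres X hX)
      rwa [rv_zero, Matrix.mulVec_zero] at this
    have hXav : ∃ x y : F, (X : Mat) *ᵥ av = x • av + y • bv :=
      ⟨α - z * ρ, z, by rw [hXa, hrr]; simp only [av, bv]; module⟩
    have hXbv : ∃ x y : F, (X : Mat) *ᵥ bv = x • av + y • bv :=
      ⟨ρ * α - (ρ * z + 1) * ρ, ρ * z + 1, by rw [hXb, hrr]; simp only [av, bv]; module⟩
    obtain ⟨x1, y1, hc1⟩ := hXav
    obtain ⟨x2, y2, hc2⟩ := hXbv
    have hXab : (X : Mat) *ᵥ rv F₀ (a + b) = (x1 + x2) • av + (y1 + y2) • bv := by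
      rw [rv_add, Matrix.mulVec_add]; simp only [av, bv] at hc1 hc2 ⊢; rw [hc1, hc2]; module
    obtain ⟨l1, e1, he1⟩ := himg a haa ⟨x1, y1, hc1⟩
    obtain ⟨l2, e2, he2⟩ := himg b hbb ⟨x2, y2, hc2⟩
    obtain ⟨l3, e3, he3⟩ := himg (a + b)
      (by rw [rv_add, hR.form.add_left, add_right hR.form, add_right hR.form, haa, hbb, hba, symm hba]; simp)
      ⟨_, _, hXab⟩
    -- rational coordinates
    obtain ⟨pa, -, hpa, hpa'⟩ := iso_dual hR ![b] (by norm_num) (p := a) fun s e => by
      simp only [Fin.sum_univ_one, Matrix.cons_val_fin_one] at e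
      rcases eq_or_ne (s 0) 0 with h0 | h0
      · exact ha (by rw [e, h0, zero_smul])
      · exact hbne (s 0)⁻¹ (by rw [e, inv_smul_smul₀ h0])
    obtain ⟨pb, -, hpb, hpb'⟩ := iso_dual hR ![a] (by norm_num) (p := b) fun s e => hbne (s 0) (by simpa using e)
    have ea : f av (rv F₀ pa) = 1 := by rw [hR.form.herm, hpa', map_one]
    have eb : f bv (rv F₀ pb) = 1 := by rw [hR.form.herm, hpb', map_one]
    have eba : f bv (rv F₀ pa) = 0 := symm (hpa 0)
    have eab : f av (rv F₀ pb) = 0 := symm (hpb 0)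
    have coord : ∀ (c : V) (x y : F) (l : F) (e : ι → F₀), c = x • av + y • bv → c = l • rv F₀ e →
        ∃ p q : F₀, x = l * p ∧ y = l * q := fun c x y l e hc hce => by
      refine ⟨⟨_, hR.rat e pa⟩, ⟨_, hR.rat e pb⟩, ?_, ?_⟩
      · have h1 : f c (rv F₀ pa) = x := by
          rw [hc, hR.form.add_left, hR.form.smul_left, hR.form.smul_left, ea, eba]; simp
        rw [hce, hR.form.smul_left] at h1
        exact h1.symm
      · have h1 : f c (rv F₀ pb) = y := by
          rw [hc, hR.form.add_left, hR.form.smul_left, hR.form.smul_left, eb, eab]; simp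
        rw [hce, hR.form.smul_left] at h1
        exact h1.symm
    obtain ⟨p1, q1, hp1, hq1⟩ := coord _ x1 y1 l1 e1 hc1 he1
    obtain ⟨p2, q2, hp2, hq2⟩ := coord _ x2 y2 l2 e2 hc2 he2
    obtain ⟨p3, q3, hp3, hq3⟩ := coord _ _ _ l3 e3 hXab he3
    have li : ∀ x y : F, x • av + y • bv = 0 → x = 0 ∧ y = 0 := fun x y h => by
      have h1 := congrArg (fun c => f c (rv F₀ pa)) h
      have h2 := congrArg (fun c => f c (rv F₀ pb)) h
      simp only [hR.form.add_left, hR.form.smul_left, zero_left hR.form, ea, eb, eba, eab] at h1 h2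
      exact ⟨by simpa using h1, by simpa using h2⟩
    have hdet0 : x1 * y2 - x2 * y1 ≠ 0 := fun h0 => by
      have inj : ∀ x y : F, (x * x1 + y * x2 = 0 ∧ x * y1 + y * y2 = 0) → x = 0 ∧ y = 0 := fun x y h => by
        refine li x y (((Matrix.mulVec_injective_iff_isUnit (A := (X : Mat))).2 X.isUnit) ?_)
        rw [Matrix.mulVec_add, Matrix.mulVec_smul, Matrix.mulVec_smul, Matrix.mulVec_zero, hc1, hc2,
          show x • (x1 • av + y1 • bv) + y • (x2 • av + y2 • bv) = (x * x1 + y * x2) • av + (x * y1 + y * y2) • bv by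
            module, h.1, h.2, zero_smul, zero_smul, add_zero]
      obtain ⟨h1, h2⟩ := inj x2 (-x1) ⟨by ring, by linear_combination -h0⟩
      obtain ⟨h3, h4⟩ := inj y2 (-y1) ⟨by linear_combination h0, by ring⟩
      obtain ⟨h5, -⟩ := inj 1 0 ⟨by simp [neg_eq_zero.1 h2], by simp [neg_eq_zero.1 h4]⟩
      exact one_ne_zero h5
    -- the ratio of the two scalars is rational
    have hl1 : l1 ≠ 0 := fun e => hdet0 (by rw [hp1, hq1, e]; ring)
    have hl2 : l2 ≠ 0 := fun e => hdet0 (by rw [hp2, hq2, e]; ring)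
    have hdq : (p1 : F) * q2 - p2 * q1 ≠ 0 := fun e => hdet0 (by
      rw [hp1, hp2, hq1, hq2]; linear_combination (l1 * l2) * e)
    have he4 : l1 * p1 + l2 * p2 = l3 * p3 := by rw [← hp1, ← hp2]; exact hp3
    have he5 : l1 * q1 + l2 * q2 = l3 * q3 := by rw [← hq1, ← hq2]; exact hq3
    have e6 : l1 * ((p1 : F) * q2 - p2 * q1) = l3 * ((p3 : F) * q2 - p2 * q3) := by
      linear_combination (q2 : F) * he4 - (p2 : F) * he5
    have e7 : l2 * ((p1 : F) * q2 - p2 * q1) = l3 * ((p1 : F) * q3 - p3 * q1) := by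
      linear_combination (p1 : F) * he5 - (q1 : F) * he4
    set d3 : F₀ := (p1 * q3 - p3 * q1) / (p3 * q2 - p2 * q3) with hd3
    have hden : ((p3 : F) * q2 - p2 * q3) ≠ 0 := fun e => mul_ne_zero hl1 hdq (by rw [e6, e, mul_zero])
    have hl : l2 = l1 * d3 := by
      rw [hd3]; push_cast
      rw [mul_div_assoc', eq_div_iff hden]
      exact mul_left_cancel₀ hdq (by linear_combination ((p3 : F) * q2 - p2 * q3) * e7 - ((p1 : F) * q3 - p3 * q1) * e6)
    -- the eigenvector
    have heig : (x2 - ρ * x1) • av + (y2 - ρ * y1) • bv = (-ρ) • av + (1 : F) • bv := by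
      have := hXr
      rw [hrr, Matrix.mulVec_sub, Matrix.mulVec_smul] at this
      simp only [av, bv] at hc1 hc2 this ⊢
      rw [hc1, hc2] at this
      linear_combination (norm := module) this
    obtain ⟨g1, g2⟩ := li (x2 - ρ * x1 + ρ) (y2 - ρ * y1 - 1) (by
      linear_combination (norm := module) heig)
    rw [hp1, hp2, hl] at g1
    rw [hq1, hq2, hl] at g2
    have hq10 : q1 = 0 := hquad q1 (p1 - d3 * q2) (-(d3 * p2)) (by
      push_cast
      exact mul_left_cancel₀ hl1 (by linear_combination -g1 - ρ * g2))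
    rw [hq10] at g2
    push_cast at g2
    have hlin : ((p1 : F) - d3 * q2) * ρ + -((d3 : F) * p2) = 0 := by
      refine mul_left_cancel₀ hl1 ?_
      linear_combination -g1 - ρ * g2
    have hcoef : (p1 : F) - d3 * q2 = 0 := by
      by_contra h0
      exact hρ0 (by
        have : ρ = (d3 : F) * p2 / ((p1 : F) - d3 * q2) := by
          rw [eq_div_iff h0]; linear_combination hlin
        rw [this]
        exact div_mem (mul_mem d3.2 p2.2) (sub_mem p1.2 (mul_mem d3.2 q2.2)))
    -- so `X` fixes the first vector, against `α ≠ 1`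
    have hx1 : x1 = 1 := by
      rw [hp1]; linear_combination l1 * hcoef + g2
    have hy1 : y1 = 0 := by rw [hq1, hq10]; simp
    have hfin : (1 - α) • av + (-z) • rr = 0 := by
      have h := hXa
      rw [hc1, hx1, hy1] at h
      linear_combination (norm := module) h
    rw [hrr] at hfin
    obtain ⟨k1, k2⟩ := li (1 - α + z * ρ) (-z) (by linear_combination (norm := module) hfin)
    rw [neg_eq_zero.1 k2, zero_mul, add_zero, sub_eq_zero] at k1
    exact hα1 k1.symm
  have hcardU : Nat.card U = Nat.card K * Nat.card K := by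
    rw [← Nat.card_prod]
    exact (Nat.card_congr (Equiv.ofBijective (fun p => (⟨ψ p, p, trivial, rfl⟩ : U))
      ⟨fun p p' h => hψ (congrArg Subtype.val h), fun ⟨x, p, _, e⟩ => ⟨p, Subtype.ext e⟩⟩)).symm
  have hK : 2 ≤ Nat.card K :=
    Finite.one_lt_card_iff_nontrivial.2 ⟨⟨⟨k, hk, hks⟩, 0, fun e => hk0 (congrArg Subtype.val e)⟩⟩
  have := SubfieldPlane.mult_large Γ U hU hlow (by rw [hcardU]; nlinarith) {1} hS
  rw [hcardU, Finset.card_singleton] at this
  nlinarith

/-- Containing the rational root elements and one irrational centre, all isotropic centres occur. -/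
theorem all_cen {r : ℕ} (hr : r.Prime) (hcard : Nat.card F = Nat.card F₀ ^ r) (hr3 : 3 ≤ r) {k : F} (hk : k ∈ F₀)
    (hk0 : k ≠ 0) (hks : σ k = -k) {u : V} (hm : InM hR.form M u 0 k)
    (hu : ∀ (l : F) (a : ι → F₀), u ≠ l • rv F₀ a) : ∀ v, f v v = 0 → Cen hR.form M v := by
  classical
  obtain ⟨s, hs0, hs⟩ := exists_good hD hr hcard hr3 hk hk0 hks hm hu
  have symm : ∀ {x y : V}, f x y = 0 → f y x = 0 := fun h => swap_zero hR.form h
  have hz0 : f (0 : V) 0 = 0 := zero_left hR.form 0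
  let R : Subring F :=
    { carrier := {s | Good hR M s}
      one_mem' := fun a e ha he hea _ _ => hD.pure (one_mem _) ha he hea
      zero_mem' := fun a e ha he hea _ _ => hD.pure (zero_mem _) ha he hea
      add_mem' := fun {s t} h h' a e ha he hea h0 hne =>
        ((h a e ha he hea h0 hne).mul (h' a e ha he hea h0 hne)).congr (by rw [add_smul]) (by
          rw [hR.form.smul_left, smul_right hR.form, he, mul_zero, mul_zero]; simp)
      neg_mem' := fun {s} h a e ha he hea h0 hne =>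
        (h a e ha he hea h0 hne).inv.congr (by module) (map_zero σ)
      mul_mem' := fun {s t} h h' => good_mul hD h' h }
  have hR0 : ∀ l ∈ F₀, l ∈ R := fun l hl a e ha he hea _ _ => hD.pure hl ha he hea
  have htop := subring_top F₀ hr hcard R hR0 (show s ∈ R from hs) hs0
  have hall : ∀ s : F, Good hR M s := fun s => (show s ∈ R by rw [htop]; trivial)
  obtain ⟨s₁, hs₁⟩ : ∃ s₁, s₁ ≠ σ s₁ := by
    by_contra hc; push Not at hc; exact hR.form.ne_refl (RingEquiv.ext fun a => (hc a).symm)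
  have htrace : ∀ x, σ x = x → ∃ κ : F, κ + σ κ = x := fun x hx => by
    obtain ⟨y, hy⟩ : ∃ y : F, y + σ y ≠ 0 := by
      by_contra hc
      push Not at hc
      have h1 := hc 1
      rw [map_one] at h1
      exact hs₁ (by linear_combination -hc s₁ + s₁ * h1)
    refine ⟨x / (y + σ y) * y, ?_⟩
    rw [map_mul, map_div₀, map_add, hR.form.involutive, hx, add_comm (σ y) y, ← mul_add, div_mul_cancel₀ _ hy]
  have hT : ∀ a : ι → F₀, f (rv F₀ a) (rv F₀ a) = 0 → a ≠ 0 → ∀ κ, σ κ = -κ → InM hR.form M (rv F₀ a) 0 κ := by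
    intro a haa ha κ hκ
    obtain ⟨e, hee, he, hene⟩ := iso_avoid hR ![a] ![a] (by norm_num) (by have := hR.big; omega)
    have hea : f (rv F₀ e) (rv F₀ a) = 0 := he 0
    obtain ⟨e', hee', he', hee1⟩ := iso_dual hR ![a] (by norm_num) (p := e) hene
    have he'a : f (rv F₀ e') (rv F₀ a) = 0 := he' 0
    set r0 := κ / (σ s₁ - s₁)
    have hd : σ s₁ - s₁ ≠ 0 := sub_ne_zero.2 (Ne.symm hs₁)
    have hr0 : σ r0 = r0 := by
      simp only [r0, map_div₀, hκ, map_sub, hR.form.involutive]
      rw [← neg_div_neg_eq, neg_neg, neg_sub]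
    have h1 := hall (r0 * s₁) a e haa hee hea ha fun l hl => hene ![l] (by simp [hl])
    have h2 := hD.pure (t := 1) (one_mem _) haa hee' he'a
    rw [one_smul] at h2
    refine (h1.comm h2).congr rfl ?_
    rw [smul_right hR.form, hR.form.smul_left, hee1, hR.form.herm (rv F₀ e) (rv F₀ e'), hee1, map_one, map_mul, hr0]
    simp only [r0]
    field_simp
  have hA : ∀ a : ι → F₀, f (rv F₀ a) (rv F₀ a) = 0 → a ≠ 0 → ∀ w : V, f w (rv F₀ a) = 0 →
      ∀ κ, κ + σ κ = f w w → InM hR.form M (rv F₀ a) w κ := by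
    intro a haa ha
    let A : Submodule F V :=
      { carrier := {w | f w (rv F₀ a) = 0 ∧ ∀ t κ : F, κ + σ κ = f (t • w) (t • w) → InM hR.form M (rv F₀ a) (t • w) κ}
        zero_mem' := ⟨zero_left hR.form _, fun t κ hκ => by
          rw [smul_zero, hz0] at hκ
          rw [smul_zero]
          exact hT a haa ha κ (eq_neg_of_add_eq_zero_right hκ)⟩
        add_mem' := fun {x y} hx hy => ⟨by rw [hR.form.add_left, hx.1, hy.1, add_zero], fun t κ hκ => by
          obtain ⟨κ1, h1⟩ := htrace (f (t • x) (t • x)) (hR.form.herm _ _).symm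
          obtain ⟨κ2, h2⟩ := htrace (f (t • y) (t • y)) (hR.form.herm _ _).symm
          have h3 := (hx.2 t κ1 h1).mul (hy.2 t κ2 h2)
          rw [← smul_add] at h3
          have hv3 : κ1 + κ2 + f (t • y) (t • x) + σ (κ1 + κ2 + f (t • y) (t • x)) = f (t • (x + y)) (t • (x + y)) := by
            obtain ⟨_, _, h, _⟩ := h3; exact h
          refine (h3.mul (hT a haa ha (κ - (κ1 + κ2 + f (t • y) (t • x))) ?_)).congr (add_zero _) ?_
          · rw [map_sub]; linear_combination hκ - hv3
          · rw [zero_left hR.form]; ring⟩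
        smul_mem' := fun c x hx => ⟨by rw [hR.form.smul_left, hx.1, mul_zero], fun t κ hκ => by
          rw [smul_smul] at hκ ⊢; exact hx.2 _ κ hκ⟩ }
    have hiso : ∀ e : ι → F₀, f (rv F₀ e) (rv F₀ e) = 0 → f (rv F₀ e) (rv F₀ a) = 0 → rv F₀ e ∈ A := by
      intro e hee hea
      refine ⟨hea, fun t κ hκ => ?_⟩
      rw [hR.form.smul_left, smul_right hR.form, hee, mul_zero, mul_zero] at hκ
      by_cases hdep : ∀ l : F₀, e ≠ l • a
      · exact ((hall t a e haa hee hea ha hdep).mul (hT a haa ha κ (eq_neg_of_add_eq_zero_right hκ))).congr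
          (add_zero _) (by rw [zero_left hR.form]; simp)
      push Not at hdep
      obtain ⟨l, rfl⟩ := hdep
      set c := t * (l : F) with hc
      obtain ⟨h1, h2, h3, hm'⟩ := hT a haa ha (κ + σ c - c) (by
        rw [map_sub, map_add, hR.form.involutive]; linear_combination hκ)
      refine ⟨h1, by rw [hR.form.smul_left, hea, mul_zero],
        by rw [hR.form.smul_left, smul_right hR.form, hee, mul_zero, mul_zero]; exact hκ, ?_⟩
      convert hm' using 1
      refine gl_ext fun x => ?_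
      rw [hS_apply, hS_apply]
      simp only [rv_smul, smul_smul, smul_right hR.form, zero_right hR.form, hc]
      module
    let U₀ : Submodule F₀ (ι → F₀) :=
      { carrier := {x | rv F₀ x ∈ A}
        zero_mem' := by show rv F₀ (0 : ι → F₀) ∈ A; rw [rv_zero]; exact zero_mem A
        add_mem' := fun {x y} hx hy => by show rv F₀ (x + y) ∈ A; rw [rv_add]; exact add_mem hx hy
        smul_mem' := fun c x hx => by show rv F₀ (c • x) ∈ A; rw [rv_smul]; exact A.smul_mem _ hx }
    have hrat : ∀ x : ι → F₀, f (rv F₀ x) (rv F₀ a) = 0 → rv F₀ x ∈ A := fun x hx =>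
      iso_span hR ![a] (by norm_num) U₀ (fun e hee he => hiso e hee (he 0)) (w := x) fun i => by
        fin_cases i; exact hx
    obtain ⟨z, -, -, hza⟩ := iso_dual hR (![] : Fin 0 → ι → F₀) (by norm_num) (p := a) fun l h => ha (by simpa using h)
    intro w hwa κ hκ
    have key : ∀ i, ∃ c : F, (Pi.single i 1 : V) + c • rv F₀ z ∈ A := fun i => by
      refine ⟨-f (rv F₀ (Pi.single i 1)) (rv F₀ a), ?_⟩
      have := hrat (Pi.single i 1 + (-⟨_, hR.rat (Pi.single i 1) a⟩ : F₀) • z) (by
        rw [rv_add, rv_smul, hR.form.add_left, hR.form.smul_left, hza]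
        simp)
      simp only [rv_add, rv_smul, NegMemClass.coe_neg] at this
      rw [rv_single] at this
      rw [rv_single]
      simpa [rv_single] using this
    choose c hc using key
    have hdec : ∑ i, w i • ((Pi.single i 1 : V) + c i • rv F₀ z) = w + (∑ i, w i * c i) • rv F₀ z := by
      simp only [smul_add, Finset.sum_add_distrib, smul_smul, ← Finset.sum_smul]
      congr 1
      exact (pi_eq_sum_univ' w).symm
    have hmem : w + (∑ i, w i * c i) • rv F₀ z ∈ A := hdec ▸ A.sum_mem fun i _ => A.smul_mem _ (hc i)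
    have h0 : (∑ i, w i * c i) = 0 := by
      have := hmem.1
      rw [hR.form.add_left, hwa, hR.form.smul_left, hza] at this
      simpa using this
    rw [h0, zero_smul, add_zero] at hmem
    have := hmem.2 1 κ (by rwa [one_smul])
    rwa [one_smul] at this
  have hCenRat : ∀ a : ι → F₀, f (rv F₀ a) (rv F₀ a) = 0 → a ≠ 0 → Cen hR.form M (rv F₀ a) := by
    intro a haa ha
    refine cen_of_mem hR.form haa fun c hc h0 => ?_
    obtain ⟨_, _, _, hm'⟩ := hT a haa ha (-c) (by rw [map_neg, hc])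
    convert hm' using 1
    refine gl_ext fun x => ?_
    rw [transGL_apply, hS_apply]
    simp [fn_apply, zero_right hR.form]
  intro v hvv
  rcases eq_or_ne v 0 with rfl | hv
  · refine cen_of_mem hR.form hvv fun c _ h0 => ?_
    rw [show transGL (c • fn hR.form (0 : V)) (0 : V) h0 = 1 from gl_ext fun x => by
      rw [transGL_apply]; simp]
    exact one_mem _
  obtain ⟨a, haa, hva⟩ : ∃ a : ι → F₀, f (rv F₀ a) (rv F₀ a) = 0 ∧ f (rv F₀ a) v ≠ 0 := by
    by_contra hc
    push Not at hc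
    let U₀ : Submodule F₀ (ι → F₀) :=
      { carrier := {x | f (rv F₀ x) v = 0}
        zero_mem' := by show f (rv F₀ (0 : ι → F₀)) v = 0; rw [rv_zero, zero_left hR.form]
        add_mem' := fun {x y} (hx : f (rv F₀ x) v = 0) (hy : f (rv F₀ y) v = 0) => by
          show f (rv F₀ (x + y)) v = 0; rw [rv_add, hR.form.add_left, hx, hy, add_zero]
        smul_mem' := fun c x (hx : f (rv F₀ x) v = 0) => by
          show f (rv F₀ (c • x)) v = 0; rw [rv_smul, hR.form.smul_left, hx, mul_zero] }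
    refine hv (eq_of_rat hR fun x => ?_)
    rw [zero_right hR.form]
    exact iso_span hR (![] : Fin 0 → ι → F₀) (by norm_num) U₀ (fun e hee _ => hc e hee) (w := x) fun i => i.elim0
  have ha : a ≠ 0 := fun e => hva (by rw [e, rv_zero, zero_left hR.form])
  obtain ⟨c, hcc, -, hca⟩ := iso_dual hR (![] : Fin 0 → ι → F₀) (by norm_num) (p := a) fun l h => ha (by simpa using h)
  have hc0 : c ≠ 0 := fun e => by rw [e, rv_zero, zero_left hR.form] at hca; exact zero_ne_one hca
  set l := f v (rv F₀ a) with hl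
  have hl0 : l ≠ 0 := fun e => hva (swap_zero hR.form e)
  obtain ⟨y, hy⟩ : ∃ y, y = l⁻¹ • v := ⟨_, rfl⟩
  have hya : f y (rv F₀ a) = 1 := by rw [hy, hR.form.smul_left, ← hl, inv_mul_cancel₀ hl0]
  have hyy : f y y = 0 := by rw [hy, hR.form.smul_left, smul_right hR.form, hvv, mul_zero, mul_zero]
  have hwa : f (y - rv F₀ c) (rv F₀ a) = 0 := by rw [sub_left hR.form, hya, hca, sub_self]
  obtain ⟨_, _, _, hmX⟩ := hA a haa ha (y - rv F₀ c) hwa (-f (rv F₀ c) y) (by
    rw [sub_left hR.form, sub_eq_add_neg y, ← neg_one_smul F (rv F₀ c), add_right hR.form, add_right hR.form,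
      smul_right hR.form, smul_right hR.form, hyy, hcc, map_neg, map_neg, map_one, ← hR.form.herm y (rv F₀ c)]
    ring)
  have h := ((hCenRat c hcc hc0).map hR.form hmX (hD.pres _ hmX)).smul hR.form l
  rw [hS_apply, hca, sub_eq_add_neg y (rv F₀ c), ← neg_one_smul F (rv F₀ c), add_right hR.form, smul_right hR.form,
    hcc] at h
  rwa [show l • (rv F₀ c + (1 : F) • (y + (-1 : F) • rv F₀ c) -
    (f (rv F₀ c) y + σ (-1) * 0 + -f (rv F₀ c) y * 1) • rv F₀ a) = v by
      rw [show f (rv F₀ c) y + σ (-1) * 0 + -f (rv F₀ c) y * 1 = 0 by ring, zero_smul, sub_zero, one_smul,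
        neg_one_smul, ← sub_eq_add_neg, add_sub_cancel, hy, smul_inv_smul₀ hl0]] at h

end Cfsg.Agent.Classical.SubfieldHerm
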