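import Cfsg.Prelude.Def_GeometricClasses
import Cfsg.Agent.Lib.Classical.Linear
import Cfsg.Agent.Lib.Classical.SquareZero

/-!
Involutions and subfield subgroups of special linear groups.
-/

set_option autoImplicit false
set_option linter.unusedSectionVars false
set_option maxHeartbeats 800000

open Module Matrix

namespace Cfsg.Agent.Classical.SubfieldInvol

variable {F : Type*} [Field F] [Fintype F] {n : ℕ}

theorem sub_one_factor {a k : ℕ} (ha : Odd a) (hk : Odd k) (j : ℕ) :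
    ∃ o, Odd o ∧ (a ^ k) ^ j - 1 = (a ^ j - 1) * o := by
  refine ⟨∑ i ∈ Finset.range k, (a ^ j) ^ i, ?_, ?_⟩
  · rw [Finset.odd_sum_iff_odd_card_odd]
    have : (Finset.range k).filter (fun i => Odd ((a ^ j) ^ i)) = Finset.range k :=
      Finset.filter_true_of_mem fun i _ => (ha.pow).pow
    rw [this, Finset.card_range]
    exact hk
  · have h1 : 1 ≤ a ^ j := Nat.one_le_pow _ _ ha.pos
    have h2 : 1 ≤ (a ^ k) ^ j := Nat.one_le_pow _ _ (Nat.pow_pos ha.pos)
    zify [h1, h2]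
    rw [← pow_mul, mul_comm k j, pow_mul, mul_comm]
    exact (geom_sum_mul ((a : ℤ) ^ j) k).symm

theorem odd_index (F₀ : Subfield F) {k q₀ : ℕ} (hn : 1 ≤ n) (hk : Odd k) (hq₀ : Odd q₀)
    (hF₀ : Nat.card F₀ = q₀) (hq : Fintype.card F = q₀ ^ k) :
    Odd ((Cfsg.Geo.subfieldSubgroup F₀ (1 : GL (Fin n) F)).comap
      (Matrix.SpecialLinearGroup.toGL : Matrix.SpecialLinearGroup (Fin n) F →* GL (Fin n) F)).index := by
  classical
  haveI : Nonempty (Fin n) := ⟨⟨0, hn⟩⟩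
  haveI : Fintype F₀ := Fintype.ofFinite _
  have hF₀' : Fintype.card F₀ = q₀ := by rw [← hF₀, Nat.card_eq_fintype_card]
  set H := (Cfsg.Geo.subfieldSubgroup F₀ (1 : GL (Fin n) F)).comap
    (Matrix.SpecialLinearGroup.toGL : Matrix.SpecialLinearGroup (Fin n) F →* GL (Fin n) F)
  let φ : Matrix.SpecialLinearGroup (Fin n) F₀ →* Matrix.SpecialLinearGroup (Fin n) F :=
    Matrix.SpecialLinearGroup.map (F₀.subtype : F₀ →+* F)
  have hφ : Function.Injective φ := fun g h e => Subtype.ext (Matrix.ext fun i j => Subtype.ext (by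
    have := congrFun (congrFun (congrArg Subtype.val e) i) j
    simpa [φ] using this))
  have hle : φ.range ≤ H := by
    rintro _ ⟨g, rfl⟩
    refine ⟨Matrix.SpecialLinearGroup.toGL (φ g), Subgroup.mem_sup_left ⟨Matrix.SpecialLinearGroup.toGL g, Units.ext ?_⟩, by simp⟩
    rfl
  obtain ⟨t, ht⟩ : Nat.card (Matrix.SpecialLinearGroup (Fin n) F₀) ∣ Nat.card H := by
    rw [Nat.card_congr (MonoidHom.ofInjective hφ).toEquiv]
    exact Subgroup.card_dvd_of_le hle
  have hI := H.card_mul_index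
  rw [ht] at hI
  -- the odd factor
  obtain ⟨O, hO, hprod⟩ : ∃ O, Odd O ∧
      ∏ i : Fin n, ((q₀ ^ k) ^ n - (q₀ ^ k) ^ (i : ℕ)) = (∏ i : Fin n, (q₀ ^ n - q₀ ^ (i : ℕ))) * O := by
    have hfac : ∀ i : Fin n, ∃ o, Odd o ∧ (q₀ ^ k) ^ n - (q₀ ^ k) ^ (i : ℕ) = (q₀ ^ n - q₀ ^ (i : ℕ)) * o := fun i => by
      obtain ⟨o, ho, he⟩ := sub_one_factor hq₀ hk (n - i)
      obtain ⟨k', rfl⟩ : ∃ k', k = k' + 1 := ⟨k - 1, by have := hk.pos; omega⟩
      refine ⟨(q₀ ^ k') ^ (i : ℕ) * o, (hq₀.pow.pow).mul ho, ?_⟩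
      have e1 : ∀ b : ℕ, b ^ n - b ^ (i : ℕ) = b ^ (i : ℕ) * (b ^ (n - i) - 1) := fun b => by
        rw [Nat.mul_sub, mul_one, ← pow_add, Nat.add_sub_cancel' i.2.le]
      rw [e1, e1, he, pow_succ, mul_pow]
      ring
    choose o ho he using hfac
    exact ⟨∏ i, o i, Finset.prod_induction _ Odd (fun a b => Odd.mul) odd_one (fun i _ => ho i), by
      rw [← Finset.prod_mul_distrib]; exact Finset.prod_congr rfl fun i _ => he i⟩
  have hG : Nat.card (GL (Fin n) F) = Nat.card (GL (Fin n) F₀) * O := by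
    rw [Matrix.card_GL_field, Matrix.card_GL_field, hq, hF₀', hprod]
  obtain ⟨o₁, -, he₁⟩ := sub_one_factor hq₀ hk 1
  rw [pow_one, pow_one] at he₁
  rw [card_GL_eq_mul_card_SL, card_GL_eq_mul_card_SL, hq, hF₀', he₁, ← hI] at hG
  have hpos : 0 < (q₀ - 1) * Nat.card (Matrix.SpecialLinearGroup (Fin n) F₀) := by
    refine Nat.mul_pos ?_ Nat.card_pos
    have := Fintype.one_lt_card (α := F₀)
    omega
  have hodd : Odd (o₁ * t * H.index) := by
    have h2 : (q₀ - 1) * Nat.card (Matrix.SpecialLinearGroup (Fin n) F₀) * (o₁ * t * H.index) =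
        (q₀ - 1) * Nat.card (Matrix.SpecialLinearGroup (Fin n) F₀) * O := by
      rw [← hG]; ring
    rw [Nat.eq_of_mul_eq_mul_left hpos h2]
    exact hO
  exact (Nat.odd_mul.1 hodd).2

/-- A matrix that is a scalar times a matrix over the subfield in some basis. -/
theorem conj_mem (F₀ : Subfield F) {ι : Type} [Fintype ι] [DecidableEq ι] (x : Matrix.SpecialLinearGroup (Fin n) F)
    (c : Basis ι F (Fin n → F)) {l : F} (hl : l ≠ 0) (g : Matrix ι ι F₀)
    (hc : ∀ j, (x : Matrix (Fin n) (Fin n) F) *ᵥ c j = l • ∑ i, (g i j : F) • c i)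
    (hsur : ∀ r : F, r ≠ 0 → ∃ d : ι → F, (∏ i, d i) = r ∧ ∀ i j, g i j ≠ 0 → d i = d j) :
    ∃ P : Matrix.SpecialLinearGroup (Fin n) F, P⁻¹ * x * P ∈
      (Cfsg.Geo.subfieldSubgroup F₀ (1 : GL (Fin n) F)).comap
        (Matrix.SpecialLinearGroup.toGL : Matrix.SpecialLinearGroup (Fin n) F →* GL (Fin n) F) := by
  classical
  have hcard : Fintype.card ι = Fintype.card (Fin n) := by
    rw [← Module.finrank_eq_card_basis c, Module.finrank_pi]
  let e : ι ≃ Fin n := Fintype.equivOfCardEq hcard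
  let c' : Basis (Fin n) F (Fin n → F) := c.reindex e
  let g' : Matrix (Fin n) (Fin n) F₀ := g.submatrix e.symm e.symm
  set E : Matrix (Fin n) (Fin n) F := Matrix.of fun i j => c' j i with hE
  have hE1 : E = (Pi.basisFun F (Fin n)).toMatrix c' := by
    ext i j; simp [hE, Module.Basis.toMatrix_apply]
  have hE0 : E.det ≠ 0 := by
    rw [hE1, ← Module.Basis.det_apply]
    exact ((Pi.basisFun F (Fin n)).isUnit_det c').ne_zero
  obtain ⟨d, hd, hdg⟩ := hsur E.det⁻¹ (inv_ne_zero hE0)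
  let G : Matrix.SpecialLinearGroup (Fin n) F := ⟨E * Matrix.diagonal (fun i => d (e.symm i)), by
    rw [Matrix.det_mul, Matrix.det_diagonal, e.symm.prod_comp d, hd, mul_inv_cancel₀ hE0]⟩
  set M : Matrix (Fin n) (Fin n) F := g'.map F₀.subtype with hM
  have hxE : (x : Matrix (Fin n) (Fin n) F) * E = E * (l • M) := by
    ext i j
    have h1 := congrFun (hc (e.symm j)) i
    rw [Matrix.mul_apply, Matrix.mul_apply]
    simp only [hE, hM, g', c', Matrix.of_apply, Module.Basis.reindex_apply, Matrix.smul_apply, Matrix.map_apply,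
      Matrix.submatrix_apply, smul_eq_mul]
    simp only [Matrix.mulVec, dotProduct, Pi.smul_apply, Finset.sum_apply, smul_eq_mul] at h1
    rw [h1, Finset.mul_sum, ← e.symm.sum_comp (fun s => l * ((g s (e.symm j) : F) * c s i))]
    exact Finset.sum_congr rfl fun s _ => by simp; ring
  have hcomm : Matrix.diagonal (fun i => d (e.symm i)) * M = M * Matrix.diagonal (fun i => d (e.symm i)) := by
    ext i j
    rw [Matrix.diagonal_mul, Matrix.mul_diagonal]
    by_cases h0 : g (e.symm i) (e.symm j) = 0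
    · simp [hM, g', h0]
    · rw [hdg _ _ h0, mul_comm]
  have hconj : ((G⁻¹ * x * G : Matrix.SpecialLinearGroup (Fin n) F) : Matrix (Fin n) (Fin n) F) = l • M := by
    have h1 : (x : Matrix (Fin n) (Fin n) F) * (G : Matrix (Fin n) (Fin n) F) = (G : Matrix (Fin n) (Fin n) F) * (l • M) := by
      show (x : Matrix (Fin n) (Fin n) F) * (E * _) = E * _ * _
      rw [← mul_assoc, hxE]
      simp only [mul_assoc, Matrix.smul_mul, Matrix.mul_smul, hcomm]
    rw [mul_assoc, Matrix.SpecialLinearGroup.coe_mul, Matrix.SpecialLinearGroup.coe_mul, h1, ← mul_assoc,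
      ← Matrix.SpecialLinearGroup.coe_mul, inv_mul_cancel, Matrix.SpecialLinearGroup.coe_one, one_mul]
  have hg0 : g'.det ≠ 0 := fun e0 => by
    have h1 := congrArg Matrix.det hconj
    rw [Matrix.SpecialLinearGroup.det_coe, Matrix.det_smul, hM, ← RingHom.mapMatrix_apply, ← RingHom.map_det, e0,
      map_zero, mul_zero] at h1
    exact one_ne_zero h1
  let u : GL (Fin n) F₀ := Matrix.GeneralLinearGroup.mkOfDetNeZero g' hg0
  let sc : GL (Fin n) F := Units.map (Matrix.scalar (Fin n) : F →+* Matrix (Fin n) (Fin n) F).toMonoidHom (Units.mk0 l hl)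
  refine ⟨G, sc * Matrix.GeneralLinearGroup.map (F₀.subtype : F₀ →+* F) u,
    mul_mem (Subgroup.mem_sup_right ⟨_, rfl⟩) (Subgroup.mem_sup_left ⟨u, rfl⟩), ?_⟩
  simp only [map_one, MulEquiv.toMonoidHom_eq_coe, MonoidHom.coe_coe, MulAut.one_apply]
  refine Units.ext ?_
  show Matrix.scalar (Fin n) l * g'.map F₀.subtype = ((G⁻¹ * x * G : Matrix.SpecialLinearGroup (Fin n) F) : Matrix (Fin n) (Fin n) F)
  rw [hconj, hM, Matrix.scalar_apply, ← Matrix.smul_one_eq_diagonal, Matrix.smul_mul, one_mul]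

/-- A conjugate in the subfield group squares to a scalar with square class from the subfield. -/
theorem square_of_mem (F₀ : Subfield F) (hn : 1 ≤ n) {z : F} (hz : z ≠ 0) (x : Matrix.SpecialLinearGroup (Fin n) F)
    (hx : (x : Matrix (Fin n) (Fin n) F) * (x : Matrix (Fin n) (Fin n) F) = z • 1)
    {P : Matrix.SpecialLinearGroup (Fin n) F} (hP : P⁻¹ * x * P ∈
      (Cfsg.Geo.subfieldSubgroup F₀ (1 : GL (Fin n) F)).comap
        (Matrix.SpecialLinearGroup.toGL : Matrix.SpecialLinearGroup (Fin n) F →* GL (Fin n) F)) :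
    ∃ c : F, c ≠ 0 ∧ ∃ w : F₀, z = c * c * w := by
  classical
  have hcent : ∀ g : GL (Fin n) F, g ∈ Cfsg.Geo.scalars (Fin n) F → ∀ h : GL (Fin n) F, h * g = g * h := fun g hg h => by
    obtain ⟨c, hc⟩ := (Cfsg.Geo.mem_scalars_iff g).1 hg
    exact Units.ext (by rw [Units.val_mul, Units.val_mul, hc, Matrix.mul_smul, Matrix.smul_mul, one_mul, mul_one])
  haveI : (Cfsg.Geo.scalars (Fin n) F).Normal := ⟨fun g hg h => by rwa [hcent g hg h, mul_inv_cancel_right]⟩
  obtain ⟨y, hy, hyP⟩ := hP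
  obtain ⟨a, ⟨u, rfl⟩, b, hb, rfl⟩ := Subgroup.mem_sup_of_normal_right.1 hy
  obtain ⟨c, hc⟩ := (Cfsg.Geo.mem_scalars_iff b).1 hb
  have h1 := congrArg (fun g : GL (Fin n) F => (g : Matrix (Fin n) (Fin n) F) * (g : Matrix (Fin n) (Fin n) F)) hyP
  simp only [map_one, MulEquiv.toMonoidHom_eq_coe, MonoidHom.coe_coe, MulAut.one_apply, Units.val_mul, hc,
    Matrix.mul_smul, Matrix.smul_mul, mul_one, smul_smul] at h1
  have h2 : ((P⁻¹ * x * P : Matrix.SpecialLinearGroup (Fin n) F) : Matrix (Fin n) (Fin n) F) *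
      ((P⁻¹ * x * P : Matrix.SpecialLinearGroup (Fin n) F) : Matrix (Fin n) (Fin n) F) = z • 1 := by
    rw [← Matrix.SpecialLinearGroup.coe_mul, show P⁻¹ * x * P * (P⁻¹ * x * P) = P⁻¹ * (x * x) * P by group,
      Matrix.SpecialLinearGroup.coe_mul, Matrix.SpecialLinearGroup.coe_mul, Matrix.SpecialLinearGroup.coe_mul, hx,
      Matrix.mul_smul, mul_one, Matrix.smul_mul, ← Matrix.SpecialLinearGroup.coe_mul, inv_mul_cancel,
      Matrix.SpecialLinearGroup.coe_one]
  change _ = ((P⁻¹ * x * P : Matrix.SpecialLinearGroup (Fin n) F) : Matrix (Fin n) (Fin n) F) *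
    ((P⁻¹ * x * P : Matrix.SpecialLinearGroup (Fin n) F) : Matrix (Fin n) (Fin n) F) at h1
  rw [h2] at h1
  have h3 := congrFun (congrFun h1 ⟨0, hn⟩) ⟨0, hn⟩
  refine ⟨c, c.ne_zero, ((u : Matrix (Fin n) (Fin n) F₀) * (u : Matrix (Fin n) (Fin n) F₀)) ⟨0, hn⟩ ⟨0, hn⟩, ?_⟩
  simp [Matrix.mul_apply, Finset.mul_sum] at h3 ⊢
  rw [← h3]

end Cfsg.Agent.Classical.SubfieldInvol
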