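import Cfsg.Agent.Lib.Classical.SubfieldPlane
import Cfsg.Agent.Lib.Classical.SubfieldMem

/-!
Subfield groups are maximal in special linear groups.
-/

set_option autoImplicit false
set_option linter.unusedSectionVars false
set_option maxHeartbeats 800000

open Module Matrix

namespace Cfsg.Agent.Classical.SubfieldLin

open MaxLin

variable {F : Type*} [Field F] [Fintype F] {ι : Type} [Fintype ι] [DecidableEq ι] (F₀ : Subfield F)


/-- A vector with coordinates in the subfield. -/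
def rv (a : (ι → F₀)) : ι → F := fun i => (a i : F)

/-- A linear form with coefficients in the subfield. -/
def rf (c : (ι → F₀)) : Dual F (ι → F) := ∑ i, (c i : F) • LinearMap.proj i

theorem rf_apply (c : (ι → F₀)) (x : ι → F) : rf F₀ c x = ∑ i, (c i : F) * x i := by
  simp [rf]

theorem rf_rv (c a : (ι → F₀)) : rf F₀ c (rv F₀ a) = ((c ⬝ᵥ a : F₀) : F) := by
  rw [rf_apply]
  simp [dotProduct, rv]

theorem rf_rv0 {c a : (ι → F₀)} (h : c ⬝ᵥ a = 0) : rf F₀ c (rv F₀ a) = 0 := by rw [rf_rv, h]; rfl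

theorem rv_ne {a : (ι → F₀)} (h : a ≠ 0) : rv F₀ a ≠ 0 := fun e => h (funext fun i => Subtype.ext (congrFun e i))

/-- Prescribed products with independent vectors. -/
theorem exists_dot {m : ℕ} (W : Fin m → (ι → F₀)) {p : (ι → F₀)} (h : ∀ r : Fin m → F₀, p ≠ ∑ i, r i • W i) :
    ∃ a, (∀ i, W i ⬝ᵥ a = 0) ∧ p ⬝ᵥ a = 1 := by
  obtain ⟨a, ha, hap⟩ : ∃ a, (∀ i, W i ⬝ᵥ a = 0) ∧ p ⬝ᵥ a ≠ 0 := by
    by_contra hc
    push Not at hc
    have hmem : dotProductBilin F₀ F₀ p ∈ Submodule.span F₀ (Set.range fun i => dotProductBilin F₀ F₀ (W i)) := by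
      refine mem_span_of_iInf_ker_le_ker fun x hx => ?_
      simp only [Submodule.mem_iInf, LinearMap.mem_ker] at hx
      rw [LinearMap.mem_ker]
      exact hc x hx
    obtain ⟨r, hr⟩ := (Submodule.mem_span_range_iff_exists_fun F₀).1 hmem
    refine h r (funext fun j => ?_)
    have := LinearMap.congr_fun hr (Pi.single j 1)
    simp only [LinearMap.coe_sum, Finset.sum_apply, LinearMap.smul_apply] at this
    simpa [Finset.sum_apply] using this.symm
  exact ⟨(p ⬝ᵥ a)⁻¹ • a, fun i => by rw [dotProduct_smul, ha i, smul_zero],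
    by rw [dotProduct_smul, smul_eq_mul, inv_mul_cancel₀ hap]⟩

/-- A vector orthogonal to given ones outside the span of others. -/
theorem exists_avoid {m k : ℕ} (W : Fin m → (ι → F₀)) (A : Fin k → (ι → F₀)) (h : m + k < Fintype.card ι) :
    ∃ c, (∀ i, W i ⬝ᵥ c = 0) ∧ ∀ r : Fin k → F₀, c ≠ ∑ i, r i • A i := by
  by_contra hc
  push Not at hc
  let L : (ι → F₀) →ₗ[F₀] (Fin m → F₀) := LinearMap.pi fun i => dotProductBilin F₀ F₀ (W i)
  have h1 := LinearMap.finrank_range_add_finrank_ker L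
  have h2 := Submodule.finrank_le (LinearMap.range L)
  rw [finrank_fin_fun] at h2
  rw [finrank_pi] at h1
  have h3 : finrank F₀ (LinearMap.ker L) ≤ k := by
    refine (Submodule.finrank_mono (t := Submodule.span F₀ (Set.range A)) fun x hx => ?_).trans
      ((finrank_range_le_card _).trans (by simp))
    obtain ⟨r, hr⟩ := hc x fun i => congrFun (LinearMap.mem_ker.1 hx) i
    exact (Submodule.mem_span_range_iff_exists_fun F₀).2 ⟨r, hr.symm⟩
  omega

omit [Fintype F] in
/-- A subring strictly above a subfield of prime index is everything. -/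
theorem subring_top [Finite F] {r : ℕ} (hr : r.Prime) (hcard : Nat.card F = Nat.card F₀ ^ r) (R : Subring F)
    (h0 : ∀ x ∈ F₀, x ∈ R) {s : F} (hs : s ∈ R) (hs0 : s ∉ F₀) : R = ⊤ := by
  haveI : Fintype F₀ := Fintype.ofFinite _
  let A : Subalgebra F₀ F :=
    { R with algebraMap_mem' := fun x => h0 x x.2 }
  have hfin : finrank F₀ F = r := by
    haveI : Fintype F := Fintype.ofFinite _
    have := Module.card_eq_pow_finrank (K := F₀) (V := F)
    simp only [← Nat.card_eq_fintype_card] at this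
    rw [hcard] at this
    exact (Nat.pow_right_injective Finite.one_lt_card this).symm
  have hdom : IsField A := by
    haveI : Finite A := inferInstance
    exact Finite.isField_of_domain A
  let K : IntermediateField F₀ F := Subalgebra.toIntermediateField' A hdom
  have hdvd := Module.finrank_mul_finrank F₀ K F
  rw [hfin] at hdvd
  rcases (Nat.dvd_prime hr).1 (Dvd.intro _ hdvd) with h | h
  · exfalso
    have : K = ⊥ := IntermediateField.finrank_eq_one_iff.1 h
    have hmem : s ∈ K := hs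
    rw [this, IntermediateField.mem_bot] at hmem
    obtain ⟨x, rfl⟩ := hmem
    exact hs0 x.2
  · have : K = ⊤ := IntermediateField.eq_of_le_of_finrank_le le_top (by
      rw [IntermediateField.finrank_top', hfin, h])
    exact eq_top_iff.2 fun x _ => (show x ∈ K by rw [this]; trivial)

variable {F₀} {M : Subgroup (GL ι F)}

omit [Fintype F] in
theorem Tm_add_centre {f : Dual F (ι → F)} {v v' : ι → F} (h : Tm M f v) (h' : Tm M f v') : Tm M f (v + v') := by
  obtain ⟨hf, hm⟩ := h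
  obtain ⟨hf', hm'⟩ := h'
  refine ⟨by simp [hf, hf'], ?_⟩
  have he : transGL f (v + v') (by simp [hf, hf']) = transGL f v hf * transGL f v' hf' := by
    refine gl_ext fun x => ?_
    rw [Units.val_mul, ← Matrix.mulVec_mulVec, transGL_apply, transGL_apply, transGL_apply]
    simp only [map_add, map_smul, hf', smul_zero, add_zero]
    module
  rw [he]; exact mul_mem hm hm'

omit [Fintype F] in
theorem Tm_shift {f : Dual F (ι → F)} {v : ι → F} {c : F} (h0 : f v = 0) : Tm M (c • f) v ↔ Tm M f (c • v) := by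
  refine ⟨Tm.smul_centre c h0, fun ⟨hf, hm⟩ => ⟨by simp [h0], ?_⟩⟩
  have he : transGL (c • f) v (by simp [h0]) = transGL f (c • v) hf :=
    gl_ext fun x => by simp [transGL_apply, smul_smul, mul_comm]
  rw [he]; exact hm

omit [Fintype F] in
/-- Commutators of transvections. -/
theorem Tm_comm {φ ψ : Dual F (ι → F)} {u w : ι → F} (h : Tm M φ u) (h' : Tm M ψ w) (h0 : ψ u = 0) :
    Tm M ψ (φ w • u) := by
  obtain ⟨hφ, hm⟩ := h
  have h2 := h'.conj hm
  have e1 : ψ ∘ₗ Matrix.toLin' (((transGL φ u hφ)⁻¹ : GL ι F) : Matrix ι ι F) = ψ := by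
    refine LinearMap.ext fun x => ?_
    have : ((transGL φ u hφ)⁻¹ : GL ι F) = transGL (-φ) u (by simp [hφ]) :=
      inv_eq_of_mul_eq_one_left (gl_ext fun y => by
        rw [Units.val_mul, ← Matrix.mulVec_mulVec, transGL_apply, transGL_apply]
        simp [hφ])
    rw [LinearMap.comp_apply, this, Matrix.toLin'_apply, transGL_apply, map_add, map_smul, h0, smul_zero, add_zero]
  rw [e1, transGL_apply] at h2
  have h3 : Tm M ψ (-w) := by
    obtain ⟨hw, hwm⟩ := h'
    refine ⟨by simp [hw], ?_⟩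
    have he : transGL ψ (-w) (by simp [hw]) = (transGL ψ w hw)⁻¹ :=
      eq_inv_of_mul_eq_one_left (gl_ext fun y => by
        rw [Units.val_mul, ← Matrix.mulVec_mulVec, transGL_apply, transGL_apply]
        simp [hw])
    rw [he]; exact inv_mem hwm
  have h4 := Tm_add_centre h3 h2
  rwa [neg_add_cancel_left] at h4

variable (hM0 : ∀ c a : (ι → F₀), c ⬝ᵥ a = 0 → Tm M (rf F₀ c) (rv F₀ a)) (hn : 13 ≤ Fintype.card ι)

/-- Scalars by which every rational transvection may be multiplied. -/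
def Good (M : Subgroup (GL ι F)) (F₀ : Subfield F) (s : F) : Prop :=
  ∀ c a : (ι → F₀), c ⬝ᵥ a = 0 → Tm M (s • rf F₀ c) (rv F₀ a)

include hM0 hn

theorem change_form {s : F} {c c' a : (ι → F₀)} (hca : c ⬝ᵥ a = 0) (hc'a : c' ⬝ᵥ a = 0)
    (hne : ∀ r : Fin 1 → F₀, c ≠ ∑ i, r i • ![c'] i) (h : Tm M (s • rf F₀ c) (rv F₀ a)) :
    Tm M (s • rf F₀ c') (rv F₀ a) := by
  obtain ⟨a', hc'a', hca'⟩ := exists_dot F₀ ![c'] hne
  have h1 := Tm_comm h (hM0 c' a' (hc'a' 0)) (rf_rv0 F₀ hc'a)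
  rw [LinearMap.smul_apply, rf_rv, hca', smul_eq_mul] at h1
  exact (Tm_shift (rf_rv0 F₀ hc'a)).2 (by simpa using h1)

theorem change_centre {s : F} {c a a' : (ι → F₀)} (hca : c ⬝ᵥ a = 0) (hca' : c ⬝ᵥ a' = 0)
    (hne : ∀ r : Fin 1 → F₀, a ≠ ∑ i, r i • ![a'] i) (h : Tm M (s • rf F₀ c) (rv F₀ a)) :
    Tm M (s • rf F₀ c) (rv F₀ a') := by
  obtain ⟨d, hda', had⟩ := exists_dot F₀ ![a'] hne
  have h1 := Tm_comm (hM0 d a' (by rw [dotProduct_comm]; exact hda' 0)) h
    (by rw [LinearMap.smul_apply, rf_rv0 F₀ hca', smul_zero])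
  rw [rf_rv, show d ⬝ᵥ a = 1 by rw [dotProduct_comm]; exact had] at h1
  simpa using h1

theorem form_any {s : F} {c c' a : (ι → F₀)} (hca : c ⬝ᵥ a = 0) (hc'a : c' ⬝ᵥ a = 0)
    (hc : c ≠ 0) (h : Tm M (s • rf F₀ c) (rv F₀ a)) : Tm M (s • rf F₀ c') (rv F₀ a) := by
  obtain ⟨d, hd, hdne⟩ := exists_avoid F₀ ![a] ![c, c'] (by omega)
  have hda : d ⬝ᵥ a = 0 := by rw [dotProduct_comm]; exact hd 0
  have h1 := change_form hM0 hn hca hda (fun r e => by
    simp only [Fin.sum_univ_one, Matrix.cons_val_fin_one] at e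
    rcases eq_or_ne (r 0) 0 with h0 | h0
    · exact hc (by rw [e, h0, zero_smul])
    · refine hdne ![(r 0)⁻¹, 0] ?_
      simp only [Fin.sum_univ_two, Matrix.cons_val_zero, Matrix.cons_val_one]
      rw [e, inv_smul_smul₀ h0]; simp) h
  exact change_form hM0 hn hda hc'a (fun r e => by
    simp only [Fin.sum_univ_one, Matrix.cons_val_fin_one] at e
    refine hdne ![0, r 0] ?_
    simp [Fin.sum_univ_two, e]) h1

theorem good_of_one {s : F} {c a : (ι → F₀)} (hca : c ⬝ᵥ a = 0) (hc : c ≠ 0) (ha : a ≠ 0)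
    (h : Tm M (s • rf F₀ c) (rv F₀ a)) : Good M F₀ s := by
  intro c' a' hca'
  obtain ⟨d, hd, hdne⟩ := exists_avoid F₀ ![a, a'] ![(0 : (ι → F₀))] (by omega)
  have hda : d ⬝ᵥ a = 0 := by rw [dotProduct_comm]; exact hd 0
  have hda' : d ⬝ᵥ a' = 0 := by rw [dotProduct_comm]; exact hd 1
  have hd0 : d ≠ 0 := fun e => hdne 0 (by simp [e])
  obtain ⟨b, hb, hbne⟩ := exists_avoid F₀ ![d] ![a, a'] (by omega)
  have h1 := form_any hM0 hn hca hda hc h
  have h2 := change_centre hM0 hn (a' := b) hda (hb 0) (fun r e => by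
    simp only [Fin.sum_univ_one, Matrix.cons_val_fin_one] at e
    rcases eq_or_ne (r 0) 0 with h0 | h0
    · exact ha (by rw [e, h0, zero_smul])
    · refine hbne ![(r 0)⁻¹, 0] ?_
      simp only [Fin.sum_univ_two, Matrix.cons_val_zero, Matrix.cons_val_one]
      rw [e, inv_smul_smul₀ h0]; simp) h1
  have h3 := change_centre hM0 hn (a' := a') (hb 0) hda' (fun r e => by
    simp only [Fin.sum_univ_one, Matrix.cons_val_fin_one] at e
    refine hbne ![0, r 0] ?_
    simp [Fin.sum_univ_two, e]) h2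
  exact form_any hM0 hn hda' hca' hd0 h3

theorem good_mul {s t : F} (hs : Good M F₀ s) (ht : Good M F₀ t) : Good M F₀ (s * t) := by
  intro c' a hca
  obtain ⟨d, hd, hdne⟩ := exists_avoid F₀ ![a] ![c'] (by omega)
  have hda : d ⬝ᵥ a = 0 := by rw [dotProduct_comm]; exact hd 0
  obtain ⟨a', ha', hda'⟩ := exists_dot F₀ ![c'] hdne
  have h1 := Tm_comm (hs d a hda) (ht c' a' (ha' 0)) (by rw [LinearMap.smul_apply, rf_rv0 F₀ hca, smul_zero])
  rw [LinearMap.smul_apply, rf_rv, hda', smul_eq_mul] at h1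
  have h2 := (Tm_shift (M := M) (f := t • rf F₀ c') (c := s)
    (by rw [LinearMap.smul_apply, rf_rv0 F₀ hca, smul_zero])).2 (by simpa using h1)
  rwa [smul_smul] at h2

/-- An irrational centre with a rational form gives an irrational scalar. -/
theorem good_of_centre {c : (ι → F₀)} (hc : c ≠ 0) {w : ι → F} (h : Tm M (rf F₀ c) w) {i : ι} (hi : w i ∉ F₀) :
    ∃ s, s ∉ F₀ ∧ Good M F₀ s := by
  refine ⟨w i, hi, ?_⟩
  set e : (ι → F₀) := Pi.single i 1
  obtain ⟨b, hb, hbne⟩ := exists_avoid F₀ ![c, e] ![(0 : (ι → F₀))] (by omega)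
  have hb0 : b ≠ 0 := fun e' => hbne 0 (by simp [e'])
  have hcb : c ⬝ᵥ b = 0 := hb 0
  have heb : e ⬝ᵥ b = 0 := hb 1
  have h1 := Tm_comm (hM0 e b heb) h (rf_rv0 F₀ hcb)
  have he : rf F₀ e w = w i := by
    rw [rf_apply, Finset.sum_eq_single i]
    · simp [e]
    · intro j _ hj; simp [e, hj]
    · simp
  rw [he] at h1
  exact good_of_one hM0 hn hcb hc hb0 ((Tm_shift (rf_rv0 F₀ hcb)).2 h1)

/-- A rational centre with an irrational form gives an irrational scalar. -/
theorem good_of_form {a b : (ι → F₀)} (ha : a ≠ 0) {φ : Dual F (ι → F)} (h : Tm M φ (rv F₀ a))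
    (hb : φ (rv F₀ b) ∉ F₀) : ∃ s, s ∉ F₀ ∧ Good M F₀ s := by
  refine ⟨_, hb, ?_⟩
  obtain ⟨c, hc, hcne⟩ := exists_avoid F₀ ![a, b] ![(0 : (ι → F₀))] (by omega)
  have hca : c ⬝ᵥ a = 0 := by rw [dotProduct_comm]; exact hc 0
  have hcb : c ⬝ᵥ b = 0 := by rw [dotProduct_comm]; exact hc 1
  have h1 := Tm_comm h (hM0 c b hcb) (rf_rv0 F₀ hca)
  exact good_of_one hM0 hn hca (fun e => hcne 0 (by simp [e])) ha ((Tm_shift (rf_rv0 F₀ hca)).2 h1)

omit hn in
theorem forms_of_conj {g : GL ι F} (hg : g ∈ M) (a' : (ι → F₀)) (c : (ι → F₀)) (hc : c ⬝ᵥ a' = 0) :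
    Tm M (rf F₀ c ∘ₗ Matrix.toLin' ((g⁻¹ : GL ι F) : Matrix ι ι F)) ((g : Matrix ι ι F) *ᵥ rv F₀ a') :=
  (hM0 c a' hc).conj hg

theorem exists_good {r : ℕ} (hr : r.Prime) (hcard : Nat.card F = Nat.card F₀ ^ r) {g : GL ι F} (hg : g ∈ M)
    {a' : (ι → F₀)} (hga : ∀ (l : F) (b : (ι → F₀)), (g : Matrix ι ι F) *ᵥ rv F₀ a' ≠ l • rv F₀ b) :
    ∃ s, s ∉ F₀ ∧ Good M F₀ s := by
  classical
  set u := (g : Matrix ι ι F) *ᵥ rv F₀ a' with hu
  obtain ⟨j, hj⟩ : ∃ j, a' j ≠ 0 := by
    by_contra hc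
    push Not at hc
    refine hga 0 0 ?_
    rw [hu, show rv F₀ a' = 0 from funext fun i => by simp [rv, hc i]]
    simp
  -- some form attached to `u` does not vanish at a given rational vector
  have sep : ∀ a : (ι → F₀), a ≠ 0 → ∃ c : (ι → F₀), c ⬝ᵥ a' = 0 ∧
      rf F₀ c (((g⁻¹ : GL ι F) : Matrix ι ι F) *ᵥ rv F₀ a) ≠ 0 := by
    intro a ha
    by_contra hc
    push Not at hc
    set x := ((g⁻¹ : GL ι F) : Matrix ι ι F) *ᵥ rv F₀ a with hx
    have hx' : x = (x j / (a' j : F)) • rv F₀ a' := funext fun i => by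
      have h := hc (a' j • Pi.single i 1 - a' i • Pi.single j 1) (by
        simp [sub_dotProduct, smul_dotProduct, mul_comm])
      rw [rf_apply] at h
      have h' : (a' j : F) * x i - (a' i : F) * x j = 0 := by
        rw [← h]
        simp [Pi.single_apply, sub_mul, Finset.sum_sub_distrib, apply_ite Subtype.val, ite_mul]
      have hj' : ((a' j : F₀) : F) ≠ 0 := fun e => hj (Subtype.ext e)
      show x i = x j / (a' j : F) * (a' i : F)
      field_simp
      linear_combination h'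
    set k := x j / (a' j : F)
    have hk : rv F₀ a = k • u := by
      rw [hu, ← Matrix.mulVec_smul, ← hx', hx, gl_inv_mulVec]
    have hk0 : k ≠ 0 := fun e => rv_ne F₀ ha (by rw [hk, e, zero_smul])
    exact hga k⁻¹ a (by rw [hk, inv_smul_smul₀ hk0])
  by_cases hdep : ∃ c : (ι → F₀), c ≠ 0 ∧ rf F₀ c u = 0
  · obtain ⟨c, hc, hcu⟩ := hdep
    obtain ⟨a, hca, hane⟩ := exists_avoid F₀ ![c] ![(0 : (ι → F₀))] (by omega)
    obtain ⟨d, hd, hda⟩ := sep a fun e => hane 0 (by simp [e])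
    have h1 := Tm_comm (forms_of_conj hM0 hg a' d hd) (hM0 c a (hca 0)) hcu
    set t := rf F₀ d (((g⁻¹ : GL ι F) : Matrix ι ι F) *ᵥ rv F₀ a)
    change Tm M (rf F₀ c) (t • u) at h1
    obtain ⟨i, hi⟩ : ∃ i, (t • u) i ∉ F₀ := by
      by_contra hh
      push Not at hh
      exact hga t⁻¹ (fun i => ⟨_, hh i⟩) (by
        show u = t⁻¹ • (t • u)
        rw [inv_smul_smul₀ hda])
    exact good_of_centre hM0 hn hc h1 hi
  push Not at hdep
  by_contra hno
  -- forms with a rational centre are rational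
  obtain ⟨a, -, hane⟩ := exists_avoid F₀ (![] : Fin 0 → (ι → F₀)) ![(0 : (ι → F₀))] (by omega)
  have ha : a ≠ 0 := fun e => hane 0 (by simp [e])
  have hrat : ∀ φ : Dual F (ι → F), Tm M φ (rv F₀ a) → ∃ c : (ι → F₀), c ⬝ᵥ a = 0 ∧ φ = rf F₀ c := by
    intro φ hφ
    have hval : ∀ i, φ (Pi.single i 1) ∈ F₀ := fun i => by
      by_contra hi
      refine hno (good_of_form hM0 hn (b := Pi.single i 1) ha hφ ?_)
      rwa [show rv F₀ (Pi.single i (1 : F₀)) = Pi.single i (1 : F) from funext fun k => by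
        simp [rv, Pi.single_apply, apply_ite Subtype.val]]
    refine ⟨fun i => ⟨_, hval i⟩, ?_, LinearMap.ext fun x => ?_⟩
    · have hphi : φ (rv F₀ a) = 0 := hφ.1
      apply Subtype.ext
      rw [← rf_rv]
      show _ = (0 : F)
      rw [← hphi, rf_apply]
      conv_rhs => rw [pi_eq_sum_univ' (rv F₀ a)]
      simp [mul_comm]
    · rw [rf_apply]
      conv_lhs => rw [pi_eq_sum_univ' x]
      simp [mul_comm]
  let ψ : (ι → F₀) →+ F :=
    { toFun := fun c => rf F₀ c u
      map_zero' := by simp [rf_apply]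
      map_add' := fun c c' => by simp [rf_apply, add_mul, Finset.sum_add_distrib] }
  let K : AddSubgroup (ι → F₀) :=
    { carrier := {c | c ⬝ᵥ a = 0}
      zero_mem' := zero_dotProduct a
      add_mem' := fun {c c'} h h' => by show (c + c') ⬝ᵥ a = 0; rw [add_dotProduct, h, h', add_zero]
      neg_mem' := fun {c} h => by show (-c) ⬝ᵥ a = 0; rw [neg_dotProduct, h, neg_zero] }
  let U := K.map ψ
  have hψ : Function.Injective ψ := (injective_iff_map_eq_zero ψ).2 fun c h => by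
    by_contra h0; exact hdep c h0 h
  let R : Subring F :=
    { carrier := {s | ∀ x ∈ U, s * x ∈ U}
      one_mem' := fun x hx => by rwa [one_mul]
      zero_mem' := fun x _ => by rw [zero_mul]; exact zero_mem U
      add_mem' := fun {s t} h h' x hx => by rw [add_mul]; exact add_mem (h x hx) (h' x hx)
      neg_mem' := fun {s} h x hx => by rw [neg_mul]; exact neg_mem (h x hx)
      mul_mem' := fun {s t} h h' x hx => by rw [mul_assoc]; exact h _ (h' x hx) }
  have hR0 : ∀ k ∈ F₀, k ∈ R := by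
    rintro k hk _ ⟨c, hc, rfl⟩
    refine ⟨(⟨k, hk⟩ : F₀) • c, ?_, ?_⟩
    · show _ ⬝ᵥ a = 0
      rw [smul_dotProduct, show c ⬝ᵥ a = 0 from hc, smul_zero]
    · show rf F₀ _ u = k * rf F₀ c u
      rw [rf_apply, rf_apply, Finset.mul_sum]
      exact Finset.sum_congr rfl fun i _ => by simp [mul_assoc]
  have hRF : ∀ s ∈ R, s ∈ F₀ := by
    intro s hs
    by_contra hs0
    have htop := subring_top F₀ hr hcard R hR0 hs hs0
    obtain ⟨c₁, -, hc₁⟩ := exists_dot F₀ (![] : Fin 0 → (ι → F₀)) (p := a) fun r e => ha (by simpa using e)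
    obtain ⟨c, hc, hcne⟩ := exists_avoid F₀ ![a] ![(0 : (ι → F₀))] (by omega)
    have hcK : c ∈ K := by show c ⬝ᵥ a = 0; rw [dotProduct_comm]; exact hc 0
    have hc0 : ψ c ≠ 0 := fun e => hcne 0 (by
      rw [hψ (e.trans (map_zero ψ).symm)]; simp)
    have hmem : ψ c₁ / ψ c * ψ c ∈ U :=
      (show ψ c₁ / ψ c ∈ R by rw [htop]; exact Subring.mem_top _) _ ⟨c, hcK, rfl⟩
    rw [div_mul_cancel₀ _ hc0] at hmem
    obtain ⟨c', hc', he⟩ := hmem
    rw [hψ he] at hc'
    change c₁ ⬝ᵥ a = 0 at hc'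
    rw [dotProduct_comm, hc₁] at hc'
    exact one_ne_zero hc'
  obtain ⟨d, hd, hda⟩ := sep a ha
  -- the group induced on the plane
  let av := rv F₀ a
  let Γ : Subgroup (GL (Fin 2) F) :=
    { carrier := {γ | ∃ X ∈ M, (X : Matrix ι ι F) *ᵥ av = (γ : Matrix (Fin 2) (Fin 2) F) 0 0 • av +
          (γ : Matrix (Fin 2) (Fin 2) F) 1 0 • u ∧
        (X : Matrix ι ι F) *ᵥ u = (γ : Matrix (Fin 2) (Fin 2) F) 0 1 • av +
          (γ : Matrix (Fin 2) (Fin 2) F) 1 1 • u}
      one_mem' := ⟨1, one_mem M, by simp, by simp⟩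
      mul_mem' := by
        rintro γ δ ⟨X, hX, ha1, hu1⟩ ⟨Y, hY, ha2, hu2⟩
        refine ⟨X * Y, mul_mem hX hY, ?_, ?_⟩ <;>
          rw [Units.val_mul, ← Matrix.mulVec_mulVec] <;>
          [rw [ha2]; rw [hu2]] <;>
          rw [Matrix.mulVec_add, Matrix.mulVec_smul, Matrix.mulVec_smul, ha1, hu1] <;>
          simp only [Units.val_mul, Matrix.mul_apply, Fin.sum_univ_two] <;> module
      inv_mem' := by
        intro γ hγ
        have : γ⁻¹ = γ ^ (orderOf γ - 1) := inv_eq_of_mul_eq_one_left (by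
          rw [← pow_succ, Nat.sub_add_cancel (orderOf_pos γ), pow_orderOf_eq_one])
        rw [this]
        generalize orderOf γ - 1 = k
        induction k with
        | zero => exact ⟨1, one_mem M, by simp, by simp⟩
        | succ k ih =>
          rw [pow_succ]
          obtain ⟨X, hX, ha1, hu1⟩ := ih
          obtain ⟨Y, hY, ha2, hu2⟩ := hγ
          refine ⟨X * Y, mul_mem hX hY, ?_, ?_⟩ <;>
            rw [Units.val_mul, ← Matrix.mulVec_mulVec] <;>
            [rw [ha2]; rw [hu2]] <;>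
            rw [Matrix.mulVec_add, Matrix.mulVec_smul, Matrix.mulVec_smul, ha1, hu1] <;>
            simp only [Units.val_mul, Matrix.mul_apply, Fin.sum_univ_two] <;> module }
  have hU : ∀ x ∈ U, ∃ γ ∈ Γ, (γ : Matrix (Fin 2) (Fin 2) F) = !![1, x; 0, 1] := by
    rintro _ ⟨c, hc, rfl⟩
    obtain ⟨h0, hm⟩ := hM0 c a hc
    refine ⟨Matrix.GeneralLinearGroup.mkOfDetNeZero !![1, ψ c; 0, 1] (by simp [Matrix.det_fin_two]),
      ⟨_, hm, ?_, ?_⟩, rfl⟩
    · rw [transGL_apply]
      simp [av, rf_rv0 F₀ (show c ⬝ᵥ a = 0 from hc)]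
    · rw [transGL_apply]
      simp [av, ψ]; module
  have hlow : ∃ γ ∈ Γ, (γ : Matrix (Fin 2) (Fin 2) F) 1 0 ≠ 0 := by
    obtain ⟨h0, hm⟩ := forms_of_conj hM0 hg a' d hd
    refine ⟨Matrix.GeneralLinearGroup.mkOfDetNeZero
      !![1, 0; rf F₀ d (((g⁻¹ : GL ι F) : Matrix ι ι F) *ᵥ av), 1] (by simp [Matrix.det_fin_two]),
      ⟨_, hm, ?_, ?_⟩, by simpa using hda⟩
    · rw [transGL_apply]
      simp [av, hu]
    · rw [transGL_apply]
      simp [hu, gl_inv_mulVec', -Matrix.coe_units_inv]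
      simp [LinearMap.comp_apply, gl_inv_mulVec', rf_rv0 F₀ hd, -Matrix.coe_units_inv]
  let S : Finset F := Finset.univ.filter fun s => s ∈ F₀
  have hS : ∀ γ ∈ Γ, (γ : Matrix (Fin 2) (Fin 2) F) 1 0 = 0 →
      (γ : Matrix (Fin 2) (Fin 2) F) 0 0 / (γ : Matrix (Fin 2) (Fin 2) F) 1 1 ∈ S := by
    rintro γ ⟨X, hX, hXa, hXu⟩ h10
    rw [h10, zero_smul, add_zero] at hXa
    set α := (γ : Matrix (Fin 2) (Fin 2) F) 0 0
    set β := (γ : Matrix (Fin 2) (Fin 2) F) 0 1
    set δ := (γ : Matrix (Fin 2) (Fin 2) F) 1 1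
    have hdet := γ.det_ne_zero
    rw [Matrix.det_fin_two, h10, mul_zero, sub_zero] at hdet
    have hα : α ≠ 0 := left_ne_zero_of_mul hdet
    have hδ : δ ≠ 0 := right_ne_zero_of_mul hdet
    simp only [S, Finset.mem_filter, Finset.mem_univ, true_and]
    refine hRF _ ?_
    rintro _ ⟨c, hc, rfl⟩
    have hca : rf F₀ c av = 0 := rf_rv0 F₀ hc
    have hinva : ((X⁻¹ : GL ι F) : Matrix ι ι F) *ᵥ av = α⁻¹ • av := by
      have := congrArg (fun z => α⁻¹ • (((X⁻¹ : GL ι F) : Matrix ι ι F) *ᵥ z)) hXa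
      simp only [gl_inv_mulVec', Matrix.mulVec_smul, inv_smul_smul₀ hα] at this
      exact this.symm
    have hinvu : rf F₀ c (((X⁻¹ : GL ι F) : Matrix ι ι F) *ᵥ u) = δ⁻¹ * rf F₀ c u := by
      have := congrArg (fun z => rf F₀ c (((X⁻¹ : GL ι F) : Matrix ι ι F) *ᵥ z)) hXu
      simp only [gl_inv_mulVec', Matrix.mulVec_add, Matrix.mulVec_smul, map_add, map_smul, hinva, hca, smul_zero,
        zero_add, smul_eq_mul, mul_zero] at this
      rw [this, ← mul_assoc, inv_mul_cancel₀ hδ, one_mul]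
    have h1 := (hM0 c a hc).conj hX
    rw [hXa] at h1
    have h2 := (Tm_shift (M := M) (c := α) (v := av) (by
      rw [LinearMap.comp_apply, Matrix.toLin'_apply, hinva, map_smul, hca, smul_zero])).2 h1
    obtain ⟨c', hc', he⟩ := hrat _ h2
    refine ⟨c', hc', ?_⟩
    show rf F₀ c' u = α / δ * rf F₀ c u
    rw [← he, LinearMap.smul_apply, LinearMap.comp_apply, Matrix.toLin'_apply, hinvu, smul_eq_mul]
    ring
  -- counting
  haveI : Fintype F₀ := Fintype.ofFinite _
  have hq : 2 ≤ Nat.card F₀ := Finite.one_lt_card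
  have hUbig : Nat.card F₀ ^ 12 ≤ Nat.card U := by
    obtain ⟨j', hj'⟩ : ∃ j', a j' ≠ 0 := Function.ne_iff.1 ha
    let emb : ({i : ι // i ≠ j'} → F₀) → (ι → F₀) := fun f i => if h : i = j' then
      -(∑ k : {i : ι // i ≠ j'}, f k * a k) / a j' else f ⟨i, h⟩
    have hemb : ∀ f, emb f ⬝ᵥ a = 0 := fun f => by
      have ek : ∀ k : {i : ι // i ≠ j'}, emb f k = f k := fun k => by simp [emb, k.2]
      have ej : emb f j' = -(∑ k : {i : ι // i ≠ j'}, f k * a k) / a j' := by simp [emb]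
      rw [dotProduct, ← Finset.add_sum_erase _ _ (Finset.mem_univ j'),
        Finset.sum_subtype (Finset.univ.erase j') (p := fun i => i ≠ j') (by simp)]
      simp only [ek, ej]
      rw [div_mul_cancel₀ _ hj', neg_add_cancel]
    have h1 : Nat.card ({i : ι // i ≠ j'} → F₀) ≤ Nat.card U :=
      Nat.card_le_card_of_injective (fun f => (⟨ψ (emb f), emb f, hemb f, rfl⟩ : U)) fun f f' h => by
        funext k
        have := congrFun (hψ (congrArg Subtype.val h)) k.1
        simpa [emb, dif_neg k.2] using this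
    rw [Nat.card_fun, Nat.card_eq_fintype_card (α := {i : ι // i ≠ j'}), Fintype.card_subtype_compl,
      Fintype.card_subtype_eq] at h1
    exact le_trans (Nat.pow_le_pow_right (by omega) (by omega)) h1
  have hScard : S.card = Nat.card F₀ := by
    rw [Nat.card_eq_fintype_card]
    exact (Fintype.card_subtype fun s : F => s ∈ F₀).symm.trans (Fintype.card_congr (Equiv.refl _))
  have h2 : 2 ^ 11 ≤ Nat.card F₀ ^ 11 := Nat.pow_le_pow_left hq _
  have hpow : Nat.card F₀ ^ 12 = Nat.card F₀ ^ 11 * Nat.card F₀ := pow_succ _ _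
  have := SubfieldPlane.mult_large Γ U hU hlow (by nlinarith) S hS
  rw [hScard] at this
  nlinarith

end Cfsg.Agent.Classical.SubfieldLin
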