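import Cfsg.Agent.Lib.Classical.SubfieldLin

/-!
Subfield groups in special linear groups: maximality.
-/

set_option autoImplicit false
set_option linter.unusedSectionVars false

open Module Matrix

namespace Cfsg.Agent.Classical.SubfieldLin

open MaxLin

variable {F : Type*} [Field F] [Fintype F] {ι : Type} [Fintype ι] [DecidableEq ι] {F₀ : Subfield F}
variable {M : Subgroup (GL ι F)}

theorem sl_le (hn : 13 ≤ Fintype.card ι) {r : ℕ} (hr : r.Prime) (hcard : Nat.card F = Nat.card F₀ ^ r)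
    (hM0 : ∀ c a : ι → F₀, c ⬝ᵥ a = 0 → Tm M (rf F₀ c) (rv F₀ a))
    (hg : ∃ g ∈ M, g ∉ Cfsg.Geo.subfieldSubgroup F₀ (1 : GL ι F)) : Cfsg.Geo.specialLinear ι F ≤ M := by
  classical
  obtain ⟨g, hg, hgK⟩ := hg
  obtain ⟨a', hga⟩ : ∃ a' : ι → F₀, ∀ (l : F) (b : ι → F₀),
      (g : Matrix ι ι F) *ᵥ rv F₀ a' ≠ l • rv F₀ b := by
    by_contra hc
    push Not at hc
    refine hgK (SubfieldMem.mem_of_rat_image F₀ 1 fun y hy => ?_)
    have hy' : ∀ i, y i ∈ F₀ := fun i => by
      have := hy i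
      rwa [inv_one, Units.val_one, Matrix.one_mulVec] at this
    obtain ⟨l, b, hb⟩ := hc fun i => ⟨y i, hy' i⟩
    exact ⟨l, rv F₀ b, fun i => by rw [inv_one, Units.val_one, Matrix.one_mulVec]; exact (b i).2, hb⟩
  obtain ⟨s, hs0, hs⟩ := exists_good hM0 hn hr hcard hg hga
  let R : Subring F :=
    { carrier := {s | Good M F₀ s}
      one_mem' := fun c a h => by rw [one_smul]; exact hM0 c a h
      zero_mem' := fun c a _ => by rw [zero_smul]; exact Tm.zero _
      add_mem' := fun {s t} h h' c a hca => by rw [add_smul]; exact (h c a hca).add (h' c a hca)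
      neg_mem' := fun {s} h c a hca => by
        have e : (-s) • rf F₀ c = -(s • rf F₀ c) := by ext x; simp
        rw [e]; exact (h c a hca).neg
      mul_mem' := fun {s t} h h' => good_mul hM0 hn h h' }
  have hR0 : ∀ k ∈ F₀, k ∈ R := fun k hk c a hca => by
    have := hM0 ((⟨k, hk⟩ : F₀) • c) a (by rw [smul_dotProduct, hca, smul_zero])
    rwa [show rf F₀ ((⟨k, hk⟩ : F₀) • c) = k • rf F₀ c from LinearMap.ext fun x => by
      rw [LinearMap.smul_apply, rf_apply, rf_apply, smul_eq_mul, Finset.mul_sum]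
      exact Finset.sum_congr rfl fun i _ => by simp [mul_assoc]] at this
  have htop := subring_top F₀ hr hcard R hR0 (show s ∈ R from hs) hs0
  haveI : Nontrivial ι := Fintype.one_lt_card_iff_nontrivial.1 (by omega)
  show (Matrix.GeneralLinearGroup.det : GL ι F →* Fˣ).ker ≤ M
  rw [← range_toGL, MonoidHom.range_eq_map, ← closure_transvection_eq_top, MonoidHom.map_closure, Subgroup.closure_le]
  rintro _ ⟨_, ⟨i, j, hij, c, rfl⟩, rfl⟩
  have hc : c ∈ R := by rw [htop]; exact Subring.mem_top c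
  obtain ⟨hf, hm⟩ := (hc : Good M F₀ c) (Pi.single j 1) (Pi.single i 1) (by simp [hij])
  have he : SpecialLinearGroup.toGL (SpecialLinearGroup.transvection hij c) =
      transGL (c • rf F₀ (Pi.single j 1)) (rv F₀ (Pi.single i 1)) hf := by
    refine gl_ext fun x => ?_
    rw [transGL_apply]
    have e := transvection_smul i j hij c x
    rw [SL_smul] at e
    refine e.trans ?_
    funext k
    simp [Pi.single_apply, rv, rf_apply, apply_ite Subtype.val]
  exact he ▸ hm

theorem subfield_maximal (hn : 13 ≤ Fintype.card ι) {r : ℕ} (hr : r.Prime)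
    (hcard : Nat.card F = Nat.card F₀ ^ r) (P : GL ι F) :
    Cfsg.Geo.IsMaximalIn (Cfsg.Geo.specialLinear ι F)
      (Cfsg.Geo.subfieldSubgroup F₀ P ⊓ Cfsg.Geo.specialLinear ι F) := by
  classical
  haveI : Nontrivial ι := Fintype.one_lt_card_iff_nontrivial.1 (by omega)
  have hnorm : ∀ x : GL ι F, x ∈ Cfsg.Geo.specialLinear ι F → ∀ y : GL ι F, y * x * y⁻¹ ∈ Cfsg.Geo.specialLinear ι F :=
    fun x hx y => MonoidHom.normal_ker _ |>.conj_mem x hx y
  have hiff : ∀ x : GL ι F, x ∈ Cfsg.Geo.subfieldSubgroup F₀ P ↔ P⁻¹ * x * P ∈ Cfsg.Geo.subfieldSubgroup F₀ 1 :=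
    fun x => by rw [SubfieldMem.mem_iff, SubfieldMem.mem_iff, inv_one, one_mul, mul_one]
  obtain ⟨i, j, hij⟩ := exists_pair_ne ι
  obtain ⟨s, hs⟩ : ∃ s : F, s ∉ F₀ := by
    by_contra hc
    push Not at hc
    have h1 : Nat.card F₀ = Nat.card F := Nat.card_congr
      { toFun := fun x => x.1, invFun := fun x => ⟨x, hc x⟩, left_inv := fun _ => rfl, right_inv := fun _ => rfl }
    rw [← h1] at hcard
    have h2 : 2 ≤ Nat.card F₀ := Finite.one_lt_card
    have := Nat.pow_lt_pow_right h2 hr.one_lt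
    rw [pow_one] at this
    omega
  refine isMaximalIn_specialLinear (fun hle => ?_) fun M h1 _ hne => ?_
  · have hf : (s • (LinearMap.proj j : Dual F (ι → F))) (Pi.single i 1) = 0 := by simp [hij.symm]
    set T := transGL (s • (LinearMap.proj j : Dual F (ι → F))) (Pi.single i 1) hf with hT
    have hmem : T ∈ Cfsg.Geo.subfieldSubgroup F₀ (1 : GL ι F) := by
      have := (hiff _).1 (hle (hnorm T (transGL_mem_sl _ _ hf) P))
      rwa [show P⁻¹ * (P * T * P⁻¹) * P = T by group] at this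
    obtain ⟨c, A, hc, hA, he⟩ := (SubfieldMem.mem_iff F₀ 1 T).1 hmem
    rw [inv_one, one_mul, mul_one] at he
    have hent : ∀ k l, (T : Matrix ι ι F) k l = c * (A : Matrix ι ι F) k l := fun k l => by rw [he]; rfl
    have hval : ∀ k l, (T : Matrix ι ι F) k l = (if k = l then 1 else 0) + (if l = j then s else 0) * (if k = i then 1 else 0) := by
      intro k l
      have := congrFun (transGL_apply (s • (LinearMap.proj j : Dual F (ι → F))) (Pi.single i 1) hf (Pi.single l 1)) k
      rw [Matrix.mulVec_single_one] at this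
      refine this.trans ?_
      by_cases h1 : l = j <;> by_cases h2 : k = i <;> simp [Pi.single_apply, h1, h2, eq_comm]
    have h1' : (1 : F) = c * (A : Matrix ι ι F) j j := by
      rw [← hent, hval]; simp [hij.symm]
    have h2' : s = c * (A : Matrix ι ι F) i j := by
      rw [← hent, hval]; simp [hij]
    have hcF : c⁻¹ ∈ F₀ := by
      rw [inv_eq_of_mul_eq_one_right h1'.symm]; exact hA j j
    exact hs (h2'.symm ▸ mul_mem (by simpa using inv_mem hcF) (hA i j))
  obtain ⟨g, hgM, hgK⟩ := hne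
  set M' := M.map (MulAut.conj P⁻¹).toMonoidHom with hM'
  have hmem' : ∀ x, x ∈ M' ↔ P * x * P⁻¹ ∈ M := fun x => by
    constructor
    · rintro ⟨y, hy, rfl⟩
      simp only [MulEquiv.coe_toMonoidHom, MulAut.conj_apply]
      rwa [show P * (P⁻¹ * y * P⁻¹⁻¹) * P⁻¹ = y by group]
    · intro h
      exact ⟨_, h, by simp only [MulEquiv.coe_toMonoidHom, MulAut.conj_apply]; group⟩
  have hM0 : ∀ c a : ι → F₀, c ⬝ᵥ a = 0 → Tm M' (rf F₀ c) (rv F₀ a) := fun c a hca => by
    refine ⟨rf_rv0 F₀ hca, (hmem' _).2 (h1 ⟨?_, hnorm _ (transGL_mem_sl _ _ _) P⟩)⟩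
    show _ ∈ Cfsg.Geo.subfieldSubgroup F₀ P
    rw [hiff,
      show P⁻¹ * (P * transGL (rf F₀ c) (rv F₀ a) (rf_rv0 F₀ hca) * P⁻¹) * P =
        transGL (rf F₀ c) (rv F₀ a) (rf_rv0 F₀ hca) by group, SubfieldMem.mem_iff]
    refine ⟨1, transGL (rf F₀ c) (rv F₀ a) (rf_rv0 F₀ hca), one_ne_zero, fun k l => ?_, by simp⟩
    have := congrFun (transGL_apply (rf F₀ c) (rv F₀ a) (rf_rv0 F₀ hca) (Pi.single l 1)) k
    rw [Matrix.mulVec_single_one] at this
    rw [show (transGL (rf F₀ c) (rv F₀ a) (rf_rv0 F₀ hca) : Matrix ι ι F) k l = _ from this]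
    simp only [Pi.add_apply, Pi.smul_apply, smul_eq_mul, rf_apply, rv, Pi.single_apply, mul_ite, mul_one, mul_zero,
      Finset.sum_ite_eq', Finset.mem_univ, if_true]
    exact add_mem (by split_ifs; exacts [one_mem _, zero_mem _]) (mul_mem (c l).2 (a k).2)
  have h := sl_le hn hr hcard hM0 ⟨P⁻¹ * g * P, (hmem' _).2 (by
    rw [show P * (P⁻¹ * g * P) * P⁻¹ = g by group]; exact hgM), fun h => hgK ((hiff g).2 h)⟩
  intro x hx
  have h2 := (hmem' (P⁻¹ * x * P)).1 (h (by simpa using hnorm x hx P⁻¹))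
  rwa [show P * (P⁻¹ * x * P) * P⁻¹ = x by group] at h2

end Cfsg.Agent.Classical.SubfieldLin
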