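import Cfsg.Agent.Lib.Classical.SubfieldLin
import Cfsg.Agent.Lib.Classical.MaxOrthSubspace
import Cfsg.Agent.Lib.Classical.MaxOrthSing

/-!
Rational quadratic spaces and Siegel transformations with rational centres.
-/

set_option autoImplicit false
set_option linter.unusedSectionVars false
set_option maxHeartbeats 1600000

open Module Matrix QuadraticMap

namespace Cfsg.Agent.Classical.SubfieldOrth

open SubfieldLin Refl Siegel MaxLin

variable {F : Type*} [Field F] [Fintype F] {ι : Type} [Fintype ι] [DecidableEq ι]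
variable {Q : QuadraticForm F (ι → F)} {F₀ : Subfield F}

local notation "V" => ι → F

theorem rv_smul (k : F₀) (a : ι → F₀) : rv F₀ (k • a) = (k : F) • rv F₀ a := funext fun i => by simp [rv]

theorem rv_add (a b : ι → F₀) : rv F₀ (a + b) = rv F₀ a + rv F₀ b := funext fun i => by simp [rv]

theorem rv_sub (a b : ι → F₀) : rv F₀ (a - b) = rv F₀ a - rv F₀ b := funext fun i => by simp [rv]

theorem rv_zero : rv F₀ (0 : ι → F₀) = 0 := funext fun i => by simp [rv]

theorem rv_single (i : ι) : rv F₀ (Pi.single i (1 : F₀)) = Pi.single i (1 : F) := funext fun k => by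
  simp [rv, Pi.single_apply, apply_ite Subtype.val]

/-- A rational quadratic space. -/
structure RQ (Q : QuadraticForm F (ι → F)) (F₀ : Subfield F) : Prop where
  nd : (polarBilin Q).Nondegenerate
  rat : ∀ a : ι → F₀, Q (rv F₀ a) ∈ F₀
  big : 13 ≤ Fintype.card ι

variable (hR : RQ Q F₀)

include hR

theorem pol (a b : ι → F₀) : polar Q (rv F₀ a) (rv F₀ b) ∈ F₀ := by
  rw [polar, ← rv_add]
  exact sub_mem (sub_mem (hR.rat _) (hR.rat _)) (hR.rat _)

/-- The restricted form. -/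
def Q₀ : QuadraticForm F₀ (ι → F₀) :=
  QuadraticMap.ofPolar (fun a => ⟨Q (rv F₀ a), hR.rat a⟩)
    (fun c a => Subtype.ext (by show Q (rv F₀ (c • a)) = _; rw [rv_smul, QuadraticMap.map_smul]; rfl))
    (fun x x' y => Subtype.ext (by
      show Q (rv F₀ (x + x' + y)) - Q (rv F₀ (x + x')) - Q (rv F₀ y) = polar Q (rv F₀ x) (rv F₀ y) + polar Q (rv F₀ x') (rv F₀ y)
      rw [rv_add, rv_add]
      exact polar_add_left Q _ _ _))
    (fun c x y => Subtype.ext (by
      show Q (rv F₀ (c • x + y)) - Q (rv F₀ (c • x)) - Q (rv F₀ y) = (c : F) * polar Q (rv F₀ x) (rv F₀ y)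
      rw [rv_add, rv_smul]
      exact polar_smul_left Q (c : F) _ _))

theorem Q₀_apply (a : ι → F₀) : ((Q₀ hR a : F₀) : F) = Q (rv F₀ a) := rfl

theorem polar₀ (a b : ι → F₀) : ((polar (Q₀ hR) a b : F₀) : F) = polar Q (rv F₀ a) (rv F₀ b) := by
  simp only [polar, AddSubgroupClass.coe_sub, Q₀_apply, rv_add]

theorem polar₀_zero {a b : ι → F₀} (h : polar (Q₀ hR) a b = 0) : polar Q (rv F₀ a) (rv F₀ b) = 0 := by
  rw [← polar₀ hR, h]; rfl

theorem eq_of_rat {x y : V} (h : ∀ a : ι → F₀, polar Q (rv F₀ a) x = polar Q (rv F₀ a) y) : x = y := by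
  have e : (polarBilin Q).flip x = (polarBilin Q).flip y := (Pi.basisFun F ι).ext fun i => by
    have := h (Pi.single i 1)
    rw [rv_single] at this
    simpa using this
  refine sub_eq_zero.1 (eq_zero_of Q hR.nd _ fun z => ?_)
  rw [polar_sub_right, sub_eq_zero]
  exact LinearMap.congr_fun e z

theorem nd₀ : (polarBilin (Q₀ hR)).Nondegenerate := by
  have key : ∀ x : ι → F₀, (∀ y, polar (Q₀ hR) y x = 0) → x = 0 := fun x hx => by
    by_contra h0
    exact rv_ne F₀ h0 (eq_of_rat hR fun a => by rw [polar₀_zero hR (hx a), polar_zero_right])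
  exact ⟨fun x hx => key x fun y => by rw [polar_comm]; exact hx y, fun x hx => key x hx⟩

theorem exists_rep (φ : Dual F₀ (ι → F₀)) : ∃ R, ∀ a, polar (Q₀ hR) a R = φ a := by
  have hinj : Function.Injective (polarBilin (Q₀ hR)) := (injective_iff_map_eq_zero _).2 fun x hx =>
    (nd₀ hR).1 x fun y => LinearMap.congr_fun hx y
  obtain ⟨R, hR'⟩ := (LinearMap.injective_iff_surjective_of_finrank_eq_finrank
    Subspace.dual_finrank_eq.symm).1 hinj φ
  exact ⟨R, fun a => by rw [polar_comm]; exact LinearMap.congr_fun hR' a⟩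

/-- A vector with rational products is rational. -/
theorem rat_of_pol {x : V} (h : ∀ a : ι → F₀, polar Q (rv F₀ a) x ∈ F₀) : ∃ R, x = rv F₀ R := by
  let φ : Dual F₀ (ι → F₀) :=
    { toFun := fun a => ⟨_, h a⟩
      map_add' := fun a b => Subtype.ext (by
        show polar Q (rv F₀ (a + b)) x = polar Q (rv F₀ a) x + polar Q (rv F₀ b) x
        rw [rv_add, polar_add_left])
      map_smul' := fun c a => Subtype.ext (by
        show polar Q (rv F₀ (c • a)) x = (c : F) * polar Q (rv F₀ a) x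
        rw [rv_smul, polar_smul_left, smul_eq_mul]) }
  obtain ⟨R, hR'⟩ := exists_rep hR φ
  exact ⟨R, eq_of_rat hR fun a => by rw [← polar₀ hR a R, hR' a]; rfl⟩

/-- A singular vector orthogonal to given vectors outside the span of others. -/
theorem avoid {m k : ℕ} (W : Fin m → ι → F₀) (A : Fin k → ι → F₀) (h : m + k ≤ 10) :
    ∃ c, c ≠ 0 ∧ Q (rv F₀ c) = 0 ∧ (∀ i, polar Q (rv F₀ c) (rv F₀ (W i)) = 0) ∧
      ∀ r : Fin k → F₀, c ≠ ∑ i, r i • A i := by
  haveI : Fintype F₀ := Fintype.ofFinite _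
  obtain ⟨ψ, hψ⟩ := MaxOrthSL.exists_avoid A
  obtain ⟨c, hc0, hc, hL⟩ := exists_zero_lin (Q₀ hR) (Fin.append (fun i => (polarBilin (Q₀ hR)).flip (W i)) ψ)
    (by have := hR.big; omega)
  refine ⟨c, hc0, by rw [← Q₀_apply hR, hc]; rfl, fun i => polar₀_zero hR ?_, fun r e => hc0 (hψ c ?_ fun i => ?_)⟩
  · have h3 := hL (Fin.castAdd k i)
    rwa [Fin.append_left] at h3
  · rw [e]; exact Submodule.sum_mem _ fun i _ => Submodule.smul_mem _ _ (Submodule.subset_span ⟨i, rfl⟩)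
  · have h3 := hL (Fin.natAdd m i)
    rwa [Fin.append_right] at h3

/-- A singular vector orthogonal to given vectors with product one with another. -/
theorem dual {m : ℕ} (W : Fin m → ι → F₀) (hm : m ≤ 3) {p : ι → F₀} (hp : ∀ r : Fin m → F₀, p ≠ ∑ i, r i • W i) :
    ∃ c, Q (rv F₀ c) = 0 ∧ (∀ i, polar Q (rv F₀ c) (rv F₀ (W i)) = 0) ∧ polar Q (rv F₀ c) (rv F₀ p) = 1 := by
  have vec : ∀ {j : ℕ} (U : Fin j → ι → F₀) {z : ι → F₀}, (∀ r : Fin j → F₀, z ≠ ∑ i, r i • U i) →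
      ∃ e, (∀ i, polar Q (rv F₀ e) (rv F₀ (U i)) = 0) ∧ polar Q (rv F₀ e) (rv F₀ z) = 1 := by
    intro j U z hz
    obtain ⟨a, ha, ha1⟩ := exists_dot (F₀ := F₀) U hz
    let φ : Dual F₀ (ι → F₀) := (dotProductBilin F₀ F₀).flip a
    obtain ⟨R, hR'⟩ := exists_rep hR φ
    refine ⟨R, fun i => ?_, ?_⟩
    · rw [polar_comm, ← polar₀ hR, hR']
      show ((U i ⬝ᵥ a : F₀) : F) = 0
      rw [ha i]; rfl
    · rw [polar_comm, ← polar₀ hR, hR']
      show ((z ⬝ᵥ a : F₀) : F) = 1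
      rw [ha1]; rfl
  obtain ⟨e, he, he1⟩ := vec W hp
  let W' : Fin (m + 2) → ι → F₀ := Fin.cons p (Fin.cons e W)
  obtain ⟨s, -, hs, hsW, hsne⟩ := avoid hR W' W' (by omega)
  obtain ⟨e2, he2, he2s⟩ := vec W' hsne
  have h2p : polar Q (rv F₀ e2) (rv F₀ p) = 0 := by simpa [W'] using he2 0
  have h2e : polar Q (rv F₀ e2) (rv F₀ e) = 0 := by simpa [W'] using he2 1
  have hsp : polar Q (rv F₀ s) (rv F₀ p) = 0 := by simpa [W'] using hsW 0
  have hse : polar Q (rv F₀ s) (rv F₀ e) = 0 := by simpa [W'] using hsW 1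
  set l : F₀ := ⟨-(Q (rv F₀ e) + Q (rv F₀ e2)), neg_mem (add_mem (hR.rat e) (hR.rat e2))⟩ with hl
  refine ⟨e + e2 + l • s, ?_, fun i => ?_, ?_⟩
  · rw [rv_add, rv_add, rv_smul, Q_add, Q_add, Q_smul, hs, polar_add_left, polar_smul_right, polar_smul_right,
      polar_comm (⇑Q) (rv F₀ e) (rv F₀ s), hse, he2s, polar_comm (⇑Q) (rv F₀ e) (rv F₀ e2), h2e]
    simp only [smul_eq_mul, hl]
    ring
  · have h1 := hsW i.succ.succ
    have h2 := he2 i.succ.succ
    simp only [W', Fin.cons_succ] at h1 h2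
    rw [rv_add, rv_add, rv_smul, polar_add_left, polar_add_left, polar_smul_left, he i, h1, h2]
    simp
  · rw [rv_add, rv_add, rv_smul, polar_add_left, polar_add_left, polar_smul_left, he1, hsp, h2p]
    simp

/-- Singular vectors orthogonal to few vectors span their orthogonal. -/
theorem span {m : ℕ} (W : Fin m → ι → F₀) (hm : m ≤ 2) (U : Submodule F₀ (ι → F₀))
    (hU : ∀ e, Q (rv F₀ e) = 0 → (∀ i, polar Q (rv F₀ e) (rv F₀ (W i)) = 0) → e ∈ U)
    {w : ι → F₀} (hw : ∀ i, polar Q (rv F₀ w) (rv F₀ (W i)) = 0) : w ∈ U := by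
  let W' : Fin (m + 1) → ι → F₀ := Fin.cons w W
  obtain ⟨s, -, hs, hsW, hsne⟩ := avoid hR W' W' (by omega)
  obtain ⟨g, hg, hgW, hgs⟩ := dual hR W' (by omega) hsne
  have hsw : polar Q (rv F₀ s) (rv F₀ w) = 0 := by simpa [W'] using hsW 0
  have hgw : polar Q (rv F₀ g) (rv F₀ w) = 0 := by simpa [W'] using hgW 0
  have hsW' : ∀ i, polar Q (rv F₀ s) (rv F₀ (W i)) = 0 := fun i => by simpa [W'] using hsW i.succ
  have hgW' : ∀ i, polar Q (rv F₀ g) (rv F₀ (W i)) = 0 := fun i => by simpa [W'] using hgW i.succ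
  set l : F₀ := ⟨-Q (rv F₀ w), neg_mem (hR.rat w)⟩ with hl
  have h1 : w + s + l • g ∈ U := hU _ (by
    rw [rv_add, rv_add, rv_smul, Q_add, Q_add, Q_smul, hs, hg, polar_add_left, polar_smul_right, polar_smul_right,
      polar_comm (⇑Q) (rv F₀ w) (rv F₀ s), hsw, polar_comm (⇑Q) (rv F₀ w) (rv F₀ g), hgw,
      polar_comm (⇑Q) (rv F₀ s) (rv F₀ g), hgs]
    simp only [smul_eq_mul, hl]
    ring) fun i => by
    rw [rv_add, rv_add, rv_smul, polar_add_left, polar_add_left, polar_smul_left, hw i, hsW' i, hgW' i]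
    simp
  have := U.sub_mem (U.sub_mem h1 (hU s hs hsW')) (U.smul_mem l (hU g hg hgW'))
  rwa [show w + s + l • g - s - l • g = w by abel] at this

end Cfsg.Agent.Classical.SubfieldOrth
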