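import Cfsg.Agent.Lib.Classical.SubfieldOrthMax
import Cfsg.Agent.Lib.Classical.SubfieldMem
import Cfsg.Agent.Lib.Classical.NotMaxOrth

/-!
Subfield subgroups of orthogonal commutator groups are maximal.
-/

set_option autoImplicit false
set_option linter.unusedSectionVars false
set_option maxHeartbeats 1600000

open Module Matrix QuadraticMap

namespace Cfsg.Agent.Classical.SubfieldOrth

open SubfieldLin Refl Siegel MaxLin

variable {F : Type*} [Field F] [Fintype F] {ι : Type} [Fintype ι] [DecidableEq ι]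
variable {Q : QuadraticForm F (ι → F)} {F₀ : Subfield F} {M : Subgroup (O Q)}

local notation "V" => ι → F

theorem rv_ne_smul {a e : ι → F₀} (h : ∀ k : F₀, e ≠ k • a) (ha : a ≠ 0) (l : F) : rv F₀ e ≠ l • rv F₀ a := by
  intro he
  obtain ⟨i, hi⟩ := Function.ne_iff.1 ha
  refine h (e i / a i) (funext fun j => Subtype.ext ?_)
  have h1 : ∀ j, (e j : F) = l * (a j : F) := fun j => congrFun he j
  have hi' : ((a i : F₀) : F) ≠ 0 := fun e0 => hi (Subtype.ext e0)
  show (e j : F) = (e i : F) / (a i : F) * (a j : F)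
  rw [h1 j, h1 i, mul_div_cancel_right₀ _ hi']

variable (hR : RQ Q F₀)

include hR

/-- An isometry respecting singular rational lines is rational up to a scalar. -/
theorem rigid (g : O Q) (h : ∀ a : ι → F₀, Q (rv F₀ a) = 0 → a ≠ 0 →
    ∃ (l : F) (e : ι → F₀), act Q g (rv F₀ a) = l • rv F₀ e) :
    ∃ l : F, l ≠ 0 ∧ l ^ 2 ∈ F₀ ∧ ∀ y : ι → F₀, ∃ d : ι → F₀, act Q g (rv F₀ y) = l • rv F₀ d := by
  obtain ⟨a₀, ha₀0, ha₀, -, -⟩ := avoid hR (![] : Fin 0 → ι → F₀) (![] : Fin 0 → ι → F₀) (by norm_num)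
  obtain ⟨l₀, e₀, he₀⟩ := h a₀ ha₀ ha₀0
  have hinj : ∀ x : V, act Q g x = 0 → x = 0 := fun x hx => by
    rw [← act_inv' Q g x, hx]; exact Matrix.mulVec_zero _
  have hl₀ : l₀ ≠ 0 := fun e => rv_ne F₀ ha₀0 (hinj _ (by rw [he₀, e, zero_smul]))
  have pair : ∀ a c : ι → F₀, ∀ (l m : F) (e d : ι → F₀), act Q g (rv F₀ a) = l • rv F₀ e →
      act Q g (rv F₀ c) = m • rv F₀ d → polar Q (rv F₀ c) (rv F₀ a) ≠ 0 → l * m ∈ F₀ ∧ m ≠ 0 := by
    intro a c l m e d he hd hne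
    have h1 := polar_act Q g (rv F₀ c) (rv F₀ a)
    rw [he, hd, polar_smul_left, polar_smul_right, smul_eq_mul, smul_eq_mul] at h1
    have hd0 : polar Q (rv F₀ d) (rv F₀ e) ≠ 0 := fun e0 => hne (by rw [← h1, e0, mul_zero, mul_zero])
    refine ⟨?_, fun e0 => hne (by rw [← h1, e0, zero_mul])⟩
    rw [show l * m = polar Q (rv F₀ c) (rv F₀ a) / polar Q (rv F₀ d) (rv F₀ e) by
      rw [eq_div_iff hd0]; linear_combination h1]
    exact div_mem (pol hR _ _) (pol hR _ _)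
  let W : Submodule F₀ (ι → F₀) :=
    { carrier := {y | ∃ d : ι → F₀, act Q g (rv F₀ y) = l₀ • rv F₀ d}
      zero_mem' := ⟨0, by rw [rv_zero, smul_zero]; exact Matrix.mulVec_zero _⟩
      add_mem' := fun {x y} hx hy => by
        obtain ⟨d, hd⟩ := hx
        obtain ⟨d', hd'⟩ := hy
        exact ⟨d + d', by rw [rv_add, rv_add, act_add, hd, hd', smul_add]⟩
      smul_mem' := fun c x hx => by
        obtain ⟨d, hd⟩ := hx
        exact ⟨c • d, by rw [rv_smul, rv_smul, act_smul, hd, smul_comm]⟩ }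
  have hsing : ∀ a : ι → F₀, Q (rv F₀ a) = 0 → a ∈ W := by
    intro a ha
    by_cases hdep : ∃ k : F₀, a = k • a₀
    · obtain ⟨k, rfl⟩ := hdep
      exact W.smul_mem _ ⟨e₀, he₀⟩
    push Not at hdep
    have ha0 : a ≠ 0 := fun e => hdep 0 (by rw [e, zero_smul])
    obtain ⟨c, hc, hcW, hca⟩ := dual hR ![a - a₀] (by norm_num) (p := a₀) fun r e => by
      simp only [Fin.sum_univ_one, Matrix.cons_val_fin_one] at e
      rcases eq_or_ne (r 0) 0 with h0 | h0
      · exact ha₀0 (by rw [e, h0, zero_smul])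
      · refine hdep ((r 0)⁻¹ * (1 + r 0)) ?_
        rw [mul_smul, add_smul, one_smul]
        nth_rewrite 1 [e]
        rw [smul_sub, sub_add_cancel, inv_smul_smul₀ h0]
    have hca' : polar Q (rv F₀ c) (rv F₀ a) = 1 := by
      have h1 : polar Q (rv F₀ c) (rv F₀ (a - a₀)) = 0 := hcW 0
      rwa [rv_sub, polar_sub_right, hca, sub_eq_zero] at h1
    have hc0 : c ≠ 0 := fun e => by rw [e, rv_zero, polar_zero_left] at hca; exact zero_ne_one hca
    obtain ⟨l, e, he⟩ := h a ha ha0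
    obtain ⟨m, d, hd⟩ := h c hc hc0
    obtain ⟨h1, hm⟩ := pair a c l m e d he hd (by rw [hca']; exact one_ne_zero)
    obtain ⟨h2, -⟩ := pair a₀ c l₀ m e₀ d he₀ hd (by rw [hca]; exact one_ne_zero)
    have hq : l / l₀ ∈ F₀ := by
      rw [← mul_div_mul_right l l₀ hm]; exact div_mem h1 h2
    refine ⟨(⟨_, hq⟩ : F₀) • e, ?_⟩
    rw [he, rv_smul, smul_smul, mul_div_cancel₀ _ hl₀]
  refine ⟨l₀, hl₀, ?_, fun y => span hR (![] : Fin 0 → ι → F₀) (by norm_num) W (fun e he _ => hsing e he) (w := y)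
    fun i => i.elim0⟩
  obtain ⟨c, hc, -, hca⟩ := dual hR (![] : Fin 0 → ι → F₀) (by norm_num) (p := a₀) fun r e => ha₀0 (by simpa using e)
  obtain ⟨d, hd⟩ := hsing c hc
  rw [pow_two]
  exact (pair a₀ c l₀ l₀ e₀ d he₀ hd (by rw [hca]; exact one_ne_zero)).1

variable (hD : Data M F₀)

include hD

/-- An element outside the subfield group gives a suitable root element. -/
theorem exists_start {g : O Q} (hg : g ∈ M) {a' : ι → F₀} (ha' : Q (rv F₀ a') = 0) (ha'0 : a' ≠ 0)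
    (hirr : ∀ (l : F) (e : ι → F₀), act Q g (rv F₀ a') ≠ l • rv F₀ e) :
    ∃ (X : O Q) (a : ι → F₀), X ∈ M ∧ Q (rv F₀ a) = 0 ∧ a ≠ 0 ∧ polar Q (act Q X (rv F₀ a)) (rv F₀ a) = 0 ∧
      act Q X (act Q X (rv F₀ a) - rv F₀ a) = act Q X (rv F₀ a) - rv F₀ a ∧
      ∀ (l : F) (e : ι → F₀), act Q X (rv F₀ a) ≠ l • rv F₀ e := by
  classical
  by_contra hno
  set u := act Q g (rv F₀ a') with hu
  have symm : ∀ {p q : V}, polar Q p q = 0 → polar Q q p = 0 := fun h => by rw [polar_comm]; exact h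
  -- the image planes are rational
  have plane : ∀ e' : ι → F₀, Q (rv F₀ e') = 0 → polar Q (rv F₀ e') (rv F₀ a') = 0 → (∀ k : F₀, e' ≠ k • a') →
      ∃ r1 r2 : ι → F₀, (∃ x y : F, u = x • rv F₀ r1 + y • rv F₀ r2) ∧
        (∃ x y : F, rv F₀ r1 = x • u + y • act Q g (rv F₀ e')) ∧
        (∃ x y : F, rv F₀ r2 = x • u + y • act Q g (rv F₀ e')) := by
    intro e' he' he'a hind
    obtain ⟨h1, h2, hm⟩ := hD a' e' ha' (symm he'a)
    obtain ⟨h1', h2', hconj⟩ := sO_conj g _ _ h1 h2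
    have hm' := mul_mem (mul_mem hg hm) (inv_mem hg)
    rw [← hconj] at hm'
    set w := act Q g (rv F₀ e') with hw
    have huw : polar Q u w = 0 := h2'
    have huu : Q u = 0 := h1'
    have hww : Q w = 0 := by rw [hw, Q_act, he']
    set X := sO Q u w h1' h2' with hX
    have hXx : ∀ x : V, act Q X x = x + polar Q x u • w - polar Q x w • u := fun x => by
      rw [hX, act_sO, hww]; simp
    have hXu : act Q X u = u := by rw [hXx, polar_diag, huu, huw]; simp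
    have hXw : act Q X w = w := by rw [hXx, symm huw, polar_diag, hww]; simp
    have hXX : ∀ x : V, act Q X (act Q X x - x) = act Q X x - x := fun x => by
      rw [show act Q X x - x = polar Q x u • w + (-polar Q x w) • u by rw [hXx]; module, act_add, act_smul, act_smul,
        hXu, hXw]
    have hrat : ∀ a : ι → F₀, Q (rv F₀ a) = 0 → a ≠ 0 → ∃ (l : F) (e : ι → F₀), act Q X (rv F₀ a) = l • rv F₀ e := by
      intro a ha ha0
      by_contra hc
      push Not at hc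
      refine hno ⟨X, a, hm', ha, ha0, ?_, hXX _, hc⟩
      rw [hXx, polar_sub_left, polar_add_left, polar_smul_left, polar_smul_left, polar_diag, ha,
        polar_comm (⇑Q) w, polar_comm (⇑Q) u]
      simp only [smul_eq_mul]
      ring
    obtain ⟨l, hl, hl2, hall⟩ := rigid hR X hrat
    have hl1 : l ∈ F₀ := by
      by_contra hl1
      obtain ⟨b, hb0, hb, -, -⟩ := avoid hR (![] : Fin 0 → ι → F₀) (![] : Fin 0 → ι → F₀) (by norm_num)
      obtain ⟨b1, hb1⟩ := hall b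
      obtain ⟨b2, hb2⟩ := hall b1
      have h := hXX (rv F₀ b)
      rw [act_sub, hb1, act_smul, hb2] at h
      have hb10 : rv F₀ b1 ≠ 0 := fun e => rv_ne F₀ hb0 (by
        rw [← act_inv' Q X (rv F₀ b), hb1, e, smul_zero]; exact Matrix.mulVec_zero _)
      by_cases h20 : (2 : F) = 0
      · exact hl1 (mem_of_sq h20 hl2)
      refine hb10 (funext fun i => ?_)
      by_contra hi
      apply hl1
      have h3 := congrFun h i
      simp only [Pi.sub_apply, Pi.smul_apply, smul_eq_mul, rv] at h3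
      have hne : (2 : F) * (b1 i : F) ≠ 0 := mul_ne_zero h20 hi
      rw [show l = (l ^ 2 * (b2 i : F) + (b i : F)) / (2 * (b1 i : F)) by
        rw [eq_div_iff hne]; linear_combination -h3]
      exact div_mem (add_mem (mul_mem hl2 (b2 i).2) (b i).2) (mul_mem (ofNat_mem F₀ 2) (b1 i).2)
    have hΦ : ∀ y : ι → F₀, ∃ r : ι → F₀,
        rv F₀ r = polar Q (rv F₀ y) u • w - polar Q (rv F₀ y) w • u := fun y => by
      obtain ⟨d, hd⟩ := hall y
      refine ⟨(⟨l, hl1⟩ : F₀) • d - y, ?_⟩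
      rw [rv_sub, rv_smul]
      show l • rv F₀ d - rv F₀ y = _
      rw [← hd, hXx]
      module
    obtain ⟨y1, y2, hdet⟩ : ∃ y1 y2 : ι → F₀, polar Q (rv F₀ y1) u * polar Q (rv F₀ y2) w -
        polar Q (rv F₀ y1) w * polar Q (rv F₀ y2) u ≠ 0 := by
      by_contra hc
      push Not at hc
      obtain ⟨y1, hy1⟩ : ∃ y1 : ι → F₀, polar Q (rv F₀ y1) u ≠ 0 := by
        by_contra hc'
        push Not at hc'
        exact hirr 0 0 (by rw [zero_smul]; exact eq_of_rat hR fun a => by rw [hc' a, polar_zero_right])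
      have he : polar Q (rv F₀ y1) u • w = polar Q (rv F₀ y1) w • u := eq_of_rat hR fun a => by
        rw [polar_smul_right, polar_smul_right, smul_eq_mul, smul_eq_mul]
        linear_combination hc y1 a
      refine rv_ne_smul hind ha'0 ((polar Q (rv F₀ y1) w) / polar Q (rv F₀ y1) u) ?_
      have h3 := congrArg (act Q g⁻¹) he
      rw [act_smul, act_smul, hw, hu, act_inv', act_inv'] at h3
      rw [div_eq_inv_mul, mul_smul, ← h3, inv_smul_smul₀ hy1]
    obtain ⟨r1, hr1⟩ := hΦ y1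
    obtain ⟨r2, hr2⟩ := hΦ y2
    refine ⟨r1, r2, ⟨polar Q (rv F₀ y2) u / -(polar Q (rv F₀ y1) u * polar Q (rv F₀ y2) w -
        polar Q (rv F₀ y1) w * polar Q (rv F₀ y2) u) * -1, polar Q (rv F₀ y1) u / -(polar Q (rv F₀ y1) u *
        polar Q (rv F₀ y2) w - polar Q (rv F₀ y1) w * polar Q (rv F₀ y2) u), ?_⟩,
      ⟨-polar Q (rv F₀ y1) w, polar Q (rv F₀ y1) u, by rw [hr1]; module⟩,
      ⟨-polar Q (rv F₀ y2) w, polar Q (rv F₀ y2) u, by rw [hr2]; module⟩⟩
    rw [hr1, hr2]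
    generalize polar Q (rv F₀ y1) u = A, polar Q (rv F₀ y1) w = B, polar Q (rv F₀ y2) u = C,
      polar Q (rv F₀ y2) w = D at hdet ⊢
    have hD' : -(A * D - B * C) ≠ 0 := neg_ne_zero.2 hdet
    match_scalars
    · rw [div_mul_eq_mul_div, div_mul_eq_mul_div, div_mul_eq_mul_div, ← add_div, eq_div_iff hD']; ring
    · rw [div_mul_eq_mul_div, div_mul_eq_mul_div, div_mul_eq_mul_div, ← add_div, eq_comm, div_eq_zero_iff]
      left; ring
  obtain ⟨e', -, he', he'W, he'ne⟩ := avoid hR ![a'] ![a'] (by norm_num)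
  obtain ⟨e'', -, he'', he''W, he''ne⟩ := avoid hR ![a'] ![a', e'] (by norm_num)
  obtain ⟨r1, r2, ⟨x, y, hur⟩, ⟨x1, y1, hr1⟩, ⟨x2, y2, hr2⟩⟩ :=
    plane e' he' (he'W 0) fun k e => he'ne ![k] (by simp [e])
  obtain ⟨s1, s2, ⟨x', y', hus⟩, ⟨p1, q1, hs1⟩, ⟨p2, q2, hs2⟩⟩ :=
    plane e'' he'' (he''W 0) fun k e => he''ne ![k, 0] (by simp [Fin.sum_univ_two, e])
  set w := act Q g (rv F₀ e')
  set w' := act Q g (rv F₀ e'')
  -- some vector of the second plane is outside the first one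
  obtain ⟨c, hc, hc1⟩ := exists_dot (F₀ := F₀) ![a', e'] he''ne
  let φ : Dual F V := (rf F₀ c).comp (Matrix.toLin' (((g⁻¹ : O Q) : GL ι F) : Matrix ι ι F))
  have hφ : ∀ v : ι → F₀, φ (act Q g (rv F₀ v)) = ((c ⬝ᵥ v : F₀) : F) := fun v => by
    show rf F₀ c (Matrix.toLin' (((g⁻¹ : O Q) : GL ι F) : Matrix ι ι F) (act Q g (rv F₀ v))) = _
    rw [Matrix.toLin'_apply, show (((g⁻¹ : O Q) : GL ι F) : Matrix ι ι F) *ᵥ (act Q g (rv F₀ v)) = rv F₀ v from
      act_inv' Q g _, rf_rv]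
  have hφu : φ u = 0 := by rw [hu, hφ, dotProduct_comm, show a' ⬝ᵥ c = 0 from hc 0]; rfl
  have hφw : φ w = 0 := by rw [hφ, dotProduct_comm, show e' ⬝ᵥ c = 0 from hc 1]; rfl
  have hφw' : φ w' = 1 := by rw [hφ, dotProduct_comm, hc1]; rfl
  have key : ∀ s t : ι → F₀, ∀ i j : F, u = i • rv F₀ s + j • rv F₀ t →
      (∀ k : Fin 2 → F₀, s ≠ ∑ m, k m • ![r1, r2] m) → False := by
    intro s t i j hu' hs
    obtain ⟨d, hd, hd1⟩ := exists_dot (F₀ := F₀) ![r1, r2] hs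
    have hd' : ∀ v : ι → F₀, rf F₀ d (rv F₀ v) = ((v ⬝ᵥ d : F₀) : F) := fun v => by rw [rf_rv, dotProduct_comm]
    have h0 : rf F₀ d u = 0 := by
      rw [hur, map_add, map_smul, map_smul, hd', hd', show r1 ⬝ᵥ d = 0 from hd 0, show r2 ⬝ᵥ d = 0 from hd 1]
      simp
    rw [hu', map_add, map_smul, map_smul, hd', hd', hd1] at h0
    simp only [OneMemClass.coe_one, smul_eq_mul, mul_one] at h0
    refine hirr j (t - (t ⬝ᵥ d) • s) ?_
    rw [hu', rv_sub, rv_smul, eq_neg_of_add_eq_zero_left h0]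
    module
  by_cases hs1' : ∀ k : Fin 2 → F₀, s1 ≠ ∑ m, k m • ![r1, r2] m
  · exact key s1 s2 x' y' hus hs1'
  by_cases hs2' : ∀ k : Fin 2 → F₀, s2 ≠ ∑ m, k m • ![r1, r2] m
  · exact key s2 s1 y' x' (by rw [hus, add_comm]) hs2'
  push Not at hs1' hs2'
  obtain ⟨k, hk⟩ := hs1'
  obtain ⟨k', hk'⟩ := hs2'
  have hz : ∀ k : Fin 2 → F₀, φ (rv F₀ (∑ m, k m • ![r1, r2] m)) = 0 := fun k => by
    simp [Fin.sum_univ_two, rv_add, rv_smul, hr1, hr2, hφu, hφw]
  have hz1 : φ (rv F₀ s1) = 0 := hk ▸ hz k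
  have hz2 : φ (rv F₀ s2) = 0 := hk' ▸ hz k'
  simp only [hs1, hs2, map_add, map_smul, hφu, hφw', smul_eq_mul, mul_zero, zero_add, mul_one] at hz1 hz2
  rw [hz1, zero_smul, add_zero] at hs1
  rw [hz2, zero_smul, add_zero] at hs2
  rcases eq_or_ne p1 0 with h1 | h1
  swap
  · exact hirr p1⁻¹ s1 (by rw [hs1, inv_smul_smul₀ h1])
  rcases eq_or_ne p2 0 with h2 | h2
  swap
  · exact hirr p2⁻¹ s2 (by rw [hs2, inv_smul_smul₀ h2])
  refine hirr 0 0 ?_
  rw [hus, hs1, hs2, h1, h2]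
  simp

omit hD in
/-- The standard maximality. -/
theorem subfield_maximal₁ {r : ℕ} (hr : r.Prime) (hcard : Nat.card F = Nat.card F₀ ^ r) :
    Cfsg.Geo.IsMaximalIn (Cfsg.Geo.omegaGL (⇑Q))
      (Cfsg.Geo.subfieldSubgroup F₀ 1 ⊓ Cfsg.Geo.omegaGL (⇑Q)) := by
  classical
  have hn : 7 ≤ Fintype.card ι := by have := hR.big; omega
  have hq : ∀ (z : ι → F₀) (y : V), y = rv F₀ z → SubfieldMem.Rat' F₀ (1 : GL ι F) y := fun z y e i => by
    rw [inv_one, Units.val_one, Matrix.one_mulVec, e]; exact (z i).2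
  have hq' : ∀ y : V, SubfieldMem.Rat' F₀ (1 : GL ι F) y → ∃ z : ι → F₀, y = rv F₀ z := fun y hy => by
    refine ⟨fun i => ⟨y i, ?_⟩, rfl⟩
    have := hy i
    rwa [inv_one, Units.val_one, Matrix.one_mulVec] at this
  have hsO : ∀ (a b : ι → F₀) (ha : Q (rv F₀ a) = 0) (hab : polar Q (rv F₀ a) (rv F₀ b) = 0),
      (sO Q (rv F₀ a) (rv F₀ b) ha hab : GL ι F) ∈ Cfsg.Geo.subfieldSubgroup F₀ 1 ⊓ Cfsg.Geo.omegaGL (⇑Q) := by
    intro a b ha hab
    refine ⟨(SubfieldMem.mem_iff F₀ 1 _).2 ⟨1, (sO Q (rv F₀ a) (rv F₀ b) ha hab : GL ι F), one_ne_zero,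
      fun i j => ?_, by rw [inv_one, one_mul, mul_one, one_smul]⟩,
      NotMax.mem_omegaGL _ (sO_mem_commutator Q hR.nd hn _ _ ha hab)⟩
    have h := congrFun (act_sO Q (rv F₀ a) (rv F₀ b) ha hab (rv F₀ (Pi.single j 1))) i
    rw [act, rv_single, Matrix.mulVec_single_one] at h
    refine (show ((sO Q (rv F₀ a) (rv F₀ b) ha hab : GL ι F) : Matrix ι ι F) i j = _ from h) ▸ ?_
    rw [← rv_single (F₀ := F₀)]
    simp only [Pi.add_apply, Pi.sub_apply, Pi.smul_apply, smul_eq_mul]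
    exact sub_mem (add_mem (Subtype.property _) (mul_mem (pol hR _ _) (b i).2))
      (mul_mem (add_mem (pol hR _ _) (mul_mem (hR.rat b) (pol hR _ _))) (a i).2)
  obtain ⟨s, hs⟩ : ∃ s : F, s ∉ F₀ := by
    by_contra hc
    push Not at hc
    have h1 : Nat.card F₀ = Nat.card F := Nat.card_congr
      { toFun := fun x => x.1, invFun := fun x => ⟨x, hc x⟩, left_inv := fun _ => rfl, right_inv := fun _ => rfl }
    rw [← h1] at hcard
    have h2 : 2 ≤ Nat.card F₀ := Finite.one_lt_card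
    have := Nat.pow_lt_pow_right h2 hr.one_lt
    rw [pow_one] at this
    omega
  refine ⟨lt_of_le_of_ne inf_le_right fun e => hs ?_, fun M h1 h2 => ?_⟩
  · obtain ⟨a, ha0, ha, -, -⟩ := avoid hR (![] : Fin 0 → ι → F₀) (![] : Fin 0 → ι → F₀) (by norm_num)
    obtain ⟨c, -, hc, hcW, hcne⟩ := avoid hR ![a] ![a] (by norm_num)
    have hca : polar Q (rv F₀ c) (rv F₀ a) = 0 := hcW 0
    obtain ⟨b, -, hbW, hba⟩ := dual hR ![c] (by norm_num) (p := a) fun r e => by
      rcases eq_or_ne (r 0) 0 with h | h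
      · exact ha0 (by simpa [h] using e)
      · exact hcne ![(r 0)⁻¹] (by simp [e, h])
    obtain ⟨f, -, hfW, hfc⟩ := dual hR ![a] (by norm_num) hcne
    have hac : polar Q (rv F₀ a) (s • rv F₀ c) = 0 := by
      rw [polar_smul_right, polar_comm, hca, smul_zero]
    set Y := sO Q (rv F₀ a) (s • rv F₀ c) ha hac with hY
    have hYK := (e.ge (NotMax.mem_omegaGL _ (sO_mem_commutator Q hR.nd hn _ _ ha hac))).1
    obtain ⟨l, y, hy, hl⟩ := SubfieldMem.rat_image F₀ 1 hYK (hq b _ rfl)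
    obtain ⟨d, rfl⟩ := hq' y hy
    change act Q Y (rv F₀ b) = _ at hl
    rw [hY, act_sO, hba, polar_smul_right, show polar Q (rv F₀ b) (rv F₀ c) = 0 from hbW 0, Q_smul, hc] at hl
    simp only [smul_zero, mul_zero, zero_mul, add_zero, zero_smul, sub_zero, one_smul] at hl
    have h1 := congrArg (fun x => polar Q x (rv F₀ a)) hl
    simp only [polar_add_left, polar_smul_left, hba, hca, mul_zero, add_zero, smul_eq_mul] at h1
    have hd0 : polar Q (rv F₀ d) (rv F₀ a) ≠ 0 := fun e0 => by rw [e0, mul_zero] at h1; exact one_ne_zero h1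
    have hl0 : l ∈ F₀ := by
      rw [show l = 1 / polar Q (rv F₀ d) (rv F₀ a) by rw [eq_div_iff hd0]; exact h1.symm]
      exact div_mem (one_mem _) (pol hR _ _)
    have h3 := congrArg (fun x => polar Q x (rv F₀ f)) hl
    simp only [polar_add_left, polar_smul_left, polar_comm (⇑Q) (rv F₀ c) (rv F₀ f), hfc, smul_eq_mul, mul_one] at h3
    rw [show s = l * polar Q (rv F₀ d) (rv F₀ f) - polar Q (rv F₀ b) (rv F₀ f) by linear_combination h3]
    exact sub_mem (mul_mem hl0 (pol hR _ _)) (pol hR _ _)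
  by_cases hne : ∀ g ∈ M, g ∈ Cfsg.Geo.subfieldSubgroup F₀ (1 : GL ι F)
  · exact Or.inl (le_antisymm (le_inf hne h2) h1)
  right
  push Not at hne
  obtain ⟨_, hgM, hgS⟩ := hne
  obtain ⟨g, -, rfl⟩ := h2 hgM
  set M' := M.comap (Cfsg.isometryGroup F (⇑Q)).subtype with hM'
  have hD : Data M' F₀ := fun a b ha hab => ⟨ha, hab, h1 (hsO a b ha hab)⟩
  obtain ⟨a', ha', ha'0, hga⟩ : ∃ a' : ι → F₀, Q (rv F₀ a') = 0 ∧ a' ≠ 0 ∧
      ∀ (l : F) (e : ι → F₀), act Q g (rv F₀ a') ≠ l • rv F₀ e := by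
    by_contra hc
    push Not at hc
    obtain ⟨l, -, -, hall⟩ := rigid hR g hc
    refine hgS (SubfieldMem.mem_of_rat_image F₀ 1 fun y hy => ?_)
    obtain ⟨z, rfl⟩ := hq' y hy
    obtain ⟨d, hd⟩ := hall z
    exact ⟨l, rv F₀ d, hq d _ rfl, hd⟩
  obtain ⟨X, a, hX, ha, ha0, hXa, hXp, hirr⟩ := exists_start hR hD hgM ha' ha'0 hga
  obtain ⟨a₁, t, ha₁, ha₁0, hRs, ht⟩ := exists_good hR hD hr hcard hX ha ha0 hXa hXp hirr
  obtain ⟨c, hc, -, hca⟩ := dual hR (![] : Fin 0 → ι → F₀) (by norm_num) (p := a₁) fun r e => ha₁0 (by simpa using e)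
  have hc0 : c ≠ 0 := fun e => by rw [e, rv_zero, polar_zero_left] at hca; exact zero_ne_one hca
  have hall := scen_all Q hR.nd hn (scen_rat hR hD hr hcard ha₁ ha₁0 hRs ht ha₁ ha₁0)
    (scen_rat hR hD hr hcard ha₁ ha₁0 hRs ht hc hc0) (by rw [polar_comm, hca]; exact one_ne_zero)
  refine le_antisymm h2 ?_
  rintro _ ⟨k, hk, rfl⟩
  exact E_le Q hR.nd hn hall hk

omit hR hD in
theorem mem_omega_conj (Q : QuadraticForm F (ι → F)) {Q' : (ι → F) → F} (A : GL ι F)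
    (h : ∀ x, Q' ((A : Matrix ι ι F) *ᵥ x) = Q x) {g : GL ι F} (hg : g ∈ Cfsg.Geo.omegaGL (⇑Q)) :
    A * g * A⁻¹ ∈ Cfsg.Geo.omegaGL Q' := by
  obtain ⟨k, hk, rfl⟩ := hg
  let ψ : O Q →* Cfsg.isometryGroup F Q' :=
    { toFun := fun k => ⟨A * (k : GL ι F) * A⁻¹, fun x _ => by
        show Q' (((A * (k : GL ι F) * A⁻¹ : GL ι F) : Matrix ι ι F) *ᵥ x) = Q' x
        rw [Units.val_mul, Units.val_mul, ← Matrix.mulVec_mulVec, ← Matrix.mulVec_mulVec, h]
        show Q (act Q k _) = _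
        rw [Q_act, ← h, gl_inv_mulVec]⟩
      map_one' := Subtype.ext (by simp)
      map_mul' := fun k k' => Subtype.ext (by
        show A * ((k : GL ι F) * k') * A⁻¹ = A * (k : GL ι F) * A⁻¹ * (A * (k' : GL ι F) * A⁻¹)
        group) }
  refine ⟨ψ k, ?_, rfl⟩
  have h1 : (commutator (O Q)).map ψ ≤ commutator (Cfsg.isometryGroup F Q') := by
    rw [commutator_def, commutator_def, Subgroup.map_commutator]
    exact Subgroup.commutator_mono le_top le_top
  exact h1 ⟨k, hk, rfl⟩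

omit hR hD in
/-- Subfield subgroups for an arbitrary basis and scalar. -/
theorem subfield_maximal (Q : QuadraticForm F (ι → F)) (hQ : (polarBilin Q).Nondegenerate)
    (hn : 13 ≤ Fintype.card ι) (F₀ : Subfield F) {r : ℕ} (hr : r.Prime) (hcard : Nat.card F = Nat.card F₀ ^ r)
    (P : GL ι F) {ζ : F} (hζ : ζ ≠ 0) (hP : Cfsg.Geo.IsQuadFormRationalStructure (fun v => ζ * Q v) F₀ P) :
    Cfsg.Geo.IsMaximalIn (Cfsg.Geo.omegaGL (⇑Q))
      (Cfsg.Geo.subfieldSubgroup F₀ P ⊓ Cfsg.Geo.omegaGL (⇑Q)) := by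
  set Q1 : QuadraticForm F (ι → F) := (ζ • Q).comp (Matrix.toLin' (P : Matrix ι ι F)) with hQ1
  have hQ1a : ∀ x, Q1 x = ζ * Q ((P : Matrix ι ι F) *ᵥ x) := fun x => rfl
  have hpol : ∀ x y, polar Q1 x y = ζ * polar Q ((P : Matrix ι ι F) *ᵥ x) ((P : Matrix ι ι F) *ᵥ y) := fun x y => by
    simp only [polar, hQ1a, Matrix.mulVec_add]; ring
  have hnd : (polarBilin Q1).Nondegenerate := by
    have key : ∀ x, (∀ y, polar Q1 y x = 0) → x = 0 := fun x hx => by
      have h0 : (P : Matrix ι ι F) *ᵥ x = 0 := eq_zero_of Q hQ _ fun y => by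
        have := hx (((P⁻¹ : GL ι F) : Matrix ι ι F) *ᵥ y)
        rw [hpol, gl_inv_mulVec] at this
        exact (mul_eq_zero.1 this).resolve_left hζ
      rw [← gl_inv_mulVec' P x, h0, Matrix.mulVec_zero]
    exact ⟨fun x hx => key x fun y => by rw [polar_comm]; exact hx y, fun x hx => key x hx⟩
  have hR : RQ Q1 F₀ := ⟨hnd, fun a => hP (rv F₀ a) fun i => (a i).2, hn⟩
  have homega : ∀ g : GL ι F, P * g * P⁻¹ ∈ Cfsg.Geo.omegaGL (⇑Q) ↔ g ∈ Cfsg.Geo.omegaGL (⇑Q1) := by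
    intro g
    -- the scalar does not change the group
    have hsc : Cfsg.Geo.omegaGL (⇑(ζ • Q)) = Cfsg.Geo.omegaGL (⇑Q) := by
      refine le_antisymm (fun g hg => ?_) fun g hg => ?_
      · obtain ⟨k, hk, rfl⟩ := hg
        let ψ : O (ζ • Q) →* O Q :=
          { toFun := fun k => ⟨(k : GL ι F), fun x y => mul_left_cancel₀ hζ (k.2 x y)⟩
            map_one' := rfl
            map_mul' := fun _ _ => rfl }
        refine ⟨ψ k, ?_, rfl⟩
        have h1 : (commutator (O (ζ • Q))).map ψ ≤ commutator (O Q) := by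
          rw [commutator_def, commutator_def, Subgroup.map_commutator]
          exact Subgroup.commutator_mono le_top le_top
        exact h1 ⟨k, hk, rfl⟩
      · obtain ⟨k, hk, rfl⟩ := hg
        let ψ : O Q →* O (ζ • Q) :=
          { toFun := fun k => ⟨(k : GL ι F), fun x y => congrArg (ζ * ·) (k.2 x y)⟩
            map_one' := rfl
            map_mul' := fun _ _ => rfl }
        refine ⟨ψ k, ?_, rfl⟩
        have h1 : (commutator (O Q)).map ψ ≤ commutator (O (ζ • Q)) := by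
          rw [commutator_def, commutator_def, Subgroup.map_commutator]
          exact Subgroup.commutator_mono le_top le_top
        exact h1 ⟨k, hk, rfl⟩
    constructor
    · intro hg
      rw [← hsc] at hg
      have := mem_omega_conj (ζ • Q) (Q' := ⇑Q1) P⁻¹ (fun x => by rw [hQ1a, gl_inv_mulVec]; rfl) hg
      rwa [inv_inv, show P⁻¹ * (P * g * P⁻¹) * P = g by group] at this
    · intro hg
      rw [← hsc]
      exact mem_omega_conj Q1 (Q' := ⇑(ζ • Q)) P (fun x => rfl) hg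
  have hK : ∀ g : GL ι F, P * g * P⁻¹ ∈ Cfsg.Geo.subfieldSubgroup F₀ P ↔ g ∈ Cfsg.Geo.subfieldSubgroup F₀ 1 := by
    intro g
    rw [SubfieldMem.mem_iff, SubfieldMem.mem_iff, inv_one, one_mul, mul_one, show P⁻¹ * (P * g * P⁻¹) * P = g by group]
  obtain ⟨hlt, hmax⟩ := subfield_maximal₁ hR hr hcard
  refine ⟨lt_of_le_of_ne inf_le_right fun e => hlt.ne ?_, fun M h1 h2 => ?_⟩
  · exact le_antisymm inf_le_right fun g hg => ⟨(hK g).1 (e.ge ((homega g).2 hg)).1, hg⟩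
  set M1 := M.comap (MulAut.conj P).toMonoidHom with hM1
  have hmem : ∀ g, g ∈ M1 ↔ P * g * P⁻¹ ∈ M := fun g => by simp [hM1]
  have back : ∀ g : GL ι F, P * (P⁻¹ * g * P) * P⁻¹ = g := fun g => by group
  rcases hmax M1 (fun g hg => (hmem g).2 (h1 ⟨(hK g).2 hg.1, (homega g).2 hg.2⟩))
    (fun g hg => (homega g).1 (h2 ((hmem g).1 hg))) with h | h
  · refine Or.inl (le_antisymm (fun g hg => ?_) h1)
    have := h.le ((hmem (P⁻¹ * g * P)).2 (by rwa [back]))
    exact ⟨back g ▸ (hK _).2 this.1, back g ▸ (homega _).2 this.2⟩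
  · refine Or.inr (le_antisymm h2 fun g hg => ?_)
    have := h.ge ((homega (P⁻¹ * g * P)).1 (by rwa [back]))
    exact back g ▸ (hmem _).1 this

end Cfsg.Agent.Classical.SubfieldOrth
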