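import Cfsg.Agent.Lib.Classical.DicksonShape

/-!
A finite linear group of degree two with a big group of translations has many multipliers.
-/

set_option autoImplicit false
set_option linter.style.haveILetI false
set_option linter.unusedSectionVars false

open scoped MatrixGroups Pointwise
open Matrix OnePoint

namespace Cfsg.Agent.Classical.SubfieldPlane

open Dickson

theorem mult_large {F : Type*} [Field F] [Finite F] (Γ : Subgroup (GL (Fin 2) F)) (U : AddSubgroup F)
    (hU : ∀ x ∈ U, ∃ g ∈ Γ, (g : Matrix (Fin 2) (Fin 2) F) = !![1, x; 0, 1])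
    (hlow : ∃ g ∈ Γ, (g : Matrix (Fin 2) (Fin 2) F) 1 0 ≠ 0) (hbig : 4 ≤ Nat.card U)
    (S : Finset F) (hS : ∀ g ∈ Γ, (g : Matrix (Fin 2) (Fin 2) F) 1 0 = 0 →
      (g : Matrix (Fin 2) (Fin 2) F) 0 0 / (g : Matrix (Fin 2) (Fin 2) F) 1 1 ∈ S) :
    Nat.card U ≤ 2 * S.card + 1 := by
  classical
  obtain ⟨p, hchar⟩ := CharP.exists F
  haveI : Fact p.Prime := ⟨CharP.char_is_prime F p⟩
  let i : F →+* AlgebraicClosure F := algebraMap F (AlgebraicClosure F)
  haveI : CharP (AlgebraicClosure F) p := charP_of_injective_ringHom i.injective p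
  let φ : GL (Fin 2) F →* PGL(2, AlgebraicClosure F) :=
    ProjGenLinGroup.mk.comp (Matrix.GeneralLinearGroup.map i)
  let G := Γ.map φ
  haveI : Finite G := Finite.of_surjective (fun g : Γ => (⟨φ g, g, g.2, rfl⟩ : G))
    fun ⟨_, g, hg, e⟩ => ⟨⟨g, hg⟩, Subtype.ext e⟩
  have hUG : ∀ x ∈ U, aff 1 (i x) ∈ G := fun x hx => by
    obtain ⟨g, hg, e⟩ := hU x hx
    refine ⟨g, hg, ?_⟩
    show ProjGenLinGroup.mk (Matrix.GeneralLinearGroup.map i g) = ProjGenLinGroup.mk (affGL 1 (i x))
    congr 1
    refine Units.ext ?_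
    show (g : Matrix (Fin 2) (Fin 2) F).map i = _
    rw [e, affGL_coe]
    ext a b; fin_cases a <;> fin_cases b <;> simp
  obtain ⟨g₁, hg₁, hg₁0⟩ := hlow
  have hmove : φ g₁ • (∞ : OnePoint (AlgebraicClosure F)) ≠ ∞ := fun h => by
    change ProjGenLinGroup.mk (Matrix.GeneralLinearGroup.map i g₁) • (∞ : OnePoint (AlgebraicClosure F)) = ∞ at h
    rw [mk_smul', smul_infty_eq_self_iff] at h
    exact hg₁0 (i.injective (h.trans (map_zero i).symm))
  have hUq : Nat.card U ≤ qOf G ∞ := by
    refine Nat.card_le_card_of_injective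
      (fun x : U => (⟨aff 1 (i x), hUG x x.2, (isTr_infty_aff 1 _).2 rfl⟩ : tr G ∞)) fun x y h => ?_
    exact Subtype.ext (i.injective (aff_eq_iff.1 (congrArg Subtype.val h)).2)
  have hq2 : 4 ≤ qOf G ∞ := hbig.trans hUq
  have hcard : qOf G ∞ ∣ Nat.card G := by
    rw [qOf]; exact Subgroup.card_dvd_of_le (inf_le_left)
  have hGbig : 4 ≤ Nat.card G := hq2.trans (Nat.le_of_dvd Nat.card_pos hcard)
  have he : eOf G ∞ ≤ S.card := by
    have hinv := (invariants G (x := (∞ : OnePoint (AlgebraicClosure F))) (c := 1) (one_smul _ _)).2.2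
    rw [show G.map (MulAut.conj (1 : PGL(2, AlgebraicClosure F))).toMonoidHom = G by
      ext z; simp [Subgroup.mem_map]] at hinv
    rw [hinv]
    have hsub : ∀ s : mult G, ∃ x ∈ S, ((s : (AlgebraicClosure F)ˣ) : AlgebraicClosure F) = i x := by
      rintro ⟨s, a, g, hg, e⟩
      change ProjGenLinGroup.mk (Matrix.GeneralLinearGroup.map i g) = ProjGenLinGroup.mk (affGL s a) at e
      obtain ⟨u, hu⟩ := ProjGenLinGroup.mk_eq_mk_iff.1 e
      have h := fun a' b' => congrArg
        (fun m : Matrix (Fin 2) (Fin 2) (AlgebraicClosure F) => m a' b') (congrArg Units.val hu)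
      have h00 := h 0 0
      have h10 := h 1 0
      have h11 := h 1 1
      simp [affGL_coe, Matrix.GeneralLinearGroup.map] at h00 h10 h11
      have hz : (g : Matrix (Fin 2) (Fin 2) F) 1 0 = 0 := i.injective (by simpa using h10)
      refine ⟨_, hS g hg hz, ?_⟩
      rw [map_div₀]
      have h11' : i ((g : Matrix (Fin 2) (Fin 2) F) 1 1) ≠ 0 := fun e0 => by
        have hdet := g.det_ne_zero
        rw [Matrix.det_fin_two, hz, mul_zero, sub_zero] at hdet
        exact right_ne_zero_of_mul hdet (i.injective (e0.trans (map_zero i).symm))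
      rw [eq_div_iff h11', ← h00]
      linear_combination i ((g : Matrix (Fin 2) (Fin 2) F) 0 0) * h11
    choose f hf hfi using hsub
    haveI : Fintype (mult G) := Fintype.ofFinite _
    rw [Nat.card_eq_fintype_card]
    rw [← Fintype.card_coe S]
    refine Fintype.card_le_of_injective (fun s => (⟨f s, hf s⟩ : S)) fun s t h => ?_
    exact Subtype.ext (Units.ext (by rw [hfi s, hfi t, show f s = f t from congrArg Subtype.val h]))
  have key : qOf G ∞ ≤ 2 * eOf G ∞ + 1 := by
    have htr1 : ∃ t ∈ tr G ∞, t ≠ 1 := by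
      by_contra hc
      push Not at hc
      have : tr G ∞ = ⊥ := (Subgroup.eq_bot_iff_forall _).2 hc
      rw [qOf, this, Subgroup.card_bot] at hq2
      omega
    have only_inf : ∀ x, (∀ t ∈ tr G ∞, t • x = x) → x = ∞ := fun x hx => by
      obtain ⟨t, ht, ht1⟩ := htr1
      exact ((ht.2.2 x (hx t ht)).resolve_right ht1)
    rcases shape G (by omega) with ⟨x, hx⟩ | ⟨x, hqx, hox⟩ | ⟨h, -⟩ | ⟨h, -⟩ | ⟨h, -⟩ | ⟨x, hqx, hox, hex⟩
    · have hfix : ∀ g ∈ G, g • x = x := fun g hg => (hx.ge hg).2
      have := only_inf x fun t ht => hfix t ht.1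
      subst this
      exact absurd (hfix _ ⟨g₁, hg₁, rfl⟩) hmove
    · exfalso
      haveI : Finite (orb G x) := (finite_orb G x).to_subtype
      let f : tr G ∞ → orb G x := fun t => ⟨(t : PGL(2, AlgebraicClosure F)) • x, _, t.2.1, rfl⟩
      obtain ⟨t, t', hne, heq⟩ : ∃ t t', t ≠ t' ∧ f t = f t' := by
        by_contra hc
        push Not at hc
        have h := Nat.card_le_card_of_injective f fun t t' h => by
          by_contra hne; exact hc t t' hne h
        rw [hox] at h
        change qOf G ∞ ≤ 2 at h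
        omega
      have h' : (t : PGL(2, AlgebraicClosure F)) • x = (t' : PGL(2, AlgebraicClosure F)) • x :=
        congrArg Subtype.val heq
      have htx : ((t'⁻¹ * t : tr G ∞) : PGL(2, AlgebraicClosure F)) • x = x := by
        rw [Subgroup.coe_mul, Subgroup.coe_inv, mul_smul, h', inv_smul_smul]
      rcases (t'⁻¹ * t).2.2.2 x htx with rfl | h1
      · omega
      · exact hne (inv_mul_eq_one.1 (Subtype.ext h1 : t'⁻¹ * t = 1)).symm
    iterate 3
      · exfalso
        obtain ⟨t, ht, ht1⟩ := htr1
        obtain ⟨x, hx, hq1⟩ := h t ht.1 ht1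
        have hxi : x = ∞ := (ht.2.2 x hx.2).resolve_right ht1
        subst hxi
        omega
    · have hmem : (∞ : OnePoint (AlgebraicClosure F)) ∈ orb G x := by
        by_contra hno
        haveI : Finite (orb G x) := (finite_orb G x).to_subtype
        let P := tr G ∞
        letI : MulAction P (orb G x) :=
          { smul := fun t z => ⟨(t : PGL(2, AlgebraicClosure F)) • (z : OnePoint (AlgebraicClosure F)), by
              obtain ⟨g, hg, e⟩ := z.2
              have e' : g • x = (z : OnePoint (AlgebraicClosure F)) := e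
              exact ⟨t * g, G.mul_mem t.2.1 hg, by show (_ * g) • x = _; rw [mul_smul, e']⟩⟩
            one_smul := fun z => Subtype.ext (one_smul _ _)
            mul_smul := fun s t z => Subtype.ext (mul_smul _ _ _) }
        have hpg : IsPGroup p P := fun t => ⟨1, by
          rw [pow_one]; exact Subtype.ext (pow_char_of_isTr t.2.2)⟩
        have hmod := hpg.card_modEq_card_fixedPoints (orb G x)
        have hempty : IsEmpty (MulAction.fixedPoints P (orb G x)) := ⟨fun ⟨z, hz⟩ => hno (by
          have h := only_inf (z : OnePoint (AlgebraicClosure F)) fun t ht =>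
            congrArg Subtype.val (hz (⟨t, ht⟩ : P))
          exact h ▸ z.2)⟩
        have hp1 : p ∣ qOf G x + 1 := by
          rw [← hox]
          refine (Nat.modEq_zero_iff_dvd).1 (hmod.trans ?_)
          rw [Nat.card_of_isEmpty]
        have hp2 : p ∣ qOf G x := by
          have hpx : IsPGroup p (tr G x) := fun t => ⟨1, by
            rw [pow_one]; exact Subtype.ext (pow_char_of_isTr t.2.2)⟩
          obtain ⟨k, hk⟩ := IsPGroup.iff_card.1 hpx
          change qOf G x = p ^ k at hk
          rcases k with _ | k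
          · simp at hk; omega
          · rw [hk]; exact dvd_pow_self p (Nat.succ_ne_zero k)
        exact (Fact.out : p.Prime).not_dvd_one ((Nat.dvd_add_right hp2).1 hp1)
      rw [qOf_orb G hmem, eOf_orb G hmem]
      omega
  omega

end Cfsg.Agent.Classical.SubfieldPlane
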