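import Cfsg.Agent.Lib.Classical.SubfieldOrthGood
import Cfsg.Agent.Lib.Classical.SubfieldPlane

/-!
Subfield subgroups of orthogonal groups: an irrational parameter from any irrational element.
-/

set_option autoImplicit false
set_option linter.unusedSectionVars false
set_option maxHeartbeats 1600000

open Module Matrix QuadraticMap

namespace Cfsg.Agent.Classical.SubfieldOrth

open SubfieldLin Refl Siegel MaxLin

variable {F : Type*} [Field F] [Fintype F] {ι : Type} [Fintype ι] [DecidableEq ι]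
variable {Q : QuadraticForm F (ι → F)} {F₀ : Subfield F} {M : Subgroup (O Q)}

local notation "V" => ι → F

/-- In characteristic two the subfield contains square roots. -/
theorem mem_of_sq {l : F} (h2 : (2 : F) = 0) (h : l ^ 2 ∈ F₀) : l ∈ F₀ := by
  obtain ⟨p, hp⟩ := CharP.exists F
  obtain ⟨n, hpp, hn⟩ := FiniteField.card F p
  have hp2 : p = 2 := (Nat.prime_dvd_prime_iff_eq hpp Nat.prime_two).1
    ((CharP.cast_eq_zero_iff F p 2).1 (by simpa using h2))
  have he : l = (l ^ 2) ^ (2 ^ ((n : ℕ) - 1)) := by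
    rw [← pow_mul, ← pow_succ', Nat.sub_add_cancel n.pos, ← hp2, ← hn, FiniteField.pow_card]
  rw [he]
  exact pow_mem h _

variable (hR : RQ Q F₀)

include hR

/-- A rational part for vectors with rational products on the orthogonal of a centre. -/
theorem rep_perp {a : ι → F₀} (ha : Q (rv F₀ a) = 0) (ha0 : a ≠ 0) {y : V} (hy : polar Q y (rv F₀ a) = 0)
    (h : ∀ c : ι → F₀, polar Q (rv F₀ c) (rv F₀ a) = 0 → polar Q y (rv F₀ c) ∈ F₀) :
    ∃ (R : ι → F₀) (l : F), y = rv F₀ R + l • rv F₀ a ∧ polar Q (rv F₀ R) (rv F₀ a) = 0 := by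
  obtain ⟨z, hz, -, hza⟩ := dual hR (![] : Fin 0 → ι → F₀) (by norm_num) (p := a) fun l h => ha0 (by simpa using h)
  obtain ⟨R, hR'⟩ := rat_of_pol hR (x := y + (-polar Q y (rv F₀ z)) • rv F₀ a) fun c => by
    set k : F₀ := ⟨polar Q (rv F₀ c) (rv F₀ a), pol hR _ _⟩ with hk
    have h1 := h (c - k • z) (by
      rw [rv_sub, rv_smul, polar_sub_left, polar_smul_left, hza, smul_eq_mul, mul_one, hk, sub_self])
    rw [rv_sub, rv_smul, polar_sub_right, polar_smul_right, smul_eq_mul] at h1
    rw [polar_add_right, polar_smul_right, polar_comm (⇑Q) (rv F₀ c) y, smul_eq_mul]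
    convert h1 using 1
    rw [hk]
    ring
  refine ⟨R, polar Q y (rv F₀ z), by rw [← hR']; module, ?_⟩
  rw [← hR', polar_add_left, polar_smul_left, hy, polar_diag, ha]
  simp

variable (hD : Data M F₀)

include hD

/-- If no parameter is irrational, root elements with rational centres are rational. -/
theorem rat_of_mem (hno : ∀ a : ι → F₀, Q (rv F₀ a) = 0 → a ≠ 0 → ∀ s, Rs M a s → s ∈ F₀) {a : ι → F₀}
    (ha0 : a ≠ 0) {x : V} (h : Am M a x) {c : ι → F₀} (hca : polar Q (rv F₀ c) (rv F₀ a) = 0) :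
    polar Q x (rv F₀ c) ∈ F₀ := by
  let U : Submodule F₀ (ι → F₀) :=
    { carrier := {c | polar Q x (rv F₀ c) ∈ F₀}
      zero_mem' := by show _ ∈ F₀; rw [rv_zero, polar_zero_right]; exact zero_mem _
      add_mem' := fun {p q} hp hq => by show _ ∈ F₀; rw [rv_add, polar_add_right]; exact add_mem hp hq
      smul_mem' := fun k p hp => by show _ ∈ F₀; rw [rv_smul, polar_smul_right]; exact mul_mem k.2 hp }
  exact span hR ![a] (by norm_num) U (fun e he heW => hno a h.sing ha0 _ (good_of hR hD ha0 h he (heW 0)))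
    (w := c) fun i => by fin_cases i; exact hca

/-- An element moving a singular rational vector to an orthogonal irrational line. -/
theorem exists_good {r : ℕ} (hr : r.Prime) (hcard : Nat.card F = Nat.card F₀ ^ r) {X : O Q} (hX : X ∈ M)
    {a : ι → F₀} (ha : Q (rv F₀ a) = 0) (ha0 : a ≠ 0) (hXa : polar Q (act Q X (rv F₀ a)) (rv F₀ a) = 0)
    (hXp : act Q X (act Q X (rv F₀ a) - rv F₀ a) = act Q X (rv F₀ a) - rv F₀ a)
    (hirr : ∀ (l : F) (e : ι → F₀), act Q X (rv F₀ a) ≠ l • rv F₀ e) :
    ∃ (a₁ : ι → F₀) (s : F), Q (rv F₀ a₁) = 0 ∧ a₁ ≠ 0 ∧ Rs M a₁ s ∧ s ∉ F₀ := by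
  classical
  by_contra hno'
  push Not at hno'
  have hno : ∀ a : ι → F₀, Q (rv F₀ a) = 0 → a ≠ 0 → ∀ s, Rs M a s → s ∈ F₀ := fun a h h0 s hs =>
    hno' a s h h0 hs
  have symm : ∀ {p q : V}, polar Q p q = 0 → polar Q q p = 0 := fun h => by rw [polar_comm]; exact h
  haveI : Fintype F₀ := Fintype.ofFinite _
  have hQ2 : 2 ≤ Nat.card F₀ := Finite.one_lt_card
  set av := rv F₀ a with hav
  obtain ⟨p, hp⟩ : ∃ p, p = act Q X av - av := ⟨_, rfl⟩
  have hXav : act Q X av = av + p := by rw [hp, add_sub_cancel]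
  rw [← hp] at hXp
  have haa : polar Q av av = 0 := by rw [polar_diag, ha, mul_zero]
  have hpa : polar Q p av = 0 := by rw [hp, polar_sub_left, hXa, haa, sub_zero]
  have hpp : Q p = 0 := by
    rw [hp, sub_eq_add_neg, Q_add, QuadraticMap.map_neg, Q_act, ha, polar_neg_right, hXa]; simp
  -- the values on the orthogonal of the centre
  let C : AddSubgroup F :=
    { carrier := {x | ∃ y : ι → F₀, polar Q (rv F₀ y) av = 0 ∧ polar Q p (rv F₀ y) = x}
      zero_mem' := ⟨0, by rw [rv_zero, polar_zero_left], by rw [rv_zero, polar_zero_right]⟩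
      add_mem' := by
        rintro _ _ ⟨y, hy, rfl⟩ ⟨y', hy', rfl⟩
        exact ⟨y + y', by rw [rv_add, polar_add_left, hy, hy', add_zero], by rw [rv_add, polar_add_right]⟩
      neg_mem' := by
        rintro _ ⟨y, hy, rfl⟩
        exact ⟨-y, by rw [show rv F₀ (-y) = -rv F₀ y from funext fun i => by simp [rv], polar_neg_left, hy, neg_zero],
          by rw [show rv F₀ (-y) = -rv F₀ y from funext fun i => by simp [rv], polar_neg_right]⟩ }
  have hCs : ∀ k ∈ F₀, ∀ x ∈ C, k * x ∈ C := by
    rintro k hk _ ⟨y, hy, rfl⟩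
    exact ⟨(⟨k, hk⟩ : F₀) • y, by rw [rv_smul, polar_smul_left, hy, smul_zero],
      by rw [rv_smul, polar_smul_right, smul_eq_mul]⟩
  obtain ⟨y₀, hy₀, hl₀⟩ : ∃ y : ι → F₀, polar Q (rv F₀ y) av = 0 ∧ polar Q p (rv F₀ y) ≠ 0 := by
    by_contra hc
    push Not at hc
    obtain ⟨R, l, hRl, hRa⟩ := rep_perp hR ha ha0 hpa fun c hc' => by rw [hc c hc']; exact zero_mem _
    -- the rational part is proportional to the centre
    obtain ⟨z, hz, -, hza⟩ := dual hR (![] : Fin 0 → ι → F₀) (by norm_num) (p := a) fun l h => ha0 (by simpa using h)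
    set k : F₀ := ⟨polar Q (rv F₀ R) (rv F₀ z), pol hR _ _⟩ with hk
    have hR0 : rv F₀ R = (k : F) • av := eq_of_rat hR fun b => by
      set j : F₀ := ⟨polar Q (rv F₀ b) av, pol hR _ _⟩ with hj
      have h1 := hc (b - j • z) (by
        rw [rv_sub, rv_smul, polar_sub_left, polar_smul_left, hza, smul_eq_mul, mul_one, hj, sub_self])
      rw [hRl, rv_sub, rv_smul, polar_add_left, polar_smul_left, polar_sub_right, polar_sub_right, polar_smul_right,
        polar_smul_right] at h1
      simp only [smul_eq_mul, hj, hav, polar_comm (⇑Q) (rv F₀ a) (rv F₀ b), polar_comm (⇑Q) (rv F₀ a) (rv F₀ z),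
        hza] at h1
      rw [polar_comm (⇑Q) (rv F₀ b) (rv F₀ R), polar_smul_right, smul_eq_mul, hk, hav]
      linear_combination h1
    exact hirr (1 + ((k : F) + l)) a (by rw [hXav, hRl, hR0]; module)
  set l₀ := polar Q p (rv F₀ y₀) with hl₀'
  by_cases hone : ∀ y : ι → F₀, polar Q (rv F₀ y) av = 0 → polar Q p (rv F₀ y) / l₀ ∈ F₀
  · -- the element preserves a rational singular plane
    obtain ⟨d, l, hd, hda⟩ := rep_perp hR ha ha0 (y := l₀⁻¹ • p)
      (by rw [polar_smul_left, hpa, smul_zero]) fun c hc => by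
        rw [polar_smul_left, smul_eq_mul, ← div_eq_inv_mul]; exact hone c hc
    set dv := rv F₀ d with hdv
    set μ := l₀ * l with hμ
    have hpd : p = l₀ • dv + μ • av := by rw [hμ, mul_smul, ← smul_add, ← hd, smul_inv_smul₀ hl₀]
    have hd0 : Q dv = 0 := by
      have h := hpp
      rw [hpd, Q_add, Q_smul, Q_smul, ha, polar_smul_left, polar_smul_right, hda] at h
      simpa [hl₀] using h
    have hdd : polar Q dv dv = 0 := by rw [polar_diag, hd0, mul_zero]
    have hdne : ∀ k : F₀, d ≠ k • a := fun k e => hl₀ (by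
      rw [hl₀', hpd, hdv, e, rv_smul, polar_add_left, polar_smul_left, polar_smul_left, polar_smul_left,
        polar_comm (⇑Q) av, hy₀]
      simp)
    have hν : (1 + μ) ≠ 0 := fun e => hirr l₀ d (by
      rw [hXav, hpd, ← add_assoc, add_comm av, add_assoc, ← one_smul F av, smul_smul, ← add_smul, mul_one, e,
        zero_smul, add_zero])
    have hane : ∀ k : F₀, a ≠ k • d := fun k e => by
      rcases eq_or_ne k 0 with rfl | hk
      · exact ha0 (by rw [e, zero_smul])
      · exact hdne k⁻¹ (by rw [e, inv_smul_smul₀ hk])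
    have hd00 : d ≠ 0 := fun e => hdne 0 (by rw [e, zero_smul])
    set ν := l₀ / (1 + μ) with hνd
    have hν0 : ν ∉ F₀ := fun h => hirr (1 + μ) (a + (⟨ν, h⟩ : F₀) • d) (by
      rw [hXav, hpd, rv_add, rv_smul, smul_add, smul_smul]
      show _ = (1 + μ) • av + ((1 + μ) * ν) • dv
      rw [hνd, mul_div_cancel₀ _ hν]
      module)
    obtain ⟨b, -, hb, hbW, hbne⟩ := avoid hR ![a, d] ![a, d] (by norm_num)
    have hba : polar Q (rv F₀ b) av = 0 := hbW 0
    have hbd : polar Q (rv F₀ b) dv = 0 := hbW 1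
    have hbp : polar Q (rv F₀ b) p = 0 := by
      rw [hpd, polar_add_right, polar_smul_right, polar_smul_right, hba, hbd]; simp
    set z := act Q X (rv F₀ b) with hz
    have hzp : polar Q z p = 0 := by rw [hz, ← hXp, polar_act, hbp]
    have hza : polar Q z av = 0 := by
      have h : polar Q z (act Q X av) = 0 := by rw [hz, polar_act, hba]
      rwa [hXav, polar_add_right, hzp, add_zero] at h
    have hzd : polar Q z dv = 0 := by
      have h := hzp
      rw [hpd, polar_add_right, polar_smul_right, polar_smul_right, hza, smul_zero, add_zero, smul_eq_mul] at h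
      exact (mul_eq_zero.1 h).resolve_left hl₀
    -- a root element with centre on the irrational line
    obtain ⟨h1, h2, hm⟩ := hD a b ha (symm hba)
    obtain ⟨h1', h2', e⟩ := sO_conj X _ _ h1 h2
    have hm' := mul_mem (mul_mem hX hm) (inv_mem hX)
    rw [← e] at hm'
    set v' := av + ν • dv with hv'
    have hXv : act Q X av = (1 + μ) • v' := by
      rw [hXav, hv', hpd, smul_add, smul_smul, hνd, mul_div_cancel₀ _ hν]; module
    have hv'a : polar Q v' av = 0 := by
      rw [hv', polar_add_left, polar_smul_left, haa, polar_comm (⇑Q) dv, symm hda]; simp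
    have hv'd : polar Q v' dv = 0 := by
      rw [hv', polar_add_left, polar_smul_left, hdd, symm hda]; simp
    set Y := sO Q (act Q X (rv F₀ a)) (act Q X (rv F₀ b)) h1' h2' with hY
    have hYfix : ∀ x : V, polar Q x v' = 0 → polar Q x z = 0 → act Q Y x = x := fun x hx hx' => by
      rw [hY, act_sO, ← hav, hXv, polar_smul_right, hx, ← hz, hx']; simp
    have hval : ∀ b' : ι → F₀, polar Q (rv F₀ b') av = 0 → polar Q (rv F₀ b') dv = 0 →
        act Q Y (rv F₀ b') - rv F₀ b' = (-((1 + μ) * polar Q (rv F₀ b') z)) • v' := fun b' hb'a hb'd => by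
      rw [hY, act_sO, ← hav, hXv, ← hz, polar_smul_right,
        show polar Q (rv F₀ b') v' = 0 by rw [hv', polar_add_right, polar_smul_right, hb'a, hb'd]; simp]
      simp only [smul_eq_mul, mul_zero, zero_smul, add_zero]
      module
    obtain ⟨cd, -, hcd, hcd1⟩ := dual hR ![a] (by norm_num) (p := d) fun r e => hdne (r 0) (by simpa using e)
    obtain ⟨ca, -, hca, hca1⟩ := dual hR ![d] (by norm_num) (p := a) fun r e => hane (r 0) (by simpa using e)
    have hcda : polar Q (rv F₀ cd) av = 0 := hcd 0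
    have hcad : polar Q (rv F₀ ca) dv = 0 := hca 0
    have hzero : ∀ b' : ι → F₀, polar Q (rv F₀ b') av = 0 → polar Q (rv F₀ b') dv = 0 →
        polar Q (rv F₀ b') z = 0 := fun b' hb'a hb'd => by
      have e1 := ((hD a b' ha (symm hb'a)).map hm' (a' := a)
        (hYfix _ (symm hv'a) (symm hza))).sub (hD a b' ha (symm hb'a))
      have e2 := ((hD d b' hd0 (symm hb'd)).map hm' (a' := d)
        (hYfix _ (symm hv'd) (symm hzd))).sub (hD d b' hd0 (symm hb'd))
      rw [hval b' hb'a hb'd] at e1 e2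
      have f1 := rat_of_mem hR hD hno ha0 e1 (c := cd) hcda
      have f2 := rat_of_mem hR hD hno hd00 e2 (c := ca) hcad
      rw [hv', polar_smul_left, polar_add_left, polar_smul_left, symm hcda, polar_comm (⇑Q) dv, hcd1] at f1
      rw [hv', polar_smul_left, polar_add_left, polar_smul_left, symm hcad, polar_comm (⇑Q) av, hca1] at f2
      simp only [smul_eq_mul, zero_add, mul_one, mul_zero, add_zero] at f1 f2
      by_contra h0
      exact hν0 (by
        have := div_mem f1 f2
        rwa [mul_div_cancel_left₀ _ (neg_ne_zero.2 (mul_ne_zero hν h0))] at this)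
    -- so the image lies in the plane
    have hzmem : z = polar Q (rv F₀ ca) z • av + polar Q (rv F₀ cd) z • dv := eq_of_rat hR fun y => by
      set i : F₀ := ⟨polar Q (rv F₀ y) av, pol hR _ _⟩ with hi
      set j : F₀ := ⟨polar Q (rv F₀ y) dv, pol hR _ _⟩ with hj
      have h := hzero (y - i • ca - j • cd) (by
        rw [rv_sub, rv_sub, rv_smul, rv_smul, polar_sub_left, polar_sub_left, polar_smul_left, polar_smul_left, hca1,
          hcda]
        simp [hi]) (by
        rw [rv_sub, rv_sub, rv_smul, rv_smul, polar_sub_left, polar_sub_left, polar_smul_left, polar_smul_left, hcad,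
          hcd1]
        simp [hj])
      rw [rv_sub, rv_sub, rv_smul, rv_smul, polar_sub_left, polar_sub_left, polar_smul_left, polar_smul_left] at h
      rw [polar_add_right, polar_smul_right, polar_smul_right]
      simp only [smul_eq_mul, hi, hj] at h ⊢
      linear_combination h
    obtain ⟨e', -, he', he'b⟩ := dual hR ![a, d] (by norm_num) hbne
    have he'a : polar Q (rv F₀ e') av = 0 := he' 0
    have he'p : polar Q (rv F₀ e') p = 0 := by
      rw [hpd, polar_add_right, polar_smul_right, polar_smul_right, he'a,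
        show polar Q (rv F₀ e') dv = 0 from he' 1]
      simp
    obtain ⟨A, B, hz2⟩ : ∃ A B : F, z = A • av + B • dv := ⟨_, _, hzmem⟩
    have h : rv F₀ b = A • (av - p) + (B / l₀) • (p - μ • (av - p)) := by
      refine (act_inv' Q X _).symm.trans ?_
      have e : dv = l₀⁻¹ • (p - μ • av) := by rw [hpd, add_sub_cancel_right, inv_smul_smul₀ hl₀]
      rw [← hz, hz2, e, smul_smul, ← div_eq_mul_inv]
      conv_rhs => rw [← act_inv' Q X (A • (av - p) + (B / l₀) • (p - μ • (av - p)))]
      congr 1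
      simp only [act_add, act_smul, act_sub, hXp, hXav, add_sub_cancel_right]
    have := congrArg (polar Q (rv F₀ e')) h
    rw [he'b] at this
    simp [polar_add_right, polar_smul_right, polar_sub_right, he'a, he'p] at this
  -- the plane group
  push Not at hone
  obtain ⟨y₁, hy₁, hne₁⟩ := hone
  have hCbig : Nat.card F₀ ^ 2 ≤ Nat.card C := by
    rw [pow_two, ← Nat.card_prod]
    refine Nat.card_le_card_of_injective (fun k : F₀ × F₀ => (⟨(k.1 : F) * l₀ + (k.2 : F) * polar Q p (rv F₀ y₁),
      add_mem (hCs _ k.1.2 _ ⟨y₀, hy₀, rfl⟩) (hCs _ k.2.2 _ ⟨y₁, hy₁, rfl⟩)⟩ : C)) ?_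
    intro k k' h
    have h' : (k.1 : F) * l₀ + (k.2 : F) * polar Q p (rv F₀ y₁) =
        (k'.1 : F) * l₀ + (k'.2 : F) * polar Q p (rv F₀ y₁) := congrArg Subtype.val h
    have h2 : (k.2 : F) = k'.2 := by
      by_contra hne
      have hne' := sub_ne_zero.2 hne
      apply hne₁
      rw [show polar Q p (rv F₀ y₁) / l₀ = ((k'.1 : F) - k.1) / ((k.2 : F) - k'.2) by
        rw [div_eq_div_iff hl₀ hne']; linear_combination h']
      exact div_mem (sub_mem k'.1.2 k.1.2) (sub_mem k.2.2 k'.2.2)
    rw [h2, add_left_inj] at h'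
    exact Prod.ext (Subtype.ext (mul_right_cancel₀ hl₀ h')) (Subtype.ext h2)
  let Γ : Subgroup (GL (Fin 2) F) :=
    { carrier := {γ | ∃ h ∈ M,
        act Q h av = (γ : Matrix (Fin 2) (Fin 2) F) 0 0 • av + (γ : Matrix (Fin 2) (Fin 2) F) 1 0 • p ∧
        act Q h p = (γ : Matrix (Fin 2) (Fin 2) F) 0 1 • av + (γ : Matrix (Fin 2) (Fin 2) F) 1 1 • p}
      one_mem' := ⟨1, one_mem M, by simp [act, Matrix.one_mulVec], by simp [act, Matrix.one_mulVec]⟩
      mul_mem' := by
        rintro γ δ ⟨X, hX, ha1, hp1⟩ ⟨Y, hY, ha2, hp2⟩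
        refine ⟨X * Y, mul_mem hX hY, ?_, ?_⟩
        · rw [act_mul, ha2, act_add, act_smul, act_smul, ha1, hp1]
          simp only [Units.val_mul, Matrix.mul_apply, Fin.sum_univ_two]
          module
        · rw [act_mul, hp2, act_add, act_smul, act_smul, ha1, hp1]
          simp only [Units.val_mul, Matrix.mul_apply, Fin.sum_univ_two]
          module
      inv_mem' := by
        intro γ hγ
        have : γ⁻¹ = γ ^ (orderOf γ - 1) := inv_eq_of_mul_eq_one_left (by
          rw [← pow_succ, Nat.sub_add_cancel (orderOf_pos γ), pow_orderOf_eq_one])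
        rw [this]
        generalize orderOf γ - 1 = n
        induction n with
        | zero => exact ⟨1, one_mem M, by simp [act, Matrix.one_mulVec], by simp [act, Matrix.one_mulVec]⟩
        | succ n ih =>
          rw [pow_succ]
          obtain ⟨X, hX, ha1, hp1⟩ := ih
          obtain ⟨Y, hY, ha2, hp2⟩ := hγ
          refine ⟨X * Y, mul_mem hX hY, ?_, ?_⟩
          · rw [act_mul, ha2, act_add, act_smul, act_smul, ha1, hp1]
            simp only [Units.val_mul, Matrix.mul_apply, Fin.sum_univ_two]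
            module
          · rw [act_mul, hp2, act_add, act_smul, act_smul, ha1, hp1]
            simp only [Units.val_mul, Matrix.mul_apply, Fin.sum_univ_two]
            module }
  have hU : ∀ x ∈ C, ∃ γ ∈ Γ, (γ : Matrix (Fin 2) (Fin 2) F) = !![1, x; 0, 1] := by
    rintro _ ⟨y, hy, rfl⟩
    have hy' : polar Q av (rv F₀ (-y)) = 0 := by
      rw [show rv F₀ (-y) = -rv F₀ y from funext fun i => by simp [rv], polar_neg_right, symm hy, neg_zero]
    obtain ⟨h1, h2, hm⟩ := hD a (-y) ha hy'
    refine ⟨Matrix.GeneralLinearGroup.mkOfDetNeZero !![1, polar Q p (rv F₀ y); 0, 1] (by simp [Matrix.det_fin_two]),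
      ⟨_, hm, ?_, ?_⟩, rfl⟩
    · rw [act_sO]
      show _ = (1 : F) • av + (0 : F) • p
      rw [haa, hy']; simp
    · rw [act_sO]
      show _ = polar Q p (rv F₀ y) • av + (1 : F) • p
      rw [hpa, show rv F₀ (-y) = -rv F₀ y from funext fun i => by simp [rv], polar_neg_right]
      module
  obtain ⟨γX, hγX, eX⟩ : ∃ γ ∈ Γ, (γ : Matrix (Fin 2) (Fin 2) F) = !![1, 0; 1, 1] := by
    refine ⟨Matrix.GeneralLinearGroup.mkOfDetNeZero !![1, 0; 1, 1] (by simp [Matrix.det_fin_two]),
      ⟨X, hX, ?_, ?_⟩, rfl⟩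
    · show _ = (1 : F) • av + (1 : F) • p; rw [hXav]; module
    · show _ = (0 : F) • av + (1 : F) • p; rw [hXp]; module
  -- rational images of the orthogonal of the centre
  have himg : ∀ h ∈ M, ∀ α : F, α ≠ 0 → act Q h av = α • av → ∀ b : ι → F₀, polar Q (rv F₀ b) av = 0 →
      ∃ (R : ι → F₀) (l : F), α • act Q h (rv F₀ b) = rv F₀ R + l • av ∧ polar Q (rv F₀ R) av = 0 := by
    intro h hh α hα hha b hb
    obtain ⟨h1, h2, hm⟩ := hD a b ha (symm hb)
    obtain ⟨h1', h2', e⟩ := sO_conj h _ _ h1 h2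
    have hm' := mul_mem (mul_mem hh hm) (inv_mem hh)
    rw [← e] at hm'
    have hA : Am M a (α • act Q h (rv F₀ b)) := by
      have h3 : polar Q av (α • act Q h (rv F₀ b)) = 0 := by
        have := h2'
        rw [← hav, hha, polar_smul_left, smul_eq_mul] at this
        rw [polar_smul_right, (mul_eq_zero.1 this).resolve_left hα, smul_zero]
      refine ⟨ha, h3, ?_⟩
      convert hm' using 1
      refine O_ext Q fun x => ?_
      rw [act_sO, act_sO, ← hav, hha, polar_smul_right, polar_smul_right, Q_smul, smul_eq_mul, smul_eq_mul]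
      module
    exact rep_perp hR ha ha0 (symm hA.orth) fun c hc => rat_of_mem hR hD hno ha0 hA hc
  by_cases hfull : ∀ x : F, x ∈ C
  · -- all diagonal matrices occur
    obtain ⟨s, hs⟩ : ∃ s : F, s ∉ F₀ := by
      by_contra hc
      push Not at hc
      exact hne₁ (hc _)
    have h2 : ∀ α : F, α ≠ 0 → α ^ 2 ∈ F₀ := by
      intro α hα
      obtain ⟨U1, hU1, e1⟩ := hU α (hfull _)
      obtain ⟨U2, hU2, e2⟩ := hU (-1) (hfull _)
      obtain ⟨U3, hU3, e3⟩ := hU α⁻¹ (hfull _)
      obtain ⟨U4, hU4, e4⟩ := hU 1 (hfull _)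
      -- the antidiagonal element
      have hW := mul_mem (mul_mem hU2 hγX) hU2
      have hW' := mul_mem (mul_mem hU4 (inv_mem hγX)) hU4
      have eXi : ((γX⁻¹ : GL (Fin 2) F) : Matrix (Fin 2) (Fin 2) F) = !![1, 0; -1, 1] := by
        rw [Matrix.coe_units_inv, eX, Matrix.inv_def, Matrix.det_fin_two, Matrix.adjugate_fin_two]
        simp
      obtain ⟨h, hh, hha, -⟩ := mul_mem (mul_mem hU1 (mul_mem (mul_mem hW hU3) hW')) (mul_mem hU1 hW)
      have hprod : ((U1 * (U2 * γX * U2 * U3 * (U4 * γX⁻¹ * U4)) * (U1 * (U2 * γX * U2)) : GL (Fin 2) F) :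
          Matrix (Fin 2) (Fin 2) F) = !![α, 0; 0, α⁻¹] := by
        simp only [Units.val_mul, e1, e2, e3, e4, eX, eXi, Matrix.mul_fin_two]
        ext i j
        fin_cases i <;> fin_cases j <;> simp [hα]
      have hha' : act Q h av = α • av := by
        rw [hha, hprod]; simp
      obtain ⟨b, -, -, hbW, hbne⟩ := avoid hR ![a] ![a] (by norm_num)
      obtain ⟨b', -, hb'W, hb'b⟩ := dual hR ![a] (by norm_num) hbne
      obtain ⟨R, l, hR1, hRa⟩ := himg h hh α hα hha' b (hbW 0)
      obtain ⟨R', l', hR1', hRa'⟩ := himg h hh α hα hha' b' (hb'W 0)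
      have := congrArg₂ (polar Q) hR1' hR1
      rw [polar_smul_left, polar_smul_right, polar_act, hb'b, polar_add_left, polar_add_right, polar_add_right,
        polar_smul_left, polar_smul_left, polar_smul_right, polar_smul_right, hRa', symm hRa, haa] at this
      simp only [smul_eq_mul, mul_one, mul_zero, add_zero] at this
      rw [pow_two, this]
      exact pol hR _ _
    have hs1 : s + 1 ≠ 0 := fun e => hs (by rw [eq_neg_of_add_eq_zero_left e]; exact neg_mem (one_mem _))
    have hs0 : s ≠ 0 := fun e => hs (by rw [e]; exact zero_mem _)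
    by_cases h20 : (2 : F) = 0
    · exact hs (mem_of_sq h20 (h2 s hs0))
    · have := sub_mem (sub_mem (h2 _ hs1) (h2 s hs0)) (one_mem F₀)
      rw [show (s + 1) ^ 2 - s ^ 2 - 1 = 2 * s by ring] at this
      exact hs (by
        have h3 := div_mem this (show (2 : F) ∈ F₀ from ofNat_mem F₀ 2)
        rwa [mul_div_cancel_left₀ _ h20] at h3)
  -- multipliers are rational
  let St : Subring F :=
    { carrier := {x | ∀ c ∈ C, x * c ∈ C}
      one_mem' := fun c hc => by rwa [one_mul]
      zero_mem' := fun c _ => by rw [zero_mul]; exact zero_mem C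
      add_mem' := fun {x y} hx hy c hc => by rw [add_mul]; exact add_mem (hx c hc) (hy c hc)
      neg_mem' := fun {x} hx c hc => by rw [neg_mul]; exact neg_mem (hx c hc)
      mul_mem' := fun {x y} hx hy c hc => by rw [mul_assoc]; exact hx _ (hy c hc) }
  let S : Finset F := (Finset.univ.filter fun x : F => x ∈ F₀ ∧ x ≠ 0)
  have hS : ∀ γ ∈ Γ, (γ : Matrix (Fin 2) (Fin 2) F) 1 0 = 0 →
      (γ : Matrix (Fin 2) (Fin 2) F) 0 0 / (γ : Matrix (Fin 2) (Fin 2) F) 1 1 ∈ S := by
    rintro γ ⟨h, hh, hha, hhp⟩ h10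
    rw [h10, zero_smul, add_zero] at hha
    have hdet : (γ : Matrix (Fin 2) (Fin 2) F).det ≠ 0 := (γ.isUnit.map Matrix.detMonoidHom).ne_zero
    rw [Matrix.det_fin_two, h10, mul_zero, sub_zero] at hdet
    set α := (γ : Matrix (Fin 2) (Fin 2) F) 0 0
    set β := (γ : Matrix (Fin 2) (Fin 2) F) 0 1
    set δ := (γ : Matrix (Fin 2) (Fin 2) F) 1 1
    have hα : α ≠ 0 := left_ne_zero_of_mul hdet
    have hδ : δ ≠ 0 := right_ne_zero_of_mul hdet
    refine Finset.mem_filter.2 ⟨Finset.mem_univ _, ?_, div_ne_zero hα hδ⟩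
    by_contra h0
    have hst : α / δ ∈ St := by
      rintro _ ⟨b, hb, rfl⟩
      obtain ⟨R, l, hR1, hRa⟩ := himg h hh α hα hha b hb
      refine ⟨R, hRa, ?_⟩
      have h1 : polar Q (act Q h p) (act Q h (rv F₀ b)) = polar Q p (rv F₀ b) := polar_act Q h _ _
      have h2 : polar Q p (α • act Q h (rv F₀ b)) = polar Q p (rv F₀ R) := by
        rw [hR1, polar_add_right, polar_smul_right, hpa]; simp
      have h3 : polar Q av (act Q h (rv F₀ b)) = 0 := by
        have : polar Q (act Q h av) (act Q h (rv F₀ b)) = 0 := by rw [polar_act]; exact symm hb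
        rwa [hha, polar_smul_left, smul_eq_mul, mul_eq_zero, or_iff_right hα] at this
      rw [hhp, polar_add_left, polar_smul_left, polar_smul_left, h3] at h1
      rw [polar_smul_right] at h2
      simp only [smul_eq_mul, mul_zero, zero_add] at h1 h2
      rw [← h2, ← h1]
      field_simp
    have htop := subring_top F₀ hr hcard St (fun x hx c hc => hCs x hx c hc) hst h0
    push Not at hfull
    obtain ⟨x, hx⟩ := hfull
    have := (show x / l₀ ∈ St by rw [htop]; trivial) l₀ ⟨y₀, hy₀, rfl⟩
    rw [div_mul_cancel₀ _ hl₀] at this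
    exact hx this
  have hScard : S.card + 1 ≤ Nat.card F₀ := by
    have : S.card + 1 = (insert 0 S).card := by
      rw [Finset.card_insert_of_notMem (by simp [S])]
    rw [this, Nat.card_eq_fintype_card, ← Finset.card_univ]
    refine Finset.card_le_card_of_injOn (fun x => if h : x ∈ F₀ then (⟨x, h⟩ : F₀) else 0)
      (fun x _ => Finset.mem_univ _) fun x hx y hy e => ?_
    have mem : ∀ z ∈ insert 0 S, z ∈ F₀ := fun z hz => by
      rcases Finset.mem_insert.1 hz with rfl | h
      · exact zero_mem _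
      · exact (Finset.mem_filter.1 h).2.1
    simp only [dif_pos (mem x hx), dif_pos (mem y hy)] at e
    exact congrArg Subtype.val e
  have hlarge := SubfieldPlane.mult_large Γ C hU ⟨γX, hγX, by simp [eX]⟩ (le_trans (by nlinarith) hCbig) S hS
  nlinarith

end Cfsg.Agent.Classical.SubfieldOrth
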