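import Cfsg.Agent.Lib.Classical.SubfieldLin
import Cfsg.Agent.Lib.Classical.Symplectic

/-!
Subfield subgroups of symplectic groups: new root elements.
-/

set_option autoImplicit false
set_option linter.unusedSectionVars false
set_option maxHeartbeats 1600000

open Module Matrix

namespace Cfsg.Agent.Classical.SubfieldSymp

open SubfieldLin

variable {F : Type*} [Field F] [Fintype F] {ι : Type} [Fintype ι] [DecidableEq ι]
variable (B : LinearMap.BilinForm F (ι → F)) (hA : B.IsAlt) {F₀ : Subfield F}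

local notation "G" => Sp.Grp B
local notation "V" => ι → F

/-- The data: a rational non-degenerate form and a subgroup with the rational transvections. -/
structure Data (M : Subgroup (Sp.Grp B)) (F₀ : Subfield F) : Prop where
  rat : ∀ a b : ι → F₀, B (rv F₀ a) (rv F₀ b) ∈ F₀
  nd : Sp.Nondeg B
  big : 14 ≤ Fintype.card ι
  tr : ∀ a : ι → F₀, ∀ k ∈ F₀, Sp.T B hA (rv F₀ a) k ∈ M

variable {B} {M : Subgroup (Sp.Grp B)} (hD : Data B hA M F₀)

omit [DecidableEq ι] in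
theorem rv_smul (k : F₀) (a : ι → F₀) : rv F₀ (k • a) = (k : F) • rv F₀ a := funext fun i => by simp [rv]

omit [DecidableEq ι] in
theorem rv_add (a b : ι → F₀) : rv F₀ (a + b) = rv F₀ a + rv F₀ b := funext fun i => by simp [rv]

omit [DecidableEq ι] in
theorem rv_sum {m : ℕ} (r : Fin m → F₀) (W : Fin m → ι → F₀) :
    rv F₀ (∑ i, r i • W i) = ∑ i, (r i : F) • rv F₀ (W i) := funext fun j => by
  simp [rv, Finset.sum_apply]

/-- A vector is determined by its products with rational vectors. -/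
theorem eq_of_rat {M : Subgroup (Sp.Grp B)} (hD : Data B hA M F₀) {x y : V}
    (h : ∀ a : ι → F₀, B (rv F₀ a) x = B (rv F₀ a) y) : x = y := by
  by_contra hne
  obtain ⟨z, hz⟩ := hD.nd (x - y) (sub_ne_zero.2 hne)
  refine hz ?_
  have hz' : B z (x - y) = 0 := by
    have hB : B.flip (x - y) = 0 := by
      refine (Pi.basisFun F ι).ext fun i => ?_
      have := h (Pi.single i 1)
      rw [show rv F₀ (Pi.single i (1 : F₀)) = Pi.single i (1 : F) from funext fun k => by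
        simp [rv, Pi.single_apply, apply_ite Subtype.val]] at this
      simp [map_sub, this]
    exact LinearMap.congr_fun hB z
  rw [Sp.alt_neg B hA z (x - y), hz', neg_zero]

include hD

/-- The products of a rational vector with the coordinate vectors. -/
def dualVec (a : ι → F₀) : ι → F₀ := fun i => ⟨B (rv F₀ a) (rv F₀ (Pi.single i 1)), hD.rat _ _⟩

theorem dualVec_dot (a b : ι → F₀) : ((dualVec hA hD a ⬝ᵥ b : F₀) : F) = B (rv F₀ a) (rv F₀ b) := by
  conv_rhs => rw [show b = ∑ i, b i • (Pi.single i 1 : ι → F₀) from by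
    funext j; simp [Finset.sum_apply, Pi.single_apply]]
  have : rv F₀ (∑ i, b i • (Pi.single i 1 : ι → F₀)) = ∑ i, (b i : F) • rv F₀ (Pi.single i 1) := funext fun j => by
    simp [rv, Finset.sum_apply]
  rw [this, map_sum]
  simp [dotProduct, dualVec, mul_comm]

theorem dualVec_inj {a b : ι → F₀} (h : dualVec hA hD a = dualVec hA hD b) : a = b := by
  have : rv F₀ a = rv F₀ b := eq_of_rat hA hD fun c => by
    have h' := congrArg (fun v => ((v ⬝ᵥ c : F₀) : F)) h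
    simp only [dualVec_dot] at h'
    rw [Sp.alt_neg B hA (rv F₀ a) (rv F₀ c), Sp.alt_neg B hA (rv F₀ b) (rv F₀ c), h']
  exact funext fun i => Subtype.ext (congrFun this i)

theorem sp_dual {m : ℕ} (W : Fin m → ι → F₀) {p : ι → F₀} (h : ∀ r : Fin m → F₀, p ≠ ∑ i, r i • W i) :
    ∃ b, (∀ i, B (rv F₀ b) (rv F₀ (W i)) = 0) ∧ B (rv F₀ p) (rv F₀ b) = 1 := by
  obtain ⟨b, hb, hp⟩ := exists_dot F₀ (fun i => dualVec hA hD (W i)) (p := dualVec hA hD p) fun r e => h r (by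
    refine dualVec_inj hA hD (e.trans ?_)
    funext i
    apply Subtype.ext
    show _ = B (rv F₀ (∑ j, r j • W j)) (rv F₀ (Pi.single i 1))
    rw [rv_sum, map_sum, LinearMap.sum_apply]
    simp [dualVec, Finset.sum_apply])
  refine ⟨b, fun i => ?_, ?_⟩
  · rw [Sp.alt_neg B hA (rv F₀ (W i)) (rv F₀ b), ← dualVec_dot hA hD, hb i]; simp
  · rw [← dualVec_dot hA hD, hp]; rfl

theorem sp_avoid {m k : ℕ} (W : Fin m → ι → F₀) (A : Fin k → ι → F₀) (h : m + k < Fintype.card ι) :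
    ∃ c, (∀ i, B (rv F₀ (W i)) (rv F₀ c) = 0) ∧ ∀ r : Fin k → F₀, c ≠ ∑ i, r i • A i := by
  obtain ⟨c, hc, hne⟩ := exists_avoid F₀ (fun i => dualVec hA hD (W i)) A h
  exact ⟨c, fun i => by rw [← dualVec_dot hA hD, hc i]; rfl, hne⟩

theorem sieg_mem {a b : ι → F₀} {k : F} (hk : k ∈ F₀) : Sp.S B hA (rv F₀ a) (rv F₀ b) k ∈ M := by
  rw [Sp.S, ← rv_add]
  exact mul_mem (mul_mem (inv_mem (hD.tr a k hk)) (hD.tr (a + b) k hk)) (inv_mem (hD.tr b k hk))

omit hD in
theorem S_conj (g : G) (u v : V) (c : F) :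
    g * Sp.S B hA u v c * g⁻¹ = Sp.S B hA ((g : V ≃ₗ[F] V) u) ((g : V ≃ₗ[F] V) v) c := by
  simp only [Sp.S]
  rw [show g * ((Sp.T B hA u c)⁻¹ * Sp.T B hA (u + v) c * (Sp.T B hA v c)⁻¹) * g⁻¹ =
    (g * Sp.T B hA u c * g⁻¹)⁻¹ * (g * Sp.T B hA (u + v) c * g⁻¹) * (g * Sp.T B hA v c * g⁻¹)⁻¹ by group,
    Sp.conj_T, Sp.conj_T, Sp.conj_T, map_add]

omit hD in
theorem S_comm {u v : V} (h : B u v = 0) (c : F) : Sp.S B hA u v c = Sp.S B hA v u c := by
  refine Sp.Grp.ext' B fun x => ?_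
  rw [Sp.S_apply B hA h, Sp.S_apply B hA (by rw [Sp.alt_neg B hA u v, h, neg_zero])]
  abel

omit hD in
theorem S_smul_right {u v : V} (h : B u v = 0) (r c : F) : Sp.S B hA u (r • v) c = Sp.S B hA u v (r * c) := by
  refine Sp.Grp.ext' B fun x => ?_
  rw [Sp.S_apply B hA h, Sp.S_apply B hA (by simp [h])]
  simp only [map_smul, smul_eq_mul]
  module

omit hD in
theorem S_mul {u v w : V} (huv : B u v = 0) (huw : B u w = 0) (c : F) :
    Sp.S B hA u v c * Sp.S B hA u w c = Sp.S B hA u (v + w) c * Sp.T B hA u (c * c * B w v) := by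
  have h1 : B v u = 0 := by rw [Sp.alt_neg B hA u v, huv, neg_zero]
  have h2 : B w u = 0 := by rw [Sp.alt_neg B hA u w, huw, neg_zero]
  refine Sp.Grp.ext' B fun x => ?_
  rw [Sp.Grp.mul_apply, Sp.Grp.mul_apply, Sp.S_apply B hA huw, Sp.S_apply B hA huv,
    Sp.S_apply B hA (by simp [huv, huw] : B u (v + w) = 0), Sp.T_apply]
  simp only [map_add, map_smul, LinearMap.add_apply, LinearMap.smul_apply, smul_eq_mul,
    hA.self_eq_zero, huv, huw, h1, h2, mul_zero, add_zero]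
  module

/-- The parameters of all short root elements at rational places. -/
def Good (M : Subgroup (Sp.Grp B)) (F₀ : Subfield F) (s : F) : Prop :=
  ∀ a b : ι → F₀, B (rv F₀ a) (rv F₀ b) = 0 → a ≠ 0 → (∀ r : F₀, b ≠ r • a) →
    Sp.S B hA (rv F₀ a) (rv F₀ b) s ∈ M

omit hD in
/-- The basic commutator. -/
theorem short_of_move {M : Subgroup (Sp.Grp B)} {X : G} (hX : X ∈ M) {b c d : V} {s t : F}
    (hbd : B b d = 0) (hcd : B c d = 0) (hbc : B b c = 0) (hm : Sp.S B hA d b t ∈ M)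
    (h1 : (X : V ≃ₗ[F] V) b = b - s • c) (h2 : (X : V ≃ₗ[F] V) d = d) : Sp.S B hA d c (s * t) ∈ M := by
  have h := mul_mem (mul_mem hX hm) (inv_mem hX)
  have hdb : B d b = 0 := by rw [Sp.alt_neg B hA b d, hbd, neg_zero]
  have hdc : B d c = 0 := by rw [Sp.alt_neg B hA c d, hcd, neg_zero]
  rw [S_conj hA, h1, h2, show b - s • c = b + (-s) • c by module] at h
  have h3 := S_mul hA (u := d) (v := b) (w := (-s) • c) hdb (by simp [hdc]) t
  rw [show B ((-s) • c) b = 0 by simp [Sp.alt_neg B hA b c, hbc], mul_zero, Sp.T_zero, mul_one,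
    S_smul_right hA hdc] at h3
  rw [← h3] at h
  have h4 : Sp.S B hA d c (-s * t) ∈ M := (mul_mem_cancel_left hm).1 h
  have h5 := inv_mem h4
  rw [← Sp.S_neg B hA hdc, ← neg_one_smul F c, S_smul_right hA hdc] at h5
  rwa [show (-1 : F) * (-s * t) = s * t by ring] at h5

/-- Multiplying parameters. -/
theorem good_step {a c d : ι → F₀} {s : F} (hac : B (rv F₀ a) (rv F₀ c) = 0)
    (hda : B (rv F₀ a) (rv F₀ d) = 0) (hdc : B (rv F₀ c) (rv F₀ d) = 0)
    (hne : ∀ r : Fin 2 → F₀, a ≠ ∑ i, r i • ![c, d] i) (hm : Sp.S B hA (rv F₀ a) (rv F₀ c) s ∈ M) {t : F}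
    (hall : ∀ b : ι → F₀, B (rv F₀ b) (rv F₀ d) = 0 → B (rv F₀ a) (rv F₀ b) = 1 →
      Sp.S B hA (rv F₀ d) (rv F₀ b) t ∈ M) :
    Sp.S B hA (rv F₀ d) (rv F₀ c) (s * t) ∈ M := by
  obtain ⟨b, hb, hab⟩ := sp_dual hA hD ![c, d] hne
  have hbc : B (rv F₀ b) (rv F₀ c) = 0 := hb 0
  have hbd : B (rv F₀ b) (rv F₀ d) = 0 := hb 1
  refine short_of_move hA hm hbd hdc hbc (hall b hbd hab) ?_ ?_
  · rw [Sp.S_apply B hA hac, hbc, Sp.alt_neg B hA (rv F₀ a) (rv F₀ b), hab]
    module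
  · rw [Sp.S_apply B hA hac, Sp.alt_neg B hA (rv F₀ a) (rv F₀ d), hda,
      Sp.alt_neg B hA (rv F₀ c) (rv F₀ d), hdc]
    simp

theorem good_of_one {s : F} {a c : ι → F₀} (hac : B (rv F₀ a) (rv F₀ c) = 0) (ha : a ≠ 0)
    (hne : ∀ r : F₀, c ≠ r • a) (hm : Sp.S B hA (rv F₀ a) (rv F₀ c) s ∈ M) : Good hA M F₀ s := by
  have walk : ∀ a c d : ι → F₀, B (rv F₀ a) (rv F₀ c) = 0 → B (rv F₀ a) (rv F₀ d) = 0 →
      B (rv F₀ c) (rv F₀ d) = 0 → (∀ r : Fin 2 → F₀, a ≠ ∑ i, r i • ![c, d] i) →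
      Sp.S B hA (rv F₀ a) (rv F₀ c) s ∈ M → Sp.S B hA (rv F₀ c) (rv F₀ d) s ∈ M := by
    intro a c d hac hda hdc hne hm
    have := good_step hA hD hac hda hdc hne hm (t := 1) fun b _ _ => sieg_mem hA hD (one_mem _)
    rw [mul_one, ← S_comm hA hdc] at this
    exact this
  intro p q hpq hp hpqne
  obtain ⟨d, hd, hdne⟩ := sp_avoid hA hD ![a, c, p, q] ![a, c, p, q] (by have := hD.big; omega)
  obtain ⟨e, he, hene⟩ := sp_avoid hA hD ![c, d, p, q] ![c, d, p, q] (by have := hD.big; omega)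
  have had : B (rv F₀ a) (rv F₀ d) = 0 := hd 0
  have hcd : B (rv F₀ c) (rv F₀ d) = 0 := hd 1
  have hpd : B (rv F₀ p) (rv F₀ d) = 0 := hd 2
  have hce : B (rv F₀ c) (rv F₀ e) = 0 := he 0
  have hde : B (rv F₀ d) (rv F₀ e) = 0 := he 1
  have hpe : B (rv F₀ p) (rv F₀ e) = 0 := he 2
  have hqe : B (rv F₀ q) (rv F₀ e) = 0 := he 3
  have symm : ∀ {x y : V}, B x y = 0 → B y x = 0 := fun {x y} h => by rw [Sp.alt_neg B hA x y, h, neg_zero]
  have h1 := walk a c d hac had hcd (fun r e' => by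
    simp only [Fin.sum_univ_two, Matrix.cons_val_zero, Matrix.cons_val_one] at e'
    rcases eq_or_ne (r 1) 0 with h0 | h0
    · rw [h0, zero_smul, add_zero] at e'
      rcases eq_or_ne (r 0) 0 with h2 | h2
      · exact ha (by rw [e', h2, zero_smul])
      · exact hne (r 0)⁻¹ (by rw [e', inv_smul_smul₀ h2])
    · refine hdne ![(r 1)⁻¹, -(r 1)⁻¹ * r 0, 0, 0] ?_
      simp only [Fin.sum_univ_four, Matrix.cons_val_zero, Matrix.cons_val_one, Matrix.cons_val_two,
        Matrix.cons_val_three, Matrix.tail_cons, Matrix.head_cons]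
      rw [e', smul_add, inv_smul_smul₀ h0]
      module) hm
  have hc0 : c ≠ 0 := fun e' => hne 0 (by rw [e', zero_smul])
  have h2 := walk c d e hcd hce hde (fun r e' => by
    simp only [Fin.sum_univ_two, Matrix.cons_val_zero, Matrix.cons_val_one] at e'
    rcases eq_or_ne (r 1) 0 with h0 | h0
    · rw [h0, zero_smul, add_zero] at e'
      rcases eq_or_ne (r 0) 0 with h2 | h2
      · exact hc0 (by rw [e', h2, zero_smul])
      · refine hdne ![0, (r 0)⁻¹, 0, 0] ?_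
        simp [Fin.sum_univ_four, e', h2]
    · refine hene ![(r 1)⁻¹, -(r 1)⁻¹ * r 0, 0, 0] ?_
      simp only [Fin.sum_univ_four, Matrix.cons_val_zero, Matrix.cons_val_one, Matrix.cons_val_two,
        Matrix.cons_val_three, Matrix.tail_cons, Matrix.head_cons]
      rw [e', smul_add, inv_smul_smul₀ h0]
      module) h1
  have h3 := walk d e p hde (symm hpd) (symm hpe) (fun r e' => by
    simp only [Fin.sum_univ_two, Matrix.cons_val_zero, Matrix.cons_val_one] at e'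
    rcases eq_or_ne (r 0) 0 with h0 | h0
    · refine hdne ![0, 0, r 1, 0] ?_
      simp [Fin.sum_univ_four, e', h0]
    · refine hene ![0, (r 0)⁻¹, -(r 0)⁻¹ * r 1, 0] ?_
      simp only [Fin.sum_univ_four, Matrix.cons_val_zero, Matrix.cons_val_one, Matrix.cons_val_two,
        Matrix.cons_val_three, Matrix.tail_cons, Matrix.head_cons]
      rw [e', smul_add, inv_smul_smul₀ h0]
      module) h2
  exact walk e p q (symm hpe) (symm hqe) hpq (fun r e' => by
    simp only [Fin.sum_univ_two, Matrix.cons_val_zero, Matrix.cons_val_one] at e'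
    refine hene ![0, 0, r 0, r 1] ?_
    simp [Fin.sum_univ_four, e']) h3

theorem good_mul {s t : F} (hs : Good hA M F₀ s) (ht : Good hA M F₀ t) : Good hA M F₀ (s * t) := by
  intro d c hdc hd hne
  have hcd : B (rv F₀ c) (rv F₀ d) = 0 := by rw [Sp.alt_neg B hA (rv F₀ d) (rv F₀ c), hdc, neg_zero]
  obtain ⟨a, ha, hane⟩ := sp_avoid hA hD ![c, d] ![c, d] (by have := hD.big; omega)
  have hac : B (rv F₀ a) (rv F₀ c) = 0 := by
    rw [Sp.alt_neg B hA (rv F₀ c) (rv F₀ a), show B (rv F₀ c) (rv F₀ a) = 0 from ha 0, neg_zero]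
  have had : B (rv F₀ a) (rv F₀ d) = 0 := by
    rw [Sp.alt_neg B hA (rv F₀ d) (rv F₀ a), show B (rv F₀ d) (rv F₀ a) = 0 from ha 1, neg_zero]
  refine good_step hA hD hac had hcd hane (hs a c hac (fun e => hane 0 (by simp [e])) fun r e => ?_)
    fun b hbd hab => ht d b (by rw [Sp.alt_neg B hA (rv F₀ b) (rv F₀ d), hbd, neg_zero]) hd fun r e => ?_
  · rcases eq_or_ne r 0 with rfl | hr
    · exact hne 0 (by rw [e, zero_smul, zero_smul])
    · refine hane ![r⁻¹, 0] ?_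
      simp [Fin.sum_univ_two, e, hr]
  · rw [e, rv_smul, map_smul, had, smul_zero] at hab
    exact zero_ne_one hab

/-- Two transvections with the same rational weight and shifted centres. -/
theorem good_of_shift {r w : ι → F₀} {k s : F} (hk : k ∈ F₀) (hk0 : k ≠ 0) (hrw : B (rv F₀ r) (rv F₀ w) = 0)
    (hw : w ≠ 0) (hr : ∀ l : F₀, r ≠ l • w) (hm : Sp.T B hA (rv F₀ r + s • rv F₀ w) k ∈ M) : Good hA M F₀ s := by
  obtain ⟨b₀, hb₀, hrb⟩ := sp_dual hA hD ![w] (p := r) fun l e => hr (l 0) (by simpa using e)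
  set b := (-(⟨k, hk⟩ : F₀)⁻¹) • b₀ with hb
  have hbw : B (rv F₀ b) (rv F₀ w) = 0 := by
    rw [hb, rv_smul, map_smul, LinearMap.smul_apply, show B (rv F₀ b₀) (rv F₀ w) = 0 from hb₀ 0, smul_zero]
  have hbr : k * B (rv F₀ b) (rv F₀ r) = 1 := by
    rw [hb, rv_smul, map_smul, LinearMap.smul_apply, Sp.alt_neg B hA (rv F₀ r) (rv F₀ b₀), hrb]
    simp [hk0]
  obtain ⟨d, hd, hdne⟩ := sp_avoid hA hD ![w, r, b] ![w] (by have := hD.big; omega)
  have hwd : B (rv F₀ w) (rv F₀ d) = 0 := hd 0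
  have hrd : B (rv F₀ r) (rv F₀ d) = 0 := hd 1
  have hbd : B (rv F₀ b) (rv F₀ d) = 0 := hd 2
  have hdw : B (rv F₀ d) (rv F₀ w) = 0 := by rw [Sp.alt_neg B hA (rv F₀ w) (rv F₀ d), hwd, neg_zero]
  have hdr : B (rv F₀ d) (rv F₀ r) = 0 := by rw [Sp.alt_neg B hA (rv F₀ r) (rv F₀ d), hrd, neg_zero]
  set X := Sp.T B hA (rv F₀ r + s • rv F₀ w) k * Sp.T B hA (rv F₀ r) (-k) with hX
  have hXM : X ∈ M := mul_mem hm (hD.tr r _ (neg_mem hk))
  have h1 : (X : V ≃ₗ[F] V) (rv F₀ b) = rv F₀ b - (-s) • rv F₀ w := by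
    rw [hX, Sp.Grp.mul_apply, Sp.T_apply, Sp.T_apply]
    simp only [map_add, map_smul, LinearMap.add_apply, LinearMap.smul_apply, smul_eq_mul, hbw, hrw, hA.self_eq_zero,
      mul_zero, add_zero]
    rw [neg_mul, hbr]
    module
  have h2 : (X : V ≃ₗ[F] V) (rv F₀ d) = rv F₀ d := by
    rw [hX, Sp.Grp.mul_apply, Sp.T_apply, Sp.T_apply]
    simp [map_add, hdw, hdr]
  have h3 := short_of_move hA hXM hbd hwd hbw (sieg_mem hA hD (neg_mem (one_mem F₀))) h1 h2
  rw [show -s * -1 = s by ring] at h3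
  exact good_of_one hA hD hdw (fun e => hdne 0 (by simp [e])) (fun l e => by
    rcases eq_or_ne l 0 with rfl | hl
    · exact hw (by rw [e, zero_smul])
    · refine hdne ![l⁻¹] ?_
      simp [e, hl]) h3

/-- A transvection with an irrational centre orthogonal to a rational vector. -/
theorem exists_good_perp {v : V} {k : F} (hk : k ∈ F₀) (hk0 : k ≠ 0) (hm : Sp.T B hA v k ∈ M)
    (hv : ∀ (l : F) (a : ι → F₀), v ≠ l • rv F₀ a) {w : ι → F₀} (hw : w ≠ 0) (hwv : B (rv F₀ w) v = 0) :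
    ∃ s, s ∉ F₀ ∧ Good hA M F₀ s := by
  by_contra hno
  have symm : ∀ {x y : V}, B x y = 0 → B y x = 0 := fun {x y} h => by rw [Sp.alt_neg B hA x y, h, neg_zero]
  -- products of two values are rational
  have hprod : ∀ b d : ι → F₀, B (rv F₀ b) (rv F₀ w) = 0 → B (rv F₀ d) (rv F₀ w) = 0 →
      k * B (rv F₀ b) v * B (rv F₀ d) v ∈ F₀ := by
    intro b d hb hd
    by_contra hs
    have hdw' : ∀ l : F₀, d ≠ l • w := fun l e => hs (by
      rw [e, rv_smul, map_smul, LinearMap.smul_apply, hwv, smul_zero, mul_zero]; exact zero_mem _)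
    set t := k * B (rv F₀ b) v
    have hX := mul_mem (mul_mem hm (sieg_mem hA hD (a := w) (b := b) (one_mem F₀))) (inv_mem hm)
    rw [S_conj hA, Sp.T_apply, Sp.T_apply, hwv, mul_zero, zero_smul, add_zero] at hX
    have h3 := S_mul hA (u := rv F₀ w) (v := rv F₀ b) (w := t • v) (symm hb) (by simp [hwv]) (1 : F)
    have hE : Sp.S B hA (rv F₀ w) (t • v) 1 * (Sp.T B hA (rv F₀ w) (1 * 1 * B (t • v) (rv F₀ b)))⁻¹ ∈ M := by
      have e : Sp.S B hA (rv F₀ w) (rv F₀ b + t • v) 1 = Sp.S B hA (rv F₀ w) (rv F₀ b) 1 *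
          Sp.S B hA (rv F₀ w) (t • v) 1 * (Sp.T B hA (rv F₀ w) (1 * 1 * B (t • v) (rv F₀ b)))⁻¹ := by
        rw [h3, mul_inv_cancel_right]
      rw [e, mul_assoc] at hX
      exact (mul_mem_cancel_left (sieg_mem hA hD (one_mem F₀))).1 hX
    set E := Sp.S B hA (rv F₀ w) (t • v) 1 * (Sp.T B hA (rv F₀ w) (1 * 1 * B (t • v) (rv F₀ b)))⁻¹
    have hEd : (E : V ≃ₗ[F] V) (rv F₀ d) = rv F₀ d + (t * B (rv F₀ d) v) • rv F₀ w := by
      show ((_ * _ : G) : V ≃ₗ[F] V) _ = _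
      rw [Sp.T_inv, Sp.Grp.mul_apply, Sp.T_apply, hd, mul_zero, zero_smul, add_zero,
        Sp.S_apply B hA (by simp [hwv]), hd]
      simp only [map_smul, smul_eq_mul]
      module
    have hT := mul_mem (mul_mem hE (hD.tr d 1 (one_mem _))) (inv_mem hE)
    rw [Sp.conj_T, hEd] at hT
    exact hno ⟨_, hs, good_of_shift hA hD (one_mem _) one_ne_zero hd hw hdw' hT⟩
  obtain ⟨z, -, hwz⟩ := sp_dual hA hD (![] : Fin 0 → ι → F₀) (p := w) fun r e => hw (by simpa using e)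
  have hzw : B (rv F₀ z) (rv F₀ w) = -1 := by rw [Sp.alt_neg B hA (rv F₀ w) (rv F₀ z), hwz]
  set μ := -B (rv F₀ z) v with hμ
  let proj : (ι → F₀) → (ι → F₀) := fun x => x + (⟨B (rv F₀ x) (rv F₀ w), hD.rat _ _⟩ : F₀) • z
  have hproj : ∀ x, B (rv F₀ (proj x)) (rv F₀ w) = 0 := fun x => by
    rw [rv_add, rv_smul, map_add, LinearMap.add_apply, map_smul, LinearMap.smul_apply, hzw]; simp
  have hval : ∀ x, B (rv F₀ x) v - μ * B (rv F₀ x) (rv F₀ w) = B (rv F₀ (proj x)) v := fun x => by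
    rw [rv_add, rv_smul, map_add, LinearMap.add_apply, map_smul, LinearMap.smul_apply, hμ]
    simp only [smul_eq_mul]
    ring
  by_cases hall : ∀ x, B (rv F₀ (proj x)) v = 0
  · refine hv μ w (eq_of_rat hA hD fun x => ?_)
    have := hval x
    rw [hall x, sub_eq_zero] at this
    rw [this, map_smul, smul_eq_mul]
  push Not at hall
  obtain ⟨x₀, hx₀⟩ := hall
  set c₀ := B (rv F₀ (proj x₀)) v
  have hc2 : k * c₀ * c₀ ∈ F₀ := hprod _ _ (hproj x₀) (hproj x₀)
  have hc0' : k * c₀ * c₀ ≠ 0 := mul_ne_zero (mul_ne_zero hk0 hx₀) hx₀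
  have hrat : ∀ x, (B (rv F₀ x) v - μ * B (rv F₀ x) (rv F₀ w)) / c₀ ∈ F₀ := fun x => by
    rw [hval, show B (rv F₀ (proj x)) v / c₀ = k * B (rv F₀ (proj x)) v * c₀ / (k * c₀ * c₀) by
      rw [mul_div_mul_right _ _ hx₀, mul_div_mul_left _ _ hk0]]
    exact div_mem (hprod _ _ (hproj x) (hproj x₀)) hc2
  set r' : V := c₀⁻¹ • (v - μ • rv F₀ w) with hr'
  have hr'val : ∀ x, B (rv F₀ x) r' ∈ F₀ := fun x => by
    rw [hr', map_smul, map_sub, map_smul, smul_eq_mul, smul_eq_mul, ← div_eq_inv_mul]; exact hrat x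
  -- `r'` is rational
  obtain ⟨r, hr⟩ : ∃ r : ι → F₀, rv F₀ r = r' := by
    let f : (ι → F₀) →ₗ[F₀] (ι → F₀) :=
      { toFun := fun a => dualVec hA hD a
        map_add' := fun a b => funext fun i => Subtype.ext (by simp [dualVec, rv_add])
        map_smul' := fun c a => funext fun i => Subtype.ext (by simp [dualVec, rv_smul]) }
    have hf : Function.Injective f := fun a b h => dualVec_inj hA hD h
    obtain ⟨r, hr⟩ := (LinearMap.injective_iff_surjective (f := f)).1 hf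
      fun i => -⟨_, hr'val (Pi.single i 1)⟩
    refine ⟨r, eq_of_rat hA hD fun a => ?_⟩
    have hB : B (rv F₀ r) = -(B.flip r') := by
      refine (Pi.basisFun F ι).ext fun i => ?_
      have := congrArg Subtype.val (congrFun hr i)
      simp only [f, LinearMap.coe_mk, AddHom.coe_mk, dualVec] at this
      have e : rv F₀ (Pi.single i (1 : F₀)) = Pi.single i (1 : F) := funext fun k => by
        simp [rv, Pi.single_apply, apply_ite Subtype.val]
      simp only [Pi.basisFun_apply, LinearMap.neg_apply, LinearMap.BilinForm.flip_apply]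
      rw [← e, this]
      simp
    have h5 := LinearMap.congr_fun hB (rv F₀ a)
    simp only [LinearMap.neg_apply, LinearMap.BilinForm.flip_apply] at h5
    rw [Sp.alt_neg B hA (rv F₀ r) (rv F₀ a), h5, neg_neg]
  have hvdec : v = c₀ • rv F₀ r + μ • rv F₀ w := by rw [hr, hr', smul_inv_smul₀ hx₀]; module
  have hrw : B (rv F₀ r) (rv F₀ w) = 0 := by
    apply symm
    rw [hr, hr', map_smul, map_sub, map_smul, hwv, hA.self_eq_zero]; simp
  have hrne : ∀ l : F₀, r ≠ l • w := fun l e => hv (c₀ * l + μ) w (by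
    conv_lhs => rw [hvdec, e, rv_smul]
    module)
  have hk1 : μ / c₀ ∉ F₀ := fun h => hv c₀ (r + (⟨_, h⟩ : F₀) • w) (by
    conv_lhs => rw [hvdec]
    rw [rv_add, rv_smul, smul_add, smul_smul, mul_div_cancel₀ _ hx₀])
  refine hno ⟨_, hk1, good_of_shift hA hD hc2 hc0' hrw hw hrne ?_⟩
  have : Sp.T B hA v k = Sp.T B hA (rv F₀ r + (μ / c₀) • rv F₀ w) (k * c₀ * c₀) := by
    rw [show v = c₀ • (rv F₀ r + (μ / c₀) • rv F₀ w) by
      conv_lhs => rw [hvdec]
      rw [smul_add, smul_smul, mul_div_cancel₀ _ hx₀], Sp.T_smul]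
    congr 1; ring
  rwa [this] at hm

end Cfsg.Agent.Classical.SubfieldSymp
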