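import Cfsg.Agent.Lib.Classical.SubfieldSympMax
import Cfsg.Agent.Lib.Classical.SymplecticMatrix

/-!
Subfield subgroups of the matrix symplectic group are maximal.
-/

set_option autoImplicit false
set_option linter.unusedSectionVars false
set_option maxHeartbeats 800000

open Module Matrix

namespace Cfsg.Agent.Classical.SubfieldSymp

open SubfieldLin MaxLin

variable {F : Type*} [Field F] [Fintype F] {m : ℕ}

local notation "ι" => Fin m ⊕ Fin m
local notation "V" => ι → F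

/-- The rescaled form in the given basis. -/
noncomputable def form (P : GL (Fin m ⊕ Fin m) F) (ζ : F) : LinearMap.BilinForm F (Fin m ⊕ Fin m → F) :=
  ζ • (Sp.sympB F m).compl₁₂ (Matrix.toLin' (P : Matrix (Fin m ⊕ Fin m) (Fin m ⊕ Fin m) F))
    (Matrix.toLin' (P : Matrix (Fin m ⊕ Fin m) (Fin m ⊕ Fin m) F))

theorem form_apply (P : GL ι F) (ζ : F) (u v : V) :
    form P ζ u v = ζ * Cfsg.sympForm m F ((P : Matrix ι ι F) *ᵥ u) ((P : Matrix ι ι F) *ᵥ v) := by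
  simp [form, Sp.sympB_apply]

theorem sp_subfield_maximal (hm : 7 ≤ m) (F₀ : Subfield F) {r : ℕ} (hr : r.Prime)
    (hcard : Nat.card F = Nat.card F₀ ^ r) (P : GL ι F) (ζ : F) (hζ : ζ ≠ 0)
    (hP : Cfsg.Geo.IsFormRationalStructure (Cfsg.sympForm m F) F₀ ζ P) :
    Cfsg.Geo.IsMaximalIn (Cfsg.spGL m F) (Cfsg.Geo.subfieldSubgroup F₀ P ⊓ Cfsg.spGL m F) := by
  classical
  set B := form P ζ with hB
  have hAB : B.IsAlt := fun u => by
    rw [hB, form_apply, ← Sp.sympB_apply, (Sp.sympB_isAlt (F := F) m).self_eq_zero, mul_zero]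
  have hnd : Sp.Nondeg B := fun u hu => by
    obtain ⟨v, hv⟩ := Sp.sympB_nondeg (F := F) m ((P : Matrix ι ι F) *ᵥ u) fun e => hu (by
      rw [← gl_inv_mulVec' P u, e, Matrix.mulVec_zero])
    refine ⟨((P⁻¹ : GL ι F) : Matrix ι ι F) *ᵥ v, ?_⟩
    rw [hB, form_apply, gl_inv_mulVec, ← Sp.sympB_apply]
    exact mul_ne_zero hζ hv
  have hrat : ∀ a b : ι → F₀, B (rv F₀ a) (rv F₀ b) ∈ F₀ := fun a b => by
    rw [hB, form_apply]; exact hP _ _ (fun i => (a i).2) fun i => (b i).2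
  have hbig : 14 ≤ Fintype.card ι := by simp; omega
  -- transvections as matrices
  have hT : ∀ (a : ι → F₀) (k : F), ∃ A : GL ι F, A ∈ Cfsg.spGL m F ∧
      (∀ x, ((P⁻¹ * A * P : GL ι F) : Matrix ι ι F) *ᵥ x = x + (k * B x (rv F₀ a)) • rv F₀ a) ∧
      (k ∈ F₀ → A ∈ Cfsg.Geo.subfieldSubgroup F₀ P) := by
    intro a k
    have h0 : ((k • B.flip (rv F₀ a)) : Dual F (ι → F)) (rv F₀ a) = 0 := by
      simp [hAB.self_eq_zero]
    set T := transGL (k • B.flip (rv F₀ a) : Dual F (ι → F)) (rv F₀ a) h0 with hT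
    have hTx : ∀ x, (T : Matrix ι ι F) *ᵥ x = x + (k * B x (rv F₀ a)) • rv F₀ a := fun x => by
      rw [hT, transGL_apply]; rfl
    refine ⟨P * T * P⁻¹, fun u v => ?_, fun x => ?_, fun hk => ?_⟩
    · have key : ∀ x y : V, B ((T : Matrix ι ι F) *ᵥ x) ((T : Matrix ι ι F) *ᵥ y) = B x y := fun x y => by
        rw [hTx, hTx]
        simp only [map_add, map_smul, LinearMap.add_apply, LinearMap.smul_apply, smul_eq_mul, hAB.self_eq_zero,
          Sp.alt_neg B hAB y (rv F₀ a)]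
        ring
      have h := key (((P⁻¹ : GL ι F) : Matrix ι ι F) *ᵥ u) (((P⁻¹ : GL ι F) : Matrix ι ι F) *ᵥ v)
      rw [hB, form_apply, form_apply, gl_inv_mulVec, gl_inv_mulVec] at h
      show Cfsg.sympForm m F (((P * T * P⁻¹ : GL ι F) : Matrix ι ι F) *ᵥ u)
        (((P * T * P⁻¹ : GL ι F) : Matrix ι ι F) *ᵥ v) = Cfsg.sympForm m F u v
      rw [Units.val_mul, Units.val_mul, ← Matrix.mulVec_mulVec, ← Matrix.mulVec_mulVec, ← Matrix.mulVec_mulVec,
        ← Matrix.mulVec_mulVec]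
      exact mul_left_cancel₀ hζ h
    · rw [show P⁻¹ * (P * T * P⁻¹) * P = T by group, hTx]
    · rw [SubfieldMem.mem_iff]
      refine ⟨1, T, one_ne_zero, fun i j => ?_, by rw [show P⁻¹ * (P * T * P⁻¹) * P = T by group, one_smul]⟩
      have h := congrFun (hTx (Pi.single j 1)) i
      rw [Matrix.mulVec_single_one] at h
      rw [show (T : Matrix ι ι F) i j = _ from h]
      have e : (Pi.single j 1 : V) = rv F₀ (Pi.single j 1) := funext fun l => by
        simp [rv, Pi.single_apply, apply_ite Subtype.val]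
      rw [e]
      exact add_mem (Subtype.property _) (mul_mem (mul_mem hk (hrat _ _)) (a i).2)
  obtain ⟨s, hs⟩ : ∃ s : F, s ∉ F₀ := by
    by_contra hc
    push Not at hc
    have h1 : Nat.card F₀ = Nat.card F := Nat.card_congr
      { toFun := fun x => x.1, invFun := fun x => ⟨x, hc x⟩, left_inv := fun _ => rfl, right_inv := fun _ => rfl }
    rw [← h1] at hcard
    have h2 : 2 ≤ Nat.card F₀ := Finite.one_lt_card
    have := Nat.pow_lt_pow_right h2 hr.one_lt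
    rw [pow_one] at this
    omega
  have hTop : SubfieldSymp.Data B hAB (⊤ : Subgroup (Sp.Grp B)) F₀ := ⟨hrat, hnd, hbig, fun _ _ _ => trivial⟩
  refine ⟨lt_of_le_of_ne inf_le_right fun e => ?_, fun M h1 h2 => ?_⟩
  · obtain ⟨a, -, hane⟩ := sp_avoid hAB hTop (![] : Fin 0 → ι → F₀) ![(0 : ι → F₀)] (by omega)
    obtain ⟨b, -, hab⟩ := sp_dual hAB hTop (![] : Fin 0 → ι → F₀) (p := a) fun r e' => hane 0 (by simpa using e')
    obtain ⟨A, hA1, hA2, -⟩ := hT a s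
    obtain ⟨l, y, hy, hAy⟩ := SubfieldMem.rat_image F₀ P (e.ge hA1).1 (y := (P : Matrix ι ι F) *ᵥ rv F₀ b)
      fun i => by rw [gl_inv_mulVec']; exact (b i).2
    set e' : ι → F₀ := fun i => ⟨_, hy i⟩
    have h3 : rv F₀ b + (s * B (rv F₀ b) (rv F₀ a)) • rv F₀ a = l • rv F₀ e' := by
      rw [← hA2, Units.val_mul, Units.val_mul, ← Matrix.mulVec_mulVec, ← Matrix.mulVec_mulVec, hAy,
        Matrix.mulVec_smul]
      rfl
    have hl : l ∈ F₀ := by
      have h4 := congrArg (fun z => B z (rv F₀ a)) h3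
      simp only [map_add, map_smul, LinearMap.add_apply, LinearMap.smul_apply, hAB.self_eq_zero, smul_zero,
        add_zero, smul_eq_mul] at h4
      have hne : B (rv F₀ e') (rv F₀ a) ≠ 0 := fun e0 => by
        rw [e0, Sp.alt_neg B hAB (rv F₀ a) (rv F₀ b), hab] at h4
        exact one_ne_zero (α := F) (by linear_combination -h4)
      rw [show l = B (rv F₀ b) (rv F₀ a) / B (rv F₀ e') (rv F₀ a) by
        rw [eq_div_iff hne]; linear_combination -h4]
      exact div_mem (hrat _ _) (hrat _ _)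
    have h4 := congrArg (fun z => B z (rv F₀ b)) h3
    simp only [map_add, map_smul, LinearMap.add_apply, LinearMap.smul_apply, hAB.self_eq_zero, zero_add, hab,
      smul_eq_mul, mul_one, Sp.alt_neg B hAB (rv F₀ a) (rv F₀ b)] at h4
    exact hs (by
      rw [show s = -(l * B (rv F₀ e') (rv F₀ b)) by linear_combination -h4]
      exact neg_mem (mul_mem hl (hrat _ _)))
  by_cases hne : ∀ g ∈ M, g ∈ Cfsg.Geo.subfieldSubgroup F₀ P
  · exact Or.inl (le_antisymm (le_inf hne h2) h1)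
  right
  push Not at hne
  obtain ⟨g, hgM, hgS⟩ := hne
  let M' : Subgroup (Sp.Grp B) :=
    { carrier := {X | ∃ A ∈ M, ∀ x, (X : V ≃ₗ[F] V) x = ((P⁻¹ * A * P : GL ι F) : Matrix ι ι F) *ᵥ x}
      one_mem' := ⟨1, one_mem M, fun x => by simp⟩
      mul_mem' := by
        rintro X Y ⟨A, hA, eA⟩ ⟨A', hA', eA'⟩
        refine ⟨A * A', mul_mem hA hA', fun x => ?_⟩
        rw [show P⁻¹ * (A * A') * P = P⁻¹ * A * P * (P⁻¹ * A' * P) by group, Units.val_mul,
          ← Matrix.mulVec_mulVec, ← eA', ← eA]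
        rfl
      inv_mem' := by
        rintro X ⟨A, hA, eA⟩
        refine ⟨A⁻¹, inv_mem hA, fun x => (X : V ≃ₗ[F] V).injective ?_⟩
        rw [eA (((P⁻¹ * A⁻¹ * P : GL ι F) : Matrix ι ι F) *ᵥ x), Matrix.mulVec_mulVec, ← Units.val_mul,
          show P⁻¹ * A * P * (P⁻¹ * A⁻¹ * P) = 1 by group, Units.val_one, Matrix.one_mulVec]
        exact (X : V ≃ₗ[F] V).apply_symm_apply x }
  have hD : SubfieldSymp.Data B hAB M' F₀ := ⟨hrat, hnd, hbig, fun a k hk => by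
    obtain ⟨A, hA1, hA2, hA3⟩ := hT a k
    exact ⟨A, h1 ⟨hA3 hk, hA1⟩, fun x => by rw [hA2, Sp.T_apply]⟩⟩
  have lift : ∀ A : GL ι F, A ∈ Cfsg.spGL m F →
      ∃ X : Sp.Grp B, ∀ x, (X : V ≃ₗ[F] V) x = ((P⁻¹ * A * P : GL ι F) : Matrix ι ι F) *ᵥ x := fun A hA =>
    ⟨⟨Sp.matEquiv (Units.mul_inv (P⁻¹ * A * P)) (Units.inv_mul (P⁻¹ * A * P)), fun x y => by
      show B (((P⁻¹ * A * P : GL ι F) : Matrix ι ι F) *ᵥ x) (((P⁻¹ * A * P : GL ι F) : Matrix ι ι F) *ᵥ y) = B x y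
      rw [hB, form_apply, form_apply, Matrix.mulVec_mulVec, Matrix.mulVec_mulVec, ← Units.val_mul,
        show P * (P⁻¹ * A * P) = A * P by group, Units.val_mul, ← Matrix.mulVec_mulVec, ← Matrix.mulVec_mulVec,
        show Cfsg.sympForm m F ((A : Matrix ι ι F) *ᵥ _) ((A : Matrix ι ι F) *ᵥ _) = _ from hA _ _]⟩, fun x => rfl⟩
  obtain ⟨a', hga⟩ : ∃ a' : ι → F₀, ∀ (l : F) (b : ι → F₀),
      ((P⁻¹ * g * P : GL ι F) : Matrix ι ι F) *ᵥ rv F₀ a' ≠ l • rv F₀ b := by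
    by_contra hc
    push Not at hc
    refine hgS (SubfieldMem.mem_of_rat_image F₀ P fun y hy => ?_)
    obtain ⟨l, b, hb⟩ := hc fun i => ⟨_, hy i⟩
    refine ⟨l, (P : Matrix ι ι F) *ᵥ rv F₀ b, fun i => by rw [gl_inv_mulVec']; exact (b i).2, ?_⟩
    rw [← Matrix.mulVec_smul, ← hb, Units.val_mul, Units.val_mul, ← Matrix.mulVec_mulVec, ← Matrix.mulVec_mulVec,
      gl_inv_mulVec]
    congr 1
    rw [show rv F₀ (fun i => (⟨_, hy i⟩ : F₀)) = ((P⁻¹ : GL ι F) : Matrix ι ι F) *ᵥ y from rfl, gl_inv_mulVec]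
  obtain ⟨Xg, hXg⟩ := lift g (h2 hgM)
  have hXgM : Xg ∈ M' := ⟨g, hgM, hXg⟩
  have hu := mul_mem (mul_mem hXgM (hD.tr a' 1 (one_mem _))) (inv_mem hXgM)
  rw [Sp.conj_T] at hu
  have htop := SubfieldSymp.eq_top hAB hD hr hcard hu fun l b e => hga l b (by rw [← hXg]; exact e)
  refine le_antisymm h2 fun A hA => ?_
  obtain ⟨X, hX⟩ := lift A hA
  obtain ⟨A', hA', e⟩ := (show X ∈ M' by rw [htop]; trivial)
  have hEq : P⁻¹ * A * P = P⁻¹ * A' * P := gl_ext fun x => by rw [← hX, ← e]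
  have : A = A' := by simpa using hEq
  exact this ▸ hA'

end Cfsg.Agent.Classical.SubfieldSymp
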