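import Cfsg.Agent.Lib.Classical.SubfieldSymp

/-!
Subfield subgroups of symplectic groups are maximal: the abstract statement.
-/

set_option autoImplicit false
set_option linter.unusedSectionVars false
set_option maxHeartbeats 1600000

open Module Matrix

namespace Cfsg.Agent.Classical.SubfieldSymp

open SubfieldLin

variable {F : Type*} [Field F] [Fintype F] {ι : Type} [Fintype ι] [DecidableEq ι]
variable {B : LinearMap.BilinForm F (ι → F)} (hA : B.IsAlt) {F₀ : Subfield F}
variable {M : Subgroup (Sp.Grp B)} (hD : Data B hA M F₀)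

local notation "G" => Sp.Grp B
local notation "V" => ι → F

include hD

/-- A transvection with an irrational centre gives an irrational parameter. -/
theorem exists_good {r : ℕ} (hr : r.Prime) (hcard : Nat.card F = Nat.card F₀ ^ r) {u : V}
    (hm : Sp.T B hA u 1 ∈ M) (hu : ∀ (l : F) (a : ι → F₀), u ≠ l • rv F₀ a) :
    ∃ s, s ∉ F₀ ∧ Good hA M F₀ s := by
  classical
  by_contra hno
  have perp : ∀ v : V, Sp.T B hA v 1 ∈ M → (∃ w : ι → F₀, w ≠ 0 ∧ B (rv F₀ w) v = 0) →
      ∃ (l : F) (a : ι → F₀), v = l • rv F₀ a := fun v hv ⟨w, hw, hwv⟩ => by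
    by_contra hc
    push Not at hc
    exact hno (exists_good_perp hA hD (one_mem _) one_ne_zero hv hc hw hwv)
  have hfull : ∀ w : ι → F₀, B (rv F₀ w) u = 0 → w = 0 := fun w hwu => by
    by_contra hw
    obtain ⟨l, a, e⟩ := perp u hm ⟨w, hw, hwu⟩
    exact hu l a e
  haveI : Fintype F₀ := Fintype.ofFinite _
  have hq : 2 ≤ Nat.card F₀ := Finite.one_lt_card
  have hbigr : 14 ≤ r := by
    have h1 : Nat.card (ι → F₀) ≤ Nat.card F := Nat.card_le_card_of_injective (fun w => B (rv F₀ w) u)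
      fun a b h => sub_eq_zero.1 (hfull _ (by
        have : rv F₀ (a - b) = rv F₀ a - rv F₀ b := funext fun i => by simp [rv]
        rw [this, map_sub, LinearMap.sub_apply]
        exact sub_eq_zero.2 h))
    rw [Nat.card_fun, Nat.card_eq_fintype_card (α := ι), hcard] at h1
    have := (Nat.pow_le_pow_iff_right hq).1 h1
    have := hD.big
    omega
  obtain ⟨a, -, hane⟩ := sp_avoid hA hD (![] : Fin 0 → ι → F₀) ![(0 : ι → F₀)] (by have := hD.big; omega)
  obtain ⟨b, hb, hbne⟩ := sp_avoid hA hD ![a] ![a] (by have := hD.big; omega)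
  have ha : a ≠ 0 := fun e => hane 0 (by simp [e])
  have hb0 : b ≠ 0 := fun e => hbne 0 (by simp [e])
  have hab : B (rv F₀ a) (rv F₀ b) = 0 := hb 0
  have hba : B (rv F₀ b) (rv F₀ a) = 0 := by rw [Sp.alt_neg B hA (rv F₀ a) (rv F₀ b), hab, neg_zero]
  set ta := B (rv F₀ a) u with hta
  set tb := B (rv F₀ b) u with htb
  have hta0 : ta ≠ 0 := fun e => ha (hfull a e)
  set ρ := tb / ta with hρ
  have hρ0 : ρ ∉ F₀ := fun h => by
    refine hbne ![⟨ρ, h⟩] ?_
    have : b - (⟨ρ, h⟩ : F₀) • a = 0 := hfull _ (by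
      have e : rv F₀ (b - (⟨ρ, h⟩ : F₀) • a) = rv F₀ b - ρ • rv F₀ a := funext fun i => by simp [rv]
      rw [e, map_sub, LinearMap.sub_apply, map_smul, LinearMap.smul_apply, smul_eq_mul, hρ, ← hta, ← htb,
        div_mul_cancel₀ _ hta0, sub_self])
    simpa using sub_eq_zero.1 this
  -- no quadratic relation
  have hquad : ∀ x y z : F₀, (x : F) * ρ ^ 2 + (y : F) * ρ + z = 0 → x = 0 := by
    intro x y z h
    by_contra hx
    have hx' : ((x : F₀) : F) ≠ 0 := fun e => hx (Subtype.ext e)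
    let R : Subring F :=
      { carrier := {w | ∃ p q : F₀, w = (p : F) + (q : F) * ρ}
        one_mem' := ⟨1, 0, by simp⟩
        zero_mem' := ⟨0, 0, by simp⟩
        add_mem' := by
          rintro _ _ ⟨p, q, rfl⟩ ⟨p', q', rfl⟩
          exact ⟨p + p', q + q', by push_cast; ring⟩
        neg_mem' := by
          rintro _ ⟨p, q, rfl⟩
          exact ⟨-p, -q, by push_cast; ring⟩
        mul_mem' := by
          rintro _ _ ⟨p, q, rfl⟩ ⟨p', q', rfl⟩
          refine ⟨p * p' - q * q' * z / x, p * q' + q * p' - q * q' * y / x, ?_⟩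
          have h2 : ρ ^ 2 = -((y : F) * ρ + z) / x := by
            rw [eq_div_iff hx']; linear_combination h
          push_cast
          rw [show ((p : F) + q * ρ) * (p' + q' * ρ) = p * p' + (p * q' + q * p') * ρ + q * q' * ρ ^ 2 by ring, h2]
          field_simp
          ring }
    have htop := subring_top F₀ hr hcard R (fun w hw => ⟨⟨w, hw⟩, 0, by simp⟩) (show ρ ∈ R from ⟨0, 1, by simp⟩) hρ0
    have h1 : Nat.card F ≤ Nat.card (F₀ × F₀) := by
      refine Nat.card_le_card_of_surjective (fun p => ((p.1 : F) + (p.2 : F) * ρ)) fun w => ?_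
      obtain ⟨p, q, e⟩ := (show w ∈ R by rw [htop]; trivial)
      exact ⟨(p, q), e.symm⟩
    rw [Nat.card_prod, hcard, ← pow_two] at h1
    have := (Nat.pow_le_pow_iff_right hq).1 h1
    omega
  set rr := tb • rv F₀ a - ta • rv F₀ b with hrr
  let av := rv F₀ a
  let bv := rv F₀ b
  have hrru : B rr u = 0 := by
    rw [hrr, map_sub, LinearMap.sub_apply, map_smul, LinearMap.smul_apply, map_smul, LinearMap.smul_apply,
      ← hta, ← htb]
    simp [mul_comm]
  have hrra : B rr av = 0 := by simp [hrr, av, hA.self_eq_zero, hba]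
  have hrrb : B rr bv = 0 := by simp [hrr, bv, hA.self_eq_zero, hab]
  have hrr0 : rr ≠ 0 := fun e => by
    rw [hrr, sub_eq_zero] at e
    have h : bv = ρ • av := by
      show rv F₀ b = ρ • rv F₀ a
      rw [hρ, div_eq_inv_mul, mul_smul, e, inv_smul_smul₀ hta0]
    obtain ⟨i, hi⟩ := Function.ne_iff.1 ha
    have := congrFun h i
    simp only [bv, av, rv, Pi.smul_apply, smul_eq_mul] at this
    exact hρ0 (by
      have h' : ρ = (b i : F) / (a i : F) := by
        rw [eq_div_iff (fun e' => hi (Subtype.ext e'))]; exact this.symm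
      rw [h']; exact div_mem (b i).2 (a i).2)
  let Γ : Subgroup (GL (Fin 2) F) :=
    { carrier := {γ | ∃ X ∈ M, (X : V ≃ₗ[F] V) rr = rr ∧
        (∃ z : F, (X : V ≃ₗ[F] V) av = (γ : Matrix (Fin 2) (Fin 2) F) 0 0 • av +
          (γ : Matrix (Fin 2) (Fin 2) F) 1 0 • u + z • rr) ∧
        ∃ z : F, (X : V ≃ₗ[F] V) u = (γ : Matrix (Fin 2) (Fin 2) F) 0 1 • av +
          (γ : Matrix (Fin 2) (Fin 2) F) 1 1 • u + z • rr}
      one_mem' := ⟨1, one_mem M, rfl, ⟨0, by simp⟩, 0, by simp⟩
      mul_mem' := by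
        rintro γ δ ⟨X, hX, hXr, ⟨z1, ha1⟩, z2, hu1⟩ ⟨Y, hY, hYr, ⟨w1, ha2⟩, w2, hu2⟩
        refine ⟨X * Y, mul_mem hX hY, by rw [Sp.Grp.mul_apply, hYr, hXr],
          ⟨(δ : Matrix (Fin 2) (Fin 2) F) 0 0 * z1 + (δ : Matrix (Fin 2) (Fin 2) F) 1 0 * z2 + w1, ?_⟩,
          (δ : Matrix (Fin 2) (Fin 2) F) 0 1 * z1 + (δ : Matrix (Fin 2) (Fin 2) F) 1 1 * z2 + w2, ?_⟩
        · rw [Sp.Grp.mul_apply, ha2, map_add, map_add, map_smul, map_smul, map_smul, ha1, hu1, hXr]
          simp only [Units.val_mul, Matrix.mul_apply, Fin.sum_univ_two]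
          module
        · rw [Sp.Grp.mul_apply, hu2, map_add, map_add, map_smul, map_smul, map_smul, ha1, hu1, hXr]
          simp only [Units.val_mul, Matrix.mul_apply, Fin.sum_univ_two]
          module
      inv_mem' := by
        intro γ hγ
        have : γ⁻¹ = γ ^ (orderOf γ - 1) := inv_eq_of_mul_eq_one_left (by
          rw [← pow_succ, Nat.sub_add_cancel (orderOf_pos γ), pow_orderOf_eq_one])
        rw [this]
        generalize orderOf γ - 1 = k
        induction k with
        | zero => exact ⟨1, one_mem M, rfl, ⟨0, by simp⟩, 0, by simp⟩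
        | succ k ih =>
          rw [pow_succ]
          obtain ⟨X, hX, hXr, ⟨z1, ha1⟩, z2, hu1⟩ := ih
          obtain ⟨Y, hY, hYr, ⟨w1, ha2⟩, w2, hu2⟩ := hγ
          refine ⟨X * Y, mul_mem hX hY, by rw [Sp.Grp.mul_apply, hYr, hXr],
            ⟨(γ : Matrix (Fin 2) (Fin 2) F) 0 0 * z1 + (γ : Matrix (Fin 2) (Fin 2) F) 1 0 * z2 + w1, ?_⟩,
            (γ : Matrix (Fin 2) (Fin 2) F) 0 1 * z1 + (γ : Matrix (Fin 2) (Fin 2) F) 1 1 * z2 + w2, ?_⟩
          · rw [Sp.Grp.mul_apply, ha2, map_add, map_add, map_smul, map_smul, map_smul, ha1, hu1, hXr]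
            simp only [Units.val_mul, Matrix.mul_apply, Fin.sum_univ_two]
            module
          · rw [Sp.Grp.mul_apply, hu2, map_add, map_add, map_smul, map_smul, map_smul, ha1, hu1, hXr]
            simp only [Units.val_mul, Matrix.mul_apply, Fin.sum_univ_two]
            module }
  have huA : B u av = -ta := Sp.alt_neg B hA av u
  have huB : B u bv = -tb := Sp.alt_neg B hA bv u
  let ψ : F₀ × F₀ →+ F :=
    { toFun := fun p => (p.1 : F) * ta + (p.2 : F) * tb ^ 2 / ta
      map_zero' := by simp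
      map_add' := fun p p' => by simp only [Prod.fst_add, Prod.snd_add]; push_cast; ring }
  let U := (⊤ : AddSubgroup (F₀ × F₀)).map ψ
  have hψ : Function.Injective ψ := (injective_iff_map_eq_zero ψ).2 fun p hp => by
    change (p.1 : F) * ta + (p.2 : F) * tb ^ 2 / ta = 0 at hp
    have h : (p.2 : F) * ρ ^ 2 + ((0 : F₀) : F) * ρ + p.1 = 0 := by
      rw [hρ]; field_simp at hp ⊢; push_cast; linear_combination hp
    have h2 := hquad p.2 0 p.1 h
    refine Prod.ext (Subtype.ext ?_) h2
    rw [h2] at hp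
    simpa [hta0] using hp
  have hU : ∀ x ∈ U, ∃ γ ∈ Γ, (γ : Matrix (Fin 2) (Fin 2) F) = !![1, x; 0, 1] := by
    rintro _ ⟨⟨p, q⟩, -, rfl⟩
    refine ⟨Matrix.GeneralLinearGroup.mkOfDetNeZero !![1, ψ (p, q); 0, 1] (by simp [Matrix.det_fin_two]),
      ⟨Sp.T B hA av (-(p : F)) * Sp.T B hA bv (-(q : F)),
        mul_mem (hD.tr a _ (neg_mem p.2)) (hD.tr b _ (neg_mem q.2)), ?_, ⟨0, ?_⟩, -((q : F) * tb) / ta, ?_⟩, rfl⟩
    · rw [Sp.Grp.mul_apply, Sp.T_apply, Sp.T_apply, hrrb, mul_zero, zero_smul, add_zero, hrra]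
      simp
    · rw [Sp.Grp.mul_apply, Sp.T_apply, Sp.T_apply, show B av bv = 0 from hab, mul_zero, zero_smul, add_zero,
        hA.self_eq_zero]
      simp
    · rw [Sp.Grp.mul_apply, Sp.T_apply, Sp.T_apply, map_add, map_smul, LinearMap.add_apply, LinearMap.smul_apply,
        show B bv av = 0 from hba, huA, huB]
      show _ = ((!![1, ψ (p, q); 0, 1] : Matrix (Fin 2) (Fin 2) F) 0 1) • av +
        ((!![1, ψ (p, q); 0, 1] : Matrix (Fin 2) (Fin 2) F) 1 1) • u + (-((q : F) * tb) / ta) • rr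
      simp only [Matrix.of_apply, Matrix.cons_val', Matrix.cons_val_zero, Matrix.cons_val_one, Matrix.empty_val',
        Matrix.cons_val_fin_one, hrr, smul_eq_mul, mul_zero, add_zero]
      show _ = ((p : F) * ta + (q : F) * tb ^ 2 / ta) • av + (1 : F) • u +
        (-((q : F) * tb) / ta) • (tb • av - ta • bv)
      match_scalars <;> field_simp <;> ring
  have hlow : ∃ γ ∈ Γ, (γ : Matrix (Fin 2) (Fin 2) F) 1 0 ≠ 0 := by
    refine ⟨Matrix.GeneralLinearGroup.mkOfDetNeZero !![1, 0; ta, 1] (by simp [Matrix.det_fin_two]),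
      ⟨Sp.T B hA u 1, hm, ?_, ⟨0, ?_⟩, 0, ?_⟩, by simpa using hta0⟩
    · rw [Sp.T_apply, hrru]; simp
    · rw [Sp.T_apply]; simp [hta, av]
    · rw [Sp.T_apply, hA.self_eq_zero]; simp
  have hS : ∀ γ ∈ Γ, (γ : Matrix (Fin 2) (Fin 2) F) 1 0 = 0 →
      (γ : Matrix (Fin 2) (Fin 2) F) 0 0 / (γ : Matrix (Fin 2) (Fin 2) F) 1 1 ∈ ({1} : Finset F) := by
    rintro γ ⟨X, hX, hXr, ⟨z, hXa⟩, z', hXu⟩ h10
    rw [h10, zero_smul, add_zero] at hXa
    set α := (γ : Matrix (Fin 2) (Fin 2) F) 0 0
    set δ := (γ : Matrix (Fin 2) (Fin 2) F) 1 1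
    rw [Finset.mem_singleton]
    have hαδ : α * δ = 1 := by
      have h := Sp.Grp.map_form X av u
      rw [hXa, hXu] at h
      have h1 : B av rr = 0 := by rw [Sp.alt_neg B hA rr av, hrra, neg_zero]
      simp only [map_add, map_smul, LinearMap.add_apply, LinearMap.smul_apply, smul_eq_mul, hA.self_eq_zero, h1,
        hrra, hrru, mul_zero, add_zero, zero_add] at h
      exact mul_right_cancel₀ hta0 (by linear_combination h)
    by_contra hne
    have hα1 : α ≠ 1 := fun e => hne (by
      have : δ = 1 := by rwa [e, one_mul] at hαδ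
      rw [e, this, div_one])
    have hXb : (X : V ≃ₗ[F] V) bv = (α * tb / ta) • av + ((tb * z - 1) / ta) • rr := by
      have e : bv = (tb / ta) • av + (-(ta⁻¹)) • rr := by
        rw [hrr]; simp only [av, bv]; match_scalars <;> field_simp <;> ring
      conv_lhs => rw [e]
      rw [map_add, map_smul, map_smul, hXa, hXr]
      match_scalars <;> field_simp <;> ring
    have himg : ∀ c : ι → F₀, (∃ x y : F, (X : V ≃ₗ[F] V) (rv F₀ c) = x • av + y • bv) →
        ∃ (l : F) (e : ι → F₀), (X : V ≃ₗ[F] V) (rv F₀ c) = l • rv F₀ e := fun c ⟨x, y, hc⟩ => by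
      refine perp _ ?_ ⟨a, ha, by simp [hc, av, bv, hA.self_eq_zero, hab]⟩
      have := mul_mem (mul_mem hX (hD.tr c 1 (one_mem _))) (inv_mem hX)
      rwa [Sp.conj_T] at this
    have hXav : ∃ x y : F, (X : V ≃ₗ[F] V) av = x • av + y • bv :=
      ⟨α + z * tb, -(z * ta), by rw [hXa, hrr]; simp only [av, bv]; module⟩
    have hXbv : ∃ x y : F, (X : V ≃ₗ[F] V) bv = x • av + y • bv :=
      ⟨α * tb / ta + (tb * z - 1) / ta * tb, -((tb * z - 1) / ta * ta), by rw [hXb, hrr]; simp only [av, bv]; module⟩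
    obtain ⟨x1, y1, hc1⟩ := hXav
    obtain ⟨x2, y2, hc2⟩ := hXbv
    have hXab : (X : V ≃ₗ[F] V) (rv F₀ (a + b)) = (x1 + x2) • av + (y1 + y2) • bv := by
      rw [rv_add, map_add]; simp only [av, bv] at hc1 hc2 ⊢; rw [hc1, hc2]; module
    obtain ⟨l1, e1, he1⟩ := himg a ⟨x1, y1, hc1⟩
    obtain ⟨l2, e2, he2⟩ := himg b ⟨x2, y2, hc2⟩
    obtain ⟨l3, e3, he3⟩ := himg (a + b) ⟨_, _, hXab⟩
    -- rational coordinates
    obtain ⟨pa, hpa, hpa'⟩ := sp_dual hA hD ![b] (p := a) fun s e => by
      simp only [Fin.sum_univ_one, Matrix.cons_val_fin_one] at e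
      rcases eq_or_ne (s 0) 0 with h0 | h0
      · exact ha (by rw [e, h0, zero_smul])
      · exact hbne ![(s 0)⁻¹] (by simp [e, h0])
    obtain ⟨pb, hpb, hpb'⟩ := sp_dual hA hD ![a] (p := b) fun s e => hbne s (by simpa using e)
    have coord : ∀ (c : V) (x y : F) (l : F) (e : ι → F₀), c = x • av + y • bv → c = l • rv F₀ e →
        ∃ p q : F₀, x = l * p ∧ y = l * q := fun c x y l e hc hce => by
      refine ⟨⟨_, hD.rat e pa⟩, ⟨_, hD.rat e pb⟩, ?_, ?_⟩
      · have h1 : B c (rv F₀ pa) = x := by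
          rw [hc, map_add, LinearMap.add_apply, map_smul, LinearMap.smul_apply, map_smul, LinearMap.smul_apply,
            hpa', show B bv (rv F₀ pa) = 0 by
              rw [Sp.alt_neg B hA (rv F₀ pa) bv, show B (rv F₀ pa) bv = 0 from hpa 0, neg_zero]]
          simp
        rw [hce, map_smul, LinearMap.smul_apply, smul_eq_mul] at h1
        exact h1.symm
      · have h1 : B c (rv F₀ pb) = y := by
          rw [hc, map_add, LinearMap.add_apply, map_smul, LinearMap.smul_apply, map_smul, LinearMap.smul_apply,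
            hpb', show B av (rv F₀ pb) = 0 by
              rw [Sp.alt_neg B hA (rv F₀ pb) av, show B (rv F₀ pb) av = 0 from hpb 0, neg_zero]]
          simp
        rw [hce, map_smul, LinearMap.smul_apply, smul_eq_mul] at h1
        exact h1.symm
    obtain ⟨p1, q1, hp1, hq1⟩ := coord _ x1 y1 l1 e1 hc1 he1
    obtain ⟨p2, q2, hp2, hq2⟩ := coord _ x2 y2 l2 e2 hc2 he2
    obtain ⟨p3, q3, hp3, hq3⟩ := coord _ _ _ l3 e3 hXab he3
    have li : ∀ x y : F, x • av + y • bv = 0 → x = 0 ∧ y = 0 := fun x y h => by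
      have h1 := congrArg (fun c => B c (rv F₀ pa)) h
      have h2 := congrArg (fun c => B c (rv F₀ pb)) h
      simp only [map_add, map_smul, LinearMap.add_apply, LinearMap.smul_apply, map_zero, LinearMap.zero_apply,
        smul_eq_mul, hpa', hpb', av, bv] at h1 h2
      rw [show B (rv F₀ b) (rv F₀ pa) = 0 by
        rw [Sp.alt_neg B hA (rv F₀ pa) (rv F₀ b), show B (rv F₀ pa) (rv F₀ b) = 0 from hpa 0, neg_zero]] at h1
      rw [show B (rv F₀ a) (rv F₀ pb) = 0 by
        rw [Sp.alt_neg B hA (rv F₀ pb) (rv F₀ a), show B (rv F₀ pb) (rv F₀ a) = 0 from hpb 0, neg_zero]] at h2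
      exact ⟨by simpa using h1, by simpa using h2⟩
    have hdet0 : x1 * y2 - x2 * y1 ≠ 0 := fun h0 => by
      have inj : ∀ x y : F, (x * x1 + y * x2 = 0 ∧ x * y1 + y * y2 = 0) → x = 0 ∧ y = 0 := fun x y h => by
        refine li x y ((X : V ≃ₗ[F] V).injective ?_)
        rw [map_add, map_smul, map_smul, map_zero, hc1, hc2,
          show x • (x1 • av + y1 • bv) + y • (x2 • av + y2 • bv) = (x * x1 + y * x2) • av + (x * y1 + y * y2) • bv by
            module, h.1, h.2, zero_smul, zero_smul, add_zero]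
      obtain ⟨h1, h2⟩ := inj x2 (-x1) ⟨by ring, by linear_combination -h0⟩
      obtain ⟨h3, h4⟩ := inj y2 (-y1) ⟨by linear_combination h0, by ring⟩
      obtain ⟨h5, -⟩ := inj 1 0 ⟨by simp [neg_eq_zero.1 h2], by simp [neg_eq_zero.1 h4]⟩
      exact one_ne_zero h5
    -- the ratio of the two scalars is rational
    have hl1 : l1 ≠ 0 := fun e => hdet0 (by rw [hp1, hq1, e]; ring)
    have hl2 : l2 ≠ 0 := fun e => hdet0 (by rw [hp2, hq2, e]; ring)
    have hdq : (p1 : F) * q2 - p2 * q1 ≠ 0 := fun e => hdet0 (by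
      rw [hp1, hp2, hq1, hq2]; linear_combination (l1 * l2) * e)
    have he4 : l1 * p1 + l2 * p2 = l3 * p3 := by rw [← hp1, ← hp2]; exact hp3
    have he5 : l1 * q1 + l2 * q2 = l3 * q3 := by rw [← hq1, ← hq2]; exact hq3
    have e6 : l1 * ((p1 : F) * q2 - p2 * q1) = l3 * ((p3 : F) * q2 - p2 * q3) := by
      linear_combination (q2 : F) * he4 - (p2 : F) * he5
    have e7 : l2 * ((p1 : F) * q2 - p2 * q1) = l3 * ((p1 : F) * q3 - p3 * q1) := by
      linear_combination (p1 : F) * he5 - (q1 : F) * he4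
    set d3 : F₀ := (p1 * q3 - p3 * q1) / (p3 * q2 - p2 * q3) with hd3
    have hden : ((p3 : F) * q2 - p2 * q3) ≠ 0 := fun e => mul_ne_zero hl1 hdq (by rw [e6, e, mul_zero])
    have hl : l2 = l1 * d3 := by
      rw [hd3]; push_cast
      rw [mul_div_assoc', eq_div_iff hden]
      exact mul_left_cancel₀ hdq (by linear_combination ((p3 : F) * q2 - p2 * q3) * e7 - ((p1 : F) * q3 - p3 * q1) * e6)
    -- the eigenvector
    have heig : (tb * x1 - ta * x2) • av + (tb * y1 - ta * y2) • bv = tb • av + (-ta) • bv := by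
      have := hXr
      rw [hrr, map_sub, map_smul, map_smul] at this
      simp only [av, bv] at hc1 hc2 this ⊢
      rw [hc1, hc2] at this
      linear_combination (norm := module) this
    obtain ⟨g1, g2⟩ := li (tb * x1 - ta * x2 - tb) (tb * y1 - ta * y2 + ta) (by
      linear_combination (norm := module) heig)
    have hρta : tb = ρ * ta := by rw [hρ, div_mul_cancel₀ _ hta0]
    rw [hp1, hp2, hl, hρta] at g1
    rw [hq1, hq2, hl, hρta] at g2
    have g1' : l1 * (ρ * p1 - d3 * p2) = ρ := mul_right_cancel₀ hta0 (by linear_combination g1)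
    have g2' : l1 * (ρ * q1 - d3 * q2) = -1 := mul_right_cancel₀ hta0 (by linear_combination g2)
    have hq10 : q1 = 0 := hquad q1 (p1 - d3 * q2) (-(d3 * p2)) (by
      push_cast
      exact mul_left_cancel₀ hl1 (by linear_combination g1' + ρ * g2'))
    have hlin : ((p1 : F) - d3 * q2) * ρ + -((d3 : F) * p2) = 0 := by
      refine mul_left_cancel₀ hl1 ?_
      rw [hq10] at g2'
      push_cast at g2'
      linear_combination g1' + ρ * g2'
    have hcoef : (p1 : F) - d3 * q2 = 0 := by
      by_contra h0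
      exact hρ0 (by
        have : ρ = (d3 : F) * p2 / ((p1 : F) - d3 * q2) := by
          rw [eq_div_iff h0]; linear_combination hlin
        rw [this]
        exact div_mem (mul_mem d3.2 p2.2) (sub_mem p1.2 (mul_mem d3.2 q2.2)))
    rw [hq10] at g2'
    push_cast at g2'
    -- so `X` is trivial on the plane, against `α ≠ 1`
    have hx1 : x1 = 1 := by
      rw [hp1]; linear_combination l1 * hcoef - g2'
    have hy1 : y1 = 0 := by rw [hq1, hq10]; simp
    have hfin : (1 - α) • av + (-z) • rr = 0 := by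
      have h := hXa
      rw [hc1, hx1, hy1] at h
      linear_combination (norm := module) h
    rw [hrr] at hfin
    obtain ⟨k1, k2⟩ := li (1 - α - z * tb) (z * ta) (by linear_combination (norm := module) hfin)
    rw [(mul_eq_zero.1 k2).resolve_right hta0, zero_mul, sub_zero, sub_eq_zero] at k1
    exact hα1 k1.symm
  have hcardU : Nat.card U = Nat.card F₀ * Nat.card F₀ := by
    rw [← Nat.card_prod]
    exact (Nat.card_congr (Equiv.ofBijective (fun p => (⟨ψ p, p, trivial, rfl⟩ : U))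
      ⟨fun p p' h => hψ (congrArg Subtype.val h), fun ⟨x, p, _, e⟩ => ⟨p, Subtype.ext e⟩⟩)).symm
  have := SubfieldPlane.mult_large Γ U hU hlow (by rw [hcardU]; nlinarith) {1} hS
  rw [hcardU, Finset.card_singleton] at this
  nlinarith

/-- Containing the rational transvections and one with irrational centre, the group is everything. -/
theorem eq_top {r : ℕ} (hr : r.Prime) (hcard : Nat.card F = Nat.card F₀ ^ r) {u : V}
    (hm : Sp.T B hA u 1 ∈ M) (hu : ∀ (l : F) (a : ι → F₀), u ≠ l • rv F₀ a) : M = ⊤ := by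
  classical
  obtain ⟨s, hs0, hs⟩ := exists_good hA hD hr hcard hm hu
  let R : Subring F :=
    { carrier := {s | Good hA M F₀ s}
      one_mem' := fun a b _ _ _ => sieg_mem hA hD (one_mem _)
      zero_mem' := fun a b _ _ _ => sieg_mem hA hD (zero_mem _)
      add_mem' := fun {s t} h h' a b hab ha hne => by
        have := mul_mem (h a b hab ha hne) (h' a b hab ha hne)
        rw [show Sp.S B hA (rv F₀ a) (rv F₀ b) s = Sp.S B hA (rv F₀ a) (s • rv F₀ b) 1 by
            rw [S_smul_right hA hab, mul_one],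
          show Sp.S B hA (rv F₀ a) (rv F₀ b) t = Sp.S B hA (rv F₀ a) (t • rv F₀ b) 1 by
            rw [S_smul_right hA hab, mul_one],
          S_mul hA (by simp [hab]) (by simp [hab]), ← add_smul, S_smul_right hA hab] at this
        simpa [hA.self_eq_zero, Sp.T_zero] using this
      neg_mem' := fun {s} h a b hab ha hne => by
        have := inv_mem (h a b hab ha hne)
        rw [← Sp.S_neg B hA hab, ← neg_one_smul F (rv F₀ b), S_smul_right hA hab] at this
        simpa using this
      mul_mem' := fun {s t} h h' => good_mul hA hD h h' }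
  have hR0 : ∀ k ∈ F₀, k ∈ R := fun k hk a b _ _ _ => sieg_mem hA hD hk
  have htop := subring_top F₀ hr hcard R hR0 (show s ∈ R from hs) hs0
  have hall : ∀ s : F, Good hA M F₀ s := fun s => (show s ∈ R by rw [htop]; trivial)
  -- squares
  have hsq : ∀ (c : ι → F₀) (μ : F), c ≠ 0 → Sp.T B hA (rv F₀ c) (μ ^ 2) ∈ M := by
    intro c μ hc
    obtain ⟨a, ha, hane⟩ := sp_avoid hA hD ![c] ![c] (by have := hD.big; omega)
    have hca : B (rv F₀ c) (rv F₀ a) = 0 := ha 0
    have hac : B (rv F₀ a) (rv F₀ c) = 0 := by rw [Sp.alt_neg B hA (rv F₀ c) (rv F₀ a), hca, neg_zero]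
    obtain ⟨b, hb, hab⟩ := sp_dual hA hD ![c] (p := a) hane
    have hbc : B (rv F₀ b) (rv F₀ c) = 0 := hb 0
    have ha0 : a ≠ 0 := fun e => hane 0 (by simp [e])
    have hY : Sp.S B hA (rv F₀ b) (rv F₀ c) μ ∈ M := hall μ b c hbc (fun e => by
      rw [e, show rv F₀ (0 : ι → F₀) = 0 from funext fun i => by simp [rv], map_zero] at hab
      exact zero_ne_one hab) fun l e => by
      rw [e, rv_smul, map_smul, smul_eq_mul, hab, mul_one] at hac
      exact hc (by rw [e, show l = 0 from Subtype.ext hac, zero_smul])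
    have hT := mul_mem (mul_mem hY (hD.tr a 1 (one_mem _))) (inv_mem hY)
    rw [Sp.conj_T, Sp.S_apply B hA hbc, hab, hac, mul_one, mul_zero, zero_smul, add_zero] at hT
    have hm' : Sp.S B hA (rv F₀ a) (μ • rv F₀ c) 1 ∈ M := by
      rw [S_smul_right hA hac, mul_one]
      refine hall μ a c hac ha0 fun l e => ?_
      rcases eq_or_ne l 0 with rfl | hl
      · exact hc (by rw [e, zero_smul])
      · exact hane ![l⁻¹] (by simp [e, hl])
    rw [Sp.S] at hm'
    have h2 := (mul_mem_cancel_left (mul_mem (inv_mem (hD.tr a 1 (one_mem _))) hT)).1 hm'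
    rw [inv_mem_iff, Sp.T_smul, mul_one, ← pow_two] at h2
    exact h2
  have htr : ∀ (c : ι → F₀) (l : F), Sp.T B hA (rv F₀ c) l ∈ M := by
    intro c l
    rcases eq_or_ne c 0 with rfl | hc
    · rw [show rv F₀ (0 : ι → F₀) = 0 from funext fun i => by simp [rv], Sp.T_zero_vec]
      exact one_mem _
    by_cases h2 : (2 : F) = 0
    · have hch : ringChar F = 2 := CharP.ringChar_of_prime_eq_zero Nat.prime_two (by exact_mod_cast h2)
      obtain ⟨μ, rfl⟩ := FiniteField.isSquare_of_char_two hch l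
      rw [← pow_two]; exact hsq c μ hc
    · have h4 : (4 : F) ≠ 0 := by
        rw [show (4 : F) = 2 * 2 by norm_num]; exact mul_ne_zero h2 h2
      have := mul_mem (hsq c ((l + 1) / 2) hc) (inv_mem (hsq c ((l - 1) / 2) hc))
      rw [Sp.T_inv, Sp.T_add] at this
      rwa [show ((l + 1) / 2) ^ 2 + -(((l - 1) / 2) ^ 2) = l by field_simp; ring] at this
  -- all centres
  let X : Set V := {v | ∀ l, Sp.T B hA v l ∈ M}
  have hSgen : ∀ (e : ι → F₀) (w : V), B w (rv F₀ e) = 0 → ∀ l, Sp.S B hA (rv F₀ e) w l ∈ M := by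
    intro e w hwe
    have hew : ∀ {w : V}, B w (rv F₀ e) = 0 → B (rv F₀ e) w = 0 := fun {w} h => by
      rw [Sp.alt_neg B hA w (rv F₀ e), h, neg_zero]
    let Y : Submodule F V :=
      { carrier := {w | B w (rv F₀ e) = 0 ∧ ∀ l, Sp.S B hA (rv F₀ e) w l ∈ M}
        zero_mem' := ⟨by simp, fun l => by
          rw [show Sp.S B hA (rv F₀ e) 0 l = 1 from Sp.Grp.ext' B fun x => by simp [Sp.S_apply B hA]]
          exact one_mem _⟩
        add_mem' := fun {x y} hx hy => ⟨by simp [hx.1, hy.1], fun l => by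
          have h := mul_mem (hx.2 l) (hy.2 l)
          rw [S_mul hA (hew hx.1) (hew hy.1)] at h
          exact (mul_mem_cancel_right (htr e _)).1 h⟩
        smul_mem' := fun c x hx => ⟨by simp [hx.1], fun l => by
          rw [S_smul_right hA (hew hx.1)]; exact hx.2 _⟩ }
    rcases eq_or_ne e 0 with rfl | he
    · intro l
      rw [show Sp.S B hA (rv F₀ (0 : ι → F₀)) w l = 1 from Sp.Grp.ext' B fun x => by
        rw [Sp.S_apply B hA (hew hwe)]; simp [show rv F₀ (0 : ι → F₀) = 0 from funext fun i => by simp [rv]]]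
      exact one_mem _
    suffices w ∈ Y from this.2
    have hrat : ∀ c : ι → F₀, B (rv F₀ c) (rv F₀ e) = 0 → rv F₀ c ∈ Y := fun c hc => ⟨hc, fun l => by
      by_cases hdep : ∀ r : F₀, c ≠ r • e
      · exact hall l e c (hew hc) he hdep
      push Not at hdep
      obtain ⟨r', rfl⟩ := hdep
      rw [Sp.S, ← rv_add]
      exact mul_mem (mul_mem (inv_mem (htr _ _)) (htr _ _)) (inv_mem (htr _ _))⟩
    obtain ⟨z, -, hez⟩ := sp_dual hA hD (![] : Fin 0 → ι → F₀) (p := e) fun s h => he (by simpa using h)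
    have hze : B (rv F₀ z) (rv F₀ e) = -1 := by rw [Sp.alt_neg B hA (rv F₀ e) (rv F₀ z), hez]
    have key : ∀ i, ∃ c : F, (Pi.single i 1 : V) + c • rv F₀ z ∈ Y := fun i => by
      set k : F₀ := ⟨_, hD.rat (Pi.single i 1) e⟩ with hk
      refine ⟨k, ?_⟩
      have e1 : rv F₀ (Pi.single i (1 : F₀)) = Pi.single i (1 : F) := funext fun j => by
        simp [rv, Pi.single_apply, apply_ite Subtype.val]
      have := hrat (Pi.single i 1 + k • z) (by
        rw [rv_add, rv_smul, map_add, LinearMap.add_apply, map_smul, LinearMap.smul_apply, hze]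
        simp [hk])
      rwa [rv_add, rv_smul, e1] at this
    choose c hc using key
    have hdec : ∑ i, w i • ((Pi.single i 1 : V) + c i • rv F₀ z) = w + (∑ i, w i * c i) • rv F₀ z := by
      simp only [smul_add, Finset.sum_add_distrib, smul_smul, ← Finset.sum_smul]
      congr 1
      exact (pi_eq_sum_univ' w).symm
    have hmem : w + (∑ i, w i * c i) • rv F₀ z ∈ Y := hdec ▸ Y.sum_mem fun i _ => Y.smul_mem _ (hc i)
    have h0 : (∑ i, w i * c i) = 0 := by
      have := hmem.1
      rw [map_add, LinearMap.add_apply, hwe, map_smul, LinearMap.smul_apply, hze] at this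
      simpa using this
    rw [h0, zero_smul, add_zero] at hmem
    exact hmem
  have hcomb : ∀ (w : V) (e : ι → F₀) (t : F), w ∈ X → w + t • rv F₀ e ∈ X := by
    intro w e t hw l
    by_cases h0 : B w (rv F₀ e) = 0
    · have hew : B (rv F₀ e) w = 0 := by rw [Sp.alt_neg B hA w (rv F₀ e), h0, neg_zero]
      have h1 := hSgen e w h0 (t * l)
      rw [S_comm hA hew, ← S_smul_right hA h0 t l, Sp.S] at h1
      have h2 := (mul_mem_cancel_right (inv_mem (by rw [Sp.T_smul]; exact htr e _))).1 h1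
      exact (mul_mem_cancel_left (inv_mem (hw l))).1 h2
    · have hX := htr e (t / B w (rv F₀ e))
      have := mul_mem (mul_mem hX (hw l)) (inv_mem hX)
      rw [Sp.conj_T, Sp.T_apply, div_mul_cancel₀ _ h0] at this
      exact this
  have hallv : ∀ v : V, v ∈ X := by
    intro v
    have h : ∀ s : Finset ι, (∑ i ∈ s, v i • rv F₀ (Pi.single i 1)) ∈ X := fun s => by
      induction s using Finset.induction_on with
      | empty => intro l; rw [Finset.sum_empty, Sp.T_zero_vec]; exact one_mem _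
      | insert i s his ih => rw [Finset.sum_insert his, add_comm]; exact hcomb _ _ _ ih
    have hv := h Finset.univ
    rwa [show (∑ i, v i • rv F₀ (Pi.single i (1 : F₀))) = v from funext fun j => by
      simp [Finset.sum_apply, rv, Pi.single_apply, apply_ite Subtype.val]] at hv
  rw [eq_top_iff, ← Sp.closure_tSet B hA hD.nd, Subgroup.closure_le]
  rintro _ ⟨v, -, l, rfl⟩
  exact hallv v l

end Cfsg.Agent.Classical.SubfieldSymp
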