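import Cfsg.Agent.S0261
import Cfsg.Agent.S4623
import Cfsg.Agent.Lib.Classical.Linear
import Cfsg.Agent.Lib.Classical.SL2
import Cfsg.Agent.Lib.Perm.SylowSymmGen

/-!
Sylow 2-subgroups of general and special linear groups in odd characteristic: squares lie in the derived subgroup.
-/

set_option autoImplicit false
set_option linter.unusedSectionVars false
set_option linter.style.haveILetI false

open Matrix
open scoped Pointwise Kronecker

namespace Cfsg.Agent.SylowAbelGL

theorem quat_sq (k : ℕ) (hk : 1 ≤ k) (x : QuaternionGroup (2 ^ k)) : x ^ 2 ∈ commutator (QuaternionGroup (2 ^ k)) := by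
  haveI : NeZero (2 ^ k) := ⟨by positivity⟩
  have hc : ∀ j : ZMod (2 * 2 ^ k), QuaternionGroup.a (2 * j) ∈ commutator (QuaternionGroup (2 ^ k)) := by
    intro j
    have h := Subgroup.commutator_mem_commutator (Subgroup.mem_top (QuaternionGroup.a (n := 2 ^ k) j))
      (Subgroup.mem_top (QuaternionGroup.xa (n := 2 ^ k) 0))
    rw [← commutator_def] at h
    convert h using 1
    rw [commutatorElement_def, mul_assoc, mul_assoc]
    rw [show (QuaternionGroup.a (n := 2 ^ k) j)⁻¹ = QuaternionGroup.a (-j) from rfl,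
      show (QuaternionGroup.xa (n := 2 ^ k) 0)⁻¹ = QuaternionGroup.xa (((2 ^ k : ℕ) : ZMod (2 * 2 ^ k)) + 0) from rfl]
    simp only [QuaternionGroup.a_mul_xa, QuaternionGroup.xa_mul_xa, QuaternionGroup.a_mul_a, QuaternionGroup.xa_mul_a]
    congr 1
    have h2 : ((2 ^ k : ℕ) : ZMod (2 * 2 ^ k)) + ((2 ^ k : ℕ) : ZMod (2 * 2 ^ k)) = 0 := by
      rw [← Nat.cast_add, ← two_mul, ZMod.natCast_self]
    linear_combination -h2
  obtain ⟨r, rfl⟩ : ∃ r, k = r + 1 := ⟨k - 1, by omega⟩
  rcases x with i | i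
  · rw [sq, QuaternionGroup.a_mul_a, ← two_mul]; exact hc i
  · rw [sq, QuaternionGroup.xa_mul_xa]
    have e : ((2 ^ (r + 1) : ℕ) : ZMod (2 * 2 ^ (r + 1))) + i - i = 2 * ((2 ^ r : ℕ) : ZMod (2 * 2 ^ (r + 1))) := by
      rw [add_sub_cancel_right, show (2 : ZMod (2 * 2 ^ (r + 1))) = ((2 : ℕ) : ZMod (2 * 2 ^ (r + 1))) from (Nat.cast_two).symm, ← Nat.cast_mul]
      congr 1
      rw [pow_succ, mul_comm]
    rw [e]; exact hc _

theorem kill_sq {X H : Type*} [Group X] [Group H] (j : X →* H) (hX : ∀ y : X, y ^ 2 ∈ commutator X) (y : X) :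
    (Abelianization.of (j y)) ^ 2 = 1 := by
  rw [← map_pow, ← map_pow, ← MonoidHom.mem_ker, Abelianization.ker_of]
  have h1 : (commutator X).map j ≤ commutator H := by
    rw [commutator_def, Subgroup.map_commutator, commutator_def]
    exact Subgroup.commutator_mono le_top le_top
  exact h1 ⟨_, hX y, rfl⟩

theorem sq_mem_iff {H : Type*} [Group H] : (∀ x : H, x ^ 2 ∈ commutator H) ↔ ∀ x : H, (Abelianization.of x) ^ 2 = 1 := by
  refine forall_congr' fun x => ?_
  rw [← map_pow, ← MonoidHom.mem_ker, Abelianization.ker_of]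

theorem transfer {G : Type*} [Group G] [Finite G] {H : Subgroup G}
    (hcard : Nat.card H = 2 ^ padicValNat 2 (Nat.card G)) (hsq : ∀ x : H, x ^ 2 ∈ commutator H) (P : Sylow 2 G)
    (x : (P : Subgroup G)) : x ^ 2 ∈ commutator (P : Subgroup G) := by
  haveI : Fact (Nat.Prime 2) := ⟨Nat.prime_two⟩
  let P₀ : Sylow 2 G := Sylow.ofCard H (by rw [hcard, Nat.factorization_def _ Nat.prime_two])
  exact Cfsg.Agent.Perm.SylowSymmGen.pow_mem_commutator_of_equiv (p := 2) (P₀.equiv P) hsq x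

theorem transfer_hom {G K : Type*} [Group G] [Group K] [Finite K] {H : Subgroup G} (j : G →* K)
    (hj : Function.Injective j) (hcard : Nat.card H = 2 ^ padicValNat 2 (Nat.card K))
    (hsq : ∀ x : H, x ^ 2 ∈ commutator H) (P : Sylow 2 K) (x : (P : Subgroup K)) :
    x ^ 2 ∈ commutator (P : Subgroup K) := by
  refine transfer (H := H.map j) (by rw [Subgroup.card_map_of_injective hj, hcard]) (fun y => ?_) P x
  exact Cfsg.Agent.Perm.SylowSymmGen.pow_mem_commutator_of_equiv (p := 2) (H.equivMapOfInjective j hj) hsq y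

variable {F : Type*} [Field F] [Fintype F] {m : ℕ}

/-- Block diagonal elements. -/
def D : (Fin m → GL (Fin 2) F) →* GL (Fin 2 × Fin m) F where
  toFun a := ⟨blockDiagonal fun i => (a i : Matrix (Fin 2) (Fin 2) F),
    blockDiagonal fun i => ((a i)⁻¹ : GL (Fin 2) F).1, by rw [← blockDiagonal_mul]; simp; exact blockDiagonal_one, by
      rw [← blockDiagonal_mul]; simp; exact blockDiagonal_one⟩
  map_one' := Units.ext (by simp; exact blockDiagonal_one)
  map_mul' a b := Units.ext (by simp [← blockDiagonal_mul])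

/-- A permutation matrix. -/
def perm (σ : Equiv.Perm (Fin m)) : Matrix (Fin m) (Fin m) F := Matrix.of fun i j => if j = σ i then 1 else 0

theorem perm_mul (σ τ : Equiv.Perm (Fin m)) : perm (F := F) σ * perm τ = perm (τ * σ) := by
  ext i j
  rw [Matrix.mul_apply, Finset.sum_eq_single (σ i) (fun x _ hx => by simp [perm, hx]) (by simp)]
  simp only [perm, Matrix.of_apply, Equiv.Perm.mul_apply, if_true, one_mul]
  congr

theorem perm_one : perm (F := F) (1 : Equiv.Perm (Fin m)) = 1 := by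
  ext i j; simp [perm, Matrix.one_apply, eq_comm]

/-- Permutations of the blocks. -/
def W : Equiv.Perm (Fin m) →* GL (Fin 2 × Fin m) F where
  toFun σ := ⟨(1 : Matrix (Fin 2) (Fin 2) F) ⊗ₖ perm σ⁻¹, (1 : Matrix (Fin 2) (Fin 2) F) ⊗ₖ perm σ, by
    rw [← mul_kronecker_mul, perm_mul, mul_inv_cancel, perm_one, mul_one, one_kronecker_one], by
    rw [← mul_kronecker_mul, perm_mul, inv_mul_cancel, perm_one, mul_one, one_kronecker_one]⟩
  map_one' := Units.ext (by simp [perm_one])
  map_mul' σ τ := Units.ext (by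
    show (1 : Matrix (Fin 2) (Fin 2) F) ⊗ₖ perm (σ * τ)⁻¹ =
      ((1 : Matrix (Fin 2) (Fin 2) F) ⊗ₖ perm σ⁻¹) * ((1 : Matrix (Fin 2) (Fin 2) F) ⊗ₖ perm τ⁻¹)
    rw [← mul_kronecker_mul, perm_mul, mul_one, _root_.mul_inv_rev])

theorem push (σ : Equiv.Perm (Fin m)) (a : Fin m → GL (Fin 2) F) : W σ * D a = D (a ∘ ⇑σ⁻¹) * W σ := by
  refine Units.ext ?_
  show ((1 : Matrix (Fin 2) (Fin 2) F) ⊗ₖ perm σ⁻¹) * blockDiagonal (fun i => (a i : Matrix (Fin 2) (Fin 2) F)) =
    blockDiagonal (fun i => (a (σ⁻¹ i) : Matrix (Fin 2) (Fin 2) F)) * ((1 : Matrix (Fin 2) (Fin 2) F) ⊗ₖ perm σ⁻¹)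
  ext ⟨x, i⟩ ⟨y, j⟩
  rw [Matrix.mul_apply, Matrix.mul_apply, Fintype.sum_prod_type, Fintype.sum_prod_type]
  simp only [kroneckerMap_apply, perm, Matrix.of_apply, blockDiagonal_apply, Matrix.one_apply]
  rw [Finset.sum_eq_single x (fun z _ hz => by simp [Ne.symm hz]) (by simp),
    Finset.sum_eq_single y (fun z _ hz => by simp [hz]) (by simp)]
  rw [Finset.sum_eq_single (σ⁻¹ i) (fun z _ hz => by
      simp [hz]
      intro _ h; exact absurd h hz) (by simp),
    Finset.sum_eq_single i (fun z _ hz => by simp [Ne.symm hz]) (by simp)]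
  by_cases h : j = σ⁻¹ i
  · simp [h]
  · simp [eq_comm]

theorem WD_injective : Function.Injective fun p : Equiv.Perm (Fin m) × (Fin m → GL (Fin 2) F) => W p.1 * D p.2 := by
  rintro ⟨σ, a⟩ ⟨τ, b⟩ h
  have h' : W (τ⁻¹ * σ) = D (b * a⁻¹) := by
    rw [map_mul, map_mul, map_inv, map_inv]
    calc (W τ)⁻¹ * W σ = (W τ)⁻¹ * (W σ * D a) * (D a)⁻¹ := by group
      _ = _ := by rw [show W σ * D a = W τ * D b from h]; group
  have hσ : σ = τ := by
    by_contra hne
    obtain ⟨i, hi⟩ : ∃ i, (τ⁻¹ * σ)⁻¹ i ≠ i := by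
      by_contra hc
      push Not at hc
      exact hne (inv_mul_eq_one.1 (inv_eq_one.1 (Equiv.ext hc))).symm
    have := congrArg (fun u : GL (Fin 2 × Fin m) F => (u : Matrix (Fin 2 × Fin m) (Fin 2 × Fin m) F) (0, i) (0, (τ⁻¹ * σ)⁻¹ i)) h'
    change ((1 : Matrix (Fin 2) (Fin 2) F) ⊗ₖ perm (τ⁻¹ * σ)⁻¹) (0, i) (0, (τ⁻¹ * σ)⁻¹ i) =
      blockDiagonal (fun k => ((b * a⁻¹) k : Matrix (Fin 2) (Fin 2) F)) (0, i) (0, (τ⁻¹ * σ)⁻¹ i) at this
    rw [blockDiagonal_apply_ne _ _ _ (Ne.symm hi)] at this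
    simp [kroneckerMap_apply, perm] at this
  subst hσ
  refine Prod.ext rfl (funext fun i => Units.ext (Matrix.ext fun x y => ?_))
  have h2 : D a = D b := mul_left_cancel (h : W σ * D a = W σ * D b)
  have h3 := congrArg (fun u : GL (Fin 2 × Fin m) F => (u : Matrix (Fin 2 × Fin m) (Fin 2 × Fin m) F) (x, i) (y, i)) h2
  change blockDiagonal (fun k => (a k : Matrix (Fin 2) (Fin 2) F)) (x, i) (y, i) =
    blockDiagonal (fun k => (b k : Matrix (Fin 2) (Fin 2) F)) (x, i) (y, i) at h3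
  rwa [blockDiagonal_apply_eq, blockDiagonal_apply_eq] at h3

theorem det_D (a : Fin m → GL (Fin 2) F) :
    GeneralLinearGroup.det (D a) = ∏ i, GeneralLinearGroup.det (a i) := by
  refine Units.ext ?_
  rw [Units.coe_prod]
  exact det_blockDiagonal (fun i => (a i : Matrix (Fin 2) (Fin 2) F))

theorem det_W (σ : Equiv.Perm (Fin m)) : GeneralLinearGroup.det (W (F := F) σ) = 1 := by
  refine Units.ext ?_
  show ((1 : Matrix (Fin 2) (Fin 2) F) ⊗ₖ perm σ⁻¹).det = 1
  rw [det_kronecker, det_one, one_pow, one_mul, Fintype.card_fin]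
  have hp : perm (F := F) σ⁻¹ = (σ⁻¹).permMatrix F := by
    ext i j; simp [perm, Equiv.Perm.permMatrix, PEquiv.toMatrix_apply, Equiv.toPEquiv_apply, eq_comm]
  rw [hp, det_permutation]
  rcases Int.units_eq_one_or (Equiv.Perm.sign σ⁻¹) with h | h <;> rw [h] <;> simp

/-- `diag(u, 1)`. -/
def ζ : Fˣ →* GL (Fin 2) F where
  toFun u := ⟨diagonal ![(u : F), 1], diagonal ![((u⁻¹ : Fˣ) : F), 1], by
    rw [diagonal_mul_diagonal, ← diagonal_one]; congr 1; funext i; fin_cases i <;> simp, by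
    rw [diagonal_mul_diagonal, ← diagonal_one]; congr 1; funext i; fin_cases i <;> simp⟩
  map_one' := Units.ext (by
    show diagonal ![((1 : Fˣ) : F), 1] = 1
    rw [← diagonal_one]; congr 1; funext i; fin_cases i <;> simp)
  map_mul' u v := Units.ext (by
    show diagonal ![((u * v : Fˣ) : F), 1] = diagonal ![(u : F), 1] * diagonal ![(v : F), 1]
    rw [diagonal_mul_diagonal]; congr 1; funext i; fin_cases i <;> simp)

theorem det_ζ (u : Fˣ) : GeneralLinearGroup.det (ζ u) = u := by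
  refine Units.ext ?_
  show (diagonal ![(u : F), 1]).det = (u : F)
  simp [det_diagonal, Fin.prod_univ_two]

theorem v_odd {q : ℕ} (hq1 : 1 < q) (hq : Odd q) (i : ℕ) :
    padicValNat 2 (q ^ (2 * i + 1) - 1) = padicValNat 2 (q - 1) := by
  have h := geom_sum_mul_add (q - 1) (2 * i + 1)
  rw [show q - 1 + 1 = q by omega] at h
  have hodd : ∀ k, Odd (∑ j ∈ Finset.range (2 * k + 1), q ^ j) := by
    intro k
    induction k with
    | zero => simp
    | succ k ih =>
      rw [show 2 * (k + 1) + 1 = 2 * k + 1 + 1 + 1 by ring, Finset.sum_range_succ, Finset.sum_range_succ, add_assoc]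
      exact ih.add_even (hq.pow.add_odd hq.pow)
  rw [← h, Nat.add_sub_cancel, padicValNat.mul (by have := hodd i; intro e; rw [e] at this; simp at this) (by omega),
    padicValNat.eq_zero_of_not_dvd (by obtain ⟨t, ht⟩ := hodd i; omega), zero_add]

theorem v_even {q : ℕ} (hq1 : 1 < q) (hq : Odd q) (i : ℕ) :
    padicValNat 2 (q ^ (2 * (i + 1)) - 1) = padicValNat 2 (q ^ 2 - 1) + padicValNat 2 (i + 1) := by
  have hqodd : ¬ 2 ∣ q := by obtain ⟨t, ht⟩ := hq; omega
  have h1 := padicValNat.pow_two_sub_one hq1 hqodd (n := 2 * (i + 1)) (by omega) (even_two_mul _)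
  have h2 := padicValNat.pow_two_sub_one hq1 hqodd (n := 2) (by omega) even_two
  rw [padicValNat.mul (by omega) (by omega)] at h1
  have h3 : padicValNat 2 2 = 1 := padicValNat.self (by norm_num)
  omega

theorem v_GL (hF : Odd (Fintype.card F)) (n : ℕ) :
    padicValNat 2 (Nat.card (GL (Fin n) F)) = ∑ i ∈ Finset.range n, padicValNat 2 (Fintype.card F ^ (i + 1) - 1) := by
  set q := Fintype.card F with hq
  have hq1 : 1 < q := Fintype.one_lt_card
  have hne : ∀ i, q ^ (i + 1) - 1 ≠ 0 := fun i => by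
    have : 1 < q ^ (i + 1) := Nat.one_lt_pow (by omega) hq1
    omega
  rw [Matrix.card_GL_field, ← hq, Fin.prod_univ_eq_prod_range (fun i => q ^ n - q ^ i) n]
  have e : ∏ i ∈ Finset.range n, (q ^ n - q ^ i) = ∏ i ∈ Finset.range n, (q ^ (n - 1 - i) * (q ^ (i + 1) - 1)) := by
    rw [← Finset.prod_range_reflect]
    refine Finset.prod_congr rfl fun i hi => ?_
    have hi' := Finset.mem_range.1 hi
    rw [Nat.mul_sub, mul_one, ← pow_add]
    congr 2
    omega
  rw [e]
  have key : ∀ k (g : ℕ → ℕ), padicValNat 2 (∏ i ∈ Finset.range k, (q ^ g i * (q ^ (i + 1) - 1))) =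
      ∑ i ∈ Finset.range k, padicValNat 2 (q ^ (i + 1) - 1) := by
    intro k g
    induction k with
    | zero => simp
    | succ k ih =>
      rw [Finset.prod_range_succ, Finset.sum_range_succ,
        padicValNat.mul (Finset.prod_ne_zero_iff.2 fun i _ => Nat.mul_ne_zero (pow_ne_zero _ (by omega)) (hne i))
          (Nat.mul_ne_zero (pow_ne_zero _ (by omega)) (hne k)), ih,
        padicValNat.mul (pow_ne_zero _ (by omega)) (hne k), padicValNat.pow _,
        padicValNat.eq_zero_of_not_dvd (by obtain ⟨t, ht⟩ := hF; omega)]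
      simp
  exact key n _

theorem v_GL_two_mul (hF : Odd (Fintype.card F)) (m : ℕ) :
    padicValNat 2 (Nat.card (GL (Fin (2 * m)) F)) =
      m * padicValNat 2 (Nat.card (GL (Fin 2) F)) + padicValNat 2 m.factorial := by
  have hq1 : 1 < Fintype.card F := Fintype.one_lt_card
  have h2 : padicValNat 2 (Nat.card (GL (Fin 2) F)) =
      padicValNat 2 (Fintype.card F - 1) + padicValNat 2 (Fintype.card F ^ 2 - 1) := by
    rw [v_GL hF, Finset.sum_range_succ, Finset.sum_range_one]; simp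
  rw [v_GL hF, h2]
  induction m with
  | zero => simp
  | succ k ih =>
    rw [show 2 * (k + 1) = 2 * k + 1 + 1 by ring, Finset.sum_range_succ, Finset.sum_range_succ, ih, v_odd hq1 hF,
      show 2 * k + 1 + 1 = 2 * (k + 1) by ring, v_even hq1 hF, Nat.factorial_succ,
      padicValNat.mul (by omega) (Nat.factorial_ne_zero k)]
    ring

theorem det_range_le (C : Sylow 2 Fˣ) {G : Type*} [Group G] (hG : IsPGroup 2 G) (f : G →* Fˣ) (g : G) :
    f g ∈ (C : Subgroup Fˣ) := by
  haveI : Fact (Nat.Prime 2) := ⟨Nat.prime_two⟩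
  have h1 : IsPGroup 2 ↥f.range := hG.of_surjective f.rangeRestrict f.rangeRestrict_surjective
  have h2 : IsPGroup 2 ↥((C : Subgroup Fˣ) ⊔ f.range) :=
    IsPGroup.to_sup_of_normal_right C.2 h1
  rw [← C.is_maximal' h2 le_sup_left]
  exact Subgroup.mem_sup_right ⟨g, rfl⟩

/-- The data of the construction. -/
theorem exists_parts (hF : Odd (Fintype.card F)) (C : Sylow 2 Fˣ) :
    ∃ R : Sylow 2 (GL (Fin 2) F), (∀ u ∈ (C : Subgroup Fˣ), ζ u ∈ (R : Subgroup (GL (Fin 2) F))) ∧
      ∀ y : ↥((R : Subgroup (GL (Fin 2) F)).comap SpecialLinearGroup.toGL), y ^ 2 ∈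
        commutator ↥((R : Subgroup (GL (Fin 2) F)).comap SpecialLinearGroup.toGL) := by
  haveI : Fact (Nat.Prime 2) := ⟨Nat.prime_two⟩
  obtain ⟨R, hR⟩ := (C.2.map (ζ (F := F))).exists_le_sylow
  refine ⟨R, fun u hu => hR ⟨u, hu, rfl⟩, ?_⟩
  set Q := (R : Subgroup (GL (Fin 2) F)).comap SpecialLinearGroup.toGL with hQ
  have hQ2 : IsPGroup 2 ↥Q := R.2.comap_of_injective _ SpecialLinearGroup.toGL_injective
  let f : ↥(R : Subgroup (GL (Fin 2) F)) →* Fˣ := GeneralLinearGroup.det.comp (R : Subgroup (GL (Fin 2) F)).subtype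
  have hker : Nat.card f.ker = Nat.card Q := by
    refine (Nat.card_eq_of_bijective (fun y : Q => (⟨⟨SpecialLinearGroup.toGL y.1, y.2⟩, MonoidHom.mem_ker.2
      (Units.ext y.1.2)⟩ : f.ker)) ⟨fun a b h => Subtype.ext (SpecialLinearGroup.toGL_injective
      (congrArg Subtype.val (congrArg Subtype.val h))), fun x => ?_⟩).symm
    have hd : ((x.1 : GL (Fin 2) F) : Matrix (Fin 2) (Fin 2) F).det = 1 := congrArg Units.val (MonoidHom.mem_ker.1 x.2)
    have e : SpecialLinearGroup.toGL (⟨_, hd⟩ : SpecialLinearGroup (Fin 2) F) = x.1.1 := Units.ext rfl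
    have hmem : (⟨_, hd⟩ : SpecialLinearGroup (Fin 2) F) ∈ Q := by
      show SpecialLinearGroup.toGL (⟨_, hd⟩ : SpecialLinearGroup (Fin 2) F) ∈ (R : Subgroup (GL (Fin 2) F))
      rw [e]; exact x.1.2
    exact ⟨⟨_, hmem⟩, Subtype.ext (Subtype.ext e)⟩
  have hrange : Nat.card f.range ≤ 2 ^ padicValNat 2 (Nat.card Fˣ) := by
    rw [← Nat.factorization_def _ Nat.prime_two, ← C.card_eq_multiplicity]
    exact Nat.card_le_card_of_injective (Subgroup.inclusion (show f.range ≤ (C : Subgroup Fˣ) from fun u hu => by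
      obtain ⟨g, rfl⟩ := hu; exact det_range_le C R.2 f g))
      (Subgroup.inclusion_injective _)
  have hmul := f.ker.card_mul_index
  rw [Subgroup.index_ker, hker, R.card_eq_multiplicity, Nat.factorization_def _ Nat.prime_two,
    Cfsg.Agent.Classical.card_GL_eq_mul_card_SL] at hmul
  obtain ⟨Q', hQQ'⟩ := hQ2.exists_le_sylow
  have hq : Fintype.card F - 1 ≠ 0 := by
    have := Fintype.one_lt_card (α := F); omega
  have hEq : Q = (Q' : Subgroup (SpecialLinearGroup (Fin 2) F)) := by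
    refine Subgroup.eq_of_le_of_card_ge hQQ' (Nat.le_of_mul_le_mul_right ?_ (Nat.two_pow_pos
      (padicValNat 2 (Nat.card F - 1))))
    rw [Q'.card_eq_multiplicity, Nat.factorization_def _ Nat.prime_two]
    have h3 : Nat.card Q * Nat.card f.range ≤ Nat.card Q * 2 ^ padicValNat 2 (Nat.card F - 1) := by
      rw [Nat.card_units] at hrange
      exact Nat.mul_le_mul_left _ hrange
    rw [hmul, Nat.card_eq_fintype_card (α := F)] at h3
    rw [Nat.card_eq_fintype_card (α := F), ← pow_add]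
    rw [padicValNat.mul hq Nat.card_pos.ne'] at h3
    rwa [add_comm]
  obtain ⟨k, hk, ⟨eQ⟩⟩ := Cfsg.Agent.S0261.result hF Q'
  rw [hEq]
  exact fun y => Cfsg.Agent.Perm.SylowSymmGen.pow_mem_commutator_of_equiv (p := 2) eQ.symm (quat_sq k hk) y

theorem transitive_sylow {j : ℕ} (T : Sylow 2 (Equiv.Perm (Fin (2 ^ j)))) (a b : Fin (2 ^ j)) :
    ∃ t : ↥(T : Subgroup (Equiv.Perm (Fin (2 ^ j)))), (t : Equiv.Perm (Fin (2 ^ j))) a = b := by
  haveI : Fact (Nat.Prime 2) := ⟨Nat.prime_two⟩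
  classical
  set O := MulAction.orbit ↥(T : Subgroup (Equiv.Perm (Fin (2 ^ j)))) a
  set S := MulAction.stabilizer ↥(T : Subgroup (Equiv.Perm (Fin (2 ^ j)))) a
  have h1 : S.index = Nat.card O := by rw [MulAction.index_stabilizer]; rfl
  have hn : 2 ^ j ≠ 0 := by positivity
  let emb : ↥S → MulAction.stabilizer (Equiv.Perm (Fin (2 ^ j))) a := fun s => ⟨(s.1 : Equiv.Perm _), s.2⟩
  have h2 : Nat.card S ≤ 2 ^ padicValNat 2 (2 ^ j - 1).factorial := by
    obtain ⟨k, hk⟩ := IsPGroup.iff_card.1 (T.2.to_subgroup S)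
    rw [hk]
    refine Nat.pow_le_pow_right (by norm_num) ((padicValNat_dvd_iff_le (Nat.factorial_ne_zero _)).1 ?_)
    have hcard : Nat.card (MulAction.stabilizer (Equiv.Perm (Fin (2 ^ j))) a) = (2 ^ j - 1).factorial := by
      have h := Subgroup.card_mul_index (MulAction.stabilizer (Equiv.Perm (Fin (2 ^ j))) a)
      rw [MulAction.index_stabilizer_of_transitive, Nat.card_perm, Nat.card_fin, ← Nat.mul_factorial_pred hn,
        mul_comm] at h
      exact Nat.eq_of_mul_eq_mul_left (Nat.pos_of_ne_zero hn) h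
    rw [← hk, ← hcard]
    exact Subgroup.card_dvd_of_injective
      ({ toFun := emb, map_one' := rfl, map_mul' := fun _ _ => rfl } : ↥S →* _)
      (fun x y h => Subtype.ext (Subtype.ext (congrArg Subtype.val h :)))
  have h3 := S.card_mul_index
  rw [h1, T.card_eq_multiplicity, Nat.factorization_def _ Nat.prime_two, Nat.card_perm, Nat.card_fin,
    ← Nat.mul_factorial_pred hn, padicValNat.mul hn (Nat.factorial_ne_zero _), padicValNat.prime_pow, pow_add] at h3
  have h4 : 2 ^ j ≤ Nat.card O := by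
    by_contra h
    have := Nat.mul_lt_mul_of_le_of_lt h2 (not_le.1 h) (by positivity)
    rw [h3, mul_comm] at this
    exact lt_irrefl _ this
  have h5 : O = Set.univ := Set.eq_of_subset_of_ncard_le (Set.subset_univ _)
    (by rw [Set.ncard_univ, Nat.card_fin, ← Nat.card_coe_set_eq]; exact h4)
  obtain ⟨t, ht⟩ := MulAction.mem_orbit_iff.1 (h5 ▸ Set.mem_univ b : b ∈ O)
  exact ⟨t, ht⟩

set_option maxHeartbeats 800000 in
/-- The two statements in the block model. -/
theorem model (hF : Odd (Fintype.card F)) (m : ℕ) :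
    ∃ H : Subgroup (GL (Fin 2 × Fin m) F),
      Nat.card H = 2 ^ padicValNat 2 (Nat.card (GL (Fin (2 * m)) F)) ∧
      (4 ∣ Fintype.card F + 1 → ∀ x : H, x ^ 2 ∈ commutator H) ∧
      (1 ≤ m → 4 ∣ Fintype.card F + 1 ∨ (∃ j : ℕ, m = 2 ^ j) →
        Nat.card (H.comap SpecialLinearGroup.toGL) * 2 ^ padicValNat 2 (Fintype.card F - 1) = Nat.card H ∧
        ∀ x : ↥(H.comap SpecialLinearGroup.toGL), x ^ 2 ∈ commutator ↥(H.comap SpecialLinearGroup.toGL)) := by
  classical
  haveI : Fact (Nat.Prime 2) := ⟨Nat.prime_two⟩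
  obtain ⟨C⟩ : Nonempty (Sylow 2 Fˣ) := inferInstance
  obtain ⟨T⟩ : Nonempty (Sylow 2 (Equiv.Perm (Fin m))) := inferInstance
  obtain ⟨R, hRζ, hQsq⟩ := exists_parts hF C
  have hTsq := (Cfsg.Agent.S4623.result 2 m T (default : Sylow 2 (alternatingGroup (Fin m)))).1
  have hCcard : Nat.card (C : Subgroup Fˣ) = 2 ^ padicValNat 2 (Fintype.card F - 1) := by
    rw [C.card_eq_multiplicity, Nat.factorization_def _ Nat.prime_two, Nat.card_units, Nat.card_eq_fintype_card]
  have hC2 : 4 ∣ Fintype.card F + 1 → ∀ u ∈ (C : Subgroup Fˣ), u ^ 2 = 1 := by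
    intro h4 u hu
    have h1 : padicValNat 2 (Fintype.card F - 1) ≤ 1 := by
      by_contra h
      have h2 : 4 ∣ Fintype.card F - 1 := (pow_dvd_pow 2 (not_le.1 h)).trans pow_padicValNat_dvd
      have := Fintype.one_lt_card (α := F)
      omega
    have h2 : Nat.card (C : Subgroup Fˣ) ∣ 2 := by
      rw [hCcard]; exact (pow_dvd_pow 2 h1).trans (by norm_num)
    have h3 : (⟨u, hu⟩ : ↥(C : Subgroup Fˣ)) ^ 2 = 1 :=
      orderOf_dvd_iff_pow_eq_one.1 ((orderOf_dvd_natCard _).trans h2)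
    exact congrArg Subtype.val h3
  let fD : (Fin m → ↥(R : Subgroup (GL (Fin 2) F))) →* GL (Fin 2 × Fin m) F :=
    (D (F := F) (m := m)).comp { toFun := fun a i => (a i).1, map_one' := rfl, map_mul' := fun _ _ => rfl }
  let fW : ↥(T : Subgroup (Equiv.Perm (Fin m))) →* GL (Fin 2 × Fin m) F :=
    (W (F := F) (m := m)).comp (T : Subgroup (Equiv.Perm (Fin m))).subtype
  let H := fW.range ⊔ fD.range
  have hWD : fW.range ≤ Subgroup.normalizer (fD.range : Set (GL (Fin 2 × Fin m) F)) := by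
    have key : ∀ τ : ↥(T : Subgroup (Equiv.Perm (Fin m))), ∀ g ∈ fD.range, fW τ * g * (fW τ)⁻¹ ∈ fD.range := by
      rintro τ _ ⟨a, rfl⟩
      refine ⟨fun i => a ((τ : Equiv.Perm (Fin m))⁻¹ i), ?_⟩
      show D (fun i => (a ((τ : Equiv.Perm (Fin m))⁻¹ i)).1) = W (τ : Equiv.Perm (Fin m)) * D (fun i => (a i).1) * (W (τ : Equiv.Perm (Fin m)))⁻¹
      rw [push, mul_inv_cancel_right]
      rfl
    rintro _ ⟨σ, rfl⟩
    rw [Subgroup.mem_normalizer_iff]
    refine fun g => ⟨key σ g, fun h => ?_⟩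
    have := key σ⁻¹ _ h
    rwa [map_inv, inv_inv, show (fW σ)⁻¹ * (fW σ * g * (fW σ)⁻¹) * fW σ = g by group] at this
  let Φ : ↥(T : Subgroup (Equiv.Perm (Fin m))) × (Fin m → ↥(R : Subgroup (GL (Fin 2) F))) → ↥H :=
    fun p => ⟨fW p.1 * fD p.2, mul_mem (Subgroup.mem_sup_left ⟨_, rfl⟩) (Subgroup.mem_sup_right ⟨_, rfl⟩)⟩
  have hbij : Function.Bijective Φ := by
    refine ⟨?_, fun g => ?_⟩
    · rintro ⟨σ, a⟩ ⟨τ, b⟩ h
      have h' := WD_injective (F := F) (m := m)
        (a₁ := ((σ : Equiv.Perm (Fin m)), fun i => (a i).1)) (a₂ := ((τ : Equiv.Perm (Fin m)), fun i => (b i).1))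
        (congrArg Subtype.val h)
      exact Prod.ext (Subtype.ext (congrArg Prod.fst h'))
        (funext fun i => Subtype.ext (congrFun (congrArg Prod.snd h') i))
    · have hg : (g : GL (Fin 2 × Fin m) F) ∈
          (fW.range : Set (GL (Fin 2 × Fin m) F)) * (fD.range : Set (GL (Fin 2 × Fin m) F)) := by
        rw [← Subgroup.coe_mul_of_left_le_normalizer_right _ _ hWD]; exact g.2
      obtain ⟨_, ⟨σ, rfl⟩, _, ⟨A, rfl⟩, e⟩ := hg
      exact ⟨(σ, A), Subtype.ext e⟩
  have hHcard : Nat.card H = 2 ^ padicValNat 2 (Nat.card (GL (Fin (2 * m)) F)) := by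
    rw [← Nat.card_congr (Equiv.ofBijective Φ hbij), Nat.card_prod, Nat.card_fun, Nat.card_fin,
      R.card_eq_multiplicity, T.card_eq_multiplicity, Nat.factorization_def _ Nat.prime_two,
      Nat.factorization_def _ Nat.prime_two, Nat.card_perm, Nat.card_fin, ← pow_mul, ← pow_add, v_GL_two_mul hF]
    ring
  have hdetR : ∀ r : ↥(R : Subgroup (GL (Fin 2) F)), GeneralLinearGroup.det r.1 ∈ (C : Subgroup Fˣ) := fun r =>
    det_range_le C R.2 (GeneralLinearGroup.det.comp (R : Subgroup (GL (Fin 2) F)).subtype) r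
  let Q := (R : Subgroup (GL (Fin 2) F)).comap SpecialLinearGroup.toGL
  have hsplit : ∀ r : ↥(R : Subgroup (GL (Fin 2) F)), ∃ y : ↥Q,
      (r : GL (Fin 2) F) = SpecialLinearGroup.toGL y.1 * ζ (GeneralLinearGroup.det r.1) := by
    intro r
    set g := r.1 * (ζ (GeneralLinearGroup.det r.1))⁻¹ with hg
    have hd : (g : Matrix (Fin 2) (Fin 2) F).det = 1 := by
      have : GeneralLinearGroup.det g = 1 := by rw [hg, map_mul, map_inv, det_ζ, mul_inv_cancel]
      exact congrArg Units.val this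
    have e : SpecialLinearGroup.toGL (⟨_, hd⟩ : SpecialLinearGroup (Fin 2) F) = g := Units.ext rfl
    have hmem : (⟨_, hd⟩ : SpecialLinearGroup (Fin 2) F) ∈ Q := by
      show SpecialLinearGroup.toGL (⟨_, hd⟩ : SpecialLinearGroup (Fin 2) F) ∈ (R : Subgroup (GL (Fin 2) F))
      rw [e]; exact mul_mem r.2 (inv_mem (hRζ _ (hdetR r)))
    refine ⟨⟨_, hmem⟩, ?_⟩
    rw [e, hg, inv_mul_cancel_right]
  let qEl : (Fin m → ↥Q) →* ↥H :=
    (fD.comp
      { toFun := fun y i => (⟨SpecialLinearGroup.toGL (y i).1, (y i).2⟩ : ↥(R : Subgroup (GL (Fin 2) F))),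
        map_one' := funext fun i => Subtype.ext (map_one _),
        map_mul' := fun y y' => funext fun i => Subtype.ext (map_mul _ _ _) }).codRestrict H
      fun a => Subgroup.mem_sup_right ⟨_, rfl⟩
  let zEl : (Fin m → ↥(C : Subgroup Fˣ)) →* ↥H :=
    (fD.comp
      { toFun := fun e i => (⟨ζ (e i).1, hRζ _ (e i).2⟩ : ↥(R : Subgroup (GL (Fin 2) F))),
        map_one' := funext fun i => Subtype.ext (map_one _),
        map_mul' := fun y y' => funext fun i => Subtype.ext (map_mul _ _ _) }).codRestrict H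
      fun a => Subgroup.mem_sup_right ⟨_, rfl⟩
  let jW : ↥(T : Subgroup (Equiv.Perm (Fin m))) →* ↥H := fW.codRestrict H fun t => Subgroup.mem_sup_left ⟨t, rfl⟩
  have hform : ∀ h : ↥H, ∃ (t : ↥(T : Subgroup (Equiv.Perm (Fin m)))) (y : Fin m → ↥Q)
      (e : Fin m → ↥(C : Subgroup Fˣ)), h = jW t * qEl y * zEl e := by
    intro h
    obtain ⟨⟨t, a⟩, rfl⟩ := hbij.2 h
    choose y hy using hsplit
    refine ⟨t, fun i => y (a i), fun i => ⟨_, hdetR (a i)⟩, Subtype.ext ?_⟩
    show fW t * fD a = fW t * fD _ * fD _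
    rw [mul_assoc, ← map_mul fD]
    congr 2
    funext i
    exact Subtype.ext (hy (a i))
  have hdetq : ∀ y, GeneralLinearGroup.det (qEl y : GL (Fin 2 × Fin m) F) = 1 := fun y => by
    show GeneralLinearGroup.det (D fun i => SpecialLinearGroup.toGL (y i).1) = 1
    rw [det_D]
    exact Finset.prod_eq_one fun i _ => Units.ext (y i).1.2
  have hdetz : ∀ e, GeneralLinearGroup.det (zEl e : GL (Fin 2 × Fin m) F) = ∏ i, ((e i).1 : Fˣ) := fun e => by
    show GeneralLinearGroup.det (D fun i => ζ (e i).1) = _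
    rw [det_D]
    exact Finset.prod_congr rfl fun i _ => det_ζ _
  refine ⟨H, hHcard, fun h4 => ?_, fun hm hcase => ⟨?_, ?_⟩⟩
  · rw [sq_mem_iff]
    intro h
    obtain ⟨t, y, e, rfl⟩ := hform h
    rw [map_mul, map_mul, mul_pow, mul_pow, kill_sq jW hTsq t]
    have h1 : (Abelianization.of (zEl e)) ^ 2 = 1 := by
      rw [← map_pow, ← map_pow, show e ^ 2 = 1 from funext fun i => Subtype.ext (hC2 h4 _ (e i).2), map_one, map_one]
    have h2 : y ∈ ((powMonoidHom 2).comp (Abelianization.of.comp qEl) : (Fin m → ↥Q) →* Abelianization ↥H).ker := by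
      refine Subgroup.pi_mem_of_mulSingle_mem y fun i => ?_
      exact MonoidHom.mem_ker.2 (kill_sq (qEl.comp (MonoidHom.mulSingle (fun _ : Fin m => ↥Q) i)) hQsq (y i))
    rw [show (Abelianization.of (qEl y)) ^ 2 = 1 from MonoidHom.mem_ker.1 h2, h1, one_mul, one_mul]
  · let f : ↥H →* Fˣ := GeneralLinearGroup.det.comp H.subtype
    have hker : Nat.card f.ker = Nat.card (H.comap SpecialLinearGroup.toGL) := by
      refine (Nat.card_eq_of_bijective (fun y : ↥(H.comap SpecialLinearGroup.toGL) =>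
        (⟨⟨SpecialLinearGroup.toGL y.1, y.2⟩, MonoidHom.mem_ker.2 (Units.ext y.1.2)⟩ : f.ker))
        ⟨fun a b h => Subtype.ext (SpecialLinearGroup.toGL_injective
        (congrArg Subtype.val (congrArg Subtype.val h))), fun x => ?_⟩).symm
      have hd : ((x.1.1 : GL (Fin 2 × Fin m) F) : Matrix (Fin 2 × Fin m) (Fin 2 × Fin m) F).det = 1 := congrArg Units.val (MonoidHom.mem_ker.1 x.2)
      have e : SpecialLinearGroup.toGL (⟨_, hd⟩ : SpecialLinearGroup (Fin 2 × Fin m) F) = x.1.1 := Units.ext rfl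
      have hmem : (⟨_, hd⟩ : SpecialLinearGroup (Fin 2 × Fin m) F) ∈ H.comap SpecialLinearGroup.toGL := by
        show SpecialLinearGroup.toGL (⟨_, hd⟩ : SpecialLinearGroup (Fin 2 × Fin m) F) ∈ H
        rw [e]; exact x.1.2
      exact ⟨⟨_, hmem⟩, Subtype.ext (Subtype.ext e)⟩
    have hrange : f.range = (C : Subgroup Fˣ) := by
      refine le_antisymm ?_ ?_
      · rintro _ ⟨h, rfl⟩
        exact det_range_le C (IsPGroup.of_card hHcard) f h
      · intro u hu
        let i₀ : Fin m := ⟨0, by omega⟩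
        refine ⟨zEl (Pi.mulSingle i₀ ⟨u, hu⟩), ?_⟩
        show GeneralLinearGroup.det (zEl _ : GL (Fin 2 × Fin m) F) = u
        rw [hdetz, Finset.prod_eq_single i₀ (fun b _ hb => by rw [Pi.mulSingle_eq_of_ne hb]; rfl) (by simp),
          Pi.mulSingle_eq_same]
    have h := f.ker.card_mul_index
    rw [Subgroup.index_ker, hker, hrange, hCcard] at h
    exact h
  · set K := H.comap SpecialLinearGroup.toGL with hK
    rw [sq_mem_iff]
    have hmk : ∀ (h : ↥H), GeneralLinearGroup.det (h : GL (Fin 2 × Fin m) F) = 1 →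
        ∃ k : ↥K, SpecialLinearGroup.toGL k.1 = (h : GL (Fin 2 × Fin m) F) := fun h hd => by
      have e : SpecialLinearGroup.toGL (⟨_, congrArg Units.val hd⟩ : SpecialLinearGroup (Fin 2 × Fin m) F) =
          (h : GL (Fin 2 × Fin m) F) := Units.ext rfl
      have hmem : (⟨_, congrArg Units.val hd⟩ : SpecialLinearGroup (Fin 2 × Fin m) F) ∈ K := by
        show SpecialLinearGroup.toGL (⟨_, congrArg Units.val hd⟩ : SpecialLinearGroup (Fin 2 × Fin m) F) ∈ H
        rw [e]; exact h.2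
      exact ⟨⟨_, hmem⟩, e⟩
    choose k hk using hmk
    have kinj : ∀ {a b : ↥K}, SpecialLinearGroup.toGL a.1 = SpecialLinearGroup.toGL b.1 → a = b := fun h =>
      Subtype.ext (SpecialLinearGroup.toGL_injective h)
    have kmul : ∀ {a b c : ↥H} (ha : GeneralLinearGroup.det (a : GL (Fin 2 × Fin m) F) = 1)
        (hb : GeneralLinearGroup.det (b : GL (Fin 2 × Fin m) F) = 1)
        (hc : GeneralLinearGroup.det (c : GL (Fin 2 × Fin m) F) = 1), a = b * c → k a ha = k b hb * k c hc :=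
      fun ha hb hc h => kinj (by rw [Subgroup.coe_mul, map_mul, hk, hk, hk, h, Subgroup.coe_mul])
    have hdetW : ∀ t, GeneralLinearGroup.det (jW t : GL (Fin 2 × Fin m) F) = 1 := fun t => det_W _
    let kW : ↥(T : Subgroup (Equiv.Perm (Fin m))) →* ↥K :=
      MonoidHom.mk' (fun t => k (jW t) (hdetW t)) fun s t => kmul _ _ _ (map_mul jW s t)
    let kQ : (Fin m → ↥Q) →* ↥K :=
      MonoidHom.mk' (fun y => k (qEl y) (hdetq y)) fun s t => kmul _ _ _ (map_mul qEl s t)
    let U := ((∏ i, Pi.evalMonoidHom (fun _ : Fin m => ↥(C : Subgroup Fˣ)) i) :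
      (Fin m → ↥(C : Subgroup Fˣ)) →* ↥(C : Subgroup Fˣ)).ker
    have hU : ∀ e, e ∈ U ↔ ∏ i, ((e i).1 : Fˣ) = 1 := fun e => by
      rw [MonoidHom.mem_ker, MonoidHom.finsetProd_apply, ← Subtype.coe_inj, SubmonoidClass.coe_finsetProd]
      rfl
    let kZ : ↥U →* ↥K :=
      MonoidHom.mk' (fun e => k (zEl e.1) ((hdetz e.1).trans ((hU e.1).1 e.2))) fun s t => kmul _ _ _ (map_mul zEl s.1 t.1)
    let r : Fin m := ⟨0, by omega⟩
    let x : Fin m → ↥(C : Subgroup Fˣ) → ↥U := fun a u =>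
      ⟨Pi.mulSingle a u * Pi.mulSingle r u⁻¹, by
        rw [MonoidHom.mem_ker, MonoidHom.finsetProd_apply]
        simp [Finset.prod_mul_distrib, Finset.prod_pi_mulSingle']⟩
    let γ : ↥U →* Abelianization ↥K := Abelianization.of.comp kZ
    have hconj : ∀ (t : ↥(T : Subgroup (Equiv.Perm (Fin m)))) (a : Fin m) (u : ↥(C : Subgroup Fˣ)),
        γ (x ((t : Equiv.Perm (Fin m)) a) u) = γ (x a u) * γ (x ((t : Equiv.Perm (Fin m)) r) u) := by
      intro t a u
      have key : kW t * kZ (x a u) * (kW t)⁻¹ =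
          kZ (x ((t : Equiv.Perm (Fin m)) a) u * (x ((t : Equiv.Perm (Fin m)) r) u)⁻¹) := by
        refine kinj ?_
        rw [Subgroup.coe_mul, Subgroup.coe_mul, Subgroup.coe_inv, map_mul, map_mul, map_inv]
        show SpecialLinearGroup.toGL (k (jW t) _).1 * SpecialLinearGroup.toGL (k (zEl _) _).1 *
          (SpecialLinearGroup.toGL (k (jW t) _).1)⁻¹ = SpecialLinearGroup.toGL (k (zEl _) _).1
        rw [hk, hk, hk]
        show W (t : Equiv.Perm (Fin m)) * D (fun i => ζ ((x a u).1 i).1) * (W (t : Equiv.Perm (Fin m)))⁻¹ =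
          D (fun i => ζ ((x ((t : Equiv.Perm (Fin m)) a) u * (x ((t : Equiv.Perm (Fin m)) r) u)⁻¹).1 i).1)
        rw [push, mul_inv_cancel_right]
        congr 1
        funext i
        show ζ (((x a u).1 ((t : Equiv.Perm (Fin m))⁻¹ i)).1) = _
        congr 2
        have hms : ∀ (b : Fin m) (v : ↥(C : Subgroup Fˣ)),
            (Pi.mulSingle b v : Fin m → ↥(C : Subgroup Fˣ)) ((t : Equiv.Perm (Fin m))⁻¹ i) =
              (Pi.mulSingle ((t : Equiv.Perm (Fin m)) b) v : Fin m → ↥(C : Subgroup Fˣ)) i := by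
          intro b v
          rcases eq_or_ne i ((t : Equiv.Perm (Fin m)) b) with rfl | hne
          · simp
          · rw [Pi.mulSingle_eq_of_ne hne, Pi.mulSingle_eq_of_ne]
            intro h; exact hne (by rw [← h]; simp)
        simp only [x, Subgroup.coe_mul, Subgroup.coe_inv, Pi.mul_apply, Pi.inv_apply, hms]
        simp [Pi.mulSingle_inv, mul_comm, mul_left_comm, ← mul_assoc]
      have h2 := congrArg Abelianization.of key
      rw [map_mul, map_mul, map_inv, mul_inv_cancel_comm] at h2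
      change γ (x a u) = γ (_ * _) at h2
      rw [map_mul, map_inv] at h2
      rw [h2, inv_mul_cancel_right]
    have hg2 : ∀ a u, γ (x a u) ^ 2 = 1 := by
      intro a u
      rcases hcase with h4 | ⟨j, hj⟩
      · rw [← map_pow]
        have : x a u ^ 2 = 1 := Subtype.ext (funext fun i => by
          show ((x a u).1 i) ^ 2 = 1
          exact Subtype.ext (hC2 h4 _ ((x a u).1 i).2))
        rw [this, map_one]
      · obtain ⟨R', hR'card, hR'gen, -⟩ := Cfsg.Agent.Perm.SylowSymmGen.exists_gen 2 m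
        subst hj
        have hr0 : γ (x r u) = 1 := by
          have : x r u = 1 := Subtype.ext (by simp [x, Pi.mulSingle_inv])
          rw [this, map_one]
        let P' : Sylow 2 (Equiv.Perm (Fin (2 ^ j))) := Sylow.ofCard R' (by
          rw [hR'card, Nat.factorization_def _ Nat.prime_two, Nat.card_perm, Nat.card_fin])
        obtain ⟨g, hg⟩ := MulAction.exists_smul_eq (Equiv.Perm (Fin (2 ^ j))) P' T
        have hTgen : (T : Subgroup (Equiv.Perm (Fin (2 ^ j)))) ≤
            Subgroup.closure {y | y ∈ (T : Subgroup (Equiv.Perm (Fin (2 ^ j)))) ∧ y ^ 2 = 1} := by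
          rw [← hg, Sylow.coe_subgroup_smul]
          exact Cfsg.Agent.Perm.SylowSymmGen.gen_map (p := 2) (MulAut.conj g) R' hR'gen
        let S : Submonoid (Equiv.Perm (Fin (2 ^ j))) :=
          { carrier := {t | t ∈ (T : Subgroup (Equiv.Perm (Fin (2 ^ j)))) ∧ γ (x (t r) u) ^ 2 = 1}
            one_mem' := ⟨one_mem _, by rw [Equiv.Perm.one_apply, hr0, one_pow]⟩
            mul_mem' := fun {s t} hs ht => ⟨mul_mem hs.1 ht.1, by
              rw [Equiv.Perm.mul_apply, hconj ⟨s, hs.1⟩ (t r) u, mul_pow, ht.2, hs.2, one_mul]⟩ }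
        have hall : ∀ t ∈ (T : Subgroup (Equiv.Perm (Fin (2 ^ j)))), t ∈ S := by
          intro t ht
          have h := hTgen ht
          rw [← Subgroup.mem_toSubmonoid, Subgroup.closure_toSubmonoid] at h
          refine (Submonoid.closure_le.2 ?_) h
          rintro s (⟨hs, hs2⟩ | ⟨hs, hs2⟩)
          · refine ⟨hs, ?_⟩
            have h3 := hconj ⟨s, hs⟩ (s r) u
            change γ (x (s (s r)) u) = γ (x (s r) u) * γ (x (s r) u) at h3
            rw [← Equiv.Perm.mul_apply, ← sq, hs2, Equiv.Perm.one_apply, hr0] at h3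
            rw [sq]; exact h3.symm
          · have hs' : s ∈ (T : Subgroup (Equiv.Perm (Fin (2 ^ j)))) := by
              have := inv_mem hs; rwa [inv_inv] at this
            have hs2' : s ^ 2 = 1 := by rw [inv_pow, inv_eq_one] at hs2; exact hs2
            refine ⟨hs', ?_⟩
            have h3 := hconj ⟨s, hs'⟩ (s r) u
            change γ (x (s (s r)) u) = γ (x (s r) u) * γ (x (s r) u) at h3
            rw [← Equiv.Perm.mul_apply, ← sq, hs2', Equiv.Perm.one_apply, hr0] at h3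
            rw [sq]; exact h3.symm
        obtain ⟨t, ht⟩ := transitive_sylow T r a
        rw [← ht]
        exact (hall t.1 t.2).2
    have hU2 : ∀ e : ↥U, γ e ^ 2 = 1 := by
      intro e
      have hdec : e = ∏ a, x a (e.1 a) := by
        refine Subtype.ext ?_
        rw [SubmonoidClass.coe_finsetProd]
        show e.1 = ∏ a, Pi.mulSingle a (e.1 a) * Pi.mulSingle r (e.1 a)⁻¹
        rw [Finset.prod_mul_distrib, Finset.univ_prod_mulSingle]
        have h1 : ∏ a, (e.1 a)⁻¹ = 1 := by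
          rw [Finset.prod_inv_distrib, inv_eq_one, ← Subtype.coe_inj, SubmonoidClass.coe_finsetProd]
          exact (hU e.1).1 e.2
        have h3 : ∏ a, (Pi.mulSingle r (e.1 a)⁻¹ : Fin m → ↥(C : Subgroup Fˣ)) = 1 := by
          have h4 := (map_prod (MonoidHom.mulSingle (fun _ : Fin m => ↥(C : Subgroup Fˣ)) r) (fun a => (e.1 a)⁻¹) Finset.univ).symm
          rw [h1, map_one] at h4
          exact h4
        rw [h3, mul_one]
      rw [hdec, map_prod, ← Finset.prod_pow]
      exact Finset.prod_eq_one fun a _ => hg2 a _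
    intro g
    obtain ⟨t, y, e, he⟩ := hform ⟨SpecialLinearGroup.toGL g.1, g.2⟩
    have hed : ∏ i, ((e i).1 : Fˣ) = 1 := by
      rw [← hdetz e]
      have h1 := congrArg (fun h : ↥H => GeneralLinearGroup.det (h : GL (Fin 2 × Fin m) F)) he
      simp only [Subgroup.coe_mul, map_mul, hdetq, mul_one] at h1
      rw [show GeneralLinearGroup.det (jW t : GL (Fin 2 × Fin m) F) = 1 from det_W _, one_mul] at h1
      rw [← h1]
      exact Units.ext g.1.2
    have hg : g = kW t * kQ y * kZ ⟨e, (hU e).2 hed⟩ := by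
      refine kinj ?_
      rw [Subgroup.coe_mul, Subgroup.coe_mul, map_mul, map_mul]
      show _ = SpecialLinearGroup.toGL (k (jW t) _).1 * SpecialLinearGroup.toGL (k (qEl y) _).1 *
        SpecialLinearGroup.toGL (k (zEl e) _).1
      rw [hk, hk, hk]
      exact congrArg Subtype.val he
    have h2 : y ∈ ((powMonoidHom 2).comp (Abelianization.of.comp kQ) : (Fin m → ↥Q) →* Abelianization ↥K).ker := by
      refine Subgroup.pi_mem_of_mulSingle_mem y fun i => ?_
      exact MonoidHom.mem_ker.2 (kill_sq (kQ.comp (MonoidHom.mulSingle (fun _ : Fin m => ↥Q) i)) hQsq (y i))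
    rw [hg, map_mul, map_mul, mul_pow, mul_pow, kill_sq kW hTsq t,
      show (Abelianization.of (kQ y)) ^ 2 = 1 from MonoidHom.mem_ker.1 h2, one_mul, one_mul]
    exact hU2 _

end Cfsg.Agent.SylowAbelGL
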