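import Mathlib

/-!
Subgroups of index at most `n` in a symmetric group of degree `n`.
-/

set_option autoImplicit false
set_option linter.style.haveILetI false
set_option linter.unusedSectionVars false

namespace Cfsg.Agent.Classical.SymIndex

open Equiv MulAction

variable {Ω : Type*} [Fintype Ω] [DecidableEq Ω]

theorem normalCore_eq_bot (h5 : 5 ≤ Fintype.card Ω) (H : Subgroup (Perm Ω)) (hH : H ≠ ⊤)
    (hA : H ≠ alternatingGroup Ω) : H.normalCore = ⊥ := by
  haveI : Nontrivial Ω := Fintype.one_lt_card_iff_nontrivial.1 (by omega)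
  rcases eq_or_ne H.normalCore ⊥ with h | h
  · exact h
  exfalso
  haveI := H.normalCore_normal
  have hle : alternatingGroup Ω ≤ H :=
    (Perm.alternatingGroup_le_of_normal (by rw [Nat.card_eq_fintype_card]; exact h5)
      ((Subgroup.nontrivial_iff_ne_bot _).2 h)).trans H.normalCore_le
  have hd : H.index ∣ 2 := alternatingGroup.index_eq_two (α := Ω) ▸ Subgroup.index_dvd_of_le hle
  rcases (Nat.dvd_prime Nat.prime_two).1 hd with h1 | h2
  · exact hH (Subgroup.index_eq_one.1 h1)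
  · exact hA (Perm.eq_alternatingGroup_of_index_eq_two h2)

theorem toPermHom_injective (h5 : 5 ≤ Fintype.card Ω) (H : Subgroup (Perm Ω)) (hH : H ≠ ⊤)
    (hA : H ≠ alternatingGroup Ω) : Function.Injective (toPermHom (Perm Ω) (Perm Ω ⧸ H)) := by
  rw [← MonoidHom.ker_eq_bot_iff, ← Subgroup.normalCore_eq_ker, normalCore_eq_bot h5 H hH hA]

theorem card_le_index (h5 : 5 ≤ Fintype.card Ω) (H : Subgroup (Perm Ω)) (hH : H ≠ ⊤)
    (hA : H ≠ alternatingGroup Ω) : Fintype.card Ω ≤ H.index := by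
  by_contra hlt
  have h := Nat.card_le_card_of_injective _ (toPermHom_injective h5 H hH hA)
  rw [Nat.card_perm, Nat.card_perm, Nat.card_eq_fintype_card] at h
  have h2 : H.index.factorial < (Fintype.card Ω).factorial :=
    Nat.factorial_lt_of_lt (Nat.pos_of_ne_zero Subgroup.index_ne_zero_of_finite) (not_le.1 hlt)
  rw [Subgroup.index] at h2
  omega

/-- A subgroup of index `card Ω` is carried to a point stabiliser by an automorphism. -/
theorem exists_aut (h5 : 5 ≤ Fintype.card Ω) (H : Subgroup (Perm Ω)) (hH : H.index = Fintype.card Ω)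
    (x₀ : Ω) : ∃ φ : Perm Ω ≃* Perm Ω, H.map φ.toMonoidHom = stabilizer (Perm Ω) x₀ := by
  classical
  have hne : H ≠ ⊤ := fun e => by rw [e, Subgroup.index_top] at hH; omega
  haveI : Nontrivial Ω := Fintype.one_lt_card_iff_nontrivial.1 (by omega)
  have hA : H ≠ alternatingGroup Ω := fun e => by rw [e, alternatingGroup.index_eq_two] at hH; omega
  haveI : Fintype (Perm Ω ⧸ H) := Fintype.ofFinite _
  let e₀ : Perm Ω ⧸ H ≃ Ω := Fintype.equivOfCardEq (by
    rw [← Nat.card_eq_fintype_card, ← hH]; rfl)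
  let e : Perm Ω ⧸ H ≃ Ω := e₀.trans (Equiv.swap (e₀ ((1 : Perm Ω) : Perm Ω ⧸ H)) x₀)
  have he : e ((1 : Perm Ω) : Perm Ω ⧸ H) = x₀ := Equiv.swap_apply_left _ _
  let f : Perm Ω →* Perm Ω := e.permCongrHom.toMonoidHom.comp (toPermHom (Perm Ω) (Perm Ω ⧸ H))
  have hinj : Function.Injective f := e.permCongrHom.injective.comp (toPermHom_injective h5 H hne hA)
  let φ : Perm Ω ≃* Perm Ω := MulEquiv.ofBijective f ⟨hinj, Finite.surjective_of_injective hinj⟩
  have key : ∀ g, g ∈ H ↔ φ g x₀ = x₀ := fun g => by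
    have hg : φ g x₀ = e (g • ((1 : Perm Ω) : Perm Ω ⧸ H)) := by
      show e (g • e.symm x₀) = _
      rw [← he, Equiv.symm_apply_apply]
    rw [hg]
    conv_rhs => rhs; rw [← he]
    rw [e.injective.eq_iff, ← mem_stabilizer_iff, stabilizer_quotient]
  refine ⟨φ, Subgroup.ext fun u => ?_⟩
  rw [mem_stabilizer_iff, Perm.smul_def]
  constructor
  · rintro ⟨g, hg, rfl⟩
    exact (key g).1 hg
  · intro hu
    exact ⟨φ.symm u, (key _).2 (by rw [φ.apply_symm_apply]; exact hu), φ.apply_symm_apply u⟩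

/-- Twice the number of transpositions with a property. -/
theorem card_pairs (P : Perm Ω → Prop) :
    Nat.card {p : Ω × Ω // p.1 ≠ p.2 ∧ P (swap p.1 p.2)} = 2 * Nat.card {g : Perm Ω // g.IsSwap ∧ P g} := by
  classical
  rw [Nat.card_eq_fintype_card, Nat.card_eq_fintype_card, Fintype.card_subtype, Fintype.card_subtype,
    Finset.card_eq_sum_card_fiberwise (f := fun p : Ω × Ω => swap p.1 p.2)
      (t := Finset.univ.filter fun g : Perm Ω => g.IsSwap ∧ P g)]
  · rw [mul_comm, ← smul_eq_mul, ← Finset.sum_const]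
    refine Finset.sum_congr rfl fun g hg => ?_
    obtain ⟨⟨a, b, hab, rfl⟩, hP⟩ := (Finset.mem_filter.1 hg).2
    rw [Finset.card_eq_two]
    refine ⟨(a, b), (b, a), by simp [hab], ?_⟩
    ext ⟨c, d⟩
    simp only [Finset.mem_filter, Finset.mem_univ, true_and, Finset.mem_insert, Finset.mem_singleton,
      Prod.mk.injEq]
    constructor
    · rintro ⟨⟨hcd, -⟩, e⟩
      have h1 : swap a b c = d := by rw [← e, swap_apply_left]
      rcases eq_or_ne c a with rfl | hca
      · rw [swap_apply_left] at h1; exact Or.inl ⟨rfl, h1.symm⟩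
      rcases eq_or_ne c b with rfl | hcb
      · rw [swap_apply_right] at h1; exact Or.inr ⟨rfl, h1.symm⟩
      rw [swap_apply_of_ne_of_ne hca hcb] at h1
      exact absurd h1 hcd
    · rintro (⟨rfl, rfl⟩ | ⟨rfl, rfl⟩)
      · exact ⟨⟨hab, hP⟩, rfl⟩
      · exact ⟨⟨hab.symm, by rw [swap_comm]; exact hP⟩, swap_comm _ _⟩
  · intro p hp
    have := (Finset.mem_filter.1 hp).2
    exact Finset.mem_filter.2 ⟨Finset.mem_univ _, ⟨p.1, p.2, this.1, rfl⟩, this.2⟩

theorem swap_fix_iff {x c d : Ω} (h : c ≠ d) : swap c d x = x ↔ x ≠ c ∧ x ≠ d := by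
  refine ⟨fun hx => ⟨fun e => ?_, fun e => ?_⟩, fun hx => swap_apply_of_ne_of_ne hx.1 hx.2⟩
  · subst e; rw [swap_apply_left] at hx; exact h hx.symm
  · subst e; rw [swap_apply_right] at hx; exact h hx

/-- A subgroup of index `card Ω` mapped to a point stabiliser by a transposition-preserving automorphism
fixes a point. -/
theorem eq_stabilizer (h5 : 5 ≤ Fintype.card Ω) (H : Subgroup (Perm Ω)) (hH : H.index = Fintype.card Ω)
    (x₀ : Ω) (φ : Perm Ω ≃* Perm Ω) (hφ : H.map φ.toMonoidHom = stabilizer (Perm Ω) x₀)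
    (hsw : ∀ g : Perm Ω, (φ g).IsSwap ↔ g.IsSwap) : ∃ x : Ω, H = stabilizer (Perm Ω) x := by
  classical
  set n := Fintype.card Ω with hn
  have hne : H ≠ ⊤ := fun e => by rw [e, Subgroup.index_top] at hH; omega
  have hmem : ∀ g, g ∈ H ↔ φ g x₀ = x₀ := fun g => by
    show _ ↔ (φ g) • x₀ = x₀
    rw [← mem_stabilizer_iff, ← hφ]
    exact (Subgroup.mem_map_iff_mem φ.injective).symm
  -- count ordered pairs giving transpositions in `H`
  have hcnt : Nat.card {p : Ω × Ω // p.1 ≠ p.2 ∧ swap p.1 p.2 ∈ H} = (n - 1) * (n - 2) := by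
    rw [card_pairs, Nat.card_congr (φ.toEquiv.subtypeEquiv (q := fun g => g.IsSwap ∧ g x₀ = x₀)
      fun g => by show _ ↔ (φ g).IsSwap ∧ φ g x₀ = x₀; rw [hsw, hmem]), ← card_pairs]
    have e : {p : Ω × Ω // p.1 ≠ p.2 ∧ swap p.1 p.2 x₀ = x₀} ≃
        Σ a : {a : Ω // a ≠ x₀}, {b : Ω // b ≠ x₀ ∧ b ≠ a.1} :=
      { toFun := fun p => ⟨⟨p.1.1, ((swap_fix_iff p.2.1).1 p.2.2).1.symm⟩,
          ⟨p.1.2, ((swap_fix_iff p.2.1).1 p.2.2).2.symm, p.2.1.symm⟩⟩
        invFun := fun s => ⟨(s.1.1, s.2.1), s.2.2.2.symm,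
          (swap_fix_iff s.2.2.2.symm).2 ⟨s.1.2.symm, s.2.2.1.symm⟩⟩
        left_inv := fun p => rfl
        right_inv := fun s => rfl }
    rw [Nat.card_congr e, Nat.card_sigma]
    have h1 : ∀ a : {a : Ω // a ≠ x₀}, Nat.card {b : Ω // b ≠ x₀ ∧ b ≠ a.1} = n - 2 := fun a => by
      rw [Nat.card_eq_fintype_card, Fintype.card_subtype,
        show (Finset.univ.filter fun b : Ω => b ≠ x₀ ∧ b ≠ a.1) = (Finset.univ.erase x₀).erase a.1 by
          ext b; simp [and_comm],
        Finset.card_erase_of_mem (by simp [a.2]), Finset.card_erase_of_mem (Finset.mem_univ _), Finset.card_univ]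
      omega
    rw [Finset.sum_congr rfl fun a _ => h1 a, Finset.sum_const, Finset.card_univ, smul_eq_mul]
    simp [Fintype.card_subtype_compl, hn]
  let N : Ω → Finset Ω := fun x => Finset.univ.filter fun y => x ≠ y ∧ swap x y ∈ H
  have hsum : ∑ x, (N x).card = (n - 1) * (n - 2) := by
    rw [← hcnt, Nat.card_congr (show {p : Ω × Ω // p.1 ≠ p.2 ∧ swap p.1 p.2 ∈ H} ≃
      Σ x : Ω, {y : Ω // x ≠ y ∧ swap x y ∈ H} from
      { toFun := fun p => ⟨p.1.1, ⟨p.1.2, p.2⟩⟩
        invFun := fun s => ⟨(s.1, s.2.1), s.2.2⟩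
        left_inv := fun p => rfl
        right_inv := fun s => rfl }), Nat.card_sigma]
    exact Finset.sum_congr rfl fun x _ => by rw [Nat.card_eq_fintype_card, Fintype.card_subtype]
  obtain ⟨a, ha⟩ : ∃ a, n - 2 ≤ (N a).card := by
    by_contra! hc
    have hc' : ∀ x, (N x).card ≤ n - 3 := fun x => by have := hc x; omega
    have h : ∑ x, (N x).card ≤ n * (n - 3) := by
      rw [hn, ← smul_eq_mul (a := Fintype.card Ω), ← Finset.card_univ, ← Finset.sum_const]
      exact Finset.sum_le_sum fun x _ => hc' x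
    obtain ⟨m, hm⟩ : ∃ m, n = m + 5 := ⟨n - 5, by omega⟩
    rw [hsum, hm, show m + 5 - 1 = m + 4 by omega, show m + 5 - 2 = m + 3 by omega,
      show m + 5 - 3 = m + 2 by omega] at h
    nlinarith
  have htr : ∀ x y z, x ≠ z → swap x y ∈ H → swap y z ∈ H → swap x z ∈ H := by
    intro x y z hxz h1 h2
    rcases eq_or_ne x y with rfl | hxy
    · exact h2
    rcases eq_or_ne y z with rfl | hyz
    · exact h1
    have e := Equiv.swap_apply_apply (swap x y) y z
    rw [swap_apply_right, swap_apply_of_ne_of_ne hxz.symm hyz.symm, swap_inv] at e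
    rw [e]
    exact H.mul_mem (H.mul_mem h1 h2) h1
  obtain ⟨z, hza, hz⟩ : ∃ z, z ≠ a ∧ swap a z ∉ H := by
    by_contra! hc
    refine hne (eq_top_iff.2 ?_)
    rw [← Perm.closure_isSwap, Subgroup.closure_le]
    rintro _ ⟨x, y, hxy, rfl⟩
    rcases eq_or_ne x a with rfl | hx
    · exact hc y hxy.symm
    rcases eq_or_ne y a with rfl | hy
    · rw [swap_comm]; exact hc x hx
    exact htr x a y hxy (by rw [swap_comm]; exact hc x hx) (hc y hy)
  have hN : ∀ y, y ≠ a → y ≠ z → swap a y ∈ H := by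
    intro y hya hyz
    have hsub : N a ⊆ (Finset.univ.erase a).erase z := fun w hw => by
      have hw' := (Finset.mem_filter.1 hw).2
      simp only [Finset.mem_erase, Finset.mem_univ, and_true]
      exact ⟨fun e => hz (e ▸ hw'.2), hw'.1.symm⟩
    have hc : ((Finset.univ.erase a).erase z).card = n - 2 := by
      rw [Finset.card_erase_of_mem (by simp [hza]), Finset.card_erase_of_mem (Finset.mem_univ _),
        Finset.card_univ]
      omega
    have he := Finset.eq_of_subset_of_card_le hsub (by omega)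
    exact (Finset.mem_filter.1 (show y ∈ N a by rw [he]; simp [hya, hyz])).2.2
  have hiso : ∀ y, y ≠ z → swap z y ∉ H := by
    intro y hy hzy
    rcases eq_or_ne y a with rfl | hya
    · exact hz (by rwa [swap_comm])
    exact hz (htr a y z hza.symm (hN y hya hy) (by rwa [swap_comm]))
  refine ⟨z, ?_⟩
  have hle : H ≤ stabilizer (Perm Ω) z := by
    intro g hg
    rw [mem_stabilizer_iff, Perm.smul_def]
    by_contra hgz
    obtain ⟨w, hw1, hw2⟩ : ∃ w, w ≠ g z ∧ swap (g z) w ∈ H := by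
      rcases eq_or_ne (g z) a with e | hga
      · obtain ⟨w, hw⟩ := Finset.card_pos.1 (show 0 < (N a).card by omega)
        have hw' := (Finset.mem_filter.1 hw).2
        exact ⟨w, e ▸ hw'.1.symm, e ▸ hw'.2⟩
      · exact ⟨a, hga.symm, by rw [swap_comm]; exact hN _ hga hgz⟩
    refine hiso (g⁻¹ w) ?_ ?_
    · intro e
      refine hw1 ?_
      rw [← e]; simp
    · have : swap z (g⁻¹ w) = g⁻¹ * swap (g z) w * g := by
        rw [mul_assoc, Equiv.swap_mul_eq_mul_swap, inv_mul_cancel_left]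
        simp
      rw [this]
      exact H.mul_mem (H.mul_mem (H.inv_mem hg) hw2) hg
  refine Subgroup.eq_of_le_of_card_ge hle ?_
  have h1 := H.index_mul_card
  have h2 := (stabilizer (Perm Ω) z).index_mul_card
  rw [index_stabilizer_of_transitive (Perm Ω) z, Nat.card_eq_fintype_card (α := Ω), ← hn] at h2
  rw [hH] at h1
  nlinarith

theorem cycleType_of_orderOf_two {u : Perm Ω} (hu : orderOf u = 2) :
    ∃ k, 1 ≤ k ∧ 2 * k ≤ Fintype.card Ω ∧ u.cycleType = Multiset.replicate k 2 := by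
  obtain ⟨k, hk⟩ := Perm.cycleType_prime_order (σ := u) (by rw [hu]; exact Nat.prime_two)
  rw [hu] at hk
  refine ⟨k + 1, by omega, ?_, hk⟩
  have h := Perm.sum_cycleType_le u
  rw [hk] at h
  simp at h
  omega

theorem card_centralizer_of_cycleType {u : Perm Ω} {k : ℕ} (hk1 : 1 ≤ k)
    (hk : u.cycleType = Multiset.replicate k 2) :
    Nat.card (Subgroup.centralizer ({u} : Set (Perm Ω))) =
      (Fintype.card Ω - 2 * k).factorial * 2 ^ k * k.factorial := by
  rw [Perm.nat_card_centralizer, hk]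
  rw [Multiset.toFinset_replicate, if_neg (by omega), Finset.prod_singleton, Multiset.count_replicate_self,
    Multiset.prod_replicate, Multiset.sum_replicate, smul_eq_mul, mul_comm k 2]

theorem pow_mul_factorial_lt : ∀ k, 4 ≤ k → 2 ^ (k - 1) * k.factorial < (2 * k - 2).factorial := by
  intro k hk
  induction k, hk using Nat.le_induction with
  | base => decide
  | succ k hk ih =>
    obtain ⟨j, rfl⟩ : ∃ j, k = j + 4 := ⟨k - 4, by omega⟩
    rw [show j + 4 + 1 - 1 = (j + 4 - 1) + 1 by omega, show 2 * (j + 4 + 1) - 2 = (2 * (j + 4) - 2) + 1 + 1 by omega,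
      pow_succ, Nat.factorial_succ (j + 4), Nat.factorial_succ (2 * (j + 4) - 2 + 1), Nat.factorial_succ (2 * (j + 4) - 2)]
    calc 2 ^ (j + 4 - 1) * 2 * ((j + 4 + 1) * (j + 4).factorial)
        = (2 * (j + 4 + 1)) * (2 ^ (j + 4 - 1) * (j + 4).factorial) := by ring
      _ < (2 * (j + 4 + 1)) * (2 * (j + 4) - 2).factorial := Nat.mul_lt_mul_of_pos_left ih (by omega)
      _ ≤ ((2 * (j + 4) - 2 + 1 + 1) * (2 * (j + 4) - 2 + 1)) * (2 * (j + 4) - 2).factorial := by
        refine Nat.mul_le_mul_right _ ?_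
        rw [show 2 * (j + 4) - 2 + 1 + 1 = 2 * j + 8 by omega, show 2 * (j + 4) - 2 + 1 = 2 * j + 7 by omega]
        nlinarith
      _ = _ := by ring

theorem eq_one_of_centralizer_card {n k : ℕ} (hn5 : 5 ≤ n) (hn6 : n ≠ 6) (hk1 : 1 ≤ k) (hk : 2 * k ≤ n)
    (h : (n - 2 * k).factorial * 2 ^ k * k.factorial = (n - 2).factorial * 2) : k = 1 := by
  by_contra hne
  have h1 : (n - 2 * k).factorial * (2 * k - 2).factorial ≤ (n - 2).factorial := by
    refine Nat.le_of_dvd (Nat.factorial_pos _) ?_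
    rw [show n - 2 = (n - 2 * k) + (2 * k - 2) by omega]
    exact Nat.factorial_mul_factorial_dvd_factorial_add _ _
  have h2 : 2 ^ k = 2 * 2 ^ (k - 1) := by rw [← pow_succ', Nat.sub_add_cancel hk1]
  have h3 : (n - 2).factorial = (n - 2 * k).factorial * (2 ^ (k - 1) * k.factorial) := by
    rw [h2] at h; linarith
  rcases Nat.lt_or_ge k 4 with hk4 | hk4
  · interval_cases k
    · exact hne rfl
    · obtain ⟨m, rfl⟩ : ∃ m, n = m + 5 := ⟨n - 5, by omega⟩
      rw [show m + 5 - 2 * 2 = m + 1 by omega, show m + 5 - 2 = m + 1 + 1 + 1 by omega,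
        Nat.factorial_succ (m + 1 + 1), Nat.factorial_succ (m + 1), ← mul_assoc,
        mul_comm (m + 1).factorial] at h3
      have h5 := Nat.eq_of_mul_eq_mul_right (Nat.factorial_pos (m + 1)) h3
      norm_num [Nat.factorial] at h5
      nlinarith
    · obtain ⟨m, rfl⟩ : ∃ m, n = m + 7 := ⟨n - 7, by omega⟩
      rw [show m + 7 - 2 * 3 = m + 1 by omega, show m + 7 - 2 = m + 1 + 1 + 1 + 1 + 1 by omega,
        Nat.factorial_succ (m + 1 + 1 + 1 + 1), Nat.factorial_succ (m + 1 + 1 + 1),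
        Nat.factorial_succ (m + 1 + 1), Nat.factorial_succ (m + 1), ← mul_assoc, ← mul_assoc, ← mul_assoc,
        mul_comm (m + 1).factorial] at h3
      have h5 := Nat.eq_of_mul_eq_mul_right (Nat.factorial_pos (m + 1)) h3
      have h7 : 5 * 4 * 3 * 2 ≤ (m + 1 + 1 + 1 + 1 + 1) * (m + 1 + 1 + 1 + 1) * (m + 1 + 1 + 1) * (m + 1 + 1) := by
        gcongr <;> omega
      norm_num [Nat.factorial] at h5
      linarith
  · have h4 := pow_mul_factorial_lt k hk4
    rw [h3] at h1
    exact absurd (Nat.le_of_mul_le_mul_left h1 (Nat.factorial_pos _)) (by omega)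

/-- An automorphism of a symmetric group of degree other than 6 preserves transpositions. -/
theorem isSwap_map (h5 : 5 ≤ Fintype.card Ω) (h6 : Fintype.card Ω ≠ 6) (φ : Perm Ω ≃* Perm Ω)
    {g : Perm Ω} (hg : g.IsSwap) : (φ g).IsSwap := by
  classical
  obtain ⟨k, hk1, hk2, hk⟩ := cycleType_of_orderOf_two (u := φ g) (by
    rw [← φ.coe_toMonoidHom, orderOf_injective φ.toMonoidHom φ.injective, hg.orderOf])
  have hg1 : g.cycleType = Multiset.replicate 1 2 := by rw [Perm.isSwap_iff_cycleType.1 hg]; rfl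
  have e : Subgroup.centralizer ({g} : Set (Perm Ω)) ≃ Subgroup.centralizer ({φ g} : Set (Perm Ω)) :=
    φ.toEquiv.subtypeEquiv fun x => by
      show _ ↔ φ x ∈ _
      rw [Subgroup.mem_centralizer_singleton_iff, Subgroup.mem_centralizer_singleton_iff, ← map_mul, ← map_mul,
        φ.injective.eq_iff]
  have h := Nat.card_congr e
  rw [card_centralizer_of_cycleType le_rfl hg1, card_centralizer_of_cycleType hk1 hk] at h
  have hk' := eq_one_of_centralizer_card h5 h6 hk1 hk2 (by simpa using h.symm)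
  rw [Perm.isSwap_iff_cycleType, hk, hk']
  rfl

/-- For degree other than 6 the subgroups of index equal to the degree are point stabilisers. -/
theorem index_eq_card (h5 : 5 ≤ Fintype.card Ω) (h6 : Fintype.card Ω ≠ 6) (H : Subgroup (Perm Ω))
    (hH : H.index = Fintype.card Ω) : ∃ x : Ω, H = stabilizer (Perm Ω) x := by
  haveI : Nonempty Ω := Fintype.card_pos_iff.1 (by omega)
  obtain ⟨φ, hφ⟩ := exists_aut h5 H hH (Classical.arbitrary Ω)
  exact eq_stabilizer h5 H hH _ φ hφ fun g =>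
    ⟨fun h => by simpa using isSwap_map h5 h6 φ.symm h, isSwap_map h5 h6 φ⟩

end Cfsg.Agent.Classical.SymIndex
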