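import Cfsg.Agent.Lib.Classical.SymIndex

/-!
Subgroups of index six in the symmetric group of degree six.
-/

set_option autoImplicit false
set_option linter.style.haveILetI false
set_option linter.unusedSectionVars false

namespace Cfsg.Agent.Classical.SymSix

open Equiv MulAction

variable {Ω : Type*} [Fintype Ω] [DecidableEq Ω]

theorem stabilizer_injective (h3 : 3 ≤ Fintype.card Ω) :
    Function.Injective fun x : Ω => stabilizer (Perm Ω) x := by
  intro x y h
  by_contra hne
  obtain ⟨z, hz⟩ : ∃ z, z ∉ ({x, y} : Finset Ω) := by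
    by_contra! hc
    have := Finset.card_le_card (s := Finset.univ) (t := ({x, y} : Finset Ω)) fun a _ => hc a
    rw [Finset.card_univ] at this
    have := Finset.card_le_two (a := x) (b := y)
    omega
  simp only [Finset.mem_insert, Finset.mem_singleton, not_or] at hz
  have hm : swap y z ∈ stabilizer (Perm Ω) x := by
    rw [mem_stabilizer_iff, Perm.smul_def, swap_apply_of_ne_of_ne hne (Ne.symm hz.1)]
  rw [show stabilizer (Perm Ω) x = stabilizer (Perm Ω) y from h, mem_stabilizer_iff, Perm.smul_def,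
    swap_apply_left] at hm
  exact hz.2 hm

theorem map_conj_stabilizer (π : Perm Ω) (x : Ω) :
    (stabilizer (Perm Ω) x).map (MulAut.conj π).toMonoidHom = stabilizer (Perm Ω) (π x) := by
  exact (stabilizer_smul_eq_stabilizer_map_conj π x).symm

theorem stab_index (x : Ω) : (stabilizer (Perm Ω) x).index = Fintype.card Ω := by
  rw [index_stabilizer_of_transitive (Perm Ω) x, Nat.card_eq_fintype_card]

/-- An automorphism preserving transpositions is inner. -/
theorem eq_conj (h5 : 5 ≤ Fintype.card Ω) (θ : Perm Ω ≃* Perm Ω) (hsw : ∀ g : Perm Ω, (θ g).IsSwap ↔ g.IsSwap) :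
    ∃ π : Perm Ω, θ = MulAut.conj π := by
  classical
  have hst : ∀ y : Ω, ∃ y' : Ω, (stabilizer (Perm Ω) y).map θ.toMonoidHom = stabilizer (Perm Ω) y' := by
    intro y
    refine SymIndex.eq_stabilizer h5 _ ?_ y θ.symm ?_ fun g => ?_
    · rw [← stab_index y]
      exact Subgroup.index_map_equiv _ θ
    · rw [Subgroup.map_map]
      ext g
      simp
    · have h := hsw (θ.symm g)
      rw [θ.apply_symm_apply] at h
      exact h.symm
  choose f hf using hst
  have hinj : Function.Injective f := fun a b e => stabilizer_injective (by omega) (by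
    exact Subgroup.map_injective (f := θ.toMonoidHom) θ.injective (by rw [hf, hf, e]))
  let π : Perm Ω := Equiv.ofBijective f ⟨hinj, Finite.surjective_of_injective hinj⟩
  refine ⟨π, MulEquiv.ext fun g => Equiv.ext fun w => ?_⟩
  obtain ⟨y, rfl⟩ := π.surjective w
  rw [MulAut.conj_apply, Perm.mul_apply, Perm.mul_apply, Perm.inv_def, Equiv.symm_apply_apply]
  show θ g (f y) = f (g y)
  refine stabilizer_injective (by omega) ?_
  show stabilizer (Perm Ω) (θ g (f y)) = stabilizer (Perm Ω) (f (g y))
  rw [← hf (g y), ← map_conj_stabilizer g y, ← map_conj_stabilizer (θ g), ← hf y, Subgroup.map_map, Subgroup.map_map]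
  congr 1
  ext h : 1
  simp [map_mul]

/-- Any two subgroups of index six without fixed point are conjugate. -/
theorem conj_of_no_fix (h6 : Fintype.card Ω = 6) (H₁ H₂ : Subgroup (Perm Ω))
    (h1 : H₁.index = 6) (h2 : H₂.index = 6) (hn1 : ∀ x : Ω, H₁ ≠ stabilizer (Perm Ω) x)
    (hn2 : ∀ x : Ω, H₂ ≠ stabilizer (Perm Ω) x) :
    ∃ π : Perm Ω, H₂.map (MulAut.conj π).toMonoidHom = H₁ := by
  classical
  haveI : Nonempty Ω := Fintype.card_pos_iff.1 (by omega)
  let x₀ : Ω := Classical.arbitrary Ω
  obtain ⟨φ₁, hφ₁⟩ := SymIndex.exists_aut (by omega) H₁ (by omega) x₀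
  obtain ⟨φ₂, hφ₂⟩ := SymIndex.exists_aut (by omega) H₂ (by omega) x₀
  -- transpositions go to products of three transpositions
  have triple : ∀ (H : Subgroup (Perm Ω)), H.index = 6 → (∀ x : Ω, H ≠ stabilizer (Perm Ω) x) →
      ∀ φ : Perm Ω ≃* Perm Ω, H.map φ.toMonoidHom = stabilizer (Perm Ω) x₀ →
      ∀ g : Perm Ω, g.IsSwap → (φ g).cycleType = Multiset.replicate 3 2 := by
    intro H hH hn φ hφ g hg
    obtain ⟨k, hk1, hk2, hk⟩ := SymIndex.cycleType_of_orderOf_two (u := φ g) (by
      rw [← φ.coe_toMonoidHom, orderOf_injective φ.toMonoidHom φ.injective, hg.orderOf])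
    have hg1 : g.cycleType = Multiset.replicate 1 2 := by rw [Perm.isSwap_iff_cycleType.1 hg]; rfl
    have e : Subgroup.centralizer ({g} : Set (Perm Ω)) ≃ Subgroup.centralizer ({φ g} : Set (Perm Ω)) :=
      φ.toEquiv.subtypeEquiv fun x => by
        show _ ↔ φ x ∈ _
        rw [Subgroup.mem_centralizer_singleton_iff, Subgroup.mem_centralizer_singleton_iff, ← map_mul, ← map_mul,
          φ.injective.eq_iff]
    have h := Nat.card_congr e
    rw [SymIndex.card_centralizer_of_cycleType le_rfl hg1, SymIndex.card_centralizer_of_cycleType hk1 hk, h6] at h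
    have hk3 : k ≤ 3 := by omega
    interval_cases k
    · exfalso
      have hpres : ∀ u : Perm Ω, (φ u).IsSwap ↔ u.IsSwap := by
        intro u
        rw [Perm.isSwap_iff_cycleType, Perm.isSwap_iff_cycleType]
        have hg' := Perm.isSwap_iff_cycleType.1 hg
        constructor
        · intro hu
          obtain ⟨c, hc⟩ := isConj_iff.1 (Perm.isConj_iff_cycleType_eq.2 (hk.trans hu.symm))
          have hc' : IsConj g u := isConj_iff.2 ⟨φ.symm c, φ.injective (by simp [hc])⟩
          rw [← Perm.isConj_iff_cycleType_eq.1 hc', hg']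
        · intro hu
          obtain ⟨c, hc⟩ := isConj_iff.1 (Perm.isConj_iff_cycleType_eq.2 (hg'.trans hu.symm))
          have hc' : IsConj (φ g) (φ u) := isConj_iff.2 ⟨φ c, by rw [← map_inv, ← map_mul, ← map_mul, hc]⟩
          rw [← Perm.isConj_iff_cycleType_eq.1 hc', hk]
          rfl
      obtain ⟨x, hx⟩ := SymIndex.eq_stabilizer (by omega) H (by omega) x₀ φ hφ hpres
      exact hn x hx
    · norm_num [Nat.factorial] at h
    · exact hk
  let θ : Perm Ω ≃* Perm Ω := φ₂.trans φ₁.symm
  have hθ : ∀ g : Perm Ω, g.IsSwap → (θ g).IsSwap := by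
    intro g hg
    obtain ⟨c, hc⟩ := isConj_iff.1 (Perm.isConj_iff_cycleType_eq.2
      ((triple H₁ h1 hn1 φ₁ hφ₁ g hg).trans (triple H₂ h2 hn2 φ₂ hφ₂ g hg).symm))
    have hc' : IsConj g (θ g) := isConj_iff.2 ⟨φ₁.symm c, φ₁.injective (by simp [θ, hc])⟩
    rw [Perm.isSwap_iff_cycleType, ← Perm.isConj_iff_cycleType_eq.1 hc', Perm.isSwap_iff_cycleType.1 hg]
  have hθ' : ∀ g : Perm Ω, (θ g).IsSwap ↔ g.IsSwap := fun g => ⟨fun h => by
    have hinj : Function.Injective fun u : {u : Perm Ω // u.IsSwap} => (⟨θ u.1, hθ _ u.2⟩ : {u : Perm Ω // u.IsSwap}) :=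
      fun a b e => Subtype.ext (θ.injective (congrArg Subtype.val e))
    obtain ⟨u, hu⟩ := Finite.surjective_of_injective hinj ⟨θ g, h⟩
    have := θ.injective (congrArg Subtype.val hu)
    exact this ▸ u.2, hθ g⟩
  obtain ⟨π, hπ⟩ := eq_conj (by omega) θ hθ'
  refine ⟨π, ?_⟩
  rw [← hπ]
  apply Subgroup.map_injective (f := φ₁.toMonoidHom) φ₁.injective
  rw [hφ₁, Subgroup.map_map, ← hφ₂]
  congr 1
  ext g : 1
  simp [θ]

theorem exists_index_six : ∃ H : Subgroup (Perm (Fin 6)), H.index = 6 ∧ ∀ x : Fin 6, H ≠ stabilizer (Perm (Fin 6)) x := by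
  classical
  haveI : Fact (Nat.Prime 5) := ⟨by norm_num⟩
  let G := Perm (Fin 5)
  have hG : Nat.card G = 120 := by rw [Nat.card_perm, Nat.card_fin]; rfl
  haveI : Fintype (Sylow 5 G) := Fintype.ofFinite _
  obtain ⟨P⟩ := (inferInstance : Nonempty (Sylow 5 G))
  have hP : Nat.card P = 5 := by
    rw [P.card_eq_multiplicity, hG]
    have : (120 : ℕ).factorization 5 = 1 := by
      rw [show (120 : ℕ) = 5 * 24 by norm_num, Nat.factorization_mul (by norm_num) (by norm_num),
        Finsupp.add_apply, Nat.Prime.factorization_self (by norm_num),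
        Nat.factorization_eq_zero_of_not_dvd (by norm_num)]
    rw [this, pow_one]
  have hidx : (P : Subgroup G).index = 24 := by
    have h := (P : Subgroup G).index_mul_card
    rw [hP, hG] at h
    omega
  have hne : ¬ (P : Subgroup G).Normal := by
    intro hn
    haveI := hn
    have hle := Perm.alternatingGroup_le_of_normal (α := Fin 5) (N := (P : Subgroup G)) (by simp)
      ((Subgroup.nontrivial_iff_ne_bot _).2 fun e => by
        have h : Nat.card ↥(P : Subgroup G) = 5 := hP
        rw [e, Subgroup.card_bot] at h; omega)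
    have h2 := Subgroup.index_dvd_of_le hle
    rw [alternatingGroup.index_eq_two, hidx] at h2
    norm_num at h2
  have hn5 : Nat.card (Sylow 5 G) = 6 := by
    have hd : Nat.card (Sylow 5 G) ∣ 24 := hidx ▸ P.card_dvd_index
    have hm := card_sylow_modEq_one 5 G
    have h1 : Nat.card (Sylow 5 G) ≠ 1 := fun e => hne (by
      haveI := (Nat.card_eq_one_iff_unique.1 e).1
      exact P.normal_of_subsingleton)
    have hle := Nat.le_of_dvd (by norm_num) hd
    have hpos : 0 < Nat.card (Sylow 5 G) := Nat.card_pos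
    generalize Nat.card (Sylow 5 G) = t at *
    unfold Nat.ModEq at hm
    interval_cases t <;> omega
  have e : Sylow 5 G ≃ Fin 6 := Fintype.equivFinOfCardEq (by rw [← Nat.card_eq_fintype_card, hn5])
  let f : G →* Perm (Fin 6) := e.permCongrHom.toMonoidHom.comp (toPermHom G (Sylow 5 G))
  have hinj : Function.Injective f := by
    refine e.permCongrHom.injective.comp ?_
    rw [← MonoidHom.ker_eq_bot_iff]
    by_contra hb
    have hle := Perm.alternatingGroup_le_of_normal (α := Fin 5) (N := (toPermHom G (Sylow 5 G)).ker) (by simp)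
      ((Subgroup.nontrivial_iff_ne_bot _).2 hb)
    have hst : alternatingGroup (Fin 5) ≤ stabilizer G P := fun a ha => by
      rw [mem_stabilizer_iff]
      exact DFunLike.congr_fun (MonoidHom.mem_ker.1 (hle ha)) P
    have h2 := Subgroup.index_dvd_of_le hst
    rw [alternatingGroup.index_eq_two, index_stabilizer_of_transitive G P, hn5] at h2
    norm_num at h2
  refine ⟨f.range, ?_, fun x hx => ?_⟩
  · have h := f.range.index_mul_card
    rw [← Nat.card_congr (MonoidHom.ofInjective hinj).toEquiv, hG, Nat.card_perm, Nat.card_fin,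
      show (6 : ℕ).factorial = 6 * 120 by rfl] at h
    omega
  · obtain ⟨y, hy⟩ := exists_ne x
    obtain ⟨g, hg⟩ := exists_smul_eq G (e.symm x) (e.symm y)
    have hm : f g ∈ stabilizer (Perm (Fin 6)) x := hx ▸ ⟨g, rfl⟩
    rw [mem_stabilizer_iff, Perm.smul_def] at hm
    refine hy ?_
    rw [← hm]
    show y = e (g • e.symm x)
    rw [hg, e.apply_symm_apply]

theorem stab_equiv_five (x : Fin 6) : Nonempty (stabilizer (Perm (Fin 6)) x ≃* Perm (Fin 5)) := by
  classical
  let e : {y : Fin 6 // y ≠ x} ≃ Fin 5 := Fintype.equivFinOfCardEq (by simp [Fintype.card_subtype_compl])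
  let f : Perm (Fin 5) →* Perm (Fin 6) := (Perm.ofSubtype (p := fun y : Fin 6 => y ≠ x)).comp e.symm.permCongrHom.toMonoidHom
  have hf : Function.Injective f := Perm.ofSubtype_injective.comp e.symm.permCongrHom.injective
  have hle : f.range ≤ stabilizer (Perm (Fin 6)) x := by
    rintro _ ⟨g, rfl⟩
    rw [mem_stabilizer_iff, Perm.smul_def]
    exact Perm.ofSubtype_apply_of_not_mem _ (by simp)
  have heq : f.range = stabilizer (Perm (Fin 6)) x := Subgroup.eq_of_le_of_card_ge hle (by
    have h := (stabilizer (Perm (Fin 6)) x).index_mul_card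
    rw [stab_index, Fintype.card_fin, Nat.card_perm, Nat.card_fin, show (6 : ℕ).factorial = 6 * 120 by rfl] at h
    rw [← Nat.card_congr (MonoidHom.ofInjective hf).toEquiv, Nat.card_perm, Nat.card_fin,
      show (5 : ℕ).factorial = 120 by rfl]
    omega)
  exact ⟨((MonoidHom.ofInjective hf).trans (MulEquiv.subgroupCongr heq)).symm⟩

end Cfsg.Agent.Classical.SymSix
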