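import Cfsg.Agent.Lib.Classical.SympStab
import Mathlib.LinearAlgebra.Matrix.GeneralLinearGroup.Card

/-!
Counting totally isotropic frames and subspaces of symplectic spaces.
-/

set_option autoImplicit false
set_option linter.style.haveILetI false
set_option linter.unusedSectionVars false

namespace Cfsg.Agent.Classical.SympCount

open Module Sp

variable {F V : Type*} [Field F] [Finite F] [AddCommGroup V] [Module F V] [FiniteDimensional F V]
variable (B : LinearMap.BilinForm F V)

/-- Independent totally isotropic families. -/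
abbrev Frames (k : ℕ) : Type _ :=
  {r : Fin k → V // LinearIndependent F r ∧ ∀ i j, B (r i) (r j) = 0}

variable (hA : B.IsAlt) (hB : Nondeg B)

include hA hB

theorem card_perp {k m : ℕ} (hn : finrank F V = 2 * m) (r : Frames B k) :
    Nat.card {v : V // v ∉ Submodule.span F (Set.range r.1) ∧ ∀ i, B (r.1 i) v = 0} =
      Nat.card F ^ (2 * m - k) - Nat.card F ^ k := by
  classical
  haveI : Finite V := Module.finite_of_finite F
  haveI : Fintype V := Fintype.ofFinite V
  let φ : V →ₗ[F] (Fin k → F) := LinearMap.pi fun i => B (r.1 i)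
  have hs : Function.Surjective φ := fun a => by
    obtain ⟨y, hy⟩ := Forms.exists_dual B hB r.2.1 a
    exact ⟨y, funext hy⟩
  have hker : finrank F (LinearMap.ker φ) = 2 * m - k := by
    have h := LinearMap.finrank_range_add_finrank_ker φ
    rw [LinearMap.range_eq_top.2 hs, finrank_top, finrank_pi, Fintype.card_fin, hn] at h
    omega
  have hle : Submodule.span F (Set.range r.1) ≤ LinearMap.ker φ := by
    rw [Submodule.span_le]
    rintro _ ⟨j, rfl⟩
    exact funext fun i => r.2.2 i j
  have hsub : Nat.card {v : V // v ∉ Submodule.span F (Set.range r.1) ∧ ∀ i, B (r.1 i) v = 0} =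
      (Finset.univ.filter fun v => v ∈ LinearMap.ker φ).card -
        (Finset.univ.filter fun v => v ∈ Submodule.span F (Set.range r.1)).card := by
    rw [Nat.card_eq_fintype_card, Fintype.card_subtype, ← Finset.card_sdiff_of_subset]
    · congr 1
      ext v
      simp [φ, funext_iff, and_comm]
    · intro v
      simp only [Finset.mem_filter, Finset.mem_univ, true_and]
      exact fun hv => hle hv
  rw [hsub, ← Fintype.card_subtype, ← Fintype.card_subtype, ← Nat.card_eq_fintype_card,
    ← Nat.card_eq_fintype_card]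
  show Nat.card (LinearMap.ker φ) - Nat.card (Submodule.span F (Set.range r.1)) = _
  rw [Module.natCard_eq_pow_finrank (K := F) (V := LinearMap.ker φ),
    Module.natCard_eq_pow_finrank (K := F) (V := Submodule.span F (Set.range r.1)), hker, finrank_span_eq_card r.2.1, Fintype.card_fin]

theorem card_frames_succ {k m : ℕ} (hn : finrank F V = 2 * m) :
    Nat.card (Frames B (k + 1)) =
      Nat.card (Frames B k) * (Nat.card F ^ (2 * m - k) - Nat.card F ^ k) := by
  haveI : Finite V := Module.finite_of_finite F
  haveI : Fintype (Frames B k) := Fintype.ofFinite _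
  let e : Frames B (k + 1) ≃ Σ r : Frames B k,
      {v : V // v ∉ Submodule.span F (Set.range r.1) ∧ ∀ i, B (r.1 i) v = 0} :=
    { toFun := fun s => ⟨⟨Fin.tail s.1, (linearIndependent_finSucc.1 s.2.1).1,
          fun i j => s.2.2 i.succ j.succ⟩,
        ⟨s.1 0, (linearIndependent_finSucc.1 s.2.1).2, fun i => s.2.2 i.succ 0⟩⟩
      invFun := fun p => ⟨Fin.cons p.2.1 p.1.1,
        linearIndependent_finCons.2 ⟨p.1.2.1, p.2.2.1⟩, by
          refine Fin.cases ?_ fun i => ?_
          · refine Fin.cases ?_ fun j => ?_
            · simpa using hA.self_eq_zero p.2.1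
            · simp only [Fin.cons_zero, Fin.cons_succ]
              rw [alt_neg B hA (p.1.1 j) p.2.1, p.2.2.2 j, neg_zero]
          · refine Fin.cases ?_ fun j => ?_
            · simpa using p.2.2.2 i
            · simpa using p.1.2.2 i j⟩
      left_inv := fun s => Subtype.ext (Fin.cons_self_tail s.1)
      right_inv := fun p => by
        obtain ⟨⟨r, hr⟩, ⟨v, hv⟩⟩ := p
        rfl }
  rw [Nat.card_congr e, Nat.card_sigma, Finset.sum_congr rfl fun r _ => card_perp B hA hB hn r,
    Finset.sum_const, Finset.card_univ, smul_eq_mul, ← Nat.card_eq_fintype_card]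

theorem frames_identity {m : ℕ} (hn : finrank F V = 2 * m) : ∀ k, k ≤ m →
    Nat.card (Frames B k) * (Nat.card F ^ ((m - k) ^ 2) *
        ∏ i ∈ Finset.range (m - k), (Nat.card F ^ (2 * (i + 1)) - 1)) *
      Nat.card F ^ (k * (k + 1) / 2 + 2 * k * (m - k)) =
    Nat.card F ^ (m ^ 2) * ∏ i ∈ Finset.range m, (Nat.card F ^ (2 * (i + 1)) - 1) := by
  intro k
  induction k with
  | zero =>
    intro _
    haveI : Unique (Frames B 0) :=
      { default := ⟨Fin.elim0, linearIndependent_empty_type, fun i => i.elim0⟩
        uniq := fun r => Subtype.ext (funext fun i => i.elim0) }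
    simp
  | succ k ih =>
    intro hk
    rw [← ih (by omega), card_frames_succ B hA hB hn]
    obtain ⟨d, hd⟩ : ∃ d, m - k = d + 1 := ⟨m - k - 1, by omega⟩
    have hd' : m - (k + 1) = d := by omega
    obtain ⟨t, ht⟩ := Nat.even_mul_succ_self k
    rw [hd, hd', Finset.prod_range_succ, show 2 * m - k = k + 2 * (d + 1) by omega, pow_add,
      show Nat.card F ^ k * Nat.card F ^ (2 * (d + 1)) - Nat.card F ^ k =
        Nat.card F ^ k * (Nat.card F ^ (2 * (d + 1)) - 1) by rw [Nat.mul_sub, mul_one],
      show (k + 1) * (k + 1 + 1) / 2 + 2 * (k + 1) * d = t + (k + 1) + 2 * (k + 1) * d by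
        rw [show (k + 1) * (k + 1 + 1) = 2 * (t + (k + 1)) by nlinarith]; omega,
      show k * (k + 1) / 2 + 2 * k * (d + 1) = t + 2 * k * (d + 1) by rw [ht]; omega]
    have hexp : k + d ^ 2 + (t + (k + 1) + 2 * (k + 1) * d) =
        (d + 1) ^ 2 + (t + 2 * k * (d + 1)) := by ring
    calc Nat.card (Frames B k) * (Nat.card F ^ k * (Nat.card F ^ (2 * (d + 1)) - 1)) *
          (Nat.card F ^ d ^ 2 * ∏ i ∈ Finset.range d, (Nat.card F ^ (2 * (i + 1)) - 1)) *
          Nat.card F ^ (t + (k + 1) + 2 * (k + 1) * d)
        = Nat.card (Frames B k) * Nat.card F ^ (k + d ^ 2 + (t + (k + 1) + 2 * (k + 1) * d)) *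
          ((∏ i ∈ Finset.range d, (Nat.card F ^ (2 * (i + 1)) - 1)) *
            (Nat.card F ^ (2 * (d + 1)) - 1)) := by simp only [pow_add]; ring
      _ = _ := by rw [hexp]; simp only [pow_add]; ring

theorem card_frames_pos {m : ℕ} (hn : finrank F V = 2 * m) {k : ℕ} (hk : k ≤ m) :
    Nat.card (Frames B k) ≠ 0 := by
  intro h
  have := frames_identity B hA hB hn k hk
  rw [h] at this
  simp only [zero_mul] at this
  refine absurd this.symm (mul_ne_zero (pow_ne_zero _ Nat.card_pos.ne')
    (Finset.prod_ne_zero_iff.2 fun i _ => ?_))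
  have h2 : 1 < Nat.card F := Finite.one_lt_card
  have := Nat.one_lt_pow (by omega : 2 * (i + 1) ≠ 0) h2
  omega

/-- The stabiliser of a totally isotropic subspace, counted through frames. -/
theorem card_stab_mul {k : ℕ} (W : Submodule F V) (hWk : finrank F W = k)
    (hW : ∀ u ∈ W, ∀ v ∈ W, B u v = 0) :
    Nat.card (SympStab.stab B W) * Nat.card (Frames B k) =
      Nat.card (Grp B) * Nat.card {s : Fin k → W // LinearIndependent F s} := by
  classical
  haveI : Finite V := Module.finite_of_finite F
  haveI : Finite (Grp B) := isom_finite _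
  let b := Module.finBasisOfFinrankEq F W hWk
  let r₀ : Fin k → V := fun i => (b i : V)
  have hr₀ : LinearIndependent F r₀ := b.linearIndependent.map' W.subtype W.ker_subtype
  let Fix : Subgroup (Grp B) := MulAction.stabilizer (Grp B) r₀
  have horb : ∀ r : Fin k → V, r ∈ MulAction.orbit (Grp B) r₀ ↔
      LinearIndependent F r ∧ ∀ i j, B (r i) (r j) = 0 := by
    intro r
    constructor
    · rintro ⟨g, rfl⟩
      refine ⟨hr₀.map' (g : V ≃ₗ[F] V).toLinearMap (LinearEquiv.ker _), fun i j => ?_⟩
      exact (Grp.map_form g _ _).trans (hW _ (b i).2 _ (b j).2)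
    · rintro ⟨h1, h2⟩
      obtain ⟨e, he, her⟩ := Forms.exists_equiv_iso k B B hA hB hA hB rfl r₀ r hr₀ h1
        (fun i j => hW _ (b i).2 _ (b j).2) h2
      exact ⟨⟨e, he⟩, funext her⟩
  have e1 : Nat.card (Frames B k) * Nat.card Fix = Nat.card (Grp B) := by
    rw [← Nat.card_congr (MulAction.orbitProdStabilizerEquivGroup (Grp B) r₀), Nat.card_prod]
    congr 1
    exact Nat.card_congr (Equiv.subtypeEquivRight fun r => (horb r).symm)
  have hFix : Fix ≤ SympStab.stab B W := by
    intro g hg
    have hfix : ∀ w : W, (g : V ≃ₗ[F] V) w = w := by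
      have : ((g : V ≃ₗ[F] V).toLinearMap.comp W.subtype) = W.subtype :=
        b.ext fun i => congrFun hg i
      exact fun w => LinearMap.congr_fun this w
    intro v
    constructor
    · intro hv
      rw [show (g : V ≃ₗ[F] V) v = v from hfix ⟨v, hv⟩]
      exact hv
    · intro hv
      have h := hfix ⟨_, hv⟩
      have : (g : V ≃ₗ[F] V) v = v := (g : V ≃ₗ[F] V).injective h
      rwa [this] at hv
  have e2 : Nat.card {s : Fin k → W // LinearIndependent F s} * Nat.card Fix =
      Nat.card (SympStab.stab B W) := by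
    rw [← Nat.card_congr (MulAction.orbitProdStabilizerEquivGroup (SympStab.stab B W) r₀),
      Nat.card_prod]
    congr 1
    · refine Nat.card_congr (Equiv.ofBijective
        (fun s => (⟨fun i => (s.1 i : V), ?_⟩ : MulAction.orbit (SympStab.stab B W) r₀)) ⟨?_, ?_⟩)
      · obtain ⟨g, hg⟩ := (horb fun i => (s.1 i : V)).2
          ⟨s.2.map' W.subtype W.ker_subtype, fun i j => hW _ (s.1 i).2 _ (s.1 j).2⟩
        refine ⟨⟨g, fun v => ?_⟩, hg⟩
        have hle : W.map (g : V ≃ₗ[F] V).toLinearMap ≤ W := by
          rintro _ ⟨w, hw, rfl⟩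
          have hsp : (w : V) ∈ Submodule.span F (Set.range r₀) := by
            have : Submodule.span F (Set.range r₀) = W := by
              rw [show r₀ = W.subtype ∘ b from rfl, Set.range_comp, ← Submodule.map_span,
                b.span_eq, Submodule.map_subtype_top]
            rw [this]; exact hw
          clear hw
          induction hsp using Submodule.span_induction with
          | mem x hx =>
            obtain ⟨i, rfl⟩ := hx
            have := congrFun hg i
            show (g : V ≃ₗ[F] V) (r₀ i) ∈ W
            rw [show (g : V ≃ₗ[F] V) (r₀ i) = (s.1 i : V) from this]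
            exact (s.1 i).2
          | zero => simp
          | add x y _ _ hx hy => rw [map_add]; exact add_mem hx hy
          | smul a x _ hx => rw [map_smul]; exact W.smul_mem a hx
        have heq : W.map (g : V ≃ₗ[F] V).toLinearMap = W :=
          Submodule.eq_of_le_of_finrank_le hle (le_of_eq (LinearEquiv.finrank_map_eq _ W).symm)
        constructor
        · exact fun hv => hle ⟨v, hv, rfl⟩
        · intro hv
          rw [← heq] at hv
          obtain ⟨w, hw, e⟩ := hv
          rwa [← (g : V ≃ₗ[F] V).injective e]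
      · intro s t e
        exact Subtype.ext (funext fun i => Subtype.ext (congrFun (congrArg Subtype.val e) i))
      · rintro ⟨r, g, rfl⟩
        have hm : ∀ i, ((g : Grp B) : V ≃ₗ[F] V) (r₀ i) ∈ W := fun i => (g.2 _).1 (b i).2
        refine ⟨⟨fun i => ⟨_, hm i⟩, LinearIndependent.of_comp W.subtype
          (hr₀.map' ((g : Grp B) : V ≃ₗ[F] V).toLinearMap (LinearEquiv.ker _))⟩, rfl⟩
    · exact Nat.card_congr
        { toFun := fun x => ⟨⟨x.1, hFix x.2⟩, x.2⟩
          invFun := fun x => ⟨x.1.1, x.2⟩
          left_inv := fun _ => rfl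
          right_inv := fun _ => rfl }
  rw [← e1, ← e2]
  ring

end Cfsg.Agent.Classical.SympCount
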