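import Cfsg.Agent.Lib.Classical.SymplecticMatrix

/-!
Rank-one symplectic maps and the centraliser of a transvection.
-/

set_option autoImplicit false
set_option linter.style.haveILetI false
set_option linter.unusedSectionVars false

open Module

namespace Cfsg.Agent.Classical.Sp

variable {F V : Type*} [Field F] [AddCommGroup V] [Module F V]
  (B : LinearMap.BilinForm F V) (hA : B.IsAlt) (hB : Nondeg B)

include hA hB in
/-- A symplectic map differing from the identity by rank one is a transvection. -/
theorem exists_eq_T [FiniteDimensional F V] (g : Grp B)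
    (h : finrank F (LinearMap.range ((g : V ≃ₗ[F] V).toLinearMap - LinearMap.id)) = 1) :
    ∃ v, ∃ c : F, v ≠ 0 ∧ c ≠ 0 ∧ g = T B hA v c := by
  obtain ⟨⟨v, hv⟩, hv0, hspan⟩ := finrank_eq_one_iff'.1 h
  have hv0' : v ≠ 0 := fun e => hv0 (Subtype.ext e)
  have hex : ∀ x, ∃ a : F, (g : V ≃ₗ[F] V) x = x + a • v := fun x => by
    obtain ⟨a, ha⟩ := hspan ⟨_, LinearMap.mem_range_self _ x⟩
    refine ⟨a, ?_⟩
    have := congrArg Subtype.val ha
    simp at this
    rw [this]
    abel
  choose φ hφ using hex
  have key : ∀ x y, φ y * B x v = φ x * B y v := fun x y => by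
    have e := Grp.map_form g x y
    rw [hφ x, hφ y] at e
    simp only [map_add, map_smul, LinearMap.add_apply, LinearMap.smul_apply, smul_eq_mul,
      hA.self_eq_zero] at e
    rw [alt_neg B hA y v] at e
    linear_combination e
  obtain ⟨w, hw⟩ := exists_pair B hB hv0'
  have hwv : B w v = -1 := by rw [alt_neg B hA v w, hw]
  refine ⟨v, -φ w, hv0', ?_, Grp.ext' B fun x => ?_⟩
  · intro hc
    rw [neg_eq_zero] at hc
    obtain ⟨x, hx⟩ : ∃ x, φ x ≠ 0 := by
      by_contra hall
      push Not at hall
      have h0 : (g : V ≃ₗ[F] V).toLinearMap - LinearMap.id = 0 := LinearMap.ext fun x => by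
        simp [hφ x, hall x]
      rw [h0, LinearMap.range_zero, finrank_bot] at h
      exact zero_ne_one h
    have := key x w
    rw [hc, zero_mul, hwv] at this
    exact hx (by linear_combination this)
  · rw [hφ x, T_apply]
    congr 2
    have := key x w
    rw [hwv] at this
    linear_combination this

/-- The stabiliser of a vector. -/
abbrev vecStab (v : V) : Subgroup (Grp B) where
  carrier := {g | (g : V ≃ₗ[F] V) v = v}
  one_mem' := rfl
  mul_mem' := fun {a b} ha hb => by
    show (a : V ≃ₗ[F] V) ((b : V ≃ₗ[F] V) v) = v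
    rw [show (b : V ≃ₗ[F] V) v = v from hb, show (a : V ≃ₗ[F] V) v = v from ha]
  inv_mem' := fun {a} ha => by
    show (a : V ≃ₗ[F] V).symm v = v
    conv_lhs => rw [← show (a : V ≃ₗ[F] V) v = v from ha]
    exact (a : V ≃ₗ[F] V).symm_apply_apply v

include hA hB in
theorem card_vecStab_mul [FiniteDimensional F V] [Finite F] {v : V} (hv : v ≠ 0) :
    Nat.card (vecStab B v) * (Nat.card V - 1) = Nat.card (Grp B) := by
  classical
  haveI : Finite V := Module.finite_of_finite F
  haveI := Fintype.ofFinite V
  rw [Subgroup.card_eq_card_quotient_mul_card_subgroup (vecStab B v), mul_comm]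
  congr 1
  have hn : Nat.card {w : V // w ≠ 0} = Nat.card V - 1 := by
    rw [Nat.card_eq_fintype_card, Fintype.card_subtype_compl, Fintype.card_subtype_eq, Nat.card_eq_fintype_card]
  rw [← hn]
  let f : Grp B ⧸ vecStab B v → {w : V // w ≠ 0} := Quotient.lift
    (fun g : Grp B => (⟨(g : V ≃ₗ[F] V) v, (g : V ≃ₗ[F] V).map_ne_zero_iff.2 hv⟩ : {w : V // w ≠ 0}))
    (fun a b hab => by
      have hab : a⁻¹ * b ∈ vecStab B v := QuotientGroup.leftRel_apply.1 hab
      refine Subtype.ext ?_
      show (a : V ≃ₗ[F] V) v = (b : V ≃ₗ[F] V) v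
      have h1 : ((a⁻¹ * b : Grp B) : V ≃ₗ[F] V) v = v := hab
      conv_lhs => rw [← h1]
      rw [← Grp.mul_apply, mul_inv_cancel_left])
  refine (Nat.card_congr (Equiv.ofBijective f ⟨?_, ?_⟩)).symm
  · intro x y
    induction x using QuotientGroup.induction_on with | _ a =>
    induction y using QuotientGroup.induction_on with | _ b =>
    intro e
    have e' : (a : V ≃ₗ[F] V) v = (b : V ≃ₗ[F] V) v := congrArg Subtype.val e
    rw [QuotientGroup.eq]
    show ((a⁻¹ * b : Grp B) : V ≃ₗ[F] V) v = v
    rw [Grp.mul_apply, ← e']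
    exact (a : V ≃ₗ[F] V).symm_apply_apply v
  · rintro ⟨w, hw⟩
    obtain ⟨g, -, hg⟩ := move_top B hA hB hv hw
    exact ⟨QuotientGroup.mk g, Subtype.ext hg⟩

include hA hB in
/-- In characteristic two the centraliser of a transvection fixes its vector. -/
theorem centralizer_T [CharP F 2] [FiniteDimensional F V] {v : V} {c : F} (hv : v ≠ 0) (hc : c ≠ 0) :
    Subgroup.centralizer ({T B hA v c} : Set (Grp B)) = vecStab B v := by
  ext g
  rw [Subgroup.mem_centralizer_singleton_iff]
  constructor
  · intro hg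
    have hconj : T B hA ((g : V ≃ₗ[F] V) v) c = T B hA v c := by
      rw [← conj_T, hg, mul_inv_cancel_right]
    set u := (g : V ≃ₗ[F] V) v with hu
    obtain ⟨w, hw⟩ := exists_pair B hB hv
    have e := congrArg (fun t : Grp B => (t : V ≃ₗ[F] V) w) hconj
    simp only [T_apply, add_right_inj] at e
    have hwv : B w v = -1 := by rw [alt_neg B hA v w, hw]
    rw [hwv] at e
    have hwu : B w u ≠ 0 := fun h0 => by
      rw [h0] at e
      simp [hc, hv] at e
    obtain ⟨a, ha⟩ : ∃ a : F, u = a • v := ⟨(c * B w u)⁻¹ * (c * -1), by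
      rw [← smul_smul, ← e, smul_smul, inv_mul_cancel₀ (mul_ne_zero hc hwu), one_smul]⟩
    rw [ha, map_smul, smul_eq_mul, hwv, smul_smul] at e
    have ha1 : (a - 1) ^ 2 = 0 := by
      have h2 : (2 : F) = 0 := by exact_mod_cast CharP.cast_eq_zero F 2
      have e' := smul_left_injective F hv e
      have : a * a = 1 := mul_left_cancel₀ hc (by linear_combination -e')
      linear_combination this + (1 - a) * h2
    rw [pow_eq_zero_iff two_ne_zero, sub_eq_zero] at ha1
    show (g : V ≃ₗ[F] V) v = v
    rw [← hu, ha, ha1, one_smul]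
  · intro hg
    have := conj_T B hA g v c
    rw [show (g : V ≃ₗ[F] V) v = v from hg, mul_inv_eq_iff_eq_mul] at this
    exact this

end Cfsg.Agent.Classical.Sp
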