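import Cfsg.Prelude.Def_LieTypeDatum
import Cfsg.Agent.Lib.Classical.SympCount
import Cfsg.Agent.Lib.Classical.SympTransvection

/-!
`PSp_{2m}(F)`: semilinear automorphisms, transvection classes and their commutation.
-/

set_option autoImplicit false
set_option linter.style.haveILetI false
set_option linter.unusedSectionVars false

open Matrix

namespace Cfsg.Agent.PSpAut

open Classical.Sp

variable {F : Type*} [Field F] {m : ℕ}

/-- Vectors. -/
abbrev Vec (F : Type*) (m : ℕ) : Type _ := Fin m ⊕ Fin m → F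

/-- The symplectic group. -/
abbrev Sy (m : ℕ) (F : Type*) [Field F] : Type _ := ↥(Matrix.symplecticGroup (Fin m) F)

local notation "bs" => sympB F m

local notation "MM" => Matrix (Fin m ⊕ Fin m) (Fin m ⊕ Fin m) F

/-- The matrix of a symplectic element. -/
def mat (s : Sy m F) : Matrix (Fin m ⊕ Fin m) (Fin m ⊕ Fin m) F := s.1

theorem mat_mul (s t : Sy m F) : mat (s * t) = mat s * mat t := rfl

theorem mat_one : mat (1 : Sy m F) = 1 := rfl

theorem mat_inj {s t : Sy m F} (h : mat s = mat t) : s = t := Subtype.ext h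

theorem mat_ext {A B : Matrix (Fin m ⊕ Fin m) (Fin m ⊕ Fin m) F} (h : ∀ x, A *ᵥ x = B *ᵥ x) :
    A = B := matrix_ext m h

theorem sy_ext {s t : Sy m F} (h : ∀ x, mat s *ᵥ x = mat t *ᵥ x) : s = t := mat_inj (mat_ext h)

theorem mat_pres (s : Sy m F) (u v : Vec F m) : bs (mat s *ᵥ u) (mat s *ᵥ v) = bs u v :=
  (mem_symplectic_iff m s.1).1 s.2 u v

theorem mat_inv_mul (s : Sy m F) : mat s⁻¹ * mat s = 1 := congrArg Subtype.val (inv_mul_cancel s)

theorem mat_mul_inv (s : Sy m F) : mat s * mat s⁻¹ = 1 := congrArg Subtype.val (mul_inv_cancel s)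

theorem mat_mulVec_eq_zero (s : Sy m F) {x : Vec F m} : mat s *ᵥ x = 0 ↔ x = 0 := by
  refine ⟨fun h => ?_, fun h => by rw [h, mulVec_zero]⟩
  have := congrArg (mat s⁻¹ *ᵥ ·) h
  simpa [mulVec_mulVec, mat_inv_mul] using this

theorem mat_inv_mulVec (s : Sy m F) (x : Vec F m) : mat s⁻¹ *ᵥ (mat s *ᵥ x) = x := by
  rw [mulVec_mulVec, mat_inv_mul, one_mulVec]

theorem b_symm (u v : Vec F m) : bs v u = -bs u v := alt_neg _ (sympB_isAlt m) u v

theorem b_self (u : Vec F m) : bs u u = 0 := sympB_isAlt m u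

theorem b_zero_symm {u v : Vec F m} (h : bs u v = 0) : bs v u = 0 := by rw [b_symm, h, neg_zero]

theorem exists_dual {u : Vec F m} (hu : u ≠ 0) : ∃ v, bs u v = 1 :=
  exists_pair _ (sympB_nondeg m) hu

theorem exists_dual' {u : Vec F m} (hu : u ≠ 0) : ∃ v, bs v u = 1 := by
  obtain ⟨v, hv⟩ := exists_dual hu
  exact ⟨-v, by rw [map_neg, LinearMap.neg_apply, b_symm, hv, neg_neg]⟩

theorem eq_zero_of_orth {u : Vec F m} (h : ∀ x, bs x u = 0) : u = 0 := by
  by_contra hu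
  obtain ⟨v, hv⟩ := exists_dual hu
  exact one_ne_zero (α := F) (hv ▸ b_zero_symm (h v))

theorem exists_orth_two (hm : 2 ≤ m) (u v : Vec F m) : ∃ x : Vec F m, x ≠ 0 ∧ bs x u = 0 ∧ bs x v = 0 := by
  let φ : Vec F m →ₗ[F] F × F := ((bs).flip u).prod ((bs).flip v)
  have h := LinearMap.finrank_range_add_finrank_ker φ
  have h2 := Submodule.finrank_le (LinearMap.range φ)
  rw [Module.finrank_prod, Module.finrank_self] at h2
  rw [finrank_space] at h
  have hne : LinearMap.ker φ ≠ ⊥ := fun hb => by rw [hb, finrank_bot] at h; omega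
  obtain ⟨x, hx, hx0⟩ := Submodule.exists_mem_ne_zero_of_ne_bot hne
  exact ⟨x, hx0, (Prod.ext_iff.1 hx).1, (Prod.ext_iff.1 hx).2⟩

/-- Proportional vectors. -/
def Par (v w : Vec F m) : Prop := ∃ c : F, c ≠ 0 ∧ w = c • v

theorem Par.symm {v w : Vec F m} (h : Par v w) : Par w v := by
  obtain ⟨c, hc, rfl⟩ := h
  exact ⟨c⁻¹, inv_ne_zero hc, (inv_smul_smul₀ hc v).symm⟩

theorem Par.trans {u v w : Vec F m} (h : Par u v) (h' : Par v w) : Par u w := by
  obtain ⟨c, hc, rfl⟩ := h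
  obtain ⟨d, hd, rfl⟩ := h'
  exact ⟨d * c, mul_ne_zero hd hc, smul_smul _ _ _⟩

/-- Vectors with the same orthogonal are proportional. -/
theorem par_of_perp {u v : Vec F m} (hv : v ≠ 0) (h : ∀ x, x ≠ 0 → bs x u = 0 → bs x v = 0) : Par u v := by
  have hu : u ≠ 0 := by
    rintro rfl
    obtain ⟨y, hy⟩ := exists_dual' hv
    have := h y (fun e => by rw [e] at hy; simp at hy) (by simp)
    rw [hy] at this
    exact one_ne_zero this
  obtain ⟨y, hy⟩ := exists_dual' hu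
  set z := v - bs y v • u with hz
  have hz0 : z = 0 := by
    refine eq_zero_of_orth fun x => ?_
    have hx : bs (x - bs x u • y) v = 0 := by
      rcases eq_or_ne (x - bs x u • y) 0 with h0 | h0
      · rw [h0]; simp
      · exact h _ h0 (by simp [hy])
    simp only [hz, map_sub, map_smul, LinearMap.sub_apply, LinearMap.smul_apply, smul_eq_mul] at hx ⊢
    linear_combination hx
  rw [hz, sub_eq_zero] at hz0
  exact ⟨bs y v, fun e => hv (by rw [hz0, e, zero_smul]), hz0⟩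

theorem center_iff (s : Sy m F) :
    s ∈ Subgroup.center (Sy m F) ↔ ∃ a : F, ∀ x, mat s *ᵥ x = a • x := by
  have h := mem_center_iff _ (sympB_isAlt m) (sympB_nondeg m) (spEquiv m s)
  simp only [spEquiv_apply] at h
  rw [show (∃ a : F, ∀ x, mat s *ᵥ x = a • x) ↔ _ from h.symm, Subgroup.mem_center_iff, Subgroup.mem_center_iff]
  constructor
  · intro hs g
    obtain ⟨g, rfl⟩ := (spEquiv m).surjective g
    rw [← map_mul, ← map_mul, hs g]
  · exact fun hs g => (spEquiv m).injective (by rw [map_mul, map_mul, hs])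

theorem center_sign (hm : 1 ≤ m) {s : Sy m F} {a : F} (h : ∀ x, mat s *ᵥ x = a • x) : a * a = 1 := by
  have hne : (Pi.single (Sum.inl ⟨0, hm⟩) 1 : Vec F m) ≠ 0 := by simp
  obtain ⟨v, hv⟩ := exists_dual hne
  have := mat_pres s (Pi.single (Sum.inl ⟨0, hm⟩) 1) v
  rw [h, h, map_smul, map_smul, LinearMap.smul_apply, hv] at this
  simpa using this

theorem center_sq (hm : 1 ≤ m) {s : Sy m F} (hs : s ∈ Subgroup.center (Sy m F)) : s * s = 1 := by
  obtain ⟨a, ha⟩ := (center_iff s).1 hs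
  refine sy_ext fun x => ?_
  rw [mat_mul, ← mulVec_mulVec, ha, ha, smul_smul, center_sign hm ha, one_smul, mat_one, one_mulVec]

theorem center_char_two (hm : 1 ≤ m) (h2 : (2 : F) = 0) {s : Sy m F} (hs : s ∈ Subgroup.center (Sy m F)) :
    s = 1 := by
  obtain ⟨a, ha⟩ := (center_iff s).1 hs
  have h1 : a = 1 := by
    have := center_sign hm ha
    have h3 : (a - 1) ^ 2 = 0 := by linear_combination this + (1 - a) * h2
    exact sub_eq_zero.1 ((pow_eq_zero_iff two_ne_zero).1 h3)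
  refine sy_ext fun x => ?_
  rw [ha, h1, one_smul, mat_one, one_mulVec]

theorem mk_eq_one_of_fix_points (s : Sy m F) (h : ∀ v : Vec F m, v ≠ 0 → Par v (mat s *ᵥ v)) :
    (QuotientGroup.mk s : Cfsg.PSp m F) = 1 := by
  rw [QuotientGroup.eq_one_iff, center_iff]
  choose! a ha0 ha using h
  rcases isEmpty_or_nonempty (Fin m) with he | he
  · exact ⟨1, fun x => funext fun i => (IsEmpty.false (i.elim id id)).elim⟩
  obtain ⟨i⟩ := he
  have he0 : (Pi.single (Sum.inl i) 1 : Vec F m) ≠ 0 := by simp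
  refine ⟨a (Pi.single (Sum.inl i) 1), fun x => ?_⟩
  set e : Vec F m := Pi.single (Sum.inl i) 1
  rcases eq_or_ne x 0 with rfl | hx
  · simp
  by_cases hl : ∃ t : F, x = t • e
  · obtain ⟨t, rfl⟩ := hl
    rw [mulVec_smul, ha e he0, smul_comm]
  · have hxe : x + e ≠ 0 := fun h0 => hl ⟨-1, by rw [neg_one_smul]; exact eq_neg_of_add_eq_zero_left h0⟩
    have e1 := ha _ hxe
    rw [mulVec_add, ha x hx, ha e he0] at e1
    have e2 : (a x - a (x + e)) • x = (a (x + e) - a e) • e := by linear_combination (norm := module) e1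
    by_cases h1 : a x - a (x + e) = 0
    · rw [h1, zero_smul, eq_comm, smul_eq_zero] at e2
      rw [ha x hx, sub_eq_zero.1 h1, sub_eq_zero.1 (e2.resolve_right he0)]
    · exact absurd ⟨(a x - a (x + e))⁻¹ * (a (x + e) - a e), by
        rw [mul_smul, ← e2, inv_smul_smul₀ h1]⟩ hl

/-- A transvection. -/
noncomputable def tv (v : Vec F m) (c : F) : Sy m F :=
  ⟨Cfsg.sympTransvection m v c, transvection_mem m v c⟩

theorem tv_apply (v : Vec F m) (c : F) (x : Vec F m) : mat (tv v c) *ᵥ x = x + (c * bs x v) • v :=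
  transvection_mulVec m v c x

theorem tv_smul (v : Vec F m) (a c : F) : tv (a • v) c = tv v (a * a * c) :=
  sy_ext fun x => by
    rw [tv_apply, tv_apply, map_smul, smul_eq_mul, smul_smul]
    congr 2
    ring

theorem conj_tv (s : Sy m F) (v : Vec F m) (c : F) : s * tv v c * s⁻¹ = tv (mat s *ᵥ v) c := by
  rw [mul_inv_eq_iff_eq_mul]
  refine sy_ext fun x => ?_
  rw [mat_mul, mat_mul, ← mulVec_mulVec, ← mulVec_mulVec, tv_apply, tv_apply, mat_pres, mulVec_add, mulVec_smul]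

/-- A transvection class. -/
noncomputable def cls (v : Vec F m) (c : F) : Cfsg.PSp m F := QuotientGroup.mk (tv v c)

theorem cls_smul (v : Vec F m) (a c : F) : cls (a • v) c = cls v (a * a * c) := by rw [cls, cls, tv_smul]

theorem cls_def (v : Vec F m) (c : F) : cls v c = (QuotientGroup.mk (tv v c) : Cfsg.PSp m F) := rfl

theorem conj_cls (s : Sy m F) (v : Vec F m) (c : F) :
    (QuotientGroup.mk s : Cfsg.PSp m F) * cls v c * (QuotientGroup.mk s)⁻¹ = cls (mat s *ᵥ v) c := by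
  rw [cls_def, cls_def, ← conj_tv s v c]
  simp

variable (hm : 2 ≤ m)

include hm

theorem par_of_tv_eq_mul {u v : Vec F m} {c d : F} (hu : u ≠ 0) (hv : v ≠ 0) (hc : c ≠ 0) (hd : d ≠ 0)
    (h : cls u c = cls v d) : Par u v := by
  rw [cls, cls, QuotientGroup.eq] at h
  obtain ⟨a, ha⟩ := (center_iff _).1 h
  obtain ⟨x, hx0, hxu, hxv⟩ := exists_orth_two hm u v
  have key : ∀ y, mat (tv v d) *ᵥ y = a • (mat (tv u c) *ᵥ y) := fun y => by
    have e : tv v d = tv u c * ((tv u c)⁻¹ * tv v d) := by group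
    rw [e, mat_mul, ← mulVec_mulVec, ha, mulVec_smul]
  have h1 : a = 1 := by
    have := key x
    rw [tv_apply, tv_apply, hxu, hxv, mul_zero, mul_zero, zero_smul, zero_smul, add_zero] at this
    exact (smul_left_injective F hx0 (show a • x = (1 : F) • x by rw [one_smul, ← this]))
  refine par_of_perp hv fun y _ hyu => ?_
  have := key y
  rw [h1, one_smul, tv_apply, tv_apply, hyu, mul_zero, zero_smul, add_zero, add_eq_left, smul_eq_zero] at this
  exact (mul_eq_zero.1 (this.resolve_right hv)).resolve_left hd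

theorem comm_iff {u v : Vec F m} {c d : F} (hu : u ≠ 0) (hv : v ≠ 0) (hc : c ≠ 0) (hd : d ≠ 0) :
    Commute (cls u c) (cls v d) ↔ bs u v = 0 := by
  constructor
  · intro h
    by_contra hne
    have hv' : mat (tv u c) *ᵥ v ≠ 0 := fun e => hv ((mat_mulVec_eq_zero _).1 e)
    obtain ⟨l, -, hl⟩ := par_of_tv_eq_mul hm hv hv' hd hd
      (by rw [← conj_cls (tv u c) v d, ← cls_def, h.eq, mul_inv_cancel_right])
    rw [tv_apply] at hl
    have := congrArg (bs v) hl
    simp [b_self, b_symm u v, hc, hne] at this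
  · intro h
    have e := conj_cls (tv u c) v d
    rw [← cls_def, tv_apply, b_zero_symm h, mul_zero, zero_smul, add_zero, mul_inv_eq_iff_eq_mul] at e
    exact e

omit hm

/-! ### Semilinear automorphisms -/

/-- A semilinear map. -/
def act (g : GL (Fin m ⊕ Fin m) F) (σ : F ≃+* F) (x : Vec F m) : Vec F m :=
  (g : Matrix (Fin m ⊕ Fin m) (Fin m ⊕ Fin m) F) *ᵥ (σ ∘ x)

theorem map_mulVec' (σ : F ≃+* F) (M : Matrix (Fin m ⊕ Fin m) (Fin m ⊕ Fin m) F) (x : Vec F m) :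
    M.map σ *ᵥ (σ ∘ x) = σ ∘ (M *ᵥ x) :=
  funext fun i => (RingHom.map_mulVec σ.toRingHom M x i).symm

theorem bs_comp (σ : F ≃+* F) (u v : Vec F m) : bs (σ ∘ u) (σ ∘ v) = σ (bs u v) := by
  simp [sympB_sum, map_sum, map_sub, map_mul]

theorem surj_comp (σ : F ≃+* F) (u : Vec F m) : ∃ u', u = σ ∘ u' :=
  ⟨σ.symm ∘ u, funext fun i => (σ.apply_symm_apply _).symm⟩

theorem map_mem (σ : F ≃+* F) (s : Sy m F) : (mat s).map σ ∈ Matrix.symplecticGroup (Fin m) F :=
  (mem_symplectic_iff m _).2 fun u v => by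
    obtain ⟨u, rfl⟩ := surj_comp σ u
    obtain ⟨v, rfl⟩ := surj_comp σ v
    rw [map_mulVec', map_mulVec', bs_comp, bs_comp, mat_pres]

/-- A field automorphism on `Sp`. -/
def fieldSy (σ : F ≃+* F) : Sy m F ≃* Sy m F where
  toFun s := ⟨(mat s).map σ, map_mem σ s⟩
  invFun s := ⟨(mat s).map σ.symm, map_mem σ.symm s⟩
  left_inv s := mat_inj (Matrix.ext fun i j => σ.symm_apply_apply _)
  right_inv s := mat_inj (Matrix.ext fun i j => σ.apply_symm_apply _)
  map_mul' s t := mat_inj (map_mul σ.toRingHom.mapMatrix (mat s) (mat t))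

theorem gsp_spec {g : GL (Fin m ⊕ Fin m) F} (hg : g ∈ Cfsg.GSp m F) :
    ∃ c : Fˣ, ∀ u v, bs ((g : Matrix (Fin m ⊕ Fin m) (Fin m ⊕ Fin m) F) *ᵥ u)
      ((g : Matrix (Fin m ⊕ Fin m) (Fin m ⊕ Fin m) F) *ᵥ v) = (c : F) * bs u v := by
  obtain ⟨c, hc⟩ := hg
  exact ⟨c, fun u v => by rw [sympB_apply, sympB_apply]; exact hc u v⟩

theorem conj_mem (g : Cfsg.GSp m F) (s : Sy m F) :
    ((g : GL (Fin m ⊕ Fin m) F) : MM) * mat s *
      (((g : GL (Fin m ⊕ Fin m) F)⁻¹ : GL (Fin m ⊕ Fin m) F) : MM) ∈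
        Matrix.symplecticGroup (Fin m) F := by
  refine (mem_symplectic_iff m _).2 fun u v => ?_
  obtain ⟨c, hc⟩ := gsp_spec g.2
  obtain ⟨d, hd⟩ := gsp_spec (inv_mem g.2)
  rw [← mulVec_mulVec, ← mulVec_mulVec, ← mulVec_mulVec, ← mulVec_mulVec, hc, mat_pres, ← hc,
    mulVec_mulVec, mulVec_mulVec, Units.mul_inv, one_mulVec, one_mulVec]

/-- Conjugation by a similitude on `Sp`. -/
def conjSy (g : Cfsg.GSp m F) : Sy m F ≃* Sy m F where
  toFun s := ⟨_, conj_mem g s⟩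
  invFun s := ⟨_, conj_mem g⁻¹ s⟩
  left_inv s := mat_inj <| by simp [mat, mul_assoc]
  right_inv s := mat_inj <| by simp [mat, mul_assoc]
  map_mul' s t := mat_inj <| by
    show ((g : GL (Fin m ⊕ Fin m) F) : MM) * (mat s * mat t) *
        (((g : GL (Fin m ⊕ Fin m) F)⁻¹ : GL (Fin m ⊕ Fin m) F) : MM) =
      (((g : GL (Fin m ⊕ Fin m) F) : MM) * mat s *
        (((g : GL (Fin m ⊕ Fin m) F)⁻¹ : GL (Fin m ⊕ Fin m) F) : MM)) *
      (((g : GL (Fin m ⊕ Fin m) F) : MM) * mat t *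
        (((g : GL (Fin m ⊕ Fin m) F)⁻¹ : GL (Fin m ⊕ Fin m) F) : MM))
    simp [mul_assoc]

/-- The automorphism of `PSp` induced by a semilinear similitude. -/
noncomputable def semi (g : Cfsg.GSp m F) (σ : F ≃+* F) : MulAut (Cfsg.PSp m F) :=
  QuotientGroup.congr _ _ ((fieldSy σ).trans (conjSy g))
    (Subgroup.characteristic_iff_map_eq.1 inferInstance _)

theorem semi_mk (g : Cfsg.GSp m F) (σ : F ≃+* F) (s s' : Sy m F)
    (h : mat s' = ((g : GL (Fin m ⊕ Fin m) F) : MM) * (mat s).map σ *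
      (((g : GL (Fin m ⊕ Fin m) F)⁻¹ : GL (Fin m ⊕ Fin m) F) : MM)) :
    semi g σ (QuotientGroup.mk s) = QuotientGroup.mk s' := by
  show QuotientGroup.mk (conjSy g (fieldSy σ s)) = _
  exact congrArg _ (mat_inj h.symm)

theorem semi_mk' (g : Cfsg.GSp m F) (σ : F ≃+* F) (s : Sy m F) :
    ∃ s' : Sy m F, mat s' = ((g : GL (Fin m ⊕ Fin m) F) : MM) * (mat s).map σ *
      (((g : GL (Fin m ⊕ Fin m) F)⁻¹ : GL (Fin m ⊕ Fin m) F) : MM) ∧
      semi g σ (QuotientGroup.mk s) = QuotientGroup.mk s' :=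
  ⟨conjSy g (fieldSy σ s), rfl, rfl⟩

theorem semi_ext (β : MulAut (Cfsg.PSp m F)) (g : Cfsg.GSp m F) (σ : F ≃+* F)
    (h : ∀ s s' : Sy m F, mat s' = ((g : GL (Fin m ⊕ Fin m) F) : MM) * (mat s).map σ *
      (((g : GL (Fin m ⊕ Fin m) F)⁻¹ : GL (Fin m ⊕ Fin m) F) : MM) →
        β (QuotientGroup.mk s) = QuotientGroup.mk s') : β = semi g σ := by
  refine MulEquiv.ext fun x => ?_
  obtain ⟨s, rfl⟩ := QuotientGroup.mk_surjective x
  obtain ⟨s', hs', he⟩ := semi_mk' g σ s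
  rw [he, h s s' hs']

theorem map_gsp (σ : F ≃+* F) (h : Cfsg.GSp m F) :
    GeneralLinearGroup.map σ.toRingHom (h : GL (Fin m ⊕ Fin m) F) ∈ Cfsg.GSp m F := by
  obtain ⟨c, hc⟩ := gsp_spec h.2
  refine ⟨Units.map σ.toRingHom.toMonoidHom c, fun u v => ?_⟩
  rw [← sympB_apply, ← sympB_apply]
  show bs (((h : GL (Fin m ⊕ Fin m) F) : MM).map σ *ᵥ u)
    (((h : GL (Fin m ⊕ Fin m) F) : MM).map σ *ᵥ v) = σ c * bs u v
  obtain ⟨u, rfl⟩ := surj_comp σ u
  obtain ⟨v, rfl⟩ := surj_comp σ v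
  rw [map_mulVec', map_mulVec', bs_comp, bs_comp, hc, map_mul]

/-- A field automorphism on `GSp`. -/
def fieldGSp (σ : F ≃+* F) : Cfsg.GSp m F →* Cfsg.GSp m F where
  toFun h := ⟨GeneralLinearGroup.map σ.toRingHom (h : GL (Fin m ⊕ Fin m) F), map_gsp σ h⟩
  map_one' := Subtype.ext (map_one _)
  map_mul' _ _ := Subtype.ext (map_mul _ _ _)

theorem fieldGSp_one (h : Cfsg.GSp m F) : fieldGSp (1 : F ≃+* F) h = h := Subtype.ext (Units.ext rfl)

theorem semi_mul (g h : Cfsg.GSp m F) (σ τ : F ≃+* F) :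
    semi g σ * semi h τ = semi (g * fieldGSp σ h) (σ * τ) := by
  refine semi_ext _ _ _ fun s s' hs' => ?_
  obtain ⟨t, ht, he⟩ := semi_mk' h τ s
  rw [MulAut.mul_apply, he]
  refine semi_mk g σ t s' ?_
  rw [hs', ht, show (((h : GL (Fin m ⊕ Fin m) F) : MM) * (mat s).map τ *
    (((h : GL (Fin m ⊕ Fin m) F)⁻¹ : GL (Fin m ⊕ Fin m) F) : MM)).map σ =
      σ.toRingHom.mapMatrix _ from rfl,
    map_mul, map_mul, Subgroup.coe_mul, _root_.mul_inv_rev, Units.val_mul, Units.val_mul, fieldGSp]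
  simp only [MonoidHom.coe_mk, OneHom.coe_mk, ← map_inv, mul_assoc]
  rfl

theorem semi_one : semi (1 : Cfsg.GSp m F) (1 : F ≃+* F) = 1 := by
  refine (semi_ext _ _ _ fun s s' hs' => ?_).symm
  rw [MulAut.one_apply]
  congr 1
  refine mat_inj ?_
  rw [hs']
  simp

theorem act_smul (g : GL (Fin m ⊕ Fin m) F) (σ : F ≃+* F) (a : F) (x : Vec F m) :
    act g σ (a • x) = σ a • act g σ x := by
  rw [act, act, show σ ∘ (a • x) = σ a • (σ ∘ x) from funext fun i => by simp, mulVec_smul]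

theorem act_add (g : GL (Fin m ⊕ Fin m) F) (σ : F ≃+* F) (x y : Vec F m) :
    act g σ (x + y) = act g σ x + act g σ y := by
  rw [act, act, act, show σ ∘ (x + y) = (σ ∘ x) + (σ ∘ y) from funext fun i => by simp, mulVec_add]

theorem act_eq_zero {g : GL (Fin m ⊕ Fin m) F} {σ : F ≃+* F} {x : Vec F m} :
    act g σ x = 0 ↔ x = 0 := by
  constructor
  · intro h
    have := congrArg (((g⁻¹ : GL (Fin m ⊕ Fin m) F) : MM) *ᵥ ·) h
    simp only [act, mulVec_mulVec, Units.inv_mul, one_mulVec, mulVec_zero] at this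
    exact funext fun i => σ.injective ((congrFun this i).trans (map_zero σ).symm)
  · rintro rfl
    rw [act, show σ ∘ (0 : Vec F m) = 0 from funext fun i => map_zero σ, mulVec_zero]

theorem act_surj (g : GL (Fin m ⊕ Fin m) F) (σ : F ≃+* F) (y : Vec F m) : ∃ x, act g σ x = y := by
  refine ⟨σ.symm ∘ (((g⁻¹ : GL (Fin m ⊕ Fin m) F) : MM) *ᵥ y), ?_⟩
  rw [act, show σ ∘ (σ.symm ∘ (((g⁻¹ : GL (Fin m ⊕ Fin m) F) : MM) *ᵥ y)) = _ from
    funext fun i => σ.apply_symm_apply _, mulVec_mulVec, Units.mul_inv, one_mulVec]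

/-- The image of `mat s *ᵥ x` under a semilinear map. -/
theorem act_mulVec (g : Cfsg.GSp m F) (σ : F ≃+* F) {s s' : Sy m F}
    (h : mat s' = ((g : GL (Fin m ⊕ Fin m) F) : MM) * (mat s).map σ *
      (((g : GL (Fin m ⊕ Fin m) F)⁻¹ : GL (Fin m ⊕ Fin m) F) : MM)) (x : Vec F m) :
    mat s' *ᵥ act (g : GL (Fin m ⊕ Fin m) F) σ x = act (g : GL (Fin m ⊕ Fin m) F) σ (mat s *ᵥ x) := by
  rw [h, act, act, mulVec_mulVec, mul_assoc, Units.inv_mul, mul_one, ← mulVec_mulVec, map_mulVec']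

theorem semi_cls (g : Cfsg.GSp m F) (σ : F ≃+* F) :
    ∃ μ : F, μ ≠ 0 ∧ ∀ v c, semi g σ (cls v c) = cls (act (g : GL (Fin m ⊕ Fin m) F) σ v) (σ c / μ) := by
  obtain ⟨μ, hμ⟩ := gsp_spec g.2
  refine ⟨μ, μ.ne_zero, fun v c => semi_mk g σ _ _ (mat_ext fun y => ?_)⟩
  obtain ⟨x, rfl⟩ := act_surj (g : GL (Fin m ⊕ Fin m) F) σ y
  conv_rhs => rw [act, mulVec_mulVec, mul_assoc, Units.inv_mul, mul_one, ← mulVec_mulVec, map_mulVec',
    tv_apply]
  show _ = act (g : GL (Fin m ⊕ Fin m) F) σ _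
  rw [tv_apply, act_add, act_smul, map_mul, ← bs_comp]
  congr 2
  rw [act, act, hμ]
  field_simp

variable (hm : 2 ≤ m)

include hm

theorem eq_one_of_semi_eq_one {g : Cfsg.GSp m F} {σ : F ≃+* F} (h : semi g σ = 1) :
    σ = 1 ∧ ∃ c : F, ((g : GL (Fin m ⊕ Fin m) F) : MM) = c • 1 := by
  obtain ⟨μ, hμ, hs⟩ := semi_cls g σ
  have hfix : ∀ v : Vec F m, v ≠ 0 → Par v (act (g : GL (Fin m ⊕ Fin m) F) σ v) := fun v hv => by
    have := hs v 1
    rw [h, MulAut.one_apply] at this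
    exact par_of_tv_eq_mul hm hv (fun e => hv (act_eq_zero.1 e)) one_ne_zero
      (div_ne_zero (by simp) hμ) this
  choose! a ha0 ha using hfix
  have hstd : ∀ k, (Pi.single k 1 : Vec F m) ≠ 0 := fun k => by simp
  set A := fun k => a (Pi.single k 1)
  have key : ∀ k l, k ≠ l → ∀ t : F, t ≠ 0 → σ t * A l = t * A k := by
    intro k l hkl t ht
    have hne : (Pi.single k 1 + t • Pi.single l 1 : Vec F m) ≠ 0 := fun e => by
      simpa [hkl] using congrFun e k
    have e := ha _ hne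
    rw [act_add, act_smul, ha _ (hstd k), ha _ (hstd l)] at e
    have ek := congrFun e k
    have el := congrFun e l
    simp [hkl, hkl.symm] at ek el
    rw [← ek] at el
    linear_combination el
  have hA : ∀ k l, A k = A l := fun k l => by
    rcases eq_or_ne k l with rfl | hkl
    · rfl
    · simpa using (key k l hkl 1 one_ne_zero).symm
  have hne : (Sum.inl ⟨0, by omega⟩ : Fin m ⊕ Fin m) ≠ Sum.inl ⟨1, by omega⟩ := by simp
  have hA0 : A (Sum.inl ⟨0, by omega⟩) ≠ 0 := ha0 _ (hstd _)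
  have hσ : σ = 1 := RingEquiv.ext fun t => by
    rcases eq_or_ne t 0 with rfl | ht
    · simp
    · have := key _ _ hne t ht
      rw [hA (Sum.inl ⟨1, by omega⟩) (Sum.inl ⟨0, by omega⟩)] at this
      exact mul_right_cancel₀ hA0 this
  subst hσ
  refine ⟨rfl, A (Sum.inl ⟨0, by omega⟩), Matrix.ext fun i j => ?_⟩
  have := congrFun (ha _ (hstd j)) i
  rw [act, show (⇑(1 : F ≃+* F)) ∘ (Pi.single j 1 : Vec F m) = Pi.single j 1 from rfl, mulVec_single_one] at this
  simp only [Matrix.col_apply, Pi.smul_apply, smul_eq_mul] at this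
  rw [this, hA _ j, Matrix.smul_apply, one_apply, smul_eq_mul, Pi.single_apply]

end Cfsg.Agent.PSpAut
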