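import Cfsg.Agent.Lib.Classical.SympAutBase

/-!
Automorphisms of `PSp_{2m}(F)` and transvection classes: the image of a transvection class is an
element of the radical of a point stabiliser, and a transvection class unless `(m, p) = (2, 2)`.
-/

set_option autoImplicit false
set_option linter.style.haveILetI false
set_option linter.unusedSectionVars false

open Matrix

namespace Cfsg.Agent.PSpAut

open Classical.Sp

attribute [local instance] _root_.Classical.propDecidable

variable {F : Type*} [Field F] {m : ℕ}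

local notation "bs" => sympB F m

local notation "MM" => Matrix (Fin m ⊕ Fin m) (Fin m ⊕ Fin m) F

/-- An element of the radical attached to a point. -/
noncomputable def rmap (e d : Vec F m) (a : F) (x : Vec F m) : Vec F m :=
  x + bs x e • d + (bs x d + a * bs x e) • e

theorem rmap_comp {e d d' : Vec F m} (hd : bs d e = 0) (hd' : bs d' e = 0) (a a' : F) (x : Vec F m) :
    rmap e d a (rmap e d' a' x) = rmap e (d + d') (a + a' + bs d' d) x := by
  simp only [rmap, map_add, map_smul, LinearMap.add_apply, LinearMap.smul_apply, smul_eq_mul, hd', b_self,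
    b_zero_symm hd]
  module

theorem rmap_pres {e d : Vec F m} (hd : bs d e = 0) (a : F) (x y : Vec F m) :
    bs (rmap e d a x) (rmap e d a y) = bs x y := by
  simp only [rmap, map_add, map_smul, LinearMap.add_apply, LinearMap.smul_apply, smul_eq_mul, hd, b_self,
    b_zero_symm hd, b_symm x e, b_symm x d, b_symm y e, b_symm y d]
  ring

/-- The radical element as a symplectic element. -/
noncomputable def rel (e d : Vec F m) (hd : bs d e = 0) (a : F) : Sy m F :=
  ⟨LinearMap.toMatrix' (LinearMap.id + (((bs).flip e).smulRight d + ((bs).flip d + a • (bs).flip e).smulRight e)),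
    (mem_symplectic_iff m _).2 fun u v => by
      rw [LinearMap.toMatrix'_mulVec, LinearMap.toMatrix'_mulVec]
      simp only [LinearMap.add_apply, LinearMap.id_coe, id_eq, LinearMap.smulRight_apply, LinearMap.smul_apply,
        LinearMap.flip_apply, smul_eq_mul, ← add_assoc]
      exact rmap_pres hd a u v⟩

theorem rel_apply {e d : Vec F m} (hd : bs d e = 0) (a : F) (x : Vec F m) :
    mat (rel e d hd a) *ᵥ x = rmap e d a x := by
  show LinearMap.toMatrix' _ *ᵥ x = _
  rw [LinearMap.toMatrix'_mulVec]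
  simp only [LinearMap.add_apply, LinearMap.id_coe, id_eq, LinearMap.smulRight_apply, LinearMap.smul_apply,
    LinearMap.flip_apply, smul_eq_mul, ← add_assoc]
  rfl

/-- The radical of a point stabiliser. -/
noncomputable def radSub (e : Vec F m) : Subgroup (Sy m F) where
  carrier := {s | ∃ (d : Vec F m) (hd : bs d e = 0) (a : F), s = rel e d hd a}
  one_mem' := ⟨0, by simp, 0, sy_ext fun x => by simp [rel_apply, rmap, mat_one]⟩
  mul_mem' := by
    rintro _ _ ⟨d, hd, a, rfl⟩ ⟨d', hd', a', rfl⟩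
    exact ⟨d + d', by simp [hd, hd'], a + a' + bs d' d, sy_ext fun x => by
      rw [mat_mul, ← mulVec_mulVec, rel_apply, rel_apply, rel_apply, rmap_comp hd hd']⟩
  inv_mem' := by
    rintro _ ⟨d, hd, a, rfl⟩
    refine ⟨-d, by simp [hd], -a, inv_eq_of_mul_eq_one_right (sy_ext fun x => ?_)⟩
    rw [mat_mul, ← mulVec_mulVec, rel_apply, rel_apply, rmap_comp hd (by simp [hd]), mat_one, one_mulVec]
    simp [rmap, b_self]

theorem rel_mem {e d : Vec F m} (hd : bs d e = 0) (a : F) : rel e d hd a ∈ radSub e := ⟨d, hd, a, rfl⟩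

theorem radSub_isPGroup (p : ℕ) [Fact p.Prime] [CharP F p] (e : Vec F m) : IsPGroup p (radSub e) := by
  rintro ⟨_, d, hd, a, rfl⟩
  refine ⟨1, Subtype.ext (sy_ext fun x => ?_)⟩
  have key : ∀ k : ℕ, mat (rel e d hd a ^ k) *ᵥ x = rmap e ((k : F) • d) ((k : F) * a) x := by
    intro k
    induction k with
    | zero => simp [rmap, mat_one]
    | succ k ih =>
      rw [pow_succ', mat_mul, ← mulVec_mulVec, ih, rel_apply, rmap_comp hd (by simp [hd])]
      congr 1
      · push_cast; module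
      · simp [b_self]; ring
  rw [pow_one, SubmonoidClass.coe_pow, key, CharP.cast_eq_zero]
  simp [rmap, mat_one]

theorem conj_rel {s : Sy m F} {e d : Vec F m} (hd : bs d e = 0) (a : F) (he : mat s *ᵥ e = e) (x : Vec F m) :
    mat (s * rel e d hd a * s⁻¹) *ᵥ x = rmap e (mat s *ᵥ d) a x := by
  have hx : mat s *ᵥ (mat s⁻¹ *ᵥ x) = x := by rw [mulVec_mulVec, mat_mul_inv, one_mulVec]
  rw [mat_mul, mat_mul, ← mulVec_mulVec, ← mulVec_mulVec, rel_apply]
  have b1 : bs (mat s⁻¹ *ᵥ x) e = bs x e := by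
    rw [← mat_pres s, hx, he]
  have b2 : bs (mat s⁻¹ *ᵥ x) d = bs x (mat s *ᵥ d) := by
    rw [← mat_pres s, hx]
  simp only [rmap, mulVec_add, mulVec_smul, hx, he, b1, b2]

/-- The stabiliser of a vector. -/
def vstab (e : Vec F m) : Subgroup (Sy m F) where
  carrier := {s | mat s *ᵥ e = e}
  one_mem' := by simp [mat_one]
  mul_mem' {a b} (ha hb : _ = e) := by
    show mat (a * b) *ᵥ e = e
    rw [mat_mul, ← mulVec_mulVec, hb, ha]
  inv_mem' {a} (ha : _ = e) := by
    show mat a⁻¹ *ᵥ e = e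
    conv_lhs => rw [← ha]
    rw [mat_inv_mulVec]

theorem mem_vstab {e : Vec F m} {s : Sy m F} : s ∈ vstab e ↔ mat s *ᵥ e = e := Iff.rfl

theorem rad_le_vstab (e : Vec F m) : radSub e ≤ vstab e := by
  rintro _ ⟨d, hd, a, rfl⟩
  rw [mem_vstab, rel_apply, rmap, b_self, b_zero_symm hd]
  simp

theorem vstab_le_normalizer (e : Vec F m) : vstab e ≤ Subgroup.normalizer (radSub e : Set (Sy m F)) := by
  have key : ∀ s ∈ vstab e, ∀ t ∈ radSub e, s * t * s⁻¹ ∈ radSub e := by
    rintro s hs _ ⟨d, hd, a, rfl⟩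
    have hd' : bs (mat s *ᵥ d) e = 0 := by
      conv_lhs => arg 2; rw [← mem_vstab.1 hs]
      rw [mat_pres, hd]
    exact ⟨_, hd', a, sy_ext fun x => by rw [conj_rel hd a hs x, rel_apply]⟩
  intro s hs
  rw [Subgroup.mem_normalizer_iff]
  refine fun t => ⟨key s hs t, fun h => ?_⟩
  have := key s⁻¹ (inv_mem hs) _ h
  rwa [show s⁻¹ * (s * t * s⁻¹) * s⁻¹⁻¹ = t by group] at this

theorem mem_rad_aux {e : Vec F m} (he : e ≠ 0) {z : Sy m F} (hfix : mat z *ᵥ e = e)
    (hc : ∀ u ∈ radSub e, u * z = z * u) : z ∈ radSub e := by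
  obtain ⟨y, hy⟩ := exists_dual' he
  set d := mat z *ᵥ y - y with hd
  have hde : bs d e = 0 := by
    rw [hd, map_sub, LinearMap.sub_apply]
    conv_lhs => arg 1; rw [← hfix, mat_pres]
    rw [sub_self]
  refine ⟨d, hde, -bs y d, sy_ext fun x => ?_⟩
  rw [rel_apply]
  set u := x - bs x e • y with hu
  have hue : bs u e = 0 := by simp [hu, hy]
  have h1 := conj_rel (s := z) hue 0 hfix y
  rw [← hc _ (rel_mem hue 0), mul_inv_cancel_right, rel_apply] at h1
  simp only [rmap, hy, one_smul, zero_mul, add_zero] at h1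
  have hzu : mat z *ᵥ u = u + (bs y u - bs y (mat z *ᵥ u)) • e := by
    linear_combination (norm := module) -h1
  have hl : bs y u - bs y (mat z *ᵥ u) = bs u d := by
    have h2 := mat_pres z u y
    rw [hzu, show mat z *ᵥ y = y + d by rw [hd]; abel] at h2
    simp only [map_add, map_smul, LinearMap.add_apply, LinearMap.smul_apply, smul_eq_mul] at h2
    rw [b_symm y e, hy, b_zero_symm hde] at h2
    linear_combination -h2
  rw [hl] at hzu
  have hx : x = u + bs x e • y := by rw [hu]; abel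
  conv_lhs => rw [hx, mulVec_add, mulVec_smul, hzu, show mat z *ᵥ y = y + d by rw [hd]; abel]
  have hxd : bs x d = bs u d + bs x e * bs y d := by
    conv_lhs => rw [hx]
    simp
  rw [rmap, hxd]
  conv_rhs => arg 1; arg 1; rw [hx]
  module

variable [Fintype F]

/-- The stabiliser of a vector has index prime to the characteristic. -/
theorem vstab_index (hm : 1 ≤ m) (p : ℕ) [Fact p.Prime] [CharP F p] {e : Vec F m} (he : e ≠ 0) :
    ¬ p ∣ (vstab e).index := by
  have h := card_vecStab_mul _ (sympB_isAlt m) (sympB_nondeg m) (v := e) he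
  have hmap : (vstab e).map (spEquiv m).toMonoidHom = vecStab (sympB F m) e := by
    ext g
    obtain ⟨s, rfl⟩ := (spEquiv m).surjective g
    exact Subgroup.mem_map_equiv.trans (by rw [MulEquiv.symm_apply_apply]; rfl)
  rw [← hmap, Subgroup.card_map_of_injective (f := (spEquiv m).toMonoidHom) (spEquiv m).injective,
    ← Nat.card_congr (spEquiv (F := F) m).toEquiv, ← (vstab e).card_mul_index] at h
  rw [← Nat.eq_of_mul_eq_mul_left Nat.card_pos h]
  intro hp
  have hV : p ∣ Nat.card (Vec F m) := by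
    obtain ⟨k, -, hk⟩ := FiniteField.card F p
    rw [Nat.card_pi, Finset.prod_const, Finset.card_univ, Nat.card_eq_fintype_card (α := F), hk,
      Fintype.card_sum, Fintype.card_fin, ← pow_mul]
    exact dvd_pow_self p (mul_ne_zero k.ne_zero (by omega))
  have : p ∣ 1 := by
    have h1 : 0 < Nat.card (Vec F m) := Nat.card_pos
    have := Nat.dvd_sub hV hp
    rwa [show Nat.card (Vec F m) - (Nat.card (Vec F m) - 1) = 1 by omega] at this
  exact Nat.Prime.not_dvd_one Fact.out this

theorem exists_sylow_vstab (hm : 1 ≤ m) (p : ℕ) [Fact p.Prime] [CharP F p] {e : Vec F m} (he : e ≠ 0) :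
    ∃ P : Sylow p (Sy m F), (P : Subgroup (Sy m F)) ≤ vstab e ∧ radSub e ≤ (P : Subgroup (Sy m F)) := by
  obtain ⟨P₀⟩ : Nonempty (Sylow p (vstab e)) := inferInstance
  obtain ⟨R, hR⟩ := IsPGroup.exists_le_sylow (P := (radSub e).subgroupOf (vstab e))
    ((radSub_isPGroup p e).comap_of_injective _ (Subgroup.subtype_injective _))
  have hR' : IsPGroup p ((R : Subgroup (vstab e)).map (vstab e).subtype) := R.isPGroup'.map _
  have hidx : ¬ p ∣ ((R : Subgroup (vstab e)).map (vstab e).subtype).index := by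
    rw [Subgroup.index_map_subtype]
    exact Nat.Prime.not_dvd_mul Fact.out (Sylow.not_dvd_index R) (vstab_index hm p he)
  refine ⟨hR'.toSylow hidx, Subgroup.map_subtype_le _, fun x hx => ?_⟩
  exact ⟨⟨x, rad_le_vstab e hx⟩, hR hx, rfl⟩

theorem isPGroup_sup_zpowers {G : Type*} [Group G] {p : ℕ} [Fact p.Prime] {P : Sylow p G} {z : G}
    (hz : ∃ k, z ^ p ^ k = 1) (hc : ∀ u ∈ (P : Subgroup G), u * z = z * u) : z ∈ (P : Subgroup G) := by
  have hZ : IsPGroup p (Subgroup.zpowers z) := by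
    rintro ⟨x, hx⟩
    obtain ⟨i, rfl⟩ := Subgroup.mem_zpowers_iff.1 hx
    obtain ⟨k, hk⟩ := hz
    refine ⟨k, Subtype.ext ?_⟩
    rw [SubmonoidClass.coe_pow, ← zpow_natCast, ← _root_.zpow_mul, mul_comm, _root_.zpow_mul, zpow_natCast, hk, _root_.one_zpow]
    rfl
  have hn : Subgroup.zpowers z ≤ Subgroup.normalizer ((P : Subgroup G) : Set G) := by
    rw [Subgroup.zpowers_le, Subgroup.mem_normalizer_iff]
    intro t
    constructor
    · intro ht
      rwa [← hc t ht, mul_inv_cancel_right]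
    · intro h
      have := hc _ h
      have e : z * t * z⁻¹ = t := by
        have e2 : z * t = z * (z * t * z⁻¹) := by rw [← this]; group
        exact (mul_left_cancel e2).symm
      rwa [e] at h
  have h2 := IsPGroup.to_sup_of_normal_right' hZ P.isPGroup' hn
  have := P.is_maximal' h2 le_sup_right
  exact this ▸ Subgroup.mem_sup_left (Subgroup.mem_zpowers z)

variable (hm : 2 ≤ m)

include hm

/-- An automorphism moves a transvection class into the radical of some point stabiliser. -/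
theorem image_cls_rad (p : ℕ) [Fact p.Prime] [CharP F p] (α : MulAut (Cfsg.PSp m F)) {e : Vec F m} (he : e ≠ 0)
    (c : F) : ∃ (g z : Sy m F), (QuotientGroup.mk (g * z * g⁻¹) : Cfsg.PSp m F) = α (cls e c) ∧
      z ∈ radSub e ∧ ∀ u ∈ radSub e, u * z = z * u := by
  obtain ⟨P, hP, hR⟩ := exists_sylow_vstab (by omega : 1 ≤ m) p he
  let π := QuotientGroup.mk' (Subgroup.center (Sy m F))
  have hπ : Function.Surjective π := QuotientGroup.mk'_surjective _
  let Pb : Sylow p (Cfsg.PSp m F) := P.mapSurjective hπ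
  obtain ⟨x, hx⟩ := MulAction.exists_smul_eq (Cfsg.PSp m F) Pb (Pb.mapSurjective (f := α.toMonoidHom) α.surjective)
  obtain ⟨g, rfl⟩ := hπ x
  obtain ⟨z₀, hz₀⟩ := hπ ((π g)⁻¹ * α (cls e c) * π g)
  have hcomm : ∀ u ∈ (P : Subgroup (Sy m F)), π u * π z₀ = π z₀ * π u := by
    intro u hu
    have h1 : π g * π u * (π g)⁻¹ ∈
        ((Pb.mapSurjective (f := α.toMonoidHom) α.surjective : Sylow p _) : Subgroup (Cfsg.PSp m F)) := by
      rw [← hx, Sylow.coe_subgroup_smul]
      exact ⟨π u, ⟨u, hu, rfl⟩, rfl⟩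
    change π g * π u * (π g)⁻¹ ∈ (Pb : Subgroup (Cfsg.PSp m F)).map α.toMonoidHom at h1
    obtain ⟨_, ⟨u', hu', rfl⟩, he'⟩ := h1
    change α (π u') = π g * π u * (π g)⁻¹ at he'
    have hcu : Commute (π u') (cls e c) := by
      have := conj_cls u' e c
      rw [mem_vstab.1 (hP hu'), mul_inv_eq_iff_eq_mul] at this
      exact this
    have h2 : Commute (π g * π u * (π g)⁻¹) (α (cls e c)) := he' ▸ hcu.map α.toMonoidHom
    rw [hz₀]
    calc π u * ((π g)⁻¹ * α (cls e c) * π g)
        = (π g)⁻¹ * ((π g * π u * (π g)⁻¹) * α (cls e c)) * π g := by group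
      _ = (π g)⁻¹ * (α (cls e c) * (π g * π u * (π g)⁻¹)) * π g := by rw [h2.eq]
      _ = _ := by group
  have hα : ∀ z, π z = π z₀ → π (g * z * g⁻¹) = α (cls e c) := fun z hz => by
    rw [map_mul, map_mul, map_inv, hz, hz₀]; group
  have hker : ∀ {s : Sy m F}, π s = 1 → s ∈ Subgroup.center (Sy m F) := fun h =>
    (QuotientGroup.eq_one_iff _).1 h
  have hclsp : (cls e c) ^ p = 1 := by
    have : ∀ k : ℕ, mat (tv e c ^ k) = mat (tv e ((k : F) * c)) := by
      intro k
      induction k with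
      | zero => exact mat_ext fun x => by simp [tv_apply, mat_one]
      | succ k ih =>
        refine mat_ext fun x => ?_
        rw [pow_succ', mat_mul, ← mulVec_mulVec, ih, tv_apply, tv_apply, tv_apply]
        simp [b_self]
        module
    rw [cls_def, ← QuotientGroup.mk_pow, show tv e c ^ p = 1 from mat_inj (by
      rw [this, CharP.cast_eq_zero, zero_mul]; exact mat_ext fun x => by simp [tv_apply, mat_one]),
      QuotientGroup.mk_one]
  have hz₀p : z₀ ^ p ∈ Subgroup.center (Sy m F) := hker (by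
    rw [map_pow, hz₀, show (π g)⁻¹ * α (cls e c) * π g = MulAut.conj (π g)⁻¹ (α (cls e c)) by
      simp [MulAut.conj_apply], ← map_pow, ← map_pow, hclsp, map_one, map_one])
  by_cases h2 : (2 : F) = 0
  · obtain rfl : p = 2 := by
      have : ((2 : ℕ) : F) = 0 := by exact_mod_cast h2
      exact (Nat.prime_dvd_prime_iff_eq Fact.out Nat.prime_two).1 ((CharP.cast_eq_zero_iff F p 2).1 this)
    have hz := center_char_two (by omega) h2 hz₀p
    have hc : ∀ u ∈ (P : Subgroup (Sy m F)), u * z₀ = z₀ * u := fun u hu => by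
      have := center_char_two (by omega) h2 (hker (s := (z₀ * u)⁻¹ * (u * z₀)) (by
        simp only [map_mul, map_inv, hcomm u hu]; group))
      rwa [inv_mul_eq_one, eq_comm] at this
    have hzP := isPGroup_sup_zpowers ⟨1, by rwa [pow_one]⟩ hc
    have hfix := hP hzP
    exact ⟨g, z₀, hα _ rfl, mem_rad_aux he hfix (fun u hu => hc u (hR hu)), fun u hu => hc u (hR hu)⟩
  · have hp : Odd p := (Fact.out : p.Prime).odd_of_ne_two fun h => h2 (by
      subst h; exact_mod_cast CharP.cast_eq_zero F 2)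
    obtain ⟨k, hk⟩ := hp
    set w := z₀ ^ p with hw
    have hww : w * w = 1 := center_sq (by omega) hz₀p
    set z := z₀ * w with hzdef
    have hzp : z ^ p = 1 := by
      rw [hzdef, (show Commute z₀ w from (Subgroup.mem_center_iff.1 hz₀p z₀)).mul_pow,
        ← hw, ← pow_succ', hk, show 2 * k + 1 + 1 = 2 * (k + 1) by ring, pow_mul, pow_two, hww, one_pow]
    have hπz : π z = π z₀ := by
      rw [hzdef, map_mul, show π w = 1 from (QuotientGroup.eq_one_iff _).2 hz₀p, mul_one]
    have hc : ∀ u ∈ (P : Subgroup (Sy m F)), u * z = z * u := fun u hu => by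
      have hd := hker (s := u * z * u⁻¹ * z⁻¹) (by
        simp only [map_mul, map_inv, hπz, hcomm u hu]; group)
      set d := u * z * u⁻¹ * z⁻¹ with hdef
      have he1 : u * z * u⁻¹ = d * z := by rw [hdef]; group
      have := congrArg (· ^ p) he1
      simp only [conj_pow, hzp, mul_one, mul_inv_cancel,
        (show Commute d z from ((Subgroup.mem_center_iff.1 hd) z).symm).mul_pow] at this
      have hd1 : d = 1 := by
        have hdd : d ^ 2 = 1 := by rw [pow_two]; exact center_sq (by omega) hd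
        rw [hk, pow_succ, pow_mul, hdd, one_pow, one_mul] at this
        exact this.symm
      rw [hd1, one_mul, mul_inv_eq_iff_eq_mul] at he1
      exact he1
    have hzP := isPGroup_sup_zpowers ⟨1, by rwa [pow_one]⟩ hc
    exact ⟨g, z, hα _ hπz, mem_rad_aux he (hP hzP) (fun u hu => hc u (hR hu)), fun u hu => hc u (hR hu)⟩

omit hm

theorem card_range_mul {G X : Type*} [Group G] [Finite G] (f : G → X) (K : Subgroup G)
    (h : ∀ g g', f g = f g' ↔ g⁻¹ * g' ∈ K) : Nat.card (Set.range f) * Nat.card K = Nat.card G := by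
  rw [Subgroup.card_eq_card_quotient_mul_card_subgroup K]
  congr 1
  let φ : G ⧸ K → Set.range f := Quotient.lift (fun g => ⟨f g, g, rfl⟩)
    (fun a b hab => Subtype.ext ((h a b).2 (QuotientGroup.leftRel_apply.1 hab)))
  refine (Nat.card_congr (Equiv.ofBijective φ ⟨fun a b => ?_, ?_⟩)).symm
  · induction a using QuotientGroup.induction_on with | _ a =>
    induction b using QuotientGroup.induction_on with | _ b =>
    exact fun e => QuotientGroup.eq.2 ((h a b).1 (congrArg Subtype.val e))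
  · rintro ⟨_, g, rfl⟩
    exact ⟨QuotientGroup.mk g, rfl⟩

/-- The pointwise stabiliser of two vectors. -/
def fixTwo (e d : Vec F m) : Subgroup (Sy m F) := vstab e ⊓ vstab d

theorem pair_eq_iff (e d : Vec F m) (g g' : Sy m F) :
    (mat g *ᵥ e, mat g *ᵥ d) = (mat g' *ᵥ e, mat g' *ᵥ d) ↔ g⁻¹ * g' ∈ fixTwo e d := by
  have key : ∀ v : Vec F m, mat g *ᵥ v = mat g' *ᵥ v ↔ mat (g⁻¹ * g') *ᵥ v = v := fun v => by
    rw [mat_mul, ← mulVec_mulVec]
    refine ⟨fun h => by rw [← h, mat_inv_mulVec], fun h => ?_⟩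
    have := congrArg (mat g *ᵥ ·) h
    simp only [mulVec_mulVec, ← mul_assoc, mat_mul_inv, one_mul] at this
    exact this.symm
  rw [Prod.mk.injEq, fixTwo, Subgroup.mem_inf, mem_vstab, mem_vstab, key, key]

theorem indep_of_not_par {e d : Vec F m} (he : e ≠ 0) (hd : ∀ l : F, d ≠ l • e) :
    LinearIndependent F ![e, d] := by
  rw [LinearIndependent.pair_iff' he]
  exact fun l h => hd l h.symm

/-- The number of images of an independent orthogonal pair. -/
theorem frames_le {e d : Vec F m} (he : e ≠ 0) (hde : bs d e = 0) (hnp : ∀ l : F, d ≠ l • e) :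
    (Nat.card F ^ (2 * m) - 1) * (Nat.card F ^ (2 * m - 1) - Nat.card F) * Nat.card (fixTwo e d) ≤
      Nat.card (Sy m F) := by
  have hfr : Nat.card (Classical.SympCount.Frames (sympB F m) 2) =
      (Nat.card F ^ (2 * m) - 1) * (Nat.card F ^ (2 * m - 1) - Nat.card F) := by
    haveI : Unique (Classical.SympCount.Frames (sympB F m) 0) :=
      { default := ⟨Fin.elim0, linearIndependent_empty_type, fun i => i.elim0⟩
        uniq := fun r => Subtype.ext (funext fun i => i.elim0) }
    rw [Classical.SympCount.card_frames_succ _ (sympB_isAlt m) (sympB_nondeg m) (finrank_space m),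
      Classical.SympCount.card_frames_succ _ (sympB_isAlt m) (sympB_nondeg m) (finrank_space m), Nat.card_unique]
    simp
  rw [← hfr, ← card_range_mul _ _ (pair_eq_iff e d)]
  refine Nat.mul_le_mul_right _ (Nat.card_le_card_of_injective
    (fun r => (⟨(r.1 0, r.1 1), ?_⟩ : Set.range fun g : Sy m F => (mat g *ᵥ e, mat g *ᵥ d))) ?_)
  · have h1 : ∀ i j, bs (![e, d] i) (![e, d] j) = 0 := by
      intro i j
      fin_cases i <;> fin_cases j <;> simp [b_self, hde, b_zero_symm hde]
    obtain ⟨g, hg, hgr⟩ := Classical.Forms.exists_equiv_iso 2 _ _ (sympB_isAlt m) (sympB_nondeg m)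
      (sympB_isAlt m) (sympB_nondeg m) rfl ![e, d] r.1 (indep_of_not_par he hnp) r.2.1 h1 r.2.2
    refine ⟨(spEquiv m).symm ⟨g, hg⟩, ?_⟩
    have := hgr 0
    have := hgr 1
    simp only [mat, spEquiv_symm_mulVec]
    exact Prod.ext (hgr 0) (hgr 1)
  · intro r r' h
    have h' := congrArg Subtype.val h
    simp only [Prod.mk.injEq] at h'
    exact Subtype.ext (funext fun i => by fin_cases i; exacts [h'.1, h'.2])

/-- Vectors orthogonal to the orthogonal of a pair. -/
theorem exists_coords {e d : Vec F m} (he : e ≠ 0) (hnp : ∀ l : F, d ≠ l • e) :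
    ∃ y₁ y₂ : Vec F m, bs y₁ e = 1 ∧ bs y₁ d = 0 ∧ bs y₂ e = 0 ∧ bs y₂ d = 1 ∧
      ∀ v, (∀ x, bs x e = 0 → bs x d = 0 → bs x v = 0) → v = bs y₁ v • e + bs y₂ v • d := by
  obtain ⟨u₁, hu₁⟩ := Classical.Forms.exists_dual (sympB F m) (sympB_nondeg m) (indep_of_not_par he hnp) ![-1, 0]
  obtain ⟨u₂, hu₂⟩ := Classical.Forms.exists_dual (sympB F m) (sympB_nondeg m) (indep_of_not_par he hnp) ![0, -1]
  have a1 : bs e u₁ = -1 := hu₁ 0
  have a2 : bs d u₁ = 0 := hu₁ 1
  have a3 : bs e u₂ = 0 := hu₂ 0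
  have a4 : bs d u₂ = -1 := hu₂ 1
  refine ⟨u₁, u₂, ?_⟩
  have h1 : bs u₁ e = 1 := by rw [b_symm, a1, neg_neg]
  have h2 : bs u₁ d = 0 := b_zero_symm a2
  have h3 : bs u₂ e = 0 := b_zero_symm a3
  have h4 : bs u₂ d = 1 := by rw [b_symm, a4, neg_neg]
  refine ⟨h1, h2, h3, h4, fun v hv => ?_⟩
  refine sub_eq_zero.1 (eq_zero_of_orth fun x => ?_)
  have := hv (x - bs x e • u₁ - bs x d • u₂) (by simp [h1, h3]) (by simp [h2, h4])
  simp only [map_sub, map_add, map_smul, LinearMap.sub_apply, LinearMap.smul_apply, smul_eq_mul] at this ⊢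
  linear_combination this

/-- Images of the pair under a centralising element. -/
theorem cent_pair {e d : Vec F m} (he : e ≠ 0) (hde : bs d e = 0) (hnp : ∀ l : F, d ≠ l • e) {a : F}
    {s : Sy m F} (hs : Commute s (rel e d hde a)) (h2 : (2 : F) = 0) :
    ∃ α β γ δ : F, mat s *ᵥ e = α • e + γ • d ∧ mat s *ᵥ d = β • e + δ • d ∧
      α * δ + γ * β = 1 + a * α * γ ∧ a = a * α ^ 2 ∧ a * γ ^ 2 = 0 := by
  obtain ⟨y₁, y₂, h11, h12, h21, h22, hc⟩ := exists_coords he hnp
  have hli := indep_of_not_par he hnp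
  have hli' : ∀ p r : F, p • (mat s *ᵥ e) + r • (mat s *ᵥ d) = 0 → p = 0 ∧ r = 0 := by
    intro p r h
    rw [← mulVec_smul, ← mulVec_smul, ← mulVec_add, mat_mulVec_eq_zero] at h
    exact LinearIndependent.pair_iff.1 hli p r h
  have key : ∀ x, bs x e • d + (bs x d + a * bs x e) • e =
      bs x (mat s *ᵥ e) • (mat s *ᵥ d) + (bs x (mat s *ᵥ d) + a * bs x (mat s *ᵥ e)) • (mat s *ᵥ e) := by
    intro x
    have h := congrArg (fun t => mat t *ᵥ x) (show s * rel e d hde a * s⁻¹ = rel e d hde a by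
      rw [hs.eq, mul_inv_cancel_right])
    have hx : mat s *ᵥ (mat s⁻¹ *ᵥ x) = x := by rw [mulVec_mulVec, mat_mul_inv, one_mulVec]
    have b1 : ∀ v, bs (mat s⁻¹ *ᵥ x) v = bs x (mat s *ᵥ v) := fun v => by rw [← mat_pres s, hx]
    simp only [mat_mul, ← mulVec_mulVec, rel_apply, rmap, mulVec_add, mulVec_smul, hx, b1] at h
    linear_combination (norm := module) -h
  have hperp : ∀ x, bs x e = 0 → bs x d = 0 → bs x (mat s *ᵥ e) = 0 ∧ bs x (mat s *ᵥ d) = 0 := by
    intro x hxe hxd
    have h := key x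
    rw [hxe, hxd, zero_smul, mul_zero, add_zero, zero_smul, add_zero, eq_comm, add_comm] at h
    obtain ⟨p1, r1⟩ := hli' _ _ h
    refine ⟨r1, ?_⟩
    rw [r1, mul_zero, add_zero] at p1
    exact p1
  have e1 := hc _ fun x hx hx' => (hperp x hx hx').1
  have e2 := hc _ fun x hx hx' => (hperp x hx hx').2
  have k1 := key y₁
  have k2 := key y₂
  rw [h11, h12] at k1
  rw [h21, h22] at k2
  set α := bs y₁ (mat s *ᵥ e)
  set γ := bs y₂ (mat s *ᵥ e)
  set β := bs y₁ (mat s *ᵥ d)
  set δ := bs y₂ (mat s *ᵥ d)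
  refine ⟨α, β, γ, δ, e1, e2, ?_⟩
  rw [e1, e2] at k1 k2
  obtain ⟨c1, c2⟩ := LinearIndependent.pair_iff.1 hli
    (a - (α * β + (β + a * α) * α)) (1 - (α * δ + (β + a * α) * γ)) (by
      linear_combination (norm := module) k1)
  obtain ⟨c3, c4⟩ := LinearIndependent.pair_iff.1 hli
    (1 - (γ * β + (δ + a * γ) * α)) (0 - (γ * δ + (δ + a * γ) * γ)) (by
      linear_combination (norm := module) k2)
  exact ⟨by linear_combination -c2 - (a * α * γ) * h2, by linear_combination c1 + (α * β) * h2,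
    by linear_combination -c4 - (γ * δ) * h2⟩

theorem cent_bound {e d : Vec F m} (he : e ≠ 0) (hde : bs d e = 0) (hnp : ∀ l : F, d ≠ l • e) (a : F)
    (h2 : (2 : F) = 0) :
    Nat.card (Subgroup.centralizer {rel e d hde a}) ≤
      (if a = 0 then Nat.card F * (Nat.card F ^ 2 - 1) else Nat.card F) * Nat.card (fixTwo e d) := by
  set C := Subgroup.centralizer {rel e d hde a}
  have h := card_range_mul (fun g : C => (mat (g : Sy m F) *ᵥ e, mat (g : Sy m F) *ᵥ d))
    ((fixTwo e d).subgroupOf C) (fun g g' => by rw [Subgroup.mem_subgroupOf]; exact pair_eq_iff e d _ _)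
  rw [← h]
  refine Nat.mul_le_mul ?_ (Nat.card_le_card_of_injective
    (fun x => (⟨(x : C), x.2⟩ : fixTwo e d))
    (fun x y hxy => Subtype.ext (Subtype.ext (congrArg (fun z : fixTwo e d => (z : Sy m F)) hxy))))
  have key : ∀ v : Set.range (fun g : C => (mat (g : Sy m F) *ᵥ e, mat (g : Sy m F) *ᵥ d)),
      ∃ α β γ δ : F, v.1 = (α • e + γ • d, β • e + δ • d) ∧
        α * δ + γ * β = 1 + a * α * γ ∧ a = a * α ^ 2 ∧ a * γ ^ 2 = 0 := by
    rintro ⟨_, g, rfl⟩
    obtain ⟨α, β, γ, δ, e1, e2, h3⟩ :=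
      cent_pair he hde hnp (Subgroup.mem_centralizer_singleton_iff.1 g.2) h2
    exact ⟨α, β, γ, δ, by simp only [e1, e2], h3⟩
  choose α β γ δ hv hdet hα hγ using key
  split_ifs with ha
  · classical
    have hne : ∀ v, (α v, γ v) ≠ (0, 0) := fun v hvv => by
      obtain ⟨e1, e2⟩ := Prod.mk.injEq _ _ _ _ ▸ hvv
      have := hdet v
      rw [e1, e2, ha] at this
      simp at this
    refine (Nat.card_le_card_of_injective
      (fun v => ((if α v = 0 then δ v else β v), (⟨(α v, γ v), hne v⟩ : {p : F × F // p ≠ (0, 0)})))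
      fun v w hvw => ?_).trans (le_of_eq ?_)
    · obtain ⟨e1, e2⟩ := Prod.mk.injEq _ _ _ _ ▸ hvw
      obtain ⟨e3, e4⟩ := Prod.mk.injEq _ _ _ _ ▸ congrArg Subtype.val e2
      have hv' := hdet v
      have hw' := hdet w
      rw [ha] at hv' hw'
      simp only [zero_mul, add_zero] at hv' hw'
      rw [← e3, ← e4] at hw'
      apply Subtype.ext
      rw [hv, hv, ← e3, ← e4]
      by_cases h0 : α v = 0
      · rw [if_pos h0, if_pos (e3 ▸ h0)] at e1
        rw [h0, zero_mul, zero_add] at hv' hw'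
        rw [e1, mul_left_cancel₀ (left_ne_zero_of_mul_eq_one hv') (hv'.trans hw'.symm)]
      · rw [if_neg h0, if_neg (e3 ▸ h0)] at e1
        rw [e1] at hv' ⊢
        rw [mul_left_cancel₀ h0 (add_right_cancel (hv'.trans hw'.symm))]
    · rw [Nat.card_prod, Nat.card_eq_fintype_card (α := {p : F × F // p ≠ (0, 0)}), Fintype.card_subtype_compl,
        Fintype.card_subtype_eq, Fintype.card_prod, Nat.card_eq_fintype_card, pow_two]
  · have hαγ : ∀ v, α v = 1 ∧ γ v = 0 := fun v => by
      refine ⟨?_, (pow_eq_zero_iff two_ne_zero).1 ((mul_eq_zero.1 (hγ v)).resolve_left ha)⟩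
      have h1 : α v ^ 2 = 1 := (mul_left_cancel₀ ha ((mul_one a).trans (hα v))).symm
      have h3 : (α v - 1) ^ 2 = 0 := by linear_combination h1 + (1 - α v) * h2
      exact sub_eq_zero.1 ((pow_eq_zero_iff two_ne_zero).1 h3)
    refine Nat.card_le_card_of_injective β fun v w hvw => Subtype.ext ?_
    have hv' := hdet v
    have hw' := hdet w
    rw [(hαγ v).1, (hαγ v).2] at hv'
    rw [(hαγ w).1, (hαγ w).2] at hw'
    simp only [one_mul, zero_mul, mul_zero, add_zero] at hv' hw'
    rw [hv, hv, (hαγ v).1, (hαγ v).2, (hαγ w).1, (hαγ w).2, hvw, hv', hw']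

theorem tv_eq_rel (e : Vec F m) (l a : F) (h : bs (l • e) e = 0) :
    rel e (l • e) h a = tv e (a + 2 * l) :=
  sy_ext fun x => by
    rw [rel_apply, tv_apply, rmap, map_smul, smul_eq_mul]
    module

variable (hm : 2 ≤ m)

include hm

/-- The image of a transvection class: a transvection class, or for `Sp₄` in characteristic two possibly
the class of an element with two-dimensional totally isotropic image. -/
theorem image_cls_type (α : MulAut (Cfsg.PSp m F)) {e : Vec F m} (he : e ≠ 0) {c : F} (hc : c ≠ 0) :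
    (∃ (w : Vec F m) (c' : F), w ≠ 0 ∧ c' ≠ 0 ∧ α (cls e c) = cls w c') ∨
    (m = 2 ∧ (2 : F) = 0 ∧ ∃ (w d : Vec F m) (hd : bs d w = 0), w ≠ 0 ∧ (∀ l : F, d ≠ l • w) ∧
      α (cls e c) = QuotientGroup.mk (rel w d hd 0)) := by
  obtain ⟨p, hp⟩ := CharP.exists F
  haveI : Fact p.Prime := ⟨CharP.char_is_prime F p⟩
  obtain ⟨g, z, hgz, hz, hcomm⟩ := image_cls_rad hm p α he c
  obtain ⟨d, hde, a, rfl⟩ := hz
  have hcls1 : cls e c ≠ 1 := fun h => by
    rw [cls, QuotientGroup.eq_one_iff, center_iff] at h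
    obtain ⟨l, hl⟩ := h
    obtain ⟨y, hy⟩ := exists_dual' he
    obtain ⟨x, hx0, hxe, hxy⟩ := exists_orth_two hm e y
    have h1 := hl x
    rw [tv_apply, hxe, mul_zero, zero_smul, add_zero] at h1
    have l1 : l = 1 := smul_left_injective F hx0 (show l • x = (1 : F) • x by rw [one_smul, ← h1])
    have h2 := hl y
    rw [tv_apply, hy, l1, one_smul, mul_one, add_eq_left, smul_eq_zero] at h2
    exact h2.elim hc he
  have hconj : ∀ {u v : Vec F m} {b : F} (h : bs v u = 0), ∃ h' : bs (mat g *ᵥ v) (mat g *ᵥ u) = 0,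
      g * rel u v h b * g⁻¹ = rel (mat g *ᵥ u) (mat g *ᵥ v) h' b := fun {u v b} h =>
    ⟨by rw [mat_pres, h], sy_ext fun x => by
      have hx : mat g *ᵥ (mat g⁻¹ *ᵥ x) = x := by rw [mulVec_mulVec, mat_mul_inv, one_mulVec]
      have b1 : ∀ w, bs (mat g⁻¹ *ᵥ x) w = bs x (mat g *ᵥ w) := fun w => by rw [← mat_pres g, hx]
      simp only [mat_mul, ← mulVec_mulVec, rel_apply, rmap, mulVec_add, mulVec_smul, hx, b1]⟩
  by_cases hpar : ∃ l : F, d = l • e
  · obtain ⟨l, rfl⟩ := hpar
    rw [tv_eq_rel, conj_tv] at hgz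
    refine Or.inl ⟨mat g *ᵥ e, a + 2 * l, fun h => he ((mat_mulVec_eq_zero g).1 h), fun h => ?_, hgz.symm⟩
    rw [h] at hgz
    refine hcls1 (α.injective ?_)
    rw [← hgz, map_one, show tv (mat g *ᵥ e) (0 : F) = 1 from sy_ext fun x => by simp [tv_apply, mat_one],
      QuotientGroup.mk_one]
  push Not at hpar
  -- outside a transvection the characteristic is two
  obtain ⟨y₁, y₂, h11, h12, h21, h22, -⟩ := exists_coords he hpar
  have h2 : (2 : F) = 0 := by
    set w := y₂ - bs y₂ e • y₁ with hw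
    have hwe : bs w e = 0 := by simp [hw, h11]
    have hwd : bs w d = 1 := by simp [hw, h22, h12]
    have h := congrArg (fun t => mat t *ᵥ y₁) (hcomm _ (rel_mem hwe 0))
    simp only [mat_mul, ← mulVec_mulVec, rel_apply, rmap_comp hwe hde, rmap_comp hde hwe] at h
    simp only [rmap, h11, one_smul, mul_one] at h
    rw [add_comm w d, b_symm w d, hwd] at h
    have := congrArg (bs y₁) h
    simp [h11, h12, b_self] at this
    linear_combination -this
  have hinj : Function.Injective (QuotientGroup.mk : Sy m F → Cfsg.PSp m F) := fun s t h =>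
    inv_mul_eq_one.1 (center_char_two (by omega) h2 (QuotientGroup.eq.1 h))
  have hC : Nat.card (vstab e) ≤ Nat.card (Subgroup.centralizer {rel e d hde a}) := by
    have hs : ∀ s : vstab e, ∃ t : Subgroup.centralizer {rel e d hde a},
        α (QuotientGroup.mk (s : Sy m F)) = QuotientGroup.mk (g * (t : Sy m F) * g⁻¹) := by
      intro s
      obtain ⟨t, ht⟩ := QuotientGroup.mk_surjective (α (QuotientGroup.mk (s : Sy m F)))
      refine ⟨⟨g⁻¹ * t * g, ?_⟩, by rw [← ht]; congr 1; group⟩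
      rw [Subgroup.mem_centralizer_singleton_iff]
      have hcs : Commute (QuotientGroup.mk (s : Sy m F) : Cfsg.PSp m F) (cls e c) := by
        have := conj_cls (s : Sy m F) e c
        rw [mem_vstab.1 s.2, mul_inv_eq_iff_eq_mul] at this
        exact this
      have h1 := hcs.map α.toMonoidHom
      simp only [MulEquiv.coe_toMonoidHom, ← hgz, ← ht] at h1
      have h3 : t * (g * rel e d hde a * g⁻¹) = (g * rel e d hde a * g⁻¹) * t := hinj (by simpa using h1.eq)
      calc g⁻¹ * t * g * rel e d hde a = g⁻¹ * (t * (g * rel e d hde a * g⁻¹)) * g := by group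
        _ = _ := by rw [h3]; group
    choose t ht using hs
    refine Nat.card_le_card_of_injective t fun x y hxy => Subtype.ext (hinj (α.injective ?_))
    rw [ht, ht, hxy]
  have hfr := frames_le he hde hpar
  have hcb := hC.trans (cent_bound he hde hpar a h2)
  have hv := card_vecStab_mul _ (sympB_isAlt m) (sympB_nondeg m) (v := e) he
  have hmap : (vstab e).map (spEquiv m).toMonoidHom = vecStab (sympB F m) e := by
    ext g
    obtain ⟨s, rfl⟩ := (spEquiv m).surjective g
    exact Subgroup.mem_map_equiv.trans (by rw [MulEquiv.symm_apply_apply]; rfl)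
  have hV : Nat.card (Vec F m) = Nat.card F ^ (2 * m) := by
    rw [Module.natCard_eq_pow_finrank (K := F) (V := Vec F m), finrank_space]
  rw [← hmap, Subgroup.card_map_of_injective (f := (spEquiv m).toMonoidHom) (spEquiv m).injective,
    ← Nat.card_congr (spEquiv (F := F) m).toEquiv, hV] at hv
  set q := Nat.card F
  set K := Nat.card (fixTwo e d)
  have hK : 0 < K := Nat.card_pos
  have hq : 2 ≤ q := Finite.one_lt_card
  have hQ : 0 < q ^ (2 * m) - 1 := by
    have := Nat.one_lt_pow (show 2 * m ≠ 0 by omega) hq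
    omega
  have hmain : q ^ (2 * m - 1) - q ≤ if a = 0 then q * (q ^ 2 - 1) else q := by
    rw [← hv] at hfr
    refine Nat.le_of_mul_le_mul_left ?_ (Nat.mul_pos hQ hK)
    refine le_trans (le_of_eq ?_) ((hfr.trans (Nat.mul_le_mul_right _ hcb)).trans (le_of_eq ?_)) <;> ring
  refine Or.inr ?_
  obtain ⟨hm2, ha⟩ : m = 2 ∧ a = 0 := by
    have hsq : 4 ≤ q ^ 2 := by nlinarith
    have h5 : ∀ k, 3 ≤ k → q ^ 3 ≤ q ^ k := fun k hk => Nat.pow_le_pow_right (by omega) hk
    have hq3 : q * 4 ≤ q ^ 3 := by rw [pow_succ' q 2]; exact Nat.mul_le_mul_left _ hsq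
    have ha : a = 0 := by
      by_contra ha
      rw [if_neg ha] at hmain
      have := h5 (2 * m - 1) (by omega)
      omega
    refine ⟨?_, ha⟩
    rw [if_pos ha] at hmain
    by_contra hne
    have h6 : q ^ 4 ≤ q ^ (2 * m - 1) := Nat.pow_le_pow_right (by omega) (by omega)
    have h7 : q * (q ^ 2 - 1) ≤ q ^ 3 := by
      rw [pow_succ' q 2]; exact Nat.mul_le_mul_left _ (Nat.sub_le _ _)
    have h8 : 2 * q ^ 3 ≤ q ^ 4 := by
      rw [pow_succ q 3, mul_comm 2]; exact Nat.mul_le_mul_left _ hq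
    omega
  subst ha
  obtain ⟨h', hg'⟩ := hconj (b := (0 : F)) hde
  refine ⟨hm2, h2, mat g *ᵥ e, mat g *ᵥ d, h', fun h => he ((mat_mulVec_eq_zero g).1 h), fun l h => ?_, ?_⟩
  · refine hpar l (sub_eq_zero.1 ((mat_mulVec_eq_zero g).1 ?_))
    rw [mulVec_sub, mulVec_smul, h, sub_self]
  · rw [← hgz, hg']

end Cfsg.Agent.PSpAut
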