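import Mathlib
import Cfsg.Agent.Lib.Classical.SympAutOut

/-!
The exceptional automorphism of `Sp₄(2^f)`, its automorphism group and outer automorphism group.
-/

set_option autoImplicit false
set_option linter.style.haveILetI false
set_option linter.unusedSectionVars false

open Matrix

namespace Cfsg.Agent.PSpAut

open Classical.Sp

variable {F : Type*} [Field F]

local notation "bs" => sympB F 2

local notation "MM" => Matrix (Fin 2 ⊕ Fin 2) (Fin 2 ⊕ Fin 2) F

local notation "ee" => (Sum.inl 0 : Fin 2 ⊕ Fin 2)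
local notation "e'" => (Sum.inl 1 : Fin 2 ⊕ Fin 2)
local notation "ff" => (Sum.inr 0 : Fin 2 ⊕ Fin 2)
local notation "f'" => (Sum.inr 1 : Fin 2 ⊕ Fin 2)

/-- Four numbers as a vector. -/
def vec4 (a b c d : F) : Vec F 2 := Sum.elim ![a, b] ![c, d]

/-- Plücker coordinates outside the hyperbolic pairs. -/
def pl (u v : Vec F 2) : Vec F 2 :=
  vec4 (u ee * v e' + u e' * v ee) (u ee * v f' + u f' * v ee)
    (u ff * v f' + u f' * v ff) (u e' * v ff + u ff * v e')

theorem pl_comm (u v : Vec F 2) : pl u v = pl v u := by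
  funext k; rcases k with i | i <;> fin_cases i <;> simp [pl, vec4] <;> ring

/-- The first vector of the line attached to an index. -/
def lineA : Fin 2 ⊕ Fin 2 → Fin 2 ⊕ Fin 2 := Sum.elim ![ee, ee] ![ff, e']

/-- The second vector of the line attached to an index. -/
def lineB : Fin 2 ⊕ Fin 2 → Fin 2 ⊕ Fin 2 := Sum.elim ![e', f'] ![f', ff]

/-- The action on Plücker coordinates. -/
def gam (M : MM) : MM := Matrix.of fun r k => pl (fun j => M j (lineA k)) (fun j => M j (lineB k)) r

theorem sum4 (g : Fin 2 ⊕ Fin 2 → F) : ∑ k, g k = g ee + g e' + (g ff + g f') := by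
  simp [Fintype.sum_sum_type, Fin.sum_univ_two]

theorem bs4 (u v : Vec F 2) : bs u v = u ff * v ee + u f' * v e' - (u ee * v ff + u e' * v f') := by
  simp [sympB_sum, Fin.sum_univ_two]

theorem gam_mulVec (M : MM) (h2 : (2 : F) = 0) (u v : Vec F 2) :
    pl (M *ᵥ u) (M *ᵥ v) = gam M *ᵥ pl u v +
      (u ee * v ff + u ff * v ee) • pl (fun j => M j ee) (fun j => M j ff) +
      (u e' * v f' + u f' * v e') • pl (fun j => M j e') (fun j => M j f') := by
  funext k
  rcases k with i | i <;> fin_cases i <;>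
    (simp [pl, vec4, gam, lineA, lineB, mulVec, dotProduct, sum4]
     ring_nf
     simp [h2])

theorem pl_omega (M : Sy 2 F) (h2 : (2 : F) = 0) :
    pl (fun j => mat M j ee) (fun j => mat M j ff) + pl (fun j => mat M j e') (fun j => mat M j f') = 0 := by
  have h : mat M * Matrix.J (Fin 2) F * (mat M)ᵀ = Matrix.J (Fin 2) F := SymplecticGroup.mem_iff.1 M.2
  have key : ∀ a b, Matrix.J (Fin 2) F a b =
      mat M a ff * mat M b ee - mat M a ee * mat M b ff + (mat M a f' * mat M b e' - mat M a e' * mat M b f') := by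
    intro a b
    rw [← congrFun (congrFun h a) b]
    simp [Matrix.mul_apply, sum4, Matrix.J, Matrix.one_apply]
    ring
  funext k
  rcases k with i | i <;> fin_cases i
  · have := key ee e'; simp [Matrix.J, pl, vec4] at this ⊢; linear_combination -this + (mat M ee ee * mat M e' ff + mat M ee e' * mat M e' f') * h2
  · have := key ee f'; simp [Matrix.J, pl, vec4] at this ⊢; linear_combination -this + (mat M ee ee * mat M f' ff + mat M ee e' * mat M f' f') * h2
  · have := key ff f'; simp [Matrix.J, pl, vec4] at this ⊢; linear_combination -this + (mat M ff ee * mat M f' ff + mat M ff e' * mat M f' f') * h2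
  · have := key e' ff; simp [Matrix.J, pl, vec4] at this ⊢; linear_combination -this + (mat M e' ee * mat M ff ff + mat M e' e' * mat M ff f') * h2

theorem pl_map (M : Sy 2 F) (h2 : (2 : F) = 0) {u v : Vec F 2} (huv : bs u v = 0) :
    pl (mat M *ᵥ u) (mat M *ᵥ v) = gam (mat M) *ᵥ pl u v := by
  have e : u e' * v f' + u f' * v e' = u ee * v ff + u ff * v ee := by
    rw [bs4] at huv
    linear_combination huv + (u e' * v f' - u ff * v ee) * h2
  rw [gam_mulVec _ h2, e, add_assoc, ← smul_add, pl_omega M h2, smul_zero, add_zero]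

theorem lines_orth (k : Fin 2 ⊕ Fin 2) :
    bs (Pi.single (lineA k) 1) (Pi.single (lineB k) 1) = 0 := by
  rcases k with i | i <;> fin_cases i <;> simp [bs4, lineA, lineB]

theorem gam_col (M : MM) (k : Fin 2 ⊕ Fin 2) :
    gam M *ᵥ Pi.single k 1 = pl (M *ᵥ Pi.single (lineA k) 1) (M *ᵥ Pi.single (lineB k) 1) := by
  rw [mulVec_single_one, mulVec_single_one, mulVec_single_one]
  rfl

theorem gam_mul (M N : Sy 2 F) (h2 : (2 : F) = 0) : gam (mat M * mat N) = gam (mat M) * gam (mat N) := by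
  refine Matrix.toLin'.injective ((Pi.basisFun F _).ext fun k => ?_)
  simp only [Pi.basisFun_apply, Matrix.toLin'_apply, ← mulVec_mulVec, gam_col]
  exact pl_map M h2 (by rw [mat_pres, lines_orth])

theorem gam_one : gam (1 : MM) = 1 := by
  refine Matrix.toLin'.injective ((Pi.basisFun F _).ext fun k => ?_)
  simp only [Pi.basisFun_apply, Matrix.toLin'_apply, gam_col, one_mulVec]
  funext j
  rcases k with i | i <;> fin_cases i <;> rcases j with l | l <;> fin_cases l <;>
    simp [pl, vec4, lineA, lineB]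

theorem bs_pl (h2 : (2 : F) = 0) {u v u' v' : Vec F 2} (h : bs u v = 0) (h' : bs u' v' = 0) :
    bs (pl u v) (pl u' v') = bs u u' * bs v v' + bs u v' * bs v u' := by
  have e : u ee * v ff + u ff * v ee = u e' * v f' + u f' * v e' := by
    rw [bs4] at h
    linear_combination h + (u ee * v ff - u f' * v e') * h2
  have e'' : u' ee * v' ff + u' ff * v' ee = u' e' * v' f' + u' f' * v' e' := by
    rw [bs4] at h'
    linear_combination h' + (u' ee * v' ff - u' f' * v' e') * h2
  have key : bs (pl u v) (pl u' v') + bs u u' * bs v v' + bs u v' * bs v u' =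
      (u ee * v ff + u ff * v ee) * (u' ee * v' ff + u' ff * v' ee) +
      (u e' * v f' + u f' * v e') * (u' e' * v' f' + u' f' * v' e') := by
    simp only [bs4, pl, vec4, Sum.elim_inl, Sum.elim_inr, Matrix.cons_val_zero, Matrix.cons_val_one,
      Matrix.cons_val_fin_one, Fin.isValue]
    ring_nf
    simp [h2]
    rw [← sub_eq_zero]
    ring_nf
    simp [h2]
  rw [e, e''] at key
  linear_combination key - (bs u u' * bs v v' + bs u v' * bs v u') * h2 +
    (u e' * v f' + u f' * v e') * (u' e' * v' f' + u' f' * v' e') * h2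

theorem gam_mem (M : Sy 2 F) (h2 : (2 : F) = 0) : gam (mat M) ∈ Matrix.symplecticGroup (Fin 2) F := by
  rw [mem_symplectic_iff]
  intro u v
  have e : (bs).compl₁₂ (Matrix.toLin' (gam (mat M))) (Matrix.toLin' (gam (mat M))) = bs := by
    refine LinearMap.ext_basis (Pi.basisFun F _) (Pi.basisFun F _) fun k l => ?_
    simp only [LinearMap.compl₁₂_apply, Pi.basisFun_apply, Matrix.toLin'_apply, gam_col]
    rw [bs_pl h2 (by rw [mat_pres, lines_orth]) (by rw [mat_pres, lines_orth]), mat_pres, mat_pres, mat_pres, mat_pres]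
    conv_rhs => rw [← one_mulVec (Pi.single k (1 : F)), ← one_mulVec (Pi.single l (1 : F)), ← gam_one,
      gam_col, gam_col, one_mulVec, one_mulVec, one_mulVec, one_mulVec, bs_pl h2 (lines_orth k) (lines_orth l)]
  exact LinearMap.congr_fun₂ e u v

theorem pl_pl (h2 : (2 : F) = 0) {u v w : Vec F 2} (huv : bs u v = 0) (huw : bs u w = 0) :
    pl (pl u v) (pl u w) = bs v w • (fun j => u j * u j) := by
  rw [bs4] at huv huw
  funext k
  rcases k with i | i <;> fin_cases i <;>
    simp only [pl, vec4, bs4, Sum.elim_inl, Sum.elim_inr, Pi.smul_apply, smul_eq_mul, Matrix.cons_val_zero,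
      Matrix.cons_val_one, Matrix.cons_val_fin_one, Fin.isValue, Fin.zero_eta, Fin.mk_one]
  · rw [← sub_eq_zero]; linear_combination (norm := skip) (u ee * v ee) * huw + (u ee * w ee) * huv
    ring_nf; simp [h2]
  · rw [← sub_eq_zero]; linear_combination (norm := skip) (u e' * v e') * huw + (u e' * w e') * huv
    ring_nf; simp [h2]
  · rw [← sub_eq_zero]; linear_combination (norm := skip) (u ff * v ff) * huw + (u ff * w ff) * huv
    ring_nf; simp [h2]
  · rw [← sub_eq_zero]; linear_combination (norm := skip) (u f' * v f') * huw + (u f' * w f') * huv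
    ring_nf; simp [h2]

theorem gam_gam (M : Sy 2 F) (h2 : (2 : F) = 0) (k : Fin 2 ⊕ Fin 2) :
    gam (gam (mat M)) *ᵥ Pi.single k 1 = fun j => mat M j k * mat M j k := by
  rw [gam_col, gam_col, gam_col]
  have h1 : (-1 : F) = 1 := by linear_combination -h2
  have key : ∀ a b c : Fin 2 ⊕ Fin 2, bs (Pi.single a 1) (Pi.single b 1) = 0 →
      bs (Pi.single a 1) (Pi.single c 1) = 0 → bs (Pi.single b (1 : F)) (Pi.single c 1) = 1 →
      pl (pl (mat M *ᵥ Pi.single a 1) (mat M *ᵥ Pi.single b 1))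
        (pl (mat M *ᵥ Pi.single a 1) (mat M *ᵥ Pi.single c 1)) = fun j => mat M j a * mat M j a := by
    intro a b c hab hac hbc
    rw [pl_pl h2 (by rw [mat_pres, hab]) (by rw [mat_pres, hac]), mat_pres, hbc, one_smul, mulVec_single_one]
    rfl
  rcases k with i | i <;> fin_cases i
  · exact key ee e' f' (by simp [bs4]) (by simp [bs4]) (by simp [bs4, h1])
  · show pl (pl _ _) (pl _ _) = _
    simp only [lineA, lineB, Sum.elim_inl, Sum.elim_inr, Matrix.cons_val_zero, Matrix.cons_val_one,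
      Matrix.cons_val_fin_one, Fin.isValue, Fin.zero_eta, Fin.mk_one]
    rw [pl_comm (mat M *ᵥ Pi.single ee 1)]
    exact key e' ee ff (by simp [bs4]) (by simp [bs4]) (by simp [bs4, h1])
  · show pl (pl _ _) (pl _ _) = _
    simp only [lineA, lineB, Sum.elim_inl, Sum.elim_inr, Matrix.cons_val_zero, Matrix.cons_val_one,
      Matrix.cons_val_fin_one, Fin.isValue, Fin.zero_eta, Fin.mk_one]
    rw [pl_comm (mat M *ᵥ Pi.single e' 1)]
    exact key ff f' e' (by simp [bs4]) (by simp [bs4]) (by simp [bs4, h1])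
  · show pl (pl _ _) (pl _ _) = _
    simp only [lineA, lineB, Sum.elim_inl, Sum.elim_inr, Matrix.cons_val_zero, Matrix.cons_val_one,
      Matrix.cons_val_fin_one, Fin.isValue, Fin.zero_eta, Fin.mk_one]
    rw [pl_comm (mat M *ᵥ Pi.single ee 1), pl_comm (mat M *ᵥ Pi.single ff 1)]
    exact key f' ee ff (by simp [bs4]) (by simp [bs4]) (by simp [bs4, h1])

/-- The exceptional endomorphism. -/
noncomputable def gamHom (h2 : (2 : F) = 0) : Sy 2 F →* Sy 2 F where
  toFun M := ⟨gam (mat M), gam_mem M h2⟩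
  map_one' := mat_inj gam_one
  map_mul' M N := mat_inj (gam_mul M N h2)

theorem gamHom_sq (h2 : (2 : F) = 0) (σ : F ≃+* F) (hσ : ∀ x, σ x = x * x) (M : Sy 2 F) :
    gamHom h2 (gamHom h2 M) = fieldSy σ M := by
  refine mat_inj (Matrix.toLin'.injective ((Pi.basisFun F _).ext fun k => ?_))
  simp only [Pi.basisFun_apply, Matrix.toLin'_apply]
  show gam (gam (mat M)) *ᵥ _ = (mat M).map σ *ᵥ _
  rw [gam_gam M h2, mulVec_single_one]
  funext j
  exact (hσ _).symm

theorem gam_std (h2 : (2 : F) = 0) :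
    gamHom h2 (tv (Pi.single ee 1) 1) = rel (Pi.single ee 1) (Pi.single e' 1) (by simp [bs4]) 0 := by
  refine mat_inj (Matrix.toLin'.injective ((Pi.basisFun F _).ext fun k => ?_))
  simp only [Pi.basisFun_apply, Matrix.toLin'_apply, rel_apply]
  show gam (mat (tv _ _)) *ᵥ _ = _
  rw [gam_col, tv_apply, tv_apply]
  funext j
  rcases k with i | i <;> fin_cases i <;> rcases j with l | l <;> fin_cases l <;>
    simp [pl, vec4, lineA, lineB, rmap, bs4]

variable [Fintype F]

theorem sq_surj (h2 : (2 : F) = 0) (c : F) : ∃ r : F, r * r = c := by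
  have hinj : Function.Injective fun x : F => x * x := fun x y h => by
    have h3 : (x - y) ^ 2 = 0 := by linear_combination h + (y * y - x * y) * h2
    exact sub_eq_zero.1 ((pow_eq_zero_iff two_ne_zero).1 h3)
  exact (Finite.injective_iff_surjective.1 hinj) c

theorem gamHom_bijective (h2 : (2 : F) = 0) : Function.Bijective (gamHom (F := F) h2) := by
  refine Finite.injective_iff_bijective.1 fun M N h => ?_
  haveI : CharP F 2 := CharTwo.of_one_ne_zero_of_two_eq_zero one_ne_zero h2
  have e := congrArg (gamHom h2) h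
  rw [gamHom_sq h2 (frobeniusEquiv F 2) (fun x => by rw [frobeniusEquiv_apply, frobenius_def, pow_two]),
    gamHom_sq h2 (frobeniusEquiv F 2) (fun x => by rw [frobeniusEquiv_apply, frobenius_def, pow_two])] at e
  exact (fieldSy _).injective e

/-- The exceptional automorphism of `PSp₄(2^f)`. -/
noncomputable def graph (h2 : (2 : F) = 0) : MulAut (Cfsg.PSp 2 F) :=
  QuotientGroup.congr _ _ (MulEquiv.ofBijective (gamHom h2) (gamHom_bijective h2))
    (Subgroup.characteristic_iff_map_eq.1 inferInstance _)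

theorem graph_mk (h2 : (2 : F) = 0) (M : Sy 2 F) :
    graph h2 (QuotientGroup.mk M) = QuotientGroup.mk (gamHom h2 M) := rfl

theorem graph_sq (h2 : (2 : F) = 0) (σ : F ≃+* F) (hσ : ∀ x, σ x = x * x) :
    graph h2 * graph h2 = semi 1 σ := by
  refine semi_ext _ _ _ fun s s' hs' => ?_
  rw [MulAut.mul_apply, graph_mk, graph_mk, gamHom_sq h2 σ hσ]
  congr 1
  refine mat_inj ?_
  rw [hs']
  simp [fieldSy, mat]

theorem graph_sq_mem (h2 : (2 : F) = 0) : graph (F := F) h2 * graph h2 ∈ semiSub := by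
  haveI : CharP F 2 := CharTwo.of_one_ne_zero_of_two_eq_zero one_ne_zero h2
  rw [graph_sq h2 (frobeniusEquiv F 2) (fun x => by rw [frobeniusEquiv_apply, frobenius_def, pow_two])]
  exact semi_mem _ _

theorem exists_conj_cls (h2 : (2 : F) = 0) {v : Vec F 2} (hv : v ≠ 0) {c : F} (hc : c ≠ 0) :
    ∃ s : Sy 2 F, cls v c =
      (QuotientGroup.mk s : Cfsg.PSp 2 F) * cls (Pi.single ee 1) 1 * (QuotientGroup.mk s)⁻¹ := by
  obtain ⟨r, rfl⟩ := sq_surj h2 c
  have hr : r ≠ 0 := fun h => hc (by rw [h, mul_zero])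
  obtain ⟨g, -, hg⟩ := move_top _ (sympB_isAlt 2) (sympB_nondeg 2)
    (u := (Pi.single ee 1 : Vec F 2)) (w := r • v) (by simp) (smul_ne_zero hr hv)
  refine ⟨(spEquiv 2).symm g, ?_⟩
  rw [conj_cls, show mat ((spEquiv 2).symm g) *ᵥ Pi.single ee 1 = r • v from
    (spEquiv_symm_mulVec 2 g _).trans hg, cls_smul, mul_one]

/-- An automorphism sending one transvection class to a transvection class keeps all of them. -/
theorem keeps_of_one (h2 : (2 : F) = 0) (α : MulAut (Cfsg.PSp 2 F)) {w : Vec F 2} {c : F} (hw : w ≠ 0)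
    (hc : c ≠ 0) (h : α (cls (Pi.single ee 1) 1) = cls w c) : KeepsTransv α ∧ KeepsTransv α⁻¹ := by
  have hk : KeepsTransv α := by
    intro v hv d hd
    obtain ⟨s, hs⟩ := exists_conj_cls h2 hv hd
    obtain ⟨t, ht⟩ := QuotientGroup.mk_surjective (α (QuotientGroup.mk s))
    refine ⟨mat t *ᵥ w, c, fun e => hw ((mat_mulVec_eq_zero _).1 e), hc, ?_⟩
    rw [hs, map_mul, map_mul, map_inv, h, ← ht, conj_cls]
  refine ⟨hk, ?_⟩
  let K : Set (Cfsg.PSp 2 F) := {x | ∃ (v : Vec F 2) (d : F), v ≠ 0 ∧ d ≠ 0 ∧ x = cls v d}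
  have hmaps : Set.MapsTo α K K := by
    rintro _ ⟨v, d, hv, hd, rfl⟩
    obtain ⟨v', d', h1, h2, h3⟩ := hk v hv d hd
    exact ⟨v', d', h1, h2, h3⟩
  have hsurj : Set.SurjOn α K K :=
    Set.surjOn_iff_exists_bijOn_subset.2 ⟨K, subset_rfl,
      (Set.Finite.injOn_iff_bijOn_of_mapsTo (Set.toFinite K) hmaps).1 α.injective.injOn⟩
  intro v hv d hd
  obtain ⟨_, ⟨u, b, hu, hb, rfl⟩, e⟩ := hsurj ⟨v, d, hv, hd, rfl⟩
  exact ⟨u, b, hu, hb, by rw [← e]; exact α.symm_apply_apply _⟩

theorem mem_or_graph_mem (h2 : (2 : F) = 0) (α : MulAut (Cfsg.PSp 2 F)) :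
    α ∈ semiSub ∨ (graph h2)⁻¹ * α ∈ semiSub := by
  rcases image_cls_type (le_refl 2) α (e := Pi.single ee 1) (by simp) (one_ne_zero (α := F)) with
    ⟨w, c, hw, hc, h⟩ | ⟨-, -, w, d, hd, hw, hnp, h⟩
  · obtain ⟨hk, hk'⟩ := keeps_of_one h2 α hw hc h
    obtain ⟨g, σ, e⟩ := aut_eq_of_keeps (le_refl 2) α hk hk'
    exact Or.inl ⟨g, σ, e⟩
  · right
    -- all elements of this class are images of transvections under the exceptional automorphism
    obtain ⟨s, hs, hs'⟩ := Classical.Forms.exists_equiv_iso 2 _ _ (sympB_isAlt (F := F) 2) (sympB_nondeg 2)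
      (sympB_isAlt 2) (sympB_nondeg 2) rfl ![Pi.single ee 1, Pi.single e' 1] ![w, d]
      (indep_of_not_par (by simp) (fun l e => by simpa using congrFun e e'))
      (indep_of_not_par hw hnp)
      (fun i j => by fin_cases i <;> fin_cases j <;> simp [bs4])
      (fun i j => by fin_cases i <;> fin_cases j <;> simp [b_self, hd, b_zero_symm hd])
    set t : Sy 2 F := (spEquiv 2).symm ⟨s, hs⟩ with ht
    have te : mat t *ᵥ Pi.single ee 1 = w := (spEquiv_symm_mulVec 2 _ _).trans (hs' 0)
    have te' : mat t *ᵥ Pi.single e' 1 = d := (spEquiv_symm_mulVec 2 _ _).trans (hs' 1)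
    obtain ⟨r, hr⟩ := (gamHom_bijective h2).2 t
    have hconj : t * rel (Pi.single ee 1) (Pi.single e' 1) (by simp [bs4]) 0 * t⁻¹ = rel w d hd 0 :=
      sy_ext fun x => by
        have hx : mat t *ᵥ (mat t⁻¹ *ᵥ x) = x := by rw [mulVec_mulVec, mat_mul_inv, one_mulVec]
        have b1 : ∀ u, bs (mat t⁻¹ *ᵥ x) u = bs x (mat t *ᵥ u) := fun u => by rw [← mat_pres t, hx]
        simp only [mat_mul, ← mulVec_mulVec, rel_apply, rmap, mulVec_add, mulVec_smul, hx, b1, te, te']
    rw [← hconj, ← gam_std h2, ← hr, ← map_inv, ← map_mul, ← map_mul, ← graph_mk h2, QuotientGroup.mk_mul,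
      QuotientGroup.mk_mul, QuotientGroup.mk_inv, ← cls_def, conj_cls] at h
    obtain ⟨hk, hk'⟩ := keeps_of_one h2 ((graph h2)⁻¹ * α) (w := mat r *ᵥ Pi.single ee 1) (c := 1)
      (fun e => by simpa using congrFun ((mat_mulVec_eq_zero _).1 e) ee) one_ne_zero
      (by rw [MulAut.mul_apply, h]; exact (graph h2).symm_apply_apply _)
    obtain ⟨g, σ, e⟩ := aut_eq_of_keeps (le_refl 2) _ hk hk'
    exact ⟨g, σ, e⟩

theorem graph_notMem (h2 : (2 : F) = 0) : graph (F := F) h2 ∉ semiSub := by
  rintro ⟨g, σ, e⟩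
  obtain ⟨μ, hμ, hs⟩ := semi_cls g σ
  have h := hs (Pi.single ee 1) 1
  rw [← e, cls_def, graph_mk, gam_std h2, cls_def, QuotientGroup.eq] at h
  have h1 := center_char_two (by omega) h2 h
  rw [inv_mul_eq_one] at h1
  set v := act (g : GL (Fin 2 ⊕ Fin 2) F) σ (Pi.single ee 1)
  have k1 := congrArg (fun s => mat s *ᵥ Pi.single ff 1) h1
  have k2 := congrArg (fun s => mat s *ᵥ Pi.single f' 1) h1
  simp only [rel_apply, tv_apply] at k1 k2
  have a1 := congrFun k1 ee
  have a2 := congrFun k1 e'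
  have b1 := congrFun k2 ee
  have b2 := congrFun k2 e'
  simp [rmap, bs4] at a1 a2 b1 b2
  rcases a1 with h' | h'
  · exact hμ h'
  · rw [h'] at a2; simp at a2

theorem index_semiSub (h2 : (2 : F) = 0) : (semiSub (F := F) (m := 2)).index = 2 := by
  rw [Subgroup.index, Nat.card_eq_two_iff]
  refine ⟨QuotientGroup.mk 1, QuotientGroup.mk (graph h2), fun h => ?_, ?_⟩
  · rw [QuotientGroup.eq, inv_one, one_mul] at h
    exact graph_notMem h2 h
  · refine Set.eq_univ_of_forall fun x => ?_
    obtain ⟨α, rfl⟩ := QuotientGroup.mk_surjective x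
    rcases mem_or_graph_mem h2 α with h | h
    · exact Or.inl (QuotientGroup.eq.2 (by rw [mul_one]; exact inv_mem h))
    · refine Or.inr (QuotientGroup.eq.2 ?_)
      have := inv_mem h
      rwa [_root_.mul_inv_rev, inv_inv] at this

theorem card_aut_exceptional (h2 : (2 : F) = 0) {p f : ℕ} [Fact p.Prime] (hf : 1 ≤ f)
    (hF : Fintype.card F = p ^ f) :
    Nat.card (MulAut (Cfsg.PSp 2 F)) = 2 * (Nat.gcd 2 (p ^ f - 1) * f * Nat.card (Cfsg.PSp 2 F)) := by
  rw [← (semiSub (F := F) (m := 2)).index_mul_card, index_semiSub h2, card_semiSub (le_refl 2) hf hF]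

/-- The outer automorphism group is cyclic, generated by the exceptional automorphism. -/
theorem out_exceptional {f : ℕ} (hf : 1 ≤ f) (hF : Fintype.card F = 2 ^ f) :
    IsCyclic (Cfsg.Out (Cfsg.PSp 2 F)) ∧ Nat.card (Cfsg.Out (Cfsg.PSp 2 F)) = 2 * f := by
  haveI : Fact (Nat.Prime 2) := ⟨Nat.prime_two⟩
  have h2 : (2 : F) = 0 := by
    have h := Nat.cast_card_eq_zero F
    rw [hF, Nat.cast_pow, pow_eq_zero_iff (by omega : f ≠ 0)] at h
    exact_mod_cast h
  haveI : CharP F 2 := CharTwo.of_one_ne_zero_of_two_eq_zero one_ne_zero h2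
  have hcard : Nat.card (Cfsg.Out (Cfsg.PSp 2 F)) = 2 * f := by
    have h1 := Subgroup.card_eq_card_quotient_mul_card_subgroup (Cfsg.Inn (Cfsg.PSp 2 F))
    rw [card_aut_exceptional h2 hf hF,
      show Nat.card (Cfsg.Inn (Cfsg.PSp 2 F)) = Nat.card (Cfsg.PSp 2 F) from
        (Nat.card_congr (MonoidHom.ofInjective (conj_injective (le_refl 2))).toEquiv).symm,
      show Nat.gcd 2 (2 ^ f - 1) = 1 from Nat.coprime_two_left.2 (Nat.Even.sub_odd (Nat.one_le_pow _ _ two_pos)
        ((Nat.even_pow' (by omega)).2 even_two) odd_one), one_mul, ← mul_assoc] at h1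
    exact (Nat.eq_of_mul_eq_mul_right Nat.card_pos h1).symm
  refine ⟨⟨⟨QuotientGroup.mk (graph h2), fun x => ?_⟩⟩, hcard⟩
  set γ : Cfsg.Out (Cfsg.PSp 2 F) := QuotientGroup.mk (graph h2)
  set φ : F ≃+* F := frobeniusEquiv F 2 with hφ
  haveI : Finite (F ≃+* F) := Finite.of_injective (fun e : F ≃+* F => (e : F → F)) DFunLike.coe_injective
  have hφgen : ∀ σ : F ≃+* F, σ ∈ Subgroup.zpowers φ := by
    have hord : orderOf φ = f := by
      refine Nat.le_antisymm ?_ ?_
      · have := Nat.le_of_dvd Nat.card_pos (orderOf_dvd_natCard φ)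
        rwa [card_field_aut hf hF] at this
      · by_contra hlt
        push Not at hlt
        have hk : ∀ (k : ℕ) (x : F), (φ ^ k) x = x ^ 2 ^ k := by
          intro k
          induction k with
          | zero => intro x; simp
          | succ k ih => intro x; rw [pow_succ', RingAut.mul_apply, ih, hφ, frobeniusEquiv_apply, frobenius_def, ← pow_mul, ← pow_succ]
        have hall : ∀ x : F, x ^ 2 ^ orderOf φ = x := fun x => by
          rw [← hk, pow_orderOf_eq_one]; rfl
        obtain ⟨z, hz⟩ := IsCyclic.exists_generator (α := Fˣ)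
        have hz' : z ^ (2 ^ orderOf φ - 1) = 1 := by
          refine mul_left_cancel (a := z) ?_
          rw [← pow_succ', Nat.sub_add_cancel (Nat.one_le_pow _ _ two_pos), mul_one]
          exact Units.ext (by rw [Units.val_pow_eq_pow_val, hall])
        have hd := orderOf_dvd_of_pow_eq_one hz'
        rw [orderOf_eq_card_of_forall_mem_zpowers hz, Nat.card_units, Nat.card_eq_fintype_card, hF] at hd
        have h1 := Nat.le_of_dvd (Nat.sub_pos_of_lt (Nat.one_lt_pow (orderOf_pos φ).ne' one_lt_two)) hd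
        have h3 := Nat.pow_lt_pow_right one_lt_two hlt
        have h4 := Nat.one_le_pow (orderOf φ) 2 two_pos
        omega
    intro σ
    have : Subgroup.zpowers φ = ⊤ := Subgroup.eq_top_of_card_eq _ (by
      rw [Nat.card_zpowers, hord, card_field_aut hf hF])
    rw [this]; trivial
  have hsemi : ∀ (g : Cfsg.GSp 2 F) (σ : F ≃+* F),
      (QuotientGroup.mk (semi g σ) : Cfsg.Out (Cfsg.PSp 2 F)) ∈ Subgroup.zpowers γ := by
    intro g σ
    have hg : semi g 1 ∈ Cfsg.Inn (Cfsg.PSp 2 F) := by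
      have : g ∈ (Cfsg.Inn (Cfsg.PSp 2 F)).comap dgS := by
        rw [comap_inn (le_refl 2), Subgroup.mem_comap]
        obtain ⟨r, hr⟩ := sq_surj h2 (mu (le_refl 2) g : F)
        refine ⟨Units.mk0 r fun h => (mu (le_refl 2) g).ne_zero (by rw [← hr, h, mul_zero]), Units.ext ?_⟩
        simp [pow_two, hr]
      exact this
    have e : semi g σ = semi g 1 * semi 1 σ := by rw [semi_mul, one_mul, fieldGSp_one, mul_one]
    rw [e, QuotientGroup.mk_mul, (QuotientGroup.eq_one_iff _).2 hg, one_mul]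
    obtain ⟨i, rfl⟩ := Subgroup.mem_zpowers_iff.1 (hφgen σ)
    let S : (F ≃+* F) →* MulAut (Cfsg.PSp 2 F) :=
      { toFun := fun τ => semi 1 τ
        map_one' := semi_one
        map_mul' := fun a b => by rw [semi_mul, map_one, mul_one] }
    show ((QuotientGroup.mk' _).comp S) (φ ^ i) ∈ _
    rw [map_zpow]
    refine zpow_mem ?_ i
    show (QuotientGroup.mk (semi 1 φ) : Cfsg.Out (Cfsg.PSp 2 F)) ∈ _
    rw [← graph_sq h2 φ (fun x => by rw [hφ, frobeniusEquiv_apply, frobenius_def, pow_two]), QuotientGroup.mk_mul]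
    exact mul_mem (Subgroup.mem_zpowers _) (Subgroup.mem_zpowers _)
  induction x using QuotientGroup.induction_on with | _ α =>
  rcases mem_or_graph_mem h2 α with ⟨g, σ, rfl⟩ | ⟨g, σ, e⟩
  · exact hsemi g σ
  · rw [show α = graph h2 * semi g σ by rw [← e, mul_inv_cancel_left], QuotientGroup.mk_mul]
    exact mul_mem (Subgroup.mem_zpowers γ) (hsemi g σ)

end Cfsg.Agent.PSpAut
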