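import Cfsg.Agent.Lib.Classical.PSLFieldCent
import Cfsg.Agent.Lib.Classical.SympGraph

/-!
Field automorphisms of prime order of `PSp_{2m}(q)`: coset conjugacy, centralisers, class splitting.
-/

set_option autoImplicit false
set_option linter.style.haveILetI false
set_option linter.unusedSectionVars false

open Matrix

namespace Cfsg.Agent.PSpAut

open Classical.Sp
open PSLField (nrm nrm_succ span_fixed exists_div exists_nrm)

variable {F : Type*} [Field F] {m : ℕ}

local notation "bs" => sympB F m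

local notation "MM" => Matrix (Fin m ⊕ Fin m) (Fin m ⊕ Fin m) F

theorem act_pres (hm : 2 ≤ m) (g : Cfsg.GSp m F) (σ : F ≃+* F) (x y : Vec F m) :
    bs (act (g : GL (Fin m ⊕ Fin m) F) σ x) (act (g : GL (Fin m ⊕ Fin m) F) σ y) =
      (mu hm g : F) * σ (bs x y) := by
  rw [act, act, mu_spec hm, bs_comp]

variable (hm : 2 ≤ m)

include hm

/-- Lang's theorem for the similitude group. -/
theorem exists_lang_S [Finite F] {σ : F ≃+* F} {r : ℕ} (hr : 0 < r) (hord : orderOf σ = r) (g : Cfsg.GSp m F)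
    (hg : ∀ v, (act (g : GL (Fin m ⊕ Fin m) F) σ)^[r] v = v) :
    ∃ B : Cfsg.GSp m F, g * fieldGSp σ B = B := by
  classical
  let T : Vec F m →+ Vec F m :=
    { toFun := act (g : GL (Fin m ⊕ Fin m) F) σ
      map_zero' := act_eq_zero.2 rfl
      map_add' := act_add (g : GL (Fin m ⊕ Fin m) F) σ }
  have hs := span_fixed σ T (fun a v => act_smul (g : GL (Fin m ⊕ Fin m) F) σ a v) hr hord hg
  obtain ⟨x₀, y₀, hx₀, hy₀, hb0⟩ : ∃ x₀ y₀, T x₀ = x₀ ∧ T y₀ = y₀ ∧ bs x₀ y₀ ≠ 0 := by
    by_contra hc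
    push Not at hc
    have hz : ∀ x, T x = x → x = 0 := fun x hx => eq_zero_of_orth fun y => by
      have hy : y ∈ Submodule.span F {v | T v = v} := hs ▸ Submodule.mem_top
      induction hy using Submodule.span_induction with
      | mem y hy => exact hc y x hy hx
      | zero => simp
      | add u w _ _ hu hw => simp [hu, hw]
      | smul c u _ hu => simp [hu]
    have hle : Submodule.span F {v | T v = v} ≤ ⊥ := Submodule.span_le.2 fun v hv => by simp [hz v hv]
    rw [hs] at hle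
    have := (Submodule.mem_bot F).1 (hle (Submodule.mem_top : (Pi.single (Sum.inl ⟨0, by omega⟩) 1 : Vec F m) ∈ ⊤))
    simp at this
  set β := bs x₀ y₀ with hβ
  have hfix : ∀ x y, T x = x → T y = y → σ (bs x y / β) = bs x y / β := by
    intro x y hx hy
    have e : ∀ u w, T u = u → T w = w → (mu hm g : F) * σ (bs u w) = bs u w := fun u w hu hw => by
      rw [← act_pres hm g σ u w]
      exact congrArg₂ (fun a b => bs a b) hu hw
    have h1 := e x y hx hy
    have h2 := e x₀ y₀ hx₀ hy₀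
    have hsβ : σ β ≠ 0 := fun h => hb0 (σ.injective (h.trans (map_zero σ).symm))
    rw [map_div₀, div_eq_div_iff hsβ hb0]
    refine mul_left_cancel₀ (mu hm g).ne_zero ?_
    linear_combination β * h1 - bs x y * h2
  have hTs : ∀ (c : F) v, σ c = c → T v = v → T (c • v) = c • v := fun c v hc hv => by
    show act (g : GL (Fin m ⊕ Fin m) F) σ (c • v) = _
    rw [act_smul, hc]
    exact congrArg _ hv
  have ext : ∀ k, k ≤ m → ∃ E G : Fin k → Vec F m, (∀ i, T (E i) = E i) ∧ (∀ i, T (G i) = G i) ∧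
      (∀ i j, bs (E i) (E j) = 0) ∧ (∀ i j, bs (G i) (G j) = 0) ∧
      ∀ i j, bs (G i) (E j) = if i = j then β else 0 := by
    intro k
    induction k with
    | zero => intro _; exact ⟨Fin.elim0, Fin.elim0, fun i => i.elim0, fun i => i.elim0, fun i => i.elim0,
        fun i => i.elim0, fun i => i.elim0⟩
    | succ k ih =>
      intro hk
      obtain ⟨E, G, hE, hG, hEE, hGG, hGE⟩ := ih (by omega)
      have hEG : ∀ i j, bs (E i) (G j) = if i = j then -β else 0 := fun i j => by
        rw [b_symm, hGE]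
        rcases eq_or_ne i j with rfl | h
        · simp
        · simp [h, h.symm]
      let pj : Vec F m → Vec F m := fun x =>
        x - (∑ i, (bs x (E i) / β) • G i) + ∑ i, (bs x (G i) / β) • E i
      have hpE : ∀ x j, bs (pj x) (E j) = 0 := fun x j => by
        simp [pj, hEE, hGE, div_mul_cancel₀ _ hb0]
      have hpG : ∀ x j, bs (pj x) (G j) = 0 := fun x j => by
        simp [pj, hGG, hEG, div_mul_cancel₀ _ hb0]
      have hpT : ∀ x, T x = x → T (pj x) = pj x := fun x hx => by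
        simp only [pj, map_add, map_sub, map_sum, hx]
        congr 1
        · congr 1
          exact Finset.sum_congr rfl fun i _ => hTs _ _ (hfix x _ hx (hE i)) (hG i)
        · exact Finset.sum_congr rfl fun i _ => hTs _ _ (hfix x _ hx (hG i)) (hE i)
      obtain ⟨v, w, hv, hw, hvw⟩ : ∃ v w, T v = v ∧ T w = w ∧ bs (pj w) (pj v) ≠ 0 := by
        by_contra hc
        push Not at hc
        have hz : ∀ x, T x = x → pj x = 0 := fun x hx => eq_zero_of_orth fun y => by
          have hy : y ∈ Submodule.span F {v | T v = v} := hs ▸ Submodule.mem_top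
          induction hy using Submodule.span_induction with
          | mem y hy =>
            have hdec : y = pj y + ((∑ i, (bs y (E i) / β) • G i) - ∑ i, (bs y (G i) / β) • E i) := by
              simp only [pj]; abel
            rw [hdec]
            simp [hc x y hx hy, b_zero_symm (hpE x _), b_zero_symm (hpG x _)]
          | zero => simp
          | add u w _ _ hu hw => simp [hu, hw]
          | smul c u _ hu => simp [hu]
        have hle : Submodule.span F {v | T v = v} ≤ Submodule.span F (Set.range (Sum.elim E G)) :=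
          Submodule.span_le.2 fun x hx => by
            have e := hz x hx
            have e' : x = (∑ i, (bs x (E i) / β) • G i) - ∑ i, (bs x (G i) / β) • E i := by
              simp only [pj] at e
              linear_combination (norm := module) e
            rw [SetLike.mem_coe, e']
            refine sub_mem (sum_mem fun i _ => ?_) (sum_mem fun i _ => ?_)
            · exact Submodule.smul_mem _ _ (Submodule.subset_span ⟨Sum.inr i, rfl⟩)
            · exact Submodule.smul_mem _ _ (Submodule.subset_span ⟨Sum.inl i, rfl⟩)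
        rw [hs] at hle
        have h1 := Submodule.finrank_mono hle
        rw [finrank_top, finrank_space] at h1
        have h2 := finrank_range_le_card (R := F) (Sum.elim E G)
        rw [Set.finrank] at h2
        rw [Fintype.card_sum, Fintype.card_fin] at h2
        omega
      have hcfix : σ (β / bs (pj w) (pj v)) = β / bs (pj w) (pj v) := by
        have h := congrArg (·⁻¹) (hfix _ _ (hpT w hw) (hpT v hv))
        simp only [← map_inv₀, inv_div] at h
        exact h
      set c := β / bs (pj w) (pj v) with hc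
      refine ⟨Fin.cons (pj v) E, Fin.cons (c • pj w) G, ?_, ?_, ?_, ?_, ?_⟩
      · refine Fin.cases ?_ fun i => ?_
        · rw [Fin.cons_zero]; exact hpT v hv
        · rw [Fin.cons_succ]; exact hE i
      · refine Fin.cases ?_ fun i => ?_
        · rw [Fin.cons_zero]; exact hTs _ _ hcfix (hpT w hw)
        · rw [Fin.cons_succ]; exact hG i
      · refine Fin.cases (Fin.cases ?_ fun j => ?_) fun i => Fin.cases ?_ fun j => ?_
        · simp [b_self]
        · simp [hpE]
        · simp [b_zero_symm (hpE v i)]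
        · simp [hEE]
      · refine Fin.cases (Fin.cases ?_ fun j => ?_) fun i => Fin.cases ?_ fun j => ?_
        · simp [b_self]
        · simp [hpG]
        · simp [b_zero_symm (hpG w i)]
        · simp [hGG]
      · refine Fin.cases (Fin.cases ?_ fun j => ?_) fun i => Fin.cases ?_ fun j => ?_
        · simp [hc, div_mul_cancel₀ _ hvw]
        · simp [hpE, (Fin.succ_ne_zero j).symm]
        · simp [b_zero_symm (hpG v i), Fin.succ_ne_zero i]
        · simp [hGE]
  obtain ⟨E, G, hE, hG, hEE, hGG, hGE⟩ := ext m le_rfl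
  let M : MM := Matrix.of fun a b => Sum.elim E G b a
  have hMe : ∀ k, M *ᵥ Pi.single k 1 = Sum.elim E G k := fun k => by rw [mulVec_single_one]; rfl
  have hsim : ∀ u v, bs (M *ᵥ u) (M *ᵥ v) = β * bs u v := by
    intro u v
    have e : (bs).compl₁₂ (Matrix.toLin' M) (Matrix.toLin' M) = β • bs := by
      refine LinearMap.ext_basis (Pi.basisFun F _) (Pi.basisFun F _) fun k l => ?_
      simp only [LinearMap.compl₁₂_apply, Pi.basisFun_apply, Matrix.toLin'_apply, hMe, LinearMap.smul_apply,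
        smul_eq_mul]
      rcases k with i | i <;> rcases l with j | j
      · simp [hEE, sympB_sum, Pi.single_apply]
      · rcases eq_or_ne i j with rfl | h
        · simp [b_symm (G i) (E i), hGE, sympB_sum, Pi.single_apply]
        · simp [b_zero_symm (u := G j) (v := E i) (by rw [hGE, if_neg h.symm]), sympB_sum, Pi.single_apply, h, h.symm]
      · rcases eq_or_ne i j with rfl | h
        · simp [hGE, sympB_sum, Pi.single_apply]
        · simp [hGE, h, h.symm, sympB_sum, Pi.single_apply]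
      · simp [hGG, sympB_sum, Pi.single_apply]
    have := LinearMap.congr_fun₂ e u v
    simpa using this
  have hinj : Function.Injective M.mulVec := by
    intro u v h
    refine sub_eq_zero.1 (eq_zero_of_orth fun x => ?_)
    have h1 := hsim x (u - v)
    rw [mulVec_sub, h, sub_self, map_zero] at h1
    exact (mul_eq_zero.1 h1.symm).resolve_left hb0
  obtain ⟨U, hU⟩ := Matrix.mulVec_injective_iff_isUnit.1 hinj
  refine ⟨⟨U, Units.mk0 β hb0, fun u v => ?_⟩, Subtype.ext (Units.ext (Matrix.ext fun a b => ?_))⟩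
  · rw [← sympB_apply, ← sympB_apply, hU]
    exact hsim u v
  show (((g : GL (Fin m ⊕ Fin m) F) : MM) * (U : MM).map σ) a b = (U : MM) a b
  rw [hU, mul_apply']
  rcases b with i | i
  · exact congrFun (hE i) a
  · exact congrFun (hG i) a

theorem pow_semi (g : Cfsg.GSp m F) (σ : F ≃+* F) (k : ℕ) :
    ∃ N : Cfsg.GSp m F, semi g σ ^ k = semi N (σ ^ k) ∧
      ∀ v, (act (g : GL (Fin m ⊕ Fin m) F) σ)^[k] v = act (N : GL (Fin m ⊕ Fin m) F) (σ ^ k) v := by
  induction k with
  | zero => exact ⟨1, by rw [pow_zero, pow_zero, semi_one], fun v => by simp [act]⟩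
  | succ k ih =>
    obtain ⟨N, h1, h2⟩ := ih
    refine ⟨g * fieldGSp σ N, by rw [pow_succ', h1, semi_mul, pow_succ'], fun v => ?_⟩
    rw [Function.iterate_succ_apply', h2, act, act, act, Subgroup.coe_mul, Units.val_mul, ← mulVec_mulVec]
    congr 1
    show _ = (((N : GL (Fin m ⊕ Fin m) F) : MM).map σ) *ᵥ ((σ ^ (k + 1) : F ≃+* F) ∘ v)
    rw [← map_mulVec' σ, pow_succ']
    rfl

theorem sigma_pow {g : Cfsg.GSp m F} {σ : F ≃+* F} {k : ℕ} (h : semi g σ ^ k = 1) : σ ^ k = 1 := by
  obtain ⟨N, hN, -⟩ := pow_semi hm g σ k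
  rw [hN] at h
  exact (eq_one_of_semi_eq_one hm h).1

omit hm in
theorem smul_eq_semi {g g' : Cfsg.GSp m F} {σ : F ≃+* F} {a : F} (ha : a ≠ 0)
    (h : ((g' : GL (Fin m ⊕ Fin m) F) : MM) = a • ((g : GL (Fin m ⊕ Fin m) F) : MM)) :
    semi g' σ = semi g σ := by
  refine semi_ext _ _ _ fun s s' hs' => semi_mk g' σ s s' ?_
  have hinv : (((g' : GL (Fin m ⊕ Fin m) F)⁻¹ : GL (Fin m ⊕ Fin m) F) : MM) =
      a⁻¹ • (((g : GL (Fin m ⊕ Fin m) F)⁻¹ : GL (Fin m ⊕ Fin m) F) : MM) := by
    refine left_inv_eq_right_inv (Units.inv_mul _) ?_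
    rw [h, smul_mul_smul_comm, mul_inv_cancel₀ ha, one_smul, Units.mul_inv]
  rw [hs', hinv, h, smul_mul_assoc, smul_mul_assoc, mul_smul_comm, smul_smul, mul_inv_cancel₀ ha, one_smul]

omit hm in
/-- A scalar similitude. -/
theorem exists_scalar {a : F} (ha : a ≠ 0) :
    ∃ s : Cfsg.GSp m F, ((s : GL (Fin m ⊕ Fin m) F) : MM) = a • 1 := by
  refine ⟨⟨GeneralLinearGroup.mkOfDetNeZero (a • (1 : MM)) (by simp [ha]),
    Units.mk0 (a * a) (mul_ne_zero ha ha), fun u v => ?_⟩, rfl⟩
  rw [← sympB_apply, ← sympB_apply]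
  show bs ((a • (1 : MM)) *ᵥ u) ((a • (1 : MM)) *ᵥ v) = a * a * bs u v
  simp [smul_mulVec, mul_assoc]

theorem scalar_ne {g : Cfsg.GSp m F} {c : F} (h : ((g : GL (Fin m ⊕ Fin m) F) : MM) = c • 1) : c ≠ 0 :=
  fun h0 => (mu hm g).ne_zero (by rw [mu_scalar hm h, h0, mul_zero])

/-- A semilinear automorphism of prime order is conjugate to a field automorphism. -/
theorem exists_conj_field [Finite F] {g : Cfsg.GSp m F} {σ : F ≃+* F} {r : ℕ} (hr : r.Prime) (hσ : σ ≠ 1)
    (h : semi g σ ^ r = 1) :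
    ∃ B : Cfsg.GSp m F, semi g σ = dgS B * semi 1 σ * (dgS B)⁻¹ := by
  have hord : orderOf σ = r := (hr.eq_one_or_self_of_dvd _
    (orderOf_dvd_of_pow_eq_one (sigma_pow hm h))).resolve_left fun e => hσ (orderOf_eq_one_iff.1 e)
  obtain ⟨N, hN, hT⟩ := pow_semi hm g σ r
  rw [hN] at h
  obtain ⟨hσr, c, hc⟩ := eq_one_of_semi_eq_one hm h
  have hc0 := scalar_ne hm hc
  have hT' : ∀ v, (act (g : GL (Fin m ⊕ Fin m) F) σ)^[r] v = c • v := fun v => by
    rw [hT, hσr, act, hc, smul_mulVec, one_mulVec]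
    rfl
  obtain ⟨e, he⟩ : ∃ v : Vec F m, v ≠ 0 := ⟨Pi.single (Sum.inl ⟨0, by omega⟩) 1, by simp⟩
  have hfix : σ c = c := by
    have e1 := hT' (act (g : GL (Fin m ⊕ Fin m) F) σ e)
    rw [Function.Commute.iterate_self, hT', act_smul] at e1
    exact smul_left_injective F (fun h0 => he (act_eq_zero.1 h0)) e1
  obtain ⟨a, ha0, hac⟩ := exists_nrm hr.pos hord (inv_ne_zero hc0) (by rw [map_inv₀, hfix])
  obtain ⟨s, hs⟩ := exists_scalar (m := m) ha0
  have hg' : semi (s * g) σ = semi g σ := smul_eq_semi ha0 (by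
    rw [Subgroup.coe_mul, Units.val_mul, hs, smul_mul_assoc, one_mul])
  have hact : ∀ v, act ((s * g : Cfsg.GSp m F) : GL (Fin m ⊕ Fin m) F) σ v =
      a • act (g : GL (Fin m ⊕ Fin m) F) σ v := fun v => by
    rw [act, act, Subgroup.coe_mul, Units.val_mul, hs, smul_mul_assoc, one_mul, smul_mulVec]
  have hit : ∀ k v, (act ((s * g : Cfsg.GSp m F) : GL (Fin m ⊕ Fin m) F) σ)^[k] v =
      nrm σ k a • (act (g : GL (Fin m ⊕ Fin m) F) σ)^[k] v := by
    intro k
    induction k with
    | zero => intro v; simp [nrm]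
    | succ k ih =>
      intro v
      rw [Function.iterate_succ_apply', ih, hact, Function.iterate_succ_apply', act_smul, nrm_succ, smul_smul]
  obtain ⟨B, hB⟩ := exists_lang_S hm hr.pos hord (s * g) fun v => by
    rw [hit, hac, hT', inv_smul_smul₀ hc0]
  refine ⟨B, ?_⟩
  rw [← hg', ← map_inv, dgS_apply, dgS_apply, semi_mul, semi_mul, fieldGSp_one, mul_one, one_mul, mul_one,
    map_inv, eq_mul_inv_of_mul_eq hB]

variable [Fintype F]

/-- The normal form of a field automorphism. -/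
theorem field_form {x : MulAut (Cfsg.PSp m F)} (hx : Cfsg.IsFieldAutClassPSp x) :
    ∃ (g : Cfsg.GSp m F) (σ : F ≃+* F), σ ≠ 1 ∧ x = semi g σ := by
  obtain ⟨α, σ, hσ, hα⟩ := hx
  have hφ : α * x * α⁻¹ = semi 1 σ := semi_ext _ 1 σ fun s s' e => hα s s' (by simpa [mat] using e)
  obtain ⟨s, hs, hx'⟩ : ∃ s ∈ semiSub (F := F) (m := m), x = s⁻¹ * semi 1 σ * s := by
    by_cases h : m = 2 ∧ (2 : F) = 0
    · obtain ⟨rfl, h2⟩ := h
      rcases mem_or_graph_mem h2 α with h | h
      · exact ⟨α, h, by rw [← hφ]; group⟩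
      · refine ⟨(graph h2)⁻¹ * α, h, ?_⟩
        have hcomm : semi 1 σ * graph h2 = graph h2 * semi 1 σ := by
          refine MulEquiv.ext fun z => ?_
          obtain ⟨M, rfl⟩ := QuotientGroup.mk_surjective z
          obtain ⟨M', hM', he⟩ := semi_mk' 1 σ M
          rw [MulAut.mul_apply, MulAut.mul_apply, graph_mk, he, graph_mk]
          refine semi_mk 1 σ _ _ ?_
          show gam (mat M') = _
          rw [show mat M' = (mat M).map σ by rw [hM']; simp]
          show gam ((mat M).map σ) = _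
          refine Matrix.ext fun a b => ?_
          simp only [OneMemClass.coe_one, Units.val_one, inv_one, one_mul, mul_one, Matrix.map_apply]
          show _ = σ (gam (mat M) a b)
          rcases a with i | i <;> fin_cases i <;> simp [gam, pl, vec4, map_add, map_mul]
        calc x = α⁻¹ * semi 1 σ * α := by rw [← hφ]; group
          _ = ((graph h2)⁻¹ * α)⁻¹ * ((graph h2)⁻¹ * (semi 1 σ * graph h2)) * ((graph h2)⁻¹ * α) := by group
          _ = _ := by rw [hcomm]; group
    · obtain ⟨g, τ, rfl⟩ := aut_eq hm h α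
      exact ⟨_, semi_mem g τ, by rw [← hφ]; group⟩
  have hxm : x ∈ semiSub := by rw [hx']; exact mul_mem (mul_mem (inv_mem hs) (semi_mem _ _)) hs
  obtain ⟨g, σ', he⟩ := hxm
  refine ⟨g, σ', fun e => hσ ?_, he⟩
  have hx2 : (⟨x, g, σ', he⟩ : semiSub (F := F) (m := m)) = ⟨s, hs⟩⁻¹ * ⟨semi 1 σ, semi_mem 1 σ⟩ * ⟨s, hs⟩ :=
    Subtype.ext hx'
  have hp := congrArg (part hm) hx2
  rw [part_eq hm (g := g) (σ := σ') he, map_mul, map_mul, map_inv,
    part_eq hm (g := 1) (σ := σ) (β := ⟨semi 1 σ, semi_mem 1 σ⟩) rfl, e] at hp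
  generalize part hm ⟨s, hs⟩ = τ at hp
  have : τ * (τ⁻¹ * σ * τ) * τ⁻¹ = τ * 1 * τ⁻¹ := by rw [← hp]
  simp only [mul_assoc, mul_inv_cancel_left, mul_inv_cancel, mul_one] at this
  exact this

theorem orderOf_field {g : Cfsg.GSp m F} {σ : F ≃+* F} (hσ : σ ≠ 1) {r : ℕ} (hr : r.Prime)
    (hxr : orderOf (semi g σ) = r) : orderOf σ = r := by
  have hp := pow_orderOf_eq_one (semi g σ)
  rw [hxr] at hp
  exact (hr.eq_one_or_self_of_dvd _
    (orderOf_dvd_of_pow_eq_one (sigma_pow hm hp))).resolve_left fun e => hσ (orderOf_eq_one_iff.1 e)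

/-- An element of the inner-diagonal coset has order `r` exactly when it is conjugate to `x`. -/
theorem coset_conj {x δ : MulAut (Cfsg.PSp m F)} (hx : Cfsg.IsFieldAutClassPSp x) {r : ℕ} (hr : r.Prime)
    (hxr : orderOf x = r) (hδ : δ ∈ Cfsg.inndiagPSp m F) :
    orderOf (δ * x) = r ↔ Cfsg.IsConjUnder (Cfsg.inndiagPSp m F) x (δ * x) := by
  refine ⟨fun ho => ?_, ?_⟩
  swap
  · rintro ⟨h, -, e⟩
    rw [e, ← hxr]
    exact orderOf_injective (MulAut.conj h).toMonoidHom (MulAut.conj h).injective x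
  rw [inndiag_eq] at hδ ⊢
  obtain ⟨h, rfl⟩ := hδ
  obtain ⟨g, σ, hσ, rfl⟩ := field_form hm hx
  have hp := pow_orderOf_eq_one (dgS h * semi g σ)
  rw [ho] at hp
  have hp' := pow_orderOf_eq_one (semi g σ)
  rw [hxr] at hp'
  obtain ⟨B, hB⟩ := exists_conj_field hm hr hσ hp'
  rw [dgS_apply, semi_mul, one_mul, fieldGSp_one] at hp
  obtain ⟨B', hB'⟩ := exists_conj_field hm hr hσ hp
  refine ⟨dgS (B' * B⁻¹), ⟨_, rfl⟩, ?_⟩
  rw [dgS_apply h, semi_mul, one_mul, fieldGSp_one, hB', hB, map_mul, map_inv]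
  group

theorem dgS_eq_one_iff {g : Cfsg.GSp m F} :
    dgS g = 1 ↔ ∃ c : F, ((g : GL (Fin m ⊕ Fin m) F) : MM) = c • 1 := by
  refine ⟨fun h => (eq_one_of_semi_eq_one hm h).2, fun ⟨c, hc⟩ => ?_⟩
  rw [dgS_apply, ← semi_one]
  exact smul_eq_semi (scalar_ne hm hc) (by simpa using hc)

/-- Similitudes commuting with a field automorphism. -/
theorem field_cent {σ : F ≃+* F} {r : ℕ} (hr : 0 < r) (hord : orderOf σ = r) {g : Cfsg.GSp m F} :
    g ∈ (Subgroup.centralizer {semi (1 : Cfsg.GSp m F) σ}).comap dgS ↔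
      ∃ (s A : Cfsg.GSp m F) (c : F), ((s : GL (Fin m ⊕ Fin m) F) : MM) = c • 1 ∧
        fieldGSp σ A = A ∧ g = s * A := by
  rw [Subgroup.mem_comap, Subgroup.mem_centralizer_singleton_iff, dgS_apply, semi_mul, semi_mul,
    fieldGSp_one, mul_one, one_mul, one_mul, mul_one]
  constructor
  · intro e
    have hq1 : semi (g⁻¹ * fieldGSp σ g) 1 = 1 := by
      have e' : semi g⁻¹ 1 * semi (fieldGSp σ g) σ = semi g⁻¹ 1 * semi g σ := by rw [e]
      rw [semi_mul, semi_mul, fieldGSp_one, fieldGSp_one, inv_mul_cancel, one_mul] at e'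
      have : semi (g⁻¹ * fieldGSp σ g) 1 * semi 1 σ = 1 * semi 1 σ := by
        rw [semi_mul, map_one, mul_one, one_mul, one_mul, e']
      exact mul_right_cancel this
    obtain ⟨-, c, hc⟩ := eq_one_of_semi_eq_one hm hq1
    have hg : ((g : GL (Fin m ⊕ Fin m) F) : MM).map σ = c • ((g : GL (Fin m ⊕ Fin m) F) : MM) := by
      have h1 : ((g : GL (Fin m ⊕ Fin m) F) : MM) *
          ((((g : GL (Fin m ⊕ Fin m) F)⁻¹ : GL (Fin m ⊕ Fin m) F) : MM) *
            ((g : GL (Fin m ⊕ Fin m) F) : MM).map σ) =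
          ((g : GL (Fin m ⊕ Fin m) F) : MM) * (c • 1) := congrArg _ hc
      rwa [← mul_assoc, Units.mul_inv, one_mul, mul_smul_comm, mul_one] at h1
    have hc' : ∀ a b, σ (((g : GL (Fin m ⊕ Fin m) F) : MM) a b) =
        c * ((g : GL (Fin m ⊕ Fin m) F) : MM) a b := fun a b => congrFun (congrFun hg a) b
    obtain ⟨a, b, hab⟩ : ∃ a b, ((g : GL (Fin m ⊕ Fin m) F) : MM) a b ≠ 0 := by
      by_contra hcon
      push Not at hcon
      haveI : Nonempty (Fin m ⊕ Fin m) := ⟨Sum.inl ⟨0, by omega⟩⟩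
      exact (g : GL (Fin m ⊕ Fin m) F).ne_zero (Matrix.ext hcon)
    have hiter : ∀ k, (σ ^ k) (((g : GL (Fin m ⊕ Fin m) F) : MM) a b) =
        nrm σ k c * ((g : GL (Fin m ⊕ Fin m) F) : MM) a b := by
      intro k
      induction k with
      | zero => simp [nrm]
      | succ k ih =>
        rw [pow_succ', RingAut.mul_apply, ih, map_mul, hc', nrm_succ]
        ring
    have hn1 : nrm σ r c = 1 := by
      have := hiter r
      rw [← hord, pow_orderOf_eq_one, hord, RingAut.one_apply] at this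
      exact mul_right_cancel₀ hab (this.symm.trans (one_mul _).symm)
    obtain ⟨x, hx, hxc⟩ := exists_div hr hord hn1
    obtain ⟨s, hs⟩ := exists_scalar (m := m) (inv_ne_zero hx)
    obtain ⟨t, ht⟩ := exists_scalar (m := m) hx
    refine ⟨s, t * g, x⁻¹, hs, ?_, ?_⟩
    · refine Subtype.ext (Units.ext (Matrix.ext fun a b => ?_))
      show σ ((((t : GL (Fin m ⊕ Fin m) F) : MM) * ((g : GL (Fin m ⊕ Fin m) F) : MM)) a b) =
        (((t : GL (Fin m ⊕ Fin m) F) : MM) * ((g : GL (Fin m ⊕ Fin m) F) : MM)) a b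
      rw [ht, smul_mul_assoc, one_mul, Matrix.smul_apply, smul_eq_mul, map_mul, hc']
      linear_combination ((g : GL (Fin m ⊕ Fin m) F) : MM) a b * hxc
    · refine Subtype.ext (Units.ext ?_)
      rw [Subgroup.coe_mul, Subgroup.coe_mul, Units.val_mul, Units.val_mul, hs, ht, smul_mul_assoc, one_mul,
        smul_mul_assoc, one_mul, inv_smul_smul₀ hx]
  · rintro ⟨s, A, c, hs, hA, rfl⟩
    have hc0 := scalar_ne hm hs
    have h1 : semi (s * A) σ = semi A σ := smul_eq_semi hc0 (by
      rw [Subgroup.coe_mul, Units.val_mul, hs, smul_mul_assoc, one_mul])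
    have h2 : semi (fieldGSp σ (s * A)) σ = semi A σ := by
      refine smul_eq_semi (a := σ c) (by simpa using hc0) ?_
      rw [map_mul, hA, Subgroup.coe_mul, Units.val_mul]
      show ((s : GL (Fin m ⊕ Fin m) F) : MM).map σ * _ = _
      rw [hs]
      rw [show (c • (1 : MM)).map σ = σ c • 1 from Matrix.ext fun a b => by
        by_cases h : a = b <;> simp [h], smul_mul_assoc, one_mul]
    rw [h1, h2]

/-- Field automorphisms of prime order: centraliser and class splitting. -/
theorem field_main {p f : ℕ} [hp : Fact p.Prime] (hF : Fintype.card F = p ^ f) (hf : 1 ≤ f)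
    {x : MulAut (Cfsg.PSp m F)} (hx : Cfsg.IsFieldAutClassPSp x) {r : ℕ} (hr : r.Prime)
    (hxr : orderOf x = r) (F₀ : Type*) [Field F₀] [Fintype F₀] (hF₀ : Fintype.card F₀ = p ^ (f / r)) :
    r ∣ f ∧ Nonempty (↥(Cfsg.inndiagPSp m F ⊓ Subgroup.centralizer {x}) ≃* Cfsg.PGSp m F₀) ∧
    Cfsg.splitClassCount (Cfsg.inndiagPSp m F) (Cfsg.Inn (Cfsg.PSp m F)) x =
      Nat.gcd (Nat.gcd 2 (p ^ f - 1)) r := by
  obtain ⟨g, σ, hσ, rfl⟩ := field_form hm hx
  have hord := orderOf_field hm hσ hr hxr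
  have hp' := pow_orderOf_eq_one (semi g σ)
  rw [hxr] at hp'
  obtain ⟨B, hB⟩ := exists_conj_field hm hr hσ hp'
  obtain ⟨hrf, i, hi⟩ := PSLFieldCent.exists_fixed_emb hF hr.pos hord F₀ hF₀
  have hmi : ∀ u v : Vec F₀ m, bs (i ∘ u) (i ∘ v) = i (sympB F₀ m u v) := by
    intro u v
    simp [sympB_sum, map_sum, map_sub]
  have hmap : ∀ (A : GL (Fin m ⊕ Fin m) F₀) (u : Vec F₀ m),
      ((GeneralLinearGroup.map i A : GL (Fin m ⊕ Fin m) F) : MM) *ᵥ (i ∘ u) =
        i ∘ ((A : Matrix (Fin m ⊕ Fin m) (Fin m ⊕ Fin m) F₀) *ᵥ u) :=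
    fun A u => funext fun k => (RingHom.map_mulVec i _ u k).symm
  have hmem : ∀ A : GL (Fin m ⊕ Fin m) F₀, A ∈ Cfsg.GSp m F₀ ↔
      GeneralLinearGroup.map i A ∈ Cfsg.GSp m F := by
    intro A
    constructor
    · intro hA
      obtain ⟨c, hc⟩ := gsp_spec hA
      refine ⟨Units.map i.toMonoidHom c, fun u v => ?_⟩
      rw [← sympB_apply, ← sympB_apply]
      show bs (((GeneralLinearGroup.map i A : GL (Fin m ⊕ Fin m) F) : MM) *ᵥ u)
        (((GeneralLinearGroup.map i A : GL (Fin m ⊕ Fin m) F) : MM) *ᵥ v) = i c * bs u v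
      have e : (bs).compl₁₂ (Matrix.toLin' (((GeneralLinearGroup.map i A : GL (Fin m ⊕ Fin m) F) : MM)))
          (Matrix.toLin' (((GeneralLinearGroup.map i A : GL (Fin m ⊕ Fin m) F) : MM))) = i c • bs := by
        refine LinearMap.ext_basis (Pi.basisFun F _) (Pi.basisFun F _) fun k l => ?_
        have hsingle : ∀ k : Fin m ⊕ Fin m, (Pi.single k 1 : Vec F m) = i ∘ (Pi.single k 1 : Vec F₀ m) :=
          fun k => funext fun j => by simp [Pi.single_apply, apply_ite i]
        simp only [LinearMap.compl₁₂_apply, Pi.basisFun_apply, Matrix.toLin'_apply, LinearMap.smul_apply,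
          smul_eq_mul, hsingle, hmap, hmi, hc, map_mul]
      simpa using LinearMap.congr_fun₂ e u v
    · intro hA
      obtain ⟨c, hc⟩ := gsp_spec hA
      set w₁ : Vec F₀ m := Pi.single (Sum.inr ⟨0, by omega⟩) 1
      set w₂ : Vec F₀ m := Pi.single (Sum.inl ⟨0, by omega⟩) 1
      have hw : sympB F₀ m w₁ w₂ = 1 := by simp [w₁, w₂, sympB_sum, Pi.single_apply]
      have hci : i (sympB F₀ m ((A : Matrix (Fin m ⊕ Fin m) (Fin m ⊕ Fin m) F₀) *ᵥ w₁)
          ((A : Matrix (Fin m ⊕ Fin m) (Fin m ⊕ Fin m) F₀) *ᵥ w₂)) = (c : F) := by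
        rw [← hmi, ← hmap, ← hmap, hc, hmi, hw, map_one, mul_one]
      refine ⟨Units.mk0 (sympB F₀ m ((A : Matrix (Fin m ⊕ Fin m) (Fin m ⊕ Fin m) F₀) *ᵥ w₁)
          ((A : Matrix (Fin m ⊕ Fin m) (Fin m ⊕ Fin m) F₀) *ᵥ w₂))
        (fun h0 => c.ne_zero (by rw [← hci, h0, map_zero])), fun u v => i.injective ?_⟩
      rw [← sympB_apply, ← sympB_apply, Units.val_mk0, map_mul, hci, ← hmi, ← hmap, ← hmap, hc, hmi]
  let ι : Cfsg.GSp m F₀ →* Cfsg.GSp m F :=
    ((GeneralLinearGroup.map i).comp (Cfsg.GSp m F₀).subtype).codRestrict _ fun A => (hmem A).1 A.2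
  have hιfix : ∀ A, fieldGSp σ (ι A) = ι A := fun A => Subtype.ext (Units.ext (Matrix.ext fun a b =>
    (hi _).1 ⟨_, rfl⟩))
  have hιsur : ∀ A : Cfsg.GSp m F, fieldGSp σ A = A → ∃ A₀, ι A₀ = A := by
    intro A hA
    have hfix : ∀ a b, ∃ y, i y = ((A : GL (Fin m ⊕ Fin m) F) : MM) a b := fun a b => by
      refine (hi _).2 ?_
      exact congrFun (congrFun (congrArg (fun X : Cfsg.GSp m F =>
        ((X : GL (Fin m ⊕ Fin m) F) : MM)) hA) a) b
    choose y hy using hfix
    have hM : (Matrix.of y).map i = ((A : GL (Fin m ⊕ Fin m) F) : MM) := Matrix.ext fun a b => hy a b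
    have hd : (Matrix.of y).det ≠ 0 := fun h => by
      have e := congrArg det hM
      rw [← RingHom.mapMatrix_apply, ← RingHom.map_det, h, map_zero] at e
      exact (GeneralLinearGroup.det (A : GL (Fin m ⊕ Fin m) F)).ne_zero e.symm
    have e : GeneralLinearGroup.map i (GeneralLinearGroup.mkOfDetNeZero _ hd) = (A : GL (Fin m ⊕ Fin m) F) :=
      Units.ext hM
    exact ⟨⟨GeneralLinearGroup.mkOfDetNeZero _ hd, (hmem _).2 (e ▸ A.2)⟩, Subtype.ext e⟩
  rw [hB]
  have hcentB : ∀ A, dgS B * dgS (ι A) * (dgS B)⁻¹ ∈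
      Subgroup.centralizer {dgS B * semi 1 σ * (dgS B)⁻¹} := by
    intro A
    have h := (field_cent hm hr.pos hord).2 ⟨1, ι A, 1, by simp, hιfix A, (one_mul _).symm⟩
    rw [Subgroup.mem_comap, Subgroup.mem_centralizer_singleton_iff] at h
    rw [Subgroup.mem_centralizer_singleton_iff]
    calc _ = dgS B * (dgS (ι A) * semi 1 σ) * (dgS B)⁻¹ := by group
      _ = _ := by rw [h]; group
  have hback : ∀ h : Cfsg.GSp m F, dgS h ∈ Subgroup.centralizer {dgS B * semi 1 σ * (dgS B)⁻¹} →
      ∃ (s : Cfsg.GSp m F) (A₀ : Cfsg.GSp m F₀) (c : F), ((s : GL (Fin m ⊕ Fin m) F) : MM) = c • 1 ∧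
        B⁻¹ * h * B = s * ι A₀ := by
    intro h hw
    have hw' : B⁻¹ * h * B ∈ (Subgroup.centralizer {semi (1 : Cfsg.GSp m F) σ}).comap dgS := by
      rw [Subgroup.mem_comap, Subgroup.mem_centralizer_singleton_iff, map_mul, map_mul, map_inv]
      rw [Subgroup.mem_centralizer_singleton_iff] at hw
      calc _ = (dgS B)⁻¹ * (dgS h * (dgS B * semi 1 σ * (dgS B)⁻¹)) * dgS B := by group
        _ = _ := by rw [hw]; group
    obtain ⟨s, A, c, hs, hA, e⟩ := (field_cent hm hr.pos hord).1 hw'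
    obtain ⟨A₀, rfl⟩ := hιsur A hA
    exact ⟨s, A₀, c, hs, e⟩
  refine ⟨hrf, ?_, ?_⟩
  · rw [inndiag_eq]
    let Φ : Cfsg.GSp m F₀ →* ↥((dgS (F := F) (m := m)).range ⊓
        Subgroup.centralizer {dgS B * semi 1 σ * (dgS B)⁻¹}) :=
      ((MulAut.conj (dgS B)).toMonoidHom.comp (dgS.comp ι)).codRestrict _ fun A =>
        Subgroup.mem_inf.mpr ⟨MonoidHom.mem_range.mpr ⟨B * ι A * B⁻¹, by
          rw [map_mul, map_mul, map_inv]; rfl⟩, hcentB A⟩
    have hsurj : Function.Surjective Φ := by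
      rintro ⟨w, hw⟩
      obtain ⟨⟨h, rfl⟩, hw⟩ := Subgroup.mem_inf.mp hw
      obtain ⟨s, A₀, c, hs, e⟩ := hback h hw
      refine ⟨A₀, Subtype.ext ?_⟩
      show dgS B * dgS (ι A₀) * (dgS B)⁻¹ = dgS h
      have h3 : dgS (B⁻¹ * h * B) = dgS (ι A₀) := by
        rw [e, map_mul, (dgS_eq_one_iff hm).2 ⟨c, hs⟩, one_mul]
      rw [← h3, map_mul, map_mul, map_inv]
      group
    have hker : Φ.ker = (Cfsg.Geo.scalars (Fin m ⊕ Fin m) F₀).subgroupOf (Cfsg.GSp m F₀) := by
      ext A
      rw [MonoidHom.mem_ker, Subgroup.mem_subgroupOf, Cfsg.Geo.mem_scalars_iff]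
      constructor
      · intro hA
        have h1 : dgS B * dgS (ι A) * (dgS B)⁻¹ = 1 := congrArg Subtype.val hA
        rw [mul_inv_eq_one, mul_eq_left, dgS_eq_one_iff hm] at h1
        obtain ⟨c, hc⟩ := h1
        let z : Fin m ⊕ Fin m := Sum.inl ⟨0, by omega⟩
        have hc' : ∀ a b, i (((A : GL (Fin m ⊕ Fin m) F₀) : Matrix (Fin m ⊕ Fin m) (Fin m ⊕ Fin m) F₀) a b) =
            if a = b then c else 0 := by
          intro a b
          have := congrFun (congrFun hc a) b
          simp only [Matrix.smul_apply, one_apply, smul_eq_mul, mul_ite, mul_one, mul_zero] at this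
          exact this
        have hc0 : c ≠ 0 := scalar_ne hm hc
        have hz : ((A : GL (Fin m ⊕ Fin m) F₀) : Matrix (Fin m ⊕ Fin m) (Fin m ⊕ Fin m) F₀) z z ≠ 0 := fun h => by
          have := hc' z z
          rw [h, map_zero, if_pos rfl] at this
          exact hc0 this.symm
        refine ⟨Units.mk0 _ hz, Matrix.ext fun a b => i.injective ?_⟩
        rw [Matrix.smul_apply, one_apply, Units.val_mk0, smul_eq_mul, hc' a b]
        split_ifs with hab
        · rw [mul_one, hc' z z, if_pos rfl]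
        · rw [mul_zero, map_zero]
      · rintro ⟨c, hc⟩
        refine Subtype.ext ?_
        show dgS B * dgS (ι A) * (dgS B)⁻¹ = 1
        suffices h1 : dgS (ι A) = 1 by rw [h1, mul_one, mul_inv_cancel]
        refine (dgS_eq_one_iff hm).2 ⟨i c, ?_⟩
        refine Matrix.ext fun a b => ?_
        show i (((A : GL (Fin m ⊕ Fin m) F₀) : Matrix (Fin m ⊕ Fin m) (Fin m ⊕ Fin m) F₀) a b) = _
        rw [hc]
        by_cases hab : a = b <;> simp [hab]
    exact ⟨((QuotientGroup.quotientMulEquivOfEq hker.symm).trans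
      (QuotientGroup.quotientKerEquivOfSurjective Φ hsurj)).symm⟩
  · rw [inndiag_eq, PSLFieldCent.split_count dgS _ inn_le_range
      (by rw [comap_inn hm]; exact Subgroup.Normal.comap inferInstance _) _, comap_inn hm]
    set P := (powMonoidHom 2 : Fˣ →* Fˣ).range with hP
    set D := mu (F := F) hm
    set Z := (Subgroup.centralizer {dgS B * semi (1 : Cfsg.GSp m F) σ * (dgS B)⁻¹}).comap dgS
    let κ : F₀ˣ →* Fˣ := Units.map i.toMonoidHom
    have hκμ : ∀ A, D (ι A) = κ (mu hm A) := fun A => Units.ext (by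
      show bs _ _ = i (sympB F₀ m _ _)
      rw [← hmi, ← hmap, ← hmap]
      congr 3 <;> funext j <;> simp [Pi.single_apply, apply_ite i])
    have e : P.comap D ⊔ Z = (P ⊔ κ.range).comap D := by
      refine le_antisymm (sup_le (Subgroup.comap_mono le_sup_left) ?_) ?_
      · intro h hh
        rw [Subgroup.mem_comap]
        obtain ⟨s, A₀, c, hs, e⟩ := hback h hh
        have h1 : D h = D s * D (ι A₀) := by
          rw [← map_mul, ← e, map_mul, map_mul, map_inv]
          exact (inv_mul_cancel_comm_assoc _ _).symm.trans (by rw [mul_assoc])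
        rw [h1, hκμ]
        exact mul_mem (Subgroup.mem_sup_left ⟨Units.mk0 c (scalar_ne hm hs),
          Units.ext (by simp [D, mu_scalar hm hs, pow_two])⟩) (Subgroup.mem_sup_right ⟨_, rfl⟩)
      · intro h hh
        rw [Subgroup.mem_comap, Subgroup.mem_sup] at hh
        obtain ⟨a, ha, _, ⟨u, rfl⟩, e⟩ := hh
        obtain ⟨A₀, rfl⟩ := mu_surjective (F := F₀) hm u
        rw [← hκμ] at e
        have hZ : B * ι A₀ * B⁻¹ ∈ Z := by
          rw [Subgroup.mem_comap, map_mul, map_mul, map_inv]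
          exact hcentB A₀
        rw [show h = h * (B * ι A₀ * B⁻¹)⁻¹ * (B * ι A₀ * B⁻¹) by group]
        refine mul_mem (Subgroup.mem_sup_left ?_) (Subgroup.mem_sup_right hZ)
        rw [Subgroup.mem_comap, map_mul, map_inv, map_mul, map_mul, map_inv, ← e,
          show D B * D (ι A₀) * (D B)⁻¹ = D (ι A₀) by rw [mul_comm (D B), mul_inv_cancel_right],
          mul_inv_cancel_right]
        exact ha
    rw [e, Subgroup.index_comap_of_surjective _ (mu_surjective hm), PSLFieldCent.index_sup_cyclic]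
    have hκinj : Function.Injective κ := fun a b hab => Units.ext (i.injective (congrArg Units.val hab))
    have hR : Nat.card κ.range = p ^ (f / r) - 1 := by
      rw [← Nat.card_congr (MonoidHom.ofInjective hκinj).toEquiv, Nat.card_units, Nat.card_eq_fintype_card, hF₀]
    have h5 := κ.range.card_mul_index
    rw [hR, Nat.card_units, Nat.card_eq_fintype_card, hF] at h5
    have h1 := P.card_mul_index
    have h2 := (powMonoidHom 2 : Fˣ →* Fˣ).ker.card_mul_index
    rw [Subgroup.index_ker, IsCyclic.card_powMonoidHom_ker, mul_comm, ← hP] at h2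
    rw [← h2] at h1
    rw [Nat.eq_of_mul_eq_mul_left Nat.card_pos h1, Nat.card_units, Nat.card_eq_fintype_card, hF,
      Nat.gcd_comm (p ^ f - 1) 2]
    obtain ⟨k, rfl⟩ := hrf
    rw [Nat.mul_div_cancel_left _ hr.pos] at h5
    rcases Nat.even_or_odd p with hev | hodd
    · have hfk : Odd (p ^ (r * k) - 1) :=
        Nat.Even.sub_odd (Nat.one_le_pow _ _ hp.out.pos) ((Nat.even_pow' (by omega)).2 hev) odd_one
      rw [Nat.coprime_two_left.2 hfk, Nat.gcd_one_left, Nat.gcd_one_left]
    · have hk : k ≠ 0 := fun h => by subst h; simp at hf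
      have hidx : κ.range.index = ∑ j ∈ Finset.range r, (p ^ k) ^ j := by
        have hpk : 0 < p ^ k - 1 := Nat.sub_pos_of_lt (Nat.one_lt_pow hk hp.out.one_lt)
        refine Nat.eq_of_mul_eq_mul_left hpk (h5.trans ?_)
        rw [mul_comm r k, pow_mul]
        exact ((Nat.mul_comm _ _).trans (geom_sum_mul_of_one_le (Nat.one_le_pow _ _ hp.out.pos) _)).symm
      have hev : Even (p ^ (r * k) - 1) := Nat.Odd.sub_odd (hodd.pow) odd_one
      rw [Nat.gcd_eq_left hev.two_dvd, hidx]
      have hmod : (∑ j ∈ Finset.range r, (p ^ k) ^ j) % 2 = r % 2 := by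
        have hp2 : (p ^ k) % 2 = 1 := Nat.odd_iff.1 hodd.pow
        rw [Finset.sum_nat_mod]
        simp [Nat.pow_mod, hp2]
      rw [Nat.gcd_rec, Nat.gcd_rec 2, hmod]

end Cfsg.Agent.PSpAut
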