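import Cfsg.Agent.Lib.Classical.BalanceCore
import Cfsg.Agent.Lib.Classical.SympField

/-!
Local balance for automorphisms of prime order of `PSp_{2m}(q)` that are not inner-diagonal.
-/

set_option autoImplicit false
set_option linter.style.haveILetI false
set_option linter.unusedSectionVars false

open Matrix
open scoped LinearAlgebra.Projectivization Pointwise

namespace Cfsg.Agent.PSpAut

open Classical.Sp

variable {F : Type*} [Field F] {m : ℕ}

local notation "bs" => sympB F m
local notation "MM" => Matrix (Fin m ⊕ Fin m) (Fin m ⊕ Fin m) F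

section normal

variable {V : Type*} [AddCommGroup V] [Module F V] (B : LinearMap.BilinForm F V) (hA : B.IsAlt) (hB : Nondeg B)
  [FiniteDimensional F V] [Nontrivial V]

include hA hB

/-- Iwasawa: a non-central normal subgroup of the isometry group contains the commutator. -/
theorem commutator_le_normal (N : Subgroup (Grp B)) [N.Normal] (hN : ¬ N ≤ Subgroup.center (Grp B)) :
    commutator (Grp B) ≤ N := by
  haveI := preprimitive_points B hA hB
  let Ts : ℙ F V → Subgroup (Grp B) := fun p => Subgroup.closure (tSet B hA p.submodule)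
  have Ts_eq : ∀ (v : V) (hv : v ≠ 0) (t : Grp B),
      t ∈ tSet B hA (Projectivization.mk F v hv).submodule ↔ ∃ c, t = T B hA v c := by
    intro v hv t
    rw [Projectivization.submodule_mk]
    constructor
    · rintro ⟨w, hw, c, rfl⟩
      obtain ⟨a, rfl⟩ := Submodule.mem_span_singleton.1 hw
      exact ⟨a * a * c, T_smul B hA v a c⟩
    · rintro ⟨c, rfl⟩
      exact ⟨v, Submodule.mem_span_singleton_self v, c, rfl⟩
  let I : MulAction.IwasawaStructure (Grp B) (ℙ F V) :=
    { T := Ts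
      is_comm := fun p => by
        induction p using Projectivization.ind with | _ v hv =>
        refine Subgroup.isMulCommutative_closure ?_
        intro x hx y hy
        obtain ⟨c, rfl⟩ := (Ts_eq v hv x).1 hx
        obtain ⟨d, rfl⟩ := (Ts_eq v hv y).1 hy
        rw [T_add, T_add, add_comm]
      is_conj := fun g p => by
        induction p using Projectivization.ind with | _ v hv =>
        have hsm : g • Projectivization.mk F v hv =
            Projectivization.mk F ((g : V ≃ₗ[F] V) v) (by simpa using hv) := rfl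
        rw [hsm]
        show Subgroup.closure _ = MulAut.conj g • Subgroup.closure _
        rw [Subgroup.smul_closure]
        congr 1
        ext t
        rw [Ts_eq, Set.mem_smul_set]
        constructor
        · rintro ⟨c, rfl⟩
          exact ⟨T B hA v c, (Ts_eq v hv _).2 ⟨c, rfl⟩, conj_T B hA g v c⟩
        · rintro ⟨s, hs, rfl⟩
          obtain ⟨c, rfl⟩ := (Ts_eq v hv s).1 hs
          exact ⟨c, conj_T B hA g v c⟩
      is_generator := by
        rw [← top_le_iff, ← closure_tSet B hA hB, Subgroup.closure_le]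
        rintro _ ⟨v, -, c, rfl⟩
        by_cases hv : v = 0
        · rw [hv, T_zero_vec]; exact one_mem _
        · exact Subgroup.mem_iSup_of_mem (Projectivization.mk F v hv)
            (Subgroup.subset_closure ((Ts_eq v hv _).2 ⟨c, rfl⟩)) }
  refine MulAction.IwasawaStructure.commutator_le I N fun hfix => hN fun g hg => ?_
  rw [mem_center_iff B hA hB]
  have hline : ∀ v : V, v ≠ 0 → ∃ a : F, (g : V ≃ₗ[F] V) v = a • v := fun v hv => by
    have h := (hfix.symm ▸ Set.mem_univ (Projectivization.mk F v hv) :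
      Projectivization.mk F v hv ∈ MulAction.fixedPoints N (ℙ F V)) ⟨g, hg⟩
    change g • Projectivization.mk F v hv = _ at h
    rw [smul_point, Projectivization.mk_eq_mk_iff'] at h
    obtain ⟨a, ha⟩ := h
    exact ⟨a, ha.symm⟩
  obtain ⟨u, hu⟩ := exists_ne (0 : V)
  obtain ⟨a, ha⟩ := hline u hu
  refine ⟨a, fun x => ?_⟩
  by_cases hx : x = 0
  · simp [hx]
  obtain ⟨b, hb⟩ := hline x hx
  by_cases hl : LinearIndependent F ![u, x]
  · have hux : u + x ≠ 0 := fun e => one_ne_zero
      (LinearIndependent.pair_iff.1 hl 1 1 (by simpa using e)).1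
    obtain ⟨c, hc⟩ := hline _ hux
    rw [map_add, ha, hb, smul_add] at hc
    have := LinearIndependent.pair_iff.1 hl (a - c) (b - c) (by
      rw [sub_smul, sub_smul]
      linear_combination (norm := module) hc)
    rw [hb, sub_eq_zero.1 this.1, sub_eq_zero.1 this.2]
  · rw [LinearIndependent.pair_iff' hu] at hl
    push Not at hl
    obtain ⟨s, rfl⟩ := hl
    rw [map_smul, ha, smul_comm]

end normal

section card

variable [Fintype F] {r : ℕ} [hr : Fact r.Prime] [CharP F r] (hm : 2 ≤ m)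

include hm

/-- A prime other than the characteristic dividing the group order divides that of any normal subgroup. -/
theorem dvd_card_normal {p : ℕ} (hp : p.Prime) (hpr : p ≠ r) (N : Subgroup (Cfsg.PSp m F)) [N.Normal]
    (hN : N ≠ ⊥) (hd : p ∣ Nat.card (Cfsg.PSp m F)) : p ∣ Nat.card N := by
  classical
  haveI : Nonempty (Fin m) := ⟨⟨0, by omega⟩⟩
  let q : Grp (sympB F m) →* Cfsg.PSp m F := (QuotientGroup.mk' _).comp (spEquiv m).symm.toMonoidHom
  have hq : Function.Surjective q := (QuotientGroup.mk'_surjective _).comp (spEquiv m).symm.surjective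
  haveI : (N.comap q).Normal := Subgroup.Normal.comap ‹N.Normal› q
  have hnc : ¬ N.comap q ≤ Subgroup.center (Grp (sympB F m)) := by
    intro h
    refine hN ((Subgroup.eq_bot_iff_forall _).2 fun z hz => ?_)
    obtain ⟨g, rfl⟩ := hq z
    refine (QuotientGroup.eq_one_iff _).2 (Subgroup.mem_center_iff.2 fun s => (spEquiv m).injective ?_)
    have := Subgroup.mem_center_iff.1 (h hz) (spEquiv m s)
    rw [map_mul, map_mul]
    show spEquiv m s * spEquiv m ((spEquiv m).symm g) = spEquiv m ((spEquiv m).symm g) * spEquiv m s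
    rw [(spEquiv m).apply_symm_apply]
    exact this
  have hle := commutator_le_normal (sympB F m) (sympB_isAlt m) (sympB_nondeg m) (N.comap q) hnc
  let π : Grp (sympB F m) →* Cfsg.PSp m F ⧸ N := (QuotientGroup.mk' N).comp q
  have hπ : Function.Surjective π := (QuotientGroup.mk'_surjective N).comp hq
  have hcomm : ∀ a b : Cfsg.PSp m F ⧸ N, a * b = b * a := fun a b => by
    obtain ⟨x, rfl⟩ := hπ a
    obtain ⟨y, rfl⟩ := hπ b
    have : q (x * y * x⁻¹ * y⁻¹) ∈ N := hle (Subgroup.commutator_mem_commutator trivial trivial)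
    have h1 : π (x * y * x⁻¹ * y⁻¹) = 1 := (QuotientGroup.eq_one_iff _).2 this
    rw [map_mul, map_mul, map_mul, map_inv, map_inv, mul_inv_eq_one, mul_inv_eq_iff_eq_mul] at h1
    exact h1
  have hP : IsPGroup r (Cfsg.PSp m F ⧸ N) := by
    intro a
    refine ⟨1, ?_⟩
    obtain ⟨g, rfl⟩ := hπ a
    have hg : g ∈ Subgroup.closure (tSet (sympB F m) (sympB_isAlt m) ⊤) := by
      rw [closure_tSet _ (sympB_isAlt m) (sympB_nondeg m)]; exact Subgroup.mem_top g
    induction hg using Subgroup.closure_induction with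
    | mem g hg =>
      obtain ⟨v, -, c, rfl⟩ := hg
      have hk : ∀ k : ℕ, T (sympB F m) (sympB_isAlt m) v c ^ k = T (sympB F m) (sympB_isAlt m) v (k * c) := by
        intro k
        induction k with
        | zero => simp [T_zero]
        | succ k ih => rw [pow_succ, ih, T_add, Nat.cast_succ, add_mul, one_mul]
      rw [pow_one, ← map_pow, hk, CharP.cast_eq_zero, zero_mul, T_zero, map_one]
    | one => simp
    | mul a b _ _ ha hb => rw [map_mul, (Commute.mul_pow (hcomm _ _) _), ha, hb, one_mul]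
    | inv a _ ha => rw [map_inv, inv_pow, ha, inv_one]
  obtain ⟨k, hk⟩ := IsPGroup.iff_card.1 hP
  rw [Subgroup.card_eq_card_quotient_mul_card_subgroup N, hk] at hd
  refine (hp.dvd_mul.1 hd).resolve_left fun h => hpr ?_
  exact (Nat.prime_dvd_prime_iff_eq hp hr.out).1 (hp.dvd_of_dvd_pow h)

theorem two_dvd_card (h2 : (2 : F) ≠ 0) : 2 ∣ Nat.card (Cfsg.PSp m F) := by
  let J : Sy m F := ⟨Matrix.J (Fin m) F, SymplecticGroup.J_mem _ _⟩
  have hne : (QuotientGroup.mk J : Cfsg.PSp m F) ≠ 1 := by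
    rw [Ne, QuotientGroup.eq_one_iff, center_iff]
    rintro ⟨a, ha⟩
    have := congrFun (ha (Pi.single (Sum.inl ⟨0, by omega⟩) 1)) (Sum.inr ⟨0, by omega⟩)
    simp [mat, J, Matrix.J] at this
  have hsq : (QuotientGroup.mk J : Cfsg.PSp m F) ^ 2 = 1 := by
    rw [← QuotientGroup.mk_pow, QuotientGroup.eq_one_iff, center_iff]
    refine ⟨-1, fun x => ?_⟩
    rw [pow_two]
    show (Matrix.J (Fin m) F * Matrix.J (Fin m) F) *ᵥ x = _
    rw [Matrix.J_squared, neg_mulVec, one_mulVec, neg_one_smul]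
  haveI : Fact (Nat.Prime 2) := ⟨Nat.prime_two⟩
  rw [← orderOf_eq_prime hsq hne]
  exact orderOf_dvd_natCard _

end card

section sub

variable {F₀ : Type*} [Field F₀] (i : F₀ →+* F)

theorem subHom_mem (s : Sy m F₀) : (mat s).map i ∈ Matrix.symplecticGroup (Fin m) F := by
  have h := SymplecticGroup.mem_iff.1 s.2
  rw [SymplecticGroup.mem_iff]
  have hJ : (Matrix.J (Fin m) F₀).map i = Matrix.J (Fin m) F := by
    rw [Matrix.J, Matrix.J, Matrix.fromBlocks_map]
    congr 1 <;> simp [Matrix.map_neg, Matrix.map_one]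
  rw [← hJ, ← Matrix.transpose_map, ← Matrix.map_mul, ← Matrix.map_mul]
  exact congrArg (·.map i) h

/-- The symplectic group over a subfield. -/
def subHom : Sy m F₀ →* Sy m F where
  toFun s := ⟨(mat s).map i, subHom_mem i s⟩
  map_one' := mat_inj (Matrix.map_one i (map_zero i) (map_one i))
  map_mul' s t := mat_inj (map_mul i.mapMatrix (mat s) (mat t))

theorem subHom_injective : Function.Injective (subHom (m := m) i) := fun s t e =>
  mat_inj (Matrix.ext fun a b => i.injective (congrFun (congrFun (congrArg mat e) a) b))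

theorem subHom_center (s : Sy m F₀) :
    subHom i s ∈ Subgroup.center (Sy m F) ↔ s ∈ Subgroup.center (Sy m F₀) := by
  refine ⟨fun h => Subgroup.mem_center_iff.2 fun t => subHom_injective i ?_, fun h => ?_⟩
  · rw [map_mul, map_mul]; exact Subgroup.mem_center_iff.1 h _
  · obtain ⟨a, ha⟩ := (center_iff s).1 h
    have e : mat s = a • 1 := mat_ext fun x => by rw [ha, smul_mulVec, one_mulVec]
    refine (center_iff _).2 ⟨i a, fun x => ?_⟩
    show (mat s).map i *ᵥ x = _
    rw [e, Matrix.map_smul' _ _ _ (map_mul i), Matrix.map_one i (map_zero i) (map_one i), smul_mulVec, one_mulVec]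

theorem subHom_comap : Subgroup.center (Sy m F₀) ≤ (Subgroup.center (Sy m F)).comap (subHom i) :=
  fun s hs => (subHom_center i s).2 hs

/-- `PSp` over a subfield. -/
noncomputable def subP : Cfsg.PSp m F₀ →* Cfsg.PSp m F := QuotientGroup.map _ _ (subHom i) (subHom_comap i)

theorem subP_mk (s : Sy m F₀) : subP i (QuotientGroup.mk s) = QuotientGroup.mk (subHom i s) := rfl

theorem subP_injective : Function.Injective (subP (m := m) i) := by
  rw [injective_iff_map_eq_one]
  intro z hz
  obtain ⟨s, rfl⟩ := QuotientGroup.mk_surjective z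
  rw [subP_mk, QuotientGroup.eq_one_iff, subHom_center] at hz
  exact (QuotientGroup.eq_one_iff _).2 hz

theorem single_hom (l : Fin m ⊕ Fin m) : (Pi.single l 1 : Vec F m) = i ∘ (Pi.single l 1 : Vec F₀ m) :=
  funext fun j => by simp [Pi.single_apply, apply_ite i]

theorem subP_cls (v : Vec F₀ m) : subP i (cls v (1 : F₀)) = cls (i ∘ v) (1 : F) := by
  rw [cls_def, cls_def, subP_mk]
  refine congrArg _ (mat_inj ?_)
  refine Matrix.toLin'.injective ((Pi.basisFun F _).ext fun l => ?_)
  rw [Pi.basisFun_apply, Matrix.toLin'_apply, Matrix.toLin'_apply, single_hom i, tv_apply]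
  show (mat (tv v (1 : F₀))).map i *ᵥ (i ∘ _) = _
  rw [show (mat (tv v (1 : F₀))).map i *ᵥ (i ∘ (Pi.single l 1 : Vec F₀ m)) =
    i ∘ (mat (tv v (1 : F₀)) *ᵥ Pi.single l 1) from funext fun j => (RingHom.map_mulVec i _ _ j).symm, tv_apply]
  funext j
  simp [sympB_sum, map_sum, map_sub, map_add, map_mul]

variable [Finite F] (σ : F ≃+* F) (hi : ∀ a, (∃ b, i b = a) ↔ σ a = a) (hm : 2 ≤ m)

include hi hm

theorem subP_fix (z : Cfsg.PSp m F₀) : semi 1 σ (subP i z) = subP i z := by
  obtain ⟨s, rfl⟩ := QuotientGroup.mk_surjective z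
  rw [subP_mk]
  refine semi_mk 1 σ _ _ ?_
  show mat (subHom i s) = ((1 : GL (Fin m ⊕ Fin m) F) : MM) * (mat (subHom i s)).map σ * _
  rw [Units.val_one, one_mul]
  show _ = ((mat s).map i).map σ * ((1 : GL (Fin m ⊕ Fin m) F)⁻¹ : GL (Fin m ⊕ Fin m) F)
  rw [inv_one, Units.val_one, mul_one, Matrix.map_map, show (⇑σ ∘ ⇑i) = ⇑i from funext fun b => (hi _).1 ⟨b, rfl⟩]
  rfl

theorem fixed_sign {s : Sy m F}
    (h : semi 1 σ (QuotientGroup.mk s : Cfsg.PSp m F) = QuotientGroup.mk s) :
    ∃ e : F, e * e = 1 ∧ (mat s).map σ = e • mat s := by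
  obtain ⟨t, ht, he⟩ := semi_mk' 1 σ s
  rw [he, QuotientGroup.eq, center_iff] at h
  obtain ⟨a, ha⟩ := h
  have ha2 := center_sign (by omega) ha
  refine ⟨a, ha2, ?_⟩
  have ht' : mat t = (mat s).map σ := by simpa using ht
  have e : mat s = a • mat t := mat_ext fun x => by
    have := congrArg (mat t *ᵥ ·) (ha x)
    rw [mat_mul, mulVec_mulVec, ← mul_assoc, mat_mul_inv, one_mul, mulVec_smul] at this
    rw [this, smul_mulVec]
  rw [← ht', e, smul_smul, ha2, one_smul]

theorem subP_normal (h : Cfsg.PSp m F) (hh : semi 1 σ h = h) (z : Cfsg.PSp m F₀) :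
    ∃ z', h * subP i z * h⁻¹ = subP i z' := by
  obtain ⟨s, rfl⟩ := QuotientGroup.mk_surjective h
  obtain ⟨a, rfl⟩ := QuotientGroup.mk_surjective z
  obtain ⟨e, he, hs⟩ := fixed_sign i σ hi hm hh
  set t := s * subHom i a * s⁻¹ with ht
  have hfix : (mat t).map σ = mat t := by
    have hmm : ∀ A B : MM, (A * B).map σ = A.map σ * B.map σ := fun A B => map_mul σ.toRingHom.mapMatrix A B
    have hsi : (mat s⁻¹).map σ = e • mat s⁻¹ := by
      have h1 : (mat s).map σ * (mat s⁻¹).map σ = 1 := by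
        rw [← hmm, mat_mul_inv]; exact Matrix.map_one σ (map_zero σ) (map_one σ)
      have h3 := congrArg (fun A => (e • mat s⁻¹) * A) h1
      simp only [hs, mul_one] at h3
      rwa [← mul_assoc, smul_mul_smul_comm, mat_inv_mul, he, one_smul, one_mul] at h3
    have hai : (mat (subHom i a)).map σ = mat (subHom i a) := Matrix.ext fun x y => (hi _).1 ⟨_, rfl⟩
    rw [ht, mat_mul, mat_mul, hmm, hmm, hs, hai, hsi, smul_mul_assoc, smul_mul_smul_comm, he, one_smul]
  have hex : ∀ x y, ∃ b, i b = mat t x y := fun x y => (hi _).2 (congrFun (congrFun hfix x) y)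
  choose b hb using hex
  have hM : (Matrix.of b).map i = mat t := Matrix.ext hb
  have hmem : Matrix.of b ∈ Matrix.symplecticGroup (Fin m) F₀ := by
    rw [SymplecticGroup.mem_iff]
    apply Matrix.map_injective (f := i) i.injective
    have h := SymplecticGroup.mem_iff.1 t.2
    have hJ : (Matrix.J (Fin m) F₀).map i = Matrix.J (Fin m) F := by
      rw [Matrix.J, Matrix.J, Matrix.fromBlocks_map]
      congr 1 <;> simp [Matrix.map_neg, Matrix.map_one]
    show (Matrix.of b * Matrix.J (Fin m) F₀ * (Matrix.of b)ᵀ).map i = _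
    rw [Matrix.map_mul, Matrix.map_mul, Matrix.transpose_map, hM, hJ]
    exact h.trans hJ.symm
  refine ⟨QuotientGroup.mk ⟨Matrix.of b, hmem⟩, ?_⟩
  rw [subP_mk, subP_mk, ← QuotientGroup.mk_inv, ← QuotientGroup.mk_mul, ← QuotientGroup.mk_mul]
  exact congrArg _ (mat_inj hM.symm)

theorem dvd_sub [Fintype F₀] {p : ℕ} (hp : p.Prime) (h2 : p = 2 → (2 : F) ≠ 0)
    (hd : p ∣ Nat.card (Balance.fixK (semi (1 : Cfsg.GSp m F) σ))) : p ∣ Nat.card (Cfsg.PSp m F₀) := by
  rcases hp.eq_two_or_odd' with rfl | hodd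
  · exact two_dvd_card hm fun h => h2 rfl (by rw [← map_ofNat i 2, h, map_zero])
  haveI : Fact p.Prime := ⟨hp⟩
  obtain ⟨⟨h, hh⟩, ho⟩ := exists_prime_orderOf_dvd_card' p hd
  rw [← Subgroup.orderOf_coe] at ho
  change orderOf h = p at ho
  obtain ⟨s, rfl⟩ := QuotientGroup.mk_surjective h
  obtain ⟨e, he, hs⟩ := fixed_sign i σ hi hm hh
  have hfix : (mat (s * s)).map σ = mat (s * s) := by
    show σ.toRingHom.mapMatrix (mat s * mat s) = mat s * mat s
    rw [map_mul]
    show (mat s).map σ * (mat s).map σ = _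
    rw [hs, smul_mul_smul_comm, he, one_smul]
  have hex : ∀ x y, ∃ b, i b = mat (s * s) x y := fun x y => (hi _).2 (congrFun (congrFun hfix x) y)
  choose b hb using hex
  have hM : (Matrix.of b).map i = mat (s * s) := Matrix.ext hb
  have hmem : Matrix.of b ∈ Matrix.symplecticGroup (Fin m) F₀ := by
    rw [SymplecticGroup.mem_iff]
    apply Matrix.map_injective (f := i) i.injective
    have h := SymplecticGroup.mem_iff.1 (s * s).2
    have hJ : (Matrix.J (Fin m) F₀).map i = Matrix.J (Fin m) F := by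
      rw [Matrix.J, Matrix.J, Matrix.fromBlocks_map]
      congr 1 <;> simp [Matrix.map_neg, Matrix.map_one]
    show (Matrix.of b * Matrix.J (Fin m) F₀ * (Matrix.of b)ᵀ).map i = _
    rw [Matrix.map_mul, Matrix.map_mul, Matrix.transpose_map, hM, hJ]
    exact h.trans hJ.symm
  have e2 : subP i (QuotientGroup.mk ⟨Matrix.of b, hmem⟩) = (QuotientGroup.mk s : Cfsg.PSp m F) ^ 2 := by
    rw [subP_mk, pow_two, ← QuotientGroup.mk_mul]; exact congrArg _ (mat_inj hM)
  have h3 : orderOf ((QuotientGroup.mk s : Cfsg.PSp m F) ^ 2) = p := by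
    rw [Nat.Coprime.orderOf_pow (by rw [ho]; exact hodd.coprime_two_right), ho]
  rw [← e2, orderOf_injective _ (subP_injective i)] at h3
  exact h3 ▸ orderOf_dvd_natCard _

theorem fix_scalar {k : Cfsg.GSp m F} {τ : F ≃+* F}
    (hy : ∀ z : Cfsg.PSp m F₀, semi k τ (subP i z) = subP i z) :
    semi k τ = semi 1 τ ∧ ∀ a, σ a = a → τ a = a := by
  obtain ⟨μ, hμ, hs⟩ := semi_cls k τ
  have hline : ∀ v : Vec F₀ m, v ≠ 0 → Par (i ∘ v) (act (k : GL (Fin m ⊕ Fin m) F) τ (i ∘ v)) := by
    intro v hv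
    have hiv : (i ∘ v : Vec F m) ≠ 0 := fun e => hv (funext fun j => i.injective (by
      rw [show i (v j) = (i ∘ v) j from rfl, e, Pi.zero_apply, Pi.zero_apply, map_zero]))
    have e1 := subP_cls i v
    have := hy (cls v (1 : F₀))
    rw [e1, hs] at this
    exact (par_of_tv_eq_mul hm (fun e => hiv (act_eq_zero.1 e)) hiv (div_ne_zero (by simp) hμ) one_ne_zero this).symm
  choose! a ha0 ha using hline
  have hstd : ∀ l, (Pi.single l 1 : Vec F₀ m) ≠ 0 := fun l => by simp
  have hsingle : ∀ l, (i ∘ (Pi.single l 1 : Vec F₀ m) : Vec F m) = Pi.single l 1 := fun l =>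
    funext fun j => by simp [Pi.single_apply, apply_ite i]
  set A := fun l => a (Pi.single l 1)
  have hA' : ∀ l, act (k : GL (Fin m ⊕ Fin m) F) τ (Pi.single l 1) = A l • Pi.single l 1 := fun l => by
    have := ha _ (hstd l)
    rwa [hsingle] at this
  have key : ∀ l n, l ≠ n → ∀ t : F₀, τ (i t) * A n = i t * A l := by
    intro l n hln t
    have hne : (Pi.single l 1 + t • Pi.single n 1 : Vec F₀ m) ≠ 0 := fun e => by
      simpa [hln] using congrFun e l
    have e := ha _ hne
    rw [show (i ∘ (Pi.single l 1 + t • Pi.single n 1 : Vec F₀ m) : Vec F m) =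
      Pi.single l 1 + i t • Pi.single n 1 by
        rw [← hsingle l, ← hsingle n]; funext j; simp, act_add, act_smul, hA', hA'] at e
    have el := congrFun e l
    have en := congrFun e n
    simp [hln, hln.symm] at el en
    rw [← el] at en
    linear_combination en
  have hAA : ∀ l n, A l = A n := fun l n => by
    rcases eq_or_ne l n with rfl | hln
    · rfl
    · simpa using (key l n hln 1).symm
  have hne : (Sum.inl ⟨0, by omega⟩ : Fin m ⊕ Fin m) ≠ Sum.inl ⟨1, by omega⟩ := by simp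
  set A0 := A (Sum.inl ⟨0, by omega⟩)
  have hA0 : A0 ≠ 0 := ha0 _ (hstd _)
  refine ⟨smul_eq_semi hA0 (Matrix.ext fun x y => ?_), fun t ht => ?_⟩
  · have := congrFun (hA' y) x
    rw [act, show (τ ∘ (Pi.single y 1 : Vec F m)) = Pi.single y 1 from
      funext fun j => by simp [Pi.single_apply, apply_ite τ], mulVec_single_one] at this
    rw [show ((k : GL (Fin m ⊕ Fin m) F) : MM) x y = _ from this, hAA y (Sum.inl ⟨0, by omega⟩)]
    simp [A0, Pi.single_apply, Matrix.one_apply]
  · obtain ⟨b, rfl⟩ := (hi t).2 ht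
    have := key _ _ hne b
    rw [hAA (Sum.inl ⟨1, by omega⟩) (Sum.inl ⟨0, by omega⟩)] at this
    exact mul_right_cancel₀ hA0 this

end sub

variable [Fintype F] (hm : 2 ≤ m)

include hm

theorem semi_hom_zpow (σ : F ≃+* F) (n : ℤ) :
    semi (1 : Cfsg.GSp m F) (σ ^ n) = semi (1 : Cfsg.GSp m F) σ ^ n := by
  let φ : (F ≃+* F) →* MulAut (Cfsg.PSp m F) :=
    { toFun := fun τ => semi 1 τ
      map_one' := semi_one
      map_mul' := fun a b => by rw [semi_mul, map_one, mul_one] }
  exact map_zpow φ σ n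

theorem mem_semiSub_of_odd {x : MulAut (Cfsg.PSp m F)} {p : ℕ} (hp : p.Prime) (hord : orderOf x = p)
    (h2 : p = 2 → (2 : F) ≠ 0) : x ∈ semiSub := by
  by_cases h : m = 2 ∧ (2 : F) = 0
  · obtain ⟨rfl, h20⟩ := h
    have hodd : Odd p := hp.eq_two_or_odd'.resolve_left fun e => h2 e h20
    have hsq : x * x ∈ semiSub := Subgroup.mul_self_mem_of_index_two (index_semiSub h20) x
    obtain ⟨k, rfl⟩ := hodd
    have e : x = (x * x) ^ (k + 1) := by
      rw [← pow_two, ← pow_mul, show 2 * (k + 1) = (2 * k + 1) + 1 by ring, pow_succ, ← hord, pow_orderOf_eq_one,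
        one_mul]
    rw [e]
    exact pow_mem hsq _
  · obtain ⟨g, σ, rfl⟩ := aut_eq hm h x
    exact semi_mem g σ

/-- The criterion. -/
theorem balance_psp {r : ℕ} [Fact r.Prime] [CharP F r] (A : Subgroup (MulAut (Cfsg.PSp m F)))
    (hinn : ∀ k : Cfsg.PSp m F, MulAut.conj k ∈ A) {p : ℕ} [hp : Fact p.Prime] (hpr : p ≠ r)
    (x : MulAut (Cfsg.PSp m F)) (hord : orderOf x = p) (hnot : ¬ Cfsg.IsInnerDiagonalAutPSp x) :
    Cfsg.pPrimeCore p ↥(A ⊓ Subgroup.centralizer {x}) ≠ ⊥ ↔ (Cfsg.IsFieldAutClassPSp x ∧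
      Nat.Coprime p (Nat.card ↥(MonoidHom.eqLocus x.toMonoidHom (MonoidHom.id (Cfsg.PSp m F))))) := by
  classical
  have h2 : p = 2 → (2 : F) ≠ 0 := fun e h => hpr (by
    rw [e]
    exact ((CharP.ringChar_of_prime_eq_zero Nat.prime_two (by exact_mod_cast h : ((2 : ℕ) : F) = 0)).symm).trans (ringChar.eq F r))
  obtain ⟨g, σ, rfl⟩ := mem_semiSub_of_odd hm hp.out hord h2
  have hσ : σ ≠ 1 := fun e => hnot ⟨g, g.2, fun s s' hs' => semi_mk g σ s s' (by rw [e]; exact hs')⟩
  have hpow := pow_orderOf_eq_one (semi g σ)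
  rw [hord] at hpow
  obtain ⟨B, hB⟩ := exists_conj_field hm hp.out hσ hpow
  rw [hB] at hord ⊢
  set φ := semi (1 : Cfsg.GSp m F) σ with hφ
  set D := dgS B with hD
  have hfield : Cfsg.IsFieldAutClassPSp (D * φ * D⁻¹) := by
    refine ⟨D⁻¹, σ, hσ, fun s s' hs' => ?_⟩
    rw [show D⁻¹ * (D * φ * D⁻¹) * D⁻¹⁻¹ = φ by group]
    refine semi_mk 1 σ s s' ?_
    rw [show mat s' = (mat s).map σ from hs']
    simp
  obtain ⟨E, hE, -⟩ := PSLFieldCent.exists_fixed σ
  letI : Fintype E := Fintype.ofFinite E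
  have hi : ∀ a, (∃ b : E, E.subtype b = a) ↔ σ a = a := fun t =>
    ⟨fun ⟨b, hb⟩ => hb ▸ (hE _).1 b.2, fun ht => ⟨⟨t, (hE t).2 ht⟩, rfl⟩⟩
  haveI : CharP E r := (RingHom.charP_iff_charP E.subtype r).2 ‹_›
  haveI : Nontrivial (Cfsg.PSp m E) := by
    refine nontrivial_of_ne (cls (Pi.single (Sum.inl ⟨0, by omega⟩) 1) 1) 1 fun h => ?_
    have hne : (Pi.single (Sum.inl ⟨0, by omega⟩) 1 : Vec E m) ≠ 0 := by simp
    obtain ⟨v, hv⟩ := exists_dual' hne
    rw [cls_def, QuotientGroup.eq_one_iff, center_iff] at h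
    obtain ⟨a, ha⟩ := h
    have h1 := ha v
    have h2 := ha (Pi.single (Sum.inl ⟨0, by omega⟩) 1)
    rw [tv_apply, hv, one_mul, one_smul] at h1
    rw [tv_apply, b_self, mul_zero, zero_smul, add_zero] at h2
    have ha1 : a = 1 := smul_left_injective E hne (h2.symm.trans (one_smul _ _).symm)
    rw [ha1, one_smul, add_eq_left] at h1
    exact hne h1
  let f : Cfsg.PSp m E →* Cfsg.PSp m F := D.toMonoidHom.comp (subP E.subtype)
  have hxD : ∀ z, (D * φ * D⁻¹) (D z) = D (φ z) := fun z => by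
    simp [MulAut.mul_apply]
  have hcard : Nat.card (Balance.fixK (D * φ * D⁻¹)) = Nat.card (Balance.fixK φ) := by
    refine (Nat.card_congr (D.toEquiv.subtypeEquiv fun z => ?_)).symm
    show φ z = z ↔ (D * φ * D⁻¹) (D z) = D z
    rw [hxD, D.injective.eq_iff]
  have hxinn : ∀ k, MulAut.conj k ≠ D * φ * D⁻¹ := by
    intro k e
    obtain ⟨c, hc⟩ : MulAut.conj k ∈ (dgS (F := F) (m := m)).range := inn_le_range ⟨k, rfl⟩
    rw [e] at hc
    have : semi (B⁻¹ * c * B) 1 = semi (1 : Cfsg.GSp m F) σ := by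
      rw [← dgS_apply, map_mul, map_mul, map_inv, hc, ← hD, ← hφ]; group
    exact hσ (rep_unique hm this).symm
  have key := Balance.core_iff_gen A (D * φ * D⁻¹) hinn hp.out hord (conj_injective hm) hxinn f
    (D.injective.comp (subP_injective _))
    (fun z => by show (D * φ * D⁻¹) (D _) = D _; rw [hxD, subP_fix E.subtype σ hi hm])
    (fun h hh z => by
      obtain ⟨z', hz'⟩ := subP_normal E.subtype σ hi hm (D.symm h) (D.injective (by
        rw [← hxD, D.apply_symm_apply]; exact hh)) z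
      refine ⟨z', ?_⟩
      show h * D _ * h⁻¹ = D _
      rw [← hz', map_mul, map_mul, map_inv, D.apply_symm_apply])
    (fun hd => dvd_sub E.subtype σ hi hm hp.out h2 (hcard ▸ hd))
    (fun N hN hne hd => by haveI := hN; exact dvd_card_normal hm hp.out hpr N hne hd)
    (fun y _ hy => by
      have hy' : ∀ z, (D⁻¹ * y * D) (subP E.subtype z) = subP E.subtype z := fun z => by
        show D.symm (y (D _)) = _
        rw [show y (D (subP E.subtype z)) = D (subP E.subtype z) from hy z, D.symm_apply_apply]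
      obtain ⟨k, τ, hk⟩ : D⁻¹ * y * D ∈ semiSub := by
        by_cases h : m = 2 ∧ (2 : F) = 0
        · obtain ⟨rfl, h20⟩ := h
          have hfe : (D⁻¹ * y * D) (cls (Pi.single (Sum.inl 0 : Fin 2 ⊕ Fin 2) 1) 1) = cls (Pi.single (Sum.inl 0 : Fin 2 ⊕ Fin 2) 1) 1 := by
            have e1 := subP_cls (m := 2) E.subtype (Pi.single (Sum.inl 0 : Fin 2 ⊕ Fin 2) 1 : Vec E 2)
            rw [← single_hom] at e1
            rw [← e1]; exact hy' _
          obtain ⟨h1, h3⟩ := keeps_of_one h20 (D⁻¹ * y * D) (by simp) one_ne_zero hfe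
          obtain ⟨k, τ, e⟩ := aut_eq_of_keeps hm _ h1 h3
          exact ⟨k, τ, e⟩
        · obtain ⟨k, τ, e⟩ := aut_eq hm h (D⁻¹ * y * D)
          exact ⟨k, τ, e⟩
      obtain ⟨e1, e2⟩ := fix_scalar E.subtype σ hi hm (k := k) (τ := τ) fun z => hk ▸ hy' z
      obtain ⟨n, rfl⟩ := Subgroup.mem_zpowers_iff.1 (Balance.mem_zpowers_of_fix σ τ e2)
      refine Subgroup.mem_zpowers_iff.2 ⟨n, ?_⟩
      rw [conj_zpow, hφ, ← semi_hom_zpow hm, ← e1, ← hk]
      group)
  rw [and_iff_right hfield]
  exact key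

end Cfsg.Agent.PSpAut
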