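import Cfsg.Agent.Lib.Classical.WittDecomp
import Cfsg.Agent.Lib.Classical.CharTwoForms
import Cfsg.Agent.Lib.Classical.QuadZeros

/-!
Quadratic forms in characteristic two with the standard alternating form as polar form: the two types, and their numbers.
-/

set_option autoImplicit false
set_option linter.style.haveILetI false

open Module QuadraticMap

namespace Cfsg.Agent.Classical.SympForms

variable {F : Type*} [Field F] {d : ℕ}

/-- The base form. -/
abbrev Q0 : QuadraticForm F (Fin d ⊕ Fin d → F) := PlusMax.QP (F := F) (m := d)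

/-- Plus type. -/
def Plus (Q : QuadraticForm F (Fin d ⊕ Fin d → F)) : Prop :=
  ∃ W : Submodule F (Fin d ⊕ Fin d → F), finrank F W = d ∧ ∀ w ∈ W, Q w = 0

/-- Adding the square of the linear form attached to `a`. -/
def shift (Q : QuadraticForm F (Fin d ⊕ Fin d → F)) (a : Fin d ⊕ Fin d → F) :
    QuadraticForm F (Fin d ⊕ Fin d → F) :=
  Q + linMulLin (polarBilin (Q0 (F := F) (d := d)) a) (polarBilin (Q0 (F := F) (d := d)) a)

theorem shift_apply (Q : QuadraticForm F (Fin d ⊕ Fin d → F)) (a v : Fin d ⊕ Fin d → F) :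
    shift Q a v = Q v + polar Q0 a v ^ 2 := by
  rw [pow_two]; rfl

theorem plus_Q0 : Plus (Q0 (F := F) (d := d)) :=
  (WittDec.QP_decomp d).exists_singular_subspace

theorem plus_congr {Q Q' : QuadraticForm F (Fin d ⊕ Fin d → F)}
    (e : (Fin d ⊕ Fin d → F) ≃ₗ[F] (Fin d ⊕ Fin d → F)) (he : ∀ v, Q' (e v) = Q v) (h : Plus Q) : Plus Q' := by
  obtain ⟨W, hW, hW'⟩ := h
  exact ⟨W.map e.toLinearMap, by rw [LinearEquiv.finrank_map_eq, hW], by
    rintro _ ⟨w, hw, rfl⟩; exact (he w).trans (hW' w hw)⟩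

/-- Forms with the standard polar. -/
def IsSF (Q : QuadraticForm F (Fin d ⊕ Fin d → F)) : Prop := ∀ u v, polar Q u v = polar Q0 u v

theorem isSF_nondeg {Q : QuadraticForm F (Fin d ⊕ Fin d → F)} (h : IsSF Q) : (polarBilin Q).Nondegenerate := by
  rw [show polarBilin Q = polarBilin Q0 from LinearMap.ext₂ fun u v => h u v]
  exact PlusMax.nondeg

theorem finrank_V : finrank F (Fin d ⊕ Fin d → F) = 2 * d := PlusMax.finrank_V

variable [CharP F 2]

theorem isSF_shift {Q : QuadraticForm F (Fin d ⊕ Fin d → F)} (h : IsSF Q) (a : Fin d ⊕ Fin d → F) :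
    IsSF (shift Q a) := fun u v => by
  rw [← h u v, polar, polar, shift_apply, shift_apply, shift_apply, polar_add_right]
  linear_combination (polar Q0 a u * polar Q0 a v) * CharTwo.two_zero (F := F)

variable [Fintype F]

theorem exists_shift {Q Q' : QuadraticForm F (Fin d ⊕ Fin d → F)} (h : IsSF Q) (h' : IsSF Q') :
    ∃ a, ∀ v, Q' v = shift Q a v := by
  obtain ⟨l, hl⟩ := CharTwo.exists_sqrt_linear (fun v => Q' v - Q v)
    (fun u v => by
      have e := (h' u v).trans (h u v).symm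
      simp only [polar] at e
      linear_combination e)
    (fun c v => by simp only [QuadraticMap.map_smul, smul_eq_mul]; ring)
  refine ⟨(LinearMap.BilinForm.toDual (polarBilin Q0) PlusMax.nondeg).symm l, fun v => ?_⟩
  rw [shift_apply, ← polarBilin_apply_apply, LinearMap.BilinForm.apply_toDual_symm_apply, hl]
  ring

theorem shift_inj {Q : QuadraticForm F (Fin d ⊕ Fin d → F)} {a b : Fin d ⊕ Fin d → F}
    (h : ∀ v, shift Q a v = shift Q b v) : a = b := by
  refine sub_eq_zero.1 ((PlusMax.nondeg (F := F) (m := d)).1 _ fun v => ?_)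
  show polar Q0 (a - b) v = 0
  have e := h v
  rw [shift_apply, shift_apply, add_right_inj] at e
  rw [polar_sub_left, CharTwo.sq_inj e, sub_self]

theorem exists_iso {Q Q' : QuadraticForm F (Fin d ⊕ Fin d → F)} (h : IsSF Q) (h' : IsSF Q')
    (ht : Plus Q ↔ Plus Q') :
    ∃ e : (Fin d ⊕ Fin d → F) ≃ₗ[F] (Fin d ⊕ Fin d → F), ∀ v, Q' (e v) = Q v := by
  by_cases hp : Plus Q
  · obtain ⟨φ, hφ⟩ := WittDec.exists_equiv_plus Q (isSF_nondeg h) finrank_V hp
    obtain ⟨ψ, hψ⟩ := WittDec.exists_equiv_plus Q' (isSF_nondeg h') finrank_V (ht.1 hp)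
    exact ⟨φ.symm.trans ψ, fun v => by rw [LinearEquiv.trans_apply, hψ, ← hφ, LinearEquiv.apply_symm_apply]⟩
  · obtain ⟨-, ζ, hζ⟩ := WittDec.minus_irreducible Q (isSF_nondeg h) finrank_V hp
    have hab : ∀ z₁ z₂ : F, z₁ ^ 2 + 1 * z₁ * z₂ + ζ * z₂ ^ 2 = 0 → z₁ = 0 ∧ z₂ = 0 := fun z₁ z₂ e => by
      by_cases hz : z₂ = 0
      · subst hz; exact ⟨by simpa using e, rfl⟩
      · refine absurd ?_ (hζ (z₁ / z₂))
        field_simp
        linear_combination e
    obtain ⟨φ, hφ⟩ := WittDec.exists_equiv_minus Q (isSF_nondeg h) finrank_V hp 1 ζ hab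
    obtain ⟨ψ, hψ⟩ := WittDec.exists_equiv_minus Q' (isSF_nondeg h') finrank_V (fun e => hp (ht.2 e)) 1 ζ hab
    exact ⟨φ.symm.trans ψ, fun v => by rw [LinearEquiv.trans_apply, hψ, ← hφ, LinearEquiv.apply_symm_apply]⟩

omit [CharP F 2] in
theorem exists_adapted {V : Type*} [AddCommGroup V] [Module F V] [FiniteDimensional F V] (Q : QuadraticForm F V)
    (hQ : (polarBilin Q).Nondegenerate) {a b : V} (ha : a ≠ 0) (hb : b ≠ 0) (hab : Q a = Q b) :
    ∃ g : V ≃ₗ[F] V, (∀ v, Q (g v) = Q v) ∧ g a = b := by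
  obtain ⟨g, hg, hgx⟩ := WittExt.extend Q hQ 1 (F ∙ a)
    ((LinearMap.toSpanSingleton F V b) ∘ₗ (LinearEquiv.toSpanNonzeroSingleton F V a ha).symm.toLinearMap)
    (finrank_span_singleton ha)
    (fun x y e => (LinearEquiv.toSpanNonzeroSingleton F V a ha).symm.injective (smul_left_injective F hb e))
    (fun x => by
      obtain ⟨c, rfl⟩ := (LinearEquiv.toSpanNonzeroSingleton F V a ha).surjective x
      show Q ((LinearEquiv.toSpanNonzeroSingleton F V a ha).symm (LinearEquiv.toSpanNonzeroSingleton F V a ha c) • b) = Q (c • a)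
      rw [LinearEquiv.symm_apply_apply, QuadraticMap.map_smul, QuadraticMap.map_smul, hab])
  refine ⟨g, hg, ?_⟩
  have := hgx ⟨a, Submodule.mem_span_singleton_self a⟩
  rw [this]
  show (LinearEquiv.toSpanNonzeroSingleton F V a ha).symm ⟨a, _⟩ • b = b
  rw [show (⟨a, Submodule.mem_span_singleton_self a⟩ : F ∙ a) = LinearEquiv.toSpanNonzeroSingleton F V a ha 1 by
    simp [LinearEquiv.toSpanNonzeroSingleton_apply], LinearEquiv.symm_apply_apply, one_smul]

/-- Irreducibility transfers to the square. -/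
theorem irred_sq {κ : F} (hκ : ∀ t : F, t ^ 2 + t ≠ κ) (t : F) : t ^ 2 + t + κ ^ 2 ≠ 0 := fun e => by
  obtain ⟨s, hs⟩ := FiniteField.isSquare_of_char_two (ringChar.eq F 2) t
  refine hκ s (CharTwo.sq_inj ?_)
  rw [hs] at e
  linear_combination e + (s ^ 3 - κ ^ 2) * CharTwo.two_zero (F := F)

theorem plane_hab {κ : F} (hκ : ∀ t : F, t ^ 2 + t + κ ≠ 0) (z₁ z₂ : F)
    (e : z₁ ^ 2 + 1 * z₁ * z₂ + κ * z₂ ^ 2 = 0) : z₁ = 0 ∧ z₂ = 0 := by
  by_cases hz : z₂ = 0
  · subst hz; exact ⟨by simpa using e, rfl⟩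
  · refine absurd ?_ (hκ (z₁ / z₂))
    field_simp
    linear_combination e

theorem not_plus_shift {Q : QuadraticForm F (Fin d ⊕ Fin d → F)} (h : IsSF Q) (hp : Plus Q)
    (a : Fin d ⊕ Fin d → F) (hκ : ∀ t : F, t ^ 2 + t ≠ Q a) : ¬ Plus (shift Q a) := by
  classical
  have ha : a ≠ 0 := fun e => hκ 0 (by rw [e, QuadraticMap.map_zero]; simp)
  obtain ⟨e, rfl⟩ : ∃ e, d = e + 1 := ⟨d - 1, by
    rcases Nat.eq_zero_or_pos d with rfl | hd
    · exact absurd (funext fun i => i.elim (fun j => j.elim0) fun j => j.elim0) ha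
    · omega⟩
  set κ := Q a with hκd
  let a' : Fin (e + 1) ⊕ Fin (e + 1) → F := Sum.elim (Fin.cons κ 0) (Fin.cons 1 0)
  obtain ⟨φ, hφ⟩ := WittDec.exists_equiv_plus Q (isSF_nondeg h) finrank_V hp
  have hφ' : ∀ v, Q (φ v) = Q0 v := fun v => by rw [hφ, PlusMax.QP_apply]
  have hQa' : Q0 a' = κ := by
    rw [PlusMax.QP_apply]; simp [a', Cfsg.quadFormPlus, Fin.sum_univ_succ]
  have ha'0 : a' ≠ 0 := fun e0 => one_ne_zero (α := F) (by simpa [a'] using congrFun e0 (Sum.inr 0))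
  obtain ⟨g, hg, hga⟩ := exists_adapted Q0 PlusMax.nondeg ha'0 (fun e0 => ha (φ.symm.map_eq_zero_iff.1 e0))
    (by rw [hQa', ← hφ', LinearEquiv.apply_symm_apply])
  let ψ := g.trans φ
  have hψ : ∀ v, Q (ψ v) = Q0 v := fun v => by rw [LinearEquiv.trans_apply, hφ', hg]
  have hψa : ψ a' = a := by rw [LinearEquiv.trans_apply, hga, LinearEquiv.apply_symm_apply]
  have hS : ∀ v, shift Q a (ψ v) = Q0 v + polar Q0 a' v ^ 2 := fun v => by
    rw [shift_apply, hψ, ← h a (ψ v), ← hψa]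
    congr 2
    simp only [polar, ← map_add ψ, hψ]
  let L : ((Fin e ⊕ Fin e → F) × (Fin 2 → F)) ≃ₗ[F] (Fin (e + 1) ⊕ Fin (e + 1) → F) :=
    { toFun := fun p => Sum.elim (Fin.cons (p.2 0) fun i => p.1 (.inl i)) (Fin.cons (p.2 1) fun i => p.1 (.inr i))
      map_add' := fun p p' => funext fun s => by rcases s with i | i <;> refine Fin.cases ?_ (fun j => ?_) i <;> simp
      map_smul' := fun c p => funext fun s => by rcases s with i | i <;> refine Fin.cases ?_ (fun j => ?_) i <;> simp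
      invFun := fun v => (Sum.elim (fun i => v (.inl i.succ)) fun i => v (.inr i.succ), ![v (.inl 0), v (.inr 0)])
      left_inv := fun p => Prod.ext (funext fun s => by rcases s with i | i <;> simp) (funext fun i => by fin_cases i <;> simp)
      right_inv := fun v => funext fun s => by rcases s with i | i <;> refine Fin.cases ?_ (fun j => ?_) i <;> simp }
  have hdec : WittDec.Decomp (shift Q a) e 2 (WittDec.plane 1 (κ ^ 2)) := by
    refine ⟨L.trans ψ, fun p => ?_⟩
    rw [LinearEquiv.trans_apply, hS, WittDec.plane_apply, CharTwo.polar_QP_eq_sympB, Sp.sympB_sum]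
    simp [L, a', PlusMax.QP_apply, Cfsg.quadFormPlus, Fin.sum_univ_succ]
    linear_combination -(κ * (p.2 0) * (p.2 1)) * CharTwo.two_zero (F := F)
  rintro ⟨W, hW, hW'⟩
  have := hdec.finrank_le_of_singular (isSF_nondeg (isSF_shift h a))
    (WittDec.plane_aniso _ _ (plane_hab (irred_sq hκ))) W hW'
  omega

theorem plus_shift_of_minus (hd : 2 ≤ d) {Q : QuadraticForm F (Fin d ⊕ Fin d → F)} (h : IsSF Q) (hp : ¬ Plus Q)
    (a : Fin d ⊕ Fin d → F) (hκ : ∀ t : F, t ^ 2 + t ≠ Q a) : Plus (shift Q a) := by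
  classical
  have ha : a ≠ 0 := fun e => hκ 0 (by rw [e, QuadraticMap.map_zero]; simp)
  obtain ⟨e, rfl⟩ : ∃ e, d = e + 1 + 1 := ⟨d - 2, by omega⟩
  set κ := Q a with hκd
  obtain ⟨-, ζ, hζ⟩ := WittDec.minus_irreducible Q (isSF_nondeg h) finrank_V hp
  obtain ⟨φ, hφ⟩ := WittDec.exists_equiv_minus Q (isSF_nondeg h) finrank_V hp 1 ζ (plane_hab hζ)
  have hφ' : ∀ v, Q (φ v) = WittDec.QM (e + 1) 1 ζ v := fun v => (hφ v).trans (WittDec.QM_apply _ _ _ v).symm
  let a' : (Fin (e + 1) ⊕ Fin (e + 1)) ⊕ Fin 2 → F := Sum.elim (Sum.elim (Fin.cons κ 0) (Fin.cons 1 0)) 0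
  have hQa' : WittDec.QM (e + 1) 1 ζ a' = κ := by
    rw [WittDec.QM_apply]; simp [a', Cfsg.quadFormMinus, Fin.sum_univ_succ]
  have ha'0 : a' ≠ 0 := fun e0 => one_ne_zero (α := F) (by simpa [a'] using congrFun e0 (Sum.inl (Sum.inr 0)))
  obtain ⟨g, hg, hga⟩ := exists_adapted (WittDec.QM (e + 1) 1 ζ) (WittDec.QM_nondeg _ _ _ (plane_hab hζ)) ha'0
    (fun e0 => ha (φ.symm.map_eq_zero_iff.1 e0))
    (by rw [hQa', ← hφ', LinearEquiv.apply_symm_apply])
  let ψ := g.trans φ
  have hψ : ∀ v, Q (ψ v) = WittDec.QM (e + 1) 1 ζ v := fun v => by rw [LinearEquiv.trans_apply, hφ', hg]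
  have hψa : ψ a' = a := by rw [LinearEquiv.trans_apply, hga, LinearEquiv.apply_symm_apply]
  have hirr : ∀ t : F, t ^ 2 + t + κ ^ 2 ≠ 0 := irred_sq hκ
  obtain ⟨χ, hχ⟩ := (WittDec.exists_plane_equiv (WittDec.plane 1 (κ ^ 2)) (WittDec.plane_nondeg _ _ (plane_hab hirr))
    (WittDec.plane_aniso _ _ (plane_hab hirr))).2 ζ hζ
  let i : ((Fin e → F) × (Fin 2 → F)) →ₗ[F] ((Fin (e + 1) ⊕ Fin (e + 1)) ⊕ Fin 2 → F) :=
    { toFun := fun p => Sum.elim (Sum.elim (Fin.cons (χ p.2 0) p.1) (Fin.cons (χ p.2 1) 0)) p.2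
      map_add' := fun p p' => funext fun s => by
        rcases s with (j | j) | j
        · refine Fin.cases ?_ (fun k => ?_) j <;> simp
        · refine Fin.cases ?_ (fun k => ?_) j <;> simp
        · simp
      map_smul' := fun c p => funext fun s => by
        rcases s with (j | j) | j
        · refine Fin.cases ?_ (fun k => ?_) j <;> simp
        · refine Fin.cases ?_ (fun k => ?_) j <;> simp
        · simp }
  have hi : Function.Injective i := fun p p' he => Prod.ext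
    (funext fun j => by simpa [i] using congrFun he (Sum.inl (Sum.inl j.succ)))
    (funext fun j => by simpa [i] using congrFun he (Sum.inr j))
  have hinj : Function.Injective (ψ.toLinearMap.comp i) := ψ.injective.comp hi
  refine ⟨LinearMap.range (ψ.toLinearMap.comp i), by
    rw [LinearMap.finrank_range_of_inj hinj, finrank_prod, finrank_fin_fun, finrank_fin_fun], ?_⟩
  rintro _ ⟨p, rfl⟩
  show shift Q a (ψ (i p)) = 0
  rw [shift_apply, hψ, ← h a (ψ (i p)), ← hψa]
  simp only [polar, ← map_add ψ, hψ, WittDec.QM_apply]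
  have h1 := hχ p.2
  rw [WittDec.plane_apply, WittDec.plane_apply] at h1
  simp [i, a', Cfsg.quadFormMinus, Fin.sum_univ_succ]
  linear_combination h1 + (κ * χ p.2 0 * χ p.2 1 + p.2 0 ^ 2 + p.2 0 * p.2 1 + ζ * p.2 1 ^ 2) * CharTwo.two_zero (F := F)

theorem plus_shift_iff {Q : QuadraticForm F (Fin d ⊕ Fin d → F)} (h : IsSF Q) (hp : Plus Q)
    (a : Fin d ⊕ Fin d → F) : Plus (shift Q a) ↔ ∃ t : F, t ^ 2 + t = Q a := by
  refine ⟨fun h1 => by_contra fun h2 => not_plus_shift h hp a (not_exists.1 h2) h1, fun ⟨t, ht⟩ => ?_⟩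
  obtain ⟨μ, hμ⟩ : ∃ μ : F, μ ^ 2 * Q a + μ = 1 := by
    by_cases hk : Q a = 0
    · exact ⟨1, by rw [hk]; ring⟩
    · exact ⟨t / Q a, by field_simp; linear_combination ht⟩
  have haa : polar Q0 a a = 0 := by
    rw [WittExt.polar_self_eq, CharTwo.two_zero, zero_mul]
  let T : (Fin d ⊕ Fin d → F) →ₗ[F] (Fin d ⊕ Fin d → F) :=
    LinearMap.id + (μ • polarBilin (Q0 (F := F) (d := d)) a).smulRight a
  have hT : ∀ v, T v = v + (μ * polar Q0 a v) • a := fun v => rfl
  have hTT : ∀ v, T (T v) = v := fun v => by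
    rw [hT, hT, polar_add_right, polar_smul_right, haa, smul_zero, add_zero, add_assoc, ← add_smul,
      CharTwo.add_self_eq_zero, zero_smul, add_zero]
  refine plus_congr (LinearEquiv.ofLinear T T (LinearMap.ext hTT) (LinearMap.ext hTT)) (fun v => ?_) hp
  show shift Q a (T v) = Q v
  rw [shift_apply, hT, polar_add_right, polar_smul_right, haa, smul_zero, add_zero,
    QuadraticMap.map_add (⇑Q), QuadraticMap.map_smul, polar_smul_right, h v a, polar_comm _ v a]
  simp only [smul_eq_mul]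
  linear_combination (polar Q0 a v ^ 2) * hμ + polar Q0 a v ^ 2 * CharTwo.two_zero (F := F)

/-- The number of forms of minus type. -/
theorem card_minus (hd : 1 ≤ d) :
    2 * Nat.card {a : Fin d ⊕ Fin d → F // ¬ Plus (shift Q0 a)} + Fintype.card F ^ d =
      Fintype.card F ^ (2 * d) := by
  classical
  set q := Fintype.card F with hq
  have hSF : IsSF (Q0 (F := F) (d := d)) := fun u v => rfl
  have hex : ∀ x : F, ∃ r, r ^ 2 = x := fun x => by
    obtain ⟨r, hr⟩ := FiniteField.isSquare_of_char_two (ringChar.eq F 2) x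
    exact ⟨r, by rw [hr, pow_two]⟩
  choose sr hsr using hex
  let N1 := {u : Fin d ⊕ Fin d → F // Q0 u = 1}
  have hfib : ∀ P : F → Prop, (∀ κ, P κ → κ ≠ 0) →
      Nat.card {a : Fin d ⊕ Fin d → F // P (Q0 a)} = Nat.card {κ : F // P κ} * Nat.card N1 := fun P hP => by
    rw [← Nat.card_prod]
    refine Nat.card_congr
      { toFun := fun a => (⟨Q0 a.1, a.2⟩, ⟨(sr (Q0 a.1))⁻¹ • a.1, ?_⟩)
        invFun := fun p => ⟨sr p.1.1 • p.2.1, ?_⟩
        left_inv := fun a => Subtype.ext ?_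
        right_inv := fun p => ?_ }
    · rw [QuadraticMap.map_smul, smul_eq_mul, ← pow_two, inv_pow, hsr, inv_mul_cancel₀ (hP _ a.2)]
    · rw [QuadraticMap.map_smul, smul_eq_mul, ← pow_two, hsr, p.2.2, mul_one]; exact p.1.2
    · show sr (Q0 a.1) • ((sr (Q0 a.1))⁻¹ • a.1) = a.1
      rw [smul_inv_smul₀]
      exact fun e => hP _ a.2 (by rw [← hsr (Q0 a.1), e]; ring)
    · have e1 : Q0 (sr p.1.1 • p.2.1) = p.1.1 := by
        rw [QuadraticMap.map_smul, smul_eq_mul, ← pow_two, hsr, p.2.2, mul_one]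
      refine Prod.ext (Subtype.ext e1) (Subtype.ext ?_)
      show (sr (Q0 (sr p.1.1 • p.2.1)))⁻¹ • (sr p.1.1 • p.2.1) = p.2.1
      rw [e1, inv_smul_smul₀]
      exact fun e => hP _ p.1.2 (by rw [← hsr p.1.1, e]; ring)
  let S : F →+ F := AddMonoidHom.mk' (fun c => c ^ 2 + c) fun x y => by
    linear_combination (x * y) * CharTwo.two_zero (F := F)
  have hker : Nat.card S.ker = 2 := by
    rw [Nat.card_eq_two_iff]
    refine ⟨⟨0, map_zero S⟩, ⟨1, show (1 : F) ^ 2 + 1 = 0 by linear_combination CharTwo.two_zero (F := F)⟩,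
      fun e => zero_ne_one (congrArg Subtype.val e :), ?_⟩
    refine Set.eq_univ_of_forall fun ⟨c, hc⟩ => ?_
    have hc0 : c ^ 2 + c = 0 := hc
    rcases mul_eq_zero.1 (show c * (c + 1) = 0 by linear_combination hc0) with h | h
    · exact Or.inl (Subtype.ext h)
    · exact Or.inr (Subtype.ext (show c = 1 by linear_combination h - CharTwo.two_zero (F := F)))
  have hS2 : 2 * Nat.card S.range = q := by
    have h3 := S.ker.card_mul_index
    rw [AddSubgroup.index_ker, hker, Nat.card_eq_fintype_card (α := F)] at h3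
    exact h3
  have hcomp : 2 * Nat.card {κ : F // ¬ ∃ t, t ^ 2 + t = κ} = q := by
    have h1 : Nat.card {κ : F // ∃ t, t ^ 2 + t = κ} + Nat.card {κ : F // ¬ ∃ t, t ^ 2 + t = κ} = q := by
      rw [← Nat.card_sum, Nat.card_congr (Equiv.sumCompl _), hq, Nat.card_eq_fintype_card]
    have h2 : Nat.card S.range = Nat.card {κ : F // ∃ t, t ^ 2 + t = κ} :=
      Nat.card_congr (Equiv.subtypeEquivRight fun κ => Iff.rfl)
    omega
  have hm : Nat.card {a : Fin d ⊕ Fin d → F // ¬ Plus (shift Q0 a)} =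
      Nat.card {κ : F // ¬ ∃ t, t ^ 2 + t = κ} * Nat.card N1 := by
    rw [← hfib _ (fun κ hκ e => hκ ⟨0, by rw [e]; ring⟩)]
    exact Nat.card_congr (Equiv.subtypeEquivRight fun a => not_congr (plus_shift_iff hSF plus_Q0 a))
  have hns : Nat.card {a : Fin d ⊕ Fin d → F // Q0 a ≠ 0} = (q - 1) * Nat.card N1 := by
    rw [hfib (fun κ => κ ≠ 0) fun κ h => h]
    congr 1
    rw [← Nat.card_congr (unitsEquivNeZero (G₀ := F)), Nat.card_units, Nat.card_eq_fintype_card]
  have hz : (q : ℤ) * Nat.card {a : Fin d ⊕ Fin d → F // Q0 a = 0} = (q : ℤ) ^ (2 * d) + (q : ℤ) ^ d * ((q : ℤ) - 1) := by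
    let E : {v : (Fin d ⊕ Fin d → F) // Q0 v = 0} ≃ QuadZeros.T (fun _ : Unit => (0 : F)) d :=
      { toFun := fun v => ⟨((), fun i => (v.1 (Sum.inl i), v.1 (Sum.inr i))), (zero_add _).trans ((PlusMax.QP_apply _).symm.trans v.2)⟩
        invFun := fun p => ⟨Sum.elim (fun i => (p.1.2 i).1) fun i => (p.1.2 i).2, (PlusMax.QP_apply _).trans ((zero_add _).symm.trans p.2)⟩
        left_inv := fun v => Subtype.ext (funext fun i => by rcases i with i | i <;> rfl)
        right_inv := fun p => rfl }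
    have h3 := QuadZeros.card_eq (fun _ : Unit => (0 : F)) d
    rw [← Nat.card_congr E, show Nat.card Unit = 1 by simp, show Nat.card {x : Unit // (0 : F) = 0} = 1 by simp] at h3
    rw [h3]; push_cast; ring
  have htot : Nat.card {a : Fin d ⊕ Fin d → F // Q0 a = 0} + Nat.card {a : Fin d ⊕ Fin d → F // Q0 a ≠ 0} = q ^ (2 * d) := by
    rw [← Nat.card_sum, Nat.card_congr (Equiv.sumCompl _), Nat.card_fun, Nat.card_eq_fintype_card (α := F),
      Nat.card_eq_fintype_card, Fintype.card_sum, Fintype.card_fin, two_mul]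
  have hq2 : 2 ≤ q := Fintype.one_lt_card
  zify
  rw [hm]
  zify at hcomp htot
  rw [hns, Nat.cast_mul, Nat.cast_sub (show 1 ≤ q by omega), Nat.cast_one] at htot
  refine mul_left_cancel₀ (show (q : ℤ) - 1 ≠ 0 by omega) ?_
  push_cast
  linear_combination (q : ℤ) * htot - hz + ((q : ℤ) - 1) * (Nat.card N1 : ℤ) * hcomp

theorem plus_shift_flip (hd : 2 ≤ d) {Q : QuadraticForm F (Fin d ⊕ Fin d → F)} (h : IsSF Q)
    (a : Fin d ⊕ Fin d → F) (hκ : ∀ t : F, t ^ 2 + t ≠ Q a) : Plus (shift Q a) ↔ ¬ Plus Q :=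
  ⟨fun h1 hp => not_plus_shift h hp a hκ h1, fun hp => plus_shift_of_minus hd h hp a hκ⟩

end Cfsg.Agent.Classical.SympForms
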