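import Cfsg.Agent.Lib.Classical.Forms

/-!
Stabilisers of subspaces in symplectic groups, and the heart of the permutation module over two
elements.
-/

set_option autoImplicit false
set_option linter.style.haveILetI false
set_option linter.unusedSectionVars false

namespace Cfsg.Agent.Classical.SympStab

open Module Sp
open scoped Matrix

variable {F V : Type*} [Field F] [AddCommGroup V] [Module F V] [FiniteDimensional F V]
variable (B : LinearMap.BilinForm F V)

/-- The stabiliser of a subspace. -/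
def stab (W : Submodule F V) : Subgroup (Grp B) where
  carrier := {g | ∀ v, v ∈ W ↔ (g : V ≃ₗ[F] V) v ∈ W}
  one_mem' := fun _ => Iff.rfl
  mul_mem' := fun {a b} ha hb v => (hb v).trans (ha _)
  inv_mem' := fun {a} ha v => by
    show v ∈ W ↔ (a : V ≃ₗ[F] V).symm v ∈ W
    conv_lhs => rw [← (a : V ≃ₗ[F] V).apply_symm_apply v]
    exact (ha _).symm

/-- Restriction of the stabiliser of `W` to an invariant subspace. -/
def restr {W : Submodule F V} (S : Subgroup (Grp B)) (hS : S ≤ stab B W) : S →* Grp (res B W) where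
  toFun g := ⟨LinearEquiv.ofSubmodules ((g : Grp B) : V ≃ₗ[F] V) W W (by
      ext v
      constructor
      · rintro ⟨w, hw, rfl⟩
        exact (hS g.2 w).1 hw
      · intro hv
        exact ⟨((g : Grp B) : V ≃ₗ[F] V).symm v,
          (hS g.2 _).2 (by rw [LinearEquiv.apply_symm_apply]; exact hv),
          LinearEquiv.apply_symm_apply _ _⟩),
    fun a b => (g : Grp B).2 a b⟩
  map_one' := Subtype.ext (LinearEquiv.ext fun _ => rfl)
  map_mul' _ _ := Subtype.ext (LinearEquiv.ext fun _ => rfl)

theorem restr_apply {W : Submodule F V} (S : Subgroup (Grp B)) (hS : S ≤ stab B W) (g : S) (w : W) :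
    (((restr B S hS g : Grp (res B W)) : W ≃ₗ[F] W) w : V) = ((g : Grp B) : V ≃ₗ[F] V) w := rfl

variable (hA : B.IsAlt)

include hA

theorem stab_le_orth (W : Submodule F V) : stab B W ≤ stab B (B.orthogonal W) := by
  intro g hg v
  constructor
  · intro hv w hw
    show B w ((g : V ≃ₗ[F] V) v) = 0
    rw [← (g : V ≃ₗ[F] V).apply_symm_apply w]
    refine (g.2 _ _).trans ?_
    exact hv _ ((hg _).2 (by rw [LinearEquiv.apply_symm_apply]; exact hw))
  · intro hv w hw
    show B w v = 0
    rw [← Grp.map_form g w v]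
    exact hv _ ((hg w).1 hw)

/-- The stabiliser of a non-degenerate subspace. -/
theorem stab_nondeg (W : Submodule F V) (hW : Nondeg (res B W)) :
    Nonempty (stab B W ≃* Grp (res B W) × Grp (res B (B.orthogonal W))) := by
  let Φ : stab B W →* Grp (res B W) × Grp (res B (B.orthogonal W)) :=
    (restr B (stab B W) le_rfl).prod (restr B (stab B W) (stab_le_orth B hA W))
  have hd := Forms.decomp_sub B hA W hW
  refine ⟨MulEquiv.ofBijective Φ ⟨fun g h e => ?_, fun p => ?_⟩⟩
  · refine Subtype.ext (Subtype.ext (LinearEquiv.ext fun x => ?_))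
    obtain ⟨a, ha, b, hb, rfl⟩ := hd.exists_add x
    have e1 := congrArg (fun p : Grp (res B W) × Grp (res B (B.orthogonal W)) =>
      ((p.1 : W ≃ₗ[F] W) ⟨a, ha⟩ : V)) e
    have e2 := congrArg (fun p : Grp (res B W) × Grp (res B (B.orthogonal W)) =>
      ((p.2 : B.orthogonal W ≃ₗ[F] B.orthogonal W) ⟨b, hb⟩ : V)) e
    simp only [Φ, MonoidHom.prod_apply, restr_apply] at e1 e2
    rw [map_add, map_add, e1, e2]
  · obtain ⟨⟨a, ha⟩, ⟨b, hb⟩⟩ := p
    obtain ⟨g, hg, hga, hgb⟩ := glue hd hd a b (fun x y => ha x y) (fun x y => hb x y)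
    have hmem : (⟨g, hg⟩ : Grp B) ∈ stab B W := by
      intro v
      show v ∈ W ↔ g v ∈ W
      constructor
      · intro hv
        rw [hga ⟨v, hv⟩]
        exact (a ⟨v, hv⟩).2
      · intro hv
        have : v = (a.symm ⟨g v, hv⟩ : W) := g.injective (by rw [hga, a.apply_symm_apply])
        rw [this]
        exact (a.symm _).2
    exact ⟨⟨⟨g, hg⟩, hmem⟩, Prod.ext (Subtype.ext (LinearEquiv.ext fun x => Subtype.ext (hga x)))
      (Subtype.ext (LinearEquiv.ext fun x => Subtype.ext (hgb x)))⟩

/-- A symplectic space is isometric to the standard one. -/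
theorem nonempty_grp_equiv (hB : Nondeg B) {k : ℕ} (hk : finrank F V = 2 * k) :
    Nonempty (Grp B ≃* Matrix.symplecticGroup (Fin k) F) := by
  obtain ⟨-, e, he⟩ := exists_equiv (2 * k) B (sympB F k) hA hB (sympB_isAlt k) (sympB_nondeg k) hk
    (finrank_space k)
  exact ⟨(isomCongr e (fun x y => B x y) (fun x y => sympB F k x y) he).trans (spEquiv k).symm⟩

omit hA

theorem stabilizing_equiv (m : ℕ) (W : Submodule F (Fin m ⊕ Fin m → F)) :
    Nonempty (↥(Cfsg.stabilizing (Cfsg.spToMat m F) (W : Set (Fin m ⊕ Fin m → F))) ≃*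
      stab (sympB F m) W) := by
  have e : (Cfsg.stabilizing (Cfsg.spToMat m F) (W : Set (Fin m ⊕ Fin m → F))).map
      (spEquiv m).toMonoidHom = stab (sympB F m) W := by
    ext g
    constructor
    · rintro ⟨A, hA, rfl⟩ v
      exact hA v
    · intro hg
      refine ⟨(spEquiv m).symm g, fun v => ?_, (spEquiv m).apply_symm_apply g⟩
      show v ∈ W ↔ ((spEquiv m).symm g).1 *ᵥ v ∈ W
      rw [spEquiv_symm_mulVec]
      exact hg v
  exact ⟨((spEquiv m).subgroupMap _).trans (MulEquiv.subgroupCongr e)⟩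

/-- The symmetric group of even degree in a symplectic group over two elements. -/
theorem exists_perm_embedding (n : ℕ) (hn : 3 ≤ n) :
    ∃ f : Equiv.Perm (Fin (2 * n)) →* Matrix.symplecticGroup (Fin (n - 1)) (ZMod 2),
      Function.Injective f := by
  classical
  let S : (Fin (2 * n) → ZMod 2) →ₗ[ZMod 2] ZMod 2 := ∑ i, LinearMap.proj i
  have hS : ∀ x, S x = ∑ i, x i := fun x => by simp [S]
  let E := LinearMap.ker S
  let D : LinearMap.BilinForm (ZMod 2) (Fin (2 * n) → ZMod 2) := Matrix.toBilin' 1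
  have hD : ∀ x y, D x y = ∑ i, x i * y i := fun x y => by
    simp [D, Matrix.toBilin'_apply', dotProduct]
  let BE : LinearMap.BilinForm (ZMod 2) E := D.restrict E
  have hBE : ∀ x y : E, BE x y = ∑ i, (x : Fin (2 * n) → ZMod 2) i * (y : Fin (2 * n) → ZMod 2) i :=
    fun x y => hD _ _
  have hsym : ∀ x y : E, BE x y = BE y x := fun x y => by
    simp only [hBE, mul_comm]
  let R := LinearMap.ker BE
  have hone : (fun _ => (1 : ZMod 2)) ∈ E := by
    show S _ = 0
    rw [hS, Finset.sum_const, Finset.card_univ, Fintype.card_fin, nsmul_one, Nat.cast_mul]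
    simp [show (2 : ZMod 2) = 0 from rfl]
  have hpair : ∀ i j : Fin (2 * n), (Pi.single i 1 + Pi.single j 1 : Fin (2 * n) → ZMod 2) ∈ E := by
    intro i j
    show S _ = 0
    rw [hS]
    simp [Finset.sum_add_distrib]
    rfl
  let i₀ : Fin (2 * n) := ⟨0, by omega⟩
  have hR : ∀ x : E, x ∈ R ↔ x ∈ Submodule.span (ZMod 2) {(⟨_, hone⟩ : E)} := by
    intro x
    constructor
    · intro hx
      rw [Submodule.mem_span_singleton]
      refine ⟨(x : Fin (2 * n) → ZMod 2) i₀, Subtype.ext (funext fun j => ?_)⟩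
      have h1 := LinearMap.congr_fun (LinearMap.mem_ker.1 hx) ⟨_, hpair i₀ j⟩
      rw [hBE] at h1
      simp [mul_add, Finset.sum_add_distrib, Pi.single_apply] at h1
      simpa using CharTwo.add_eq_zero.1 h1
    · intro hx
      obtain ⟨a, rfl⟩ := Submodule.mem_span_singleton.1 hx
      rw [LinearMap.mem_ker]
      refine LinearMap.ext fun y => ?_
      have hy : ∑ i, (y : Fin (2 * n) → ZMod 2) i = 0 := by rw [← hS]; exact y.2
      rw [hBE, LinearMap.zero_apply]
      simp [← Finset.mul_sum, hy]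
  have hRker : R ≤ LinearMap.ker BE := le_rfl
  let B1 : (E ⧸ R) →ₗ[ZMod 2] E →ₗ[ZMod 2] ZMod 2 := R.liftQ BE hRker
  have hB1 : R ≤ LinearMap.ker B1.flip := by
    intro r hr
    rw [LinearMap.mem_ker]
    refine LinearMap.ext fun q => ?_
    obtain ⟨x, rfl⟩ := Submodule.mkQ_surjective R q
    show BE x r = 0
    rw [hsym]
    exact LinearMap.congr_fun (LinearMap.mem_ker.1 hr) x
  let Bq : LinearMap.BilinForm (ZMod 2) (E ⧸ R) := (R.liftQ B1.flip hB1).flip
  have hBq : ∀ x y : E, Bq (R.mkQ x) (R.mkQ y) = BE x y := fun _ _ => rfl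
  have halt : Bq.IsAlt := by
    intro q
    obtain ⟨x, rfl⟩ := Submodule.mkQ_surjective R q
    have hx : ∑ i, (x : Fin (2 * n) → ZMod 2) i = 0 := by rw [← hS]; exact x.2
    rw [hBq, hBE, ← hx]
    exact Finset.sum_congr rfl fun i _ =>
      (by decide : ∀ a : ZMod 2, a * a = a) ((x : Fin (2 * n) → ZMod 2) i)
  have hnd : Nondeg Bq := by
    intro q hq
    obtain ⟨x, rfl⟩ := Submodule.mkQ_surjective R q
    by_contra hc
    simp only [not_exists, not_not] at hc
    refine hq ((Submodule.Quotient.mk_eq_zero R).2 ?_)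
    show x ∈ LinearMap.ker BE
    rw [LinearMap.mem_ker]
    exact LinearMap.ext fun y => by rw [← hBq]; exact hc _
  have hdim : finrank (ZMod 2) (E ⧸ R) = 2 * (n - 1) := by
    have hE : finrank (ZMod 2) E + 1 = 2 * n := by
      have hs : Function.Surjective S := fun a => ⟨Pi.single i₀ a, by rw [hS]; simp⟩
      have h := LinearMap.finrank_range_add_finrank_ker S
      rw [LinearMap.range_eq_top.2 hs, finrank_top, finrank_self, finrank_pi, Fintype.card_fin] at h
      show finrank (ZMod 2) (LinearMap.ker S) + 1 = 2 * n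
      omega
    have h1 := Submodule.finrank_quotient_add_finrank R
    have h2 : finrank (ZMod 2) R = 1 := by
      rw [show R = Submodule.span (ZMod 2) {(⟨_, hone⟩ : E)} from Submodule.ext hR,
        finrank_span_singleton]
      intro e
      exact one_ne_zero (congrFun (congrArg Subtype.val e) i₀)
    omega
  obtain ⟨-, e, he⟩ := exists_equiv (2 * (n - 1)) Bq (sympB (ZMod 2) (n - 1)) halt hnd
    (sympB_isAlt _) (sympB_nondeg _) hdim (finrank_space _)
  -- the action of the symmetric group
  let L : Equiv.Perm (Fin (2 * n)) → (E →ₗ[ZMod 2] E) := fun s =>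
    (LinearMap.funLeft (ZMod 2) (ZMod 2) s.symm).restrict fun x hx => by
      show S (x ∘ s.symm) = 0
      rw [hS]
      exact (Equiv.sum_comp s.symm x).trans ((hS x).symm.trans hx)
  have hLB : ∀ s x y, BE (L s x) (L s y) = BE x y := fun s x y => by
    rw [hBE, hBE]
    exact Equiv.sum_comp s.symm
      (fun i => (x : Fin (2 * n) → ZMod 2) i * (y : Fin (2 * n) → ZMod 2) i)
  have hLmul : ∀ s t x, L (s * t) x = L s (L t x) := fun _ _ _ => rfl
  have hLone : ∀ x, L 1 x = x := fun _ => rfl
  have hLR : ∀ s, R ≤ R.comap (L s) := by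
    intro s x hx
    refine LinearMap.mem_ker.2 (LinearMap.ext fun y => ?_)
    have : L s (L s⁻¹ y) = y := by rw [← hLmul, mul_inv_cancel, hLone]
    rw [← this, hLB]
    exact LinearMap.congr_fun (LinearMap.mem_ker.1 hx) _
  let M : Equiv.Perm (Fin (2 * n)) → (E ⧸ R →ₗ[ZMod 2] E ⧸ R) := fun s => R.mapQ R (L s) (hLR s)
  have hM : ∀ s x, M s (R.mkQ x) = R.mkQ (L s x) := fun _ _ => rfl
  have hMmul : ∀ s t, M (s * t) = (M s).comp (M t) := fun s t => by
    refine LinearMap.ext fun q => ?_
    obtain ⟨x, rfl⟩ := Submodule.mkQ_surjective R q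
    rfl
  have hMone : M 1 = LinearMap.id := by
    refine LinearMap.ext fun q => ?_
    obtain ⟨x, rfl⟩ := Submodule.mkQ_surjective R q
    rfl
  let P : Equiv.Perm (Fin (2 * n)) →* Grp Bq :=
    { toFun := fun s => ⟨LinearEquiv.ofLinearMap (M s) (M s⁻¹)
        (by rw [← hMmul, mul_inv_cancel, hMone]) (by rw [← hMmul, inv_mul_cancel, hMone]),
        fun a b => by
          obtain ⟨x, rfl⟩ := Submodule.mkQ_surjective R a
          obtain ⟨y, rfl⟩ := Submodule.mkQ_surjective R b
          show Bq (M s (R.mkQ x)) (M s (R.mkQ y)) = Bq (R.mkQ x) (R.mkQ y)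
          rw [hM, hM, hBq, hBq, hLB]⟩
      map_one' := Subtype.ext (LinearEquiv.ext fun q => LinearMap.congr_fun hMone q)
      map_mul' := fun s t => Subtype.ext (LinearEquiv.ext fun q =>
        LinearMap.congr_fun (hMmul s t) q) }
  refine ⟨((isomCongr e (fun x y => Bq x y) (fun x y => sympB (ZMod 2) (n - 1) x y) he).trans
    (spEquiv (n - 1)).symm).toMonoidHom.comp P, ?_⟩
  rw [MonoidHom.coe_comp]
  refine Function.Injective.comp (MulEquiv.injective _) ?_
  rw [injective_iff_map_eq_one]
  intro s hs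
  have key : ∀ i j, i ≠ j → ∀ k, (s.symm k = i ∨ s.symm k = j) ↔ (k = i ∨ k = j) := by
    intro i j hij
    have h1 : M s (R.mkQ ⟨_, hpair i j⟩) = R.mkQ ⟨_, hpair i j⟩ :=
      LinearEquiv.congr_fun (congrArg Subtype.val hs) _
    rw [hM, Submodule.mkQ_apply, Submodule.mkQ_apply, Submodule.Quotient.eq, hR,
      Submodule.mem_span_singleton] at h1
    obtain ⟨a, ha⟩ := h1
    have hk : ∀ k, a = (Pi.single i 1 + Pi.single j 1 : Fin (2 * n) → ZMod 2) (s.symm k) -
        (Pi.single i 1 + Pi.single j 1 : Fin (2 * n) → ZMod 2) k := fun k => by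
      have := congrFun (congrArg Subtype.val ha) k
      simpa [L, LinearMap.funLeft_apply] using this
    obtain ⟨k, hk'⟩ : ∃ k, k ∉ ({i, j, s i, s j} : Finset (Fin (2 * n))) := by
      refine not_forall.1 fun hall => ?_
      have hc : ({i, j, s i, s j} : Finset (Fin (2 * n))).card ≤ 4 := Finset.card_le_four
      rw [Finset.eq_univ_iff_forall.2 hall, Finset.card_univ, Fintype.card_fin] at hc
      omega
    simp only [Finset.mem_insert, Finset.mem_singleton, not_or] at hk'
    have ha0 : a = 0 := by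
      rw [hk k]
      simp [Pi.single_apply, Equiv.symm_apply_eq, hk']
    intro k
    have := hk k
    rw [ha0, eq_comm, sub_eq_zero] at this
    have hval : ∀ x : Fin (2 * n),
        (Pi.single i 1 + Pi.single j 1 : Fin (2 * n) → ZMod 2) x = 1 ↔ x = i ∨ x = j := by
      intro x
      rw [Pi.add_apply]
      by_cases hx : x = i
      · subst hx
        simp [Pi.single_eq_of_ne hij]
      · by_cases hx' : x = j
        · subst hx'
          simp [Pi.single_eq_of_ne hx]
        · simp [Pi.single_eq_of_ne hx, Pi.single_eq_of_ne hx', hx, hx']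
    rw [← hval, this, hval]
  refine Equiv.ext fun x => ?_
  obtain ⟨a, ha⟩ : ∃ a, a ∉ ({x, s x} : Finset (Fin (2 * n))) := by
    refine not_forall.1 fun hall => ?_
    have hc : ({x, s x} : Finset (Fin (2 * n))).card ≤ 2 := Finset.card_le_two
    rw [Finset.eq_univ_iff_forall.2 hall, Finset.card_univ, Fintype.card_fin] at hc
    omega
  simp only [Finset.mem_insert, Finset.mem_singleton, not_or] at ha
  have h := (key x a (Ne.symm ha.1) (s x)).1 (Or.inl (s.symm_apply_apply x))
  simpa [Ne.symm ha.2] using h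

end Cfsg.Agent.Classical.SympStab
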