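import Mathlib

/-!
# Data for the thirty-six point graph
-/

set_option autoImplicit false
set_option maxHeartbeats 1000000
set_option maxRecDepth 100000

namespace Cfsg.Agent.Classical.ThirtySix

def c6 : Fin 36 → Fin 6 → ZMod 2 := ![![0, 0, 0, 0, 0, 1],
  ![0, 0, 0, 0, 1, 0],
  ![0, 0, 0, 0, 1, 1],
  ![0, 0, 0, 1, 0, 1],
  ![0, 0, 0, 1, 1, 0],
  ![0, 0, 0, 1, 1, 1],
  ![0, 0, 1, 0, 0, 1],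
  ![0, 0, 1, 0, 1, 0],
  ![0, 0, 1, 0, 1, 1],
  ![0, 0, 1, 1, 0, 1],
  ![0, 0, 1, 1, 1, 0],
  ![0, 0, 1, 1, 1, 1],
  ![0, 1, 0, 0, 0, 1],
  ![0, 1, 0, 0, 1, 0],
  ![0, 1, 0, 0, 1, 1],
  ![0, 1, 0, 1, 0, 0],
  ![0, 1, 1, 0, 0, 1],
  ![0, 1, 1, 0, 1, 0],
  ![0, 1, 1, 0, 1, 1],
  ![0, 1, 1, 1, 0, 0],
  ![1, 0, 0, 0, 0, 1],
  ![1, 0, 0, 0, 1, 0],
  ![1, 0, 0, 0, 1, 1],
  ![1, 0, 0, 1, 0, 1],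
  ![1, 0, 0, 1, 1, 0],
  ![1, 0, 0, 1, 1, 1],
  ![1, 0, 1, 0, 0, 0],
  ![1, 0, 1, 1, 0, 0],
  ![1, 1, 0, 0, 0, 1],
  ![1, 1, 0, 0, 1, 0],
  ![1, 1, 0, 0, 1, 1],
  ![1, 1, 0, 1, 0, 0],
  ![1, 1, 1, 0, 0, 0],
  ![1, 1, 1, 1, 0, 1],
  ![1, 1, 1, 1, 1, 0],
  ![1, 1, 1, 1, 1, 1]]

def c5 : Fin 36 → Fin 5 → ZMod 3 := ![![0, 0, 1, 0, 2],
  ![0, 1, 0, 2, 1],
  ![0, 1, 1, 2, 0],
  ![0, 1, 0, 2, 0],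
  ![0, 1, 2, 2, 0],
  ![0, 1, 0, 2, 2],
  ![0, 1, 1, 1, 1],
  ![0, 1, 1, 0, 2],
  ![0, 1, 2, 0, 1],
  ![0, 1, 2, 1, 2],
  ![0, 0, 1, 2, 2],
  ![0, 0, 1, 1, 2],
  ![1, 0, 1, 1, 1],
  ![1, 2, 0, 2, 1],
  ![1, 2, 1, 2, 0],
  ![1, 1, 1, 0, 1],
  ![1, 0, 2, 2, 2],
  ![1, 1, 0, 1, 2],
  ![1, 1, 2, 1, 0],
  ![1, 2, 2, 0, 2],
  ![1, 0, 2, 0, 2],
  ![1, 2, 1, 1, 2],
  ![1, 2, 2, 1, 1],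
  ![1, 0, 1, 0, 1],
  ![1, 1, 2, 2, 1],
  ![1, 1, 1, 2, 2],
  ![1, 1, 0, 1, 0],
  ![1, 2, 0, 2, 0],
  ![1, 2, 1, 0, 1],
  ![1, 1, 0, 1, 1],
  ![1, 1, 1, 1, 0],
  ![1, 0, 1, 2, 1],
  ![1, 0, 2, 1, 2],
  ![1, 1, 2, 0, 2],
  ![1, 2, 0, 2, 2],
  ![1, 2, 2, 2, 0]]

def w5 : Fin 45 → Fin 5 → ZMod 3 := ![![0, 0, 1, 0, 1],
  ![0, 0, 1, 1, 1],
  ![0, 0, 1, 2, 1],
  ![0, 1, 0, 1, 0],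
  ![0, 1, 0, 1, 1],
  ![0, 1, 0, 1, 2],
  ![0, 1, 1, 0, 1],
  ![0, 1, 1, 1, 0],
  ![0, 1, 1, 2, 2],
  ![0, 1, 2, 0, 2],
  ![0, 1, 2, 1, 0],
  ![0, 1, 2, 2, 1],
  ![1, 0, 0, 0, 0],
  ![1, 0, 0, 0, 1],
  ![1, 0, 0, 0, 2],
  ![1, 0, 0, 1, 0],
  ![1, 0, 0, 1, 1],
  ![1, 0, 0, 1, 2],
  ![1, 0, 0, 2, 0],
  ![1, 0, 0, 2, 1],
  ![1, 0, 0, 2, 2],
  ![1, 0, 1, 0, 0],
  ![1, 0, 1, 1, 0],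
  ![1, 0, 1, 2, 0],
  ![1, 0, 2, 0, 0],
  ![1, 0, 2, 1, 0],
  ![1, 0, 2, 2, 0],
  ![1, 1, 0, 0, 0],
  ![1, 1, 0, 0, 1],
  ![1, 1, 0, 0, 2],
  ![1, 1, 1, 0, 0],
  ![1, 1, 1, 1, 2],
  ![1, 1, 1, 2, 1],
  ![1, 1, 2, 0, 0],
  ![1, 1, 2, 1, 1],
  ![1, 1, 2, 2, 2],
  ![1, 2, 0, 0, 0],
  ![1, 2, 0, 0, 1],
  ![1, 2, 0, 0, 2],
  ![1, 2, 1, 0, 0],
  ![1, 2, 1, 1, 1],
  ![1, 2, 1, 2, 2],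
  ![1, 2, 2, 0, 0],
  ![1, 2, 2, 1, 2],
  ![1, 2, 2, 2, 1]]

def tab : Fin 36 → Fin 36 → Fin 36 := ![![0, 2, 1, 3, 5, 4, 6, 8, 7, 9, 11, 10, 12, 14, 13, 15, 16, 18, 17, 19, 20, 22, 21, 23, 25, 24, 26, 27, 28, 30, 29, 31, 32, 33, 35, 34],
  ![2, 1, 0, 5, 4, 3, 8, 7, 6, 11, 10, 9, 14, 13, 12, 15, 18, 17, 16, 19, 22, 21, 20, 25, 24, 23, 26, 27, 30, 29, 28, 31, 32, 35, 34, 33],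
  ![1, 0, 2, 4, 3, 5, 7, 6, 8, 10, 9, 11, 13, 12, 14, 15, 17, 16, 18, 19, 21, 20, 22, 24, 23, 25, 26, 27, 29, 28, 30, 31, 32, 34, 33, 35],
  ![0, 5, 4, 3, 2, 1, 6, 11, 10, 9, 8, 7, 15, 13, 14, 12, 19, 17, 18, 16, 20, 25, 24, 23, 22, 21, 26, 27, 31, 29, 30, 28, 33, 32, 34, 35],
  ![5, 1, 3, 2, 4, 0, 11, 7, 9, 8, 10, 6, 12, 15, 14, 13, 16, 19, 18, 17, 25, 21, 23, 22, 24, 20, 26, 27, 28, 31, 30, 29, 34, 33, 32, 35],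
  ![4, 3, 2, 1, 0, 5, 10, 9, 8, 7, 6, 11, 12, 13, 15, 14, 16, 17, 19, 18, 24, 23, 22, 21, 20, 25, 26, 27, 28, 29, 31, 30, 35, 33, 34, 32],
  ![0, 8, 7, 3, 11, 10, 6, 2, 1, 9, 5, 4, 12, 18, 17, 15, 16, 14, 13, 19, 26, 21, 22, 27, 24, 25, 20, 23, 32, 29, 30, 33, 28, 31, 34, 35],
  ![8, 1, 6, 11, 4, 9, 2, 7, 0, 5, 10, 3, 18, 13, 16, 15, 14, 17, 12, 19, 20, 26, 22, 23, 27, 25, 21, 24, 28, 32, 30, 34, 29, 33, 31, 35],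
  ![7, 6, 2, 10, 9, 5, 1, 0, 8, 4, 3, 11, 17, 16, 14, 15, 13, 12, 18, 19, 20, 21, 26, 23, 24, 27, 22, 25, 28, 29, 32, 35, 30, 33, 34, 31],
  ![0, 11, 10, 3, 8, 7, 6, 5, 4, 9, 2, 1, 19, 13, 14, 16, 15, 17, 18, 12, 27, 21, 22, 26, 24, 25, 23, 20, 28, 35, 34, 31, 32, 33, 30, 29],
  ![11, 1, 9, 8, 4, 6, 5, 7, 3, 2, 10, 0, 12, 19, 14, 17, 16, 15, 18, 13, 20, 27, 22, 23, 26, 25, 24, 21, 35, 29, 33, 31, 32, 30, 34, 28],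
  ![10, 9, 2, 7, 6, 5, 4, 3, 8, 1, 0, 11, 12, 13, 19, 18, 16, 17, 15, 14, 20, 21, 27, 23, 24, 26, 25, 22, 34, 33, 30, 31, 32, 29, 28, 35],
  ![0, 14, 13, 15, 4, 5, 6, 18, 17, 19, 10, 11, 12, 2, 1, 3, 16, 8, 7, 9, 20, 30, 29, 31, 24, 25, 26, 33, 28, 22, 21, 23, 32, 27, 34, 35],
  ![14, 1, 12, 3, 15, 5, 18, 7, 16, 9, 19, 11, 2, 13, 0, 4, 8, 17, 6, 10, 30, 21, 28, 23, 31, 25, 26, 34, 22, 29, 20, 24, 32, 33, 27, 35],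
  ![13, 12, 2, 3, 4, 15, 17, 16, 8, 9, 10, 19, 1, 0, 14, 5, 7, 6, 18, 11, 29, 28, 22, 23, 24, 31, 26, 35, 21, 20, 30, 25, 32, 33, 34, 27],
  ![0, 1, 2, 12, 13, 14, 6, 7, 8, 16, 17, 18, 3, 4, 5, 15, 9, 10, 11, 19, 20, 21, 22, 28, 29, 30, 26, 32, 23, 24, 25, 31, 27, 33, 34, 35],
  ![0, 18, 17, 19, 4, 5, 6, 14, 13, 15, 10, 11, 12, 8, 7, 9, 16, 2, 1, 3, 32, 21, 22, 23, 35, 34, 28, 27, 26, 29, 30, 31, 20, 33, 25, 24],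
  ![18, 1, 16, 3, 19, 5, 14, 7, 12, 9, 15, 11, 8, 13, 6, 10, 2, 17, 0, 4, 20, 32, 22, 35, 24, 33, 29, 27, 28, 26, 30, 31, 21, 25, 34, 23],
  ![17, 16, 2, 3, 4, 19, 13, 12, 8, 9, 10, 15, 7, 6, 14, 11, 1, 0, 18, 5, 20, 21, 32, 34, 33, 25, 30, 27, 28, 29, 26, 31, 22, 24, 23, 35],
  ![0, 1, 2, 16, 17, 18, 6, 7, 8, 12, 13, 14, 9, 10, 11, 15, 3, 4, 5, 19, 33, 34, 35, 23, 24, 25, 31, 27, 28, 29, 30, 26, 32, 20, 21, 22],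
  ![0, 22, 21, 3, 25, 24, 26, 7, 8, 27, 10, 11, 12, 30, 29, 15, 32, 17, 18, 33, 20, 2, 1, 23, 5, 4, 6, 9, 28, 14, 13, 31, 16, 19, 34, 35],
  ![22, 1, 20, 25, 4, 23, 6, 26, 8, 9, 27, 11, 30, 13, 28, 15, 16, 32, 18, 34, 2, 21, 0, 5, 24, 3, 7, 10, 14, 29, 12, 31, 17, 33, 19, 35],
  ![21, 20, 2, 24, 23, 5, 6, 7, 26, 9, 10, 27, 29, 28, 14, 15, 16, 17, 32, 35, 1, 0, 22, 4, 3, 25, 8, 11, 13, 12, 30, 31, 18, 33, 34, 19],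
  ![0, 25, 24, 3, 22, 21, 27, 7, 8, 26, 10, 11, 31, 13, 14, 28, 16, 35, 34, 19, 20, 5, 4, 23, 2, 1, 9, 6, 15, 29, 30, 12, 32, 33, 18, 17],
  ![25, 1, 23, 22, 4, 20, 6, 27, 8, 9, 26, 11, 12, 31, 14, 29, 35, 17, 33, 19, 5, 21, 3, 2, 24, 0, 10, 7, 28, 15, 30, 13, 32, 18, 34, 16],
  ![24, 23, 2, 21, 20, 5, 6, 7, 27, 9, 10, 26, 12, 13, 31, 30, 34, 33, 18, 19, 4, 3, 22, 1, 0, 25, 11, 8, 28, 29, 15, 14, 32, 17, 16, 35],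
  ![0, 1, 2, 3, 4, 5, 20, 21, 22, 23, 24, 25, 12, 13, 14, 15, 28, 29, 30, 31, 6, 7, 8, 9, 10, 11, 26, 27, 16, 17, 18, 19, 32, 33, 34, 35],
  ![0, 1, 2, 3, 4, 5, 23, 24, 25, 20, 21, 22, 33, 34, 35, 32, 16, 17, 18, 19, 9, 10, 11, 6, 7, 8, 26, 27, 28, 29, 30, 31, 15, 12, 13, 14],
  ![0, 30, 29, 31, 4, 5, 32, 7, 8, 9, 35, 34, 12, 22, 21, 23, 26, 17, 18, 19, 20, 14, 13, 15, 24, 25, 16, 27, 28, 2, 1, 3, 6, 33, 11, 10],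
  ![30, 1, 28, 3, 31, 5, 6, 32, 8, 35, 10, 33, 22, 13, 20, 24, 16, 26, 18, 19, 14, 21, 12, 23, 15, 25, 17, 27, 2, 29, 0, 4, 7, 11, 34, 9],
  ![29, 28, 2, 3, 4, 31, 6, 7, 32, 34, 33, 11, 21, 20, 14, 25, 16, 17, 26, 19, 13, 12, 22, 23, 24, 15, 18, 27, 1, 0, 30, 5, 8, 10, 9, 35],
  ![0, 1, 2, 28, 29, 30, 33, 34, 35, 9, 10, 11, 23, 24, 25, 15, 16, 17, 18, 26, 20, 21, 22, 12, 13, 14, 19, 27, 3, 4, 5, 31, 32, 6, 7, 8],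
  ![0, 1, 2, 33, 34, 35, 28, 29, 30, 9, 10, 11, 12, 13, 14, 27, 20, 21, 22, 19, 16, 17, 18, 23, 24, 25, 26, 15, 6, 7, 8, 31, 32, 3, 4, 5],
  ![0, 35, 34, 32, 4, 5, 31, 7, 8, 9, 30, 29, 27, 13, 14, 15, 16, 25, 24, 20, 19, 21, 22, 23, 18, 17, 26, 12, 28, 11, 10, 6, 3, 33, 2, 1],
  ![35, 1, 33, 3, 32, 5, 6, 31, 8, 30, 10, 28, 12, 27, 14, 15, 25, 17, 23, 21, 20, 19, 22, 18, 24, 16, 26, 13, 11, 29, 9, 7, 4, 2, 34, 0],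
  ![34, 33, 2, 3, 4, 32, 6, 7, 31, 29, 28, 11, 12, 13, 27, 15, 24, 23, 18, 22, 20, 21, 19, 17, 16, 25, 26, 14, 10, 9, 30, 8, 5, 1, 0, 35]]

def word : Fin 45 → Fin 4 → Fin 36 := ![![0, 3, 26, 27],
  ![0, 6, 15, 19],
  ![0, 9, 28, 33],
  ![0, 3, 20, 23],
  ![1, 10, 31, 32],
  ![1, 7, 15, 19],
  ![0, 6, 12, 16],
  ![2, 11, 31, 32],
  ![2, 5, 26, 27],
  ![0, 9, 31, 32],
  ![2, 8, 15, 19],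
  ![1, 4, 26, 27],
  ![0, 3, 6, 9],
  ![1, 15, 21, 31],
  ![1, 19, 24, 32],
  ![0, 15, 26, 33],
  ![4, 12, 26, 35],
  ![2, 14, 26, 32],
  ![0, 19, 27, 28],
  ![2, 18, 27, 31],
  ![4, 16, 27, 30],
  ![2, 15, 22, 31],
  ![5, 12, 26, 34],
  ![1, 17, 27, 31],
  ![2, 19, 25, 32],
  ![1, 13, 26, 32],
  ![5, 16, 27, 29],
  ![0, 12, 26, 32],
  ![2, 15, 26, 35],
  ![4, 14, 26, 33],
  ![1, 15, 26, 34],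
  ![3, 17, 27, 30],
  ![0, 15, 20, 31],
  ![5, 13, 26, 33],
  ![3, 18, 27, 29],
  ![0, 16, 23, 33],
  ![0, 16, 27, 31],
  ![4, 18, 27, 28],
  ![2, 19, 27, 30],
  ![5, 17, 27, 28],
  ![0, 12, 20, 28],
  ![3, 14, 26, 34],
  ![1, 19, 27, 29],
  ![0, 19, 23, 32],
  ![3, 13, 26, 35]]

local notation "I6" => ((Fin 2 ⊕ Fin 2) ⊕ Fin 2)
local notation "I5" => (Unit ⊕ (Fin 2 ⊕ Fin 2))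

def mk6 (c : Fin 6 → ZMod 2) : I6 → ZMod 2 := Sum.elim (Sum.elim ![c 0, c 1] ![c 2, c 3]) ![c 4, c 5]

def mk5 (c : Fin 5 → ZMod 3) : I5 → ZMod 3 := Sum.elim (fun _ => c 0) (Sum.elim ![c 1, c 2] ![c 3, c 4])

def q6 (v : I6 → ZMod 2) : ZMod 2 :=
  v (.inl (.inl 0)) * v (.inl (.inr 0)) + v (.inl (.inl 1)) * v (.inl (.inr 1)) +
    (v (.inr 0) * v (.inr 0) + v (.inr 0) * v (.inr 1) + v (.inr 1) * v (.inr 1))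

def q5 (v : I5 → ZMod 3) : ZMod 3 :=
  v (.inl ()) * v (.inl ()) + (v (.inr (.inl 0)) * v (.inr (.inr 0)) + v (.inr (.inl 1)) * v (.inr (.inr 1)))

def S6 (i : Fin 36) : I6 → ZMod 2 := mk6 (c6 i)

def S5 (i : Fin 36) : I5 → ZMod 3 := mk5 (c5 i)

def W5 (i : Fin 45) : I5 → ZMod 3 := mk5 (w5 i)

def rx {F : Type*} [Field F] {ι : Type} (q : (ι → F) → F) (v x : ι → F) : ι → F :=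
  x - ((q v)⁻¹ * (q (v + x) - q v - q x)) • v

theorem all6 : ∀ v : I6 → ZMod 2, (q6 v = 0 ∨ ∃ k, v = S6 k) ∧
    ((∀ j, q6 (v + S6 j) - q6 v - q6 (S6 j) = 0) → v = 0) := by decide +kernel

theorem all5 : ∀ v : I5 → ZMod 3, (q5 v = 0 ∨ (∃ k, v = S5 k ∨ v = -S5 k) ∨ ∃ w, v = W5 w ∨ v = -W5 w) ∧
    ((∀ j, q5 (v + S5 j) - q5 v - q5 (S5 j) = 0) → v = 0) := by decide +kernel

theorem uniq6 : ∀ i j, S6 i = S6 j ∨ S6 i = -S6 j → i = j := by decide +kernel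

theorem uniq5 : ∀ i j, S5 i = S5 j ∨ S5 i = -S5 j → i = j := by decide +kernel

theorem val6 : ∀ i, q6 (S6 i) = 1 := by decide +kernel

theorem val5 : ∀ i, q5 (S5 i) = 2 := by decide +kernel

theorem valW : ∀ i, q5 (W5 i) = 1 := by decide +kernel

theorem tab6 : ∀ i j, rx q6 (S6 i) (S6 j) = S6 (tab i j) ∨ rx q6 (S6 i) (S6 j) = -S6 (tab i j) := by decide +kernel

theorem tab5 : ∀ i j, rx q5 (S5 i) (S5 j) = S5 (tab i j) ∨ rx q5 (S5 i) (S5 j) = -S5 (tab i j) := by decide +kernel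

def wimg (w : Fin 45) (j : Fin 36) : Fin 36 :=
  tab (word w 0) (tab (word w 1) (tab (word w 2) (tab (word w 3) j)))

theorem tabW : ∀ w j, rx q5 (W5 w) (S5 j) = S5 (wimg w j) ∨ rx q5 (W5 w) (S5 j) = -S5 (wimg w j) := by decide +kernel

theorem link5 : ∀ j, ∃ k, q5 (S5 0 + S5 k) - q5 (S5 0) - q5 (S5 k) ≠ 0 ∧ q5 (S5 k + S5 j) - q5 (S5 k) - q5 (S5 j) ≠ 0 := by
  decide +kernel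

theorem hab2 : ∀ z₁ z₂ : ZMod 2, z₁ ^ 2 + 1 * z₁ * z₂ + 1 * z₂ ^ 2 = 0 → z₁ = 0 ∧ z₂ = 0 := by decide +kernel

theorem z2 : (0 : ZMod 2) ≠ 1 := by decide

theorem z3 : (0 : ZMod 3) ≠ 2 ∧ (1 : ZMod 3) ≠ 2 ∧ (2 : ZMod 3) ≠ 0 ∧ (3 : ZMod 3) = 0 ∧ (-1 : ZMod 3) ≠ 1 := by decide

end Cfsg.Agent.Classical.ThirtySix
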