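import Cfsg.Agent.Lib.Classical.Reflections
import Cfsg.Agent.Lib.Classical.WittDecomp
import Cfsg.Agent.S0301
import Cfsg.Agent.S0303
import Cfsg.Agent.Lib.Classical.ThirtySixData

/-!
# The thirty-six point graph of `O⁻₆(2)` and `O₅(3)`
-/

set_option autoImplicit false
set_option linter.style.haveILetI false
set_option maxHeartbeats 1000000
set_option maxRecDepth 100000

open Cfsg Cfsg.Agent.Classical Module QuadraticMap

namespace Cfsg.Agent.Classical.ThirtySix

local notation "I6" => ((Fin 2 ⊕ Fin 2) ⊕ Fin 2)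
local notation "I5" => (Unit ⊕ (Fin 2 ⊕ Fin 2))

/-- The odd form. -/
noncomputable def Q5 : QuadraticForm (ZMod 3) (I5 → ZMod 3) :=
  (QuadraticMap.sq (R := ZMod 3)).comp (LinearMap.proj (R := ZMod 3) (φ := fun _ : I5 => ZMod 3) (Sum.inl ())) +
    (PlusMax.QP (F := ZMod 3) (m := 2)).comp (LinearMap.funLeft (ZMod 3) (ZMod 3) Sum.inr)

section
variable {F : Type} [Field F] [Fintype F] [DecidableEq F] {ι : Type} [Fintype ι] [DecidableEq ι]
  (Q : QuadraticForm F (ι → F)) (c : F) (S : Fin 36 → ι → F)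

/-- The hypotheses on a list of representatives. -/
structure Rep : Prop where
  val : ∀ i, Q (S i) = c
  cover : ∀ v, Q v = c → ∃ k, v = S k ∨ v = -S k
  uniq : ∀ i j, S i = S j ∨ S i = -S j → i = j

variable {Q c S} (h : Rep Q c S)
include h

theorem exists_img (g : Refl.O Q) (j : Fin 36) : ∃ k, Refl.act Q g (S j) = S k ∨ Refl.act Q g (S j) = -S k :=
  h.cover _ (by rw [Refl.Q_act, h.val])

/-- The image of a point. -/
noncomputable def img (g : Refl.O Q) (j : Fin 36) : Fin 36 := (exists_img h g j).choose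

theorem img_eq (g : Refl.O Q) {j k : Fin 36} (e : Refl.act Q g (S j) = S k ∨ Refl.act Q g (S j) = -S k) :
    img h g j = k := by
  refine h.uniq _ _ ?_
  rcases (exists_img h g j).choose_spec with e1 | e1 <;> rcases e with e2 | e2 <;> rw [e1] at e2
  · exact Or.inl e2
  · exact Or.inr e2
  · exact Or.inr (neg_eq_iff_eq_neg.1 e2)
  · exact Or.inl (neg_injective e2)

theorem act_neg' (g : Refl.O Q) (x : ι → F) : Refl.act Q g (-x) = -Refl.act Q g x := Matrix.mulVec_neg _ _

theorem img_one (j : Fin 36) : img h 1 j = j := img_eq h 1 (Or.inl (Matrix.one_mulVec _))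

theorem img_mul (g g' : Refl.O Q) (j : Fin 36) : img h (g * g') j = img h g (img h g' j) := by
  refine img_eq h _ ?_
  rw [Refl.act_mul]
  rcases (exists_img h g' j).choose_spec with e | e <;> rw [e]
  · exact (exists_img h g _).choose_spec
  · rw [act_neg' h]
    rcases (exists_img h g (img h g' j)).choose_spec with e' | e'
    · exact Or.inr (congrArg (fun x => -x) e')
    · exact Or.inl ((congrArg (fun x => -x) e').trans (neg_neg _))

/-- The permutation representation. -/
noncomputable def perm : Refl.O Q →* Equiv.Perm (Fin 36) where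
  toFun g :=
    { toFun := img h g
      invFun := img h g⁻¹
      left_inv := fun j => by rw [← img_mul, inv_mul_cancel, img_one]
      right_inv := fun j => by rw [← img_mul, mul_inv_cancel, img_one] }
  map_one' := Equiv.ext fun j => img_one h j
  map_mul' g g' := Equiv.ext fun j => img_mul h g g' j

theorem perm_apply (g : Refl.O Q) (j : Fin 36) : perm h g j = img h g j := rfl

theorem perm_refl {v : ι → F} (hv : Q v ≠ 0) {t : Fin 36 → Fin 36}
    (ht : ∀ j, rx Q v (S j) = S (t j) ∨ rx Q v (S j) = -S (t j)) (j : Fin 36) :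
    perm h (Refl.refl Q v hv) j = t j := by
  refine img_eq h _ ?_
  rw [Refl.act_refl]
  exact ht j

theorem perm_ker {g : Refl.O Q} (hg : perm h g = 1) (j : Fin 36) :
    Refl.act Q g (S j) = S j ∨ Refl.act Q g (S j) = -S j := by
  have e : img h g j = j := Equiv.congr_fun hg j
  have := (exists_img h g j).choose_spec
  rw [show (exists_img h g j).choose = j from e] at this
  exact this

theorem perm_neg {v w : ι → F} (hv : Q v ≠ 0) (hw : Q w ≠ 0) (e : v = w ∨ v = -w) :
    Refl.refl Q v hv = Refl.refl Q w hw := by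
  refine Subtype.ext (Units.ext (Matrix.toLin'.injective (LinearMap.ext fun x => ?_)))
  show Refl.lin Q (Refl.refl Q v hv) x = Refl.lin Q (Refl.refl Q w hw) x
  rw [Refl.lin_apply, Refl.lin_apply, Refl.act_refl, Refl.act_refl]
  rcases e with rfl | rfl
  · rfl
  · rw [QuadraticMap.map_neg, polar_neg_left, mul_neg, neg_smul_neg]

end

theorem equiv : Nonempty (Cfsg.POmega (ZMod 2) (Cfsg.quadFormMinus 2 (ZMod 2) 1 1) ≃*
    Cfsg.POmega (ZMod 3) (Cfsg.quadFormOdd 2 (ZMod 3))) := by
  classical
  have hab := hab2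
  set Q6 := WittDec.QM (F := ZMod 2) 2 1 1 with hQ6
  have e6 : Cfsg.quadFormMinus 2 (ZMod 2) 1 1 = ⇑Q6 := funext fun v => (WittDec.QM_apply _ _ _ v).symm
  have f6 : ∀ v, Q6 v = q6 v := fun v => by
    rw [← congrFun e6 v]
    simp only [Cfsg.quadFormMinus, q6, Fin.sum_univ_two]
    ring
  have e5 : Cfsg.quadFormOdd 2 (ZMod 3) = ⇑Q5 := funext fun v => by
    show _ = v (Sum.inl ()) * v (Sum.inl ()) + PlusMax.QP (fun i => v (Sum.inr i))
    rw [← pow_two]; rfl
  have f5 : ∀ v, Q5 v = q5 v := fun v => by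
    rw [← congrFun e5 v]
    simp only [Cfsg.quadFormOdd, q5, Fin.sum_univ_two]
    ring
  have g6 : (⇑Q6 : (I6 → ZMod 2) → ZMod 2) = q6 := funext f6
  have g5 : (⇑Q5 : (I5 → ZMod 3) → ZMod 3) = q5 := funext f5
  have h6 : Rep Q6 1 S6 := ⟨fun i => (f6 _).trans (val6 i), fun v hv => by
    rcases (all6 v).1 with h0 | ⟨k, hk⟩
    · rw [f6, h0] at hv; exact absurd hv z2
    · exact ⟨k, Or.inl hk⟩, uniq6⟩
  have h5 : Rep Q5 2 S5 := ⟨fun i => (f5 _).trans (val5 i), fun v hv => by
    rcases (all5 v).1 with h0 | hk | ⟨w, hw⟩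
    · rw [f5, h0] at hv; exact absurd hv z3.1
    · exact hk
    · exfalso
      have : Q5 v = 1 := by rcases hw with rfl | rfl <;> simp [QuadraticMap.map_neg, f5 (W5 w), valW w]
      rw [this] at hv; exact absurd hv z3.2.1, uniq5⟩
  have hnd5 : (polarBilin Q5).Nondegenerate := by
    have h1 : ∀ u, (∀ v, polar Q5 u v = 0) → u = 0 := fun u hu => (all5 u).2 fun j => by
      have := hu (S5 j)
      rwa [polar, g5] at this
    exact ⟨h1, fun y hy => h1 y fun x => by rw [polar_comm]; exact hy x⟩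
  have hnd6 := WittDec.QM_nondeg (F := ZMod 2) 2 1 1 hab
  have hv6 : ∀ i, Q6 (S6 i) ≠ 0 := fun i => by rw [h6.val]; exact one_ne_zero
  have hv5 : ∀ i, Q5 (S5 i) ≠ 0 := fun i => by rw [h5.val]; exact z3.2.2.1
  have hw5 : ∀ i, Q5 (W5 i) ≠ 0 := fun i => by rw [f5, valW]; exact one_ne_zero
  set s : Fin 36 → Equiv.Perm (Fin 36) := fun i => perm h6 (Refl.refl Q6 (S6 i) (hv6 i)) with hs
  have hs6 : ∀ i j, s i j = tab i j := fun i => perm_refl h6 (hv6 i) fun j => by rw [g6]; exact tab6 i j
  have hs5 : ∀ i, perm h5 (Refl.refl Q5 (S5 i) (hv5 i)) = s i := fun i => Equiv.ext fun j => by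
    rw [hs6]; exact perm_refl h5 (hv5 i) (fun j => by rw [g5]; exact tab5 i j) j
  have r6 : (perm h6).range = Subgroup.closure (Set.range s) := by
    refine le_antisymm ?_ ((Subgroup.closure_le _).2 (by rintro _ ⟨i, rfl⟩; exact ⟨_, rfl⟩))
    rw [MonoidHom.range_eq_map, ← Refl.eq_top Q6 hnd6 (Or.inr (by simp)), Refl.R, MonoidHom.map_closure,
      Subgroup.closure_le]
    rintro _ ⟨g, ⟨v, hv, hg⟩, rfl⟩
    rcases (all6 v).1 with h0 | ⟨k, hk⟩
    · exact absurd ((f6 v).trans h0) hv
    · rw [show g = Refl.refl Q6 v hv from Subtype.ext (Units.ext hg), perm_neg h6 hv (hv6 k) (Or.inl hk)]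
      exact Subgroup.subset_closure ⟨k, rfl⟩
  have r5 : (perm h5).range = Subgroup.closure (Set.range s) := by
    refine le_antisymm ?_ ((Subgroup.closure_le _).2 (by rintro _ ⟨i, rfl⟩; exact ⟨_, hs5 i⟩))
    rw [MonoidHom.range_eq_map, ← Refl.eq_top Q5 hnd5 (Or.inr (by simp)), Refl.R, MonoidHom.map_closure,
      Subgroup.closure_le]
    rintro _ ⟨g, ⟨v, hv, hg⟩, rfl⟩
    rw [show g = Refl.refl Q5 v hv from Subtype.ext (Units.ext hg)]
    rcases (all5 v).1 with h0 | ⟨k, hk⟩ | ⟨w, hw⟩
    · exact absurd ((f5 v).trans h0) hv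
    · rw [perm_neg h5 hv (hv5 k) hk, hs5]
      exact Subgroup.subset_closure ⟨k, rfl⟩
    · rw [perm_neg h5 hv (hw5 w) hw]
      have e : perm h5 (Refl.refl Q5 (W5 w) (hw5 w)) = s (word w 0) * (s (word w 1) * (s (word w 2) * s (word w 3))) :=
        Equiv.ext fun j => by
          rw [perm_refl h5 (hw5 w) (t := wimg w) (fun j => by rw [g5]; exact tabW w j)]
          simp only [Equiv.Perm.mul_apply, hs6]
          rfl
      rw [e]
      exact mul_mem (Subgroup.subset_closure ⟨_, rfl⟩) (mul_mem (Subgroup.subset_closure ⟨_, rfl⟩)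
        (mul_mem (Subgroup.subset_closure ⟨_, rfl⟩) (Subgroup.subset_closure ⟨_, rfl⟩)))
  have i6 : Function.Injective ((perm h6).comp (commutator (Refl.O Q6)).subtype) := by
    rw [← MonoidHom.ker_eq_bot_iff, eq_bot_iff]
    intro g hg
    refine Subgroup.mem_bot.2 (Subtype.ext (Subtype.ext (Units.ext (Matrix.toLin'.injective (LinearMap.ext fun x => ?_)))))
    show Refl.lin Q6 (g : Refl.O Q6) x = Matrix.toLin' 1 x
    rw [Matrix.toLin'_one, LinearMap.id_apply, Refl.lin_apply, ← sub_eq_zero]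
    refine (all6 _).2 fun j => ?_
    have hj : Refl.act Q6 (g : Refl.O Q6) (S6 j) = S6 j := by
      rcases perm_ker h6 (show perm h6 (g : Refl.O Q6) = 1 from MonoidHom.mem_ker.1 hg) j with e | e
      · exact e
      · rw [e]; funext i; exact CharTwo.neg_eq _
    show _ = 0
    rw [← g6, ← polar, polar_sub_left]
    nth_rewrite 1 [← hj]
    rw [Refl.polar_act, sub_self]
  have i5 : Function.Injective ((perm h5).comp (commutator (Refl.O Q5)).subtype) := by
    rw [← MonoidHom.ker_eq_bot_iff, eq_bot_iff]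
    intro g hg
    have hk := perm_ker h5 (g := (g : Refl.O Q5)) (show perm h5 (g : Refl.O Q5) = 1 from MonoidHom.mem_ker.1 hg)
    obtain ⟨ε, hε, h0⟩ : ∃ ε : ZMod 3, (ε = 1 ∨ ε = -1) ∧ Refl.act Q5 (g : Refl.O Q5) (S5 0) = ε • S5 0 := by
      rcases hk 0 with e | e
      · exact ⟨1, Or.inl rfl, by rw [one_smul]; exact e⟩
      · exact ⟨-1, Or.inr rfl, by rw [neg_one_smul]; exact e⟩
    have step : ∀ i j, polar Q5 (S5 i) (S5 j) ≠ 0 → Refl.act Q5 (g : Refl.O Q5) (S5 i) = ε • S5 i →
        Refl.act Q5 (g : Refl.O Q5) (S5 j) = ε • S5 j := fun i j hp hi => by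
      have := Refl.polar_act Q5 (g : Refl.O Q5) (S5 i) (S5 j)
      rw [hi] at this
      rcases hk j with e | e <;> rw [e] at this ⊢ <;> simp only [polar_smul_left, polar_neg_right, smul_eq_mul] at this <;>
        rcases hε with rfl | rfl
      · rw [one_smul]
      · exfalso; apply hp; linear_combination this + polar Q5 (S5 i) (S5 j) * z3.2.2.2.1
      · exfalso; apply hp; linear_combination this + polar Q5 (S5 i) (S5 j) * z3.2.2.2.1
      · rw [neg_one_smul]
    have hall : ∀ j, Refl.act Q5 (g : Refl.O Q5) (S5 j) = ε • S5 j := fun j => by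
      obtain ⟨k, hk1, hk2⟩ := link5 j
      rw [← g5] at hk1 hk2
      exact step k j hk2 (step 0 k hk1 h0)
    have hx : ∀ x, Refl.act Q5 (g : Refl.O Q5) x = ε • x := fun x => sub_eq_zero.1 ((all5 _).2 fun j => by
      show _ = 0
      rw [← g5, ← polar, polar_sub_left, polar_smul_left]
      have := Refl.polar_act Q5 (g : Refl.O Q5) x (S5 j)
      rw [hall, polar_smul_right] at this
      simp only [smul_eq_mul] at this ⊢
      rcases hε with rfl | rfl
      · linear_combination this
      · linear_combination -this)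
    have hM : (((g : Refl.O Q5) : GL I5 (ZMod 3)) : Matrix I5 I5 (ZMod 3)) = ε • 1 :=
      Matrix.toLin'.injective (LinearMap.ext fun x => by
        rw [Matrix.toLin'_apply, Matrix.toLin'_apply, Matrix.smul_mulVec, Matrix.one_mulVec]; exact hx x)
    have hdet : (((g : Refl.O Q5) : GL I5 (ZMod 3)) : Matrix I5 I5 (ZMod 3)).det = 1 := by
      have h1 := Abelianization.commutator_subset_ker
        ((Matrix.GeneralLinearGroup.det).comp (Refl.O Q5).subtype) g.2
      rw [MonoidHom.mem_ker, MonoidHom.comp_apply] at h1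
      have h2 := congrArg Units.val h1
      rw [Matrix.GeneralLinearGroup.val_det_apply, Units.val_one] at h2
      exact h2
    refine Subgroup.mem_bot.2 (Subtype.ext (Subtype.ext (Units.ext ?_)))
    rw [hM] at hdet ⊢
    rcases hε with rfl | rfl
    · rw [one_smul]; rfl
    · rw [Matrix.det_smul, Matrix.det_one] at hdet
      simp at hdet
      exact absurd hdet z3.2.2.2.2
  have hr : ((perm h6).comp (commutator (Refl.O Q6)).subtype).range =
      ((perm h5).comp (commutator (Refl.O Q5)).subtype).range := by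
    rw [MonoidHom.range_comp, MonoidHom.range_comp, Subgroup.range_subtype, Subgroup.range_subtype,
      commutator_def, commutator_def, Subgroup.map_commutator, Subgroup.map_commutator,
      ← MonoidHom.range_eq_map, ← MonoidHom.range_eq_map, r6, r5]
  let E : commutator (Refl.O Q6) ≃* commutator (Refl.O Q5) :=
    ((MonoidHom.ofInjective i6).trans (MulEquiv.subgroupCongr hr)).trans (MonoidHom.ofInjective i5).symm
  rw [e6, e5]
  refine ⟨QuotientGroup.congr _ _ E ?_⟩
  ext x
  simp only [Subgroup.mem_map, Subgroup.mem_center_iff]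
  constructor
  · rintro ⟨y, hy, rfl⟩ z
    obtain ⟨z, rfl⟩ := E.surjective z
    exact (E.map_mul z y).symm.trans ((congrArg E (hy z)).trans (E.map_mul y z))
  · intro hx
    exact ⟨E.symm x, fun z => E.injective (by rw [map_mul, map_mul, E.apply_symm_apply]; exact hx _), E.apply_symm_apply x⟩

theorem map_mem_symplectic {A B : Type*} [Field A] [Field B] {m : ℕ} (f : A →+* B) (M : Matrix.symplecticGroup (Fin m) A) :
    (M : Matrix (Fin m ⊕ Fin m) (Fin m ⊕ Fin m) A).map f ∈ Matrix.symplecticGroup (Fin m) B := by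
  rw [SymplecticGroup.mem_iff]
  have h := congrArg (fun X : Matrix (Fin m ⊕ Fin m) (Fin m ⊕ Fin m) A => X.map f) (SymplecticGroup.mem_iff.1 M.2)
  simp only [Matrix.map_mul, Matrix.transpose_map] at h
  have hj : (Matrix.J (Fin m) A).map f = Matrix.J (Fin m) B := by
    ext (i | i) (j | j) <;> simp [Matrix.J, Matrix.one_apply, apply_ite f]
  rwa [hj] at h

/-- Symplectic groups over isomorphic fields. -/
theorem psp_congr {F K : Type*} [Field F] [Field K] (e : F ≃+* K) (m : ℕ) :
    Nonempty (Cfsg.PSp m F ≃* Cfsg.PSp m K) := by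
  let E : Matrix.symplecticGroup (Fin m) F ≃* Matrix.symplecticGroup (Fin m) K :=
    { toFun := fun M => ⟨(M : Matrix (Fin m ⊕ Fin m) (Fin m ⊕ Fin m) F).map e.toRingHom, map_mem_symplectic e.toRingHom M⟩
      invFun := fun M => ⟨(M : Matrix (Fin m ⊕ Fin m) (Fin m ⊕ Fin m) K).map e.symm.toRingHom, map_mem_symplectic e.symm.toRingHom M⟩
      left_inv := fun M => Subtype.ext (Matrix.ext fun i j => by
        simp only [Matrix.map_apply]; exact e.symm_apply_apply _)
      right_inv := fun M => Subtype.ext (Matrix.ext fun i j => by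
        simp only [Matrix.map_apply]; exact e.apply_symm_apply _)
      map_mul' := fun M N => Subtype.ext Matrix.map_mul }
  refine ⟨QuotientGroup.congr _ _ E ?_⟩
  ext x
  simp only [Subgroup.mem_map, Subgroup.mem_center_iff]
  constructor
  · rintro ⟨y, hy, rfl⟩ z
    obtain ⟨z, rfl⟩ := E.surjective z
    exact (E.map_mul z y).symm.trans ((congrArg E (hy z)).trans (E.map_mul y z))
  · intro hx
    exact ⟨E.symm x, fun z => E.injective (by rw [map_mul, map_mul, E.apply_symm_apply]; exact hx _), E.apply_symm_apply x⟩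

end Cfsg.Agent.Classical.ThirtySix
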