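import Mathlib

namespace Cfsg.Agent.Lib.TransvectionSylowFive

open Matrix

abbrev F := ZMod 2
abbrev SL5 := Matrix.SpecialLinearGroup (Fin 5) F

/-- An ordering of the coordinates with `0` first and `1` last. -/
def rk : Fin 5 → Fin 5 := ![0, 4, 1, 2, 3]

theorem rk_injective : Function.Injective rk := by decide

def IsUni (M : Matrix (Fin 5) (Fin 5) F) : Prop := (∀ i j, rk j < rk i → M i j = 0) ∧ ∀ i, M i i = 1

theorem IsUni.mul {A B : Matrix (Fin 5) (Fin 5) F} (hA : IsUni A) (hB : IsUni B) : IsUni (A * B) := by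
  refine ⟨fun i j h => ?_, fun i => ?_⟩
  · rw [mul_apply]
    refine Finset.sum_eq_zero fun k _ => ?_
    rcases lt_or_ge (rk k) (rk i) with h' | h'
    · rw [hA.1 i k h', zero_mul]
    · rw [hB.1 k j (lt_of_lt_of_le h h'), mul_zero]
  · rw [mul_apply, Finset.sum_eq_single i, hA.2, hB.2, one_mul]
    · intro k _ hk
      rcases lt_or_gt_of_ne (rk_injective.ne hk) with h | h
      · rw [hA.1 i k h, zero_mul]
      · rw [hB.1 k i h, mul_zero]
    · simp

theorem IsUni.one : IsUni (1 : Matrix (Fin 5) (Fin 5) F) :=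
  ⟨fun i j h => one_apply_ne (by rintro rfl; exact lt_irrefl _ h), fun i => one_apply_eq i⟩

theorem IsUni.det {M : Matrix (Fin 5) (Fin 5) F} (h : IsUni M) : M.det = 1 := by
  have hb : M.BlockTriangular rk := fun i j hij => h.1 i j hij
  rw [hb.det_fintype]
  refine Finset.prod_eq_one fun k _ => ?_
  obtain ⟨i, rfl⟩ := Finite.injective_iff_surjective.mp rk_injective k
  haveI : Unique {a // rk a = rk i} := ⟨⟨⟨i, rfl⟩⟩, fun a => Subtype.ext (rk_injective a.2)⟩
  rw [det_unique]
  exact h.2 _

/-- The unitriangular monoid for the ordering `rk`. -/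
def Umon : Submonoid SL5 where
  carrier := {x | IsUni (x : Matrix (Fin 5) (Fin 5) F)}
  one_mem' := by simp [IsUni.one]
  mul_mem' := fun {a b} ha hb => by simpa using IsUni.mul ha hb

/-- The unitriangular group for the ordering `rk`. -/
def U : Subgroup SL5 :=
  { Umon with
    inv_mem' := fun {a} ha => by
      rw [inv_eq_of_mul_eq_one_right (b := a ^ (orderOf a - 1)) (by
        rw [← pow_succ', Nat.sub_add_cancel (orderOf_pos a), pow_orderOf_eq_one])]
      exact Umon.pow_mem ha _ }

theorem mem_U {x : SL5} : x ∈ U ↔ IsUni (x : Matrix (Fin 5) (Fin 5) F) := Iff.rfl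

abbrev Pos := {p : Fin 5 × Fin 5 // rk p.1 < rk p.2}

def mat (f : Pos → F) : Matrix (Fin 5) (Fin 5) F :=
  of fun i j => if h : rk i < rk j then f ⟨(i, j), h⟩ else if i = j then 1 else 0

theorem isUni_mat (f : Pos → F) : IsUni (mat f) := by
  refine ⟨fun i j h => ?_, fun i => ?_⟩
  · rw [mat, of_apply, dif_neg (not_lt.mpr h.le), if_neg]
    rintro rfl
    exact lt_irrefl _ h
  · rw [mat, of_apply, dif_neg (lt_irrefl _), if_pos rfl]

theorem card_U : Nat.card U = 2 ^ 10 := by
  let e : U ≃ (Pos → F) :=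
    { toFun := fun x p => (x.1 : Matrix (Fin 5) (Fin 5) F) p.1.1 p.1.2
      invFun := fun f => ⟨⟨mat f, (isUni_mat f).det⟩, isUni_mat f⟩
      left_inv := fun x => by
        apply Subtype.ext; apply Subtype.ext
        ext i j
        show (mat fun p => (x.1 : Matrix (Fin 5) (Fin 5) F) p.1.1 p.1.2) i j =
          (x.1 : Matrix (Fin 5) (Fin 5) F) i j
        rw [mat, of_apply]
        rcases lt_trichotomy (rk i) (rk j) with h | h | h
        · rw [dif_pos h]
        · obtain rfl := rk_injective h
          rw [dif_neg (lt_irrefl _), if_pos rfl]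
          exact (x.2.2 i).symm
        · rw [dif_neg (not_lt.mpr h.le), if_neg (by rintro rfl; exact lt_irrefl _ h)]
          exact (x.2.1 i j h).symm
      right_inv := fun f => by
        funext p
        show mat f p.1.1 p.1.2 = f p
        rw [mat, of_apply, dif_pos p.2] }
  rw [Nat.card_congr e, Nat.card_pi, Finset.prod_const, Nat.card_zmod,
    Finset.card_univ, show Fintype.card Pos = 10 by decide]

def tv (i j : Fin 5) (h : i ≠ j) : SL5 := ⟨transvection i j 1, det_transvection_of_ne i j h 1⟩

theorem tv_mem (i j : Fin 5) (h : rk i < rk j) :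
    tv i j (by rintro rfl; exact lt_irrefl _ h) ∈ U := by
  have : transvection i j (1 : F) = mat fun p => if p.1 = (i, j) then 1 else 0 := by
    ext a b
    rw [mat, of_apply, transvection, Matrix.add_apply, one_apply]
    by_cases hab : rk a < rk b
    · rw [dif_pos hab, if_neg (by rintro rfl; exact lt_irrefl _ hab), zero_add, single_apply]
      simp [Prod.ext_iff, eq_comm]
    · rw [dif_neg hab, single_apply_of_ne _ _ _ _ _ (by rintro ⟨rfl, rfl⟩; exact hab h), add_zero]
  show IsUni (transvection i j (1 : F))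
  rw [this]
  exact isUni_mat _

theorem card_SL_dvd {k : ℕ} (h : 2 ^ k ∣ Nat.card SL5) : k ≤ 10 := by
  have hsl : Nat.card SL5 ∣ Nat.card (GL (Fin 5) F) :=
    Subgroup.card_dvd_of_injective _ Matrix.SpecialLinearGroup.toGL_injective
  have h' := h.trans hsl
  rw [Matrix.card_GL_field] at h'
  simp only [ZMod.card, Fin.prod_univ_succ, Fin.prod_univ_zero] at h'
  norm_num at h'
  by_contra hk
  have : (2 : ℕ) ^ 11 ∣ 9999360 := (pow_dvd_pow 2 (by omega : 11 ≤ k)).trans h'
  norm_num at this

theorem centre_U {x : SL5} (hx : x ∈ U) (hc : ∀ y ∈ U, x * y = y * x) (hne : x ≠ 1) (s : SL5)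
    (hs : (s : Matrix (Fin 5) (Fin 5) F) = transvection 0 1 1) : x = s := by
  set M := (x : Matrix (Fin 5) (Fin 5) F) with hM
  have key : ∀ i j : Fin 5, rk i < rk j → (∀ a, a ≠ i → M a i = 0) ∧ (∀ b, b ≠ j → M j b = 0) := by
    intro i j hij
    have h : M * transvection i j (1 : F) = transvection i j (1 : F) * M :=
      congrArg Subtype.val (hc _ (tv_mem i j hij))
    refine ⟨fun a ha => ?_, fun b hb => ?_⟩
    · have := congrFun (congrFun h a) j
      rw [mul_transvection_apply_same, transvection_mul_apply_of_ne _ _ _ _ ha, one_mul] at this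
      exact add_eq_left.mp this
    · have := congrFun (congrFun h i) b
      rw [transvection_mul_apply_same, mul_transvection_apply_of_ne _ _ _ _ hb, one_mul] at this
      exact (add_eq_left.mp this.symm)
  have hcol : ∀ i, i ≠ 1 → ∀ a, a ≠ i → M a i = 0 := fun i hi =>
    (key i 1 ((by decide : ∀ i : Fin 5, i ≠ 1 → rk i < rk 1) i hi)).1
  have hrow : ∀ j, j ≠ 0 → ∀ b, b ≠ j → M j b = 0 := fun j hj =>
    (key 0 j ((by decide : ∀ j : Fin 5, j ≠ 0 → rk 0 < rk j) j hj)).2
  have hdiag : ∀ i, M i i = 1 := hx.2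
  have hform : ∀ c : F, M 0 1 = c → M = (1 : Matrix (Fin 5) (Fin 5) F) + Matrix.single 0 1 c := by
    intro c hc'
    ext a b
    rw [Matrix.add_apply, one_apply]
    by_cases hab : a = b
    · subst hab
      rw [if_pos rfl, single_apply_of_ne _ _ _ _ _ (by rintro ⟨rfl, h⟩; exact absurd h (by decide)),
        add_zero, hdiag]
    · rw [if_neg hab, zero_add]
      by_cases h01 : a = 0 ∧ b = 1
      · obtain ⟨rfl, rfl⟩ := h01
        rw [single_apply_same, hc']
      · rw [single_apply_of_ne _ _ _ _ _ (by rintro ⟨rfl, rfl⟩; exact h01 ⟨rfl, rfl⟩)]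
        by_cases hb : b = 1
        · exact hrow a (fun h => h01 ⟨h, hb⟩) b (Ne.symm hab)
        · exact hcol b hb a hab
  rcases (by decide : ∀ c : F, c = 0 ∨ c = 1) (M 0 1) with h | h
  · exfalso
    apply hne
    apply Subtype.ext
    have := hform 0 h
    simp at this
    exact this
  · apply Subtype.ext
    rw [hs, ← hM, hform 1 h]
    rfl

theorem main {G : Type*} [Group G] [Finite G] (s : SL5)
    (hs : (s : Matrix (Fin 5) (Fin 5) F) = Matrix.transvection 0 1 1) (z : G) (hz : orderOf z = 2)
    (e : (Subgroup.centralizer ({z} : Set G)) ≃* Subgroup.centralizer ({s} : Set SL5))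
    (T : Sylow 2 (Subgroup.centralizer ({z} : Set G))) :
    ¬ 2 ∣ ((T : Subgroup (Subgroup.centralizer ({z} : Set G))).map
      (Subgroup.subtype (Subgroup.centralizer ({z} : Set G)))).index := by
  haveI := Fact.mk Nat.prime_two
  set C := Subgroup.centralizer ({s} : Set SL5) with hC
  have hUC : U ≤ C := by
    intro x hx
    rw [hC, Subgroup.mem_centralizer_singleton_iff]
    apply Subtype.ext
    show (x : Matrix (Fin 5) (Fin 5) F) * (s : Matrix (Fin 5) (Fin 5) F) = (s : Matrix (Fin 5) (Fin 5) F) * (x : Matrix (Fin 5) (Fin 5) F)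
    rw [hs]
    ext a b
    have c0 : ∀ a, a ≠ 0 → (x : Matrix (Fin 5) (Fin 5) F) a 0 = 0 := fun a ha =>
      hx.1 a 0 ((by decide : ∀ a : Fin 5, a ≠ 0 → rk 0 < rk a) a ha)
    have r1 : ∀ b, b ≠ 1 → (x : Matrix (Fin 5) (Fin 5) F) 1 b = 0 := fun b hb =>
      hx.1 1 b ((by decide : ∀ b : Fin 5, b ≠ 1 → rk b < rk 1) b hb)
    by_cases ha : a = 0
    · subst ha
      rw [transvection_mul_apply_same]
      by_cases hb : b = 1
      · subst hb
        rw [mul_transvection_apply_same, hx.2, hx.2]
      · rw [mul_transvection_apply_of_ne _ _ _ _ hb, r1 b hb, mul_zero, add_zero]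
    · rw [transvection_mul_apply_of_ne _ _ _ _ ha]
      by_cases hb : b = 1
      · subst hb
        rw [mul_transvection_apply_same, c0 a ha, mul_zero, add_zero]
      · rw [mul_transvection_apply_of_ne _ _ _ _ hb]
  have hsU : s ∈ U := by
    have : s = tv 0 1 (by decide) := Subtype.ext hs
    rw [this]
    exact tv_mem 0 1 (by decide)
  have hUc : Nat.card (U.subgroupOf C) = 2 ^ 10 :=
    (Nat.card_congr (Subgroup.subgroupOfEquivOfLe hUC).toEquiv).trans card_U
  have hUs : Nat.card (U.subgroupOf C) = 2 ^ (Nat.card C).factorization 2 := by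
    rw [hUc]
    congr 1
    apply le_antisymm
    · refine (Nat.Prime.pow_dvd_iff_le_factorization Nat.prime_two Nat.card_pos.ne').mp ?_
      rw [← hUc]
      exact Subgroup.card_subgroup_dvd_card _
    · exact card_SL_dvd ((Nat.ordProj_dvd _ _).trans (Subgroup.card_subgroup_dvd_card _))
  -- the transported Sylow subgroup is conjugate to the unitriangular group
  set T' : Sylow 2 C := Sylow.ofCard ((T : Subgroup _).map e.toMonoidHom) (by
    rw [Subgroup.card_map_of_injective e.injective, Sylow.card_eq_multiplicity,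
      Nat.card_congr e.toEquiv]) with hT'
  obtain ⟨c, hc⟩ := MulAction.exists_smul_eq C (Sylow.ofCard (U.subgroupOf C) hUs) T'
  have hmem : ∀ y, (y ∈ (T : Subgroup (Subgroup.centralizer ({z} : Set G)))) ↔
      ((c⁻¹ * e y * c : C) : SL5) ∈ U := by
    intro y
    have h1 : y ∈ (T : Subgroup (Subgroup.centralizer ({z} : Set G))) ↔ e y ∈ (T' : Subgroup C) := by
      rw [hT', Sylow.coe_ofCard]
      exact (Subgroup.mem_map_iff_mem e.injective).symm
    rw [h1, ← hc]
    rw [Sylow.coe_subgroup_smul, Subgroup.mem_pointwise_smul_iff_inv_smul_mem, Sylow.coe_ofCard,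
      Subgroup.mem_subgroupOf]
    simp [MulAut.smul_def]
  set zc : Subgroup.centralizer ({z} : Set G) := ⟨z, Subgroup.mem_centralizer_singleton_iff.mpr rfl⟩
  have hzne : zc ≠ 1 := fun h => by
    have : z = 1 := congrArg Subtype.val h
    rw [this, orderOf_one] at hz
    norm_num at hz
  have hzcomm : ∀ y : Subgroup.centralizer ({z} : Set G), y * zc = zc * y := fun y =>
    Subtype.ext (Subgroup.mem_centralizer_singleton_iff.mp y.2)
  have huniq : ∀ y ∈ (T : Subgroup (Subgroup.centralizer ({z} : Set G))),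
      (∀ t ∈ (T : Subgroup (Subgroup.centralizer ({z} : Set G))), y * t = t * y) → y ≠ 1 →
      ((c⁻¹ * e y * c : C) : SL5) = s := by
    intro y hy hcy hne
    refine centre_U ((hmem y).mp hy) ?_ ?_ s hs
    · intro u hu
      have ht : e.symm (c * ⟨u, hUC hu⟩ * c⁻¹) ∈ (T : Subgroup (Subgroup.centralizer ({z} : Set G))) := by
        rw [hmem]
        simp [mul_assoc, hu]
      have h2 := congrArg e (hcy _ ht)
      simp only [map_mul, MulEquiv.apply_symm_apply] at h2
      have h3 : (c⁻¹ * e y * c) * ⟨u, hUC hu⟩ = ⟨u, hUC hu⟩ * (c⁻¹ * e y * c) :=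
        calc (c⁻¹ * e y * c) * ⟨u, hUC hu⟩ = c⁻¹ * (e y * (c * ⟨u, hUC hu⟩ * c⁻¹)) * c := by group
          _ = c⁻¹ * ((c * ⟨u, hUC hu⟩ * c⁻¹) * e y) * c := by rw [h2]
          _ = _ := by group
      exact congrArg Subtype.val h3
    · intro h
      apply hne
      have h2 : c⁻¹ * e y * c = 1 := Subtype.ext h
      have h3 : e y = 1 := by
        calc e y = c * (c⁻¹ * e y * c) * c⁻¹ := by group
          _ = 1 := by rw [h2]; group
      exact e.injective (h3.trans (map_one e).symm)
  have hzT : zc ∈ (T : Subgroup (Subgroup.centralizer ({z} : Set G))) := by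
    have hP : IsPGroup 2 (Subgroup.zpowers zc) := by
      refine IsPGroup.of_card (n := 1) ?_
      rw [Nat.card_zpowers, ← Subgroup.orderOf_coe, pow_one]
      exact hz
    haveI : (Subgroup.zpowers zc).Normal := by
      refine ⟨fun a ha g => ?_⟩
      obtain ⟨k, rfl⟩ := ha
      rw [((show Commute g zc from hzcomm g).zpow_right k).eq, mul_inv_cancel_right]
      exact Subgroup.zpow_mem _ (Subgroup.mem_zpowers zc) k
    have hsup := hP.to_sup_of_normal_left T.2
    have := T.3 hsup le_sup_right
    rw [← this]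
    exact Subgroup.mem_sup_left (Subgroup.mem_zpowers zc)
  set TG := (T : Subgroup (Subgroup.centralizer ({z} : Set G))).map
      (Subgroup.subtype (Subgroup.centralizer ({z} : Set G))) with hTG
  have hnorm : ∀ x : G, x ∈ Subgroup.normalizer (TG : Set G) → x ∈ Subgroup.centralizer ({z} : Set G) := by
    intro x hx
    rw [Subgroup.mem_normalizer_iff] at hx
    obtain ⟨y, hy, hyv⟩ := (hx z).mp ⟨zc, hzT, rfl⟩
    simp only [Subgroup.coe_subtype] at hyv
    have hycen : ∀ t ∈ (T : Subgroup (Subgroup.centralizer ({z} : Set G))), y * t = t * y := by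
      intro t ht
      obtain ⟨t', ht', ht'v⟩ : x⁻¹ * (t : G) * x ∈ TG := by
        rw [hx]
        exact ⟨t, ht, by simp [mul_assoc]⟩
      simp only [Subgroup.coe_subtype] at ht'v
      apply Subtype.ext
      have h1 : (t' : G) * z = z * (t' : G) := congrArg Subtype.val (hzcomm t')
      rw [ht'v] at h1
      show (y : G) * (t : G) = (t : G) * (y : G)
      rw [hyv]
      calc x * z * x⁻¹ * (t : G) = x * (z * (x⁻¹ * (t : G) * x)) * x⁻¹ := by group
        _ = x * ((x⁻¹ * (t : G) * x) * z) * x⁻¹ := by rw [← h1]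
        _ = _ := by group
    have hyne : y ≠ 1 := fun h => by
      rw [h] at hyv
      have h' : x * z * x⁻¹ = 1 := hyv.symm
      rw [conj_eq_one_iff] at h'
      exact hzne (Subtype.ext h')
    have e1 := huniq y hy hycen hyne
    have e2 := huniq zc hzT (fun t _ => (hzcomm t).symm) hzne
    have e3 : c⁻¹ * e y * c = c⁻¹ * e zc * c := Subtype.ext (e1.trans e2.symm)
    have e4 : y = zc := e.injective (mul_left_cancel (mul_right_cancel e3))
    rw [Subgroup.mem_centralizer_singleton_iff]
    rw [e4] at hyv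
    exact (mul_inv_eq_iff_eq_mul.mp hyv.symm)
  have hTp : IsPGroup 2 TG := T.2.map _
  obtain ⟨P, hP⟩ := hTp.exists_le_sylow
  have hPeq : TG = (P : Subgroup G) := by
    by_contra hne
    haveI : Group.IsNilpotent (P : Subgroup G) := P.2.isNilpotent
    have hlt : TG.subgroupOf (P : Subgroup G) < ⊤ := by
      refine lt_top_iff_ne_top.mpr fun h => ?_
      rw [Subgroup.subgroupOf_eq_top] at h
      exact hne (le_antisymm hP h)
    have hgrow := Group.normalizerCondition_of_isNilpotent _ hlt
    obtain ⟨x, hxN, hxT⟩ := SetLike.exists_of_lt hgrow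
    have hxG : (x : G) ∈ Subgroup.normalizer (TG : Set G) := by
      rw [Subgroup.mem_normalizer_iff]
      intro g
      rw [Subgroup.mem_normalizer_iff] at hxN
      constructor
      · intro hg
        have := (hxN ⟨g, hP hg⟩).mp hg
        exact this
      · intro hg
        have hgP : g ∈ (P : Subgroup G) := by
          have h2 := mul_mem (mul_mem (inv_mem x.2) (hP hg)) x.2
          simpa [mul_assoc] using h2
        exact (hxN ⟨g, hgP⟩).mpr hg
    have hmax := T.3 (Q := (P : Subgroup G).comap (Subgroup.subtype _))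
      (P.2.comap_of_injective _ Subtype.val_injective)
      (fun t ht => hP ⟨t, ht, rfl⟩)
    apply hxT
    show (x : G) ∈ TG
    refine ⟨⟨x, hnorm _ hxG⟩, ?_, rfl⟩
    rw [← hmax]
    exact x.2
  rw [hPeq]
  exact Sylow.not_dvd_index P

end Cfsg.Agent.Lib.TransvectionSylowFive
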