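import Cfsg.Agent.Lib.Classical.PSLTwoSolubilizer
import Cfsg.Agent.Lib.Classical.FieldNine

/-!
Dickson's theorem on two transvections generating `SL₂` over a finite field.
-/

set_option autoImplicit false
set_option linter.style.haveILetI false
set_option linter.unusedSectionVars false

open scoped MatrixGroups Classical
open Matrix

noncomputable section

namespace Cfsg.Agent.Classical.TwoGen

open SL2Two
open scoped Cfsg.Agent.Classical.Dickson

/-! ### The exceptional group over nine elements -/

/-- A code for an element of the field of nine elements. -/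
def code1 (a : F9) : ℕ := a.re.val + 3 * a.im.val

/-- A code for a matrix. -/
def code (a : F9 × F9 × F9 × F9) : ℕ := code1 a.1 + 9 * code1 a.2.1 + 81 * code1 a.2.2.1 + 729 * code1 a.2.2.2

/-- The binary icosahedral group in codes. -/
def ico : List ℕ := [730,811,757,892,3025,841,784,5293,3352,5239,925,3073,871,5620,3133,3436,481,5812,5335,3393,5197,949,3013,5461,6394,3220,4201,477,6250,5404,4309,5657,3103,3482,5765,5287,3338,5236,394,6309,4873,3541,2446,3875,2698,485,5927,4639,3743,700,5490,6350,3183,4166,5358,4352,5610,3118,3417,5796,392,3994,5993,4631,6421,2690,3940,4032,1652,2211,6272,6330,1598,4395,6115,3903,693,387,4883,3509,2436,3836,4620,3782,698,5450,3203,4155,5396,4338,4001,1574,4386,6134,6096,607,2202,6017,2456,2193,5942,4863,1514,3776,6038,6461,2679,1622,4377,3950,3519,3833,1487,6050,611,1541,1682,6435,1460,603]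

/-- Decoding. -/
def dec1 (n : ℕ) : F9 := ⟨(n : ZMod 3), ((n / 3 : ℕ) : ZMod 3)⟩

/-- Decoding a matrix. -/
def dec (n : ℕ) : F9 × F9 × F9 × F9 := (dec1 (n % 9), dec1 (n / 9 % 9), dec1 (n / 81 % 9), dec1 (n / 729))

/-- Products of coded matrices. -/
def mul4 (a b : F9 × F9 × F9 × F9) : F9 × F9 × F9 × F9 :=
  (a.1 * b.1 + a.2.1 * b.2.2.1, a.1 * b.2.1 + a.2.1 * b.2.2.2,
    a.2.2.1 * b.1 + a.2.2.2 * b.2.2.1, a.2.2.1 * b.2.1 + a.2.2.2 * b.2.2.2)

theorem dec1_code1 : ∀ a : F9, dec1 (code1 a) = a ∧ code1 a < 9 := by decide +kernel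

theorem dec_code (a : F9 × F9 × F9 × F9) : dec (code a) = a := by
  obtain ⟨x, y, z, w⟩ := a
  have hx := dec1_code1 x; have hy := dec1_code1 y; have hz := dec1_code1 z; have hw := dec1_code1 w
  simp only [dec, code]
  rw [show (code1 x + 9 * code1 y + 81 * code1 z + 729 * code1 w) % 9 = code1 x by omega,
    show (code1 x + 9 * code1 y + 81 * code1 z + 729 * code1 w) / 9 % 9 = code1 y by omega,
    show (code1 x + 9 * code1 y + 81 * code1 z + 729 * code1 w) / 81 % 9 = code1 z by omega,
    show (code1 x + 9 * code1 y + 81 * code1 z + 729 * code1 w) / 729 = code1 w by omega,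
    hx.1, hy.1, hz.1, hw.1]

theorem ico_closed : ico.all (fun n =>
    ico.contains (code (mul4 (dec n) (⟨1, 0⟩, ⟨0, 0⟩, ⟨1, 0⟩, ⟨1, 0⟩))) &&
    ico.contains (code (mul4 (dec n) (⟨1, 0⟩, ⟨0, 1⟩, ⟨0, 0⟩, ⟨1, 0⟩))) &&
    ico.contains (code (mul4 (dec n) (⟨1, 0⟩, ⟨0, 2⟩, ⟨0, 0⟩, ⟨1, 0⟩)))) = true := by decide +kernel

theorem ico_facts : code (⟨1, 0⟩, ⟨0, 0⟩, ⟨0, 0⟩, ⟨1, 0⟩) ∈ ico ∧ ico.length = 120 := by decide +kernel

theorem sq_neg_one : ∀ a : F9, a * a = -1 → a = ⟨0, 1⟩ ∨ a = ⟨0, 2⟩ := by decide +kernel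

variable {F : Type*} [Field F] [Fintype F]

local notation "G2" => Matrix.ProjectiveSpecialLinearGroup (Fin 2) F
local notation "S2" => Matrix.SpecialLinearGroup (Fin 2) F
local notation "M2" => Matrix (Fin 2) (Fin 2) F
local notation "KK" => AlgebraicClosure F

/-- The two generators. -/
def loOne : S2 := ⟨!![1, 0; 1, 1], by simp [Matrix.det_fin_two]⟩

theorem loOne_coe : ((loOne : S2) : M2) = !![1, 0; 1, 1] := rfl

theorem up_coe (a : F) : ((PSLTwoAut.uS a : S2) : M2) = !![1, a; 0, 1] := rfl

theorem gens_eq (l : F) : {g : S2 | (g : M2) = !![1, 0; 1, 1] ∨ (g : M2) = !![1, l; 0, 1]} = {loOne, PSLTwoAut.uS l} := by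
  ext g
  simp only [Set.mem_ofPred_eq, Set.mem_insert_iff, Set.mem_singleton_iff]
  exact ⟨fun h => h.imp (fun e => Subtype.ext e) fun e => Subtype.ext e,
    fun h => h.imp (fun e => by rw [e]; rfl) fun e => by rw [e]; rfl⟩

theorem card_le_ico (hF : Fintype.card F = 9) {l : F} (hl : l * l = -1) :
    Nat.card (Subgroup.closure ({loOne, PSLTwoAut.uS l} : Set S2)) ≤ 120 := by
  obtain ⟨e⟩ := F9.nonempty_ringEquiv hF
  let q : S2 → F9 × F9 × F9 × F9 := fun g =>
    (e ((g : M2) 0 0), e ((g : M2) 0 1), e ((g : M2) 1 0), e ((g : M2) 1 1))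
  have hq : ∀ g h : S2, q (g * h) = mul4 (q g) (q h) := fun g h => by
    simp [q, mul4, SL2.coe_mul', Matrix.mul_apply, Fin.sum_univ_two]
  have hq1 : q 1 = (⟨1, 0⟩, ⟨0, 0⟩, ⟨0, 0⟩, ⟨1, 0⟩) := by simp [q]; (repeat' constructor)
  have hqi : Function.Injective q := fun g h hgh => by
    simp only [q, Prod.mk.injEq, e.injective.eq_iff] at hgh
    exact Subtype.ext (SL2.coord hgh.1 hgh.2.1 hgh.2.2.1 hgh.2.2.2)
  have hgen : ∀ g ∈ ({loOne, PSLTwoAut.uS l} : Set S2), ∀ n ∈ ico, code (mul4 (dec n) (q g)) ∈ ico := by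
    intro g hg n hn
    have hc := List.all_eq_true.1 ico_closed n hn
    simp only [Bool.and_eq_true, List.contains_iff_mem] at hc
    rcases hg with rfl | rfl
    · have : q loOne = (⟨1, 0⟩, ⟨0, 0⟩, ⟨1, 0⟩, ⟨1, 0⟩) := by simp [q, loOne_coe]; (repeat' constructor)
      rw [this]; exact hc.1.1
    · have hl' : e l * e l = -1 := by rw [← map_mul, hl, map_neg, map_one]
      rcases sq_neg_one _ hl' with h | h
      · have : q (PSLTwoAut.uS l) = (⟨1, 0⟩, ⟨0, 1⟩, ⟨0, 0⟩, ⟨1, 0⟩) := by
          simp [q, PSLTwoAut.uS, h]; (repeat' constructor)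
        rw [this]; exact hc.1.2
      · have : q (PSLTwoAut.uS l) = (⟨1, 0⟩, ⟨0, 2⟩, ⟨0, 0⟩, ⟨1, 0⟩) := by
          simp [q, PSLTwoAut.uS, h]; (repeat' constructor)
        rw [this]; exact hc.2
  have hP : ∀ g ∈ Subgroup.closure ({loOne, PSLTwoAut.uS l} : Set S2), ∀ n ∈ ico, code (mul4 (dec n) (q g)) ∈ ico := by
    intro g hg
    have hg' : g ∈ Submonoid.closure ({loOne, PSLTwoAut.uS l} : Set S2) := by
      rwa [← Subgroup.closure_toSubmonoid_of_finite]
    clear hg
    induction hg' using Submonoid.closure_induction with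
    | mem x hx => exact hgen x hx
    | one =>
      intro n hn
      rw [hq1]
      have : mul4 (dec n) (⟨1, 0⟩, ⟨0, 0⟩, ⟨0, 0⟩, ⟨1, 0⟩) = dec n := by
        rw [show ((⟨1, 0⟩ : F9)) = 1 from rfl, show ((⟨0, 0⟩ : F9)) = 0 from rfl]
        simp [mul4]
      rw [this]
      have hn' : code (dec n) = n := by
        have hall : ico.all (fun n => code (dec n) == n) = true := by decide +kernel
        exact beq_iff_eq.1 (List.all_eq_true.1 hall n hn)
      rwa [hn']
    | mul x y hx hy ihx ihy =>
      intro n hn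
      have h1 := ihx n hn
      have h2 := ihy _ h1
      rw [dec_code] at h2
      rw [hq]
      have : mul4 (mul4 (dec n) (q x)) (q y) = mul4 (dec n) (mul4 (q x) (q y)) := by
        simp only [mul4, Prod.mk.injEq]; refine ⟨?_, ?_, ?_, ?_⟩ <;> ring
      rwa [this] at h2
  have hin : ∀ g ∈ Subgroup.closure ({loOne, PSLTwoAut.uS l} : Set S2), code (q g) ∈ ico.toFinset := fun g hg => by
    have := hP g hg _ ico_facts.1
    rw [dec_code] at this
    rw [List.mem_toFinset]
    rwa [show mul4 (⟨1, 0⟩, ⟨0, 0⟩, ⟨0, 0⟩, ⟨1, 0⟩) (q g) = q g by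
      rw [show ((⟨1, 0⟩ : F9)) = 1 from rfl, show ((⟨0, 0⟩ : F9)) = 0 from rfl]; simp [mul4]] at this
  have hle := Nat.card_le_card_of_injective
    (fun g : Subgroup.closure ({loOne, PSLTwoAut.uS l} : Set S2) => (⟨code (q g.1), hin g.1 g.2⟩ : ico.toFinset))
    (fun g h hgh => Subtype.ext (hqi (by
      have := congrArg (fun z => dec z.1) hgh
      simpa [dec_code] using this)))
  refine hle.trans ?_
  rw [Nat.card_eq_fintype_card, Fintype.card_coe]
  exact ico_facts.2 ▸ List.toFinset_card_le ico

/-! ### The generation theorem -/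

theorem trace_up_lo (l : F) (n : ℕ) : ((PSLTwoAut.uS l * loOne ^ n : S2) : M2).trace = 2 + n * l := by
  have hpow : ∀ n : ℕ, ((loOne ^ n : S2) : M2) = !![1, 0; (n : F), 1] := by
    intro n
    induction n with
    | zero => simp [Matrix.one_fin_two]
    | succ n ih => rw [pow_succ, SL2.coe_mul', ih, loOne_coe]; simp
  rw [SL2.coe_mul', hpow]
  simp [PSLTwoAut.uS, Matrix.trace_fin_two]
  ring

theorem pow_five_scalar {X : S2} (hX : GL2.Nonscalar (X : M2)) (h : proj X ^ 5 = 1) :
    ((X : M2).trace * (X : M2).trace - (X : M2).trace - 1) * ((X : M2).trace * (X : M2).trace + (X : M2).trace - 1) = 0 := by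
  set t := (X : M2).trace with ht
  have hsq : (X : M2) * (X : M2) = t • (X : M2) - 1 := by
    have := SL2.sq_eq (X : M2)
    rwa [X.2, one_smul] at this
  have h5 : (X : M2) ^ 5 = (t ^ 4 - 3 * t ^ 2 + 1) • (X : M2) + (-(t ^ 3 - 2 * t)) • (1 : M2) := by
    simp only [pow_succ, pow_zero, one_mul, sub_mul, smul_mul_assoc, hsq, smul_sub, smul_smul, add_mul]
    module
  rw [← map_pow, SL2Two.proj_eq_one_iff] at h
  obtain ⟨s, hs⟩ : ∃ s : F, (X : M2) ^ 5 = s • (1 : M2) := by
    rcases h with h | h <;> have e := congrArg (fun A : S2 => (A : M2)) h <;> rw [SL2.coe_pow'] at e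
    · exact ⟨1, by rw [e, one_smul]; rfl⟩
    · exact ⟨-1, by rw [e, SL2Two.coe_negOne, neg_smul, one_smul]⟩
  have : (-(t ^ 3 - 2 * t)) • (1 : M2) + (t ^ 4 - 3 * t ^ 2 + 1) • (X : M2) = s • (1 : M2) + (0 : F) • (X : M2) := by
    rw [← hs, h5]; module
  have := (SL2.eq_of_nonscalar hX this).2
  linear_combination this

theorem pow_three_scalar {X : S2} (hX : GL2.Nonscalar (X : M2)) (h : proj X ^ 3 = 1) :
    (X : M2).trace * (X : M2).trace = 1 := by
  set t := (X : M2).trace with ht
  have hsq : (X : M2) * (X : M2) = t • (X : M2) - 1 := by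
    have := SL2.sq_eq (X : M2)
    rwa [X.2, one_smul] at this
  rw [← map_pow, SL2Two.proj_eq_one_iff] at h
  obtain ⟨s, hs⟩ : ∃ s : F, (X : M2) ^ 3 = s • (1 : M2) := by
    rcases h with h | h <;> have e := congrArg (fun A : S2 => (A : M2)) h <;> rw [SL2.coe_pow'] at e
    · exact ⟨1, by rw [e, one_smul]; rfl⟩
    · exact ⟨-1, by rw [e, SL2Two.coe_negOne, neg_smul, one_smul]⟩
  have : (-t) • (1 : M2) + (t * t - 1) • (X : M2) = s • (1 : M2) + (0 : F) • (X : M2) := by
    rw [← hs, pow_succ, pow_two, hsq, sub_mul, smul_mul_assoc, hsq, one_mul]; module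
  exact sub_eq_zero.1 (SL2.eq_of_nonscalar hX this).2

theorem bot_card (p : ℕ) [Fact p.Prime] [CharP F p] (l : F) (hgen : Subfield.closure ({l} : Set F) = ⊤)
    (h : l ∈ (⊥ : Subfield F)) : Fintype.card F = p := by
  have htop : (⊥ : Subfield F) = ⊤ := top_le_iff.1 (hgen ▸ Subfield.closure_le.2 (Set.singleton_subset_iff.2 h))
  have hc := Subfield.card_bot (F := F) (p := p)
  rw [htop, Nat.card_congr Subfield.topEquiv.toEquiv] at hc
  rw [← Nat.card_eq_fintype_card]; exact hc

theorem dickson_two (h2 : (2 : F) ≠ 0) {l : F} (hl : l ≠ 0) (hgen : Subfield.closure ({l} : Set F) = ⊤) :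
    (Subgroup.closure ({loOne, PSLTwoAut.uS l} : Set S2) = ⊤ ∧ ¬ (Fintype.card F = 9 ∧ l ^ 2 = -1)) ∨
      (Fintype.card F = 9 ∧ l ^ 2 = -1 ∧ Nat.card (Subgroup.closure ({loOne, PSLTwoAut.uS l} : Set S2)) = 120) := by
  obtain ⟨p, hpc⟩ := CharP.exists F
  obtain ⟨n, hpp, hn⟩ := FiniteField.card F p
  haveI : Fact p.Prime := ⟨hpp⟩
  have hp2 : p ≠ 2 := fun e => h2 (by subst e; exact_mod_cast CharP.cast_eq_zero F 2)
  set G := Subgroup.closure ({loOne, PSLTwoAut.uS l} : Set S2) with hG
  have hL : loOne ∈ G := Subgroup.subset_closure (Or.inl rfl)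
  have hU : PSLTwoAut.uS l ∈ G := Subgroup.subset_closure (Or.inr rfl)
  by_cases hq : Fintype.card F = p
  · left
    refine ⟨?_, fun ⟨h9, _⟩ => ?_⟩
    · have hs : Function.Surjective (fun k : ℕ => (k : F)) := by
        intro a
        have hb : Function.Bijective (ZMod.castHom (dvd_refl p) F) :=
          (Fintype.bijective_iff_injective_and_card _).2 ⟨RingHom.injective _, by rw [ZMod.card, hq]⟩
        obtain ⟨z, hz⟩ := hb.2 a
        exact ⟨z.val, by rw [← hz]; conv_rhs => rw [← ZMod.natCast_zmod_val z, map_natCast]⟩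
      have hupow : ∀ k : ℕ, ((PSLTwoAut.uS l ^ k : S2) : M2) = !![1, (k : F) * l; 0, 1] := by
        intro k
        induction k with
        | zero => simp [Matrix.one_fin_two]
        | succ k ih => rw [pow_succ, SL2.coe_mul', ih]; simp [PSLTwoAut.uS]; ring
      have hlpow : ∀ k : ℕ, ((loOne ^ k : S2) : M2) = !![1, 0; (k : F), 1] := by
        intro k
        induction k with
        | zero => simp [Matrix.one_fin_two]
        | succ k ih => rw [pow_succ, SL2.coe_mul', ih, loOne_coe]; simp
      rw [eq_top_iff]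
      intro g _
      refine SL_transvection_induction (fun A => A ∈ G) (fun i j hij c => ?_) (fun A B hA hB => mul_mem hA hB) g
      fin_cases i <;> fin_cases j
      · exact absurd rfl hij
      · obtain ⟨k, hk⟩ := hs (c / l)
        convert pow_mem hU k using 1
        apply Subtype.ext
        rw [hupow, show (k : F) * l = c by rw [show (k : F) = c / l from hk]; field_simp]
        ext a b
        fin_cases a <;> fin_cases b <;> simp [SpecialLinearGroup.transvection_coe]
      · obtain ⟨k, hk⟩ := hs c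
        convert pow_mem hL k using 1
        apply Subtype.ext
        rw [hlpow, show (k : F) = c from hk]
        ext a b
        fin_cases a <;> fin_cases b <;> simp [SpecialLinearGroup.transvection_coe]
      · exact absurd rfl hij
    · rw [hq] at h9; rw [h9] at hpp; exact absurd hpp (by norm_num)
  have hprime : ∀ c : ℕ, l ≠ (c : F) ∧ l ≠ -(c : F) := fun c =>
    ⟨fun e => hq (bot_card p l hgen (e ▸ natCast_mem _ c)), fun e => hq (bot_card p l hgen (e ▸ neg_mem (natCast_mem _ c)))⟩
  have h4 : 4 ≤ Fintype.card F := by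
    have h3 : 3 ≤ p := by have := hpp.two_le; omega
    rw [hn] at hq ⊢
    have : 2 ≤ (n : ℕ) := by
      have := n.pos
      by_contra hlt
      rw [show (n : ℕ) = 1 by omega, pow_one] at hq; exact hq rfl
    exact le_trans (by norm_num) ((Nat.pow_le_pow_left h3 2).trans (Nat.pow_le_pow_right hpp.pos this))
  set x := proj (PSLTwoAut.uS l) with hx0
  set y := proj (loOne : S2) with hy0
  set H := G.map proj with hH
  have hmx : x ∈ H := Subgroup.mem_map_of_mem proj hU
  have hmy : y ∈ H := Subgroup.mem_map_of_mem proj hL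
  have hx1 : x ≠ 1 := fun e => hl (by simpa [PSLTwoAut.uS] using
    (show ((PSLTwoAut.uS l : S2) : M2) 0 1 = 0 by
      rcases (SL2Two.proj_eq_one_iff _).1 e with r | r <;> rw [r] <;> simp [SL2Two.coe_negOne]))
  have hcenter : 2 ∣ Nat.card H → (SL2Two.negOne : S2) ∈ G := fun hd => by
    haveI : Fact (Nat.Prime 2) := ⟨Nat.prime_two⟩
    obtain ⟨⟨z, hz⟩, hzo⟩ := exists_prime_orderOf_dvd_card' (G := G) 2 (hd.trans (Subgroup.card_dvd_of_surjective
      (proj.subgroupMap G) (proj.subgroupMap_surjective G)))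
    rw [Subgroup.orderOf_mk] at hzo
    exact (SL2Two.orderOf_two_iff h2 z).1 hzo ▸ hz
  by_cases hHtop : H = ⊤
  · left
    have hGt : G = ⊤ := by
      have hsup : ∀ g : S2, g ∈ G ∨ negOne * g ∈ G := by
        intro g
        obtain ⟨a, ha, e⟩ : proj g ∈ G.map proj := by rw [← hH, hHtop]; exact Subgroup.mem_top _
        have e' : proj (g * a⁻¹) = 1 := by rw [map_mul, map_inv, e, mul_inv_cancel]
        rcases (SL2Two.proj_eq_one_iff _).1 e' with r | r <;> rw [mul_inv_eq_iff_eq_mul] at r
        · left; rw [r, one_mul]; exact ha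
        · right
          rw [r, ← mul_assoc, show (negOne : S2) * negOne = 1 from Subtype.ext (by
            rw [SL2.coe_mul', SL2Two.coe_negOne, neg_mul_neg, one_mul]; rfl), one_mul]
          exact ha
      have hneg : negOne ∈ G := by
        refine hcenter ?_
        rw [hHtop, Subgroup.card_top]
        have hG' := SL2.card_PSL2_mul (F := F)
        have hodd : Fintype.card F % 2 = 1 := by
          rw [hn, Nat.pow_mod, Nat.odd_iff.1 (hpp.odd_of_ne_two hp2)]; simp
        have hg : Nat.gcd 2 (Fintype.card F - 1) = 2 := Nat.gcd_eq_left (by omega)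
        rw [hg] at hG'
        obtain ⟨k, hk⟩ : ∃ k, Fintype.card F = 2 * k + 1 := ⟨Fintype.card F / 2, by omega⟩
        refine Nat.dvd_of_mul_dvd_mul_left two_pos (hG' ▸ ?_)
        rw [hk]
        refine dvd_mul_of_dvd_right ?_ _
        exact ⟨k * k + k, by
          rw [show (2 * k + 1) ^ 2 = 2 * 2 * (k * k + k) + 1 by ring]; omega⟩
      rw [eq_top_iff]
      intro g _
      rcases hsup g with h | h
      · exact h
      · have := mul_mem hneg h
        rwa [← mul_assoc, show (negOne : S2) * negOne = 1 from Subtype.ext (by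
            rw [SL2.coe_mul', SL2Two.coe_negOne, neg_mul_neg, one_mul]; rfl), one_mul] at this
    refine ⟨hGt, fun ⟨h9, hl2⟩ => ?_⟩
    have := card_le_ico h9 (show l * l = -1 by rw [← pow_two, hl2])
    rw [← hG, hGt, Subgroup.card_top, SL2.card_SL2, h9] at this
    norm_num at this
  have hle : H.map Dickson.emb ≤ Dickson.pslF F := by rintro _ ⟨g, -, rfl⟩; exact ⟨g, rfl⟩
  have e0 : H ≃* H.map Dickson.emb := H.equivMapOfInjective _ Dickson.emb_injective
  haveI : Finite (H.map Dickson.emb) := Finite.of_equiv _ e0.toEquiv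
  have hne : H.map Dickson.emb ≠ ⊥ := fun e => hx1 (by
    rw [Subgroup.map_eq_bot_iff_of_injective _ Dickson.emb_injective] at e
    exact Subgroup.mem_bot.1 (e ▸ hmx))
  have hxp : orderOf x = p ∧ orderOf y = p := by
    have hy1 : y ≠ 1 := fun e => one_ne_zero (α := F) (by
      simpa [loOne_coe] using (show ((loOne : S2) : M2) 1 0 = 0 by
        rcases (SL2Two.proj_eq_one_iff _).1 e with r | r <;> rw [r] <;> simp [SL2Two.coe_negOne]))
    constructor <;> refine orderOf_eq_prime (PSLTwoCovering.proj_pow_char p ?_) (by assumption) <;>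
      simp [PSLTwoAut.uS, loOne_coe, Matrix.trace_fin_two] <;> norm_num
  rcases Dickson.sub_cases p (Dickson.pslF_le F) le_rfl (Dickson.ambient_pslF (F := F)) h4 hle hne with
    ⟨z, ⟨_, ⟨g, rfl⟩, hgz⟩, hz⟩ | ⟨D, k, -, hHD, -, -, ⟨φ⟩⟩ | ⟨hp2', hp3, ⟨φ⟩⟩ | ⟨hp2', hp3, ⟨φ⟩⟩ |
    ⟨-, hp5, -, ⟨φ⟩⟩ | ⟨K₀, c, hc, hK₀, h3, hsub, hcase⟩
  · exfalso
    obtain ⟨h, rfl⟩ := SL2Two.proj_surjective g
    have key : ∀ A : S2, proj A ∈ H → ((h⁻¹ * A * h : S2) : M2) 1 0 = 0 := by
      intro A hA
      rw [← PSLTwoSol.emb_fix_infty_iff]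
      simp only [map_mul, map_inv, mul_smul, hgz]
      rw [inv_smul_eq_iff]
      simp only [hgz]
      exact (hz (Subgroup.mem_map_of_mem Dickson.emb hA)).2
    have hu := key _ hmx
    have hlo := key _ hmy
    rw [PSLTwoSol.lower_conj] at hu hlo
    simp [PSLTwoAut.uS] at hu
    simp [loOne_coe] at hlo
    have hs : (h : M2) 1 0 = 0 := by
      have : (h : M2) 1 0 * (h : M2) 1 0 * l = 0 := by linear_combination -hu
      simpa [hl] using this
    rw [hs] at hlo
    have hd := h.2
    rw [Matrix.det_fin_two, hs] at hd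
    simp at hlo
    rw [hlo] at hd
    simp at hd
  · exfalso
    set j : H →* DihedralGroup k := φ.toMonoidHom.comp ((Subgroup.inclusion hHD).comp e0.toMonoidHom) with hj
    have hji : Function.Injective j := φ.injective.comp ((Subgroup.inclusion_injective hHD).comp e0.injective)
    have hc := Dickson.dihedral_comm (j ⟨x, hmx⟩) (j ⟨y, hmy⟩)
      (by rw [orderOf_injective j hji, ← Subgroup.orderOf_coe]; exact fun e => hp2 (hxp.1.symm.trans e))
      (by rw [orderOf_injective j hji, ← Subgroup.orderOf_coe]; exact fun e => hp2 (hxp.2.symm.trans e))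
    rw [← map_mul, ← map_mul, hji.eq_iff, Subtype.ext_iff, Subgroup.coe_mul, Subgroup.coe_mul] at hc
    simp only [hx0, hy0, ← map_mul] at hc
    have e' : proj ((PSLTwoAut.uS l * loOne) * (loOne * PSLTwoAut.uS l)⁻¹) = 1 := by
      rw [map_mul, map_inv, hc, mul_inv_cancel]
    rcases (SL2Two.proj_eq_one_iff _).1 e' with r | r <;> rw [mul_inv_eq_iff_eq_mul] at r <;>
      have e01 := congrArg (fun A : S2 => (A : M2) 0 1) r <;> have e00 := congrArg (fun A : S2 => (A : M2) 0 0) r <;>
      simp [SL2.coe_mul', SL2Two.coe_negOne, up_coe, loOne_coe] at e01 e00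
    · exact hl e00
    · exact hl ((mul_eq_zero.1 (show (2 : F) * l = 0 by linear_combination e01)).resolve_left h2)
  · exfalso
    have hp5 : 5 ≤ p := by
      have := hpp.two_le
      have : p ≠ 4 := fun e4 => by rw [e4] at hpp; exact absurd hpp (by norm_num)
      omega
    have ho : orderOf (φ (e0 ⟨x, hmx⟩)) = p := by
      rw [← hxp.1]
      exact (orderOf_injective (e0.trans φ).toMonoidHom (e0.trans φ).injective ⟨x, hmx⟩).trans (Subgroup.orderOf_coe _).symm
    rcases Dickson.alt_four_orders (φ (e0 ⟨x, hmx⟩)) with h | h <;> rw [← orderOf_dvd_iff_pow_eq_one, ho] at h <;>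
      have := Nat.le_of_dvd (by norm_num) h <;> omega
  · exfalso
    have hp5 : 5 ≤ p := by
      have := hpp.two_le
      have : p ≠ 4 := fun e4 => by rw [e4] at hpp; exact absurd hpp (by norm_num)
      omega
    have ho : orderOf (φ (e0 ⟨x, hmx⟩)) = p := by
      rw [← hxp.1]
      exact (orderOf_injective (e0.trans φ).toMonoidHom (e0.trans φ).injective ⟨x, hmx⟩).trans (Subgroup.orderOf_coe _).symm
    rcases Dickson.perm_four_orders (φ (e0 ⟨x, hmx⟩)) with h | h <;> rw [← orderOf_dvd_iff_pow_eq_one, ho] at h <;>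
      have := Nat.le_of_dvd (by norm_num) h <;> omega
  · right
    have key : ∀ A : S2, proj A ∈ H → proj A ^ 2 = 1 ∨ proj A ^ 3 = 1 ∨ proj A ^ 5 = 1 := by
      intro A hA
      have := Dickson.alt_five_orders ((e0.trans φ) ⟨_, hA⟩)
      simpa only [← map_pow, ← (e0.trans φ).map_one, (e0.trans φ).injective.eq_iff, Subtype.ext_iff,
        SubmonoidClass.coe_pow, OneMemClass.coe_one] using this
    have hp3 : p = 3 := by
      rcases key _ hmx with h | h | h <;> rw [← orderOf_dvd_iff_pow_eq_one, ← hx0, hxp.1] at h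
      · exact absurd ((Nat.prime_dvd_prime_iff_eq hpp Nat.prime_two).1 h) hp2
      · exact (Nat.prime_dvd_prime_iff_eq hpp Nat.prime_three).1 h
      · exact absurd ((Nat.prime_dvd_prime_iff_eq hpp Nat.prime_five).1 h) hp5
    subst hp3
    have h30 : (3 : F) = 0 := by exact_mod_cast CharP.cast_eq_zero F 3
    have hrel : ∀ k : ℕ, ((k : F) = 1 ∨ (k : F) = 2) →
        ((2 + k * l) * (2 + k * l) - (2 + k * l) - 1) * ((2 + k * l) * (2 + k * l) + (2 + k * l) - 1) = 0 := by
      intro k hk
      set A := PSLTwoAut.uS l * loOne ^ k with hA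
      have hmem : proj A ∈ H := Subgroup.mem_map_of_mem proj (mul_mem hU (pow_mem hL k))
      have hns : GL2.Nonscalar (A : M2) := by
        have hk0 : (k : F) ≠ 0 := by
          rcases hk with e | e <;> rw [e]
          · exact one_ne_zero
          · exact h2
        have hpow : ∀ n : ℕ, ((loOne ^ n : S2) : M2) = !![1, 0; (n : F), 1] := by
          intro n
          induction n with
          | zero => simp [Matrix.one_fin_two]
          | succ n ih => rw [pow_succ, SL2.coe_mul', ih, loOne_coe]; simp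
        refine GL2.nonscalar_iff.2 (Or.inr (Or.inl ?_))
        rw [hA, SL2.coe_mul', hpow]
        simp [PSLTwoAut.uS]
        exact hk0
      have htr : (A : M2).trace = 2 + k * l := trace_up_lo l k
      have hA1 : proj A ≠ 1 := fun e => hns (by
        rcases (SL2Two.proj_eq_one_iff _).1 e with r | r
        · exact ⟨1, by rw [r, one_smul]; rfl⟩
        · exact ⟨-1, by rw [r, SL2Two.coe_negOne, neg_smul, one_smul]⟩)
      rcases key A hmem with h | h | h
      · exfalso
        rw [pow_two] at h
        have h' := ((PSLTwoSol.proj_sq_iff A).1 h).resolve_right hA1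
        rw [htr] at h'
        rcases hk with e | e <;> rw [e] at h'
        · exact (hprime 2).2 (by push_cast; linear_combination h')
        · exact (hprime 1).2 (by
            push_cast; exact mul_left_cancel₀ h2 (by linear_combination h'))
      · exfalso
        have h' := pow_three_scalar hns h
        rw [htr] at h'
        rcases mul_self_eq_one_iff.1 h' with r | r <;> rcases hk with e | e <;> rw [e] at r
        · exact (hprime 1).2 (by push_cast; linear_combination r)
        · exact (hprime 1).1 (by push_cast; linear_combination (2 : F) * r - (l + 1) * h30)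
        · exact (hprime 0).1 (by push_cast; linear_combination r - h30)
        · exact (hprime 0).1 (by push_cast; exact mul_left_cancel₀ h2 (by linear_combination r - h30))
      · rw [← htr]; exact pow_five_scalar hns h
    have hl2 : l * l = -1 := by
      have e1 := hrel 1 (Or.inl (by simp))
      have e2 := hrel 2 (Or.inr (by simp))
      push_cast at e1 e2
      have a : (l * l + 1) * (l * l - l - 1) = 0 := by
        linear_combination e1 - (3 * l ^ 3 + 7 * l ^ 2 + 7 * l + 2) * h30
      have b : (l * l + 1) * (l * l + l - 1) = 0 := by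
        linear_combination e2 - (5 * l ^ 4 + 21 * l ^ 3 + 28 * l ^ 2 + 13 * l + 2) * h30
      rcases mul_eq_zero.1 a with a | a
      · linear_combination a
      rcases mul_eq_zero.1 b with b | b
      · linear_combination b
      · exfalso; exact hl ((mul_eq_zero.1 (show (2 : F) * l = 0 by linear_combination b - a)).resolve_left h2)
    have h9 : Fintype.card F = 9 := by
      have hfix : ∀ a : F, a ^ 9 = a := by
        haveI : ExpChar F 3 := ExpChar.prime Nat.prime_three
        let S : Subfield F := RingHom.eqLocusField (iterateFrobenius F 3 2) (RingHom.id F)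
        have hlS : l ∈ S := by
          show iterateFrobenius F 3 2 l = l
          rw [iterateFrobenius_def]
          linear_combination (l ^ 7 - l ^ 5 + l ^ 3 - l) * hl2
        have hS : S = ⊤ := top_le_iff.1 (hgen ▸ Subfield.closure_le.2 (Set.singleton_subset_iff.2 hlS))
        intro a
        have ha : iterateFrobenius F 3 2 a = a := (hS ▸ Subfield.mem_top a : a ∈ S)
        rwa [iterateFrobenius_def] at ha
      have hP0 : (Polynomial.X ^ 9 - Polynomial.X : Polynomial F) ≠ 0 :=
        FiniteField.X_pow_card_sub_X_ne_zero F (by norm_num)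
      have hle9 : Fintype.card F ≤ 9 := by
        have := Polynomial.card_roots' (Polynomial.X ^ 9 - Polynomial.X : Polynomial F)
        rw [FiniteField.X_pow_card_sub_X_natDegree_eq F (by norm_num)] at this
        refine le_trans ?_ this
        rw [← Finset.card_univ]
        refine le_trans (Finset.card_le_card fun a _ => ?_) (Multiset.toFinset_card_le _)
        rw [Multiset.mem_toFinset, Polynomial.mem_roots hP0]
        simp [hfix a]
      rw [hn] at hle9 hq ⊢
      have h1 : (n : ℕ) ≠ 1 := fun e => hq (by rw [e, pow_one])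
      have h3' : (n : ℕ) < 3 := by
        by_contra hge
        have := Nat.pow_le_pow_right (show 0 < 3 by norm_num) (show 3 ≤ (n : ℕ) by omega)
        omega
      rw [show (n : ℕ) = 2 by have := n.pos; omega]; rfl
    refine ⟨h9, by rw [pow_two]; exact hl2, ?_⟩
    have hH60 : Nat.card H = 60 := by
      rw [Nat.card_congr (e0.trans φ).toEquiv, nat_card_alternatingGroup, Nat.card_fin]; rfl
    have hneg : negOne ∈ G := hcenter (by rw [hH60]; norm_num)
    have hker : (proj.subgroupMap G).ker = (Subgroup.center S2).subgroupOf G := by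
      ext ⟨a, ha⟩
      rw [MonoidHom.mem_ker, Subgroup.mem_subgroupOf, Subtype.ext_iff]
      exact QuotientGroup.eq_one_iff a
    have hZ : Subgroup.center S2 ≤ G := fun z hz => by
      rcases (SL2Two.mem_center_iff z).1 hz with rfl | rfl
      · exact one_mem _
      · exact hneg
    have := Subgroup.card_eq_card_quotient_mul_card_subgroup (proj.subgroupMap G).ker
    rw [Nat.card_congr (QuotientGroup.quotientKerEquivOfSurjective _ (proj.subgroupMap_surjective G)).toEquiv, hker,
      Nat.card_congr (Subgroup.subgroupOfEquivOfLe hZ).toEquiv, PSLTwoSol.card_center_two h2] at this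
    rw [this, ← hH, hH60]
  · exfalso
    obtain ⟨f, hf⟩ := Dickson.exists_hom_of_le hK₀
    have htr : ∀ A : S2, proj A ∈ H → (algebraMap F KK (A : M2).trace) ^ 2 ∈ K₀ := by
      intro A hA
      obtain ⟨B, hB⟩ := hsub (Subgroup.mem_map_of_mem (MulAut.conj c).toMonoidHom (Subgroup.mem_map_of_mem Dickson.emb hA))
      obtain ⟨γ, rfl⟩ := hc
      induction B using ProjGenLinGroup.induction_on with | mk β =>
      induction γ using ProjGenLinGroup.induction_on with | mk δ =>
      have hA' : Dickson.emb (proj A) = ProjGenLinGroup.map (algebraMap F KK) (ProjGenLinGroup.mk (SpecialLinearGroup.toGL A)) := rfl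
      rw [MulEquiv.coe_toMonoidHom, MulAut.conj_apply, hA', ProjGenLinGroup.map_mk, ProjGenLinGroup.map_mk,
        ProjGenLinGroup.map_mk, ← map_inv, ← map_mul, ← map_mul, ProjGenLinGroup.mk_eq_mk_iff] at hB
      obtain ⟨u, hu⟩ := hB
      set A' := GeneralLinearGroup.map (n := Fin 2) (algebraMap F KK) (SpecialLinearGroup.toGL A) with hA''
      set D := GeneralLinearGroup.map (n := Fin 2) (algebraMap F KK) δ with hD
      set B' := GeneralLinearGroup.map (n := Fin 2) K₀.subtype β with hB'
      have t1 := congrArg (fun M : GL (Fin 2) KK => (M : Matrix (Fin 2) (Fin 2) KK).trace) hu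
      have d1 := congrArg (fun M : GL (Fin 2) KK => (M : Matrix (Fin 2) (Fin 2) KK).det) hu
      simp only [Units.val_mul, Matrix.trace_units_conj, Matrix.det_units_conj] at t1 d1
      have tA : (A' : Matrix (Fin 2) (Fin 2) KK).trace = algebraMap F KK (A : M2).trace := by
        simp [hA'', Matrix.trace_fin_two]
      have dA : (A' : Matrix (Fin 2) (Fin 2) KK).det = 1 := by
        show ((algebraMap F KK).mapMatrix (A : M2)).det = 1
        rw [← RingHom.map_det, A.2, map_one]
      have hsc : ((GeneralLinearGroup.scalar (Fin 2) u : GL (Fin 2) KK) : Matrix (Fin 2) (Fin 2) KK) = (u : KK) • 1 := by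
        ext i j
        fin_cases i <;> fin_cases j <;> simp
      have tB : (B' : Matrix (Fin 2) (Fin 2) KK).trace ∈ K₀ := by
        rw [Matrix.trace_fin_two]; exact add_mem (Subtype.coe_prop _) (Subtype.coe_prop _)
      have dB : (B' : Matrix (Fin 2) (Fin 2) KK).det ∈ K₀ := by
        rw [Matrix.det_fin_two]
        exact sub_mem (mul_mem (Subtype.coe_prop _) (Subtype.coe_prop _)) (mul_mem (Subtype.coe_prop _) (Subtype.coe_prop _))
      have key : (algebraMap F KK (A : M2).trace) ^ 2 =
          (B' : Matrix (Fin 2) (Fin 2) KK).trace ^ 2 / (B' : Matrix (Fin 2) (Fin 2) KK).det := by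
        rw [eq_div_iff (GL2.det_ne_zero B'), ← tA]
        rw [hsc, mul_smul_comm, mul_one, Matrix.trace_smul, smul_eq_mul] at t1
        rw [hsc, mul_smul_comm, mul_one, Matrix.det_smul, Fintype.card_fin, dA] at d1
        rw [← t1]
        linear_combination ((B' : Matrix (Fin 2) (Fin 2) KK).trace ^ 2) * d1
      rw [key]
      exact div_mem (pow_mem tB 2) dB
    have h1 := htr _ (Subgroup.mem_map_of_mem proj (mul_mem hU (pow_mem hL 1)))
    have h2' := htr _ (Subgroup.mem_map_of_mem proj (mul_mem hU (pow_mem hL 2)))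
    rw [trace_up_lo] at h1 h2'
    push_cast at h1 h2'
    set L := algebraMap F KK l with hL0
    simp only [map_add, map_mul, map_ofNat, map_one, one_mul, ← hL0] at h1 h2'
    have hcast : ∀ k : ℕ, (k : KK) ∈ K₀ := fun k => natCast_mem _ k
    have hLK : L ∈ K₀ := by
      have h8 : (8 : KK) ≠ 0 := by
        have h20 : (2 : KK) ≠ 0 := fun e => h2 ((algebraMap F KK).injective (by rw [map_ofNat, e, map_zero]))
        rw [show (8 : KK) = 2 * 2 * 2 by norm_num]; exact mul_ne_zero (mul_ne_zero h20 h20) h20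
      have e : L = ((4 : KK) * (2 + L) ^ 2 - (2 + 2 * L) ^ 2 - 12) / 8 := by field_simp; ring
      rw [e]
      exact div_mem (sub_mem (sub_mem (mul_mem (by exact_mod_cast hcast 4) h1) h2') (by exact_mod_cast hcast 12))
        (by exact_mod_cast hcast 8)
    have hK : K₀.comap (algebraMap F KK) = ⊤ := top_le_iff.1 (hgen ▸ Subfield.closure_le.2 (Set.singleton_subset_iff.2 hLK))
    have hKc : Fintype.card F ≤ Nat.card K₀ := by
      haveI := Dickson.finite_of_le hK₀
      rw [← Nat.card_eq_fintype_card]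
      exact Nat.card_le_card_of_injective (fun a : F => (⟨algebraMap F KK a, (hK ▸ Subfield.mem_top a : a ∈ K₀.comap _)⟩ : K₀))
        fun a b h => (algebraMap F KK).injective (congrArg Subtype.val h)
    obtain ⟨m, hm0, hm, hm1⟩ := Dickson.card_eq_pow hK₀ le_rfl
    rw [Dickson.card_fieldRange] at hm
    have hKq : Nat.card K₀ = Fintype.card F := by
      refine le_antisymm ?_ hKc
      rw [hm]; exact Nat.le_self_pow hm0.ne' _
    refine hHtop ?_
    refine Subgroup.map_injective Dickson.emb_injective ?_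
    rw [← MonoidHom.range_eq_map]
    refine Subgroup.eq_of_le_of_card_ge hle ?_
    show Nat.card (Dickson.pslF F) ≤ _
    rw [Dickson.card_pslF]
    have hG' := SL2.card_PSL2_mul (F := F)
    rw [hKq] at hcase
    rcases hcase with ⟨hc, -⟩ | ⟨ho, hc, -⟩
    · rw [hc, ← hG']
      exact Nat.le_mul_of_pos_left _ (Nat.gcd_pos_of_pos_left _ (by norm_num))
    · have h2g : Nat.gcd 2 (Fintype.card F - 1) = 2 := Nat.gcd_eq_left (by obtain ⟨j, hj⟩ := ho; omega)
      rw [h2g] at hG'
      omega

end Cfsg.Agent.Classical.TwoGen
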