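import Cfsg.Agent.Lib.Classical.UnitarySylow

/-!
An automorphism of `PSU_n(q)` in the two charts at a hyperbolic pair is semilinear.
-/

set_option autoImplicit false
set_option linter.style.haveILetI false
set_option linter.unusedSectionVars false

open Matrix

namespace Cfsg.Agent.PSUAut

variable {F : Type*} [Field F] [Fintype F] {n q : ℕ} (C : Ctx F n q)

local notation "hm" => Cfsg.hermForm n F q

include C

theorem image_T (α : MulAut (Cfsg.PSU n F q)) {v : Fin n → F} (hv : Iso q v) :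
    ∃ u, Iso q u ∧ α '' T q v = T q u := by
  obtain ⟨p, _⟩ := CharP.exists F
  haveI : Fact p.Prime := ⟨CharP.char_is_prime F p⟩
  obtain ⟨R, hR⟩ := exists_sylow_fix C (p := p) hv
  let S := (R.mapSurjective (QuotientGroup.mk'_surjective (Subgroup.center (Cfsg.SU n F q)))).mapSurjective
    (f := α.toMonoidHom) α.surjective
  obtain ⟨u, R', hu, hR', hS⟩ := sylow_form C S
  refine ⟨u, hu, ?_⟩
  rw [← zset_map C hv R hR, image_zset, ← zset_map C hu R' hR', hS]
  rfl

theorem image_QP (α : MulAut (Cfsg.PSU n F q)) {v u : Fin n → F} (hv : Iso q v) (hu : Iso q u)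
    (h : α '' T q v = T q u) : α '' QP q v = QP q u := by
  obtain ⟨p, _⟩ := CharP.exists F
  haveI : Fact p.Prime := ⟨CharP.char_is_prime F p⟩
  ext x
  constructor
  · rintro ⟨y, hy, rfl⟩
    rw [QP_char C (p := p) hu]
    intro S hS
    have hmap : zset ((S.mapSurjective (f := α.symm.toMonoidHom) α.symm.surjective : Sylow p _) :
        Subgroup (Cfsg.PSU n F q)) = T q v := by
      show zset ((S : Subgroup (Cfsg.PSU n F q)).map α.symm.toMonoidHom) = T q v
      rw [← image_zset, hS, ← h, Set.image_image]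
      simp
    obtain ⟨z, hz, e⟩ := (QP_char C (p := p) hv y).1 hy _ hmap
    have : α y = z := by rw [← e]; exact α.apply_symm_apply z
    rw [this]; exact hz
  · intro hx
    refine ⟨α.symm x, ?_, α.apply_symm_apply x⟩
    rw [QP_char C (p := p) hv]
    intro S hS
    have hmap : zset ((S.mapSurjective (f := α.toMonoidHom) α.surjective : Sylow p _) :
        Subgroup (Cfsg.PSU n F q)) = T q u := by
      show zset ((S : Subgroup (Cfsg.PSU n F q)).map α.toMonoidHom) = T q u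
      rw [← image_zset, hS, h]
    obtain ⟨z, hz, e⟩ := (QP_char C (p := p) hu x).1 hx _ hmap
    rw [← e]
    exact (α.symm_apply_apply z).symm ▸ hz

omit C [Fintype F] in
/-- The point with given coordinates. -/
def pt (P : Frame F n q) (w : Fin n → F) (a : F) : Fin n → F := a • P.e + P.f + w

omit C [Fintype F] in
/-- The coordinates of the isotropic points off the polar of `e`. -/
def Ad (P : Frame F n q) (w : Fin n → F) (a : F) : Prop :=
  P.InW w ∧ a + a ^ q = -Cfsg.hermForm n F q w w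

theorem Ad.val {P : Frame F n q} {w : Fin n → F} {a : F} (h : Ad P w a) : Val q P.e w a :=
  ⟨P.hee, h.1.1, h.2⟩

theorem ad_skew (P : Frame F n q) {c : F} (hc : c + c ^ q = 0) : Ad P 0 c :=
  ⟨⟨zero_left _, zero_left _⟩, by rw [zero_left, neg_zero]; exact hc⟩

theorem ad_add {P : Frame F n q} {w w' : Fin n → F} {a a' : F} (h : Ad P w a) (h' : Ad P w' a') :
    Ad P (w + w') (a + a' - hm w' w) :=
  ⟨⟨by rw [add_left, h.1.1, h'.1.1, add_zero], by rw [add_left, h.1.2, h'.1.2, add_zero]⟩,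
    (val_mul C (Ad.val C h) (Ad.val C h')).2.2⟩

theorem exists_ad {P : Frame F n q} {w : Fin n → F} (hw : P.InW w) : ∃ a, Ad P w a := by
  obtain ⟨t, ht⟩ := exists_trace C (c := -hm w w) (by rw [neg_pow_q C, self_fixed C])
  exact ⟨t, hw, ht⟩

theorem EM_f (P : Frame F n q) {w : Fin n → F} {a : F} (h : Ad P w a) :
    EM q P.e w a *ᵥ P.f = pt P w a := by
  rw [EM_apply, P.hfe, orth_symm C h.1.2, pt]
  module

theorem pt_e (P : Frame F n q) {w : Fin n → F} {a : F} (h : Ad P w a) : hm (pt P w a) P.e = 1 := by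
  rw [pt, add_left, add_left, smul_left, P.hee, P.hfe, h.1.1]; ring

theorem pt_f (P : Frame F n q) {w : Fin n → F} {a : F} (h : Ad P w a) : hm (pt P w a) P.f = a := by
  rw [pt, add_left, add_left, smul_left, P.hef, P.hff, h.1.2]; ring

theorem pt_pr (P : Frame F n q) {w : Fin n → F} {a : F} (h : Ad P w a) : P.pr (pt P w a) = w := by
  rw [Frame.pr, pt_e C P h, pt_f C P h, pt]; module

theorem EM_unique (P : Frame F n q) {w w' : Fin n → F} {a a' : F} (h : Ad P w a) (h' : Ad P w' a')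
    (e : cls q (EM q P.e w a) = cls q (EM q P.e w' a')) : w = w' ∧ a = a' := by
  rw [cls_EM C (Ad.val C h), cls_EM C (Ad.val C h')] at e
  obtain ⟨r, hr⟩ := (mk_eq_iff C).1 e
  rw [mat_el, mat_el] at hr
  have h1 := congrArg (fun M => M *ᵥ P.e) hr
  simp only [smul_mulVec, EM_apply, P.hee, orth_symm C h.1.1, orth_symm C h'.1.1, zero_smul, mul_zero,
    sub_zero, add_zero] at h1
  rw [show r = 1 from smul_left_injective F P.e_iso.1 (show r • P.e = (1 : F) • P.e by rw [one_smul, ← h1]),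
    one_smul] at hr
  have h2 := congrArg (fun M => M *ᵥ P.f) hr
  simp only [EM_f C P h, EM_f C P h'] at h2
  exact ⟨by rw [← pt_pr C P h, ← pt_pr C P h', h2], by rw [← pt_f C P h, ← pt_f C P h', h2]⟩

theorem QP_normal (P : Frame F n q) {x : Cfsg.PSU n F q} (hx : x ∈ QP q P.e) :
    ∃ w a, Ad P w a ∧ x = cls q (EM q P.e w a) := by
  obtain ⟨w, c, ⟨-, hwe, hc⟩, rfl⟩ := hx
  have hdec : w = hm w P.f • P.e + P.pr w := by
    conv_lhs => rw [P.decomp w, hwe, zero_smul, add_zero]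
  refine ⟨P.pr w, c + hm w P.f - hm w P.f ^ q, ⟨P.pr_mem w, ?_⟩, congrArg _ (mat_ext fun x => ?_)⟩
  · have hn : hm w w = hm (P.pr w) (P.pr w) := by
      conv_lhs => rw [hdec]
      simp only [add_left, add_right C, smul_left, smul_right, P.hee, (P.pr_mem w).1,
        orth_symm C (P.pr_mem w).1]
      ring
    rw [sub_pow_q C, add_pow_q C, pow_q_q C, ← hn]
    linear_combination hc
  · rw [EM_apply, EM_apply]
    conv_lhs => rw [hdec]
    rw [add_right C, smul_right]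
    module

/-! ### The charts -/

omit C [Fintype F] in
/-- The parameters of an automorphism in the charts. -/
structure Chart (α : MulAut (Cfsg.PSU n F q)) (P P' : Frame F n q) where
  A : (Fin n → F) → (Fin n → F)
  B : (Fin n → F) → F → F
  φ : F → F
  ψ : F → F
  hTe : α '' T q P.e = T q P'.e
  hTf : α '' T q P.f = T q P'.f
  hQ : ∀ w a, Ad P w a → Ad P' (A w) (B w a) ∧ α (cls q (EM q P.e w a)) = cls q (EM q P'.e (A w) (B w a))
  hφ : ∀ c, c + c ^ q = 0 → φ c + φ c ^ q = 0 ∧ α (cls q (EM q P.e 0 c)) = cls q (EM q P'.e 0 (φ c))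
  hψ : ∀ c, c + c ^ q = 0 → ψ c + ψ c ^ q = 0 ∧ α (cls q (EM q P.f 0 c)) = cls q (EM q P'.f 0 (ψ c))

theorem exists_chart (α : MulAut (Cfsg.PSU n F q)) (P : Frame F n q) :
    ∃ P' : Frame F n q, Nonempty (Chart α P P') := by
  obtain ⟨u, hu, hTu⟩ := image_T C α P.e_iso
  obtain ⟨u', hu', hTu'⟩ := image_T C α P.f_iso
  have hne : hm u u' ≠ 0 := fun h0 => by
    have hc : ∀ x ∈ T q P.e, ∀ y ∈ T q P.f, x * y = y * x := fun x hx y hy => α.injective (by
      rw [map_mul, map_mul]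
      exact (comm_iff C hu hu').2 h0 _ (hTu ▸ ⟨x, hx, rfl⟩) _ (hTu' ▸ ⟨y, hy, rfl⟩))
    have := (comm_iff C P.e_iso P.f_iso).1 hc
    rw [P.hef] at this
    exact one_ne_zero this
  have ha0 : ((hm u u')⁻¹) ^ q ≠ 0 := pow_ne_zero _ (inv_ne_zero hne)
  have hef : hm u (((hm u u')⁻¹) ^ q • u') = 1 := by
    rw [smul_right, pow_q_q C, inv_mul_cancel₀ hne]
  let P' : Frame F n q := ⟨u, _, hu.2, by rw [smul_left, smul_right, hu'.2]; ring, hef, one_symm C hef⟩
  have hTe : α '' T q P.e = T q P'.e := hTu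
  have hTf : α '' T q P.f = T q P'.f := hTu'.trans (T_par C ⟨_, ha0, rfl⟩)
  have hQ : ∀ w a, Ad P w a → ∃ w' a', Ad P' w' a' ∧
      α (cls q (EM q P.e w a)) = cls q (EM q P'.e w' a') := fun w a h =>
    QP_normal C P' (image_QP C α P.e_iso P'.e_iso hTe ▸ ⟨_, ⟨w, a, Ad.val C h, rfl⟩, rfl⟩)
  choose! A₂ B hA hB using hQ
  have hφ : ∀ c : F, c + c ^ q = 0 → ∃ d, d + d ^ q = 0 ∧
      α (cls q (EM q P.e 0 c)) = cls q (EM q P'.e 0 d) := fun c hc => by
    obtain ⟨d, hd, e⟩ := (hTe ▸ ⟨_, T_mem C hc, rfl⟩ : α (cls q (EM q P.e 0 c)) ∈ T q P'.e)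
    exact ⟨d, hd, e⟩
  have hψ : ∀ c : F, c + c ^ q = 0 → ∃ d, d + d ^ q = 0 ∧
      α (cls q (EM q P.f 0 c)) = cls q (EM q P'.f 0 d) := fun c hc => by
    obtain ⟨d, hd, e⟩ := (hTf ▸ ⟨_, T_mem C hc, rfl⟩ : α (cls q (EM q P.f 0 c)) ∈ T q P'.f)
    exact ⟨d, hd, e⟩
  choose! φ hφ1 hφ2 using hφ
  choose! ψ hψ1 hψ2 using hψ
  have hind : ∀ w a a', Ad P w a → Ad P w a' → A₂ w a' = A₂ w a := by
    intro w a a' h h'
    have hd : (a' - a) + (a' - a) ^ q = 0 := by
      rw [sub_pow_q C]; linear_combination h'.2 - h.2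
    have e : cls q (EM q P.e w a) * cls q (EM q P.e 0 (a' - a)) = cls q (EM q P.e w a') := by
      rw [cls_EM_mul C (Ad.val C h) (val_zero C P.hee hd), add_zero, zero_left, sub_zero, add_sub_cancel]
    have e2 := congrArg α e
    rw [map_mul, hB w a h, hB w a' h', hφ2 _ hd,
      cls_EM_mul C (Ad.val C (hA w a h)) (val_zero C P'.hee (hφ1 _ hd))] at e2
    have := (EM_unique C P' (ad_add C (hA w a h) (ad_skew C P' (hφ1 _ hd))) (hA w a' h') e2).1
    rw [← this, add_zero]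
  classical
  refine ⟨P', ⟨⟨fun w => if h : ∃ a, Ad P w a then A₂ w h.choose else 0, B, φ, ψ, hTe, hTf, fun w a h => ?_,
    fun c hc => ⟨hφ1 c hc, hφ2 c hc⟩, fun c hc => ⟨hψ1 c hc, hψ2 c hc⟩⟩⟩⟩
  have hex : ∃ a, Ad P w a := ⟨a, h⟩
  rw [dif_pos hex, ← hind w hex.choose a hex.choose_spec h]
  exact ⟨hA w a h, hB w a h⟩

variable {α : MulAut (Cfsg.PSU n F q)} {P P' : Frame F n q} (D : Chart α P P')

include D

theorem A_add {w w' : Fin n → F} {a a' : F} (h : Ad P w a) (h' : Ad P w' a') :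
    D.A (w + w') = D.A w + D.A w' ∧
      D.B (w + w') (a + a' - hm w' w) = D.B w a + D.B w' a' - hm (D.A w') (D.A w) := by
  have e := congrArg α (cls_EM_mul C (Ad.val C h) (Ad.val C h'))
  obtain ⟨h1, e1⟩ := D.hQ _ _ h
  obtain ⟨h2, e2⟩ := D.hQ _ _ h'
  obtain ⟨h3, e3⟩ := D.hQ _ _ (ad_add C h h')
  rw [map_mul, e1, e2, e3, cls_EM_mul C (Ad.val C h1) (Ad.val C h2)] at e
  have := EM_unique C P' (ad_add C h1 h2) h3 e
  exact ⟨this.1.symm, this.2.symm⟩

theorem A_add' {w w' : Fin n → F} (hw : P.InW w) (hw' : P.InW w') :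
    D.A (w + w') = D.A w + D.A w' := by
  obtain ⟨a, h⟩ := exists_ad C hw
  obtain ⟨a', h'⟩ := exists_ad C hw'
  exact (A_add C D h h').1

theorem A_mem {w : Fin n → F} (hw : P.InW w) : P'.InW (D.A w) := by
  obtain ⟨a, h⟩ := exists_ad C hw
  exact (D.hQ _ _ h).1.1

theorem B_zero {c : F} (hc : c + c ^ q = 0) : D.A 0 = 0 ∧ D.B 0 c = D.φ c := by
  obtain ⟨h1, e1⟩ := D.hQ _ _ (ad_skew C P hc)
  obtain ⟨h2, e2⟩ := D.hφ c hc
  exact EM_unique C P' h1 (ad_skew C P' h2) (e1.symm.trans e2)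

theorem φ_add {c c' : F} (hc : c + c ^ q = 0) (hc' : c' + c' ^ q = 0) :
    D.φ (c + c') = D.φ c + D.φ c' := by
  have hcc : (c + c') + (c + c') ^ q = 0 := by rw [add_pow_q C]; linear_combination hc + hc'
  have e := congrArg α (cls_EM_mul C (val_zero C P.hee hc) (val_zero C P.hee hc'))
  rw [map_mul, (D.hφ c hc).2, (D.hφ c' hc').2, cls_EM_mul C (val_zero C P'.hee (D.hφ c hc).1)
    (val_zero C P'.hee (D.hφ c' hc').1)] at e
  simp only [add_zero, zero_left, sub_zero] at e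
  rw [(D.hφ _ hcc).2] at e
  have hs : (D.φ c + D.φ c') + (D.φ c + D.φ c') ^ q = 0 := by
    rw [add_pow_q C]; linear_combination (D.hφ c hc).1 + (D.hφ c' hc').1
  exact (EM_inj_zero C P'.e_iso (D.hφ _ hcc).1 hs e.symm)

theorem ψ_add {c c' : F} (hc : c + c ^ q = 0) (hc' : c' + c' ^ q = 0) :
    D.ψ (c + c') = D.ψ c + D.ψ c' := by
  have hcc : (c + c') + (c + c') ^ q = 0 := by rw [add_pow_q C]; linear_combination hc + hc'
  have e := congrArg α (cls_EM_mul C (val_zero C P.hff hc) (val_zero C P.hff hc'))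
  rw [map_mul, (D.hψ c hc).2, (D.hψ c' hc').2, cls_EM_mul C (val_zero C P'.hff (D.hψ c hc).1)
    (val_zero C P'.hff (D.hψ c' hc').1)] at e
  simp only [add_zero, zero_left, sub_zero] at e
  rw [(D.hψ _ hcc).2] at e
  have hs : (D.ψ c + D.ψ c') + (D.ψ c + D.ψ c') ^ q = 0 := by
    rw [add_pow_q C]; linear_combination (D.hψ c hc).1 + (D.hψ c' hc').1
  exact (EM_inj_zero C P'.f_iso (D.hψ _ hcc).1 hs e.symm)

theorem φ_neg {c : F} (hc : c + c ^ q = 0) : D.φ (-c) = -D.φ c := by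
  have h0 : (0 : F) + 0 ^ q = 0 := by rw [zero_pow_q C, add_zero]
  have hn : -c + (-c) ^ q = 0 := by rw [neg_pow_q C]; linear_combination -hc
  have e0 : D.φ 0 = 0 := by
    have := φ_add C D h0 h0
    rwa [add_zero, left_eq_add] at this
  refine eq_neg_of_add_eq_zero_left ?_
  rw [← φ_add C D hn hc, neg_add_cancel, e0]

theorem A_injective {w : Fin n → F} (hw : P.InW w) (h : D.A w = 0) : w = 0 := by
  obtain ⟨a, ha⟩ := exists_ad C hw
  obtain ⟨h1, e1⟩ := D.hQ _ _ ha
  rw [h] at h1 e1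
  have hb : D.B w a + D.B w a ^ q = 0 := by have := h1.2; rwa [zero_left, neg_zero] at this
  obtain ⟨z, ⟨c, hc, rfl⟩, hz⟩ : α (cls q (EM q P.e w a)) ∈ α '' T q P.e := by
    rw [D.hTe, e1]; exact T_mem C hb
  exact (EM_unique C P (ad_skew C P hc) ha (α.injective hz)).1.symm

omit D in
/-- Transport of transvection groups by one element. -/
theorem step (α : MulAut (Cfsg.PSU n F q)) {v v' : Fin n → F} (hv : hm v v = 0) (hv' : hm v' v' = 0)
    (h : α '' T q v = T q v') {a b a' b' : Fin n → F} {c c' : F} (hM : Val q a b c) (hM' : Val q a' b' c')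
    (e : α (cls q (EM q a b c)) = cls q (EM q a' b' c')) :
    α '' T q (EM q a b c *ᵥ v) = T q (EM q a' b' c' *ᵥ v') := by
  rw [cls_EM C hM, cls_EM C hM'] at e
  rw [← mat_el C hM, ← mat_el C hM', ← conj_T C _ hv, ← conj_T C _ hv', ← h, ← e, Set.image_image,
    Set.image_image]
  exact Set.image_congr fun x _ => by simp [MulAut.conj_apply]

theorem pt_image {w : Fin n → F} {a : F} (h : Ad P w a) :
    α '' T q (pt P w a) = T q (pt P' (D.A w) (D.B w a)) := by
  obtain ⟨h1, e1⟩ := D.hQ _ _ h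
  rw [← EM_f C P h, ← EM_f C P' h1]
  exact step C α P.hff P'.hff D.hTf (Ad.val C h) (Ad.val C h1) e1

theorem pt_iso {w : Fin n → F} {a : F} (h : Ad P w a) : Iso q (pt P w a) := by
  rw [← EM_f C P h, ← mat_el C (Ad.val C h)]
  exact ⟨mat_ne_zero _ P.f_iso.1, by rw [mat_pres, P.hff]⟩

theorem orth_e_iff {v v' : Fin n → F} (hv : Iso q v) (hv' : Iso q v') (h : α '' T q v = T q v') :
    hm v P.e = 0 ↔ hm v' P'.e = 0 := by
  rw [← comm_iff C hv P.e_iso, ← comm_iff C hv' P'.e_iso, ← h, ← D.hTe]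
  constructor
  · rintro hc _ ⟨x, hx, rfl⟩ _ ⟨y, hy, rfl⟩
    rw [← map_mul, ← map_mul, hc x hx y hy]
  · intro hc x hx y hy
    exact α.injective (by rw [map_mul, map_mul]; exact hc _ ⟨x, hx, rfl⟩ _ ⟨y, hy, rfl⟩)

/-- Comparing a vector with the image of a point. -/
theorem compare {w : Fin n → F} {a : F} {x : Fin n → F} (hx : hm x x = 0) (h : Ad P w a)
    {v' : Fin n → F} (hv' : Iso q v') (hpar : Par (pt P w a) x) (himg : α '' T q x = T q v') :
    v' = hm v' P'.e • pt P' (D.A w) (D.B w a) := by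
  have h1 := (D.hQ _ _ h).1
  have hT : T q (pt P' (D.A w) (D.B w a)) = T q v' := by
    rw [← pt_image C D h, ← himg, T_par C hpar]
  have hiso : Iso q (pt P' (D.A w) (D.B w a)) := by
    rw [← EM_f C P' h1, ← mat_el C (Ad.val C h1)]
    exact ⟨mat_ne_zero _ P'.f_iso.1, by rw [mat_pres, P'.hff]⟩
  obtain ⟨c, -, rfl⟩ := (T_eq_iff C hiso hv').1 hT
  rw [smul_left, pt_e C P' h1, mul_one]

/-- The action of a transvection at `f`. -/
theorem flip {w : Fin n → F} {a d : F} (h : Ad P w a) (hd : d + d ^ q = 0) :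
    (1 + d * a = 0 ↔ 1 + D.ψ d * D.B w a = 0) ∧
      (1 + d * a ≠ 0 → D.A w = (1 + D.ψ d * D.B w a) • D.A ((1 + d * a)⁻¹ • w)) := by
  obtain ⟨h1, -⟩ := D.hQ _ _ h
  obtain ⟨hd', e2⟩ := D.hψ d hd
  set V := EM q P.f 0 d *ᵥ pt P w a with hV
  set V' := EM q P'.f 0 (D.ψ d) *ᵥ pt P' (D.A w) (D.B w a) with hV'
  have hVc : V = a • P.e + (1 + d * a) • P.f + w := by
    rw [hV, EM_apply, pt_f C P h, zero_right C, pt]; module
  have hV'c : V' = D.B w a • P'.e + (1 + D.ψ d * D.B w a) • P'.f + D.A w := by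
    rw [hV', EM_apply, pt_f C P' h1, zero_right C, pt]; module
  have hp' : Iso q (pt P' (D.A w) (D.B w a)) := by
    rw [← EM_f C P' h1, ← mat_el C (Ad.val C h1)]
    exact ⟨mat_ne_zero _ P'.f_iso.1, by rw [mat_pres, P'.hff]⟩
  have hVi : Iso q V := by
    rw [hV, ← mat_el C (val_zero C P.hff hd)]
    exact ⟨mat_ne_zero _ (pt_iso C D h).1, by rw [mat_pres, (pt_iso C D h).2]⟩
  have hV'i : Iso q V' := by
    rw [hV', ← mat_el C (val_zero C P'.hff hd')]
    exact ⟨mat_ne_zero _ hp'.1, by rw [mat_pres, hp'.2]⟩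
  have himg : α '' T q V = T q V' :=
    step C α (pt_iso C D h).2 hp'.2 (pt_image C D h) (val_zero C P.hff hd) (val_zero C P'.hff hd') e2
  have hVe : hm V P.e = 1 + d * a := by
    rw [hVc, add_left, add_left, smul_left, smul_left, P.hee, P.hfe, h.1.1]; ring
  have hV'e : hm V' P'.e = 1 + D.ψ d * D.B w a := by
    rw [hV'c, add_left, add_left, smul_left, smul_left, P'.hee, P'.hfe, h1.1.1]; ring
  have horth := orth_e_iff C D hVi hV'i himg
  rw [hVe, hV'e] at horth
  refine ⟨horth, fun hs => ?_⟩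
  set s := 1 + d * a with hsdef
  have hVs : V = s • pt P (s⁻¹ • w) (s⁻¹ * a) := by
    rw [hVc, pt, smul_add, smul_add, smul_smul, smul_smul, ← mul_assoc, mul_inv_cancel₀ hs, one_mul, one_smul]
  have hAd : Ad P (s⁻¹ • w) (s⁻¹ * a) := by
    refine ⟨⟨by rw [smul_left, h.1.1, mul_zero], by rw [smul_left, h.1.2, mul_zero]⟩, ?_⟩
    have h0 := hVi.2
    rw [hVs, smul_left, smul_right] at h0
    have h00 : hm (pt P (s⁻¹ • w) (s⁻¹ * a)) (pt P (s⁻¹ • w) (s⁻¹ * a)) = 0 :=
      (mul_eq_zero.1 ((mul_eq_zero.1 h0).resolve_left hs)).resolve_left (pow_ne_zero _ hs)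
    simp only [pt, add_left, add_right C, smul_left, smul_right, P.hee, P.hef, P.hfe, P.hff, h.1.1, h.1.2,
      orth_symm C h.1.1, orth_symm C h.1.2] at h00
    rw [smul_left, smul_right]
    linear_combination h00
  have hc := compare C D hVi.2 hAd hV'i ⟨s, hs, hVs⟩ himg
  have := congrArg P'.pr hc
  rw [hV'e, P'.pr_smul, pt_pr C P' (D.hQ _ _ hAd).1] at this
  rw [← this, hV'c]
  simp only [Frame.pr, add_left, smul_left, P'.hee, P'.hef, P'.hfe, P'.hff, h1.1.1, h1.1.2]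
  module

theorem ψφ {d : F} (hd : d + d ^ q = 0) (hd0 : d ≠ 0) : D.ψ d * D.φ d⁻¹ = 1 := by
  have hi : d⁻¹ + d⁻¹ ^ q = 0 := by
    rw [inv_pow, show d ^ q = -d by linear_combination hd, inv_neg, add_neg_cancel]
  have hm' : -d⁻¹ + (-d⁻¹) ^ q = 0 := by rw [neg_pow_q C]; linear_combination -hi
  have := (flip C D (ad_skew C P hm') hd).1.1 (by field_simp; ring)
  rw [(B_zero C D hm').2, φ_neg C D hi] at this
  linear_combination -this

omit D in
theorem tri {a b : Fin n → F} (haa : hm a a = 0) (hbb : hm b b = 0) (hab : hm a b = 1) (hba : hm b a = 1)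
    {w : Fin n → F} (hwa : hm w a = 0) (hwb : hm w b = 0) {c d : F} (hcd : c * d = -1) (x y : F) :
    EM q a 0 c *ᵥ (EM q b 0 d *ᵥ (EM q a 0 c *ᵥ (x • a + y • b + w))) = (c * y) • a + (d * x) • b + w := by
  simp only [EM_apply, zero_right C, add_left, smul_left, haa, hbb, hab, hba, hwa, hwb, smul_zero,
    sub_zero, mul_zero, add_zero, zero_add, mul_one]
  linear_combination (norm := module) hcd • ((x + c * y) • a + y • b)

/-- The parameter map on the fixed field. -/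
theorem A_fixed {k : F} (hk0 : k ≠ 0) (hk : k + k ^ q = 0) {r : F} (hr0 : r ≠ 0) (hr : r ^ q = r)
    {w : Fin n → F} (hw : P.InW w) : D.A (r • w) = (D.ψ (r / k) * D.φ k) • D.A w := by
  suffices key : ∀ w, P.InW w → D.A w = (D.ψ (r / k) * D.φ k) • D.A (r⁻¹ • w) by
    have := key (r • w) ⟨by rw [smul_left, hw.1, mul_zero], by rw [smul_left, hw.2, mul_zero]⟩
    rwa [inv_smul_smul₀ hr0] at this
  intro w hw
  obtain ⟨a, h⟩ := exists_ad C hw
  obtain ⟨h1, -⟩ := D.hQ _ _ h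
  have hkq : k ^ q = -k := by linear_combination hk
  set d := -k⁻¹ with hd
  set d' := r / k with hd'
  set c' := -d'⁻¹ with hc'
  have sd : d + d ^ q = 0 := by rw [hd, neg_pow_q C, inv_pow, hkq, inv_neg]; ring
  have sd' : d' + d' ^ q = 0 := by rw [hd', div_pow, hkq, hr]; ring
  have sd'i : d'⁻¹ + d'⁻¹ ^ q = 0 := by
    rw [inv_pow, show d' ^ q = -d' by linear_combination sd', inv_neg, add_neg_cancel]
  have sc' : c' + c' ^ q = 0 := by rw [hc', neg_pow_q C]; linear_combination -sd'i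
  have hd'0 : d' ≠ 0 := div_ne_zero hr0 hk0
  have e1 : k * d = -1 := by rw [hd]; field_simp
  have e2 : c' * d' = -1 := by rw [hc']; field_simp
  have f1 : D.φ k * D.ψ d = -1 := by
    have := ψφ C D sd (by rw [hd]; simpa using hk0)
    rw [show d⁻¹ = -k by rw [hd, inv_neg, inv_inv], φ_neg C D hk] at this
    linear_combination -this
  have f2 : D.φ c' * D.ψ d' = -1 := by
    rw [hc', φ_neg C D sd'i]; linear_combination -(ψφ C D sd' hd'0)
  -- the two chains
  have chain : ∀ {c d : F}, c + c ^ q = 0 → d + d ^ q = 0 → c * d = -1 → D.φ c * D.ψ d = -1 →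
      ∀ {x y : F} {v : Fin n → F} {x' y' : F} {v' : Fin n → F}, P.InW v → P'.InW v' →
      Iso q (x • P.e + y • P.f + v) → Iso q (x' • P'.e + y' • P'.f + v') →
      α '' T q (x • P.e + y • P.f + v) = T q (x' • P'.e + y' • P'.f + v') →
      Iso q ((c * y) • P.e + (d * x) • P.f + v) ∧
        Iso q ((D.φ c * y') • P'.e + (D.ψ d * x') • P'.f + v') ∧
        α '' T q ((c * y) • P.e + (d * x) • P.f + v) =
          T q ((D.φ c * y') • P'.e + (D.ψ d * x') • P'.f + v') := by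
    intro c d hc hdd hcd hcd' x y v x' y' v' hv hv' hi hi' himg
    have mv : ∀ {a : Fin n → F} {c : F}, hm a a = 0 → c + c ^ q = 0 → ∀ {u : Fin n → F}, Iso q u →
        Iso q (EM q a 0 c *ᵥ u) := by
      intro a c ha hc u hu
      rw [← mat_el C (val_zero C ha hc)]
      exact ⟨mat_ne_zero _ hu.1, by rw [mat_pres, hu.2]⟩
    obtain ⟨hc', ec⟩ := D.hφ c hc
    obtain ⟨hd', ed⟩ := D.hψ d hdd
    have i1 := mv P.hee hc hi
    have j1 := mv P'.hee hc' hi'
    have t1 := step C α hi.2 hi'.2 himg (val_zero C P.hee hc) (val_zero C P'.hee hc') ec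
    have i2 := mv P.hff hdd i1
    have j2 := mv P'.hff hd' j1
    have t2 := step C α i1.2 j1.2 t1 (val_zero C P.hff hdd) (val_zero C P'.hff hd') ed
    have i3 := mv P.hee hc i2
    have j3 := mv P'.hee hc' j2
    have t3 := step C α i2.2 j2.2 t2 (val_zero C P.hee hc) (val_zero C P'.hee hc') ec
    rw [tri C P.hee P.hff P.hef P.hfe hv.1 hv.2 hcd] at i3 t3
    rw [tri C P'.hee P'.hff P'.hef P'.hfe hv'.1 hv'.2 hcd'] at j3 t3
    exact ⟨i3, j3, t3⟩
  have hp : pt P w a = a • P.e + (1 : F) • P.f + w := by rw [one_smul]; rfl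
  have hp' : pt P' (D.A w) (D.B w a) = D.B w a • P'.e + (1 : F) • P'.f + D.A w := by rw [one_smul]; rfl
  have hi' : Iso q (pt P' (D.A w) (D.B w a)) := by
    rw [← EM_f C P' h1, ← mat_el C (Ad.val C h1)]
    exact ⟨mat_ne_zero _ P'.f_iso.1, by rw [mat_pres, P'.hff]⟩
  have himg := pt_image C D h
  have hi := pt_iso C D h
  rw [hp] at hi himg
  rw [hp'] at hi' himg
  obtain ⟨i1, j1, t1⟩ := chain hk sd e1 f1 h.1 h1.1 hi hi' himg
  obtain ⟨i2, j2, t2⟩ := chain sc' sd' e2 f2 h.1 h1.1 i1 j1 t1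
  have er : d' * (k * 1) = r := by rw [hd']; field_simp
  rw [er] at i2 t2
  set x := c' * (d * a) with hx
  have hAd : Ad P (r⁻¹ • w) (r⁻¹ * x) := by
    refine ⟨⟨by rw [smul_left, hw.1, mul_zero], by rw [smul_left, hw.2, mul_zero]⟩, ?_⟩
    have h00 := i2.2
    simp only [add_left, add_right C, smul_left, smul_right, P.hee, P.hef, P.hfe, P.hff, hw.1, hw.2,
      orth_symm C hw.1, orth_symm C hw.2, hr] at h00
    rw [smul_left, smul_right, mul_pow, inv_pow, hr]
    field_simp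
    linear_combination h00
  have hpar : Par (pt P (r⁻¹ • w) (r⁻¹ * x)) (x • P.e + r • P.f + w) := by
    refine ⟨r, hr0, ?_⟩
    rw [pt, smul_add, smul_add, smul_smul, smul_smul, ← mul_assoc, mul_inv_cancel₀ hr0, one_mul, one_smul]
  have hc := compare C D i2.2 hAd j2 hpar t2
  have := congrArg P'.pr hc
  rw [P'.pr_smul, pt_pr C P' (D.hQ _ _ hAd).1] at this
  have e1' := h1.1.1
  have e2' := h1.1.2
  simp only [Frame.pr, add_left, smul_left, P'.hee, P'.hef, P'.hfe, P'.hff, e1', e2', mul_zero, mul_one,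
    zero_add, add_zero] at this
  linear_combination (norm := module) this

end Cfsg.Agent.PSUAut
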