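import Cfsg.Prelude.Def_KGroupFacts
import Cfsg.Agent.Lib.Classical.UnitaryAut

/-!
The outer automorphism group of `PSU_n(q)`.
-/

set_option autoImplicit false
set_option linter.style.haveILetI false
set_option linter.unusedSectionVars false

open Matrix

namespace Cfsg.Agent.PSUAut

variable {F : Type*} [Field F] [Fintype F] {n q : ℕ} (C : Ctx F n q)

include C

omit C in
theorem inn_le_semi (s : Cfsg.SU n F q) :
    MulAut.conj (QuotientGroup.mk s : Cfsg.PSU n F q) =
      semi ⟨SpecialLinearGroup.toGL (s : SpecialLinearGroup (Fin n) F), s.2⟩ 1 := by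
  refine semi_ext _ _ _ fun t t' ht' => ?_
  rw [MulAut.conj_apply, ← QuotientGroup.mk_inv, ← QuotientGroup.mk_mul, ← QuotientGroup.mk_mul]
  congr 1
  refine mat_inj ?_
  rw [ht', mat_mul, mat_mul, ← map_inv]
  rfl

/-- Inner automorphisms are given faithfully. -/
theorem conj_injective : Function.Injective (MulAut.conj : Cfsg.PSU n F q →* MulAut (Cfsg.PSU n F q)) := by
  rw [injective_iff_map_eq_one]
  intro z hz
  exact eq_one_of_conj C fun v _ => by rw [hz, MulAut.coe_one, Set.image_id]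

theorem rep_unique {g h : Cfsg.GU n F q} {σ τ : F ≃+* F} (he : semi g σ = semi h τ) : σ = τ := by
  have e : semi (g⁻¹ * h) 1 = semi (fieldGU σ 1) 1 * semi (g⁻¹ * h) 1 := by
    rw [map_one, semi_one, one_mul]
  have hinv : semi (fieldGU σ⁻¹ g⁻¹) σ⁻¹ * semi g σ = 1 := by
    rw [semi_mul, inv_mul_cancel, ← map_mul, inv_mul_cancel, map_one, semi_one]
  rw [he, semi_mul] at hinv
  exact inv_mul_eq_one.1 (eq_one_of_semi_eq_one C hinv).1

theorem exists_rep (β : MulAut (Cfsg.PSU n F q)) : ∃ σ : F ≃+* F, ∃ g, β = semi g σ := by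
  obtain ⟨g, σ, h⟩ := aut_eq C β
  exact ⟨σ, g, h⟩

theorem rep_choose {g : Cfsg.GU n F q} {σ : F ≃+* F} {β : MulAut (Cfsg.PSU n F q)} (h : β = semi g σ) :
    (exists_rep C β).choose = σ := by
  obtain ⟨g', hg'⟩ := (exists_rep C β).choose_spec
  exact rep_unique C (hg'.symm.trans h)

/-- The field part of an automorphism. -/
noncomputable def part : MulAut (Cfsg.PSU n F q) →* (F ≃+* F) where
  toFun β := (exists_rep C β).choose
  map_one' := rep_choose C (g := 1) semi_one.symm
  map_mul' a b := by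
    obtain ⟨σ, g, ha⟩ := exists_rep C a
    obtain ⟨τ, h, hb⟩ := exists_rep C b
    rw [rep_choose C ha, rep_choose C hb]
    exact rep_choose C (by rw [ha, hb, semi_mul])

theorem part_eq {g : Cfsg.GU n F q} {σ : F ≃+* F} {β : MulAut (Cfsg.PSU n F q)} (h : β = semi g σ) :
    part C β = σ := rep_choose C h

theorem inn_le_ker : Cfsg.Inn (Cfsg.PSU n F q) ≤ (part C).ker := by
  rintro _ ⟨x, rfl⟩
  obtain ⟨s, rfl⟩ := QuotientGroup.mk_surjective x
  exact part_eq C (inn_le_semi s)

omit C in
/-- The diagonal automorphisms in the outer group. -/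
noncomputable def outDiag : Cfsg.GU n F q →* Cfsg.Out (Cfsg.PSU n F q) :=
  (QuotientGroup.mk' _).comp
    { toFun := fun g => semi g 1
      map_one' := semi_one
      map_mul' := fun g h => by rw [semi_mul, one_mul, fieldGU_one] }

omit C in
theorem outDiag_apply (g : Cfsg.GU n F q) :
    outDiag g = (QuotientGroup.mk (semi g 1) : Cfsg.Out (Cfsg.PSU n F q)) := rfl

omit C in
theorem det_scalar (c : F) : (c • (1 : Matrix (Fin n) (Fin n) F)).det = c ^ n := by
  rw [det_smul, det_one, mul_one, Fintype.card_fin]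

theorem ker_outDiag : (outDiag (F := F) (n := n) (q := q)).ker =
    (powMonoidHom n : Classical.Unitary.normOne F q →* Classical.Unitary.normOne F q).range.comap
      (Classical.Unitary.detHom C.hF n) := by
  ext g
  rw [MonoidHom.mem_ker, outDiag_apply, QuotientGroup.eq_one_iff, Subgroup.mem_comap]
  constructor
  · rintro ⟨x, hx⟩
    obtain ⟨s, rfl⟩ := QuotientGroup.mk_surjective x
    rw [inn_le_semi] at hx
    set s' : Cfsg.GU n F q := ⟨SpecialLinearGroup.toGL (s : SpecialLinearGroup (Fin n) F), s.2⟩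
    have hq : semi (s'⁻¹ * g) 1 = 1 := by
      have e : semi s'⁻¹ 1 * semi g 1 = 1 := by
        rw [← hx, semi_mul, one_mul, fieldGU_one, inv_mul_cancel, semi_one]
      rwa [semi_mul, one_mul, fieldGU_one] at e
    obtain ⟨-, c, hc⟩ := eq_one_of_semi_eq_one C hq
    have hnorm : c * c ^ q = 1 := by
      obtain ⟨y, hy⟩ := exists_dual C (v := Pi.single (⟨0, by have := C.hn; omega⟩ : Fin n) (1 : F))
        (by simp)
      have := mem_GU (s'⁻¹ * g).2 y (Pi.single ⟨0, by have := C.hn; omega⟩ 1)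
      rw [hc, smul_mulVec, smul_mulVec, one_mulVec, one_mulVec, smul_left, smul_right, hy, mul_one] at this
      exact this
    have hc0 : c ≠ 0 := left_ne_zero_of_mul_eq_one hnorm
    have hdet := congrArg Matrix.det hc
    rw [det_scalar] at hdet
    refine ⟨⟨Units.mk0 c hc0, ?_⟩, ?_⟩
    · rw [MonoidHom.mem_ker, powMonoidHom_apply]
      refine Units.ext ?_
      rw [Units.val_pow_eq_pow_val, Units.val_one, pow_succ, Units.val_mk0, mul_comm]
      exact hnorm
    · refine Subtype.ext (Units.ext ?_)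
      rw [powMonoidHom_apply, SubmonoidClass.coe_pow, Units.val_pow_eq_pow_val, Units.val_mk0, ← hdet,
        Subgroup.coe_mul, Subgroup.coe_inv, Units.val_mul, det_mul]
      have h1 : (((s' : GL (Fin n) F)⁻¹ : GL (Fin n) F) : Matrix (Fin n) (Fin n) F).det = 1 := by
        have : ((s' : GL (Fin n) F)⁻¹) = SpecialLinearGroup.toGL (s : SpecialLinearGroup (Fin n) F)⁻¹ :=
          (map_inv _ _).symm
        rw [this]
        exact ((s : SpecialLinearGroup (Fin n) F)⁻¹).det_coe
      rw [h1, one_mul]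
      rfl
  · rintro ⟨⟨c, hc⟩, hcg⟩
    have hc' : (c : F) * (c : F) ^ q = 1 := by
      rw [← pow_succ', ← Units.val_pow_eq_pow_val, show c ^ (q + 1) = 1 from hc, Units.val_one]
    have hci : ((c⁻¹ : Fˣ) : F) * ((c⁻¹ : Fˣ) : F) ^ q = 1 := by
      rw [Units.val_inv_eq_inv_val, inv_pow, ← mul_inv, hc', inv_one]
    let M : Matrix (Fin n) (Fin n) F := ((c⁻¹ : Fˣ) : F) • ((g : GL (Fin n) F) : Matrix (Fin n) (Fin n) F)
    have hdet : M.det = 1 := by
      have h1 := congrArg (fun x : Classical.Unitary.normOne F q => ((x : Fˣ) : F)) hcg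
      simp only [powMonoidHom_apply, SubmonoidClass.coe_pow, Units.val_pow_eq_pow_val] at h1
      rw [det_smul, Fintype.card_fin, show ((g : GL (Fin n) F) : Matrix (Fin n) (Fin n) F).det = (c : F) ^ n from h1.symm,
        ← mul_pow, Units.inv_mul, one_pow]
    let s : Cfsg.SU n F q := ⟨⟨M, hdet⟩, fun u v => by
      show Cfsg.hermForm n F q (M *ᵥ u) (M *ᵥ v) = Cfsg.hermForm n F q u v
      rw [smul_mulVec, smul_mulVec, smul_left, smul_right, mem_GU g.2, ← mul_assoc, hci, one_mul]⟩
    refine ⟨QuotientGroup.mk s, (inn_le_semi s).trans ?_⟩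
    refine semi_ext _ g 1 fun t t' ht' => ?_
    refine semi_mk _ _ _ _ ?_
    rw [ht']
    have hinv : (((SpecialLinearGroup.toGL (s : SpecialLinearGroup (Fin n) F))⁻¹ : GL (Fin n) F) :
        Matrix (Fin n) (Fin n) F) = (c : F) • (((g : GL (Fin n) F)⁻¹ : GL (Fin n) F) : Matrix (Fin n) (Fin n) F) := by
      refine left_inv_eq_right_inv (Units.inv_mul _) ?_
      show M * _ = 1
      rw [smul_mul_smul_comm, Units.inv_mul, one_smul, Units.mul_inv]
    show _ = M * _ * (((SpecialLinearGroup.toGL (s : SpecialLinearGroup (Fin n) F))⁻¹ : GL (Fin n) F) :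
        Matrix (Fin n) (Fin n) F)
    rw [hinv, smul_mul_assoc, smul_mul_assoc, mul_smul_comm, smul_smul, Units.inv_mul, one_smul]

/-- The structure of the outer automorphism group. -/
theorem out_structure {p f : ℕ} [Fact p.Prime] (hf : 1 ≤ f) (hq : q = p ^ f) :
    ∃ φ : Cfsg.Out (Cfsg.PSU n F q) →* Multiplicative (ZMod (2 * f)),
      Function.Surjective φ ∧ IsCyclic φ.ker ∧ Nat.card φ.ker = Nat.gcd n (q + 1) := by
  have hF : Fintype.card F = p ^ (2 * f) := by rw [C.hF, hq, ← pow_mul, mul_comm]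
  obtain ⟨p', hp'⟩ := CharP.exists F
  obtain ⟨m, hpp, hm⟩ := FiniteField.card F p'
  obtain rfl : p' = p := (Nat.prime_eq_prime_of_dvd_pow hpp Fact.out
    (hm.symm.trans hF ▸ dvd_pow_self p' m.ne_zero))
  letI := ZMod.algebra F p'
  have hfr : Module.finrank (ZMod p') F = 2 * f := by
    have e := Module.card_eq_pow_finrank (K := ZMod p') (V := F)
    rw [hF, ZMod.card] at e
    exact (Nat.pow_right_injective hpp.two_le e).symm
  let r : (F ≃+* F) ≃* (F ≃ₐ[ZMod p'] F) :=
    { toFun := fun φ => AlgEquiv.ofRingEquiv (f := φ) fun x =>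
        RingHom.congr_fun (Subsingleton.elim ((φ : F →+* F).comp (algebraMap (ZMod p') F)) (algebraMap (ZMod p') F)) x
      invFun := fun ψ => ψ.toRingEquiv
      left_inv := fun φ => RingEquiv.ext fun _ => rfl
      right_inv := fun ψ => AlgEquiv.ext fun _ => rfl
      map_mul' := fun _ _ => AlgEquiv.ext fun _ => rfl }
  have hcyc : IsCyclic (F ≃ₐ[ZMod p'] F) := inferInstance
  have hcard : Nat.card (F ≃ₐ[ZMod p'] F) = 2 * f := by rw [IsGalois.card_aut_eq_finrank, hfr]
  let e : (F ≃+* F) ≃* Multiplicative (ZMod (2 * f)) := r.trans (hcard ▸ (zmodCyclicMulEquiv hcyc).symm)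
  let Φ : Cfsg.Out (Cfsg.PSU n F q) →* (F ≃+* F) := QuotientGroup.lift _ (part C) (inn_le_ker C)
  refine ⟨e.toMonoidHom.comp Φ, e.surjective.comp fun σ =>
    ⟨QuotientGroup.mk (semi 1 σ), part_eq C rfl⟩, ?_⟩
  have hsur := Classical.Unitary.detHom_surjective C.hF (n := n) (by have := C.hn; omega)
  have hk : (e.toMonoidHom.comp Φ).ker = (outDiag (F := F) (n := n) (q := q)).range := by
    ext x
    induction x using QuotientGroup.induction_on with | H α =>
    rw [MonoidHom.mem_ker, MonoidHom.comp_apply, MulEquiv.coe_toMonoidHom, MulEquiv.map_eq_one_iff]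
    show part C α = 1 ↔ _
    constructor
    · intro h
      obtain ⟨σ, g, hα⟩ := exists_rep C α
      rw [part_eq C hα] at h
      exact ⟨g, by rw [outDiag_apply, hα, h]⟩
    · rintro ⟨g, hg⟩
      have e' : Φ (QuotientGroup.mk α) = Φ (QuotientGroup.mk (semi g 1)) := congrArg Φ hg.symm
      exact (show part C α = part C (semi g 1) from e').trans (part_eq C rfl)
  rw [hk]
  let π := QuotientGroup.quotientKerEquivRange (outDiag (F := F) (n := n) (q := q))
  constructor
  · let D := Classical.Unitary.detHom C.hF n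
    let ψ : Cfsg.GU n F q ⧸ (outDiag (F := F) (n := n) (q := q)).ker →*
        Classical.Unitary.normOne F q ⧸ (powMonoidHom n : Classical.Unitary.normOne F q →* _).range :=
      QuotientGroup.map _ _ D (ker_outDiag C).le
    have hψ : Function.Injective ψ := by
      rw [injective_iff_map_eq_one]
      intro x
      induction x using QuotientGroup.induction_on with | H g =>
      intro hx
      rw [QuotientGroup.eq_one_iff, ker_outDiag C, Subgroup.mem_comap]
      exact (QuotientGroup.eq_one_iff _).1 hx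
    haveI : IsCyclic (Classical.Unitary.normOne F q ⧸
        (powMonoidHom n : Classical.Unitary.normOne F q →* _).range) :=
      isCyclic_of_surjective _ (QuotientGroup.mk'_surjective _)
    haveI := isCyclic_of_injective ψ hψ
    exact isCyclic_of_surjective π.toMonoidHom π.surjective
  · rw [← Nat.card_congr π.toEquiv, ← Subgroup.index_eq_card, ker_outDiag C,
      Subgroup.index_comap_of_surjective _ hsur]
    have h1 := (powMonoidHom n : Classical.Unitary.normOne F q →* _).range.card_mul_index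
    have h2 := (powMonoidHom n : Classical.Unitary.normOne F q →* _).ker.card_mul_index
    rw [Subgroup.index_ker, IsCyclic.card_powMonoidHom_ker, mul_comm] at h2
    rw [← h2] at h1
    rw [Nat.eq_of_mul_eq_mul_left Nat.card_pos h1, Classical.Unitary.card_normOne C.hF, Nat.gcd_comm]

/-- The order of the automorphism group. -/
theorem card_aut {p f : ℕ} [Fact p.Prime] (hf : 1 ≤ f) (hq : q = p ^ f) :
    Nat.card (MulAut (Cfsg.PSU n F q)) = Nat.gcd n (q + 1) * (2 * f) * Nat.card (Cfsg.PSU n F q) := by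
  obtain ⟨φ, hs, -, hk⟩ := out_structure C hf hq
  have h1 : Nat.card (MulAut (Cfsg.PSU n F q)) =
      Nat.card (Cfsg.Out (Cfsg.PSU n F q)) * Nat.card (Cfsg.Inn (Cfsg.PSU n F q)) :=
    Subgroup.card_eq_card_quotient_mul_card_subgroup _
  have h2 : Nat.card (Cfsg.Inn (Cfsg.PSU n F q)) = Nat.card (Cfsg.PSU n F q) :=
    (Nat.card_congr (MonoidHom.ofInjective (conj_injective C)).toEquiv).symm
  have h3 := φ.ker.index_mul_card
  rw [Subgroup.index_ker, MonoidHom.range_eq_top.2 hs, Subgroup.card_top,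
    Nat.card_congr (Multiplicative.toAdd (α := ZMod (2 * f))), Nat.card_zmod] at h3
  rw [h1, h2, ← h3, hk]
  ring

theorem field_isFieldAut (σ : F ≃+* F) :
    Cfsg.IsFieldAutPSUOf σ (semi (1 : Cfsg.GU n F q) σ) := fun s s' hs' =>
  semi_mk 1 σ s s' (by simpa [mat] using hs')

theorem diag_isInnerDiag (g : Cfsg.GU n F q) :
    Cfsg.IsInnerDiagonalAutPSU (semi g (1 : F ≃+* F)) :=
  ⟨g, g.2, fun s s' hs' => semi_mk g 1 s s' (by simpa [mat] using hs')⟩

theorem factorization (β : MulAut (Cfsg.PSU n F q)) :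
    ∃ (δ φ : MulAut (Cfsg.PSU n F q)) (σ : F ≃+* F),
      Cfsg.IsInnerDiagonalAutPSU δ ∧ Cfsg.IsFieldAutPSUOf σ φ ∧ β = δ * φ := by
  obtain ⟨g, σ, rfl⟩ := aut_eq C β
  exact ⟨semi g 1, semi 1 σ, σ, diag_isInnerDiag C g, field_isFieldAut C σ,
    by rw [semi_mul, one_mul, map_one, mul_one]⟩

theorem gamma_top : Cfsg.gammaPSU n F q = ⊤ := by
  refine (Subgroup.eq_top_iff' _).2 fun β => ?_
  obtain ⟨g, σ, rfl⟩ := aut_eq C β
  exact Subgroup.subset_closure ⟨g, σ, g.2, fun s s' hs' => semi_mk g σ s s' hs'⟩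

end Cfsg.Agent.PSUAut
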