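import Cfsg.Agent.Lib.Classical.PSLFieldCent
import Cfsg.Agent.Lib.Classical.UnitaryOut

/-!
Field automorphisms of prime order of `PSU_n(q)`: conjugacy in the inner-diagonal coset, centralisers, splitting.
-/

set_option autoImplicit false
set_option linter.style.haveILetI false
set_option linter.unusedSectionVars false

open Matrix

namespace Cfsg.Agent.PSUAut

open PSLField (nrm nrm_succ nrm_mul span_fixed exists_div exists_nrm)

variable {F : Type*} [Field F] [Fintype F] {n q : ℕ} (C : Ctx F n q)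

local notation "hm" => Cfsg.hermForm n F q

/-- Inner-diagonal automorphisms as a homomorphism. -/
noncomputable def dgU : Cfsg.GU n F q →* MulAut (Cfsg.PSU n F q) where
  toFun g := semi g 1
  map_one' := semi_one
  map_mul' g h := by rw [semi_mul, one_mul, fieldGU_one]

theorem dgU_apply (g : Cfsg.GU n F q) : dgU g = semi g 1 := rfl

theorem inndiag_eq : Cfsg.inndiagPSU n F q = (dgU (F := F) (n := n) (q := q)).range := by
  refine le_antisymm ((Subgroup.closure_le _).2 fun β hβ => ?_) ?_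
  · obtain ⟨g, hg, h⟩ := hβ
    exact ⟨⟨g, hg⟩, (semi_ext β ⟨g, hg⟩ 1 fun s s' e => h s s' (by simpa [mat] using e)).symm⟩
  · rintro _ ⟨g, rfl⟩
    exact Subgroup.subset_closure ⟨g, g.2, fun s s' e => semi_mk g 1 s s' (by simpa [mat] using e)⟩

theorem nrm_fixed {σ : F ≃+* F} {r : ℕ} (hord : orderOf σ = r) {c : F} (hc : σ c = c) :
    nrm σ r c = c ^ r := by
  have h : ∀ i : ℕ, (σ ^ i) c = c := fun i => by
    induction i with
    | zero => rfl
    | succ i ih => rw [pow_succ, RingAut.mul_apply, hc, ih]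
  simp [nrm, h]

theorem nrm_pow (σ : F ≃+* F) (k : ℕ) (a : F) (j : ℕ) : nrm σ k (a ^ j) = nrm σ k a ^ j := by
  simp only [nrm, map_pow, Finset.prod_pow]

theorem nrm_pos {σ : F ≃+* F} {k : ℕ} {a : F} (ha : a ≠ 0) : nrm σ k a ≠ 0 :=
  Finset.prod_ne_zero_iff.2 fun i _ => (map_ne_zero (σ ^ i).toRingHom).2 ha

include C

/-- Norm-one elements fixed by `σ` are norms of norm-one elements. -/
theorem exists_nrm_one {σ : F ≃+* F} {r : ℕ} (hr : Odd r) (hord : orderOf σ = r) {c : F}
    (hc : σ c = c) (hN : c * c ^ q = 1) : ∃ a : F, a * a ^ q = 1 ∧ nrm σ r a = c⁻¹ := by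
  obtain ⟨k, rfl⟩ := hr
  have hc0 : c ≠ 0 := left_ne_zero_of_mul_eq_one hN
  obtain ⟨a₀, ha₀, hac⟩ := exists_nrm (Nat.succ_pos _) hord (inv_ne_zero hc0) (by rw [map_inv₀, hc])
  have haq : a₀ ^ q ≠ 0 := pow_ne_zero _ ha₀
  set s := a₀ / a₀ ^ q with hs
  have hs1 : s * s ^ q = 1 := by rw [hs, div_pow, pow_q_q C]; field_simp
  have hns : nrm σ (2 * k + 1) s = c⁻¹ * c⁻¹ := by
    have h := nrm_mul σ (2 * k + 1) s (a₀ ^ q)
    rw [hs, div_mul_cancel₀ _ haq, hac, nrm_pow, hac, inv_pow,
      show c ^ q = c⁻¹ from eq_inv_of_mul_eq_one_right hN, inv_inv] at h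
    rw [hs]
    exact (eq_mul_inv_iff_mul_eq₀ hc0).2 h.symm
  refine ⟨s ^ (k + 1) * c, ?_, ?_⟩
  · rw [mul_pow (s ^ (k + 1)) c q, mul_mul_mul_comm, hN, mul_one, ← pow_mul, mul_comm (k + 1) q, pow_mul,
      ← mul_pow, hs1, one_pow]
  · rw [nrm_mul, nrm_pow, hns, nrm_fixed hord hc,
      show (c⁻¹ * c⁻¹) ^ (k + 1) * c ^ (2 * k + 1) = (c⁻¹ * c) ^ (2 * k + 1) * c⁻¹ by ring,
      inv_mul_cancel₀ hc0, one_pow, one_mul]

/-- Fixed elements are norms from fixed elements. -/
theorem exists_fixed_scale {σ : F ≃+* F} {r : ℕ} (hr : Odd r) (hord : orderOf σ = r) {d : F}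
    (hd : d ≠ 0) (hσd : σ d = d) (hdq : d ^ q = d) : ∃ c : F, c ≠ 0 ∧ σ c = c ∧ c * c ^ q = d := by
  obtain ⟨k, rfl⟩ := hr
  obtain ⟨c₀, hc₀⟩ := Classical.Unitary.exists_scale C.hF hd hdq
  have hc₀0 : c₀ ≠ 0 := fun e => hd (by rw [← hc₀, e, zero_mul])
  set c₁ := nrm σ (2 * k + 1) c₀ with hc₁
  have hfix : σ c₁ = c₁ := by
    have h1 := nrm_succ σ (2 * k + 1) c₀
    rw [nrm, Finset.prod_range_succ, ← hord, pow_orderOf_eq_one, hord, mul_comm] at h1
    exact (mul_left_cancel₀ hc₀0 h1).symm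
  have hN : c₁ * c₁ ^ q = d ^ (2 * k + 1) := by
    rw [hc₁, ← nrm_pow, ← nrm_mul, hc₀, nrm_fixed hord hσd]
  refine ⟨c₁ / d ^ k, div_ne_zero (nrm_pos hc₀0) (pow_ne_zero _ hd),
    by rw [map_div₀, map_pow, hσd, hfix], ?_⟩
  rw [div_pow, ← pow_mul, mul_comm k q, pow_mul, hdq, div_mul_div_comm, hN]
  field_simp
  ring

theorem fixed_not_q {σ : F ≃+* F} {r : ℕ} (hr : Odd r) (hord : orderOf σ = r) :
    ∃ a : F, σ a = a ∧ a ^ q ≠ a := by
  by_contra hcon
  push Not at hcon
  obtain ⟨a, ha⟩ := exists_not_fixed C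
  -- the norm of a twisted element gives a fixed element outside the fixed field of the involution
  obtain ⟨k, rfl⟩ := hr
  obtain ⟨b, hb, hbs⟩ := exists_skew C
  have hfix : ∀ x : F, σ (nrm σ (2 * k + 1) x) = nrm σ (2 * k + 1) x := fun x => by
    rcases eq_or_ne x 0 with rfl | hx
    · simp [nrm, Finset.prod_eq_zero_iff]
    have h1 := nrm_succ σ (2 * k + 1) x
    rw [nrm, Finset.prod_range_succ, ← hord, pow_orderOf_eq_one, hord, mul_comm] at h1
    exact (mul_left_cancel₀ hx h1).symm
  have h1 : ∀ x : F, nrm σ (2 * k + 1) x ^ q = nrm σ (2 * k + 1) x := fun x => hcon _ (hfix x)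
  by_cases h2 : (2 : F) = 0
  swap
  · have h := h1 b
    rw [← nrm_pow, show b ^ q = -1 * b by linear_combination hbs, nrm_mul,
      show nrm σ (2 * k + 1) (-1 : F) = (-1) ^ (2 * k + 1) from nrm_fixed hord (by simp),
      Odd.neg_one_pow ⟨k, rfl⟩] at h
    exact h2 (mul_right_cancel₀ (nrm_pos (σ := σ) (k := 2 * k + 1) hb)
      (by linear_combination -h))
  · -- in characteristic two use the trace
    obtain ⟨t, ht⟩ := exists_trace_one C
    let tr : F → F := fun x => ∑ i ∈ Finset.range (2 * k + 1), (σ ^ i) x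
    have hf : ∀ x, σ (tr x) = tr x := fun x => by
      simp only [tr, map_sum]
      have e := Finset.sum_range_succ' (fun i => (σ ^ i) x) (2 * k + 1)
      rw [Finset.sum_range_succ, ← hord, pow_orderOf_eq_one, hord, pow_zero] at e
      have e' := add_right_cancel e
      simp only [pow_succ', RingAut.mul_apply] at e'
      exact e'.symm
    have hsum : tr t + tr t ^ q = 1 := by
      have hpow : tr t ^ q = ∑ i ∈ Finset.range (2 * k + 1), (σ ^ i) t ^ q := by
        obtain ⟨φ, hφ, -, -⟩ := Classical.Unitary.exists_frob C.hF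
        rw [← hφ, map_sum]
        exact Finset.sum_congr rfl fun i _ => hφ _
      rw [hpow, ← Finset.sum_add_distrib]
      have : ∀ i ∈ Finset.range (2 * k + 1), (σ ^ i) t + (σ ^ i) t ^ q = 1 := fun i _ => by
        rw [← map_pow, ← map_add, ht, map_one]
      rw [Finset.sum_congr rfl this, Finset.sum_const, Finset.card_range, nsmul_eq_mul, mul_one]
      push_cast
      linear_combination (k : F) * h2
    rw [hcon _ (hf t)] at hsum
    exact one_ne_zero (α := F) (by linear_combination -hsum + tr t * h2)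

/-- Lang's theorem for `GU_n`. -/
theorem exists_lang_U {σ : F ≃+* F} {r : ℕ} (hr : Odd r) (hord : orderOf σ = r) (g : Cfsg.GU n F q)
    (hg : ∀ v, (act (g : GL (Fin n) F) σ)^[r] v = v) :
    ∃ B : Cfsg.GU n F q, g * fieldGU σ B = B := by
  classical
  let T : (Fin n → F) →+ (Fin n → F) :=
    { toFun := act (g : GL (Fin n) F) σ
      map_zero' := by rw [act, show σ ∘ (0 : Fin n → F) = 0 from funext fun i => map_zero σ, mulVec_zero]
      map_add' := act_add (g : GL (Fin n) F) σ }
  have hs := span_fixed σ T (fun a v => act_smul (g : GL (Fin n) F) σ a v) hr.pos hord hg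
  have hTh : ∀ x y, T x = x → T y = y → σ (hm x y) = hm x y := fun x y hx hy => by
    rw [← act_pres C g σ x y]
    exact congrArg₂ _ hx hy
  obtain ⟨a, haσ, haq⟩ := fixed_not_q C hr hord
  have ext : ∀ k, k ≤ n → ∃ r' : Fin k → (Fin n → F), (∀ i, T (r' i) = r' i) ∧
      ∀ i j, hm (r' i) (r' j) = if i = j then 1 else 0 := by
    intro k
    induction k with
    | zero => intro _; exact ⟨Fin.elim0, fun i => i.elim0, fun i => i.elim0⟩
    | succ k ih =>
      intro hk
      obtain ⟨R, hR, hRo⟩ := ih (by omega)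
      let pj : (Fin n → F) → (Fin n → F) := fun x => x - ∑ i, hm x (R i) • R i
      have hsumL : ∀ (c : Fin k → F) (y : Fin n → F), hm (∑ i, c i • R i) y = ∑ i, c i * hm (R i) y := by
        intro c y
        simp only [Cfsg.hermForm, Finset.sum_apply, Pi.smul_apply, smul_eq_mul, Finset.sum_mul, Finset.mul_sum,
          mul_assoc]
        exact Finset.sum_comm
      have hpo : ∀ x j, hm (pj x) (R j) = 0 := fun x j => by
        simp only [pj, sub_left, hsumL, hRo]
        simp
      have hpT : ∀ x, T x = x → T (pj x) = pj x := fun x hx => by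
        simp only [pj, map_sub, map_sum, hx]
        congr 1
        refine Finset.sum_congr rfl fun i _ => ?_
        show act (g : GL (Fin n) F) σ (hm x (R i) • R i) = _
        rw [act_smul, hTh x (R i) hx (hR i)]
        exact congrArg _ (hR i)
      obtain ⟨v, hv, hvv⟩ : ∃ v, T v = v ∧ hm (pj v) (pj v) ≠ 0 := by
        by_contra hc
        push Not at hc
        have hmutual : ∀ x y, T x = x → T y = y → hm (pj x) (pj y) = 0 := by
          intro x y hx hy
          have hadd : ∀ u w, pj (u + w) = pj u + pj w := fun u w => by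
            simp only [pj, add_left, add_smul, Finset.sum_add_distrib]; abel
          have hsm : ∀ (c : F) u, pj (c • u) = c • pj u := fun c u => by
            simp only [pj, smul_left, smul_sub, Finset.smul_sum, smul_smul]
          have e1 := hc (x + y) (by rw [map_add, hx, hy])
          have e2 := hc (a • x + y) (by
            rw [map_add, hy]; congr 1
            show act (g : GL (Fin n) F) σ (a • x) = _
            rw [act_smul, haσ]; exact congrArg _ hx)
          simp only [hadd, hsm, add_left, add_right C, smul_left, smul_right, hc x hx, hc y hy] at e1 e2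
          exact (mul_eq_zero.1 (show (a ^ q - a) * hm (pj x) (pj y) = 0 by
            linear_combination a ^ q * e1 - e2)).resolve_left (sub_ne_zero.2 haq)
        have hz : ∀ x, T x = x → pj x = 0 := fun x hx => eq_zero_of_orth C fun y => by
          have hy : y ∈ Submodule.span F {v | T v = v} := hs ▸ Submodule.mem_top
          induction hy using Submodule.span_induction with
          | mem y hy =>
            have hdec : y = pj y + ∑ i, hm y (R i) • R i := (sub_add_cancel _ _).symm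
            rw [hdec, add_left, hsumL, orth_symm C (hmutual x y hx hy), zero_add]
            exact Finset.sum_eq_zero fun i _ => by rw [orth_symm C (hpo x i), mul_zero]
          | zero => exact zero_left _
          | add u w _ _ hu hw => rw [add_left, hu, hw, add_zero]
          | smul c u _ hu => rw [smul_left, hu, mul_zero]
        have hle : Submodule.span F {v | T v = v} ≤ Submodule.span F (Set.range R) :=
          Submodule.span_le.2 fun x hx => by
            rw [SetLike.mem_coe, show x = ∑ i, hm x (R i) • R i from sub_eq_zero.1 (hz x hx)]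
            exact sum_mem fun i _ => Submodule.smul_mem _ _ (Submodule.subset_span ⟨i, rfl⟩)
        rw [hs] at hle
        have h1 := Submodule.finrank_mono hle
        rw [finrank_top, Module.finrank_fin_fun] at h1
        have h2 := finrank_range_le_card (R := F) R
        rw [Set.finrank] at h2
        rw [Fintype.card_fin] at h2
        omega
      obtain ⟨c, hc0, hcσ, hcN⟩ := exists_fixed_scale C hr hord hvv
        (hTh _ _ (hpT v hv) (hpT v hv)) (self_fixed C _)
      refine ⟨Fin.cons (c⁻¹ • pj v) R, fun i => ?_, fun i j => ?_⟩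
      · refine Fin.cases ?_ (fun i => ?_) i
        · rw [Fin.cons_zero]
          show act (g : GL (Fin n) F) σ (c⁻¹ • pj v) = _
          rw [act_smul, map_inv₀, hcσ]
          exact congrArg _ (hpT v hv)
        · rw [Fin.cons_succ]; exact hR i
      · refine Fin.cases ?_ (fun i => ?_) i <;> refine Fin.cases ?_ (fun j => ?_) j
        · rw [Fin.cons_zero, if_pos rfl, smul_left, smul_right, ← mul_assoc, inv_pow, ← mul_inv, hcN,
            inv_mul_cancel₀ hvv]
        · rw [Fin.cons_zero, Fin.cons_succ, smul_left, hpo, mul_zero, if_neg (Fin.succ_ne_zero j).symm]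
        · rw [Fin.cons_zero, Fin.cons_succ, smul_right, orth_symm C (hpo v i), mul_zero,
            if_neg (Fin.succ_ne_zero i)]
        · simp only [Fin.cons_succ, hRo, Fin.succ_inj]
  obtain ⟨R, hR, hRo⟩ := ext n le_rfl
  let M : Matrix (Fin n) (Fin n) F := Matrix.of fun i j => R j i
  have hM : IsUnit M := by
    obtain ⟨φ, B, -, -, -, hB⟩ := Classical.Unitary.exists_sesq C.hF n
    rw [← Matrix.linearIndependent_cols_iff_isUnit]
    exact Classical.OrthBasis.independent_of_orth B
      (fun i j hij => by show B (R i) (R j) = 0; rw [hB, hRo, if_neg (Ne.symm hij)])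
      (fun i => by show B (R i) (R i) ≠ 0; rw [hB, hRo, if_pos rfl]; exact one_ne_zero)
  refine ⟨⟨hM.unit, (Classical.Unitary.mem_GU_iff C.hF _).2 fun i j => hRo i j⟩,
    Subtype.ext (Units.ext (Matrix.ext fun i j => ?_))⟩
  show (((g : GL (Fin n) F) : Matrix (Fin n) (Fin n) F) * (hM.unit : Matrix (Fin n) (Fin n) F).map σ) i j = _
  rw [IsUnit.unit_spec, mul_apply']
  exact congrFun (hR j) i

theorem pow_semi (g : Cfsg.GU n F q) (σ : F ≃+* F) (k : ℕ) :
    ∃ N : Cfsg.GU n F q, semi g σ ^ k = semi N (σ ^ k) ∧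
      ∀ v, (act (g : GL (Fin n) F) σ)^[k] v = act (N : GL (Fin n) F) (σ ^ k) v := by
  induction k with
  | zero => exact ⟨1, by rw [pow_zero, pow_zero, semi_one], fun v => by
      simp [act]⟩
  | succ k ih =>
    obtain ⟨N, h1, h2⟩ := ih
    refine ⟨g * fieldGU σ N, by rw [pow_succ', h1, semi_mul, pow_succ'], fun v => ?_⟩
    rw [Function.iterate_succ_apply', h2, act, act, act, Subgroup.coe_mul, Units.val_mul, ← mulVec_mulVec]
    congr 1
    show _ = (((N : GL (Fin n) F) : Matrix (Fin n) (Fin n) F).map σ) *ᵥ ((σ ^ (k + 1) : F ≃+* F) ∘ v)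
    rw [← map_mulVec' σ, pow_succ']
    rfl

theorem sigma_pow {g : Cfsg.GU n F q} {σ : F ≃+* F} {k : ℕ} (h : semi g σ ^ k = 1) : σ ^ k = 1 := by
  obtain ⟨N, hN, -⟩ := pow_semi C g σ k
  rw [hN] at h
  exact (eq_one_of_semi_eq_one C h).1

theorem smul_eq_semi {g g' : Cfsg.GU n F q} {σ : F ≃+* F} {a : F} (ha : a ≠ 0)
    (h : ((g' : GL (Fin n) F) : Matrix (Fin n) (Fin n) F) = a • ((g : GL (Fin n) F) : Matrix (Fin n) (Fin n) F)) :
    semi g' σ = semi g σ := by
  refine semi_ext _ _ _ fun s s' hs' => semi_mk g' σ s s' ?_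
  have hinv : (((g' : GL (Fin n) F)⁻¹ : GL (Fin n) F) : Matrix (Fin n) (Fin n) F) =
      a⁻¹ • (((g : GL (Fin n) F)⁻¹ : GL (Fin n) F) : Matrix (Fin n) (Fin n) F) := by
    refine left_inv_eq_right_inv (Units.inv_mul _) ?_
    rw [h, smul_mul_smul_comm, mul_inv_cancel₀ ha, one_smul, Units.mul_inv]
  rw [hs', hinv, h, smul_mul_assoc, smul_mul_assoc, mul_smul_comm, smul_smul, mul_inv_cancel₀ ha, one_smul]

/-- A scalar unitary matrix. -/
theorem exists_scalar {a : F} (ha : a * a ^ q = 1) : ∃ s : Cfsg.GU n F q,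
    ((s : GL (Fin n) F) : Matrix (Fin n) (Fin n) F) = a • 1 := by
  have ha0 : a ≠ 0 := left_ne_zero_of_mul_eq_one ha
  refine ⟨⟨GeneralLinearGroup.mkOfDetNeZero (a • (1 : Matrix (Fin n) (Fin n) F)) (by
    rw [det_scalar]; exact pow_ne_zero _ ha0), fun u v => ?_⟩, rfl⟩
  show hm ((a • (1 : Matrix (Fin n) (Fin n) F)) *ᵥ u) ((a • (1 : Matrix (Fin n) (Fin n) F)) *ᵥ v) = hm u v
  rw [smul_mulVec, smul_mulVec, one_mulVec, one_mulVec, smul_left, smul_right, ← mul_assoc, ha, one_mul]

theorem scalar_norm {g : Cfsg.GU n F q} {c : F}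
    (h : ((g : GL (Fin n) F) : Matrix (Fin n) (Fin n) F) = c • 1) : c * c ^ q = 1 := by
  obtain ⟨y, hy⟩ := exists_dual C (v := Pi.single (⟨0, by have := C.hn; omega⟩ : Fin n) (1 : F)) (by simp)
  have := mem_GU g.2 y (Pi.single ⟨0, by have := C.hn; omega⟩ 1)
  rw [h, smul_mulVec, smul_mulVec, one_mulVec, one_mulVec, smul_left, smul_right, hy, mul_one] at this
  exact this

/-- A semilinear automorphism of prime order and odd field order is conjugate to a field automorphism. -/
theorem exists_conj_field {g : Cfsg.GU n F q} {σ : F ≃+* F} {r : ℕ} (hr : r.Prime) (hσ : σ ≠ 1)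
    (hodd : Odd r) (h : semi g σ ^ r = 1) :
    ∃ B : Cfsg.GU n F q, semi g σ = dgU B * semi 1 σ * (dgU B)⁻¹ := by
  have hord : orderOf σ = r := (hr.eq_one_or_self_of_dvd _
    (orderOf_dvd_of_pow_eq_one (sigma_pow C h))).resolve_left fun e => hσ (orderOf_eq_one_iff.1 e)
  obtain ⟨N, hN, hT⟩ := pow_semi C g σ r
  rw [hN] at h
  obtain ⟨hσr, c, hc⟩ := eq_one_of_semi_eq_one C h
  have hcN := scalar_norm C hc
  have hT' : ∀ v, (act (g : GL (Fin n) F) σ)^[r] v = c • v := fun v => by
    rw [hT, hσr, act, hc, smul_mulVec, one_mulVec]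
    rfl
  obtain ⟨e, he⟩ : ∃ v : Fin n → F, v ≠ 0 := ⟨Pi.single ⟨0, by have := C.hn; omega⟩ 1, by simp⟩
  have hfix : σ c = c := by
    have e1 := hT' (act (g : GL (Fin n) F) σ e)
    rw [Function.Commute.iterate_self, hT', act_smul] at e1
    have hne : act (g : GL (Fin n) F) σ e ≠ 0 := fun h0 => he (eq_zero_of_orth C fun x => σ.injective (by
      rw [map_zero, ← act_pres C g σ x e, h0, zero_right C]))
    exact smul_left_injective F hne e1
  obtain ⟨a, ha, hac⟩ := exists_nrm_one C hodd hord hfix hcN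
  have ha0 : a ≠ 0 := left_ne_zero_of_mul_eq_one ha
  obtain ⟨s, hs⟩ := exists_scalar C ha
  have hg' : semi (s * g) σ = semi g σ := smul_eq_semi C ha0 (by
    rw [Subgroup.coe_mul, Units.val_mul, hs, smul_mul_assoc, one_mul])
  have hact : ∀ v, act ((s * g : Cfsg.GU n F q) : GL (Fin n) F) σ v = a • act (g : GL (Fin n) F) σ v := fun v => by
    rw [act, act, Subgroup.coe_mul, Units.val_mul, hs, smul_mul_assoc, one_mul, smul_mulVec]
  have hit : ∀ k v, (act ((s * g : Cfsg.GU n F q) : GL (Fin n) F) σ)^[k] v =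
      nrm σ k a • (act (g : GL (Fin n) F) σ)^[k] v := by
    intro k
    induction k with
    | zero => intro v; simp [nrm]
    | succ k ih =>
      intro v
      rw [Function.iterate_succ_apply', ih, hact, Function.iterate_succ_apply', act_smul, nrm_succ, smul_smul]
  obtain ⟨B, hB⟩ := exists_lang_U C hodd hord (s * g) fun v => by
    rw [hit, hac, hT', inv_smul_smul₀ (left_ne_zero_of_mul_eq_one hcN)]
  refine ⟨B, ?_⟩
  rw [← hg', ← map_inv, dgU_apply, dgU_apply, semi_mul, semi_mul, fieldGU_one, mul_one, one_mul, mul_one,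
    map_inv, eq_mul_inv_of_mul_eq hB]

/-- The normal form of a field automorphism. -/
theorem field_form {p f : ℕ} [Fact p.Prime] (hf : 1 ≤ f) (hq : q = p ^ f) {x : MulAut (Cfsg.PSU n F q)}
    (hx : Cfsg.IsFieldAutClassPSU x) :
    ∃ (g : Cfsg.GU n F q) (σ : F ≃+* F), σ ≠ 1 ∧ Odd (orderOf σ) ∧ x = semi g σ := by
  obtain ⟨α, φ, σ, hσ, hodd, hφ, hα⟩ := hx
  have hφ' : φ = semi 1 σ := semi_ext φ 1 σ fun s s' e => hφ s s' (by simpa [mat] using e)
  obtain ⟨h, τ, rfl⟩ := aut_eq C α
  have hx' : x = (semi h τ)⁻¹ * semi 1 σ * semi h τ := by rw [← hφ', ← hα]; group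
  obtain ⟨g, σ', he⟩ := aut_eq C x
  have hF : Fintype.card F = p ^ (2 * f) := by rw [C.hF, hq, ← pow_mul, mul_comm]
  have hp : part C x = τ⁻¹ * σ * τ := by
    rw [hx', map_mul, map_mul, map_inv, part_eq C (β := semi h τ) rfl, part_eq C (β := semi 1 σ) rfl]
  rw [part_eq C he] at hp
  refine ⟨g, σ', fun e => hσ ?_, ?_, he⟩
  · have : τ * (τ⁻¹ * σ * τ) * τ⁻¹ = τ * 1 * τ⁻¹ := by rw [← hp, e]
    simp only [mul_assoc, mul_inv_cancel_left, mul_inv_cancel, mul_one] at this
    exact this
  · have hsc : SemiconjBy τ σ' σ := by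
      show τ * σ' = σ * τ
      rw [hp]; group
    rwa [hsc.orderOf_eq]

theorem orderOf_field {g : Cfsg.GU n F q} {σ : F ≃+* F} (hσ : σ ≠ 1) (hodd : Odd (orderOf σ)) {r : ℕ}
    (hr : r.Prime) (hxr : orderOf (semi g σ) = r) : orderOf σ = r ∧ Odd r := by
  have hp := pow_orderOf_eq_one (semi g σ)
  rw [hxr] at hp
  have hord : orderOf σ = r := (hr.eq_one_or_self_of_dvd _
    (orderOf_dvd_of_pow_eq_one (sigma_pow C hp))).resolve_left fun e => hσ (orderOf_eq_one_iff.1 e)
  exact ⟨hord, hord ▸ hodd⟩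

/-- An element of the inner-diagonal coset has order `r` exactly when it is conjugate to `x`. -/
theorem coset_conj {p f : ℕ} [Fact p.Prime] (hf : 1 ≤ f) (hq : q = p ^ f)
    {x δ : MulAut (Cfsg.PSU n F q)} (hx : Cfsg.IsFieldAutClassPSU x) {r : ℕ} (hr : r.Prime)
    (hxr : orderOf x = r) (hδ : δ ∈ Cfsg.inndiagPSU n F q) :
    orderOf (δ * x) = r ↔ Cfsg.IsConjUnder (Cfsg.inndiagPSU n F q) x (δ * x) := by
  refine ⟨fun ho => ?_, ?_⟩
  swap
  · rintro ⟨h, -, e⟩
    rw [e, ← hxr]
    exact orderOf_injective (MulAut.conj h).toMonoidHom (MulAut.conj h).injective x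
  rw [inndiag_eq] at hδ ⊢
  obtain ⟨h, rfl⟩ := hδ
  obtain ⟨g, σ, hσ, hodd, rfl⟩ := field_form C hf hq hx
  obtain ⟨-, hr'⟩ := orderOf_field C hσ hodd hr hxr
  have hp := pow_orderOf_eq_one (dgU h * semi g σ)
  rw [ho] at hp
  have hp' := pow_orderOf_eq_one (semi g σ)
  rw [hxr] at hp'
  obtain ⟨B, hB⟩ := exists_conj_field C hr hσ hr' hp'
  rw [dgU_apply, semi_mul, one_mul, fieldGU_one] at hp
  obtain ⟨B', hB'⟩ := exists_conj_field C hr hσ hr' hp
  refine ⟨dgU (B' * B⁻¹), ⟨_, rfl⟩, ?_⟩
  rw [dgU_apply h, semi_mul, one_mul, fieldGU_one, hB', hB, map_mul, map_inv]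
  group

theorem dgU_eq_one_iff {g : Cfsg.GU n F q} :
    dgU g = 1 ↔ ∃ c : F, ((g : GL (Fin n) F) : Matrix (Fin n) (Fin n) F) = c • 1 := by
  refine ⟨fun h => (eq_one_of_semi_eq_one C h).2, fun ⟨c, hc⟩ => ?_⟩
  rw [dgU_apply, ← semi_one]
  exact smul_eq_semi C (left_ne_zero_of_mul_eq_one (scalar_norm C hc)) (by simpa using hc)

theorem inn_le_rangeU : Cfsg.Inn (Cfsg.PSU n F q) ≤ (dgU (F := F) (n := n) (q := q)).range := by
  rintro _ ⟨x, rfl⟩
  obtain ⟨s, rfl⟩ := QuotientGroup.mk_surjective x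
  exact ⟨_, (inn_le_semi s).symm⟩

theorem inn_comapU : (Cfsg.Inn (Cfsg.PSU n F q)).comap dgU =
    (powMonoidHom n : Classical.Unitary.normOne F q →* Classical.Unitary.normOne F q).range.comap
      (Classical.Unitary.detHom C.hF n) := by
  rw [← ker_outDiag C]
  ext g
  rw [Subgroup.mem_comap, MonoidHom.mem_ker, outDiag_apply, QuotientGroup.eq_one_iff]
  rfl

/-- Matrices commuting with a field automorphism. -/
theorem field_cent {σ : F ≃+* F} {r : ℕ} (hr : Odd r) (hord : orderOf σ = r) {g : Cfsg.GU n F q} :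
    g ∈ (Subgroup.centralizer {semi (1 : Cfsg.GU n F q) σ}).comap dgU ↔
      ∃ (s A : Cfsg.GU n F q) (c : F), ((s : GL (Fin n) F) : Matrix (Fin n) (Fin n) F) = c • 1 ∧
        fieldGU σ A = A ∧ g = s * A := by
  rw [Subgroup.mem_comap, Subgroup.mem_centralizer_singleton_iff, dgU_apply, semi_mul, semi_mul,
    fieldGU_one, mul_one, one_mul, one_mul, mul_one]
  constructor
  · intro e
    have hq1 : semi (g⁻¹ * fieldGU σ g) 1 = 1 := by
      have e' : semi g⁻¹ 1 * semi (fieldGU σ g) σ = semi g⁻¹ 1 * semi g σ := by rw [e]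
      rw [semi_mul, semi_mul, fieldGU_one, fieldGU_one, inv_mul_cancel, one_mul] at e'
      have : semi (g⁻¹ * fieldGU σ g) 1 * semi 1 σ = 1 * semi 1 σ := by
        rw [semi_mul, map_one, mul_one, one_mul, one_mul, e']
      exact mul_right_cancel this
    obtain ⟨-, c, hc⟩ := eq_one_of_semi_eq_one C hq1
    have hcN := scalar_norm C hc
    have hg : ((g : GL (Fin n) F) : Matrix (Fin n) (Fin n) F).map σ =
        c • ((g : GL (Fin n) F) : Matrix (Fin n) (Fin n) F) := by
      have h1 : ((g : GL (Fin n) F) : Matrix (Fin n) (Fin n) F) *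
          ((((g : GL (Fin n) F)⁻¹ : GL (Fin n) F) : Matrix (Fin n) (Fin n) F) *
            ((g : GL (Fin n) F) : Matrix (Fin n) (Fin n) F).map σ) =
          ((g : GL (Fin n) F) : Matrix (Fin n) (Fin n) F) * (c • 1) := congrArg _ hc
      rwa [← mul_assoc, Units.mul_inv, one_mul, mul_smul_comm, mul_one] at h1
    have hc' : ∀ a b, σ (((g : GL (Fin n) F) : Matrix (Fin n) (Fin n) F) a b) =
        c * ((g : GL (Fin n) F) : Matrix (Fin n) (Fin n) F) a b := fun a b => congrFun (congrFun hg a) b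
    obtain ⟨a, b, hab⟩ : ∃ a b, ((g : GL (Fin n) F) : Matrix (Fin n) (Fin n) F) a b ≠ 0 := by
      by_contra hcon
      push Not at hcon
      haveI : Nonempty (Fin n) := ⟨⟨0, by have := C.hn; omega⟩⟩
      exact (g : GL (Fin n) F).ne_zero (Matrix.ext hcon)
    have hiter : ∀ k, (σ ^ k) (((g : GL (Fin n) F) : Matrix (Fin n) (Fin n) F) a b) =
        nrm σ k c * ((g : GL (Fin n) F) : Matrix (Fin n) (Fin n) F) a b := by
      intro k
      induction k with
      | zero => simp [nrm]
      | succ k ih =>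
        rw [pow_succ', RingAut.mul_apply, ih, map_mul, hc', nrm_succ]
        ring
    have hn1 : nrm σ r c = 1 := by
      have := hiter r
      rw [← hord, pow_orderOf_eq_one, hord, RingAut.one_apply] at this
      exact mul_right_cancel₀ hab (this.symm.trans (one_mul _).symm)
    obtain ⟨x₀, hx₀, hxc⟩ := exists_div hr.pos hord hn1
    have hm0 : x₀ * x₀ ^ q ≠ 0 := mul_ne_zero hx₀ (pow_ne_zero _ hx₀)
    obtain ⟨y, hy0, hyσ, hyN⟩ := exists_fixed_scale C hr hord hm0 (by
      have h2 := congrArg (fun z => z ^ q) hxc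
      simp only [mul_pow] at h2
      rw [map_mul, map_pow]
      conv_rhs => rw [← hxc, mul_pow]
      linear_combination -(σ x₀ * σ x₀ ^ q) * hcN) (by rw [mul_pow, pow_q_q C, mul_comm])
    set x := x₀ / y with hx
    have hxN : x * x ^ q = 1 := by rw [hx, div_pow, div_mul_div_comm, hyN, div_self hm0]
    have hxσ : c * σ x = x := by rw [hx, map_div₀, hyσ, ← mul_div_assoc, hxc]
    have hxi : x⁻¹ * x⁻¹ ^ q = 1 := by rw [inv_pow, ← mul_inv, hxN, inv_one]
    obtain ⟨s, hs⟩ := exists_scalar C hxi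
    obtain ⟨t, ht⟩ := exists_scalar C hxN
    refine ⟨s, t * g, x⁻¹, hs, ?_, ?_⟩
    · refine Subtype.ext (Units.ext (Matrix.ext fun a b => ?_))
      show σ ((((t : GL (Fin n) F) : Matrix (Fin n) (Fin n) F) *
        ((g : GL (Fin n) F) : Matrix (Fin n) (Fin n) F)) a b) =
        (((t : GL (Fin n) F) : Matrix (Fin n) (Fin n) F) * ((g : GL (Fin n) F) : Matrix (Fin n) (Fin n) F)) a b
      rw [ht, smul_mul_assoc, one_mul, Matrix.smul_apply, smul_eq_mul, map_mul, hc']
      linear_combination ((g : GL (Fin n) F) : Matrix (Fin n) (Fin n) F) a b * hxσ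
    · refine Subtype.ext (Units.ext ?_)
      rw [Subgroup.coe_mul, Subgroup.coe_mul, Units.val_mul, Units.val_mul, hs, ht, smul_mul_assoc, one_mul,
        smul_mul_assoc, one_mul, inv_smul_smul₀ (left_ne_zero_of_mul_eq_one hxN)]
  · rintro ⟨s, A, c, hs, hA, rfl⟩
    have hc := scalar_norm C hs
    have hc0 : c ≠ 0 := left_ne_zero_of_mul_eq_one hc
    have h1 : semi (s * A) σ = semi A σ := smul_eq_semi C hc0 (by
      rw [Subgroup.coe_mul, Units.val_mul, hs, smul_mul_assoc, one_mul])
    have h2 : semi (fieldGU σ (s * A)) σ = semi A σ := by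
      refine smul_eq_semi C (a := σ c) (by simpa using hc0) ?_
      rw [map_mul, hA, Subgroup.coe_mul, Units.val_mul]
      show ((s : GL (Fin n) F) : Matrix (Fin n) (Fin n) F).map σ * _ = _
      rw [hs]
      rw [show (c • (1 : Matrix (Fin n) (Fin n) F)).map σ = σ c • 1 from Matrix.ext fun a b => by
        by_cases h : a = b <;> simp [h], smul_mul_assoc, one_mul]
    rw [h1, h2]

/-- Field automorphisms of prime order: centraliser and class splitting. -/
theorem field_main {p f : ℕ} [hp : Fact p.Prime] (hf : 1 ≤ f) (hq : q = p ^ f)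
    {x : MulAut (Cfsg.PSU n F q)} (hx : Cfsg.IsFieldAutClassPSU x) {r : ℕ} (hr : r.Prime) (hro : Odd r)
    (hxr : orderOf x = r) (F₀ : Type*) [Field F₀] [Fintype F₀]
    (hF₀ : Fintype.card F₀ = p ^ (2 * (f / r))) :
    r ∣ f ∧ Nonempty (↥(Cfsg.inndiagPSU n F q ⊓ Subgroup.centralizer {x}) ≃* Cfsg.PGU n F₀ (p ^ (f / r))) ∧
    Cfsg.splitClassCount (Cfsg.inndiagPSU n F q) (Cfsg.Inn (Cfsg.PSU n F q)) x =
      Nat.gcd n ((q + 1) / (p ^ (f / r) + 1)) := by
  have hF : Fintype.card F = p ^ (2 * f) := by rw [C.hF, hq, ← pow_mul, mul_comm]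
  obtain ⟨g, σ, hσ, hodd, rfl⟩ := field_form C hf hq hx
  obtain ⟨hord, -⟩ := orderOf_field C hσ hodd hr hxr
  have hp' := pow_orderOf_eq_one (semi g σ)
  rw [hxr] at hp'
  obtain ⟨B, hB⟩ := exists_conj_field C hr hσ hro hp'
  have hrf : r ∣ f := by
    obtain ⟨E, -, hcard⟩ := PSLFieldCent.exists_fixed σ
    rw [hord, Nat.card_eq_fintype_card (α := F), hF] at hcard
    obtain ⟨k, -, hk⟩ := (Nat.dvd_prime_pow hp.out).1 (show Nat.card E ∣ p ^ (2 * f) from
      hcard ▸ dvd_pow_self _ hr.ne_zero)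
    rw [hk, ← pow_mul] at hcard
    have hdvd : r ∣ 2 * f := ⟨k, by rw [← Nat.pow_right_injective hp.out.two_le hcard, mul_comm]⟩
    exact (Nat.Coprime.dvd_mul_left (Nat.coprime_two_right.2 hro)).1 hdvd
  obtain ⟨-, i, hi⟩ := PSLFieldCent.exists_fixed_emb hF hr.pos hord F₀
    (by rw [hF₀, Nat.mul_div_assoc _ hrf])
  set q₀ := p ^ (f / r) with hq₀
  have hF₀' : Fintype.card F₀ = q₀ ^ 2 := by rw [hF₀, hq₀, ← pow_mul, mul_comm]
  have hpow : ∀ b : F₀, i (b ^ q₀) = i b ^ q := by
    intro b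
    obtain ⟨k, hk⟩ := hro
    have hqq : q = q₀ ^ (2 * k + 1) := by rw [hq, hq₀, ← pow_mul, ← hk, Nat.div_mul_cancel hrf]
    rw [← map_pow, hqq, pow_succ, pow_mul q₀ 2 k, pow_mul b, ← hF₀', FiniteField.pow_card_pow]
  have hmi : ∀ u v : Fin n → F₀, Cfsg.hermForm n F q (i ∘ u) (i ∘ v) = i (Cfsg.hermForm n F₀ q₀ u v) := by
    intro u v
    simp [Cfsg.hermForm, map_sum, hpow]
  have hmem : ∀ A : GL (Fin n) F₀, A ∈ Cfsg.GU n F₀ q₀ ↔
      GeneralLinearGroup.map i A ∈ Cfsg.GU n F q := by
    intro A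
    rw [Classical.Unitary.mem_GU_iff hF₀', Classical.Unitary.mem_GU_iff C.hF]
    refine forall_congr' fun a => forall_congr' fun b => ?_
    rw [show (fun k => ((GeneralLinearGroup.map i A : GL (Fin n) F) : Matrix (Fin n) (Fin n) F) k a) =
      i ∘ fun k => (A : Matrix (Fin n) (Fin n) F₀) k a from rfl,
      show (fun k => ((GeneralLinearGroup.map i A : GL (Fin n) F) : Matrix (Fin n) (Fin n) F) k b) =
      i ∘ fun k => (A : Matrix (Fin n) (Fin n) F₀) k b from rfl, hmi]
    constructor
    · intro h; rw [h]; split_ifs <;> simp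
    · intro h; apply i.injective; rw [h]; split_ifs <;> simp
  let ι : Cfsg.GU n F₀ q₀ →* Cfsg.GU n F q :=
    ((GeneralLinearGroup.map i).comp (Cfsg.GU n F₀ q₀).subtype).codRestrict _ fun A => (hmem A).1 A.2
  have hιfix : ∀ A, fieldGU σ (ι A) = ι A := fun A => Subtype.ext (Units.ext (Matrix.ext fun a b =>
    (hi _).1 ⟨_, rfl⟩))
  have hιsur : ∀ A : Cfsg.GU n F q, fieldGU σ A = A → ∃ A₀, ι A₀ = A := by
    intro A hA
    have hfix : ∀ a b, ∃ y, i y = ((A : GL (Fin n) F) : Matrix (Fin n) (Fin n) F) a b := fun a b => by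
      refine (hi _).2 ?_
      exact congrFun (congrFun (congrArg (fun X : Cfsg.GU n F q =>
        ((X : GL (Fin n) F) : Matrix (Fin n) (Fin n) F)) hA) a) b
    choose y hy using hfix
    have hM : (Matrix.of y).map i = ((A : GL (Fin n) F) : Matrix (Fin n) (Fin n) F) :=
      Matrix.ext fun a b => hy a b
    have hd : (Matrix.of y).det ≠ 0 := fun h => by
      have e := congrArg det hM
      rw [← RingHom.mapMatrix_apply, ← RingHom.map_det, h, map_zero] at e
      exact (GeneralLinearGroup.det (A : GL (Fin n) F)).ne_zero e.symm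
    have e : GeneralLinearGroup.map i (GeneralLinearGroup.mkOfDetNeZero _ hd) = (A : GL (Fin n) F) :=
      Units.ext hM
    exact ⟨⟨GeneralLinearGroup.mkOfDetNeZero _ hd, (hmem _).2 (e ▸ A.2)⟩, Subtype.ext e⟩
  rw [hB]
  refine ⟨hrf, ?_, ?_⟩
  · rw [inndiag_eq]
    let Φ : Cfsg.GU n F₀ q₀ →* ↥((dgU (F := F) (n := n) (q := q)).range ⊓
        Subgroup.centralizer {dgU B * semi 1 σ * (dgU B)⁻¹}) :=
      ((MulAut.conj (dgU B)).toMonoidHom.comp (dgU.comp ι)).codRestrict _ fun A => by
        refine Subgroup.mem_inf.mpr ⟨MonoidHom.mem_range.mpr ⟨B * ι A * B⁻¹, by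
          rw [map_mul, map_mul, map_inv]; rfl⟩, ?_⟩
        have h := (field_cent C hro hord).2 ⟨1, ι A, 1, by simp, hιfix A, (one_mul _).symm⟩
        rw [Subgroup.mem_comap, Subgroup.mem_centralizer_singleton_iff] at h
        rw [Subgroup.mem_centralizer_singleton_iff]
        show dgU B * dgU (ι A) * (dgU B)⁻¹ * _ = _ * (dgU B * dgU (ι A) * (dgU B)⁻¹)
        calc _ = dgU B * (dgU (ι A) * semi 1 σ) * (dgU B)⁻¹ := by group
          _ = _ := by rw [h]; group
    have hsurj : Function.Surjective Φ := by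
      rintro ⟨w, hw⟩
      obtain ⟨⟨h, rfl⟩, hw⟩ := Subgroup.mem_inf.mp hw
      have hw' : B⁻¹ * h * B ∈ (Subgroup.centralizer {semi (1 : Cfsg.GU n F q) σ}).comap dgU := by
        rw [Subgroup.mem_comap, Subgroup.mem_centralizer_singleton_iff, map_mul, map_mul, map_inv]
        rw [Subgroup.mem_centralizer_singleton_iff] at hw
        calc _ = (dgU B)⁻¹ * (dgU h * (dgU B * semi 1 σ * (dgU B)⁻¹)) * dgU B := by group
          _ = _ := by rw [hw]; group
      obtain ⟨s, A, c, hs, hA, e⟩ := (field_cent C hro hord).1 hw'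
      obtain ⟨A₀, rfl⟩ := hιsur A hA
      refine ⟨A₀, Subtype.ext ?_⟩
      show dgU B * dgU (ι A₀) * (dgU B)⁻¹ = dgU h
      have h3 : dgU (B⁻¹ * h * B) = dgU (ι A₀) := by
        rw [e, map_mul, (dgU_eq_one_iff C).2 ⟨c, hs⟩, one_mul]
      rw [← h3, map_mul, map_mul, map_inv]
      group
    have hker : Φ.ker = (Cfsg.Geo.scalars (Fin n) F₀).subgroupOf (Cfsg.GU n F₀ q₀) := by
      ext A
      rw [MonoidHom.mem_ker, Subgroup.mem_subgroupOf, Cfsg.Geo.mem_scalars_iff]
      constructor
      · intro hA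
        have h1 : dgU B * dgU (ι A) * (dgU B)⁻¹ = 1 := congrArg Subtype.val hA
        rw [mul_inv_eq_one, mul_eq_left, dgU_eq_one_iff C] at h1
        obtain ⟨c, hc⟩ := h1
        let z : Fin n := ⟨0, by have := C.hn; omega⟩
        have hc' : ∀ a b, i (((A : GL (Fin n) F₀) : Matrix (Fin n) (Fin n) F₀) a b) = if a = b then c else 0 := by
          intro a b
          have := congrFun (congrFun hc a) b
          simp only [Matrix.smul_apply, one_apply, smul_eq_mul, mul_ite, mul_one, mul_zero] at this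
          exact this
        have hc0 : c ≠ 0 := left_ne_zero_of_mul_eq_one (scalar_norm C hc)
        have hz : ((A : GL (Fin n) F₀) : Matrix (Fin n) (Fin n) F₀) z z ≠ 0 := fun h => by
          have := hc' z z
          rw [h, map_zero, if_pos rfl] at this
          exact hc0 this.symm
        refine ⟨Units.mk0 _ hz, Matrix.ext fun a b => i.injective ?_⟩
        rw [Matrix.smul_apply, one_apply, Units.val_mk0, smul_eq_mul, hc' a b]
        split_ifs with hab
        · rw [mul_one, hc' z z, if_pos rfl]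
        · rw [mul_zero, map_zero]
      · rintro ⟨c, hc⟩
        refine Subtype.ext ?_
        show dgU B * dgU (ι A) * (dgU B)⁻¹ = 1
        suffices h1 : dgU (ι A) = 1 by rw [h1, mul_one, mul_inv_cancel]
        refine (dgU_eq_one_iff C).2 ⟨i c, ?_⟩
        refine Matrix.ext fun a b => ?_
        show i (((A : GL (Fin n) F₀) : Matrix (Fin n) (Fin n) F₀) a b) = _
        rw [hc]
        by_cases hab : a = b <;> simp [hab]
    exact ⟨((QuotientGroup.quotientMulEquivOfEq hker.symm).trans
      (QuotientGroup.quotientKerEquivOfSurjective Φ hsurj)).symm⟩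
  · rw [inndiag_eq, PSLFieldCent.split_count dgU _ (inn_le_rangeU C)
      (by rw [inn_comapU C]; exact Subgroup.Normal.comap inferInstance _) _, inn_comapU C]
    set P := (powMonoidHom n : Classical.Unitary.normOne F q →* Classical.Unitary.normOne F q).range with hP
    set D := Classical.Unitary.detHom C.hF n
    set Z := (Subgroup.centralizer {dgU B * semi (1 : Cfsg.GU n F q) σ * (dgU B)⁻¹}).comap dgU
    have hsurjD : Function.Surjective D := Classical.Unitary.detHom_surjective C.hF (by have := C.hn; omega)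
    let κ : Classical.Unitary.normOne F₀ q₀ →* Classical.Unitary.normOne F q :=
      ((Units.map i.toMonoidHom).comp (Classical.Unitary.normOne F₀ q₀).subtype).codRestrict _ fun u => by
        rw [MonoidHom.mem_ker, powMonoidHom_apply]
        refine Units.ext ?_
        show i ((u : F₀ˣ) : F₀) ^ (q + 1) = 1
        rw [pow_succ, ← hpow, ← map_mul, ← pow_succ, ← Units.val_pow_eq_pow_val,
          show (u : F₀ˣ) ^ (q₀ + 1) = 1 from u.2, Units.val_one, map_one]
    have hκdet : ∀ A, D (ι A) = κ (Classical.Unitary.detHom hF₀' n A) := fun A =>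
      Subtype.ext (Units.ext (RingHom.map_det i _).symm)
    have e : P.comap D ⊔ Z = (P ⊔ κ.range).comap D := by
      refine le_antisymm (sup_le (Subgroup.comap_mono le_sup_left) ?_) ?_
      · intro h hh
        rw [Subgroup.mem_comap]
        have hw' : B⁻¹ * h * B ∈ (Subgroup.centralizer {semi (1 : Cfsg.GU n F q) σ}).comap dgU := by
          rw [Subgroup.mem_comap, Subgroup.mem_centralizer_singleton_iff, map_mul, map_mul, map_inv]
          rw [Subgroup.mem_comap, Subgroup.mem_centralizer_singleton_iff] at hh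
          calc _ = (dgU B)⁻¹ * (dgU h * (dgU B * semi 1 σ * (dgU B)⁻¹)) * dgU B := by group
            _ = _ := by rw [hh]; group
        obtain ⟨s, A, c, hs, hA, e⟩ := (field_cent C hro hord).1 hw'
        obtain ⟨A₀, rfl⟩ := hιsur A hA
        have h1 : D h = D s * D (ι A₀) := by
          rw [← map_mul, ← e, map_mul, map_mul, map_inv]
          exact (inv_mul_cancel_comm_assoc _ _).symm.trans (by rw [mul_assoc])
        rw [h1, hκdet]
        refine mul_mem (Subgroup.mem_sup_left ?_) (Subgroup.mem_sup_right ⟨_, rfl⟩)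
        have hcN := scalar_norm C hs
        have hc0 : c ≠ 0 := left_ne_zero_of_mul_eq_one hcN
        refine ⟨⟨Units.mk0 c hc0, ?_⟩, Subtype.ext (Units.ext ?_)⟩
        · rw [MonoidHom.mem_ker, powMonoidHom_apply]
          refine Units.ext ?_
          rw [Units.val_pow_eq_pow_val, Units.val_one, pow_succ, Units.val_mk0, mul_comm]
          exact hcN
        · show c ^ n = ((s : GL (Fin n) F) : Matrix (Fin n) (Fin n) F).det
          rw [hs, det_scalar]
      · intro h hh
        rw [Subgroup.mem_comap, Subgroup.mem_sup] at hh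
        obtain ⟨a, ha, _, ⟨u, rfl⟩, e⟩ := hh
        obtain ⟨A₀, rfl⟩ := Classical.Unitary.detHom_surjective hF₀' (n := n) (by have := C.hn; omega) u
        rw [← hκdet] at e
        have hZ : B * ι A₀ * B⁻¹ ∈ Z := by
          have h := (field_cent C hro hord).2 ⟨1, ι A₀, 1, by simp, hιfix A₀, (one_mul _).symm⟩
          rw [Subgroup.mem_comap, Subgroup.mem_centralizer_singleton_iff] at h
          rw [Subgroup.mem_comap, Subgroup.mem_centralizer_singleton_iff, map_mul, map_mul, map_inv]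
          calc _ = dgU B * (dgU (ι A₀) * semi 1 σ) * (dgU B)⁻¹ := by group
            _ = _ := by rw [h]; group
        rw [show h = h * (B * ι A₀ * B⁻¹)⁻¹ * (B * ι A₀ * B⁻¹) by group]
        refine mul_mem (Subgroup.mem_sup_left ?_) (Subgroup.mem_sup_right hZ)
        rw [Subgroup.mem_comap, map_mul, map_inv, map_mul, map_mul, map_inv, ← e,
          show D B * D (ι A₀) * (D B)⁻¹ = D (ι A₀) by rw [mul_comm (D B), mul_inv_cancel_right],
          mul_inv_cancel_right]
        exact ha
    rw [e, Subgroup.index_comap_of_surjective _ hsurjD, PSLFieldCent.index_sup_cyclic]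
    have hκinj : Function.Injective κ := fun a b hab => by
      refine Subtype.ext (Units.ext (i.injective ?_))
      exact congrArg (fun z : Classical.Unitary.normOne F q => ((z : Fˣ) : F)) hab
    have hR : Nat.card κ.range = q₀ + 1 := by
      rw [← Nat.card_congr (MonoidHom.ofInjective hκinj).toEquiv, Classical.Unitary.card_normOne hF₀']
    have h5 := κ.range.card_mul_index
    rw [hR, Classical.Unitary.card_normOne C.hF] at h5
    have h1 := P.card_mul_index
    have h2 := (powMonoidHom n : Classical.Unitary.normOne F q →* _).ker.card_mul_index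
    rw [Subgroup.index_ker, IsCyclic.card_powMonoidHom_ker, mul_comm, ← hP] at h2
    rw [← h2] at h1
    rw [Nat.eq_of_mul_eq_mul_left Nat.card_pos h1, Classical.Unitary.card_normOne C.hF,
      ← Nat.div_eq_of_eq_mul_right (Nat.succ_pos q₀) h5.symm, Nat.gcd_comm (q + 1) n, Nat.gcd_assoc]
    congr 1
    exact Nat.gcd_eq_right ⟨q₀ + 1, by
      rw [← Nat.div_eq_of_eq_mul_right (Nat.succ_pos q₀) h5.symm] at h5
      rw [mul_comm]; exact h5.symm⟩

end Cfsg.Agent.PSUAut
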