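import Cfsg.Agent.Lib.Classical.Unitary

/-!
Totally isotropic lines of a finite hermitian space.
-/

set_option autoImplicit false
set_option linter.style.haveILetI false

open Module

namespace Cfsg.Agent.Classical.Unitary

variable {F : Type*} [Field F] [Fintype F] {q : ℕ} (hF : Fintype.card F = q ^ 2)

/-- Totally isotropic planes. -/
abbrev TI2 (n : ℕ) (F : Type*) [Field F] (q : ℕ) : Type _ :=
  {W : Submodule F (Fin n → F) // Module.finrank F W = 2 ∧ ∀ u ∈ W, ∀ v ∈ W, Cfsg.hermForm n F q u v = 0}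

include hF

theorem card_isotropic_perp (n : ℕ) {u : Fin n → F} (hu : u ≠ 0) (huu : Cfsg.hermForm n F q u u = 0) :
    Nat.card {v : Fin n → F // Cfsg.hermForm n F q v v = 0 ∧ Cfsg.hermForm n F q v u = 0 ∧
      v ∉ Submodule.span F ({u} : Set (Fin n → F))} = q ^ 2 * (cnt (n - 2) F q 0 - 1) := by
  classical
  obtain ⟨σ, B, hσ1, hσ2, hS, hB⟩ := exists_sesq hF n
  obtain ⟨σ', hσ', -, -⟩ := exists_frob hF
  have hq0 : q ≠ 0 := by have := one_lt_q hF; omega
  obtain ⟨j, hj⟩ : ∃ j, u j ≠ 0 := Function.ne_iff.1 hu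
  obtain ⟨y, hy⟩ : ∃ y, B u y = 1 := by
    have hBj : B u (Pi.single j 1) ≠ 0 := by
      rw [hB]; simp [Cfsg.hermForm, Pi.single_apply, hj, hq0]
    exact ⟨(B u (Pi.single j 1))⁻¹ • Pi.single j 1, by rw [map_smul, smul_eq_mul, inv_mul_cancel₀ hBj]⟩
  obtain ⟨a, ha⟩ : ∃ a, a + σ a ≠ 0 := by
    by_contra h
    push_neg at h
    apply hσ1
    have h2 : (1 : F) + 1 = 0 := by simpa using h 1
    exact RingHom.ext fun a => by
      rw [RingHom.id_apply]; linear_combination h a - a * h2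
  set c := B y y with hc
  have hσc : σ c = c := hS.eq y y
  set t := -c * a / (a + σ a) with ht
  have htr : t + σ t = -c := by
    rw [ht, map_div₀, map_mul, map_neg, hσc, map_add, hσ2]
    rw [add_comm (σ a) a, ← add_div, div_eq_iff ha]; ring
  set w := y + t • u with hw
  have huu' : B u u = 0 := by rw [hB, huu]
  have huw : B u w = 1 := by rw [hw, map_add, map_smul, hy, huu', smul_zero, add_zero]
  have hyu : B y u = 1 := by rw [← hS.eq u y, hy, map_one]
  have hww : B w w = 0 := by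
    simp only [hw, map_add, LinearMap.add_apply, map_smul, LinearMap.map_smulₛₗ, LinearMap.smul_apply,
      smul_eq_mul, RingHom.id_apply, hy, hyu, huu', ← hc, mul_one, mul_zero, add_zero]
    linear_combination htr
  have hwu : B w u = 1 := by rw [← hS.eq u w, huw, map_one]
  clear_value w
  let φ : (Fin n → F) →ₗ[F] F × F := (B u).prod (B w)
  have hker : finrank F (LinearMap.ker φ) = n - 2 := by
    have h := LinearMap.finrank_range_add_finrank_ker φ
    have hs : Function.Surjective φ := fun p => ⟨p.1 • w + p.2 • u, by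
      simp [φ, huw, huu', hwu, hww]⟩
    rw [LinearMap.range_eq_top.2 hs, finrank_top, Module.finrank_prod, Module.finrank_self,
      Module.finrank_pi, Fintype.card_fin] at h
    omega
  have hmem : ∀ x, x ∈ LinearMap.ker φ ↔ B u x = 0 ∧ B w x = 0 := fun x => by
    simp [φ, LinearMap.mem_ker, Prod.ext_iff]
  have hproj : ∀ x, x - B w x • u - B u x • w ∈ LinearMap.ker φ := fun x => by
    rw [hmem]; simp [huw, huu', hwu, hww]
  have hsym0 : ∀ x y, B x y = 0 → B y x = 0 := fun x y h => by rw [← hS.eq x y, h, map_zero]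
  have hnd : OrthBasis.NondegOn B (LinearMap.ker φ) := by
    intro x hx hx0
    rw [hmem] at hx
    funext i
    have h := hx0 _ (hproj (Pi.single i 1))
    simp only [map_sub, map_smul, hsym0 _ _ hx.1, hsym0 _ _ hx.2, smul_zero, sub_zero] at h
    rw [hB] at h
    have h2 : (x i) ^ q = 0 := by simpa [Cfsg.hermForm, Pi.single_apply] using h
    exact (pow_eq_zero_iff hq0).1 h2
  obtain ⟨b, hbK, hb⟩ := OrthBasis.exists_orthonormal B hσ1 hσ2 hS (n - 2) _ hnd hker
  let L : (Fin (n - 2) → F) →ₗ[F] (Fin n → F) := Fintype.linearCombination F b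
  have hL : ∀ c, L c = ∑ i, c i • b i := fun c => Fintype.linearCombination_apply F b c
  have hcoord : ∀ c i, B (b i) (L c) = c i := fun c i => by simp [hL, map_sum, hb]
  have hLK : ∀ c, L c ∈ LinearMap.ker φ := fun c => by
    rw [hL]; exact sum_mem fun i _ => Submodule.smul_mem _ _ (hbK i)
  have hrange : LinearMap.range L = LinearMap.ker φ := by
    refine Submodule.eq_of_le_of_finrank_le (by rintro _ ⟨c, rfl⟩; exact hLK c) ?_
    rw [LinearMap.finrank_range_of_inj (fun c c' e => funext fun i => by rw [← hcoord c i, ← hcoord c' i, e]),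
      Module.finrank_pi, Fintype.card_fin, hker]
  have hσpow : ∀ a, σ a = a ^ q := fun a => by
    have h1 : B (a • y) u = a ^ q := by
      rw [hB]
      have h2 : Cfsg.hermForm n F q u y = 1 := by rw [← hB, hyu]
      rw [← mul_one (a ^ q), ← h2]
      simp [Cfsg.hermForm, Finset.mul_sum, mul_pow, mul_left_comm]
    rwa [LinearMap.map_smulₛₗ, LinearMap.smul_apply, hyu, smul_eq_mul, mul_one] at h1
  have hLnorm : ∀ c, B (L c) (L c) = Cfsg.hermForm (n - 2) F q c c := fun c => by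
    have h0 : ∀ i, B (L c) (b i) = σ (c i) := fun i => by rw [← hS.eq, hcoord]
    conv_lhs => arg 2; rw [hL]
    simp only [map_sum, map_smul, smul_eq_mul, h0, Cfsg.hermForm, hσpow]
  let S0 := {c : Fin (n - 2) → F // Cfsg.hermForm (n - 2) F q c c = 0 ∧ c ≠ 0}
  have hv : ∀ (l : F) (c : Fin (n - 2) → F), B u (l • u + L c) = 0 ∧ B w (l • u + L c) = l ∧
      B (l • u + L c) (l • u + L c) = Cfsg.hermForm (n - 2) F q c c := by
    intro l c
    have h := (hmem _).1 (hLK c)
    refine ⟨?_, ?_, ?_⟩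
    · simp [h.1, huu']
    · simp [h.2, hwu]
    · simp [h.1, huu', hsym0 _ _ h.1, hLnorm]
  have e : F × S0 ≃ {v : Fin n → F // Cfsg.hermForm n F q v v = 0 ∧ Cfsg.hermForm n F q v u = 0 ∧
      v ∉ Submodule.span F ({u} : Set (Fin n → F))} := Equiv.ofBijective
    (fun p => ⟨p.1 • u + L p.2.1, by rw [← hB, (hv p.1 p.2.1).2.2, p.2.2.1], by rw [← hB, (hv p.1 p.2.1).1],
      fun h => p.2.2.2 (by
        obtain ⟨s, hs⟩ := Submodule.mem_span_singleton.1 h
        funext i
        have hbu : B (b i) u = 0 := hsym0 _ _ ((hmem _).1 (hbK i)).1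
        have := congrArg (B (b i)) hs
        simp [hbu, hcoord] at this
        exact this.symm)⟩) ⟨fun p p' e => by
      have e' : p.1 • u + L p.2.1 = p'.1 • u + L p'.2.1 := congrArg Subtype.val e
      have h1 : p.1 = p'.1 := by rw [← (hv p.1 p.2.1).2.1, e', (hv p'.1 p'.2.1).2.1]
      refine Prod.ext h1 (Subtype.ext (funext fun i => ?_))
      rw [h1, add_left_cancel_iff] at e'
      rw [← hcoord p.2.1 i, e', hcoord], fun ⟨v, hv1, hv2, hv3⟩ => by
      rw [← hB] at hv2
      obtain ⟨c, hc⟩ : v - B w v • u - B u v • w ∈ LinearMap.range L := by rw [hrange]; exact hproj v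
      rw [hv2, zero_smul, sub_zero] at hc
      have hve : v = B w v • u + L c := by rw [hc]; abel
      refine ⟨⟨B w v, c, ?_, fun h0 => hv3 ?_⟩, Subtype.ext hve.symm⟩
      · rw [← (hv (B w v) c).2.2, ← hve, hB, hv1]
      · rw [h0, map_zero, add_zero] at hve
        exact Submodule.mem_span_singleton.2 ⟨_, hve.symm⟩⟩
  rw [← Nat.card_congr e, Nat.card_prod, Nat.card_eq_fintype_card (α := F), hF]
  congr 1
  rw [Nat.card_eq_fintype_card, Fintype.card_subtype, cnt, Nat.card_eq_fintype_card, Fintype.card_subtype,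
    ← Finset.card_erase_of_mem (show (0 : Fin (n - 2) → F) ∈ Finset.univ.filter
      (fun v => Cfsg.hermForm (n - 2) F q v v = 0) from Finset.mem_filter.2 ⟨Finset.mem_univ _, by simp [Cfsg.hermForm, hq0]⟩)]
  congr 1
  ext c; simp [and_comm]

theorem card_TI2_mul (n : ℕ) :
    Nat.card (TI2 n F q) * (((q ^ 2) ^ 2 - 1) * ((q ^ 2) ^ 2 - q ^ 2)) =
      (cnt n F q 0 - 1) * (q ^ 2 * (cnt (n - 2) F q 0 - 1)) := by
  classical
  obtain ⟨σ, B, hσ1, hσ2, hS, hB⟩ := exists_sesq hF n
  have hq0 : q ≠ 0 := by have := one_lt_q hF; omega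
  let U := {u : Fin n → F // Cfsg.hermForm n F q u u = 0 ∧ u ≠ 0}
  let P := (u : U) × {v : Fin n → F // Cfsg.hermForm n F q v v = 0 ∧ Cfsg.hermForm n F q v u.1 = 0 ∧
      v ∉ Submodule.span F ({u.1} : Set (Fin n → F))}
  have hU : Nat.card U = cnt n F q 0 - 1 := by
    rw [Nat.card_eq_fintype_card, Fintype.card_subtype, cnt, Nat.card_eq_fintype_card, Fintype.card_subtype,
      ← Finset.card_erase_of_mem (show (0 : Fin n → F) ∈ Finset.univ.filter
        (fun v => Cfsg.hermForm n F q v v = 0) from Finset.mem_filter.2 ⟨Finset.mem_univ _, by simp [Cfsg.hermForm, hq0]⟩)]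
    congr 1
    ext c; simp [and_comm]
  have hP : Nat.card P = (cnt n F q 0 - 1) * (q ^ 2 * (cnt (n - 2) F q 0 - 1)) := by
    rw [Nat.card_sigma, Finset.sum_congr rfl fun u _ => card_isotropic_perp hF n u.2.2 u.2.1,
      Finset.sum_const, Finset.card_univ, smul_eq_mul, ← Nat.card_eq_fintype_card, hU]
  rw [← hP]
  have hli : ∀ p : P, LinearIndependent F ![p.1.1, p.2.1] := fun p => by
    rw [LinearIndependent.pair_iff' p.1.2.2]
    exact fun a e => p.2.2.2.2 (Submodule.mem_span_singleton.2 ⟨a, e⟩)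
  let f : P → TI2 n F q := fun p => ⟨Submodule.span F (Set.range ![p.1.1, p.2.1]), by
    refine ⟨by rw [finrank_span_eq_card (hli p), Fintype.card_fin], fun x hx y hy => ?_⟩
    have h1 : B p.1.1 p.2.1 = 0 := by rw [hB, p.2.2.2.1]
    have h2 : B p.2.1 p.1.1 = 0 := by rw [← hS.eq p.1.1 p.2.1, h1, map_zero]
    have h3 : B p.1.1 p.1.1 = 0 := by rw [hB, p.1.2.1]
    have h4 : B p.2.1 p.2.1 = 0 := by rw [hB, p.2.2.1]
    obtain ⟨s, rfl⟩ := (Submodule.mem_span_range_iff_exists_fun F).1 hx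
    obtain ⟨t, rfl⟩ := (Submodule.mem_span_range_iff_exists_fun F).1 hy
    rw [← hB]
    simp [Fin.sum_univ_two, h1, h2, h3, h4]⟩
  haveI : Fintype (TI2 n F q) := Fintype.ofFinite _
  have hfib : ∀ W : TI2 n F q, Nat.card {p // f p = W} = ((q ^ 2) ^ 2 - 1) * ((q ^ 2) ^ 2 - q ^ 2) := by
    rintro ⟨W, hW2, hW⟩
    rw [show ((q ^ 2) ^ 2 - 1) * ((q ^ 2) ^ 2 - q ^ 2) = Nat.card {s : Fin 2 → W // LinearIndependent F s} by
      rw [card_linearIndependent (le_of_eq hW2.symm), hW2, Fin.prod_univ_two, hF]; simp]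
    refine Nat.card_congr (Equiv.ofBijective (fun p => (⟨fun i => ⟨![p.1.1.1, p.1.2.1] i, ?_⟩,
      LinearIndependent.of_comp W.subtype (hli p.1)⟩ : {s : Fin 2 → W // LinearIndependent F s})) ⟨?_, ?_⟩)
    · exact (congrArg Subtype.val p.2).le (Submodule.subset_span ⟨i, rfl⟩)
    · rintro ⟨⟨⟨a, ha⟩, ⟨b, hb⟩⟩, hp⟩ ⟨⟨⟨a', ha'⟩, ⟨b', hb'⟩⟩, hp'⟩ e
      have e0 : a = a' := congrArg Subtype.val (congrFun (congrArg Subtype.val e) 0)
      have e1 : b = b' := congrArg Subtype.val (congrFun (congrArg Subtype.val e) 1)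
      subst e0; subst e1; rfl
    · rintro ⟨s, hs⟩
      have hs' : LinearIndependent F ![(s 0 : Fin n → F), (s 1 : Fin n → F)] := by
        rw [show ![(s 0 : Fin n → F), (s 1 : Fin n → F)] = W.subtype ∘ s by funext i; fin_cases i <;> rfl]
        exact hs.map' W.subtype W.ker_subtype
      have h0 : (s 0 : Fin n → F) ≠ 0 := hs'.ne_zero 0
      refine ⟨⟨⟨⟨s 0, hW _ (s 0).2 _ (s 0).2, h0⟩, ⟨s 1, hW _ (s 1).2 _ (s 1).2, hW _ (s 1).2 _ (s 0).2,
        fun h => ?_⟩⟩, Subtype.ext ?_⟩, Subtype.ext (funext fun i => ?_)⟩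
      · obtain ⟨a, e⟩ := Submodule.mem_span_singleton.1 h
        exact (LinearIndependent.pair_iff' h0).1 hs' a e
      · refine Submodule.eq_of_le_of_finrank_le (Submodule.span_le.2 ?_) ?_
        · rintro _ ⟨i, rfl⟩; fin_cases i <;> simp
        · show finrank F W ≤ finrank F (Submodule.span F (Set.range ![(s 0 : Fin n → F), (s 1 : Fin n → F)]))
          rw [finrank_span_eq_card hs', Fintype.card_fin, hW2]
      · fin_cases i <;> rfl
  rw [← Nat.card_congr (Equiv.sigmaFiberEquiv f), Nat.card_sigma, Finset.sum_congr rfl fun W _ => hfib W,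
    Finset.sum_const, Finset.card_univ, smul_eq_mul, ← Nat.card_eq_fintype_card]

end Cfsg.Agent.Classical.Unitary
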