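import Cfsg.Agent.Lib.Classical.Unitary
import Cfsg.Agent.Lib.Classical.WittHerm
import Cfsg.Prelude.Def_ClassicalGeometry

/-!
Orders of stabilisers of totally isotropic subspaces in unitary groups.
-/

set_option autoImplicit false
set_option linter.style.haveILetI false
set_option linter.unusedSectionVars false
set_option maxHeartbeats 1000000

open Module Matrix

namespace Cfsg.Agent.Classical.UnitaryTIStab

/-- Orbit and fixer of a map invariant exactly along cosets. -/
theorem card_eq_mul {G S : Type*} [Group G] (act : G → S) (H : Subgroup G) (hs : Function.Surjective act)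
    (h : ∀ g g', act g = act g' ↔ g⁻¹ * g' ∈ H) : Nat.card G = Nat.card S * Nat.card H := by
  rw [← H.index_mul_card]
  congr 1
  refine Nat.card_congr (Equiv.ofBijective (fun c : G ⧸ H => Quotient.liftOn' c act
    (fun a b hab => (h a b).2 (QuotientGroup.leftRel_apply.1 hab))) ⟨?_, ?_⟩)
  · rintro ⟨a⟩ ⟨b⟩ hab
    exact Quotient.sound' (QuotientGroup.leftRel_apply.2 ((h a b).1 hab))
  · intro s
    obtain ⟨g, rfl⟩ := hs s
    exact ⟨QuotientGroup.mk g, rfl⟩

variable {F : Type*} [Field F] [Fintype F] {q : ℕ} (hF : Fintype.card F = q ^ 2)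

/-- Independent tuples spanning a totally isotropic subspace. -/
abbrev TI (n : ℕ) (F : Type*) [Field F] (q k : ℕ) : Type _ :=
  {r : Fin k → (Fin n → F) // LinearIndependent F r ∧ ∀ i j, Cfsg.hermForm n F q (r i) (r j) = 0}

include hF

theorem q_ne : q ≠ 0 := by have := Unitary.one_lt_q hF; omega

theorem sesq_eq {n k : ℕ} {σ : F →+* F} (B : (Fin n → F) →ₛₗ[σ] (Fin n → F) →ₗ[F] F)
    (hB : ∀ x y, B x y = Cfsg.hermForm n F q y x) (r : Fin k → (Fin n → F))
    (h : ∀ i j, Cfsg.hermForm n F q (r i) (r j) = 0) : ∀ x ∈ Submodule.span F (Set.range r), ∀ y ∈ Submodule.span F (Set.range r), B x y = 0 := by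
  intro x hx y hy
  induction hx using Submodule.span_induction with
  | mem x hx =>
    obtain ⟨i, rfl⟩ := hx
    induction hy using Submodule.span_induction with
    | mem y hy => obtain ⟨j, rfl⟩ := hy; rw [hB]; exact h j i
    | zero => rw [map_zero]
    | add a b _ _ iha ihb => rw [map_add, iha, ihb, add_zero]
    | smul c a _ iha => rw [map_smul, iha, smul_zero]
  | zero => rw [map_zero, LinearMap.zero_apply]
  | add a b _ _ iha ihb => rw [map_add, LinearMap.add_apply, iha, ihb, add_zero]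
  | smul c a _ iha => rw [LinearMap.map_smulₛₗ, LinearMap.smul_apply, iha, smul_zero]

theorem exists_map {n k : ℕ} (r s : TI n F q k) :
    ∃ g : Cfsg.GU n F q, ∀ i, ((g : GL (Fin n) F) : Matrix (Fin n) (Fin n) F) *ᵥ r.1 i = s.1 i := by
  obtain ⟨σ, B, hσ1, hσ2, hS, hB⟩ := Unitary.exists_sesq hF n
  have hnd : B.Nondegenerate := by
    have key : ∀ x, (∀ y, B x y = 0) → x = 0 := fun x hx => funext fun i => by
      have h := hx (Pi.single i 1)
      rw [hB] at h
      exact (pow_eq_zero_iff (q_ne hF)).1 (by simpa [Cfsg.hermForm, Pi.single_apply] using h)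
    exact ⟨key, fun y hy => key y fun x => by rw [← hS.eq, hy, map_zero]⟩
  let b := Basis.span r.2.1
  let f : Submodule.span F (Set.range r.1) →ₗ[F] (Fin n → F) := b.constr F s.1
  have hfb : ∀ i, f (b i) = s.1 i := fun i => b.constr_basis F s.1 i
  have hinj : Function.Injective f := by
    rw [← LinearMap.ker_eq_bot, LinearMap.ker_eq_bot']
    intro x hx
    rw [← b.sum_repr x, map_sum] at hx
    simp only [map_smul, hfb] at hx
    exact b.repr.injective (Finsupp.ext fun i => by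
      rw [map_zero]; exact Fintype.linearIndependent_iff.1 s.2.1 _ hx i)
  have hfS : ∀ x, f x ∈ Submodule.span F (Set.range s.1) := fun x => by
    rw [← b.sum_repr x, map_sum]
    refine Submodule.sum_mem _ fun i _ => ?_
    rw [map_smul, hfb]
    exact Submodule.smul_mem _ _ (Submodule.subset_span ⟨i, rfl⟩)
  obtain ⟨g, hg, hgx⟩ := WittHerm.extend hσ1 hσ2 B hS hnd k (Submodule.span F (Set.range r.1)) f
    (by rw [finrank_span_eq_card r.2.1, Fintype.card_fin]) hinj (fun x x' => by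
      rw [sesq_eq hF B hB r.1 r.2.2 _ x.2 _ x'.2]
      exact sesq_eq hF B hB s.1 s.2.2 _ (hfS x) _ (hfS x'))
  let G : GL (Fin n) F := GeneralLinearGroup.mkOfDetNeZero (LinearMap.toMatrix' g.toLinearMap)
    (by rw [LinearMap.det_toMatrix']; exact g.isUnit_det'.ne_zero)
  have hG : ∀ x, (G : Matrix (Fin n) (Fin n) F) *ᵥ x = g x := fun x => LinearMap.toMatrix'_mulVec _ x
  refine ⟨⟨G, fun u v => ?_⟩, fun i => ?_⟩
  · show Cfsg.hermForm n F q ((G : Matrix (Fin n) (Fin n) F) *ᵥ u) ((G : Matrix (Fin n) (Fin n) F) *ᵥ v) = _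
    rw [hG, hG, ← hB, hg, hB]
  · show (G : Matrix (Fin n) (Fin n) F) *ᵥ r.1 i = s.1 i
    rw [hG, show r.1 i = (b i : Fin n → F) from (Basis.coe_span_apply r.2.1 i).symm, hgx, hfb]

omit hF in
/-- The pointwise fixer. -/
def fixer {n k : ℕ} (r : Fin k → (Fin n → F)) : Subgroup (Cfsg.GU n F q) where
  carrier := {g | ∀ i, ((g : GL (Fin n) F) : Matrix (Fin n) (Fin n) F) *ᵥ r i = r i}
  one_mem' i := by simp
  mul_mem' {a b} ha hb i := by
    show (((a * b : Cfsg.GU n F q) : GL (Fin n) F) : Matrix (Fin n) (Fin n) F) *ᵥ r i = r i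
    rw [Subgroup.coe_mul, Units.val_mul, ← mulVec_mulVec, hb, ha]
  inv_mem' {a} ha i := by
    show (((a⁻¹ : Cfsg.GU n F q) : GL (Fin n) F) : Matrix (Fin n) (Fin n) F) *ᵥ r i = r i
    conv_lhs => rw [← ha i, mulVec_mulVec, Subgroup.coe_inv, ← Units.val_mul, inv_mul_cancel, Units.val_one, one_mulVec]

theorem apply_ti {n k : ℕ} (g : Cfsg.GU n F q) (r : TI n F q k) :
    LinearIndependent F (fun i => ((g : GL (Fin n) F) : Matrix (Fin n) (Fin n) F) *ᵥ r.1 i) ∧
      ∀ i j, Cfsg.hermForm n F q (((g : GL (Fin n) F) : Matrix (Fin n) (Fin n) F) *ᵥ r.1 i)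
        (((g : GL (Fin n) F) : Matrix (Fin n) (Fin n) F) *ᵥ r.1 j) = 0 := by
  refine ⟨?_, fun i j => (g.2 _ _).trans (r.2.2 i j)⟩
  exact r.2.1.map' (Matrix.mulVecLin _) (LinearMap.ker_eq_bot.2 (by
    intro x y h
    have := congrArg (fun z => (((g : GL (Fin n) F)⁻¹ : GL (Fin n) F) : Matrix (Fin n) (Fin n) F) *ᵥ z) h
    simpa [mulVec_mulVec, ← Units.val_mul] using this))

theorem card_GU_eq {n k : ℕ} (r : TI n F q k) :
    Nat.card (Cfsg.GU n F q) = Nat.card (TI n F q k) * Nat.card (fixer (q := q) r.1) := by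
  refine card_eq_mul (fun g => (⟨_, apply_ti hF g r⟩ : TI n F q k)) _ (fun s => ?_) fun g g' => ?_
  · obtain ⟨g, hg⟩ := exists_map hF r s
    exact ⟨g, Subtype.ext (funext hg)⟩
  · constructor
    · intro h i
      have h1 := congrFun (congrArg Subtype.val h) i
      show (((g⁻¹ * g' : Cfsg.GU n F q) : GL (Fin n) F) : Matrix (Fin n) (Fin n) F) *ᵥ r.1 i = r.1 i
      have h1' : ((g : GL (Fin n) F) : Matrix (Fin n) (Fin n) F) *ᵥ r.1 i = ((g' : GL (Fin n) F) : Matrix (Fin n) (Fin n) F) *ᵥ r.1 i := h1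
      rw [Subgroup.coe_mul, Units.val_mul, ← mulVec_mulVec, ← h1', mulVec_mulVec, Subgroup.coe_inv,
        ← Units.val_mul, inv_mul_cancel, Units.val_one, one_mulVec]
    · intro h
      refine Subtype.ext (funext fun i => ?_)
      show ((g : GL (Fin n) F) : Matrix (Fin n) (Fin n) F) *ᵥ r.1 i = ((g' : GL (Fin n) F) : Matrix (Fin n) (Fin n) F) *ᵥ r.1 i
      conv_lhs => rw [← h i, mulVec_mulVec, ← Units.val_mul, ← Subgroup.coe_mul, mul_inv_cancel_left]

/-- The standard model of the polar of a totally isotropic tuple. -/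
theorem exists_std (n k : ℕ) (hk : 2 * k ≤ n) : ∃ r : TI n F q k,
    Nat.card {v : Fin n → F // Cfsg.hermForm n F q v v = 0 ∧ (∀ i, Cfsg.hermForm n F q v (r.1 i) = 0) ∧
      v ∉ Submodule.span F (Set.range r.1)} = (q ^ 2) ^ k * (Unitary.cnt (n - 2 * k) F q 0 - 1) := by
  classical
  obtain ⟨l, hl⟩ := Unitary.exists_scale hF (a := -1) (neg_ne_zero.2 one_ne_zero) (by
    obtain ⟨σ, hσ, -, -⟩ := Unitary.exists_frob hF
    rw [← hσ, map_neg, map_one])
  have hq := q_ne hF
  let e : (Fin k ⊕ Fin k) ⊕ Fin (n - 2 * k) ≃ Fin n :=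
    ((finSumFinEquiv.sumCongr (Equiv.refl _)).trans finSumFinEquiv).trans (finCongr (by omega))
  have hsum : ∀ u v : Fin n → F, Cfsg.hermForm n F q u v =
      (∑ i, (u (e (.inl (.inl i))) * v (e (.inl (.inl i))) ^ q + u (e (.inl (.inr i))) * v (e (.inl (.inr i))) ^ q)) +
        ∑ j, u (e (.inr j)) * v (e (.inr j)) ^ q := fun u v => by
    rw [Cfsg.hermForm, ← e.sum_comp (fun i => u i * v i ^ q), Fintype.sum_sum_type, Fintype.sum_sum_type, Finset.sum_add_distrib]
  let L : (Fin k → F) × (Fin (n - 2 * k) → F) →ₗ[F] (Fin n → F) :=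
    { toFun := fun p m => Sum.elim (Sum.elim p.1 (fun i => l * p.1 i)) p.2 (e.symm m)
      map_add' := fun p p' => funext fun m => by
        rcases h : e.symm m with (i | i) | j <;> simp [h, mul_add]
      map_smul' := fun c p => funext fun m => by
        rcases h : e.symm m with (i | i) | j <;> simp [h]; ring }
  have hL1 : ∀ p i, L p (e (.inl (.inl i))) = p.1 i := fun p i => by simp [L]
  have hL2 : ∀ p i, L p (e (.inl (.inr i))) = l * p.1 i := fun p i => by simp [L]
  have hL3 : ∀ p j, L p (e (.inr j)) = p.2 j := fun p j => by simp [L]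
  have hinj : Function.Injective L := fun p p' h => Prod.ext (funext fun i => by rw [← hL1 p i, h, hL1]) (funext fun j => by rw [← hL3 p j, h, hL3])
  have hLL : ∀ p p', Cfsg.hermForm n F q (L p) (L p') = Cfsg.hermForm (n - 2 * k) F q p.2 p'.2 := fun p p' => by
    rw [hsum]
    simp only [hL1, hL2, hL3, mul_pow]
    rw [Finset.sum_eq_zero (fun i _ => by linear_combination (p.1 i * p'.1 i ^ q) * hl), zero_add]
    rfl
  let r : Fin k → (Fin n → F) := fun i => L (Pi.single i 1, 0)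
  have hspan : ∀ v, v ∈ Submodule.span F (Set.range r) ↔ ∃ s, v = L (s, 0) := fun v => by
    rw [Submodule.mem_span_range_iff_exists_fun]
    have key : ∀ c : Fin k → F, ∑ i, c i • r i = L (c, 0) := fun c => by
      simp only [r, ← map_smul, ← map_sum]
      congr 1
      refine Prod.ext ?_ ?_
      · simp only [Prod.fst_sum, Prod.smul_fst, ← Pi.single_smul, smul_eq_mul, mul_one, Finset.univ_sum_single]
      · simp [Prod.snd_sum]
    exact ⟨fun ⟨c, hc⟩ => ⟨c, hc.symm.trans (key c)⟩, fun ⟨c, hc⟩ => ⟨c, (key c).trans hc.symm⟩⟩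
  refine ⟨⟨r, ?_, fun i j => by rw [hLL]; simp [Cfsg.hermForm]⟩, ?_⟩
  · rw [Fintype.linearIndependent_iff]
    intro c hc i
    have h1 : ∑ i, c i • r i = L (c, 0) := by
      simp only [r, ← map_smul, ← map_sum]
      congr 1
      refine Prod.ext ?_ ?_
      · simp only [Prod.fst_sum, Prod.smul_fst, ← Pi.single_smul, smul_eq_mul, mul_one, Finset.univ_sum_single]
      · simp [Prod.snd_sum]
    rw [h1] at hc
    exact congrFun (congrArg Prod.fst (hinj (hc.trans (map_zero L).symm))) i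
  have hperp : ∀ v, (∀ i, Cfsg.hermForm n F q v (r i) = 0) → ∃ p, L p = v := fun v hv => by
    refine ⟨(fun i => v (e (.inl (.inl i))), fun j => v (e (.inr j))), ?_⟩
    funext m
    obtain ⟨m, rfl⟩ := e.surjective m
    rcases m with (i | i) | j
    · exact hL1 _ i
    · rw [hL2]
      have h := hv i
      rw [hsum] at h
      simp only [r, hL1, hL2, hL3, Pi.single_apply, Pi.zero_apply, zero_pow hq, mul_zero, Finset.sum_const_zero, add_zero] at h
      rw [Finset.sum_eq_single i (fun j _ hj => by simp [hj, zero_pow hq]) (by simp)] at h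
      simp only [if_true, one_pow, mul_one] at h
      linear_combination l * h - v (e (.inl (.inr i))) * hl
    · exact hL3 _ j
  rw [← Nat.card_congr (Equiv.ofBijective
    (fun p : (Fin k → F) × {c : Fin (n - 2 * k) → F // Cfsg.hermForm (n - 2 * k) F q c c = 0 ∧ c ≠ 0} =>
      (⟨L (p.1, p.2.1), by rw [hLL]; exact p.2.2.1, fun i => by rw [hLL]; simp [Cfsg.hermForm, zero_pow hq],
        fun h => p.2.2.2 (by
          obtain ⟨s, hs⟩ := (hspan _).1 h
          exact congrArg Prod.snd (hinj hs))⟩ : {v : Fin n → F // Cfsg.hermForm n F q v v = 0 ∧ (∀ i, Cfsg.hermForm n F q v (r i) = 0) ∧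
      v ∉ Submodule.span F (Set.range r)})) ⟨?_, ?_⟩)]
  · rw [Nat.card_prod, Nat.card_fun, Nat.card_eq_fintype_card (α := F), hF, Nat.card_fin]
    congr 1
    rw [Nat.card_eq_fintype_card, Fintype.card_subtype, Unitary.cnt, Nat.card_eq_fintype_card, Fintype.card_subtype,
      ← Finset.card_erase_of_mem (show (0 : Fin (n - 2 * k) → F) ∈ Finset.univ.filter
        (fun v => Cfsg.hermForm (n - 2 * k) F q v v = 0) from Finset.mem_filter.2 ⟨Finset.mem_univ _, by simp [Cfsg.hermForm, hq]⟩)]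
    congr 1
    ext c; simp [and_comm]
  · intro p p' h
    have := hinj (congrArg Subtype.val h)
    obtain ⟨h1, h2⟩ := Prod.mk.injEq .. ▸ this
    exact Prod.ext h1 (Subtype.ext h2)
  · rintro ⟨v, hv0, hv, hvs⟩
    obtain ⟨⟨s, c⟩, rfl⟩ := hperp v hv
    refine ⟨⟨s, c, by rw [← hLL (s, c) (s, c)]; exact hv0, fun hc => hvs ((hspan _).2 ⟨s, by rw [hc]⟩)⟩, rfl⟩

theorem card_fibre {n k : ℕ} (hk : 2 * k ≤ n) (r : TI n F q k) :
    Nat.card {v : Fin n → F // Cfsg.hermForm n F q v v = 0 ∧ (∀ i, Cfsg.hermForm n F q v (r.1 i) = 0) ∧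
      v ∉ Submodule.span F (Set.range r.1)} = (q ^ 2) ^ k * (Unitary.cnt (n - 2 * k) F q 0 - 1) := by
  obtain ⟨r₀, h₀⟩ := exists_std hF n k hk
  obtain ⟨g, hg⟩ := exists_map hF r r₀
  rw [← h₀]
  let φ : (Fin n → F) ≃ₗ[F] (Fin n → F) := LinearMap.GeneralLinearGroup.generalLinearEquiv F _ (Matrix.GeneralLinearGroup.toLin (g : GL (Fin n) F))
  have hφ : ∀ x, φ x = ((g : GL (Fin n) F) : Matrix (Fin n) (Fin n) F) *ᵥ x := fun x => rfl
  have hspan : (Submodule.span F (Set.range r.1)).map φ.toLinearMap = Submodule.span F (Set.range r₀.1) := by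
    rw [Submodule.map_span, ← Set.range_comp]
    congr 2; funext i
    exact (hφ _).trans (hg i)
  refine Nat.card_congr (φ.toEquiv.subtypeEquiv fun v => ?_)
  have hφ' : φ.toEquiv v = φ v := rfl
  rw [hφ', ← hspan, Submodule.mem_map_equiv, LinearEquiv.symm_apply_apply]
  simp only [← hg, hφ]
  have hg2 : ∀ x y, Cfsg.hermForm n F q (((g : GL (Fin n) F) : Matrix (Fin n) (Fin n) F) *ᵥ x) (((g : GL (Fin n) F) : Matrix (Fin n) (Fin n) F) *ᵥ y) = Cfsg.hermForm n F q x y := g.2
  rw [hg2 v v]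
  exact ⟨fun ⟨a, b, c⟩ => ⟨a, fun i => (hg2 _ _).trans (b i), c⟩, fun ⟨a, b, c⟩ => ⟨a, fun i => (hg2 _ _).symm.trans (b i), c⟩⟩

theorem card_TI_succ {n k : ℕ} (hk : 2 * k ≤ n) :
    Nat.card (TI n F q (k + 1)) = Nat.card (TI n F q k) * ((q ^ 2) ^ k * (Unitary.cnt (n - 2 * k) F q 0 - 1)) := by
  classical
  obtain ⟨σ, B, -, -, hS, hB⟩ := Unitary.exists_sesq hF n
  let e : TI n F q (k + 1) ≃ Σ r : TI n F q k,
      {v : Fin n → F // Cfsg.hermForm n F q v v = 0 ∧ (∀ i, Cfsg.hermForm n F q v (r.1 i) = 0) ∧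
        v ∉ Submodule.span F (Set.range r.1)} :=
    { toFun := fun s => ⟨⟨Fin.tail s.1, (linearIndependent_finSucc.1 s.2.1).1, fun i j => s.2.2 i.succ j.succ⟩,
        ⟨s.1 0, s.2.2 0 0, fun i => s.2.2 0 i.succ, (linearIndependent_finSucc.1 s.2.1).2⟩⟩
      invFun := fun p => ⟨Fin.cons p.2.1 p.1.1, linearIndependent_finCons.2 ⟨p.1.2.1, p.2.2.2.2⟩, by
        refine Fin.cases ?_ fun i => ?_
        · refine Fin.cases ?_ fun j => ?_
          · simpa using p.2.2.1
          · simpa using p.2.2.2.1 j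
        · refine Fin.cases ?_ fun j => ?_
          · simp only [Fin.cons_zero, Fin.cons_succ]
            rw [← hB, ← hS.eq, hB, p.2.2.2.1 i, map_zero]
          · simpa using p.1.2.2 i j⟩
      left_inv := fun s => Subtype.ext (Fin.cons_self_tail s.1)
      right_inv := fun p => by obtain ⟨⟨r, hr⟩, ⟨v, hv⟩⟩ := p; rfl }
  haveI : Fintype (TI n F q k) := Fintype.ofFinite _
  rw [Nat.card_congr e, Nat.card_sigma, Finset.sum_congr rfl fun r _ => card_fibre hF hk r,
    Finset.sum_const, Finset.card_univ, smul_eq_mul, ← Nat.card_eq_fintype_card]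

theorem prod_step (m : ℕ) (hm : 2 ≤ m) :
    q ^ (m * (m - 1) / 2) * ∏ i ∈ Finset.range m, (if Even i then q ^ (i + 1) + 1 else q ^ (i + 1) - 1) =
      (Unitary.cnt m F q 0 - 1) * q ^ (2 * m - 3) *
        (q ^ ((m - 2) * (m - 2 - 1) / 2) * ∏ i ∈ Finset.range (m - 2), (if Even i then q ^ (i + 1) + 1 else q ^ (i + 1) - 1)) := by
  obtain ⟨m, rfl⟩ : ∃ j, m = j + 2 := ⟨m - 2, by omega⟩
  have he : (m + 2) * (m + 2 - 1) / 2 = (2 * (m + 2) - 3) + m * (m - 1) / 2 := by
    have : (m + 2) * (m + 2 - 1) = 2 * (2 * (m + 2) - 3) + m * (m - 1) := by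
      rcases Nat.eq_zero_or_pos m with rfl | hm0
      · rfl
      · obtain ⟨j, rfl⟩ : ∃ j, m = j + 1 := ⟨m - 1, by omega⟩
        simp only [show j + 1 + 2 - 1 = j + 2 by omega, show 2 * (j + 1 + 2) - 3 = 2 * j + 3 by omega, Nat.add_sub_cancel]
        ring
    rw [this, Nat.mul_add_div (by omega)]
  rw [Nat.add_sub_cancel, he, pow_add, Finset.prod_range_succ, Finset.prod_range_succ, Unitary.cnt_zero_eq hF,
    Nat.add_sub_cancel (n := _) (m := 1), show m + 2 - 1 = m + 1 by omega]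
  rcases Nat.even_or_odd m with h | h
  · rw [if_pos h, if_neg (by rw [Nat.even_add_one]; exact not_not.2 h), if_pos (h.add (by decide : Even 2))]
    ring
  · rw [if_neg (Nat.not_even_iff_odd.2 h), if_pos (by rw [Nat.even_add_one]; exact Nat.not_even_iff_odd.2 h),
      if_neg (by rw [Nat.not_even_iff_odd]; exact h.add_even (by decide))]
    ring

theorem card_TI_mul (n : ℕ) : ∀ k, 2 * k ≤ n → Nat.card (TI n F q k) * (q ^ (k * (2 * n - 3 * k)) *
    (q ^ ((n - 2 * k) * ((n - 2 * k) - 1) / 2) * ∏ i ∈ Finset.range (n - 2 * k), (if Even i then q ^ (i + 1) + 1 else q ^ (i + 1) - 1))) =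
    Nat.card (Cfsg.GU n F q) := by
  intro k
  induction k with
  | zero =>
    intro _
    haveI : Unique (TI n F q 0) :=
      { default := ⟨Fin.elim0, linearIndependent_empty_type, fun i => i.elim0⟩
        uniq := fun r => Subtype.ext (funext fun i => i.elim0) }
    simp [Unitary.card_GU hF n]
  | succ k ih =>
    intro hk
    rw [← ih (by omega), card_TI_succ hF (by omega : 2 * k ≤ n), prod_step hF (n - 2 * k) (by omega),
      show n - 2 * (k + 1) = n - 2 * k - 2 by omega]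
    have he : q ^ (k * (2 * n - 3 * k)) * q ^ (2 * (n - 2 * k) - 3) = (q ^ 2) ^ k * q ^ ((k + 1) * (2 * n - 3 * (k + 1))) := by
      rw [← pow_mul, ← pow_add, ← pow_add]
      congr 1
      obtain ⟨d, rfl⟩ : ∃ d, n = 2 * k + 2 + d := ⟨n - (2 * k + 2), by omega⟩
      rw [show 2 * (2 * k + 2 + d) - 3 * k = k + 4 + 2 * d by omega, show 2 * (2 * k + 2 + d - 2 * k) - 3 = 2 * d + 1 by omega,
        show 2 * (2 * k + 2 + d) - 3 * (k + 1) = k + 1 + 2 * d by omega]
      ring
    generalize Unitary.cnt (n - 2 * k) F q 0 - 1 = z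
    generalize q ^ ((n - 2 * k - 2) * (n - 2 * k - 2 - 1) / 2) * ∏ i ∈ Finset.range (n - 2 * k - 2), (if Even i then q ^ (i + 1) + 1 else q ^ (i + 1) - 1) = G
    linear_combination (Nat.card (TI n F q k) * z * G) * he.symm

/-- The stabiliser in `GU`. -/
theorem card_stab {n k : ℕ} (hk : 2 * k ≤ n) (W : Submodule F (Fin n → F)) (hWk : finrank F W = k)
    (hW : ∀ u ∈ W, ∀ v ∈ W, Cfsg.hermForm n F q u v = 0) (S : Subgroup (Cfsg.GU n F q))
    (hS : ∀ g : Cfsg.GU n F q, g ∈ S ↔ ∀ v, v ∈ W ↔ ((g : GL (Fin n) F) : Matrix (Fin n) (Fin n) F) *ᵥ v ∈ W) :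
    Nat.card S = q ^ (k * (2 * n - 3 * k)) * (∏ i : Fin k, ((q ^ 2) ^ k - (q ^ 2) ^ (i : ℕ))) *
      (q ^ ((n - 2 * k) * ((n - 2 * k) - 1) / 2) * ∏ i ∈ Finset.range (n - 2 * k), (if Even i then q ^ (i + 1) + 1 else q ^ (i + 1) - 1)) := by
  classical
  let b := Module.finBasisOfFinrankEq F W hWk
  let r : TI n F q k := ⟨fun i => (b i : Fin n → F), b.linearIndependent.map' W.subtype W.ker_subtype,
    fun i j => hW _ (b i).2 _ (b j).2⟩
  have hmem : ∀ g ∈ S, ∀ i, ((g : GL (Fin n) F) : Matrix (Fin n) (Fin n) F) *ᵥ r.1 i ∈ W :=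
    fun g hg i => ((hS g).1 hg _).1 (b i).2
  have h1 : Nat.card S = Nat.card {s : Fin k → W // LinearIndependent F s} * Nat.card (fixer (q := q) r.1) := by
    rw [card_eq_mul (fun g : S => (⟨fun i => ⟨_, hmem g g.2 i⟩,
        LinearIndependent.of_comp W.subtype (apply_ti hF g.1 r).1⟩ : {s : Fin k → W // LinearIndependent F s}))
      ((fixer (q := q) r.1).subgroupOf S) (fun s => ?_) (fun g g' => ?_)]
    · congr 1
      refine Nat.card_congr (Subgroup.subgroupOfEquivOfLe fun g hg => (hS g).2 ?_).toEquiv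
      have hfix : ∀ v ∈ W, ((g : GL (Fin n) F) : Matrix (Fin n) (Fin n) F) *ᵥ v = v := by
        intro v hv
        have e := congrArg Subtype.val (b.sum_repr ⟨v, hv⟩)
        simp only [Submodule.coe_sum, Submodule.coe_smul] at e
        rw [← e, ← Matrix.mulVecLin_apply, map_sum]
        exact Finset.sum_congr rfl fun i _ => by rw [map_smul, Matrix.mulVecLin_apply]; exact congrArg _ (hg i)
      refine fun v => ⟨fun hv => (hfix v hv).symm ▸ hv, fun hv => ?_⟩
      have h2 := hfix _ hv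
      have h3 := congrArg (fun z => (((g : GL (Fin n) F)⁻¹ : GL (Fin n) F) : Matrix (Fin n) (Fin n) F) *ᵥ z) h2
      simp only [mulVec_mulVec, ← mul_assoc, ← Units.val_mul, inv_mul_cancel, Units.val_one, one_mul, one_mulVec] at h3
      rwa [← h3]
    · obtain ⟨g, hg⟩ := exists_map hF r ⟨fun i => (s.1 i : Fin n → F), s.2.map' W.subtype W.ker_subtype,
        fun i j => hW _ (s.1 i).2 _ (s.1 j).2⟩
      have hle : W.map (Matrix.mulVecLin ((g : GL (Fin n) F) : Matrix (Fin n) (Fin n) F)) ≤ W := by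
        rintro _ ⟨v, hv, rfl⟩
        have e := congrArg Subtype.val (b.sum_repr ⟨v, hv⟩)
        simp only [Submodule.coe_sum, Submodule.coe_smul] at e
        rw [← e, map_sum]
        refine Submodule.sum_mem _ fun i _ => ?_
        rw [map_smul, Matrix.mulVecLin_apply]
        exact Submodule.smul_mem _ _ ((hg i).symm ▸ (s.1 i).2)
      have hinj : Function.Injective (Matrix.mulVecLin ((g : GL (Fin n) F) : Matrix (Fin n) (Fin n) F)) :=
        Matrix.mulVec_injective_iff_isUnit.2 ⟨(g : GL (Fin n) F), rfl⟩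
      have heq : W.map (Matrix.mulVecLin ((g : GL (Fin n) F) : Matrix (Fin n) (Fin n) F)) = W :=
        Submodule.eq_of_le_of_finrank_eq hle (Submodule.equivMapOfInjective _ hinj W).finrank_eq.symm
      refine ⟨⟨g, (hS g).2 fun v => ⟨fun hv => hle ⟨v, hv, rfl⟩, fun hv => ?_⟩⟩, Subtype.ext (funext fun i => Subtype.ext (hg i))⟩
      rw [← heq] at hv
      obtain ⟨w, hw, hwv⟩ := hv
      exact hinj hwv ▸ hw
    · rw [Subgroup.mem_subgroupOf]
      constructor
      · intro h i
        have h1 := congrArg Subtype.val (congrFun (congrArg Subtype.val h) i)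
        show (((g⁻¹ * g' : S) : Cfsg.GU n F q) : GL (Fin n) F).val *ᵥ r.1 i = r.1 i
        have h1' : ((g : Cfsg.GU n F q) : GL (Fin n) F).val *ᵥ r.1 i = ((g' : Cfsg.GU n F q) : GL (Fin n) F).val *ᵥ r.1 i := h1
        rw [Subgroup.coe_mul, Subgroup.coe_mul, Units.val_mul, ← mulVec_mulVec, ← h1', mulVec_mulVec,
          Subgroup.coe_inv, Subgroup.coe_inv, ← Units.val_mul, inv_mul_cancel, Units.val_one, one_mulVec]
      · intro h
        refine Subtype.ext (funext fun i => Subtype.ext ?_)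
        show ((g : Cfsg.GU n F q) : GL (Fin n) F).val *ᵥ r.1 i = ((g' : Cfsg.GU n F q) : GL (Fin n) F).val *ᵥ r.1 i
        conv_lhs => rw [← h i, mulVec_mulVec, ← Units.val_mul, ← Subgroup.coe_mul, ← Subgroup.coe_mul, mul_inv_cancel_left]
  have h2 := card_GU_eq hF r
  rw [← card_TI_mul hF n k hk] at h2
  haveI : Nonempty (TI n F q k) := ⟨r⟩
  rw [h1, ← Nat.eq_of_mul_eq_mul_left Nat.card_pos h2, card_linearIndependent hWk.ge, hWk, hF]
  ring

/-- Norm one scalars occur as determinants on the stabiliser. -/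
theorem exists_det {n : ℕ} {W : Submodule F (Fin n → F)} (hW0 : W ≠ ⊥) (hW : ∀ u ∈ W, ∀ v ∈ W, Cfsg.hermForm n F q u v = 0)
    {z : F} (hz : z * z ^ q = 1) :
    ∃ g : Cfsg.GU n F q, ((g : GL (Fin n) F) : Matrix (Fin n) (Fin n) F).det = z ∧
      ∀ v ∈ W, ((g : GL (Fin n) F) : Matrix (Fin n) (Fin n) F) *ᵥ v ∈ W := by
  classical
  obtain ⟨σ, hσ, hσ1, hσ2⟩ := Unitary.exists_frob hF
  obtain ⟨e, he, he0⟩ := Submodule.exists_mem_ne_zero_of_ne_bot hW0
  obtain ⟨i, hi⟩ := Function.ne_iff.1 he0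
  have hadd : ∀ x y v, Cfsg.hermForm n F q (x + y) v = Cfsg.hermForm n F q x v + Cfsg.hermForm n F q y v := fun x y v => by
    simp [Cfsg.hermForm, add_mul, Finset.sum_add_distrib]
  have hadd' : ∀ x y v, Cfsg.hermForm n F q v (x + y) = Cfsg.hermForm n F q v x + Cfsg.hermForm n F q v y := fun x y v => by
    simp [Cfsg.hermForm, ← hσ, mul_add, Finset.sum_add_distrib]
  have hsm : ∀ (a : F) x v, Cfsg.hermForm n F q (a • x) v = a * Cfsg.hermForm n F q x v := fun a x v => by
    simp [Cfsg.hermForm, Finset.mul_sum, mul_assoc]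
  have hsm' : ∀ (a : F) x v, Cfsg.hermForm n F q v (a • x) = σ a * Cfsg.hermForm n F q v x := fun a x v => by
    simp [Cfsg.hermForm, ← hσ, Finset.mul_sum, mul_left_comm]
  have hsym : ∀ x v, Cfsg.hermForm n F q v x = σ (Cfsg.hermForm n F q x v) := fun x v => by
    rw [Cfsg.hermForm, Cfsg.hermForm, map_sum]
    exact Finset.sum_congr rfl fun i _ => by rw [map_mul, ← hσ, ← hσ, hσ2, mul_comm]
  have hee := hW e he e he
  obtain ⟨f, hff, hfe⟩ : ∃ f, Cfsg.hermForm n F q f f = 0 ∧ Cfsg.hermForm n F q f e = 1 := by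
    obtain ⟨y, hy⟩ : ∃ y, Cfsg.hermForm n F q y e = 1 := ⟨(e i ^ q)⁻¹ • Pi.single i 1, by
      rw [hsm, Cfsg.hermForm]; simp [Pi.single_apply]
      exact inv_mul_cancel₀ (pow_ne_zero _ (by simpa using hi))⟩
    obtain ⟨t, ht⟩ := WittHerm.exists_trace hσ1 hσ2 (c := -Cfsg.hermForm n F q y y) (by rw [map_neg, ← hsym])
    refine ⟨y + t • e, ?_, by rw [hadd, hsm, hy, hee]; ring⟩
    simp only [hadd, hadd', hsm, hsm', hy, hee, hsym y e, map_one]
    linear_combination ht
  have hef : Cfsg.hermForm n F q e f = 1 := by rw [hsym f e, hfe, map_one]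
  obtain ⟨d, hd0, hd⟩ : ∃ d : F, d ≠ 0 ∧ d = z * σ d := by
    by_cases h : 1 + z = 0
    · obtain ⟨a, ha⟩ : ∃ a, σ a ≠ a := by
        by_contra hc; push Not at hc; exact hσ1 (RingHom.ext hc)
      refine ⟨a - σ a, sub_ne_zero.2 (Ne.symm ha), ?_⟩
      rw [map_sub, hσ2, show z = -1 by linear_combination h]; ring
    · refine ⟨1 + z, h, ?_⟩
      rw [map_add, map_one, hσ]
      linear_combination -hz
  set a := d - 1
  set b := (σ d)⁻¹ - 1
  have hσd : σ d ≠ 0 := (map_ne_zero σ).2 hd0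
  have hab1 : σ a + b + σ a * b = 0 := by
    simp only [a, b, map_sub, map_one]; field_simp; ring
  have hab2 : a + σ b + a * σ b = 0 := by
    have := congrArg σ hab1
    simpa [hσ2] using this
  let U : Matrix (Fin n) (Fin 2) F := Matrix.of fun m j => if j = 0 then a * e m else b * f m
  let V : Matrix (Fin 2) (Fin n) F := Matrix.of fun j m => if j = 0 then f m ^ q else e m ^ q
  have hM : ∀ x, (1 + U * V) *ᵥ x = x + (a * Cfsg.hermForm n F q x f) • e + (b * Cfsg.hermForm n F q x e) • f := fun x => by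
    rw [add_mulVec, one_mulVec, ← mulVec_mulVec, add_assoc]
    congr 1
    funext m
    have h0 : (V *ᵥ x) 0 = Cfsg.hermForm n F q x f := by simp [V, mulVec, dotProduct, Cfsg.hermForm, mul_comm]
    have h1 : (V *ᵥ x) 1 = Cfsg.hermForm n F q x e := by simp [V, mulVec, dotProduct, Cfsg.hermForm, mul_comm]
    rw [mulVec, dotProduct, Fin.sum_univ_two, h0, h1]
    simp [U]; ring
  have hdet : (1 + U * V).det = z := by
    rw [det_one_add_mul_comm, det_fin_two]
    have hVU : ∀ j l, (V * U) j l = if l = 0 then a * Cfsg.hermForm n F q e (if j = 0 then f else e)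
        else b * Cfsg.hermForm n F q f (if j = 0 then f else e) := fun j l => by
      simp only [Matrix.mul_apply, U, V, Matrix.of_apply, Cfsg.hermForm, Finset.mul_sum]
      split_ifs <;> exact Finset.sum_congr rfl fun m _ => by ring
    simp only [Matrix.add_apply, Matrix.one_apply, hVU]
    simp [hee, hff, hef, hfe, a, b]
    nth_rw 1 [hd]
    field_simp
  let G : GL (Fin n) F := GeneralLinearGroup.mkOfDetNeZero (1 + U * V)
    (by rw [hdet]; exact left_ne_zero_of_mul_eq_one hz)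
  refine ⟨⟨G, fun x y => ?_⟩, hdet, fun v hv => ?_⟩
  · show Cfsg.hermForm n F q ((1 + U * V) *ᵥ x) ((1 + U * V) *ᵥ y) = _
    rw [hM, hM]
    simp only [hadd, hadd', hsm, hsm', hee, hff, hef, hfe, map_mul, ← hsym]
    linear_combination (Cfsg.hermForm n F q x e * Cfsg.hermForm n F q f y) * hab1 +
      (Cfsg.hermForm n F q x f * Cfsg.hermForm n F q e y) * hab2
  · show (1 + U * V) *ᵥ v ∈ W
    rw [hM, hW v hv e he, mul_zero, zero_smul, add_zero]
    exact W.add_mem hv (W.smul_mem _ he)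

end Cfsg.Agent.Classical.UnitaryTIStab
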