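import Cfsg.Agent.Lib.Classical.FieldFour
import Cfsg.Agent.Lib.Classical.Unitary
import Cfsg.Agent.Lib.Struct.UniqueOrderP

/-!
The group `PSU₃(2)` over the explicit field of four elements: a normal subgroup of order nine with
quaternion quotient.
-/

set_option autoImplicit false
set_option linter.style.haveILetI false

namespace Cfsg.Agent.Classical.UnitaryThreeTwo

open Matrix

abbrev M3 := Matrix (Fin 3) (Fin 3) F4

def mk3 (a b c : Fin 3 → F4) : M3 := Matrix.of fun i j => (![a, b, c] : Fin 3 → Fin 3 → F4) j i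

def elems : List F4 := [F4.zero, F4.one, F4.w, F4.v]

def vecs : List (Fin 3 → F4) := elems.flatMap fun a => elems.flatMap fun b => elems.map fun c => ![a, b, c]

def h3 (u v : Fin 3 → F4) : F4 := u 0 * (v 0 * v 0) + u 1 * (v 1 * v 1) + u 2 * (v 2 * v 2)

def det3 (a b c : Fin 3 → F4) : F4 :=
  a 0 * b 1 * c 2 + a 0 * c 1 * b 2 + b 0 * a 1 * c 2 + b 0 * c 1 * a 2 + c 0 * a 1 * b 2 + c 0 * b 1 * a 2

def ones : List (Fin 3 → F4) := vecs.filter fun v => h3 v v == 1

/-- All elements of `SU₃(2)`. -/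
def suList : List M3 :=
  ones.flatMap fun a => (ones.filter fun b => h3 a b == 0).flatMap fun b =>
    (ones.filter fun c => h3 a c == 0 && h3 b c == 0 && det3 a b c == 1).map fun c => mk3 a b c

def dm : M3 := mk3 ![1, 0, 0] ![0, F4.w, 0] ![0, 0, F4.v]
def pm : M3 := mk3 ![0, 1, 0] ![0, 0, 1] ![1, 0, 0]
def zm : M3 := mk3 ![0, 0, 1] ![0, 1, 0] ![1, 0, 0]
def am : M3 := mk3 ![1, 1, 1] ![1, F4.w, F4.v] ![1, F4.v, F4.w]
def bm : M3 := mk3 ![1, 1, F4.w] ![1, F4.w, 1] ![F4.v, F4.w, F4.w]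

/-- The normal subgroup of order 27. -/
def nList : List M3 := [F4.one, F4.w, F4.v].flatMap fun s => [(1 : M3), dm, dm * dm].flatMap fun d =>
  [(1 : M3), pm, pm * pm].map fun p => Matrix.of fun i j => s * (d * p) i j

def isScalar (m : M3) : Bool := [F4.one, F4.w, F4.v].any fun s => m == Matrix.of fun i j => if i = j then s else 0

theorem n_mul : (nList.all fun a => nList.all fun b => nList.contains (a * b)) = true := by decide +kernel

theorem n_normal : (suList.all fun g => [F4.one, F4.w].all fun _ => nList.all fun n =>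
    nList.any fun n' => g * n == n' * g) = true := by decide +kernel

theorem n_cube : (nList.all fun n => isScalar (n * n * n)) = true := by decide +kernel

theorem n_invol : (suList.all fun g => !(nList.contains (g * g)) || nList.contains g ||
    nList.any fun n => g == n * zm) = true := by decide +kernel

theorem n_nodup : nList.Nodup := by decide +kernel

theorem n_sub : (nList.all fun n => suList.contains n) = true := by decide +kernel

theorem extra : suList.contains am = true ∧ suList.contains bm = true ∧ suList.contains zm = true ∧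
    (nList.any fun n => am * bm == n * (bm * am)) = false := by decide +kernel

theorem scalar_in_n : nList.contains (Matrix.of fun i j => if i = j then (1 : F4) else 0) = true ∧
    nList.contains (Matrix.of fun i j => if i = j then F4.w else 0) = true ∧
    nList.contains (Matrix.of fun i j => if i = j then F4.v else 0) = true := by decide +kernel

theorem su_good : (suList.all fun g => det3 (fun i => g i 0) (fun i => g i 1) (fun i => g i 2) == 1 &&
    (List.finRange 3).all fun i => (List.finRange 3).all fun j =>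
      h3 (fun k => g k i) (fun k => g k j) == if i = j then 1 else 0) = true := by decide +kernel

abbrev S3 := Cfsg.SU 3 F4 2

def mat (g : S3) : M3 := ((g : SpecialLinearGroup (Fin 3) F4) : M3)

theorem mat_mul (a b : S3) : mat (a * b) = mat a * mat b := rfl

theorem mat_inj {a b : S3} (h : mat a = mat b) : a = b := Subtype.ext (Subtype.ext h)

theorem hcard : Fintype.card F4 = 2 ^ 2 := F4.card_eq

theorem h3_eq (u v : Fin 3 → F4) : Cfsg.hermForm 3 F4 2 u v = h3 u v := by
  simp [Cfsg.hermForm, h3, Fin.sum_univ_three, sq]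

theorem det3_eq (g : M3) : det3 (fun i => g i 0) (fun i => g i 1) (fun i => g i 2) = g.det := by
  have hneg : ∀ x : F4, -x = x := fun _ => rfl
  rw [Matrix.det_fin_three]
  simp only [det3, sub_eq_add_neg, hneg]

theorem vecs_all : ∀ v : Fin 3 → F4, v ∈ vecs := by
  intro v
  have he : ∀ x : F4, x ∈ elems := by intro x; cases x <;> simp [elems]
  simp only [vecs, List.mem_flatMap, List.mem_map]
  exact ⟨v 0, he _, v 1, he _, v 2, he _, by funext i; fin_cases i <;> rfl⟩

theorem mat_mem (g : S3) : mat g ∈ suList := by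
  have hcol := (Unitary.mem_GU_iff hcard (SpecialLinearGroup.toGL (g : SpecialLinearGroup (Fin 3) F4))).1 g.2
  simp only [h3_eq] at hcol
  have hd : (mat g).det = 1 := (g : SpecialLinearGroup (Fin 3) F4).2
  simp only [suList, ones, List.mem_flatMap, List.mem_map, List.mem_filter, Bool.and_eq_true, beq_iff_eq]
  refine ⟨fun i => mat g i 0, ⟨vecs_all _, hcol 0 0⟩, fun i => mat g i 1, ⟨⟨vecs_all _, hcol 1 1⟩, hcol 0 1⟩,
    fun i => mat g i 2, ⟨⟨vecs_all _, hcol 2 2⟩, ⟨hcol 0 2, hcol 1 2⟩, (det3_eq _).trans hd⟩, ?_⟩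
  ext i j
  fin_cases j <;> rfl

theorem exists_of_mem {m : M3} (hm : m ∈ suList) : ∃ g : S3, mat g = m := by
  have h := List.all_eq_true.1 su_good m hm
  simp only [Bool.and_eq_true, beq_iff_eq, List.all_eq_true, List.mem_finRange, true_implies] at h
  have hd : m.det = 1 := (det3_eq m).symm.trans h.1
  refine ⟨⟨⟨m, hd⟩, ?_⟩, rfl⟩
  refine (Unitary.mem_GU_iff hcard (SpecialLinearGroup.toGL ⟨m, hd⟩)).2 fun i j => ?_
  rw [h3_eq]
  exact h.2 i j

/-- The normal subgroup as a subgroup. -/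
def Nhat : Subgroup S3 where
  carrier := {g | mat g ∈ nList}
  mul_mem' {a b} ha hb := by
    have h := List.all_eq_true.1 (List.all_eq_true.1 n_mul _ ha) _ hb
    show mat (a * b) ∈ nList
    rw [mat_mul]
    exact List.contains_iff_mem.1 h
  one_mem' := by
    show mat 1 ∈ nList
    exact List.contains_iff_mem.1 scalar_in_n.1
  inv_mem' {a} ha := by
    have hpow : ∀ k, mat (a ^ k) ∈ nList := by
      intro k
      induction k with
      | zero => exact List.contains_iff_mem.1 scalar_in_n.1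
      | succ k ih =>
        rw [pow_succ, mat_mul]
        exact List.contains_iff_mem.1 (List.all_eq_true.1 (List.all_eq_true.1 n_mul _ ih) _ ha)
    show mat a⁻¹ ∈ nList
    rw [inv_eq_of_mul_eq_one_right (show a * a ^ (orderOf a - 1) = 1 by
      rw [← pow_succ', Nat.sub_add_cancel (orderOf_pos a), pow_orderOf_eq_one])]
    exact hpow _

theorem mem_Nhat {g : S3} : g ∈ Nhat ↔ mat g ∈ nList := Iff.rfl

instance Nhat_normal : Nhat.Normal := ⟨fun n hn g => by
  have h := List.all_eq_true.1 (List.all_eq_true.1 (List.all_eq_true.1 n_normal _ (mat_mem g)) F4.one (by simp)) _ hn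
  obtain ⟨n', hn', e⟩ := List.any_eq_true.1 h
  rw [beq_iff_eq] at e
  obtain ⟨u, hu⟩ := exists_of_mem (List.contains_iff_mem.1 (List.all_eq_true.1 n_sub _ hn'))
  have he : g * n = u * g := mat_inj (by rw [mat_mul, mat_mul, hu, e])
  show g * n * g⁻¹ ∈ Nhat
  rw [he, mul_inv_cancel_right, mem_Nhat, hu]
  exact hn'⟩

theorem center_le : Subgroup.center S3 ≤ Nhat := by
  intro z hz
  obtain ⟨a, ha⟩ := Unitary.scalar_of_comm hcard (n := 3) (by norm_num) (mat z) fun g =>
    congrArg mat (Subgroup.mem_center_iff.1 hz g)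
  have hd : (mat z).det = 1 := (z : SpecialLinearGroup (Fin 3) F4).2
  rw [ha, Matrix.det_smul, Fintype.card_fin, Matrix.det_one, mul_one] at hd
  have he : mat z = Matrix.of fun i j => if i = j then a else 0 := by
    rw [ha]; ext i j; simp [Matrix.one_apply]
  rw [mem_Nhat, he]
  obtain ⟨h1, h2, h3⟩ := scalar_in_n
  cases a
  · change (0 : F4) ^ 3 = 1 at hd
    rw [zero_pow (by norm_num : (3 : ℕ) ≠ 0)] at hd; exact absurd hd zero_ne_one
  · exact List.contains_iff_mem.1 h1
  · exact List.contains_iff_mem.1 h2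
  · exact List.contains_iff_mem.1 h3

theorem card_Nhat : Nat.card Nhat = 27 := by
  classical
  have e : Nhat ≃ {m : M3 // m ∈ nList} := Equiv.ofBijective (fun g => ⟨mat g.1, g.2⟩)
    ⟨fun a b h => Subtype.ext (mat_inj (Subtype.mk.inj h)), fun ⟨m, hm⟩ => by
      obtain ⟨g, hg⟩ := exists_of_mem (List.contains_iff_mem.1 (List.all_eq_true.1 n_sub _ hm))
      exact ⟨⟨g, by rw [mem_Nhat, hg]; exact hm⟩, Subtype.ext hg⟩⟩
  rw [Nat.card_congr e, Nat.card_congr (n_nodup.getEquiv nList).symm, Nat.card_fin]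
  rfl

/-- The image in the projective group. -/
abbrev Nbar : Subgroup (Cfsg.PSU 3 F4 2) := Nhat.map (QuotientGroup.mk' (Subgroup.center S3))

instance Nbar_normal : Nbar.Normal := Nhat_normal.map _ (QuotientGroup.mk'_surjective _)

theorem mk_mem {g : S3} : (g : Cfsg.PSU 3 F4 2) ∈ Nbar ↔ g ∈ Nhat := by
  refine ⟨?_, fun h => ⟨g, h, rfl⟩⟩
  rintro ⟨n, hn, e⟩
  have hc : n⁻¹ * g ∈ Subgroup.center S3 := QuotientGroup.eq.1 e
  simpa using Nhat.mul_mem hn (center_le hc)

theorem card_PSU : Nat.card (Cfsg.PSU 3 F4 2) = 72 := by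
  have h1 := Unitary.card_SU_mul hcard (show 1 ≤ 3 by norm_num)
  rw [Unitary.card_GU hcard 3, Subgroup.card_eq_card_quotient_mul_card_subgroup (Subgroup.center S3),
    Unitary.card_center_SU hcard (show 2 ≤ 3 by norm_num)] at h1
  simp only [Finset.prod_range_succ, Finset.prod_range_zero] at h1
  norm_num [Nat.even_iff] at h1
  show Nat.card (↥S3 ⧸ Subgroup.center S3) = 72
  omega

theorem card_Nbar : Nat.card Nbar = 9 := by
  have h1 : Nbar.index = Nhat.index :=
    Nhat.index_map_eq (QuotientGroup.mk'_surjective _) (by rw [QuotientGroup.ker_mk']; exact center_le)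
  have h2 := Nbar.index_mul_card
  have h3 := Nhat.index_mul_card
  have h4 := Subgroup.card_eq_card_quotient_mul_card_subgroup (Subgroup.center S3)
  rw [Unitary.card_center_SU hcard (show 2 ≤ 3 by norm_num)] at h4
  have h5 : Nat.card (↥S3 ⧸ Subgroup.center S3) = 72 := card_PSU
  rw [h5] at h4
  norm_num at h4
  rw [card_Nhat, h4] at h3
  rw [card_PSU, h1] at h2
  have h8 : Nhat.index = 8 := by omega
  rw [h8] at h2
  omega

theorem cube_eq_one {x : Cfsg.PSU 3 F4 2} (hx : x ∈ Nbar) : x ^ 3 = 1 := by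
  obtain ⟨n, hn, rfl⟩ := hx
  rw [← map_pow]
  refine (QuotientGroup.eq_one_iff _).2 (Subgroup.mem_center_iff.2 fun g => mat_inj ?_)
  obtain ⟨s, -, hs⟩ := List.any_eq_true.1 (List.all_eq_true.1 n_cube _ hn)
  rw [beq_iff_eq] at hs
  have e : mat (n ^ 3) = mat n * mat n * mat n := by rw [pow_succ, pow_two]; rfl
  have e2 : (Matrix.of fun i j : Fin 3 => if i = j then s else 0) = s • (1 : M3) := by
    ext i j; simp [Matrix.one_apply]
  rw [mat_mul, mat_mul, e, hs, e2, Matrix.mul_smul, Matrix.smul_mul, mul_one, one_mul]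

/-- The quotient has a unique involution. -/
theorem involution_unique : ∃ z : Cfsg.PSU 3 F4 2, ∀ x : Cfsg.PSU 3 F4 2, x * x ∈ Nbar → x ∈ Nbar ∨ z⁻¹ * x ∈ Nbar := by
  obtain ⟨z, hz⟩ := exists_of_mem (List.contains_iff_mem.1 extra.2.2.1)
  refine ⟨(z : Cfsg.PSU 3 F4 2), fun x hx => ?_⟩
  obtain ⟨g, rfl⟩ := QuotientGroup.mk_surjective x
  rw [← QuotientGroup.mk_mul, mk_mem, mem_Nhat, mat_mul] at hx
  have h := List.all_eq_true.1 n_invol _ (mat_mem g)
  simp only [Bool.or_eq_true, Bool.not_eq_true', List.any_eq_true, beq_iff_eq] at h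
  rcases h with (h | h) | ⟨n, hn, e⟩
  · rw [List.contains_iff_mem.2 hx] at h; exact absurd h (by decide)
  · exact Or.inl (mk_mem.2 (List.contains_iff_mem.1 h))
  · right
    obtain ⟨u, hu⟩ := exists_of_mem (List.contains_iff_mem.1 (List.all_eq_true.1 n_sub _ hn))
    have hg : g = u * z := mat_inj (by rw [mat_mul, hu, hz, e])
    rw [← QuotientGroup.mk_inv, ← QuotientGroup.mk_mul, mk_mem, hg, ← mul_assoc]
    have := Nhat_normal.conj_mem u (by rw [mem_Nhat, hu]; exact hn) z⁻¹
    rwa [inv_inv] at this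

theorem quotient_quaternion : Nonempty (Cfsg.PSU 3 F4 2 ⧸ Nbar ≃* QuaternionGroup 2) := by
  haveI : Fact (Nat.Prime 2) := ⟨Nat.prime_two⟩
  have hcard8 : Nat.card (Cfsg.PSU 3 F4 2 ⧸ Nbar) = 8 := by
    have h := Nbar.index_mul_card
    rw [card_Nbar, card_PSU] at h
    show Nbar.index = 8
    omega
  have hP : IsPGroup 2 (Cfsg.PSU 3 F4 2 ⧸ Nbar) := IsPGroup.of_card (n := 3) (by rw [hcard8]; norm_num)
  obtain ⟨z, hz⟩ := involution_unique
  have key : ∀ y : Cfsg.PSU 3 F4 2 ⧸ Nbar, y ^ 2 = 1 → y = 1 ∨ y = (z : Cfsg.PSU 3 F4 2 ⧸ Nbar) := by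
    intro y hy
    obtain ⟨x, rfl⟩ := QuotientGroup.mk_surjective y
    rw [sq, ← QuotientGroup.mk_mul, QuotientGroup.eq_one_iff] at hy
    rcases hz x hy with h | h
    · exact Or.inl ((QuotientGroup.eq_one_iff _).2 h)
    · exact Or.inr (QuotientGroup.eq.2 h).symm
  have huniq : ∀ x y : Cfsg.PSU 3 F4 2 ⧸ Nbar, orderOf x = 2 → y ^ 2 = 1 → y ∈ Subgroup.zpowers x := by
    intro x y hx hy
    rcases key y hy with rfl | rfl
    · exact one_mem _
    · rcases key x (by have := pow_orderOf_eq_one x; rwa [hx] at this) with rfl | rfl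
      · rw [orderOf_one] at hx; omega
      · exact Subgroup.mem_zpowers _
  rcases Struct.cyclic_or_quaternion hP huniq with hc | ⟨-, k, hk, ⟨e⟩⟩
  · exfalso
    obtain ⟨h1, h2, -, h3⟩ := extra
    obtain ⟨a, ha⟩ := exists_of_mem (List.contains_iff_mem.1 h1)
    obtain ⟨b, hb⟩ := exists_of_mem (List.contains_iff_mem.1 h2)
    haveI := hc
    letI := IsCyclic.commGroup (α := Cfsg.PSU 3 F4 2 ⧸ Nbar)
    have hab := mul_comm ((a : Cfsg.PSU 3 F4 2) : Cfsg.PSU 3 F4 2 ⧸ Nbar) ((b : Cfsg.PSU 3 F4 2) : Cfsg.PSU 3 F4 2 ⧸ Nbar)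
    rw [← QuotientGroup.mk_mul, ← QuotientGroup.mk_mul, ← QuotientGroup.mk_mul, ← QuotientGroup.mk_mul,
      QuotientGroup.eq, ← QuotientGroup.mk_inv, ← QuotientGroup.mk_mul, mk_mem] at hab
    have hm := Nhat_normal.conj_mem _ (Nhat.inv_mem hab) (b * a)
    rw [show b * a * ((a * b)⁻¹ * (b * a))⁻¹ * (b * a)⁻¹ = a * b * (b * a)⁻¹ by group, mem_Nhat] at hm
    have hall := List.any_eq_false.1 h3 _ hm
    apply hall
    rw [beq_iff_eq, ← ha, ← hb, ← mat_mul, ← mat_mul, ← mat_mul, inv_mul_cancel_right]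
  · have h := Nat.card_congr e.toEquiv
    rw [hcard8, Nat.card_eq_fintype_card, QuaternionGroup.card] at h
    have hk1 : k = 1 := Nat.pow_right_injective (le_refl 2) (show 2 ^ k = 2 ^ 1 by omega)
    subst hk1
    exact ⟨e⟩

/-- Transfer to an arbitrary field of four elements. -/
theorem structure_of_card_four {F : Type*} [Field F] [Fintype F] (hF : Fintype.card F = 4) :
    ∃ (N : Subgroup (Cfsg.PSU 3 F 2)) (_ : N.Normal), Nat.card N = 9 ∧ (∀ x ∈ N, x ^ 3 = 1) ∧
      Nonempty (Cfsg.PSU 3 F 2 ⧸ N ≃* QuaternionGroup 2) := by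
  obtain ⟨e⟩ := F4.nonempty_ringEquiv hF
  obtain ⟨E⟩ := psu_congr e 3 2
  haveI hn : (Nbar.map E.symm.toMonoidHom).Normal := Nbar_normal.map _ E.symm.surjective
  refine ⟨Nbar.map E.symm.toMonoidHom, hn, ?_, ?_, ?_⟩
  · rw [← Nat.card_congr (Nbar.equivMapOfInjective E.symm.toMonoidHom E.symm.injective).toEquiv, card_Nbar]
  · rintro x ⟨y, hy, rfl⟩
    rw [← map_pow, cube_eq_one hy, map_one]
  · obtain ⟨q⟩ := quotient_quaternion
    exact ⟨(QuotientGroup.congr Nbar (Nbar.map E.symm.toMonoidHom) E.symm rfl).symm.trans q⟩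

end Cfsg.Agent.Classical.UnitaryThreeTwo
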