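import Cfsg.Agent.Lib.Classical.Unitary
import Cfsg.Agent.Lib.Classical.WittHerm
import Cfsg.Prelude.Def_ClassicalGeometry

/-!
Conjugacy of unitary transvections in the special unitary group.
-/

set_option autoImplicit false
set_option linter.style.haveILetI false
set_option linter.unusedSectionVars false

open Matrix Module

namespace Cfsg.Agent.UnitaryTransvConj

open Cfsg.Agent.Classical

variable {F : Type*} [Field F] [Fintype F] {q n : ℕ}
variable {σ : F →+* F} (hσ : σ ≠ RingHom.id F) (hσ2 : ∀ a : F, σ (σ a) = a)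
variable (B : (Fin n → F) →ₛₗ[σ] (Fin n → F) →ₗ[F] F) (hS : B.IsSymm) (hB : B.Nondegenerate)

include hσ hσ2 hS hB

theorem exists_perp_anisotropic (hn : 3 ≤ n) {v : Fin n → F} (hv : v ≠ 0) :
    ∃ z, B v z = 0 ∧ B z z ≠ 0 := by
  by_contra hcon
  push Not at hcon
  obtain ⟨y, hy⟩ : ∃ y, B v y ≠ 0 := by
    by_contra h; push Not at h; exact hv (hB.1 v h)
  set S := LinearMap.ker (B v)
  have h0 : ∀ a ∈ S, ∀ b ∈ S, B a b = 0 := by
    intro a ha b hb
    obtain ⟨t, ht⟩ : ∃ t : F, σ t ≠ t := by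
      by_contra h; push Not at h; exact hσ (RingHom.ext h)
    have hsum : ∀ c : F, c * B a b + σ (c * B a b) = 0 := fun c => by
      have h1 := hcon (a + c • b) (S.add_mem ha (S.smul_mem c hb))
      simp only [map_add, LinearMap.map_smulₛₗ, LinearMap.add_apply, LinearMap.smul_apply, smul_eq_mul, map_smul,
        hcon a ha, hcon b hb, mul_zero, add_zero, zero_add, ← hS.eq a b] at h1
      rw [map_mul]; linear_combination h1
    by_contra hne
    refine ht ?_
    have h1 := hsum (1 / B a b)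
    have h2 := hsum (t / B a b)
    rw [div_mul_cancel₀ _ hne, map_one] at h1
    rw [div_mul_cancel₀ _ hne] at h2
    linear_combination h2 - t * h1
  have hle : S ≤ Submodule.span F {v} := fun a ha => by
    refine Submodule.mem_span_singleton.2 ⟨σ (B a y / B v y), (sub_eq_zero.1 (hB.1 _ fun x => ?_))⟩
    have hx : x - (B v x / B v y) • y ∈ S := by
      show B v _ = 0
      rw [map_sub, map_smul, smul_eq_mul, div_mul_cancel₀ _ hy, sub_self]
    have h := h0 a ha _ hx
    rw [map_sub, map_smul, smul_eq_mul] at h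
    rw [map_sub, LinearMap.map_smulₛₗ, LinearMap.sub_apply, LinearMap.smul_apply, smul_eq_mul, hσ2]
    field_simp at h ⊢
    linear_combination -h
  have h1 := Submodule.finrank_mono hle
  rw [finrank_span_singleton hv] at h1
  have h2 := LinearMap.finrank_range_add_finrank_ker (B v)
  have h3 := Submodule.finrank_le (LinearMap.range (B v))
  rw [finrank_self] at h3
  rw [finrank_pi, Fintype.card_fin] at h2
  change _ + finrank F S = n at h2
  omega

/-- An isometry moving `v` to `w` of determinant one. -/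
theorem exists_special (hn : 3 ≤ n) {v w : Fin n → F} (hv : v ≠ 0) (hw : w ≠ 0) (hvv : B v v = 0) (hww : B w w = 0) :
    ∃ M : Matrix (Fin n) (Fin n) F, M.det = 1 ∧ (∀ x y, B (M *ᵥ x) (M *ᵥ y) = B x y) ∧ M *ᵥ v = w := by
  let f : (F ∙ v) →ₗ[F] (Fin n → F) :=
    (LinearMap.toSpanSingleton F _ w).comp (LinearEquiv.toSpanNonzeroSingleton F _ v hv).symm.toLinearMap
  have hfv : ∀ c : F, f ⟨c • v, Submodule.smul_mem _ c (Submodule.mem_span_singleton_self v)⟩ = c • w := fun c => by
    show LinearMap.toSpanSingleton F _ w _ = _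
    rw [LinearMap.toSpanSingleton_apply]
    exact congrArg (· • w) ((LinearEquiv.symm_apply_eq _).2 rfl)
  have hex : ∀ x : (F ∙ v), ∃ c : F, x = ⟨c • v, Submodule.smul_mem _ c (Submodule.mem_span_singleton_self v)⟩ := fun x =>
    let ⟨c, hc⟩ := Submodule.mem_span_singleton.1 x.2; ⟨c, Subtype.ext hc.symm⟩
  obtain ⟨g, hg, hgv⟩ := WittHerm.extend hσ hσ2 B hS hB 1 (F ∙ v) f (finrank_span_singleton hv)
    (fun x y e => by
      obtain ⟨c, rfl⟩ := hex x
      obtain ⟨d, rfl⟩ := hex y
      rw [hfv, hfv] at e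
      rw [Subtype.mk.injEq, smul_left_injective F hw e])
    (fun x y => by
      obtain ⟨c, rfl⟩ := hex x
      obtain ⟨d, rfl⟩ := hex y
      rw [hfv, hfv]
      simp [hvv, hww])
  have hgvw : g v = w := by
    have := (hgv ⟨(1 : F) • v, Submodule.smul_mem _ 1 (Submodule.mem_span_singleton_self v)⟩).trans (hfv 1)
    simpa using this
  set G := LinearMap.toMatrix' g.toLinearMap
  have hGv : ∀ x, G *ᵥ x = g x := fun x => LinearMap.toMatrix'_mulVec g.toLinearMap x
  have hd0 : G.det ≠ 0 := by rw [LinearMap.det_toMatrix']; exact g.isUnit_det'.ne_zero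
  have hdN : G.det * σ G.det = 1 := by
    let J : Matrix (Fin n) (Fin n) F := Matrix.of fun i j => B (Pi.single i 1) (Pi.single j 1)
    have hJ : ∀ x y, B x y = (σ ∘ x) ⬝ᵥ (J *ᵥ y) := fun x y => by
      conv_lhs => rw [show x = ∑ i, x i • (Pi.single i 1 : Fin n → F) by simp [← pi_eq_sum_univ'],
        show y = ∑ i, y i • (Pi.single i 1 : Fin n → F) by simp [← pi_eq_sum_univ']]
      simp only [map_sum, LinearMap.sum_apply, LinearMap.map_smulₛₗ, LinearMap.smul_apply, smul_eq_mul,
        RingHom.id_apply, dotProduct, Function.comp_apply, Matrix.mulVec, J, Matrix.of_apply, Finset.mul_sum]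
      rw [Finset.sum_comm]
      exact Finset.sum_congr rfl fun i _ => Finset.sum_congr rfl fun j _ => by ring
    have hm : (G.map σ)ᵀ * J * G = J := by
      ext i j
      have h := hg (Pi.single i 1) (Pi.single j 1)
      rw [← hGv, ← hGv, hJ] at h
      rw [show J i j = B (Pi.single i 1) (Pi.single j 1) from rfl, ← h, Matrix.mulVec_single_one,
        Matrix.mulVec_single_one, Matrix.mul_assoc]
      rfl
    have hJ0 : J.det ≠ 0 := by
      intro h
      obtain ⟨y, hy, hy0⟩ := Matrix.exists_mulVec_eq_zero_iff.2 h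
      exact hy (hB.2 y fun x => by rw [hJ, hy0, dotProduct_zero])
    have hd := congrArg Matrix.det hm
    rw [det_mul, det_mul, det_transpose, show G.map σ = σ.mapMatrix G from rfl, ← RingHom.map_det] at hd
    exact mul_right_cancel₀ hJ0 (by linear_combination hd)
  obtain ⟨z, hzv, hzz⟩ := exists_perp_anisotropic hσ hσ2 B hS hB hn hv
  set δ := G.det⁻¹
  set k := (δ - 1) / B z z
  have hσz : σ (B z z) = B z z := hS.eq z z
  let H : Matrix (Fin n) (Fin n) F := 1 + replicateCol Unit (k • z) * replicateRow Unit fun i => B z (Pi.single i 1)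
  have hHx : ∀ x, H *ᵥ x = x + (k * B z x) • z := fun x => by
    have e : B z x = ∑ i, x i * B z (Pi.single i 1) := by
      conv_lhs => rw [show x = ∑ i, x i • (Pi.single i 1 : Fin n → F) by simp [← pi_eq_sum_univ']]
      simp
    funext i
    simp only [H, add_mulVec, one_mulVec, ← mulVec_mulVec, Pi.add_apply, Pi.smul_apply, smul_eq_mul]
    rw [e, Finset.mul_sum, Finset.sum_mul]
    simp [mulVec, dotProduct, replicateCol, replicateRow, Finset.mul_sum, Finset.sum_mul]
    exact Finset.sum_congr rfl fun j _ => by ring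
  refine ⟨G * H, ?_, fun x y => ?_, ?_⟩
  · rw [det_mul, det_one_add_replicateCol_mul_replicateRow]
    have e : (fun i => B z (Pi.single i 1)) ⬝ᵥ (k • z) = k * B z z := by
      conv_rhs => rw [show B z z = B z (∑ i, z i • (Pi.single i 1 : Fin n → F)) by simp [← pi_eq_sum_univ']]
      rw [map_sum, Finset.mul_sum]
      simp only [dotProduct, map_smul, smul_eq_mul, Pi.smul_apply]
      exact Finset.sum_congr rfl fun i _ => by ring
    rw [e, div_mul_cancel₀ _ hzz, add_sub_cancel, mul_inv_cancel₀ hd0]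
  · rw [← mulVec_mulVec, ← mulVec_mulVec, hGv, hGv, hg, hHx, hHx]
    simp only [map_add, LinearMap.map_smulₛₗ, LinearMap.add_apply, LinearMap.smul_apply, smul_eq_mul, map_mul,
      map_smul, RingHom.id_apply]
    have hxz : σ (B z x) = B x z := hS.eq z x
    have hk : (k + σ k + σ k * k * B z z) = 0 := by
      have hδ : δ * σ δ = 1 := by rw [map_inv₀, ← mul_inv, hdN, inv_one]
      have hzz' := hzz
      simp only [k, map_div₀, map_sub, map_one, hσz]
      field_simp
      linear_combination hδ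
    rw [hxz]
    linear_combination (B x z * B z y) * hk
  · have hzv' : B z v = 0 := by rw [← hS.eq v z, hzv, map_zero]
    rw [← mulVec_mulVec, hHx, hzv', mul_zero, zero_smul, add_zero, hGv, hgvw]

theorem exists_form {M : Matrix (Fin n) (Fin n) F} (hM : (M - 1).rank = 1 ∧ (M - 1) * (M - 1) = 0)
    (hp : ∀ x y, B (M *ᵥ x) (M *ᵥ y) = B x y) :
    ∃ (v : Fin n → F) (c : F), v ≠ 0 ∧ B v v = 0 ∧ c ≠ 0 ∧ c + σ c = 0 ∧ ∀ x, M *ᵥ x = x + (c * B v x) • v := by
  obtain ⟨hr, hsq⟩ := hM
  set N := M - 1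
  have hMx : ∀ x, M *ᵥ x = x + N *ᵥ x := fun x => by rw [sub_mulVec, one_mulVec]; abel
  obtain ⟨⟨v, hvmem⟩, hv0, hall⟩ := finrank_eq_one_iff'.1 (show finrank F (LinearMap.range N.mulVecLin) = 1 from hr)
  have hv : v ≠ 0 := fun e => hv0 (Subtype.ext e)
  have hphi : ∀ x, ∃ a : F, a • v = N *ᵥ x := fun x =>
    let ⟨a, ha⟩ := hall ⟨N *ᵥ x, x, rfl⟩; ⟨a, congrArg Subtype.val ha⟩
  choose φ hφ using hphi
  have hNv : N *ᵥ v = 0 := by
    obtain ⟨x, rfl⟩ := hvmem
    rw [Matrix.mulVecLin_apply, mulVec_mulVec, hsq, zero_mulVec]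
  have key : ∀ x y, σ (φ x) * B v y + φ y * B x v + σ (φ x) * φ y * B v v = 0 := fun x y => by
    have h := hp x y
    rw [hMx, hMx, ← hφ, ← hφ] at h
    simp only [map_add, LinearMap.map_smulₛₗ, LinearMap.add_apply, LinearMap.smul_apply, smul_eq_mul,
      map_smul, RingHom.id_apply] at h
    linear_combination h
  obtain ⟨x0, hx0⟩ : ∃ x, φ x ≠ 0 := by
    by_contra h
    push Not at h
    obtain ⟨x, hx⟩ := hvmem
    exact hv (by rw [← hx, Matrix.mulVecLin_apply, ← hφ, h, zero_smul])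
  have hφv : φ v = 0 := by
    have h := hφ v
    rw [hNv] at h
    exact (smul_eq_zero.1 h).resolve_right hv
  have hvv : B v v = 0 := by
    have h := key x0 v
    rw [hφv, zero_mul, mul_zero, zero_mul, add_zero, add_zero] at h
    exact (mul_eq_zero.1 h).resolve_left fun e => hx0 (σ.injective (by rw [e, map_zero]))
  obtain ⟨x1, hx1⟩ : ∃ x, B x v ≠ 0 := by
    by_contra h; push Not at h; exact hv (hB.2 v h)
  set c := -σ (φ x1) / B x1 v
  have hc : ∀ y, φ y = c * B v y := fun y => by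
    have h := key x1 y
    rw [hvv, mul_zero, add_zero] at h
    simp only [c]; field_simp; linear_combination h
  have hc0 : c ≠ 0 := fun e => hx0 (by rw [hc, e, zero_mul])
  refine ⟨v, c, hv, hvv, hc0, ?_, fun x => by rw [hMx, ← hφ, hc]⟩
  have h := key x1 x1
  rw [hvv, mul_zero, add_zero, hc, map_mul, hS.eq v x1] at h
  have hne : B v x1 ≠ 0 := fun e => hx1 (by rw [← hS.eq v x1, e, map_zero])
  exact mul_right_cancel₀ (mul_ne_zero hne hx1) (by linear_combination h)

/-- Two transvections are conjugate by a special isometry. -/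
theorem exists_conj (hn : 3 ≤ n) (hN : ∀ a : F, a ≠ 0 → σ a = a → ∃ c : F, c * σ c = a)
    {M M' : Matrix (Fin n) (Fin n) F} (hM : (M - 1).rank = 1 ∧ (M - 1) * (M - 1) = 0)
    (hM' : (M' - 1).rank = 1 ∧ (M' - 1) * (M' - 1) = 0)
    (hp : ∀ x y, B (M *ᵥ x) (M *ᵥ y) = B x y) (hp' : ∀ x y, B (M' *ᵥ x) (M' *ᵥ y) = B x y) :
    ∃ g : Matrix (Fin n) (Fin n) F, g.det = 1 ∧ (∀ x y, B (g *ᵥ x) (g *ᵥ y) = B x y) ∧ g * M = M' * g := by
  obtain ⟨v, c, hv, hvv, hc, hcσ, hMx⟩ := exists_form hσ hσ2 B hS hB hM hp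
  obtain ⟨w, d, hw, hww, hd, hdσ, hMx'⟩ := exists_form hσ hσ2 B hS hB hM' hp'
  have hfix : σ (d / c) = d / c := by
    rw [map_div₀, show σ d = -d by linear_combination hdσ, show σ c = -c by linear_combination hcσ, neg_div_neg_eq]
  obtain ⟨a, ha⟩ := hN (d / c) (div_ne_zero hd hc) hfix
  have ha0 : a ≠ 0 := fun e => div_ne_zero hd hc (by rw [← ha, e, zero_mul])
  obtain ⟨g, hg, hgB, hgv⟩ := exists_special hσ hσ2 B hS hB hn hv (smul_ne_zero ha0 hw) hvv
    (show B (a • w) (a • w) = 0 by simp [hww])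
  refine ⟨g, hg, hgB, Matrix.toLin'.injective (LinearMap.ext fun x => ?_)⟩
  rw [Matrix.toLin'_apply, Matrix.toLin'_apply, ← mulVec_mulVec, ← mulVec_mulVec, hMx, hMx', mulVec_add,
    mulVec_smul, hgv, ← hgB v x, hgv, smul_smul, LinearMap.map_smulₛₗ, LinearMap.smul_apply, smul_eq_mul]
  congr 2
  rw [show c * (σ a * B w (g *ᵥ x)) * a = c * (a * σ a) * B w (g *ᵥ x) by ring, ha]
  field_simp

end Cfsg.Agent.UnitaryTransvConj
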